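import Mathlib
import Groth.Prelude.Def_Koszul
import Groth.Prelude.Def_ega3
import Groth.Agent.Lib.Helper28.KoszulRegular
import Groth.Agent.Lib.Helper11.KzCompare

/-!
# Koszul complexes (cone model): the swap isomorphism of double cones (helper16)
-/

set_option autoImplicit false
set_option linter.unusedSectionVars false
set_option linter.unusedVariables false
set_option linter.unusedSimpArgs false
universe u
open CategoryTheory CategoryTheory.Limits CochainComplex HomComplex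

namespace Groth.Agent.Lib.Helper16.KzInv

open Groth.Agent.Lib.Helper28.Koszul

variable {A : Type u} [CommRing A]

section swap

variable (K : CochainComplex (ModuleCat.{u} A) ℤ) (a b : A)

/-- the degree-`n` component of the swap map `cone(a on cone(b on K)) → cone(b on cone(a on K))` -/
noncomputable def swapLin (n : ℤ) :
    (mappingCone (a • 𝟙 (mappingCone (b • 𝟙 K)))).X n →ₗ[A]
      (mappingCone (b • 𝟙 (mappingCone (a • 𝟙 K)))).X n :=
  (coneInl (b • 𝟙 (mappingCone (a • 𝟙 K))) n) ∘ₗ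
      ((coneInl (a • 𝟙 K) (n + 1)) ∘ₗ (-(coneFst (b • 𝟙 K) (n + 1))) ∘ₗ
          (coneFst (a • 𝟙 (mappingCone (b • 𝟙 K))) n) +
        (coneInr (a • 𝟙 K) (n + 1)) ∘ₗ (coneFst (b • 𝟙 K) n) ∘ₗ
          (coneSnd (a • 𝟙 (mappingCone (b • 𝟙 K))) n)) +
    (coneInr (b • 𝟙 (mappingCone (a • 𝟙 K))) n) ∘ₗ
      ((coneInl (a • 𝟙 K) n) ∘ₗ (coneSnd (b • 𝟙 K) (n + 1)) ∘ₗ
          (coneFst (a • 𝟙 (mappingCone (b • 𝟙 K))) n) +
        (coneInr (a • 𝟙 K) n) ∘ₗ (coneSnd (b • 𝟙 K) n) ∘ₗ
          (coneSnd (a • 𝟙 (mappingCone (b • 𝟙 K))) n))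

lemma fst_fst_swapLin (n : ℤ) (x) :
    coneFst (a • 𝟙 K) (n + 1) (coneFst (b • 𝟙 (mappingCone (a • 𝟙 K))) n (swapLin K a b n x)) =
      - coneFst (b • 𝟙 K) (n + 1) (coneFst (a • 𝟙 (mappingCone (b • 𝟙 K))) n x) := by
  simp [swapLin]

lemma snd_fst_swapLin (n : ℤ) (x) :
    coneSnd (a • 𝟙 K) (n + 1) (coneFst (b • 𝟙 (mappingCone (a • 𝟙 K))) n (swapLin K a b n x)) =
      coneFst (b • 𝟙 K) n (coneSnd (a • 𝟙 (mappingCone (b • 𝟙 K))) n x) := by
  simp [swapLin]

lemma fst_snd_swapLin (n : ℤ) (x) :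
    coneFst (a • 𝟙 K) n (coneSnd (b • 𝟙 (mappingCone (a • 𝟙 K))) n (swapLin K a b n x)) =
      coneSnd (b • 𝟙 K) (n + 1) (coneFst (a • 𝟙 (mappingCone (b • 𝟙 K))) n x) := by
  simp [swapLin]

lemma snd_snd_swapLin (n : ℤ) (x) :
    coneSnd (a • 𝟙 K) n (coneSnd (b • 𝟙 (mappingCone (a • 𝟙 K))) n (swapLin K a b n x)) =
      coneSnd (b • 𝟙 K) n (coneSnd (a • 𝟙 (mappingCone (b • 𝟙 K))) n x) := by
  simp [swapLin]

lemma smul_id_f_apply' (K : CochainComplex (ModuleCat.{u} A) ℤ) (f : A) (n : ℤ) (y : K.X n) :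
    ((f • 𝟙 K : K ⟶ K).f n) y = f • y := rfl

lemma swapLin_d (n : ℤ) (x : (mappingCone (a • 𝟙 (mappingCone (b • 𝟙 K)))).X n) :
    swapLin K a b (n + 1) ((mappingCone (a • 𝟙 (mappingCone (b • 𝟙 K)))).d n (n + 1) x) =
      (mappingCone (b • 𝟙 (mappingCone (a • 𝟙 K)))).d n (n + 1) (swapLin K a b n x) := by
  apply cone_ext
  · apply cone_ext
    · simp only [fst_fst_swapLin, snd_fst_swapLin, fst_snd_swapLin, snd_snd_swapLin, coneFst_d,
        coneSnd_d, smul_id_f_apply', map_neg, map_add, map_smul, neg_neg]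
    · simp only [fst_fst_swapLin, snd_fst_swapLin, fst_snd_swapLin, snd_snd_swapLin, coneFst_d,
        coneSnd_d, smul_id_f_apply', map_neg, map_add, map_smul, neg_neg]
      module
  · apply cone_ext
    · simp only [fst_fst_swapLin, snd_fst_swapLin, fst_snd_swapLin, snd_snd_swapLin, coneFst_d,
        coneSnd_d, smul_id_f_apply', map_neg, map_add, map_smul, neg_neg]
      module
    · simp only [fst_fst_swapLin, snd_fst_swapLin, fst_snd_swapLin, snd_snd_swapLin, coneFst_d,
        coneSnd_d, smul_id_f_apply', map_neg, map_add, map_smul, neg_neg]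
      module

lemma swapLin_swapLin (n : ℤ) (x : (mappingCone (a • 𝟙 (mappingCone (b • 𝟙 K)))).X n) :
    swapLin K b a n (swapLin K a b n x) = x := by
  apply cone_ext
  · apply cone_ext
    · rw [fst_fst_swapLin, fst_fst_swapLin, neg_neg]
    · rw [snd_fst_swapLin, fst_snd_swapLin]
  · apply cone_ext
    · rw [fst_snd_swapLin, snd_fst_swapLin]
    · rw [snd_snd_swapLin, snd_snd_swapLin]

/-- the swap morphism of double cones -/
noncomputable def swapHom :
    mappingCone (a • 𝟙 (mappingCone (b • 𝟙 K))) ⟶ mappingCone (b • 𝟙 (mappingCone (a • 𝟙 K))) where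
  f n := ModuleCat.ofHom (swapLin K a b n)
  comm' i j hij := by
    have hij' : i + 1 = j := hij
    subst hij'
    ext x
    exact (swapLin_d K a b i x).symm

/-- the swap isomorphism of double cones -/
noncomputable def swapIso :
    mappingCone (a • 𝟙 (mappingCone (b • 𝟙 K))) ≅ mappingCone (b • 𝟙 (mappingCone (a • 𝟙 K))) where
  hom := swapHom K a b
  inv := swapHom K b a
  hom_inv_id := by
    refine HomologicalComplex.hom_ext _ _ fun n => ?_
    ext x
    exact swapLin_swapLin K a b n x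
  inv_hom_id := by
    refine HomologicalComplex.hom_ext _ _ fun n => ?_
    ext x
    exact swapLin_swapLin K b a n x

end swap

end Groth.Agent.Lib.Helper16.KzInv
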