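import Mathlib
import Groth.Prelude.Def_Koszul
import Groth.Prelude.Def_ega3
import Groth.Agent.Lib.Helper28.KoszulRegular
import Groth.Agent.Lib.Helper28.KoszulCone
import Groth.Agent.Lib.Helper11.KzCompare
import Groth.Agent.Lib.Helper16.KzInv1

/-!
# Koszul complexes (cone model) in the derived category: invariance under permutations, head changes, unit multiples (helper16)
-/

set_option autoImplicit false
set_option linter.unusedSectionVars false
set_option linter.unusedVariables false
set_option linter.unusedSimpArgs false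
universe u
open CategoryTheory CategoryTheory.Limits CochainComplex HomComplex Pretriangulated

attribute [local instance] HasDerivedCategory.standard

namespace Groth.Agent.Lib.Helper16.KzInv

open Groth.Agent.Lib.Helper28.Koszul CohIII

variable {A : Type u} [CommRing A]

/-- iterated cones of multiplication maps over an arbitrary complex -/
noncomputable def kz : List A → CochainComplex (ModuleCat.{u} A) ℤ → CochainComplex (ModuleCat.{u} A) ℤ
  | [], C => C
  | a :: l, C => mappingCone (a • 𝟙 (kz l C))

lemma kz_nil (C : CochainComplex (ModuleCat.{u} A) ℤ) : kz ([] : List A) C = C := rfl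

lemma kz_cons (a : A) (l : List A) (C : CochainComplex (ModuleCat.{u} A) ℤ) :
    kz (a :: l) C = mappingCone (a • 𝟙 (kz l C)) := rfl

lemma kz_append (l l' : List A) (C : CochainComplex (ModuleCat.{u} A) ℤ) :
    kz (l ++ l') C = kz l (kz l' C) := by
  induction l with
  | nil => rfl
  | cons a l ih => rw [List.cons_append, kz_cons, kz_cons, ih]

lemma koszulCx_eq_kz (M : ModuleCat.{u} A) (l : List A) :
    koszulCx M l = kz l ((HomologicalComplex.single (ModuleCat.{u} A) (ComplexShape.up ℤ) 0).obj M) := by
  induction l with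
  | nil => rfl
  | cons a l ih => rw [koszulCx_cons, kz_cons, ih]

abbrev D (A : Type u) [CommRing A] := DerivedCategory (ModuleCat.{u} A)

/-- isomorphic in the derived category -/
def DIso (K L : CochainComplex (ModuleCat.{u} A) ℤ) : Prop :=
  Nonempty ((DerivedCategory.Q.obj K : D A) ≅ DerivedCategory.Q.obj L)

lemma DIso.refl (K : CochainComplex (ModuleCat.{u} A) ℤ) : DIso K K := ⟨Iso.refl _⟩

lemma DIso.symm {K L : CochainComplex (ModuleCat.{u} A) ℤ} (h : DIso K L) : DIso L K :=
  ⟨h.some.symm⟩

lemma DIso.trans {K L N : CochainComplex (ModuleCat.{u} A) ℤ} (h : DIso K L) (h' : DIso L N) :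
    DIso K N := ⟨h.some ≪≫ h'.some⟩

lemma DIso.of_iso {K L : CochainComplex (ModuleCat.{u} A) ℤ} (e : K ≅ L) : DIso K L :=
  ⟨DerivedCategory.Q.mapIso e⟩

lemma DIso.of_eq {K L : CochainComplex (ModuleCat.{u} A) ℤ} (e : K = L) : DIso K L := by
  subst e; exact DIso.refl _

lemma DIso.of_quasiIso {K L : CochainComplex (ModuleCat.{u} A) ℤ} (f : K ⟶ L) [QuasiIso f] :
    DIso K L := ⟨asIso (DerivedCategory.Q.map f)⟩

lemma DIso.isZero_homology_iff {K L : CochainComplex (ModuleCat.{u} A) ℤ} (h : DIso K L) (i : ℤ) :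
    IsZero (K.homology i) ↔ IsZero (L.homology i) := by
  obtain ⟨e⟩ := h
  have e1 := (DerivedCategory.homologyFunctorFactors (ModuleCat.{u} A) i).app K
  have e2 := (DerivedCategory.homologyFunctorFactors (ModuleCat.{u} A) i).app L
  have e3 := (DerivedCategory.homologyFunctor (ModuleCat.{u} A) i).mapIso e
  exact Iso.isZero_iff (e1.symm ≪≫ e3 ≪≫ e2)

lemma Q_map_smul_id (K : CochainComplex (ModuleCat.{u} A) ℤ) (a : A) :
    (DerivedCategory.Q.map (a • 𝟙 K) : (DerivedCategory.Q.obj K : D A) ⟶ _) =
      a • 𝟙 (DerivedCategory.Q.obj K) := by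
  rw [Functor.map_smul, CategoryTheory.Functor.map_id]

/-- the distinguished triangle of a mapping cone in the derived category -/
lemma tri_dist {K L : CochainComplex (ModuleCat.{u} A) ℤ} (φ : K ⟶ L) :
    (DerivedCategory.Q.mapTriangle.obj (CochainComplex.mappingCone.triangle φ) :
      Triangle (D A)) ∈ distTriang (D A) := by
  rw [DerivedCategory.mem_distTriang_iff]
  exact ⟨K, L, φ, ⟨Iso.refl _⟩⟩

/-- cones of "isomorphic arrows" are isomorphic in the derived category -/
lemma DIso.cone {K L K' L' : CochainComplex (ModuleCat.{u} A) ℤ} (φ : K ⟶ L) (φ' : K' ⟶ L')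
    (e₁ : (DerivedCategory.Q.obj K : D A) ≅ DerivedCategory.Q.obj K')
    (e₂ : (DerivedCategory.Q.obj L : D A) ≅ DerivedCategory.Q.obj L')
    (comm : DerivedCategory.Q.map φ ≫ e₂.hom = e₁.hom ≫ DerivedCategory.Q.map φ') :
    DIso (mappingCone φ) (mappingCone φ') := by
  have e := isoTriangleOfIso₁₂ _ _ (tri_dist φ) (tri_dist φ') e₁ e₂ comm
  exact ⟨Triangle.π₃.mapIso e⟩

lemma DIso.cone_smul {K K' : CochainComplex (ModuleCat.{u} A) ℤ} (h : DIso K K') (a : A) :
    DIso (mappingCone (a • 𝟙 K)) (mappingCone (a • 𝟙 K')) := by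
  obtain ⟨e⟩ := h
  refine DIso.cone _ _ e e ?_
  rw [Q_map_smul_id, Q_map_smul_id]
  simp only [Linear.smul_comp, Linear.comp_smul, Category.id_comp, Category.comp_id]

lemma DIso.kz {C C' : CochainComplex (ModuleCat.{u} A) ℤ} (h : DIso C C') (l : List A) :
    DIso (kz l C) (kz l C') := by
  induction l with
  | nil => exact h
  | cons a l ih => exact ih.cone_smul a

lemma Q_map_eq_of_homotopy {K L : CochainComplex (ModuleCat.{u} A) ℤ} {f g : K ⟶ L}
    (h : Homotopy f g) :
    (DerivedCategory.Q.map f : (DerivedCategory.Q.obj K : D A) ⟶ _) = DerivedCategory.Q.map g := by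
  have hf := DerivedCategory.quotientCompQhIso_inv_naturality f
  have hg := DerivedCategory.quotientCompQhIso_inv_naturality g
  rw [HomotopyCategory.eq_of_homotopy _ _ h] at hf
  rw [← cancel_mono ((DerivedCategory.quotientCompQhIso (ModuleCat.{u} A)).inv.app L), hf, hg]

lemma DIso.cone_of_Q_map_eq {K L : CochainComplex (ModuleCat.{u} A) ℤ} (φ φ' : K ⟶ L)
    (h : (DerivedCategory.Q.map φ : (DerivedCategory.Q.obj K : D A) ⟶ _) =
      DerivedCategory.Q.map φ') : DIso (mappingCone φ) (mappingCone φ') := by
  refine DIso.cone φ φ' (Iso.refl _) (Iso.refl _) ?_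
  simp [h]

/-- every element of the ideal generated by `l` acts null-homotopically on `kz l C`. -/
theorem span_le_nullIdeal_kz (C : CochainComplex (ModuleCat.{u} A) ℤ) (l : List A) :
    Ideal.span {x | x ∈ l} ≤ nullIdeal (R := A) (kz l C) := by
  induction l with
  | nil =>
    rw [Ideal.span_le]
    rintro x hx
    simp at hx
  | cons f fs ih =>
    rw [Ideal.span_le]
    rintro x hx
    rw [kz_cons]
    have hx' : x = f ∨ x ∈ fs := by simpa using hx
    rcases hx' with rfl | hx'
    · exact self_mem_nullIdeal_cone _ _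
    · exact nullIdeal_le_cone _ _ (ih (Ideal.subset_span hx'))

/-- the head of the list may be changed by an element of the ideal generated by the tail -/
theorem dIso_kz_cons_of_sub_mem (C : CochainComplex (ModuleCat.{u} A) ℤ) (l : List A) (a a' : A)
    (h : a' - a ∈ Ideal.span {x | x ∈ l}) : DIso (kz (a' :: l) C) (kz (a :: l) C) := by
  rw [kz_cons, kz_cons]
  apply DIso.cone_of_Q_map_eq
  obtain ⟨hh⟩ := span_le_nullIdeal_kz C l h
  have h0 := Q_map_eq_of_homotopy hh
  rw [Functor.map_zero, Q_map_smul_id] at h0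
  rw [Q_map_smul_id, Q_map_smul_id, ← sub_eq_zero, ← sub_smul]
  exact h0

/-- the head of the list may be multiplied by a unit -/
theorem dIso_cone_unit_mul (K : CochainComplex (ModuleCat.{u} A) ℤ) (a u : A) (hu : IsUnit u) :
    DIso (mappingCone ((u * a) • 𝟙 K)) (mappingCone (a • 𝟙 K)) := by
  obtain ⟨v, hv⟩ := hu.exists_right_inv
  have hv' : v * u = 1 := by rw [mul_comm]; exact hv
  let e : (DerivedCategory.Q.obj K : D A) ≅ DerivedCategory.Q.obj K :=
    { hom := u • 𝟙 _
      inv := v • 𝟙 _
      hom_inv_id := by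
        simp only [Linear.smul_comp, Linear.comp_smul, Category.id_comp, smul_smul, hv', one_smul]
      inv_hom_id := by
        simp only [Linear.smul_comp, Linear.comp_smul, Category.id_comp, smul_smul, hv, one_smul] }
  refine DIso.cone _ _ e (Iso.refl _) ?_
  rw [Q_map_smul_id, Q_map_smul_id]
  simp only [e, Iso.refl_hom, Category.comp_id, Linear.smul_comp, Linear.comp_smul,
    Category.id_comp, smul_smul, mul_comm]

theorem dIso_kz_perm (C : CochainComplex (ModuleCat.{u} A) ℤ) {l l' : List A} (h : l.Perm l') :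
    DIso (kz l C) (kz l' C) := by
  induction h with
  | nil => exact DIso.refl _
  | cons a _ ih => exact ih.cone_smul a
  | swap a b l => exact DIso.of_iso (swapIso (kz l C) b a)
  | trans _ _ ih1 ih2 => exact ih1.trans ih2

end Groth.Agent.Lib.Helper16.KzInv
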