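import Mathlib
import Groth.Prelude.Def_Koszul
import Groth.Prelude.Def_ega3
import Groth.Agent.Lib.Helper15.GLGen
import Groth.Agent.Lib.Helper11.KzRes
import Groth.Prelude.Def_LCI2
import Groth.Agent.Lib.Helper16.KzInv2

/-!
# Koszul complexes (cone model): GL-invariance over local rings (helper16)
-/

set_option autoImplicit false
set_option linter.unusedSectionVars false
set_option linter.unusedVariables false
set_option linter.unusedSimpArgs false
universe u
open CategoryTheory CategoryTheory.Limits CochainComplex HomComplex Pretriangulated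

attribute [local instance] HasDerivedCategory.standard

namespace Groth.Agent.Lib.Helper16.KzInv

open Groth.Agent.Lib.Helper28.Koszul CohIII

variable {A : Type u} [CommRing A] (C : CochainComplex (ModuleCat.{u} A) ℤ)

theorem perm_ofFn_succAbove {n : ℕ} (f : Fin (n + 1) → A) (i : Fin (n + 1)) :
    (f i :: List.ofFn (fun j => f (i.succAbove j))).Perm (List.ofFn f) := by
  have h := Equiv.Perm.ofFn_comp_perm (Fin.cycleRange i).symm f
  rw [List.ofFn_succ] at h
  simpa [Function.comp_def, Fin.cycleRange_symm_zero, Fin.cycleRange_symm_succ] using h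

theorem dIso_cons_forall₂_add (x : A) (l' l : List A)
    (h : List.Forall₂ (fun y' y => y' - y ∈ Ideal.span {x}) l' l) :
    DIso (kz (x :: l') C) (kz (x :: l) C) := by
  induction h with
  | nil => exact DIso.refl _
  | @cons y' y t' t hy _ ih =>
    have h1 : DIso (kz (x :: y' :: t') C) (kz (y' :: x :: t') C) :=
      dIso_kz_perm C (List.Perm.swap y' x t')
    have h2 : DIso (kz (y' :: x :: t') C) (kz (y' :: x :: t) C) := ih.cone_smul y'
    have h3 : DIso (kz (y' :: x :: t) C) (kz (y :: x :: t) C) := by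
      refine dIso_kz_cons_of_sub_mem C (x :: t) y y' ?_
      refine Ideal.span_mono ?_ hy
      intro z hz
      simp only [Set.mem_singleton_iff] at hz
      simp [hz]
    have h4 : DIso (kz (y :: x :: t) C) (kz (x :: y :: t) C) :=
      dIso_kz_perm C (List.Perm.swap x y t)
    exact h1.trans (h2.trans (h3.trans h4))

theorem dIso_forall₂_unit (l' l : List A)
    (h : List.Forall₂ (fun y' y => ∃ u, IsUnit u ∧ y' = u * y) l' l) :
    DIso (kz l' C) (kz l C) := by
  induction h with
  | nil => exact DIso.refl _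
  | @cons y' y t' t hy _ ih =>
    obtain ⟨u, hu, rfl⟩ := hy
    exact (ih.cone_smul (u * y)).trans (dIso_cone_unit_mul (kz t C) y u hu)

open Groth.Agent.Lib.Helper15.GLGen in
theorem dIso_rowU {n : ℕ} (i : Fin (n + 1)) (c : Fin (n + 1) → A) (v : Fin (n + 1) → A) :
    DIso (kz (List.ofFn ((rowU i c).val.mulVec v)) C) (kz (List.ofFn v) C) := by
  set v' := (rowU i c).val.mulVec v with hv'
  have hform : ∀ a, v' a = v a + if a = i then ∑ b, (if b ≠ i then c b * v b else 0) else 0 := by
    intro a
    show ((1 + E i c).mulVec v) a = _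
    rw [Matrix.add_mulVec, Matrix.one_mulVec, Pi.add_apply]
    congr 1
    rw [Matrix.mulVec, dotProduct]
    by_cases ha : a = i
    · rw [if_pos ha]
      refine Finset.sum_congr rfl fun b _ => ?_
      rw [E_apply]
      by_cases hb : b ≠ i
      · rw [if_pos ⟨ha, hb⟩, if_pos hb]
      · rw [if_neg (fun h => hb h.2), if_neg hb, zero_mul]
    · rw [if_neg ha]
      refine Finset.sum_eq_zero fun b _ => ?_
      rw [E_apply, if_neg (fun h => ha h.1), zero_mul]
  have hrest : (fun j => v' (i.succAbove j)) = fun j => v (i.succAbove j) := by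
    funext j
    rw [hform, if_neg (Fin.succAbove_ne i j), add_zero]
  have h1 : DIso (kz (List.ofFn v') C) (kz (v' i :: List.ofFn (fun j => v' (i.succAbove j))) C) :=
    dIso_kz_perm C (perm_ofFn_succAbove v' i).symm
  have h3 : DIso (kz (v i :: List.ofFn (fun j => v (i.succAbove j))) C) (kz (List.ofFn v) C) :=
    dIso_kz_perm C (perm_ofFn_succAbove v i)
  rw [hrest] at h1
  refine h1.trans (DIso.trans ?_ h3)
  refine dIso_kz_cons_of_sub_mem C _ (v i) (v' i) ?_
  rw [hform, if_pos rfl, add_sub_cancel_left]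
  refine Ideal.sum_mem _ fun b _ => ?_
  by_cases hb : b ≠ i
  · rw [if_pos hb]
    obtain ⟨j, hj⟩ := Fin.exists_succAbove_eq hb
    refine Ideal.mul_mem_left _ _ (Ideal.subset_span ?_)
    simp only [Set.mem_ofPred_eq, List.mem_ofFn]
    exact ⟨j, by rw [hj]⟩
  · rw [if_neg hb]
    exact Ideal.zero_mem _

open Groth.Agent.Lib.Helper15.GLGen in
theorem dIso_colU {n : ℕ} (i : Fin (n + 1)) (c : Fin (n + 1) → A) (v : Fin (n + 1) → A) :
    DIso (kz (List.ofFn ((colU i c).val.mulVec v)) C) (kz (List.ofFn v) C) := by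
  set v' := (colU i c).val.mulVec v with hv'
  have hform : ∀ a, v' a = v a + if a ≠ i then c a * v i else 0 := by
    intro a
    show ((1 + Matrix.transpose (E i c)).mulVec v) a = _
    rw [Matrix.add_mulVec, Matrix.one_mulVec, Pi.add_apply]
    congr 1
    rw [Matrix.mulVec, dotProduct, Finset.sum_eq_single i]
    · rw [Matrix.transpose_apply, E_apply]
      by_cases ha : a ≠ i
      · rw [if_pos ⟨rfl, ha⟩, if_pos ha]
      · rw [if_neg (fun h => ha h.2), if_neg ha, zero_mul]
    · intro b _ hb
      rw [Matrix.transpose_apply, E_apply, if_neg (fun h => hb h.1), zero_mul]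
    · intro h
      exact absurd (Finset.mem_univ i) h
  have h1 : DIso (kz (List.ofFn v') C) (kz (v' i :: List.ofFn (fun j => v' (i.succAbove j))) C) :=
    dIso_kz_perm C (perm_ofFn_succAbove v' i).symm
  have h3 : DIso (kz (v i :: List.ofFn (fun j => v (i.succAbove j))) C) (kz (List.ofFn v) C) :=
    dIso_kz_perm C (perm_ofFn_succAbove v i)
  have hi : v' i = v i := by rw [hform, if_neg (by simp), add_zero]
  rw [hi] at h1
  refine h1.trans (DIso.trans ?_ h3)
  refine dIso_cons_forall₂_add C (v i) _ _ ?_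
  rw [List.forall₂_iff_get]
  refine ⟨by simp, ?_⟩
  intro k hk1 hk2
  simp only [List.get_eq_getElem, List.getElem_ofFn]
  rw [hform, if_pos (Fin.succAbove_ne i _), add_sub_cancel_left]
  exact Ideal.mul_mem_left _ _ (Ideal.subset_span rfl)

open Groth.Agent.Lib.Helper15.GLGen in
theorem dIso_diagU {n : ℕ} (d : Fin n → Aˣ) (v : Fin n → A) :
    DIso (kz (List.ofFn ((diagU d).val.mulVec v)) C) (kz (List.ofFn v) C) := by
  refine dIso_forall₂_unit C _ _ ?_
  rw [List.forall₂_iff_get]
  refine ⟨by simp, ?_⟩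
  intro k hk1 hk2
  simp only [List.get_eq_getElem, List.getElem_ofFn]
  refine ⟨(d ⟨k, by simpa using hk2⟩ : A), (d _).isUnit, ?_⟩
  show (Matrix.diagonal (fun i => (d i : A))).mulVec v _ = _
  rw [Matrix.mulVec_diagonal]

open Groth.Agent.Lib.Helper15.GLGen in
/-- **GL-invariance** of the iterated cone over a local ring -/
theorem dIso_mulVec_unit [IsLocalRing A] {n : ℕ} (g : (Matrix (Fin n) (Fin n) A)ˣ)
    (v : Fin n → A) : DIso (kz (List.ofFn (g.val.mulVec v)) C) (kz (List.ofFn v) C) := by
  have hg : g ∈ H (Fin n) A := gen_top g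
  revert v
  refine Subgroup.closure_induction (p := fun g _ => ∀ v : Fin n → A,
    DIso (kz (List.ofFn (g.val.mulVec v)) C) (kz (List.ofFn v) C)) ?_ ?_ ?_ ?_ hg
  · rintro x (⟨i, c, rfl⟩ | ⟨i, c, rfl⟩ | ⟨d, rfl⟩) v
    · cases n with
      | zero => exact i.elim0
      | succ n => exact dIso_rowU C i c v
    · cases n with
      | zero => exact i.elim0
      | succ n => exact dIso_colU C i c v
    · exact dIso_diagU C d v
  · intro v
    rw [Units.val_one, Matrix.one_mulVec]
    exact DIso.refl _
  · intro x y _ _ hx hy v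
    rw [Units.val_mul, ← Matrix.mulVec_mulVec]
    exact (hx _).trans (hy v)
  · intro x _ hx v
    have h := hx ((x⁻¹).val.mulVec v)
    rw [Matrix.mulVec_mulVec, ← Units.val_mul, mul_inv_cancel, Units.val_one,
      Matrix.one_mulVec] at h
    exact h.symm

/-- Koszul-regularity in the form used by the prelude -/
lemma isKoszulRegularSeq_iff (l : List A) :
    LCI.IsKoszulRegularSeq A l ↔
      ∀ i : ℤ, i ≠ 0 → IsZero ((kz l ((HomologicalComplex.single (ModuleCat.{u} A)
        (ComplexShape.up ℤ) 0).obj (ModuleCat.of A A))).homology i) := by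
  unfold LCI.IsKoszulRegularSeq
  have e : Koszul.koszul A l = kz l ((HomologicalComplex.single (ModuleCat.{u} A)
      (ComplexShape.up ℤ) 0).obj (ModuleCat.of A A)) := by
    rw [Groth.Agent.Lib.Helper11.Kz.koszul_eq, koszulCx_eq_kz]
  exact forall_congr' fun i => imp_congr_right fun _ => (DIso.of_eq e).isZero_homology_iff i

lemma isKoszulRegularSeq_of_dIso {l l' : List A}
    (h : DIso (kz l ((HomologicalComplex.single (ModuleCat.{u} A)
        (ComplexShape.up ℤ) 0).obj (ModuleCat.of A A)))
      (kz l' ((HomologicalComplex.single (ModuleCat.{u} A)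
        (ComplexShape.up ℤ) 0).obj (ModuleCat.of A A))))
    (hl : LCI.IsKoszulRegularSeq A l) : LCI.IsKoszulRegularSeq A l' := by
  rw [isKoszulRegularSeq_iff] at hl ⊢
  intro i hi
  exact (h.isZero_homology_iff i).mp (hl i hi)

theorem isKoszulRegularSeq_perm {l l' : List A} (h : l.Perm l')
    (hl : LCI.IsKoszulRegularSeq A l) : LCI.IsKoszulRegularSeq A l' :=
  isKoszulRegularSeq_of_dIso (dIso_kz_perm _ h) hl

theorem isKoszulRegularSeq_mulVec_unit [IsLocalRing A] {n : ℕ}
    (g : (Matrix (Fin n) (Fin n) A)ˣ) (v : Fin n → A)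
    (hl : LCI.IsKoszulRegularSeq A (List.ofFn v)) :
    LCI.IsKoszulRegularSeq A (List.ofFn (g.val.mulVec v)) :=
  isKoszulRegularSeq_of_dIso (dIso_mulVec_unit _ g v).symm hl

end Groth.Agent.Lib.Helper16.KzInv
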