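import Mathlib
import Groth.Prelude.Def_Koszul
import Groth.Prelude.Def_ega3
import Groth.Prelude.Def_LCI2
import Groth.Prelude.Def_DRing2
import Groth.Agent.Lib.Helper11.KzRes
import Groth.Agent.Lib.Helper16.KzInv3

/-!
# Koszul complexes (cone model): restriction of scalars, flat base change, local-global (helper16)
-/

set_option autoImplicit false
set_option linter.unusedSectionVars false
set_option linter.unusedVariables false
set_option linter.unusedSimpArgs false
universe u
open CategoryTheory CategoryTheory.Limits CochainComplex HomComplex Pretriangulated MonoidalCategory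

attribute [local instance] HasDerivedCategory.standard

namespace Groth.Agent.Lib.Helper16.KzInv

open Groth.Agent.Lib.Helper28.Koszul CohIII

variable {A : Type u} [CommRing A] {B : Type u} [CommRing B] (φ : A →+* B)

section restrict

lemma restrictScalars_map_smul {M N : ModuleCat.{u} B} (a : A) (g : M ⟶ N) :
    (ModuleCat.restrictScalars φ).map (φ a • g) = a • (ModuleCat.restrictScalars φ).map g := by
  ext x
  rfl

lemma restrictScalars_mapHC_smul_id (K : CochainComplex (ModuleCat.{u} B) ℤ) (a : A) :
    ((ModuleCat.restrictScalars φ).mapHomologicalComplex (ComplexShape.up ℤ)).map (φ a • 𝟙 K) =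
      a • 𝟙 (((ModuleCat.restrictScalars φ).mapHomologicalComplex (ComplexShape.up ℤ)).obj K) := by
  ext n : 1
  rw [Functor.mapHomologicalComplex_map_f, HomologicalComplex.smul_f_apply,
    HomologicalComplex.smul_f_apply, restrictScalars_map_smul]
  simp
  rfl

/-- restriction of scalars commutes with iterated cones -/
noncomputable def rsIso (C : CochainComplex (ModuleCat.{u} B) ℤ) : ∀ l : List A,
    ((ModuleCat.restrictScalars φ).mapHomologicalComplex (ComplexShape.up ℤ)).obj
      (kz (l.map φ) C) ≅
      kz l (((ModuleCat.restrictScalars φ).mapHomologicalComplex (ComplexShape.up ℤ)).obj C)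
  | [] => Iso.refl _
  | a :: l =>
    mappingCone.mapHomologicalComplexIso (φ a • 𝟙 (kz (l.map φ) C)) (ModuleCat.restrictScalars φ) ≪≫
      Groth.Agent.Lib.Helper11.Kz.coneIso (rsIso C l) _ (a • 𝟙 _) (by
        rw [restrictScalars_mapHC_smul_id]
        simp only [Linear.smul_comp, Linear.comp_smul, Category.id_comp, Category.comp_id])

lemma isZero_restrictScalars_iff (X : ModuleCat.{u} B) :
    IsZero ((ModuleCat.restrictScalars φ).obj X) ↔ IsZero X := by
  rw [ModuleCat.isZero_iff_subsingleton, ModuleCat.isZero_iff_subsingleton]
  rfl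

/-- homology commutes with restriction of scalars -/
noncomputable def rsHomologyIso (K : CochainComplex (ModuleCat.{u} B) ℤ) (i : ℤ) :
    (((ModuleCat.restrictScalars φ).mapHomologicalComplex (ComplexShape.up ℤ)).obj K).homology i ≅
      (ModuleCat.restrictScalars φ).obj (K.homology i) :=
  (K.sc i).mapHomologyIso (ModuleCat.restrictScalars φ)

theorem isZero_homology_kz_map_iff (C : CochainComplex (ModuleCat.{u} B) ℤ) (l : List A) (i : ℤ) :
    IsZero ((kz (l.map φ) C).homology i) ↔
      IsZero ((kz l (((ModuleCat.restrictScalars φ).mapHomologicalComplex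
        (ComplexShape.up ℤ)).obj C)).homology i) := by
  rw [← isZero_restrictScalars_iff φ, ← Iso.isZero_iff (rsHomologyIso φ _ i)]
  exact Iso.isZero_iff ((HomologicalComplex.homologyFunctor _ _ i).mapIso (rsIso φ C l))

end restrict

section flat

variable [Algebra A B]

/-- `B` as a `B`-module, restricted to `A`, is `B` as an `A`-module -/
noncomputable def restrictSelfLin :
    ((ModuleCat.restrictScalars (algebraMap A B)).obj (ModuleCat.of B B)) ≃ₗ[A] B :=
  { toFun := fun x => x
    invFun := fun x => x
    map_add' := fun _ _ => rfl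
    map_smul' := fun a x => (Algebra.smul_def a (show B from x)).symm
    left_inv := fun _ => rfl
    right_inv := fun _ => rfl }

noncomputable def restrictSelfIso :
    (ModuleCat.restrictScalars (algebraMap A B)).obj (ModuleCat.of B B) ≅ ModuleCat.of A B :=
  (restrictSelfLin (A := A) (B := B)).toModuleIso

/-- homology commutes with tensoring with a flat module -/
noncomputable def tensorHomologyIso (M : ModuleCat.{u} A) [Module.Flat A M]
    (K : CochainComplex (ModuleCat.{u} A) ℤ) (i : ℤ) :
    (((tensorRight M).mapHomologicalComplex (ComplexShape.up ℤ)).obj K).homology i ≅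
      (tensorRight M).obj (K.homology i) :=
  (K.sc i).mapHomologyIso (tensorRight M)

/-- **Flat base change for Koszul homology.** -/
theorem isZero_homology_koszul_map_iff [Module.Flat A B] (l : List A) (i : ℤ) :
    IsZero ((Koszul.koszul B (l.map (algebraMap A B))).homology i) ↔
      Subsingleton (TensorProduct A ((Koszul.koszul A l).homology i) B) := by
  have e : Koszul.koszul B (l.map (algebraMap A B)) =
      kz (l.map (algebraMap A B)) ((HomologicalComplex.single (ModuleCat.{u} B)
        (ComplexShape.up ℤ) 0).obj (ModuleCat.of B B)) := by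
    rw [Groth.Agent.Lib.Helper11.Kz.koszul_eq, koszulCx_eq_kz]
  rw [(DIso.of_eq e).isZero_homology_iff i, isZero_homology_kz_map_iff]
  have e1 : ((ModuleCat.restrictScalars (algebraMap A B)).mapHomologicalComplex
      (ComplexShape.up ℤ)).obj ((HomologicalComplex.single (ModuleCat.{u} B)
        (ComplexShape.up ℤ) 0).obj (ModuleCat.of B B)) ≅
      (HomologicalComplex.single (ModuleCat.{u} A) (ComplexShape.up ℤ) 0).obj (ModuleCat.of A B) :=
    (HomologicalComplex.singleMapHomologicalComplex (ModuleCat.restrictScalars (algebraMap A B))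
      (ComplexShape.up ℤ) 0).app (ModuleCat.of B B) ≪≫
      (HomologicalComplex.single _ _ 0).mapIso restrictSelfIso
  rw [((DIso.of_iso e1).kz l).isZero_homology_iff i, ← koszulCx_eq_kz]
  have e2 := Groth.Agent.Lib.Helper11.Kz.compareIso (ModuleCat.of A B) l
  have h2 : IsZero ((koszulCx (ModuleCat.of A B) l).homology i) ↔
      IsZero ((DRing.tensorCx (Koszul.koszul A l) (ModuleCat.of A B)).homology i) :=
    (Iso.isZero_iff ((HomologicalComplex.homologyFunctor _ _ i).mapIso e2)).symm
  rw [h2]
  have : Module.Flat A (ModuleCat.of A B) := inferInstanceAs (Module.Flat A B)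
  have e3 := tensorHomologyIso (ModuleCat.of A B) (Koszul.koszul A l) i
  show IsZero ((DRing.tensorCx (Koszul.koszul A l) (ModuleCat.of A B)).homology i) ↔ _
  rw [show DRing.tensorCx (Koszul.koszul A l) (ModuleCat.of A B) =
    ((tensorRight (ModuleCat.of A B)).mapHomologicalComplex (ComplexShape.up ℤ)).obj
      (Koszul.koszul A l) from rfl, Iso.isZero_iff e3, ModuleCat.isZero_iff_subsingleton]
  rfl

end flat

section corollaries

variable [Algebra A B]

theorem isKoszulRegularSeq_map_of_flat [Module.Flat A B] {l : List A}
    (hl : LCI.IsKoszulRegularSeq A l) :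
    LCI.IsKoszulRegularSeq B (l.map (algebraMap A B)) := by
  intro i hi
  rw [isZero_homology_koszul_map_iff]
  have := (ModuleCat.isZero_iff_subsingleton).mp (hl i hi)
  infer_instance

theorem isKoszulRegularSeq_of_map_of_faithfullyFlat [Module.FaithfullyFlat A B] {l : List A}
    (hl : LCI.IsKoszulRegularSeq B (l.map (algebraMap A B))) :
    LCI.IsKoszulRegularSeq A l := by
  intro i hi
  have h := (isZero_homology_koszul_map_iff (A := A) (B := B) l i).mp (hl i hi)
  rw [Module.FaithfullyFlat.subsingleton_tensorProduct_iff_left] at h
  exact (ModuleCat.isZero_iff_subsingleton).mpr h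

omit [Algebra A B] in
theorem isKoszulRegularSeq_of_localization_maximal {l : List A}
    (h : ∀ (P : Ideal A) [P.IsMaximal], LCI.IsKoszulRegularSeq (Localization.AtPrime P)
      (l.map (algebraMap A (Localization.AtPrime P)))) :
    LCI.IsKoszulRegularSeq A l := by
  intro i hi
  rw [ModuleCat.isZero_iff_subsingleton]
  refine Module.subsingleton_of_localization_maximal
    (fun P _ => TensorProduct A (Localization.AtPrime P) ((Koszul.koszul A l).homology i))
    (fun P _ => TensorProduct.mk A (Localization.AtPrime P) ((Koszul.koszul A l).homology i) 1) ?_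
  intro P hP
  have h1 := (isZero_homology_koszul_map_iff (A := A) (B := Localization.AtPrime P) l i).mp
    (h P i hi)
  exact (TensorProduct.comm A _ _).symm.subsingleton

omit [Algebra A B] in
theorem isKoszulRegularSeq_of_span_eq_top {l : List A} (h : Ideal.span {x | x ∈ l} = ⊤) :
    LCI.IsKoszulRegularSeq A l := by
  intro i _
  have e : Koszul.koszul A l = koszulCx (ModuleCat.of A A) l :=
    Groth.Agent.Lib.Helper11.Kz.koszul_eq l
  rw [(DIso.of_eq e).isZero_homology_iff i]
  exact isZero_homology_koszulCx_of_span_eq_top _ l h i

end corollaries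

end Groth.Agent.Lib.Helper16.KzInv
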