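import Mathlib
import Groth.Prelude.Def_Koszul
import Groth.Prelude.Def_ega3
import Groth.Prelude.Def_LCI2
import Groth.Agent.Lib.Helper11.KzCot
import Groth.Agent.Lib.Helper16.KzInv4

/-!
# Koszul-regular sequences: change of generators (helper16)
-/

set_option autoImplicit false
set_option linter.unusedSectionVars false
set_option linter.unusedVariables false
set_option linter.unusedSimpArgs false
universe u
open CategoryTheory CategoryTheory.Limits

namespace Groth.Agent.Lib.Helper16.KzInv

open Groth.Agent.Lib.Helper28.Koszul CohIII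

variable {S : Type u} [CommRing S]

/-- for a Koszul-regular sequence generating a proper ideal `J`, `J/J²` is free on its classes -/
theorem exists_cotangent_basis_of_kreg (J : Ideal S) {r : ℕ} (w : Fin r → S)
    (hw : ∀ i, w i ∈ J) (hwJ : Ideal.span (Set.range w) = J)
    (hreg : LCI.IsKoszulRegularSeq S (List.ofFn w)) :
    ∃ b : Module.Basis (Fin r) (S ⧸ J) J.Cotangent, ∀ i, b i = J.toCotangent ⟨w i, hw i⟩ := by
  have h1 := hreg (-1) (by norm_num)
  have e : Koszul.koszul S (List.ofFn w) = koszulCx (ModuleCat.of S S) (List.ofFn w) :=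
    Groth.Agent.Lib.Helper11.Kz.koszul_eq _
  rw [(DIso.of_eq e).isZero_homology_iff] at h1
  exact Groth.Agent.Lib.Helper11.Kz.exists_cotangent_basis J w hw hwJ h1

/-- the number of generators of a proper ideal generated by a Koszul-regular sequence is at least
the length of that sequence -/
theorem length_le_of_kreg (J : Ideal S) (hJ : J ≠ ⊤) {r t : ℕ} (w : Fin r → S)
    (hwJ : Ideal.span (Set.range w) = J) (hreg : LCI.IsKoszulRegularSeq S (List.ofFn w))
    (v : Fin t → S) (hvJ : Ideal.span (Set.range v) = J) : r ≤ t := by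
  have hw : ∀ i, w i ∈ J := fun i => hwJ ▸ Ideal.subset_span ⟨i, rfl⟩
  have hv : ∀ i, v i ∈ J := fun i => hvJ ▸ Ideal.subset_span ⟨i, rfl⟩
  obtain ⟨b, hb⟩ := exists_cotangent_basis_of_kreg J w hw hwJ hreg
  have : Nontrivial (S ⧸ J) := Ideal.Quotient.nontrivial_iff.mpr hJ
  have hspan : Submodule.span (S ⧸ J) (Set.range fun i => J.toCotangent ⟨v i, hv i⟩) = ⊤ := by
    rw [eq_top_iff]
    rintro x -
    obtain ⟨y, rfl⟩ := J.toCotangent_surjective x
    obtain ⟨y, hy⟩ := y
    have hy' := hy
    rw [← hvJ] at hy'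
    obtain ⟨c, hc⟩ := (Ideal.mem_span_range_iff_exists_fun).mp hy'
    have : (⟨y, hy⟩ : J) = ∑ i, c i • (⟨v i, hv i⟩ : J) := by
      apply Subtype.ext
      rw [AddSubmonoidClass.coe_finsetSum]
      exact hc.symm
    rw [this, map_sum]
    refine Submodule.sum_mem _ fun i _ => ?_
    rw [map_smul, ← algebraMap_smul (S ⧸ J) (c i)]
    exact Submodule.smul_mem _ _ (Submodule.subset_span ⟨i, rfl⟩)
  classical
  have h := Basis.le_span'' b hspan
  rw [Fintype.card_fin] at h
  refine h.trans ?_
  calc Fintype.card (Set.range fun i => J.toCotangent ⟨v i, hv i⟩)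
      ≤ Fintype.card (Fin t) := Fintype.card_range_le _
    _ = t := Fintype.card_fin t

/-- over a local ring, two generating families of the same length of a proper ideal differ by an
invertible matrix, as soon as one of them is Koszul-regular -/
theorem exists_unit_mulVec_eq [IsLocalRing S] (J : Ideal S) (hJ : J ≠ ⊤) {r : ℕ} (w v : Fin r → S)
    (hwJ : Ideal.span (Set.range w) = J) (hreg : LCI.IsKoszulRegularSeq S (List.ofFn w))
    (hvJ : Ideal.span (Set.range v) = J) :
    ∃ g : (Matrix (Fin r) (Fin r) S)ˣ, g.val.mulVec w = v := by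
  classical
  have hw : ∀ i, w i ∈ J := fun i => hwJ ▸ Ideal.subset_span ⟨i, rfl⟩
  have hv : ∀ i, v i ∈ J := fun i => hvJ ▸ Ideal.subset_span ⟨i, rfl⟩
  obtain ⟨b, hb⟩ := exists_cotangent_basis_of_kreg J w hw hwJ hreg
  have : Nontrivial (S ⧸ J) := Ideal.Quotient.nontrivial_iff.mpr hJ
  -- the matrix
  have hex : ∀ i, ∃ c : Fin r → S, ∑ j, c j * w j = v i := fun i =>
    (Ideal.mem_span_range_iff_exists_fun).mp (by rw [hwJ]; exact hv i)
  choose M hM using hex
  have hMv : (Matrix.of M).mulVec w = v := by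
    funext i
    rw [Matrix.mulVec, dotProduct, ← hM i]
    rfl
  -- classes
  have hcls : ∀ i, J.toCotangent ⟨v i, hv i⟩ = ∑ j, Ideal.Quotient.mk J (M i j) • b j := by
    intro i
    have : (⟨v i, hv i⟩ : J) = ∑ j, M i j • (⟨w j, hw j⟩ : J) := by
      apply Subtype.ext
      rw [AddSubmonoidClass.coe_finsetSum]
      exact (hM i).symm
    rw [this, map_sum]
    refine Finset.sum_congr rfl fun j _ => ?_
    rw [map_smul, hb, ← algebraMap_smul (S ⧸ J) (M i j)]
    rfl
  -- the classes of `v` span
  have hspan : Submodule.span (S ⧸ J) (Set.range fun i => J.toCotangent ⟨v i, hv i⟩) = ⊤ := by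
    rw [eq_top_iff]
    rintro x -
    obtain ⟨y, rfl⟩ := J.toCotangent_surjective x
    obtain ⟨y, hy⟩ := y
    have hy' := hy
    rw [← hvJ] at hy'
    obtain ⟨c, hc⟩ := (Ideal.mem_span_range_iff_exists_fun).mp hy'
    have : (⟨y, hy⟩ : J) = ∑ i, c i • (⟨v i, hv i⟩ : J) := by
      apply Subtype.ext
      rw [AddSubmonoidClass.coe_finsetSum]
      exact hc.symm
    rw [this, map_sum]
    refine Submodule.sum_mem _ fun i _ => ?_
    rw [map_smul, ← algebraMap_smul (S ⧸ J) (c i)]
    exact Submodule.smul_mem _ _ (Submodule.subset_span ⟨i, rfl⟩)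
  -- left inverse of the reduced matrix
  have hN : ∀ k, ∃ n : Fin r → S ⧸ J, ∑ i, n i • J.toCotangent ⟨v i, hv i⟩ = b k := by
    intro k
    have hk : b k ∈ Submodule.span (S ⧸ J) (Set.range fun i => J.toCotangent ⟨v i, hv i⟩) := by
      rw [hspan]; trivial
    obtain ⟨n, hn⟩ := (Submodule.mem_span_range_iff_exists_fun _).mp hk
    exact ⟨n, hn⟩
  choose N hN using hN
  set Mbar : Matrix (Fin r) (Fin r) (S ⧸ J) := (Matrix.of M).map (Ideal.Quotient.mk J) with hMbar
  have hNM : Matrix.of N * Mbar = 1 := by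
    ext k j
    have h1 : b.repr (b k) j = (1 : Matrix (Fin r) (Fin r) (S ⧸ J)) k j := by
      rw [b.repr_self, Matrix.one_apply, Finsupp.single_apply]
    rw [← h1, ← hN k, map_sum, Finsupp.coe_finsetSum, Finset.sum_apply, Matrix.mul_apply]
    refine Finset.sum_congr rfl fun i _ => ?_
    rw [map_smul, hcls i, map_sum, Finsupp.smul_apply, Finsupp.coe_finsetSum, Finset.sum_apply,
      Finset.sum_eq_single j]
    · rw [map_smul, b.repr_self, Finsupp.smul_apply, Finsupp.single_eq_same, smul_eq_mul,
        smul_eq_mul, mul_one]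
      rfl
    · intro j' _ hj'
      rw [map_smul, b.repr_self, Finsupp.smul_apply, Finsupp.single_eq_of_ne hj'.symm, smul_zero]
    · intro h; exact absurd (Finset.mem_univ j) h
  have hdetbar : IsUnit Mbar.det := Matrix.isUnit_det_of_left_inverse hNM
  have hdet : IsUnit (Matrix.of M).det := by
    have h1 : Mbar.det = Ideal.Quotient.mk J (Matrix.of M).det := by
      rw [hMbar, ← RingHom.mapMatrix_apply, ← RingHom.map_det]
    rw [h1] at hdetbar
    obtain ⟨x, hx⟩ := hdetbar.exists_right_inv
    obtain ⟨x, rfl⟩ := Ideal.Quotient.mk_surjective x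
    rw [← map_mul, ← map_one (Ideal.Quotient.mk J), Ideal.Quotient.eq] at hx
    have hJm : J ≤ IsLocalRing.maximalIdeal S := IsLocalRing.le_maximalIdeal hJ
    have h2 : IsUnit ((Matrix.of M).det * x) := by
      have h3 : (Matrix.of M).det * x - 1 ∈ IsLocalRing.maximalIdeal S := hJm hx
      have h4 : ¬ IsUnit ((Matrix.of M).det * x - 1) := (IsLocalRing.mem_maximalIdeal _).mp h3
      have h5 := IsLocalRing.isUnit_or_isUnit_of_isUnit_add (a := (Matrix.of M).det * x)
        (b := 1 - (Matrix.of M).det * x) (by simp)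
      rcases h5 with h5 | h5
      · exact h5
      · exfalso
        apply h4
        have : (Matrix.of M).det * x - 1 = -(1 - (Matrix.of M).det * x) := by ring
        rw [this]
        exact h5.neg
    exact isUnit_of_mul_isUnit_left h2
  exact ⟨(Matrix.isUnit_iff_isUnit_det _).mpr hdet |>.unit, hMv⟩

/-- **change of generators**, local case -/
theorem isKoszulRegularSeq_ofFn_of_span_eq [IsLocalRing S] {r : ℕ} (w v : Fin r → S)
    (hreg : LCI.IsKoszulRegularSeq S (List.ofFn w))
    (hvw : Ideal.span (Set.range v) = Ideal.span (Set.range w)) :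
    LCI.IsKoszulRegularSeq S (List.ofFn v) := by
  by_cases hJ : Ideal.span (Set.range w) = ⊤
  · apply isKoszulRegularSeq_of_span_eq_top
    rw [← hJ, ← hvw]
    congr 1
    ext x
    simp [List.mem_ofFn]
  · obtain ⟨g, hg⟩ := exists_unit_mulVec_eq _ hJ w v rfl hreg hvw
    rw [← hg]
    exact isKoszulRegularSeq_mulVec_unit g w hreg

lemma span_range_map_get {R : Type u} [CommRing R] {T : Type u} [CommRing T] (φ : R →+* T)
    (l : List R) :
    Ideal.span (Set.range fun i : Fin l.length => φ (l.get i)) = (Ideal.ofList l).map φ := by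
  rw [Ideal.ofList, Ideal.map_span]
  congr 1
  ext x
  constructor
  · rintro ⟨i, rfl⟩
    exact ⟨l.get i, List.get_mem l i, rfl⟩
  · rintro ⟨y, hy, rfl⟩
    obtain ⟨i, rfl⟩ := List.mem_iff_get.mp hy
    exact ⟨i, rfl⟩

lemma map_eq_ofFn {R : Type u} [CommRing R] {T : Type u} [CommRing T] (φ : R →+* T)
    (l : List R) : l.map φ = List.ofFn (fun i : Fin l.length => φ (l.get i)) := by
  conv_lhs => rw [← List.ofFn_get l]
  rw [List.map_ofFn]
  rfl

/-- **change of generators**: Koszul-regularity only depends on the ideal and the length -/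
theorem isKoszulRegularSeq_of_ofList_eq {R : Type u} [CommRing R] (g f : List R)
    (hlen : f.length = g.length) (hI : Ideal.ofList f = Ideal.ofList g)
    (hg : LCI.IsKoszulRegularSeq R g) : LCI.IsKoszulRegularSeq R f := by
  apply isKoszulRegularSeq_of_localization_maximal
  intro P hP
  have hgP : LCI.IsKoszulRegularSeq (Localization.AtPrime P)
      (g.map (algebraMap R (Localization.AtPrime P))) := isKoszulRegularSeq_map_of_flat hg
  rw [map_eq_ofFn] at hgP ⊢
  rw [List.ofFn_congr hlen]
  refine isKoszulRegularSeq_ofFn_of_span_eq _ _ hgP ?_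
  rw [span_range_map_get, ← hI, ← span_range_map_get]
  congr 1
  ext x
  constructor
  · rintro ⟨i, rfl⟩
    exact ⟨Fin.cast hlen.symm i, rfl⟩
  · rintro ⟨i, rfl⟩
    exact ⟨Fin.cast hlen i, by simp⟩

end Groth.Agent.Lib.Helper16.KzInv
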