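import Mathlib
import Groth.Prelude.Def_Koszul
import Groth.Prelude.Def_LCI2
import Groth.Agent.Lib.Helper16.KzInv5

/-!
# Koszul-regularity after localization, elementwise; pointwise descent along flat maps (helper16)
-/

set_option autoImplicit false
set_option linter.unusedSectionVars false
set_option linter.unusedVariables false
set_option linter.unusedSimpArgs false
universe u
open CategoryTheory CategoryTheory.Limits

namespace Groth.Agent.Lib.Helper16.KzLoc

open Groth.Agent.Lib.Helper16.KzInv

variable {R : Type u} [CommRing R]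

/-- Koszul regularity after inverting `S`, elementwise on the Koszul homology over `R` -/
def KregLoc (l : List R) (S : Submonoid R) : Prop :=
  ∀ i : ℤ, i ≠ 0 → ∀ y : ((Koszul.koszul R l).homology i : ModuleCat.{u} R), ∃ s ∈ S, s • y = 0

lemma KregLoc.mono {l : List R} {S S' : Submonoid R} (h : S ≤ S') (hl : KregLoc l S) :
    KregLoc l S' := fun i hi y => by
  obtain ⟨s, hs, hy⟩ := hl i hi y
  exact ⟨s, h hs, hy⟩

/-- for a flat algebra `T`, Koszul-regularity of the image is vanishing of the tensor products -/
theorem kreg_iff_of_flat (l : List R) (T : Type u) [CommRing T] [Algebra R T] [Module.Flat R T] :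
    LCI.IsKoszulRegularSeq T (l.map (algebraMap R T)) ↔
      ∀ i : ℤ, i ≠ 0 → Subsingleton (TensorProduct R ((Koszul.koszul R l).homology i) T) := by
  unfold LCI.IsKoszulRegularSeq
  exact forall_congr' fun i => imp_congr_right fun _ => isZero_homology_koszul_map_iff l i

theorem kreg_iff_kregLoc (l : List R) (S : Submonoid R) (T : Type u) [CommRing T] [Algebra R T]
    [IsLocalization S T] :
    LCI.IsKoszulRegularSeq T (l.map (algebraMap R T)) ↔ KregLoc l S := by
  have : Module.Flat R T := IsLocalization.flat T S
  rw [kreg_iff_of_flat]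
  refine forall_congr' fun i => imp_congr_right fun _ => ?_
  rw [(TensorProduct.comm R _ _).subsingleton_congr,
    IsLocalizedModule.subsingleton_iff S (TensorProduct.mk R T ((Koszul.koszul R l).homology i) 1)]

theorem kregLoc_top_iff (l : List R) : KregLoc l ⊥ ↔ LCI.IsKoszulRegularSeq R l := by
  constructor
  · intro h i hi
    rw [ModuleCat.isZero_iff_subsingleton, subsingleton_iff_forall_eq 0]
    intro y
    obtain ⟨s, hs, hy⟩ := h i hi y
    rw [Submonoid.mem_bot] at hs
    rw [hs, one_smul] at hy
    exact hy
  · intro h i hi y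
    have := (ModuleCat.isZero_iff_subsingleton).mp (h i hi)
    exact ⟨1, one_mem _, Subsingleton.elim _ _⟩

/-- support characterisation: regular after inverting `g` iff regular at all primes of `D(g)` -/
theorem kregLoc_powers_iff (l : List R) (g : R) :
    KregLoc l (Submonoid.powers g) ↔
      ∀ p : PrimeSpectrum R, g ∉ p.asIdeal → KregLoc l p.asIdeal.primeCompl := by
  constructor
  · intro h p hp
    refine h.mono ?_
    rintro _ ⟨n, rfl⟩
    exact fun hn => hp (p.2.mem_of_pow_mem n hn)
  · intro h i hi y
    -- the annihilator of `y` is not contained in any prime of `D(g)`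
    set 𝔞 : Ideal R := (Submodule.span R {y}).annihilator with h𝔞
    have hy𝔞 : ∀ s, s ∈ 𝔞 ↔ s • y = 0 := by
      intro s
      rw [h𝔞, Submodule.mem_annihilator_span_singleton]
    have hg : g ∈ 𝔞.radical := by
      rw [Ideal.radical_eq_sInf, Ideal.mem_sInf]
      rintro P ⟨h𝔞P, hP⟩
      by_contra hgP
      obtain ⟨s, hs, hsy⟩ := h ⟨P, hP⟩ hgP i hi y
      exact hs (h𝔞P ((hy𝔞 s).mpr hsy))
    obtain ⟨n, hn⟩ := hg
    exact ⟨g ^ n, ⟨n, rfl⟩, (hy𝔞 _).mp hn⟩

section descent

variable {A : Type u} [CommRing A] {B : Type u} [CommRing B] [Algebra A B]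

/-- pointwise descent of vanishing along a flat map (module level) -/
theorem subsingleton_tensor_atPrime_iff [Module.Flat A B] (H : Type u) [AddCommGroup H]
    [Module A H] (q : Ideal B) [q.IsPrime] :
    Subsingleton (TensorProduct A H (Localization.AtPrime q)) ↔
      ∀ x : H, ∃ s : A, s ∉ q.comap (algebraMap A B) ∧ s • x = 0 := by
  set T := Localization.AtPrime q with hT
  constructor
  · intro hsub x
    set 𝔞 : Ideal A := (Submodule.span A {x}).annihilator with h𝔞
    have hx𝔞 : ∀ s, s ∈ 𝔞 ↔ s • x = 0 := by
      intro s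
      rw [h𝔞, Submodule.mem_annihilator_span_singleton]
    by_contra hcon
    push Not at hcon
    have h𝔞p : 𝔞 ≤ q.comap (algebraMap A B) := by
      intro s hs
      by_contra hsq
      exact hcon s hsq ((hx𝔞 s).mp hs)
    -- the injection `A/𝔞 → H`
    let φ : (A ⧸ 𝔞) →ₗ[A] H := Submodule.liftQ 𝔞 (LinearMap.toSpanSingleton A H x) (by
      intro s hs
      rw [LinearMap.mem_ker, LinearMap.toSpanSingleton_apply]
      exact (hx𝔞 s).mp hs)
    have hφ : Function.Injective φ := by
      rw [← LinearMap.ker_eq_bot, Submodule.ker_liftQ_eq_bot']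
      ext s
      rw [LinearMap.mem_ker, LinearMap.toSpanSingleton_apply]
      exact hx𝔞 s
    have hinj : Function.Injective (φ.rTensor T) := Module.Flat.rTensor_preserves_injective_linearMap φ hφ
    have hsub' : Subsingleton (TensorProduct A (A ⧸ 𝔞) T) := hinj.subsingleton
    have hsub'' : Subsingleton (T ⧸ (𝔞 • (⊤ : Submodule A T))) :=
      (TensorProduct.quotTensorEquivQuotSMul T 𝔞).symm.subsingleton
    have htop : 𝔞 • (⊤ : Submodule A T) = ⊤ := by
      rwa [Submodule.Quotient.subsingleton_iff] at hsub''
    have h1 : (1 : T) ∈ 𝔞 • (⊤ : Submodule A T) := by rw [htop]; trivial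
    have hle : 𝔞 • (⊤ : Submodule A T) ≤
        (IsLocalRing.maximalIdeal T).restrictScalars A := by
      rw [Submodule.smul_le]
      intro s hs t _
      show s • t ∈ IsLocalRing.maximalIdeal T
      rw [Algebra.smul_def]
      refine Ideal.mul_mem_right _ _ ?_
      rw [IsScalarTower.algebraMap_apply A B T]
      have hsq : algebraMap A B s ∈ q := h𝔞p hs
      rw [← Localization.AtPrime.map_eq_maximalIdeal]
      exact Ideal.mem_map_of_mem _ hsq
    have : (1 : T) ∈ IsLocalRing.maximalIdeal T := hle h1
    exact (IsLocalRing.maximalIdeal.isMaximal T).ne_top ((Ideal.eq_top_iff_one _).mpr this)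
  · intro h
    rw [subsingleton_iff_forall_eq 0]
    intro z
    induction z using TensorProduct.induction_on with
    | zero => rfl
    | add a b ha hb => rw [ha, hb, add_zero]
    | tmul x t =>
      obtain ⟨s, hs, hsx⟩ := h x
      have hu : IsUnit (algebraMap A T s) := by
        rw [IsScalarTower.algebraMap_apply A B T]
        exact IsLocalization.map_units T (⟨algebraMap A B s, hs⟩ : q.primeCompl)
      obtain ⟨u, hu'⟩ := hu.exists_left_inv
      have : t = s • (u * t) := by
        rw [Algebra.smul_def, ← mul_assoc, mul_comm _ u, hu', one_mul]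
      rw [this, TensorProduct.tmul_smul, TensorProduct.smul_tmul', hsx, TensorProduct.zero_tmul]

end descent

section descent2

variable {A : Type u} [CommRing A] {B : Type u} [CommRing B] [Algebra A B]

/-- pointwise descent of Koszul-regularity along a flat map -/
theorem kregLoc_comap_iff [Module.Flat A B] (f : List A) (q : Ideal B) [q.IsPrime] :
    KregLoc (f.map (algebraMap A B)) q.primeCompl ↔
      KregLoc f (q.comap (algebraMap A B)).primeCompl := by
  rw [← kreg_iff_kregLoc (f.map (algebraMap A B)) q.primeCompl (Localization.AtPrime q)]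
  have hl : (f.map (algebraMap A B)).map (algebraMap B (Localization.AtPrime q)) =
      f.map (algebraMap A (Localization.AtPrime q)) := by
    rw [List.map_map]
    congr 1
  rw [hl, kreg_iff_of_flat]
  refine forall_congr' fun i => imp_congr_right fun _ => ?_
  rw [subsingleton_tensor_atPrime_iff]
  rfl

end descent2

end Groth.Agent.Lib.Helper16.KzLoc
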