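import Mathlib
import Groth.Prelude.Def_Koszul
import Groth.Prelude.Def_LCI2
import Groth.Agent.Lib.Helper16.KzLoc1

/-!
# Elementwise localisation of ideals; elementwise form of Koszul-regular ideals (helper16)
-/

set_option autoImplicit false
set_option linter.unusedSectionVars false
set_option linter.unusedVariables false
set_option linter.unusedSimpArgs false
universe u
open CategoryTheory CategoryTheory.Limits

namespace Groth.Agent.Lib.Helper16.KzLoc

open Groth.Agent.Lib.Helper16.KzInv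

variable {R : Type u} [CommRing R]

/-- two ideals agree after inverting `S`, elementwise -/
def LocEq (S : Submonoid R) (J₁ J₂ : Ideal R) : Prop :=
  (∀ x ∈ J₁, ∃ s ∈ S, s * x ∈ J₂) ∧ (∀ x ∈ J₂, ∃ s ∈ S, s * x ∈ J₁)

lemma LocEq.mono {S S' : Submonoid R} (h : S ≤ S') {J₁ J₂ : Ideal R} (hJ : LocEq S J₁ J₂) :
    LocEq S' J₁ J₂ :=
  ⟨fun x hx => let ⟨s, hs, h1⟩ := hJ.1 x hx; ⟨s, h hs, h1⟩,
   fun x hx => let ⟨s, hs, h1⟩ := hJ.2 x hx; ⟨s, h hs, h1⟩⟩

lemma LocEq.symm {S : Submonoid R} {J₁ J₂ : Ideal R} (hJ : LocEq S J₁ J₂) : LocEq S J₂ J₁ :=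
  ⟨hJ.2, hJ.1⟩

lemma LocEq.trans {S : Submonoid R} {J₁ J₂ J₃ : Ideal R} (h : LocEq S J₁ J₂)
    (h' : LocEq S J₂ J₃) : LocEq S J₁ J₃ := by
  constructor
  · intro x hx
    obtain ⟨s, hs, h1⟩ := h.1 x hx
    obtain ⟨t, ht, h2⟩ := h'.1 _ h1
    exact ⟨t * s, S.mul_mem ht hs, by rwa [mul_assoc]⟩
  · intro x hx
    obtain ⟨s, hs, h1⟩ := h'.2 x hx
    obtain ⟨t, ht, h2⟩ := h.2 _ h1
    exact ⟨t * s, S.mul_mem ht hs, by rwa [mul_assoc]⟩

lemma map_le_map_iff (S : Submonoid R) (T : Type u) [CommRing T] [Algebra R T]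
    [IsLocalization S T] (J₁ J₂ : Ideal R) :
    J₁.map (algebraMap R T) ≤ J₂.map (algebraMap R T) ↔ ∀ x ∈ J₁, ∃ s ∈ S, s * x ∈ J₂ := by
  constructor
  · intro h x hx
    have h1 : algebraMap R T x ∈ J₂.map (algebraMap R T) := h (Ideal.mem_map_of_mem _ hx)
    rw [IsLocalization.mem_map_algebraMap_iff S] at h1
    obtain ⟨⟨j, s⟩, hjs⟩ := h1
    rw [← map_mul, IsLocalization.eq_iff_exists S] at hjs
    obtain ⟨c, hc⟩ := hjs
    refine ⟨c * s, S.mul_mem c.2 s.2, ?_⟩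
    have : (c : R) * (s : R) * x = c * (x * s) := by ring
    rw [this, hc]
    exact J₂.mul_mem_left _ j.2
  · intro h
    rw [Ideal.map_le_iff_le_comap]
    intro x hx
    obtain ⟨s, hs, hsx⟩ := h x hx
    rw [Ideal.mem_comap]
    have hu : IsUnit (algebraMap R T s) := IsLocalization.map_units T ⟨s, hs⟩
    have : algebraMap R T (s * x) ∈ J₂.map (algebraMap R T) := Ideal.mem_map_of_mem _ hsx
    rw [map_mul] at this
    exact (Ideal.unit_mul_mem_iff_mem _ hu).mp this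

theorem map_eq_map_iff (S : Submonoid R) (T : Type u) [CommRing T] [Algebra R T]
    [IsLocalization S T] (J₁ J₂ : Ideal R) :
    J₁.map (algebraMap R T) = J₂.map (algebraMap R T) ↔ LocEq S J₁ J₂ := by
  rw [le_antisymm_iff, map_le_map_iff S T, map_le_map_iff S T]
  rfl

lemma span_mem_list_eq (T : Type u) [CommRing T] [Algebra R T] (l : List R) :
    Ideal.span {x | x ∈ l.map (algebraMap R T)} = (Ideal.ofList l).map (algebraMap R T) := by
  rw [Ideal.ofList, Ideal.map_span]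
  congr 1
  ext x
  simp [List.mem_map]

lemma KregLoc.mul_right {l : List R} {g : R} (h : KregLoc l (Submonoid.powers g)) (c : R) :
    KregLoc l (Submonoid.powers (g * c)) := by
  intro i hi y
  obtain ⟨_, ⟨n, rfl⟩, hy⟩ := h i hi y
  refine ⟨(g * c) ^ n, ⟨n, rfl⟩, ?_⟩
  rw [mul_pow, mul_comm, mul_smul, hy, smul_zero]

lemma LocEq.mul_right {J₁ J₂ : Ideal R} {g : R} (h : LocEq (Submonoid.powers g) J₁ J₂) (c : R) :
    LocEq (Submonoid.powers (g * c)) J₁ J₂ := by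
  constructor
  · intro x hx
    obtain ⟨_, ⟨n, rfl⟩, h1⟩ := h.1 x hx
    refine ⟨(g * c) ^ n, ⟨n, rfl⟩, ?_⟩
    rw [mul_pow, mul_comm (g ^ n), mul_assoc]
    exact J₂.mul_mem_left _ h1
  · intro x hx
    obtain ⟨_, ⟨n, rfl⟩, h1⟩ := h.2 x hx
    refine ⟨(g * c) ^ n, ⟨n, rfl⟩, ?_⟩
    rw [mul_pow, mul_comm (g ^ n), mul_assoc]
    exact J₁.mul_mem_left _ h1

lemma powers_le_primeCompl {g : R} {p : Ideal R} [p.IsPrime] (hg : g ∉ p) :
    Submonoid.powers g ≤ p.primeCompl := by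
  rintro _ ⟨n, rfl⟩
  exact fun hn => hg (Ideal.IsPrime.mem_of_pow_mem inferInstance n hn)

lemma exists_list_of_away (g : R) (l : List (Localization.Away g)) :
    ∃ l₀ : List R, List.Forall₂ (fun y' y => ∃ u, IsUnit u ∧ y' = u * y)
      (l₀.map (algebraMap R (Localization.Away g))) l := by
  induction l with
  | nil => exact ⟨[], List.Forall₂.nil⟩
  | cons y t ih =>
    obtain ⟨t₀, ht₀⟩ := ih
    obtain ⟨⟨x, s⟩, hxs⟩ := IsLocalization.surj (Submonoid.powers g) y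
    refine ⟨x :: t₀, ?_⟩
    rw [List.map_cons]
    refine List.Forall₂.cons ⟨algebraMap R _ s, IsLocalization.map_units _ s, ?_⟩ ht₀
    rw [← hxs, mul_comm]

lemma ofList_eq_of_forall₂_unit {T : Type u} [CommRing T] {l' l : List T}
    (h : List.Forall₂ (fun y' y => ∃ u, IsUnit u ∧ y' = u * y) l' l) :
    Ideal.ofList l' = Ideal.ofList l := by
  induction h with
  | nil => rfl
  | @cons y' y t' t hy _ ih =>
    obtain ⟨u, hu, rfl⟩ := hy
    rw [Ideal.ofList_cons, Ideal.ofList_cons, ih, Ideal.span_singleton_mul_left_unit hu]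

open Groth.Agent.Lib.Helper16.KzInv in
lemma kreg_of_forall₂_unit {T : Type u} [CommRing T] {l' l : List T}
    (h : List.Forall₂ (fun y' y => ∃ u, IsUnit u ∧ y' = u * y) l' l)
    (hl : LCI.IsKoszulRegularSeq T l) : LCI.IsKoszulRegularSeq T l' :=
  isKoszulRegularSeq_of_dIso (dIso_forall₂_unit _ l' l h).symm hl

/-- elementwise form of the definition of a Koszul-regular ideal -/
theorem isKoszulRegularIdeal_iff (J : Ideal R) :
    LCI.IsKoszulRegularIdeal J ↔ ∀ 𝔭 : PrimeSpectrum R, J ≤ 𝔭.asIdeal → ∃ g : R, g ∉ 𝔭.asIdeal ∧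
      ∃ l₀ : List R, KregLoc l₀ (Submonoid.powers g) ∧
        LocEq (Submonoid.powers g) J (Ideal.ofList l₀) := by
  constructor
  · intro h 𝔭 h𝔭
    obtain ⟨g, hg, l, hl, hJl⟩ := h 𝔭 h𝔭
    obtain ⟨l₀, hl₀⟩ := exists_list_of_away g l
    refine ⟨g, hg, l₀, ?_, ?_⟩
    · rw [← kreg_iff_kregLoc l₀ (Submonoid.powers g) (Localization.Away g)]
      exact kreg_of_forall₂_unit hl₀ hl
    · rw [← map_eq_map_iff (Submonoid.powers g) (Localization.Away g), hJl, ← span_mem_list_eq]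
      exact (ofList_eq_of_forall₂_unit hl₀).symm
  · intro h 𝔭 h𝔭
    obtain ⟨g, hg, l₀, hl₀, hJ⟩ := h 𝔭 h𝔭
    refine ⟨g, hg, l₀.map (algebraMap R (Localization.Away g)), ?_, ?_⟩
    · rw [kreg_iff_kregLoc l₀ (Submonoid.powers g) (Localization.Away g)]
      exact hl₀
    · rw [span_mem_list_eq, map_eq_map_iff (Submonoid.powers g) (Localization.Away g)]
      exact hJ

end Groth.Agent.Lib.Helper16.KzLoc
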