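import Mathlib
import Groth.Prelude.Def_Koszul
import Groth.Prelude.Def_LCI2
import Groth.Agent.Lib.Helper16.KzLoc2

/-!
# Minimal generators from generating sets (local rings); Koszul-regular data at a prime (helper16)
-/

set_option autoImplicit false
set_option linter.unusedSectionVars false
set_option linter.unusedVariables false
set_option linter.unusedSimpArgs false
universe u
open CategoryTheory CategoryTheory.Limits TensorProduct

namespace Groth.Agent.Lib.Helper16.KzLoc

open Groth.Agent.Lib.Helper16.KzInv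

section MG

variable {T : Type u} [CommRing T] [IsLocalRing T] {M : Type u} [AddCommGroup M] [Module T M]
  [Module.Finite T M]

/-- a generating set of a finite module over a local ring contains a minimal generating family -/
theorem exists_fin_of_span_eq_top (Gen : Set M) (hGen : Submodule.span T Gen = ⊤) :
    ∃ (n : ℕ) (v : Fin n → M), (∀ i, v i ∈ Gen) ∧ Submodule.span T (Set.range v) = ⊤ ∧
      LinearIndependent (IsLocalRing.ResidueField T)
        (fun i => (1 : IsLocalRing.ResidueField T) ⊗ₜ[T] v i) := by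
  classical
  set k := IsLocalRing.ResidueField T
  set φ : M →ₗ[T] k ⊗[T] M := TensorProduct.mk T k M 1 with hφ
  set W : Set (k ⊗[T] M) := φ '' Gen with hW
  have hWtop : Submodule.span k W = ⊤ := by
    have h1 : (Submodule.span T Gen).map φ = ⊤ := by
      rw [IsLocalRing.map_tensorProduct_mk_eq_top]; exact hGen
    rw [Submodule.map_span] at h1
    rw [← Submodule.restrictScalars_eq_top_iff (S := T) (R := k),
      Submodule.restrictScalars_span T k Ideal.Quotient.mk_surjective]
    exact h1
  obtain ⟨b, hbW, hbspan, hbli⟩ := exists_linearIndependent k W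
  have hbfin : b.Finite := hbli.setFinite
  have : Fintype b := hbfin.fintype
  set n := Fintype.card b
  let e : Fin n ≃ b := (Fintype.equivFin b).symm
  have hpre : ∀ i : Fin n, ∃ x ∈ Gen, φ x = (e i : k ⊗[T] M) := fun i => hbW (e i).2
  choose v hvGen hv using hpre
  refine ⟨n, v, hvGen, ?_, ?_⟩
  · rw [← IsLocalRing.map_tensorProduct_mk_eq_top, Submodule.map_span]
    have himg : (TensorProduct.mk T k M 1) '' Set.range v = b := by
      ext z
      constructor
      · rintro ⟨_, ⟨i, rfl⟩, rfl⟩
        rw [← hφ, hv i]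
        exact (e i).2
      · intro hz
        obtain ⟨i, hi⟩ := e.surjective ⟨z, hz⟩
        refine ⟨v i, ⟨i, rfl⟩, ?_⟩
        rw [← hφ, hv i, hi]
    rw [himg]
    have h2 : (Submodule.span k b).restrictScalars T = ⊤ := by
      rw [hbspan, hWtop]; rfl
    rw [Submodule.restrictScalars_span T k Ideal.Quotient.mk_surjective] at h2
    exact h2
  · have : (fun i => (1 : k) ⊗ₜ[T] v i) = (fun x : b => (x : k ⊗[T] M)) ∘ e := by
      funext i
      exact hv i
    rw [this]
    exact hbli.comp e e.injective

end MG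

section MGideal

variable {T : Type u} [CommRing T] [IsLocalRing T]

lemma span_preimage_eq_top (J : Ideal T) (Gen : Set T) (hGen : Ideal.span Gen = J) :
    Submodule.span T {x : J | (x : T) ∈ Gen} = ⊤ := by
  rw [eq_top_iff]
  rintro ⟨x, hx⟩ -
  have hx' : x ∈ Ideal.span Gen := hGen ▸ hx
  have hsub : Gen ⊆ J := fun y hy => hGen ▸ Ideal.subset_span hy
  have key : ∀ y (hy : y ∈ Ideal.span Gen), ∃ hyJ : y ∈ J,
      (⟨y, hyJ⟩ : J) ∈ Submodule.span T {x : J | (x : T) ∈ Gen} := by
    intro y hy
    induction hy using Submodule.span_induction with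
    | mem y hy => exact ⟨hsub hy, Submodule.subset_span hy⟩
    | zero => exact ⟨J.zero_mem, Submodule.zero_mem _⟩
    | add a b _ _ ha hb =>
      obtain ⟨ha1, ha2⟩ := ha
      obtain ⟨hb1, hb2⟩ := hb
      exact ⟨J.add_mem ha1 hb1, Submodule.add_mem _ ha2 hb2⟩
    | smul c a _ ha =>
      obtain ⟨ha1, ha2⟩ := ha
      exact ⟨J.mul_mem_left c ha1, Submodule.smul_mem _ c ha2⟩
  obtain ⟨_, h⟩ := key x hx'
  exact h

lemma span_range_coe (J : Ideal T) {n : ℕ} (v' : Fin n → J)
    (h : Submodule.span T (Set.range v') = ⊤) :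
    Ideal.span (Set.range fun i => (v' i : T)) = J := by
  have h1 : (Submodule.span T (Set.range v')).map J.subtype = J := by
    rw [h, Submodule.map_top, Submodule.range_subtype]
  rw [Submodule.map_span] at h1
  have h2 : (J.subtype '' Set.range v') = Set.range fun i => (v' i : T) := by
    ext x
    constructor
    · rintro ⟨_, ⟨i, rfl⟩, rfl⟩
      exact ⟨i, rfl⟩
    · rintro ⟨i, rfl⟩
      exact ⟨v' i, ⟨i, rfl⟩, rfl⟩
  rw [h2] at h1
  exact h1

/-- in a local ring, a generating set of an ideal generated by a Koszul-regular sequence of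
length `r` contains `r` generators -/
theorem exists_generators_of_kreg (J : Ideal T) (hJ : J ≠ ⊤) {r : ℕ} (w : Fin r → T)
    (hwJ : Ideal.span (Set.range w) = J) (hreg : LCI.IsKoszulRegularSeq T (List.ofFn w))
    (Gen : Set T) (hGen : Ideal.span Gen = J) :
    ∃ v : Fin r → T, (∀ i, v i ∈ Gen) ∧ Ideal.span (Set.range v) = J := by
  classical
  have hfg : J.FG := by
    rw [← hwJ]
    exact ⟨(Finset.univ.image w), by simp⟩
  have : Module.Finite T J := Module.Finite.iff_fg.mpr hfg
  obtain ⟨n, v', hv'Gen, hv'span, hv'li⟩ :=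
    exists_fin_of_span_eq_top (T := T) (M := J) {x : J | (x : T) ∈ Gen}
      (span_preimage_eq_top J Gen hGen)
  have hvJ : Ideal.span (Set.range fun i => (v' i : T)) = J := span_range_coe J v' hv'span
  have h1 : r ≤ n := length_le_of_kreg J hJ w hwJ hreg (fun i => (v' i : T)) hvJ
  -- the other inequality
  have hw : ∀ i, w i ∈ J := fun i => hwJ ▸ Ideal.subset_span ⟨i, rfl⟩
  set k := IsLocalRing.ResidueField T
  have hwspan : Submodule.span T (Set.range fun i => (⟨w i, hw i⟩ : J)) = ⊤ := by
    have := span_preimage_eq_top J (Set.range w) hwJ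
    rw [eq_top_iff, ← this, Submodule.span_le]
    rintro ⟨x, hx⟩ ⟨i, hi⟩
    refine Submodule.subset_span ⟨i, ?_⟩
    exact Subtype.ext hi
  have hwtop : Submodule.span k (Set.range fun i => (1 : k) ⊗ₜ[T] (⟨w i, hw i⟩ : J)) = ⊤ := by
    have h2 : (Submodule.span T (Set.range fun i => (⟨w i, hw i⟩ : J))).map
        (TensorProduct.mk T k J 1) = ⊤ := by
      rw [IsLocalRing.map_tensorProduct_mk_eq_top]; exact hwspan
    rw [Submodule.map_span, ← Set.range_comp] at h2
    rw [← Submodule.restrictScalars_eq_top_iff (S := T) (R := k),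
      Submodule.restrictScalars_span T k Ideal.Quotient.mk_surjective]
    exact h2
  have h2 : n ≤ r := by
    have := linearIndependent_le_span _ hv'li
      (Set.range fun i => (1 : k) ⊗ₜ[T] (⟨w i, hw i⟩ : J)) hwtop
    rw [Cardinal.mk_fintype, Fintype.card_fin, Nat.cast_le] at this
    refine this.trans ?_
    calc Fintype.card (Set.range fun i => (1 : k) ⊗ₜ[T] (⟨w i, hw i⟩ : J))
        ≤ Fintype.card (Fin r) := Fintype.card_range_le _
      _ = r := Fintype.card_fin r
  have hnr : n = r := le_antisymm h2 h1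
  subst hnr
  exact ⟨fun i => (v' i : T), fun i => hv'Gen i, hvJ⟩

end MGideal

section atPrime

variable {R : Type u} [CommRing R] (q : Ideal R) [q.IsPrime]

lemma map_ne_top_of_le {J : Ideal R} (hJ : J ≤ q) :
    J.map (algebraMap R (Localization.AtPrime q)) ≠ ⊤ := by
  intro h
  have h1 : J.map (algebraMap R (Localization.AtPrime q)) ≤
      IsLocalRing.maximalIdeal (Localization.AtPrime q) := by
    rw [← Localization.AtPrime.map_eq_maximalIdeal]
    exact Ideal.map_mono hJ
  rw [h] at h1
  exact (IsLocalRing.maximalIdeal.isMaximal _).ne_top (top_le_iff.mp h1)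

lemma kreg_atPrime_data {J : Ideal R} {l : List R} (hl : KregLoc l q.primeCompl)
    (hJl : LocEq q.primeCompl J (Ideal.ofList l)) :
    LCI.IsKoszulRegularSeq (Localization.AtPrime q)
        (List.ofFn fun i : Fin l.length => algebraMap R (Localization.AtPrime q) (l.get i)) ∧
      Ideal.span (Set.range fun i : Fin l.length =>
        algebraMap R (Localization.AtPrime q) (l.get i)) =
        J.map (algebraMap R (Localization.AtPrime q)) := by
  constructor
  · rw [← map_eq_ofFn, kreg_iff_kregLoc l q.primeCompl]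
    exact hl
  · rw [span_range_map_get, (map_eq_map_iff q.primeCompl (Localization.AtPrime q) _ _).mpr hJl]

theorem length_le_of_kregLoc_atPrime {J : Ideal R} (hJ : J ≤ q) {l m : List R}
    (hl : KregLoc l q.primeCompl) (hJl : LocEq q.primeCompl J (Ideal.ofList l))
    (hJm : LocEq q.primeCompl J (Ideal.ofList m)) : l.length ≤ m.length := by
  obtain ⟨h1, h2⟩ := kreg_atPrime_data q hl hJl
  refine length_le_of_kreg _ (map_ne_top_of_le q hJ) _ h2 h1
    (fun i : Fin m.length => algebraMap R (Localization.AtPrime q) (m.get i)) ?_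
  rw [span_range_map_get, (map_eq_map_iff q.primeCompl (Localization.AtPrime q) _ _).mpr hJm]

theorem kregLoc_atPrime_of_length_eq {J : Ideal R} {l m : List R}
    (hl : KregLoc l q.primeCompl) (hJl : LocEq q.primeCompl J (Ideal.ofList l))
    (hJm : LocEq q.primeCompl J (Ideal.ofList m)) (hlen : m.length = l.length) :
    KregLoc m q.primeCompl := by
  rw [← kreg_iff_kregLoc m q.primeCompl (Localization.AtPrime q)]
  rw [← kreg_iff_kregLoc l q.primeCompl (Localization.AtPrime q)] at hl
  refine isKoszulRegularSeq_of_ofList_eq _ _ (by simpa using hlen) ?_ hl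
  rw [Ideal.ofList, Ideal.ofList, span_mem_list_eq, span_mem_list_eq,
    ← (map_eq_map_iff q.primeCompl (Localization.AtPrime q) _ _).mpr hJm,
    ← (map_eq_map_iff q.primeCompl (Localization.AtPrime q) _ _).mpr hJl]

theorem exists_list_of_kregLoc_atPrime {J : Ideal R} (hJ : J ≤ q) {l : List R}
    (hl : KregLoc l q.primeCompl) (hJl : LocEq q.primeCompl J (Ideal.ofList l))
    (Gen : Set R) (hGen : Ideal.span Gen = J) :
    ∃ m : List R, (∀ x ∈ m, x ∈ Gen) ∧ m.length = l.length ∧
      LocEq q.primeCompl J (Ideal.ofList m) := by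
  obtain ⟨h1, h2⟩ := kreg_atPrime_data q hl hJl
  obtain ⟨v, hvGen, hvJ⟩ := exists_generators_of_kreg _ (map_ne_top_of_le q hJ) _ h2 h1
    (algebraMap R (Localization.AtPrime q) '' Gen) (by rw [← Ideal.map_span, hGen])
  choose μ hμGen hμ using hvGen
  refine ⟨List.ofFn μ, ?_, by simp, ?_⟩
  · intro x hx
    obtain ⟨i, rfl⟩ := (List.mem_ofFn' _ _).mp hx
    exact hμGen i
  · rw [← map_eq_map_iff q.primeCompl (Localization.AtPrime q), ← hvJ, Ideal.ofList,
      Ideal.map_span]
    congr 1
    ext x
    constructor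
    · rintro ⟨i, rfl⟩
      exact ⟨μ i, by simp, hμ i⟩
    · rintro ⟨y, hy, rfl⟩
      obtain ⟨i, rfl⟩ := (List.mem_ofFn' _ _).mp hy
      exact ⟨i, (hμ i).symm⟩

end atPrime

end Groth.Agent.Lib.Helper16.KzLoc
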