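import Mathlib
import Groth.Prelude.Def_Koszul
import Groth.Prelude.Def_LCI2
import Groth.Agent.Lib.Helper16.KzLoc3
import Groth.Agent.Lib.Helper11.KzBasic

/-!
# Pointwise descent of ideal membership along flat maps; Koszul-regular ideals are f.g. (helper16)
-/

set_option autoImplicit false
set_option linter.unusedSectionVars false
set_option linter.unusedVariables false
set_option linter.unusedSimpArgs false
universe u
open CategoryTheory CategoryTheory.Limits TensorProduct

namespace Groth.Agent.Lib.Helper16.KzLoc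

open Groth.Agent.Lib.Helper16.KzInv

section PD

variable {A : Type u} [CommRing A] {B : Type u} [CommRing B] [Algebra A B]

/-- elementwise pointwise descent along a flat map -/
theorem exists_smul_eq_zero_of_tmul_eq_zero [Module.Flat A B] (H : Type u) [AddCommGroup H]
    [Module A H] (x : H) (q : Ideal B) [q.IsPrime] (b : B) (hb : b ∉ q)
    (hxb : x ⊗ₜ[A] b = 0) : ∃ s : A, s ∉ q.comap (algebraMap A B) ∧ s • x = 0 := by
  set 𝔞 : Ideal A := (Submodule.span A {x}).annihilator with h𝔞
  have hx𝔞 : ∀ s, s ∈ 𝔞 ↔ s • x = 0 := by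
    intro s
    rw [h𝔞, Submodule.mem_annihilator_span_singleton]
  by_contra hcon
  push Not at hcon
  have h𝔞p : 𝔞 ≤ q.comap (algebraMap A B) := by
    intro s hs
    by_contra hsq
    exact hcon s hsq ((hx𝔞 s).mp hs)
  let φ : (A ⧸ 𝔞) →ₗ[A] H := Submodule.liftQ 𝔞 (LinearMap.toSpanSingleton A H x) (by
    intro s hs
    rw [LinearMap.mem_ker, LinearMap.toSpanSingleton_apply]
    exact (hx𝔞 s).mp hs)
  have hφ : Function.Injective φ := by
    rw [← LinearMap.ker_eq_bot, Submodule.ker_liftQ_eq_bot']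
    ext s
    rw [LinearMap.mem_ker, LinearMap.toSpanSingleton_apply]
    exact hx𝔞 s
  have hinj : Function.Injective (φ.rTensor B) :=
    Module.Flat.rTensor_preserves_injective_linearMap φ hφ
  have h0 : (Ideal.Quotient.mk 𝔞 1 : A ⧸ 𝔞) ⊗ₜ[A] b = 0 := by
    apply hinj
    rw [map_zero, LinearMap.rTensor_tmul]
    have : φ (Ideal.Quotient.mk 𝔞 1) = x := by
      show (LinearMap.toSpanSingleton A H x) 1 = x
      rw [LinearMap.toSpanSingleton_apply, one_smul]
    rw [this, hxb]
  have h1 := congrArg (TensorProduct.quotTensorEquivQuotSMul B 𝔞) h0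
  rw [map_zero] at h1
  have h2 : (TensorProduct.quotTensorEquivQuotSMul B 𝔞)
      ((Ideal.Quotient.mk 𝔞 1 : A ⧸ 𝔞) ⊗ₜ[A] b) = Submodule.Quotient.mk ((1 : A) • b) :=
    TensorProduct.quotTensorEquivQuotSMul_mk_tmul 𝔞 1 b
  rw [h2, one_smul, Submodule.Quotient.mk_eq_zero] at h1
  have hle : 𝔞 • (⊤ : Submodule A B) ≤ q.restrictScalars A := by
    rw [Submodule.smul_le]
    intro s hs t _
    show s • t ∈ q
    rw [Algebra.smul_def]
    exact Ideal.mul_mem_right _ _ (h𝔞p hs)
  exact hb (hle h1)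

end PD

section PDideal

variable {A : Type u} [CommRing A] {B : Type u} [CommRing B] [Algebra A B]

theorem exists_mul_mem_of_mul_mem_map [Module.Flat A B] (J : Ideal A) (x₀ : A) (q : Ideal B)
    [q.IsPrime] (b : B) (hb : b ∉ q) (h : b * algebraMap A B x₀ ∈ J.map (algebraMap A B)) :
    ∃ s : A, s ∉ q.comap (algebraMap A B) ∧ s * x₀ ∈ J := by
  have h0 : (Ideal.Quotient.mk J x₀ : A ⧸ J) ⊗ₜ[A] b = 0 := by
    apply (TensorProduct.quotTensorEquivQuotSMul B J).injective
    rw [map_zero]
    have h2 : (TensorProduct.quotTensorEquivQuotSMul B J)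
        ((Ideal.Quotient.mk J x₀ : A ⧸ J) ⊗ₜ[A] b) = Submodule.Quotient.mk (x₀ • b) :=
      TensorProduct.quotTensorEquivQuotSMul_mk_tmul J x₀ b
    rw [h2, Submodule.Quotient.mk_eq_zero, Ideal.smul_top_eq_map]
    show x₀ • b ∈ J.map (algebraMap A B)
    rw [Algebra.smul_def, mul_comm]
    exact h
  obtain ⟨s, hs, hsx⟩ := exists_smul_eq_zero_of_tmul_eq_zero (A ⧸ J) (Ideal.Quotient.mk J x₀) q b hb h0
  refine ⟨s, hs, ?_⟩
  rw [← Ideal.Quotient.eq_zero_iff_mem, map_mul]
  exact hsx

end PDideal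

section general

variable {R : Type u} [CommRing R]

lemma ofList_fg (l : List R) : (Ideal.ofList l).FG := by
  classical
  exact ⟨l.toFinset, by simp [Ideal.ofList]⟩

/-- elements of the ideal kill Koszul homology -/
lemma smul_koszul_homology_eq_zero (l : List R) {a : R} (ha : a ∈ Ideal.ofList l) (i : ℤ)
    (y : ((Koszul.koszul R l).homology i : ModuleCat.{u} R)) : a • y = 0 := by
  refine Groth.Agent.Lib.Helper11.Kz.smul_homology_eq_zero _ a ?_ i y
  rw [Groth.Agent.Lib.Helper11.Kz.koszul_eq]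
  exact Groth.Agent.Lib.Helper28.Koszul.koszulCx_smul_homotopic_zero _ l a ha

lemma kregLoc_of_not_le (l : List R) (p : Ideal R) [p.IsPrime] (h : ¬ Ideal.ofList l ≤ p) :
    KregLoc l p.primeCompl := by
  obtain ⟨a, hal, hap⟩ := SetLike.not_le_iff_exists.mp h
  intro i _ y
  exact ⟨a, hap, smul_koszul_homology_eq_zero l hal i y⟩

/-- Koszul-regular ideals are finitely generated -/
theorem fg_of_isKoszulRegularIdeal (J : Ideal R) (h : LCI.IsKoszulRegularIdeal J) : J.FG := by
  rw [isKoszulRegularIdeal_iff] at h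
  refine Ideal.fg_of_localizationSpan
    {b : R | (J.map (algebraMap R (Localization.Away b))).FG} ?_ (fun g => g.2)
  by_contra hne
  obtain ⟨𝔪, h𝔪, hle⟩ := Ideal.exists_le_maximal _ hne
  by_cases hJm : J ≤ 𝔪
  · obtain ⟨g, hg, l₀, _, hJ⟩ := h ⟨𝔪, h𝔪.isPrime⟩ hJm
    apply hg
    apply hle
    apply Ideal.subset_span
    show (J.map (algebraMap R (Localization.Away g))).FG
    rw [(map_eq_map_iff (Submonoid.powers g) (Localization.Away g) _ _).mpr hJ]
    exact (ofList_fg l₀).map _
  · obtain ⟨b, hbJ, hbm⟩ := SetLike.not_le_iff_exists.mp hJm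
    apply hbm
    apply hle
    apply Ideal.subset_span
    show (J.map (algebraMap R (Localization.Away b))).FG
    have : J.map (algebraMap R (Localization.Away b)) = ⊤ :=
      Ideal.eq_top_of_isUnit_mem _ (Ideal.mem_map_of_mem _ hbJ)
        (IsLocalization.Away.algebraMap_isUnit b)
    rw [this]
    exact ⟨{1}, by simp⟩

lemma exists_lift_list {A : Type u} [CommRing A] {B : Type u} [CommRing B] (φ : A →+* B)
    (I : Ideal A) (m : List B) (hm : ∀ x ∈ m, x ∈ φ '' (I : Set A)) :
    ∃ f : List A, (∀ a ∈ f, a ∈ I) ∧ f.map φ = m := by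
  induction m with
  | nil => exact ⟨[], by simp, rfl⟩
  | cons x t ih =>
    obtain ⟨f, hfI, hft⟩ := ih (fun y hy => hm y (List.mem_cons_of_mem _ hy))
    obtain ⟨a, haI, hax⟩ := hm x (List.mem_cons_self)
    refine ⟨a :: f, ?_, by rw [List.map_cons, hax, hft]⟩
    intro b hb
    rcases List.mem_cons.mp hb with rfl | hb
    · exact haI
    · exact hfI b hb

end general

end Groth.Agent.Lib.Helper16.KzLoc
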