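import Mathlib
import Groth.Prelude.Def_Koszul
import Groth.Prelude.Def_LCI2
import Groth.Agent.Lib.Helper16.KzLoc4

/-!
# Faithfully flat descent of Koszul-regular ideals (helper16)
-/

set_option autoImplicit false
set_option linter.unusedSectionVars false
set_option linter.unusedVariables false
set_option linter.unusedSimpArgs false
universe u
open CategoryTheory CategoryTheory.Limits TensorProduct

namespace Groth.Agent.Lib.Helper16.KzLoc

open Groth.Agent.Lib.Helper16.KzInv

variable {A : Type u} [CommRing A] {B : Type u} [CommRing B] [Algebra A B]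

/-- **Faithfully flat descent of Koszul-regular ideals.** -/
theorem isKoszulRegularIdeal_of_faithfullyFlat [Module.FaithfullyFlat A B] (I : Ideal A)
    (h : LCI.IsKoszulRegularIdeal (I.map (algebraMap A B))) : LCI.IsKoszulRegularIdeal I := by
  have hIBfg : (I.map (algebraMap A B)).FG := fg_of_isKoszulRegularIdeal _ h
  have hIfg : I.FG := Ideal.FG.of_FG_map_of_faithfullyFlat hIBfg
  rw [isKoszulRegularIdeal_iff] at h ⊢
  intro 𝔭 h𝔭
  obtain ⟨𝔮, rfl⟩ := PrimeSpectrum.comap_surjective_of_faithfullyFlat (B := B) 𝔭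
  have h𝔮' : 𝔮.asIdeal.comap (algebraMap A B) =
      (PrimeSpectrum.comap (algebraMap A B) 𝔮).asIdeal := rfl
  have hIB𝔮 : I.map (algebraMap A B) ≤ 𝔮.asIdeal := by
    rw [Ideal.map_le_iff_le_comap, h𝔮']; exact h𝔭
  -- local data at `𝔮`
  obtain ⟨g', hg', l', hl', hJl'⟩ := h 𝔮 hIB𝔮
  have hl'q : KregLoc l' 𝔮.asIdeal.primeCompl := hl'.mono (powers_le_primeCompl hg')
  have hJl'q : LocEq 𝔮.asIdeal.primeCompl (I.map (algebraMap A B)) (Ideal.ofList l') :=
    hJl'.mono (powers_le_primeCompl hg')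
  -- generators coming from `I`
  obtain ⟨m, hmGen, hmlen, hJm⟩ := exists_list_of_kregLoc_atPrime 𝔮.asIdeal hIB𝔮 hl'q hJl'q
    (algebraMap A B '' (I : Set A)) rfl
  obtain ⟨f, hfI, hfm⟩ := exists_lift_list (algebraMap A B) I m hmGen
  subst hfm
  have hfq : KregLoc (f.map (algebraMap A B)) 𝔮.asIdeal.primeCompl :=
    kregLoc_atPrime_of_length_eq 𝔮.asIdeal hl'q hJl'q hJm hmlen
  have hfp : KregLoc f (PrimeSpectrum.comap (algebraMap A B) 𝔮).asIdeal.primeCompl :=
    (kregLoc_comap_iff f 𝔮.asIdeal).mp hfq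
  have hfle : Ideal.ofList f ≤ I := by
    rw [Ideal.ofList, Ideal.span_le]
    exact fun a ha => hfI a ha
  have hmap : (Ideal.ofList f).map (algebraMap A B) = Ideal.ofList (f.map (algebraMap A B)) := by
    rw [Ideal.ofList, Ideal.ofList, span_mem_list_eq]
  -- `I` and `(f)` agree at `𝔭`
  have hpt : ∀ x ∈ I, ∃ s : A, s ∉ (PrimeSpectrum.comap (algebraMap A B) 𝔮).asIdeal ∧
      s * x ∈ Ideal.ofList f := by
    intro x hx
    obtain ⟨b, hb, hbx⟩ := hJm.1 (algebraMap A B x) (Ideal.mem_map_of_mem _ hx)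
    rw [← hmap] at hbx
    obtain ⟨s, hs, hsx⟩ := exists_mul_mem_of_mul_mem_map (Ideal.ofList f) x 𝔮.asIdeal b hb hbx
    exact ⟨s, hs, hsx⟩
  -- a common denominator
  obtain ⟨g, hg, hgI⟩ : ∃ g : A, g ∉ (PrimeSpectrum.comap (algebraMap A B) 𝔮).asIdeal ∧
      ∀ x ∈ I, g * x ∈ Ideal.ofList f := by
    classical
    obtain ⟨G, hG⟩ := hIfg
    have hGI : ∀ x ∈ G, x ∈ I := fun x hx => hG ▸ Ideal.subset_span hx
    choose! σ hσ using hpt
    refine ⟨∏ x ∈ G, σ x, ?_, ?_⟩
    · intro hprod
      obtain ⟨x, hx, hσx⟩ := (Ideal.IsPrime.prod_mem_iff (hp := (PrimeSpectrum.comap (algebraMap A B) 𝔮).2)).mp hprod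
      exact (hσ x (hGI x hx)).1 hσx
    · intro x hx
      rw [← hG] at hx
      induction hx using Submodule.span_induction with
      | mem y hy =>
        have hyG : y ∈ G := hy
        rw [← Finset.prod_erase_mul G σ hyG, mul_assoc]
        exact Ideal.mul_mem_left _ _ (hσ y (hGI y hyG)).2
      | zero => rw [mul_zero]; exact Ideal.zero_mem _
      | add a b _ _ ha hb => rw [mul_add]; exact Ideal.add_mem _ ha hb
      | smul c a _ ha =>
        rw [smul_eq_mul, mul_left_comm]
        exact Ideal.mul_mem_left _ _ ha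
  have hJf : LocEq (Submonoid.powers g) I (Ideal.ofList f) :=
    ⟨fun x hx => ⟨g, ⟨1, pow_one g⟩, hgI x hx⟩, fun x hx => ⟨1, ⟨0, pow_zero g⟩, by
      rw [one_mul]; exact hfle hx⟩⟩
  -- the same upstairs
  have hJfB : LocEq (Submonoid.powers (algebraMap A B g)) (I.map (algebraMap A B))
      (Ideal.ofList (f.map (algebraMap A B))) := by
    rw [← hmap]
    refine ⟨fun y hy => ⟨algebraMap A B g, ⟨1, pow_one _⟩, ?_⟩, fun y hy => ⟨1, ⟨0, pow_zero _⟩, ?_⟩⟩
    · induction hy using Submodule.span_induction with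
      | mem y hy =>
        obtain ⟨x, hx, rfl⟩ := hy
        rw [← map_mul]
        exact Ideal.mem_map_of_mem _ (hgI x hx)
      | zero => rw [mul_zero]; exact Ideal.zero_mem _
      | add a b _ _ ha hb => rw [mul_add]; exact Ideal.add_mem _ ha hb
      | smul c a _ ha =>
        rw [smul_eq_mul, mul_left_comm]
        exact Ideal.mul_mem_left _ _ ha
    · rw [one_mul]
      exact Ideal.map_mono hfle hy
  -- the two loci
  set O' : Set (PrimeSpectrum B) := {q' | algebraMap A B g ∉ q'.asIdeal ∧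
    (¬ I.map (algebraMap A B) ≤ q'.asIdeal ∨
      KregLoc (f.map (algebraMap A B)) q'.asIdeal.primeCompl)} with hO'
  set O : Set (PrimeSpectrum A) := {p' | g ∉ p'.asIdeal ∧
    (¬ I ≤ p'.asIdeal ∨ KregLoc f p'.asIdeal.primeCompl)} with hO
  have hpre : PrimeSpectrum.comap (algebraMap A B) ⁻¹' O = O' := by
    ext q'
    simp only [hO, hO', Set.mem_preimage, Set.mem_ofPred_eq]
    have e1 : (g ∉ (PrimeSpectrum.comap (algebraMap A B) q').asIdeal) ↔
        algebraMap A B g ∉ q'.asIdeal := Iff.rfl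
    have e2 : (I ≤ (PrimeSpectrum.comap (algebraMap A B) q').asIdeal) ↔
        I.map (algebraMap A B) ≤ q'.asIdeal := Ideal.map_le_iff_le_comap.symm
    have e3 : KregLoc f (PrimeSpectrum.comap (algebraMap A B) q').asIdeal.primeCompl ↔
        KregLoc (f.map (algebraMap A B)) q'.asIdeal.primeCompl :=
      (kregLoc_comap_iff f q'.asIdeal).symm
    rw [e1, e2, e3]
  have hO'open : IsOpen O' := by
    rw [isOpen_iff_forall_mem_open]
    rintro q' ⟨hgq', hq'⟩
    by_cases hIq' : I.map (algebraMap A B) ≤ q'.asIdeal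
    · have hfq' : KregLoc (f.map (algebraMap A B)) q'.asIdeal.primeCompl := by
        rcases hq' with hq' | hq'
        · exact absurd hIq' hq'
        · exact hq'
      obtain ⟨g'', hg'', l'', hl'', hJl''⟩ := h q' hIq'
      have hlen : (f.map (algebraMap A B)).length = l''.length := by
        apply le_antisymm
        · exact length_le_of_kregLoc_atPrime q'.asIdeal hIq' hfq'
            (hJfB.mono (powers_le_primeCompl hgq')) (hJl''.mono (powers_le_primeCompl hg''))
        · exact length_le_of_kregLoc_atPrime q'.asIdeal hIq'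
            (hl''.mono (powers_le_primeCompl hg'')) (hJl''.mono (powers_le_primeCompl hg''))
            (hJfB.mono (powers_le_primeCompl hgq'))
      refine ⟨PrimeSpectrum.basicOpen (algebraMap A B g * g''), ?_, (PrimeSpectrum.basicOpen _).2, ?_⟩
      · intro q'' hq''
        have hq''2 : algebraMap A B g * g'' ∉ q''.asIdeal := hq''
        have h1 : algebraMap A B g ∉ q''.asIdeal := fun hh => hq''2 (Ideal.mul_mem_right _ _ hh)
        have h2 : g'' ∉ q''.asIdeal := fun hh => hq''2 (Ideal.mul_mem_left _ _ hh)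
        refine ⟨h1, ?_⟩
        by_cases hIq'' : I.map (algebraMap A B) ≤ q''.asIdeal
        · right
          exact kregLoc_atPrime_of_length_eq q''.asIdeal (hl''.mono (powers_le_primeCompl h2))
            (hJl''.mono (powers_le_primeCompl h2)) (hJfB.mono (powers_le_primeCompl h1)) hlen
        · left; exact hIq''
      · show algebraMap A B g * g'' ∉ q'.asIdeal
        intro hh
        rcases q'.2.mem_or_mem hh with hh | hh
        · exact hgq' hh
        · exact hg'' hh
    · obtain ⟨b, hbI, hbq'⟩ := SetLike.not_le_iff_exists.mp hIq'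
      refine ⟨PrimeSpectrum.basicOpen (algebraMap A B g * b), ?_, (PrimeSpectrum.basicOpen _).2, ?_⟩
      · intro q'' hq''
        have hq''2 : algebraMap A B g * b ∉ q''.asIdeal := hq''
        have h1 : algebraMap A B g ∉ q''.asIdeal := fun hh => hq''2 (Ideal.mul_mem_right _ _ hh)
        have h2 : b ∉ q''.asIdeal := fun hh => hq''2 (Ideal.mul_mem_left _ _ hh)
        exact ⟨h1, Or.inl fun hle => h2 (hle hbI)⟩
      · show algebraMap A B g * b ∉ q'.asIdeal
        intro hh
        rcases q'.2.mem_or_mem hh with hh | hh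
        · exact hgq' hh
        · exact hbq' hh
  have hquot : Topology.IsQuotientMap (PrimeSpectrum.comap (algebraMap A B)) :=
    PrimeSpectrum.isQuotientMap_of_generalizingMap
      PrimeSpectrum.comap_surjective_of_faithfullyFlat
      (RingHom.Flat.generalizingMap_comap (RingHom.flat_algebraMap_iff.mpr inferInstance))
  have hOopen : IsOpen O := by
    rw [← hquot.isOpen_preimage, hpre]; exact hO'open
  have hpO : PrimeSpectrum.comap (algebraMap A B) 𝔮 ∈ O := ⟨hg, Or.inr hfp⟩
  obtain ⟨_, ⟨g₂, rfl⟩, hpg₂, hsub⟩ :=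
    PrimeSpectrum.isTopologicalBasis_basic_opens.exists_subset_of_mem_open hpO hOopen
  have hg₂ : g₂ ∉ (PrimeSpectrum.comap (algebraMap A B) 𝔮).asIdeal := hpg₂
  refine ⟨g * g₂, ?_, f, ?_, hJf.mul_right g₂⟩
  · intro hh
    rcases (PrimeSpectrum.comap (algebraMap A B) 𝔮).2.mem_or_mem hh with hh | hh
    · exact hg hh
    · exact hg₂ hh
  · rw [kregLoc_powers_iff]
    intro p' hp'
    have h1 : g ∉ p'.asIdeal := fun hh => hp' (Ideal.mul_mem_right _ _ hh)
    have h2 : g₂ ∉ p'.asIdeal := fun hh => hp' (Ideal.mul_mem_left _ _ hh)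
    have hp'O : p' ∈ O := hsub h2
    rcases hp'O.2 with hnle | hk
    · apply kregLoc_of_not_le
      intro hle
      obtain ⟨x, hxI, hxp'⟩ := SetLike.not_le_iff_exists.mp hnle
      have := hle (hgI x hxI)
      rcases p'.2.mem_or_mem this with hh | hh
      · exact h1 hh
      · exact hxp' hh
    · exact hk

end Groth.Agent.Lib.Helper16.KzLoc
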