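import Mathlib
import Groth.Prelude.Def_Koszul
import Groth.Prelude.Def_LCI2
import Groth.Agent.Lib.Helper28.KoszulTop
import Groth.Agent.Lib.Helper16.KzLoc5

/-!
# Composition of Koszul-regular sequences
-/

set_option autoImplicit false
set_option linter.unusedSectionVars false
set_option linter.unusedVariables false
set_option linter.unusedSimpArgs false
universe u
open CategoryTheory CategoryTheory.Limits

attribute [local instance] HasDerivedCategory.standard

namespace Groth.Agent.Lib.Helper16.KzComp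

open Groth.Agent.Lib.Helper16.KzInv Groth.Agent.Lib.Helper28.Koszul CohIII

variable {R : Type u} [CommRing R]

/-- a complex with homology concentrated in degree `0` is isomorphic in the derived category to
its `H^0` placed in degree `0` -/
theorem dIso_single_of_homology (K : CochainComplex (ModuleCat.{u} R) ℤ)
    (h : ∀ i : ℤ, i ≠ 0 → IsZero (K.homology i)) :
    DIso K ((HomologicalComplex.single (ModuleCat.{u} R) (ComplexShape.up ℤ) 0).obj
      (K.homology 0)) := by
  have hGE : (DerivedCategory.Q.obj K : D R).IsGE 0 := by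
    rw [DerivedCategory.isGE_Q_obj_iff, CochainComplex.isGE_iff]
    intro i hi
    rw [HomologicalComplex.exactAt_iff_isZero_homology]
    exact h i (by omega)
  have hLE : (DerivedCategory.Q.obj K : D R).IsLE 0 := by
    rw [DerivedCategory.isLE_Q_obj_iff, CochainComplex.isLE_iff]
    intro i hi
    rw [HomologicalComplex.exactAt_iff_isZero_homology]
    exact h i (by omega)
  obtain ⟨M, ⟨e⟩⟩ := DerivedCategory.exists_iso_singleFunctor_obj_of_isGE_of_isLE
    (DerivedCategory.Q.obj K : D R) 0
  have e' : (DerivedCategory.Q.obj K : D R) ≅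
      DerivedCategory.Q.obj ((HomologicalComplex.single (ModuleCat.{u} R)
        (ComplexShape.up ℤ) 0).obj M) :=
    e ≪≫ (DerivedCategory.singleFunctorIsoCompQ (ModuleCat.{u} R) 0).app M
  -- identify `M`
  have e1 := (DerivedCategory.homologyFunctorFactors (ModuleCat.{u} R) 0).app K
  have e2 := (DerivedCategory.homologyFunctorFactors (ModuleCat.{u} R) 0).app
    ((HomologicalComplex.single (ModuleCat.{u} R) (ComplexShape.up ℤ) 0).obj M)
  have e3 := (DerivedCategory.homologyFunctor (ModuleCat.{u} R) 0).mapIso e'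
  have e4 : ((HomologicalComplex.single (ModuleCat.{u} R) (ComplexShape.up ℤ) 0).obj M).homology 0
      ≅ M := HomologicalComplex.singleObjHomologySelfIso (ComplexShape.up ℤ) 0 M
  have eM : K.homology 0 ≅ M := e1.symm ≪≫ e3 ≪≫ e2 ≪≫ e4
  exact ⟨e' ≪≫ DerivedCategory.Q.mapIso
    ((HomologicalComplex.single (ModuleCat.{u} R) (ComplexShape.up ℤ) 0).mapIso eM.symm)⟩

/-- restriction of scalars of `B[0]` is `B[0]` -/
noncomputable def rsSingleSelfIso {A : Type u} [CommRing A] {B : Type u} [CommRing B]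
    [Algebra A B] :
    ((ModuleCat.restrictScalars (algebraMap A B)).mapHomologicalComplex
      (ComplexShape.up ℤ)).obj ((HomologicalComplex.single (ModuleCat.{u} B)
        (ComplexShape.up ℤ) 0).obj (ModuleCat.of B B)) ≅
      (HomologicalComplex.single (ModuleCat.{u} A) (ComplexShape.up ℤ) 0).obj (ModuleCat.of A B) :=
  (HomologicalComplex.singleMapHomologicalComplex (ModuleCat.restrictScalars (algebraMap A B))
    (ComplexShape.up ℤ) 0).app (ModuleCat.of B B) ≪≫
    (HomologicalComplex.single _ _ 0).mapIso restrictSelfIso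

/-- Koszul-regularity over an algebra `B` in terms of the Koszul complex over `A` with
coefficients in `B` -/
theorem kreg_map_iff_kz {A : Type u} [CommRing A] {B : Type u} [CommRing B] [Algebra A B]
    (b : List A) :
    LCI.IsKoszulRegularSeq B (b.map (algebraMap A B)) ↔
      ∀ i : ℤ, i ≠ 0 → IsZero ((kz b ((HomologicalComplex.single (ModuleCat.{u} A)
        (ComplexShape.up ℤ) 0).obj (ModuleCat.of A B))).homology i) := by
  rw [isKoszulRegularSeq_iff]
  refine forall_congr' fun i => imp_congr_right fun _ => ?_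
  rw [isZero_homology_kz_map_iff]
  exact ((DIso.of_iso rsSingleSelfIso).kz b).isZero_homology_iff i

/-- the Koszul complex of a Koszul-regular sequence is a resolution of the quotient -/
theorem dIso_koszul_quotient (a : List R) (ha : LCI.IsKoszulRegularSeq R a) :
    DIso (kz a ((HomologicalComplex.single (ModuleCat.{u} R) (ComplexShape.up ℤ) 0).obj
        (ModuleCat.of R R)))
      ((HomologicalComplex.single (ModuleCat.{u} R) (ComplexShape.up ℤ) 0).obj
        (ModuleCat.of R (R ⧸ Ideal.ofList a))) := by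
  rw [isKoszulRegularSeq_iff] at ha
  obtain ⟨e⟩ := nonempty_homologyZero_equiv R a
  have e2 : (R ⧸ (Ideal.ofList a • (⊤ : Submodule R R))) ≃ₗ[R] (R ⧸ Ideal.ofList a) :=
    Submodule.quotEquivOfEq _ _ (by simp)
  have e3 : Nonempty ((kz a ((HomologicalComplex.single (ModuleCat.{u} R) (ComplexShape.up ℤ) 0).obj
      (ModuleCat.of R R))).homology 0 ≅ ModuleCat.of R (R ⧸ Ideal.ofList a)) := by
    rw [← koszulCx_eq_kz]
    exact ⟨(e ≪≫ₗ e2).toModuleIso⟩
  obtain ⟨e3⟩ := e3
  exact (dIso_single_of_homology _ ha).trans (DIso.of_iso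
    ((HomologicalComplex.single (ModuleCat.{u} R) (ComplexShape.up ℤ) 0).mapIso e3))

/-- **Composition of Koszul-regular sequences**: if `a` is Koszul-regular, then `b ++ a` is
Koszul-regular iff the image of `b` in `R/(a)` is. -/
theorem kreg_append_iff (a b : List R) (ha : LCI.IsKoszulRegularSeq R a) :
    LCI.IsKoszulRegularSeq R (b ++ a) ↔
      LCI.IsKoszulRegularSeq (R ⧸ Ideal.ofList a)
        (b.map (Ideal.Quotient.mk (Ideal.ofList a))) := by
  have h2 := kreg_map_iff_kz (A := R) (B := R ⧸ Ideal.ofList a) b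
  rw [show (algebraMap R (R ⧸ Ideal.ofList a)) = Ideal.Quotient.mk (Ideal.ofList a) from rfl] at h2
  rw [h2, isKoszulRegularSeq_iff]
  refine forall_congr' fun i => imp_congr_right fun _ => ?_
  rw [kz_append]
  exact ((dIso_koszul_quotient a ha).kz b).isZero_homology_iff i

lemma dIso_nonempty_homologyIso {K L : CochainComplex (ModuleCat.{u} R) ℤ} (h : DIso K L) (i : ℤ) :
    Nonempty (K.homology i ≅ L.homology i) := by
  obtain ⟨e⟩ := h
  have e1 := (DerivedCategory.homologyFunctorFactors (ModuleCat.{u} R) i).app K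
  have e2 := (DerivedCategory.homologyFunctorFactors (ModuleCat.{u} R) i).app L
  have e3 := (DerivedCategory.homologyFunctor (ModuleCat.{u} R) i).mapIso e
  exact ⟨e1.symm ≪≫ e3 ≪≫ e2⟩

/-- Koszul homology of `b ++ a` over `R` is the Koszul homology of the image of `b` over `R/(a)`,
for Koszul-regular `a` -/
theorem nonempty_homology_append_iso (a b : List R) (ha : LCI.IsKoszulRegularSeq R a) (i : ℤ) :
    Nonempty ((Koszul.koszul R (b ++ a)).homology i ≅
      (ModuleCat.restrictScalars (Ideal.Quotient.mk (Ideal.ofList a))).obj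
        ((Koszul.koszul (R ⧸ Ideal.ofList a)
          (b.map (Ideal.Quotient.mk (Ideal.ofList a)))).homology i)) := by
  have e0 : Koszul.koszul R (b ++ a) = kz (b ++ a) ((HomologicalComplex.single (ModuleCat.{u} R)
      (ComplexShape.up ℤ) 0).obj (ModuleCat.of R R)) := by
    rw [Groth.Agent.Lib.Helper11.Kz.koszul_eq, koszulCx_eq_kz]
  obtain ⟨i0⟩ := dIso_nonempty_homologyIso (DIso.of_eq e0) i
  rw [kz_append] at i0
  obtain ⟨i1⟩ := dIso_nonempty_homologyIso ((dIso_koszul_quotient a ha).kz b) i
  obtain ⟨i2⟩ := dIso_nonempty_homologyIso ((DIso.of_iso (rsSingleSelfIso (A := R)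
    (B := R ⧸ Ideal.ofList a))).kz b) i
  have i3 := (HomologicalComplex.homologyFunctor _ _ i).mapIso
    (rsIso (algebraMap R (R ⧸ Ideal.ofList a)) ((HomologicalComplex.single
      (ModuleCat.{u} (R ⧸ Ideal.ofList a)) (ComplexShape.up ℤ) 0).obj
        (ModuleCat.of (R ⧸ Ideal.ofList a) (R ⧸ Ideal.ofList a))) b)
  have i4 := rsHomologyIso (algebraMap R (R ⧸ Ideal.ofList a))
    (kz (b.map (algebraMap R (R ⧸ Ideal.ofList a))) ((HomologicalComplex.single
      (ModuleCat.{u} (R ⧸ Ideal.ofList a)) (ComplexShape.up ℤ) 0).obj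
        (ModuleCat.of (R ⧸ Ideal.ofList a) (R ⧸ Ideal.ofList a)))) i
  have e5 : Koszul.koszul (R ⧸ Ideal.ofList a) (b.map (algebraMap R (R ⧸ Ideal.ofList a))) =
      kz (b.map (algebraMap R (R ⧸ Ideal.ofList a))) ((HomologicalComplex.single
        (ModuleCat.{u} (R ⧸ Ideal.ofList a)) (ComplexShape.up ℤ) 0).obj
          (ModuleCat.of (R ⧸ Ideal.ofList a) (R ⧸ Ideal.ofList a))) := by
    rw [Groth.Agent.Lib.Helper11.Kz.koszul_eq, koszulCx_eq_kz]
  obtain ⟨i5⟩ := dIso_nonempty_homologyIso (DIso.of_eq e5) i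
  exact ⟨i0 ≪≫ i1 ≪≫ i2.symm ≪≫ i3.symm ≪≫ i4 ≪≫
    (ModuleCat.restrictScalars (algebraMap R (R ⧸ Ideal.ofList a))).mapIso i5.symm⟩

open Groth.Agent.Lib.Helper16.KzLoc in
/-- elementwise (localised) version of `kreg_append_iff` -/
theorem kregLoc_append_iff (a b : List R) (ha : LCI.IsKoszulRegularSeq R a) (S : Submonoid R) :
    KregLoc (b ++ a) S ↔
      KregLoc (b.map (Ideal.Quotient.mk (Ideal.ofList a)))
        (S.map (Ideal.Quotient.mk (Ideal.ofList a))) := by
  constructor
  · intro h i hi y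
    obtain ⟨e⟩ := nonempty_homology_append_iso a b ha i
    obtain ⟨s, hs, hsy⟩ := h i hi (e.inv.hom y)
    refine ⟨Ideal.Quotient.mk _ s, ⟨s, hs, rfl⟩, ?_⟩
    have h1 : e.hom.hom (s • e.inv.hom y) = 0 := by rw [hsy, map_zero]
    rw [map_smul] at h1
    have h2 : e.hom.hom (e.inv.hom y) = y := by
      rw [← ModuleCat.comp_apply, e.inv_hom_id]; rfl
    rw [h2] at h1
    exact h1
  · intro h i hi y
    obtain ⟨e⟩ := nonempty_homology_append_iso a b ha i
    obtain ⟨_, ⟨s, hs, rfl⟩, hsy⟩ := h i hi (e.hom.hom y)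
    refine ⟨s, hs, ?_⟩
    have h1 : e.hom.hom (s • y) = 0 := by
      rw [map_smul]
      exact hsy
    have h2 : e.inv.hom (e.hom.hom (s • y)) = s • y := by
      rw [← ModuleCat.comp_apply, e.hom_inv_id]; rfl
    rw [← h2, h1, map_zero]

end Groth.Agent.Lib.Helper16.KzComp
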