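import Mathlib
import Groth.Prelude.Def_Koszul
import Groth.Prelude.Def_LCI2
import Groth.Agent.Lib.Helper16.KzComp1

/-!
# Spreading out Koszul-regular generators; lifting Koszul-regular ideals from a quotient
-/

set_option autoImplicit false
set_option linter.unusedSectionVars false
set_option linter.unusedVariables false
set_option linter.unusedSimpArgs false
universe u
open CategoryTheory CategoryTheory.Limits TensorProduct

namespace Groth.Agent.Lib.Helper16.KzComp

open Groth.Agent.Lib.Helper16.KzInv Groth.Agent.Lib.Helper16.KzLoc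

variable {R : Type u} [CommRing R]

/-- spreading out: a list in a Koszul-regular ideal `J` which generates `J` at a prime and has the
right length is a Koszul-regular generating sequence on a neighbourhood -/
theorem exists_powers_of_atPrime (J : Ideal R) (hJ : LCI.IsKoszulRegularIdeal J)
    (𝔭 : PrimeSpectrum R) (h𝔭 : J ≤ 𝔭.asIdeal) (f : List R) (hfJ : ∀ x ∈ f, x ∈ J)
    (hloc : LocEq 𝔭.asIdeal.primeCompl J (Ideal.ofList f))
    (hlen : ∀ l' : List R, KregLoc l' 𝔭.asIdeal.primeCompl →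
      LocEq 𝔭.asIdeal.primeCompl J (Ideal.ofList l') → f.length = l'.length) :
    ∃ g : R, g ∉ 𝔭.asIdeal ∧ KregLoc f (Submonoid.powers g) ∧
      LocEq (Submonoid.powers g) J (Ideal.ofList f) := by
  classical
  have hJfg : J.FG := fg_of_isKoszulRegularIdeal J hJ
  rw [isKoszulRegularIdeal_iff] at hJ
  obtain ⟨g', hg', l', hl', hJl'⟩ := hJ 𝔭 h𝔭
  have hfle : Ideal.ofList f ≤ J := by
    rw [Ideal.ofList, Ideal.span_le]
    exact fun a ha => hfJ a ha
  have hflen : f.length = l'.length :=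
    hlen l' (hl'.mono (powers_le_primeCompl hg')) (hJl'.mono (powers_le_primeCompl hg'))
  -- a common denominator
  obtain ⟨g, hg, hgI⟩ : ∃ g : R, g ∉ 𝔭.asIdeal ∧ ∀ x ∈ J, g * x ∈ Ideal.ofList f := by
    obtain ⟨G, hG⟩ := hJfg
    have hGI : ∀ x ∈ G, x ∈ J := fun x hx => hG ▸ Ideal.subset_span hx
    have hpt : ∀ x ∈ J, ∃ s : R, s ∉ 𝔭.asIdeal ∧ s * x ∈ Ideal.ofList f := by
      intro x hx
      obtain ⟨s, hs, hsx⟩ := hloc.1 x hx
      exact ⟨s, hs, hsx⟩
    choose! σ hσ using hpt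
    refine ⟨∏ x ∈ G, σ x, ?_, ?_⟩
    · intro hprod
      obtain ⟨x, hx, hσx⟩ := (Ideal.IsPrime.prod_mem_iff (hp := 𝔭.2)).mp hprod
      exact (hσ x (hGI x hx)).1 hσx
    · intro x hx
      rw [← hG] at hx
      induction hx using Submodule.span_induction with
      | mem y hy =>
        have hyG : y ∈ G := hy
        rw [← Finset.prod_erase_mul G σ hyG, mul_assoc]
        exact Ideal.mul_mem_left _ _ (hσ y (hGI y hyG)).2
      | zero => rw [mul_zero]; exact Ideal.zero_mem _
      | add a b _ _ ha hb => rw [mul_add]; exact Ideal.add_mem _ ha hb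
      | smul c a _ ha =>
        rw [smul_eq_mul, mul_left_comm]
        exact Ideal.mul_mem_left _ _ ha
  have hJf : LocEq (Submonoid.powers g) J (Ideal.ofList f) :=
    ⟨fun x hx => ⟨g, ⟨1, pow_one g⟩, hgI x hx⟩, fun x hx => ⟨1, ⟨0, pow_zero g⟩, by
      rw [one_mul]; exact hfle hx⟩⟩
  refine ⟨g * g', ?_, ?_, hJf.mul_right g'⟩
  · intro hh
    rcases 𝔭.2.mem_or_mem hh with hh | hh
    · exact hg hh
    · exact hg' hh
  · rw [kregLoc_powers_iff]
    intro p' hp'
    have h1 : g ∉ p'.asIdeal := fun hh => hp' (Ideal.mul_mem_right _ _ hh)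
    have h2 : g' ∉ p'.asIdeal := fun hh => hp' (Ideal.mul_mem_left _ _ hh)
    by_cases hJp' : J ≤ p'.asIdeal
    · exact kregLoc_atPrime_of_length_eq p'.asIdeal (hl'.mono (powers_le_primeCompl h2))
        (hJl'.mono (powers_le_primeCompl h2)) (hJf.mono (powers_le_primeCompl h1)) hflen
    · apply kregLoc_of_not_le
      intro hle
      obtain ⟨x, hxI, hxp'⟩ := SetLike.not_le_iff_exists.mp hJp'
      have := hle (hgI x hxI)
      rcases p'.2.mem_or_mem this with hh | hh
      · exact h1 hh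
      · exact hxp' hh

section T1

variable (a : List R)

/-- **Koszul-regular ideals lift along a Koszul-regular quotient.** -/
theorem isKoszulRegularIdeal_comap_mk (ha : LCI.IsKoszulRegularSeq R a)
    (J : Ideal (R ⧸ Ideal.ofList a)) (hJ : LCI.IsKoszulRegularIdeal J) :
    LCI.IsKoszulRegularIdeal (J.comap (Ideal.Quotient.mk (Ideal.ofList a))) := by
  set π := Ideal.Quotient.mk (Ideal.ofList a) with hπ
  have hπs : Function.Surjective π := Ideal.Quotient.mk_surjective
  have hker : RingHom.ker π = Ideal.ofList a := Ideal.mk_ker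
  rw [isKoszulRegularIdeal_iff] at hJ ⊢
  intro 𝔓 h𝔓
  have haK : Ideal.ofList a ≤ J.comap π := by
    intro x hx
    have hx0 : π x = 0 := by rw [← RingHom.mem_ker, hker]; exact hx
    rw [Ideal.mem_comap, hx0]
    exact J.zero_mem
  have ha𝔓 : RingHom.ker π ≤ 𝔓.asIdeal := by
    rw [hker]; exact haK.trans h𝔓
  have hprime : (𝔓.asIdeal.map π).IsPrime := Ideal.map_isPrime_of_surjective hπs ha𝔓
  have hcomap : (𝔓.asIdeal.map π).comap π = 𝔓.asIdeal := by
    rw [Ideal.comap_map_of_surjective π hπs, sup_eq_left]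
    exact ha𝔓
  have hJq : J ≤ 𝔓.asIdeal.map π := by
    intro x hx
    obtain ⟨p, rfl⟩ := hπs x
    exact Ideal.mem_map_of_mem π (h𝔓 hx)
  obtain ⟨g, hg, l₀, hl₀, hJl₀⟩ := hJ ⟨𝔓.asIdeal.map π, hprime⟩ hJq
  obtain ⟨G, rfl⟩ := hπs g
  obtain ⟨Λ, rfl⟩ := (List.map_surjective_iff.mpr hπs) l₀
  have hG : G ∉ 𝔓.asIdeal := fun hh => hg (Ideal.mem_map_of_mem π hh)
  have hmapΛ : (Ideal.ofList Λ).map π = Ideal.ofList (Λ.map π) := Ideal.map_ofList π Λ
  refine ⟨G, hG, Λ ++ a, ?_, ?_, ?_⟩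
  · rw [kregLoc_append_iff a Λ ha, Submonoid.map_powers]
    exact hl₀
  · intro x hx
    obtain ⟨_, ⟨n, rfl⟩, h1⟩ := hJl₀.1 (π x) hx
    refine ⟨G ^ n, ⟨n, rfl⟩, ?_⟩
    have h1' : π (G ^ n * x) ∈ (Ideal.ofList Λ).map π := by
      rw [hmapΛ, map_mul, map_pow]; exact h1
    rw [Ideal.mem_map_iff_of_surjective π hπs] at h1'
    replace h1 := h1'
    obtain ⟨y, hy, hyx⟩ := h1
    rw [Ideal.ofList_append]
    have h2 : G ^ n * x - y ∈ Ideal.ofList a := by
      rw [← hker, RingHom.mem_ker, map_sub, hyx, sub_self]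
    have : G ^ n * x = y + (G ^ n * x - y) := by ring
    rw [this]
    exact Ideal.add_mem _ (Ideal.mem_sup_left hy) (Ideal.mem_sup_right h2)
  · intro x hx
    rw [Ideal.ofList_append] at hx
    have h1 : π x ∈ Ideal.ofList (Λ.map π) := by
      rw [← hmapΛ]
      obtain ⟨y, hy, z, hz, rfl⟩ := Submodule.mem_sup.mp hx
      rw [map_add]
      have hz0 : π z = 0 := by rw [← RingHom.mem_ker, hker]; exact hz
      rw [hz0, add_zero]
      exact Ideal.mem_map_of_mem π hy
    obtain ⟨_, ⟨n, rfl⟩, h2⟩ := hJl₀.2 (π x) h1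
    refine ⟨G ^ n, ⟨n, rfl⟩, ?_⟩
    rw [Ideal.mem_comap, map_mul, map_pow]
    exact h2

end T1

end Groth.Agent.Lib.Helper16.KzComp
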