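import Mathlib
import Groth.Prelude.Def_Koszul
import Groth.Prelude.Def_LCI2
import Groth.Agent.Lib.Helper16.KzComp2

/-!
# Descending Koszul-regular ideals to a Koszul-regular quotient
-/

set_option autoImplicit false
set_option linter.unusedSectionVars false
set_option linter.unusedVariables false
set_option linter.unusedSimpArgs false
universe u
open CategoryTheory CategoryTheory.Limits TensorProduct

namespace Groth.Agent.Lib.Helper16.KzComp

open Groth.Agent.Lib.Helper16.KzInv Groth.Agent.Lib.Helper16.KzLoc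

section MG

variable {T : Type u} [CommRing T] [IsLocalRing T] {M : Type u} [AddCommGroup M] [Module T M]
  [Module.Finite T M]

/-- a family of elements of a generating set which is independent modulo the maximal ideal can be
completed by elements of the generating set to a minimal generating family -/
theorem exists_fin_extension (Gen : Set M) (hGen : Submodule.span T Gen = ⊤) {c : ℕ}
    (a : Fin c → M) (ha : ∀ i, a i ∈ Gen)
    (hli : LinearIndependent (IsLocalRing.ResidueField T)
      (fun i => (1 : IsLocalRing.ResidueField T) ⊗ₜ[T] a i)) :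
    ∃ (n : ℕ) (v : Fin n → M), (∀ i, v i ∈ Gen) ∧
      Submodule.span T (Set.range v ∪ Set.range a) = ⊤ ∧
      ∀ (r : ℕ) (w : Fin r → M), Submodule.span T (Set.range w) = ⊤ → n + c ≤ r := by
  classical
  set k := IsLocalRing.ResidueField T
  set φ : M →ₗ[T] k ⊗[T] M := TensorProduct.mk T k M 1 with hφ
  set W : Set (k ⊗[T] M) := φ '' Gen with hW
  have hWtop : Submodule.span k W = ⊤ := by
    have h1 : (Submodule.span T Gen).map φ = ⊤ := by
      rw [IsLocalRing.map_tensorProduct_mk_eq_top]; exact hGen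
    rw [Submodule.map_span] at h1
    rw [← Submodule.restrictScalars_eq_top_iff (S := T) (R := k),
      Submodule.restrictScalars_span T k Ideal.Quotient.mk_surjective]
    exact h1
  set s : Set (k ⊗[T] M) := Set.range (fun i => (1 : k) ⊗ₜ[T] a i) with hs
  have hsW : s ⊆ W := by
    rintro _ ⟨i, rfl⟩
    exact ⟨a i, ha i, rfl⟩
  have hsli : LinearIndepOn k id s := hli.linearIndepOn_id
  obtain ⟨b, hbW, hsb, hWb, hbli⟩ := exists_linearIndepOn_id_extension hsli hsW
  have hbspan : Submodule.span k b = ⊤ := by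
    rw [eq_top_iff, ← hWtop, Submodule.span_le]
    exact hWb
  have hbli' : LinearIndependent k (fun x : b => (x : k ⊗[T] M)) := hbli
  have hbfin : b.Finite := hbli'.setFinite
  have hdfin : (b \ s).Finite := hbfin.subset Set.sdiff_subset
  have : Fintype ↥(b \ s) := hdfin.fintype
  set n := Fintype.card ↥(b \ s) with hn
  let e : Fin n ≃ ↥(b \ s) := (Fintype.equivFin _).symm
  have hpre : ∀ i : Fin n, ∃ x ∈ Gen, φ x = (e i : k ⊗[T] M) := fun i => hbW (e i).2.1
  choose v hvGen hv using hpre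
  have himg : φ '' (Set.range v ∪ Set.range a) = b := by
    ext z
    constructor
    · rintro ⟨_, ⟨i, rfl⟩ | ⟨i, rfl⟩, rfl⟩
      · rw [hv i]; exact (e i).2.1
      · exact hsb ⟨i, rfl⟩
    · intro hz
      by_cases hzs : z ∈ s
      · obtain ⟨i, rfl⟩ := hzs
        exact ⟨a i, Or.inr ⟨i, rfl⟩, rfl⟩
      · obtain ⟨i, hi⟩ := e.surjective ⟨z, hz, hzs⟩
        refine ⟨v i, Or.inl ⟨i, rfl⟩, ?_⟩
        rw [hv i, hi]
  refine ⟨n, v, hvGen, ?_, ?_⟩
  · rw [← IsLocalRing.map_tensorProduct_mk_eq_top, Submodule.map_span]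
    change Submodule.span T (φ '' _) = ⊤
    rw [himg]
    have h2 : (Submodule.span k b).restrictScalars T = ⊤ := by
      rw [hbspan]; rfl
    rw [Submodule.restrictScalars_span T k Ideal.Quotient.mk_surjective] at h2
    exact h2
  · intro r w hw
    have hwtop : Submodule.span k (Set.range fun i => (1 : k) ⊗ₜ[T] w i) = ⊤ := by
      have h2 : (Submodule.span T (Set.range w)).map (TensorProduct.mk T k M 1) = ⊤ := by
        rw [IsLocalRing.map_tensorProduct_mk_eq_top]; exact hw
      rw [Submodule.map_span, ← Set.range_comp] at h2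
      rw [← Submodule.restrictScalars_eq_top_iff (S := T) (R := k),
        Submodule.restrictScalars_span T k Ideal.Quotient.mk_surjective]
      exact h2
    have : Fintype b := hbfin.fintype
    have h3 := linearIndependent_le_span _ hbli'
      (Set.range fun i => (1 : k) ⊗ₜ[T] w i) hwtop
    rw [Cardinal.mk_fintype, Nat.cast_le] at h3
    have h4 : Fintype.card (Set.range fun i => (1 : k) ⊗ₜ[T] w i) ≤ r :=
      calc Fintype.card (Set.range fun i => (1 : k) ⊗ₜ[T] w i)
          ≤ Fintype.card (Fin r) := Fintype.card_range_le _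
        _ = r := Fintype.card_fin r
    have h5 : (b \ s).ncard + s.ncard = b.ncard := Set.ncard_sdiff_add_ncard_of_subset hsb hbfin
    have h6 : s.ncard = c := by
      rw [hs, Set.ncard_range_of_injective hli.injective, Nat.card_eq_fintype_card,
        Fintype.card_fin]
    have h7 : (b \ s).ncard = n := by
      rw [Set.ncard_eq_toFinset_card', Set.toFinset_card]
    have h8 : b.ncard = Fintype.card b := by
      rw [Set.ncard_eq_toFinset_card', Set.toFinset_card]
    omega

end MG


section Indep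

variable {R : Type u} [CommRing R] (𝔓 : Ideal R) [𝔓.IsPrime]

/-- independence modulo `𝔓 K` gives linear independence in `κ ⊗ K_𝔓` -/
theorem linearIndependent_of_indep (K : Ideal R) {c : ℕ} (a : Fin c → R) (ha : ∀ i, a i ∈ K)
    (hind : ∀ cf : Fin c → R, (∑ i, cf i * a i) ∈ 𝔓 * K → ∀ i, cf i ∈ 𝔓) :
    LinearIndependent (IsLocalRing.ResidueField (Localization.AtPrime 𝔓))
      (fun i => (1 : IsLocalRing.ResidueField (Localization.AtPrime 𝔓)) ⊗ₜ[Localization.AtPrime 𝔓]
        (⟨algebraMap R (Localization.AtPrime 𝔓) (a i), Ideal.mem_map_of_mem _ (ha i)⟩ :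
          ↥(K.map (algebraMap R (Localization.AtPrime 𝔓))))) := by
  classical
  set T := Localization.AtPrime 𝔓 with hT
  set k := IsLocalRing.ResidueField T with hk
  set KT := K.map (algebraMap R T) with hKT
  set a' : Fin c → ↥KT := fun i => ⟨algebraMap R T (a i), Ideal.mem_map_of_mem _ (ha i)⟩ with ha'
  rw [Fintype.linearIndependent_iff]
  intro g hg
  have hsurj : ∀ i, ∃ t : T, IsLocalRing.residue T t = g i := fun i =>
    Ideal.Quotient.mk_surjective (g i)
  choose t ht using hsurj
  have key : ∀ i, g i • ((1 : k) ⊗ₜ[T] a' i) = (1 : k) ⊗ₜ[T] (t i • a' i) := by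
    intro i
    rw [TensorProduct.smul_tmul', ← TensorProduct.smul_tmul, ← ht i, smul_eq_mul, mul_one,
      Algebra.smul_def, mul_one]
    rfl
  replace hg : ∑ i, (1 : k) ⊗ₜ[T] (t i • a' i) = 0 := by
    rw [← hg]
    exact Finset.sum_congr rfl fun i _ => (key i).symm
  rw [← TensorProduct.tmul_sum] at hg
  set m : ↥KT := ∑ i, t i • a' i with hm
  -- `m ∈ 𝔪 • ⊤`
  have hm1 : m ∈ (IsLocalRing.maximalIdeal T) • (⊤ : Submodule T ↥KT) := by
    have h2 : (TensorProduct.quotTensorEquivQuotSMul ↥KT (IsLocalRing.maximalIdeal T))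
        ((Ideal.Quotient.mk (IsLocalRing.maximalIdeal T) 1) ⊗ₜ[T] m) =
          Submodule.Quotient.mk ((1 : T) • m) :=
      TensorProduct.quotTensorEquivQuotSMul_mk_tmul _ _ _
    have h3 : (Ideal.Quotient.mk (IsLocalRing.maximalIdeal T) 1) ⊗ₜ[T] m =
        (0 : (T ⧸ IsLocalRing.maximalIdeal T) ⊗[T] ↥KT) := by
      rw [map_one]; exact hg
    rw [h3, map_zero, one_smul] at h2
    exact (Submodule.Quotient.mk_eq_zero _).mp h2.symm
  have hm2 : (m : T) ∈ IsLocalRing.maximalIdeal T * KT := by
    have h4 : ((IsLocalRing.maximalIdeal T) • (⊤ : Submodule T ↥KT)).map (Submodule.subtype KT) =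
        IsLocalRing.maximalIdeal T • KT := by
      rw [Submodule.map_smul'', Submodule.map_top, Submodule.range_subtype]
    have h5 : (Submodule.subtype KT) m ∈ ((IsLocalRing.maximalIdeal T) •
        (⊤ : Submodule T ↥KT)).map (Submodule.subtype KT) := Submodule.mem_map_of_mem hm1
    rw [h4] at h5
    exact h5
  have hm3 : (m : T) = ∑ i, t i * algebraMap R T (a i) := by
    rw [hm, Submodule.coe_sum]
    rfl
  -- common denominator
  obtain ⟨s₀, hs₀⟩ := IsLocalization.exist_integer_multiples_of_finite 𝔓.primeCompl t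
  choose cf hcf using hs₀
  have hcf' : ∀ i, algebraMap R T (cf i) = algebraMap R T s₀ * t i := by
    intro i
    rw [hcf i, Algebra.smul_def]
  have h6 : algebraMap R T (∑ i, cf i * a i) ∈ (𝔓 * K).map (algebraMap R T) := by
    rw [Ideal.map_mul, Localization.AtPrime.map_eq_maximalIdeal]
    have : algebraMap R T (∑ i, cf i * a i) = algebraMap R T s₀ * (m : T) := by
      rw [hm3, map_sum, Finset.mul_sum]
      refine Finset.sum_congr rfl fun i _ => ?_
      rw [map_mul, hcf' i, mul_assoc]
    rw [this]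
    exact Ideal.mul_mem_left _ _ hm2
  have h7 : (Ideal.span {∑ i, cf i * a i}).map (algebraMap R T) ≤ (𝔓 * K).map (algebraMap R T) := by
    rw [Ideal.map_span, Set.image_singleton, Ideal.span_singleton_le_iff_mem]
    exact h6
  obtain ⟨s₁, hs₁, hs₁x⟩ := (map_le_map_iff 𝔓.primeCompl T _ _).mp h7 _
    (Ideal.mem_span_singleton_self _)
  have h8 : (∑ i, (s₁ * cf i) * a i) ∈ 𝔓 * K := by
    have : (∑ i, (s₁ * cf i) * a i) = s₁ * ∑ i, cf i * a i := by
      rw [Finset.mul_sum]
      exact Finset.sum_congr rfl fun i _ => mul_assoc _ _ _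
    rw [this]; exact hs₁x
  intro i
  have h9 := hind _ h8 i
  have h10 : cf i ∈ 𝔓 := by
    rcases Ideal.IsPrime.mem_or_mem inferInstance h9 with hh | hh
    · exact absurd hh hs₁
    · exact hh
  have h11 : algebraMap R T s₀ * t i ∈ IsLocalRing.maximalIdeal T := by
    rw [← hcf' i, ← Localization.AtPrime.map_eq_maximalIdeal]
    exact Ideal.mem_map_of_mem _ h10
  have hu : IsUnit (algebraMap R T s₀) := IsLocalization.map_units T s₀
  have h12 : t i ∈ IsLocalRing.maximalIdeal T := (Ideal.unit_mul_mem_iff_mem _ hu).mp h11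
  rw [← ht i]
  exact (IsLocalRing.residue_eq_zero_iff _).mpr h12

end Indep


section T2

variable {R : Type u} [CommRing R]

/-- minimal generators of `K` at a prime containing a prescribed independent family -/
theorem exists_list_extension (K : Ideal R) (𝔓 : Ideal R) [𝔓.IsPrime] (hK𝔓 : K ≤ 𝔓) (hKfg : K.FG)
    (a : List R) (ha : ∀ x ∈ a, x ∈ K)
    (hind : ∀ cf : Fin a.length → R, (∑ i, cf i * a.get i) ∈ 𝔓 * K → ∀ i, cf i ∈ 𝔓) :
    ∃ b : List R, (∀ x ∈ b, x ∈ K) ∧ LocEq 𝔓.primeCompl K (Ideal.ofList (b ++ a)) ∧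
      ∀ l' : List R, LocEq 𝔓.primeCompl K (Ideal.ofList l') → (b ++ a).length ≤ l'.length := by
  classical
  set T := Localization.AtPrime 𝔓 with hT
  set KT := K.map (algebraMap R T) with hKT
  have hfin : Module.Finite T ↥KT := Module.Finite.iff_fg.mpr (hKfg.map _)
  set a' : Fin a.length → ↥KT := fun i =>
    ⟨algebraMap R T (a.get i), Ideal.mem_map_of_mem _ (ha _ (List.get_mem a i))⟩ with ha'
  have hli := linearIndependent_of_indep 𝔓 K (fun i => a.get i)
    (fun i => ha _ (List.get_mem a i)) hind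
  set Gen : Set ↥KT := {x : ↥KT | (x : T) ∈ algebraMap R T '' (K : Set R)} with hGen
  have hGentop : Submodule.span T Gen = ⊤ := span_preimage_eq_top KT _ rfl
  obtain ⟨n, v, hvGen, hvspan, hmin⟩ := exists_fin_extension (T := T) (M := ↥KT) Gen hGentop a'
    (fun i => ⟨a.get i, ha _ (List.get_mem a i), rfl⟩) hli
  choose μ hμK hμ using hvGen
  refine ⟨List.ofFn μ, ?_, ?_, ?_⟩
  · intro x hx
    obtain ⟨i, rfl⟩ := (List.mem_ofFn' _ _).mp hx
    exact hμK i
  · rw [← map_eq_map_iff 𝔓.primeCompl T]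
    have h1 : (Submodule.span T (Set.range v ∪ Set.range a')).map (Submodule.subtype KT) = KT := by
      rw [hvspan, Submodule.map_top, Submodule.range_subtype]
    rw [Submodule.map_span] at h1
    rw [← hKT, ← h1, Ideal.ofList, Ideal.map_span]
    congr 1
    ext x
    simp only [Set.mem_image, Set.mem_union, Set.mem_range, Set.mem_ofPred_eq, List.mem_append,
      List.mem_ofFn']
    constructor
    · rintro ⟨y, hy | hy, rfl⟩
      · obtain ⟨i, rfl⟩ := hy
        exact ⟨μ i, Or.inl ⟨i, rfl⟩, hμ i⟩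
      · obtain ⟨i, rfl⟩ := hy
        exact ⟨a.get i, Or.inr (List.get_mem a i), rfl⟩
    · rintro ⟨y, hy | hy, rfl⟩
      · obtain ⟨i, rfl⟩ := hy
        exact ⟨v i, Or.inl ⟨i, rfl⟩, (hμ i).symm⟩
      · obtain ⟨i, rfl⟩ := List.mem_iff_get.mp hy
        exact ⟨a' i, Or.inr ⟨i, rfl⟩, rfl⟩
  · intro l' hl'
    have hKl' : KT = (Ideal.ofList l').map (algebraMap R T) :=
      (map_eq_map_iff 𝔓.primeCompl T _ _).mpr hl'
    have hw : ∀ i : Fin l'.length, algebraMap R T (l'.get i) ∈ KT := by
      intro i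
      rw [hKl']
      exact Ideal.mem_map_of_mem _ (Ideal.subset_span (List.get_mem l' i))
    have hwspan : Submodule.span T (Set.range fun i : Fin l'.length =>
        (⟨algebraMap R T (l'.get i), hw i⟩ : ↥KT)) = ⊤ := by
      have h2 : Ideal.span (Set.range fun i : Fin l'.length => algebraMap R T (l'.get i)) = KT := by
        rw [span_range_map_get, hKl']
      have := span_preimage_eq_top KT _ h2
      rw [eq_top_iff, ← this, Submodule.span_le]
      rintro ⟨x, hx⟩ ⟨i, hi⟩
      refine Submodule.subset_span ⟨i, ?_⟩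
      exact Subtype.ext hi
    have := hmin _ _ hwspan
    simpa using this

variable (a : List R)

/-- **Koszul-regular ideals descend to a Koszul-regular quotient**, provided the sequence is
part of a minimal system of generators at each point. -/
theorem isKoszulRegularIdeal_of_comap_mk (ha : LCI.IsKoszulRegularSeq R a)
    (J : Ideal (R ⧸ Ideal.ofList a))
    (hK : LCI.IsKoszulRegularIdeal (J.comap (Ideal.Quotient.mk (Ideal.ofList a))))
    (hind : ∀ 𝔓 : PrimeSpectrum R, J.comap (Ideal.Quotient.mk (Ideal.ofList a)) ≤ 𝔓.asIdeal →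
      ∀ cf : Fin a.length → R, (∑ i, cf i * a.get i) ∈
        𝔓.asIdeal * J.comap (Ideal.Quotient.mk (Ideal.ofList a)) → ∀ i, cf i ∈ 𝔓.asIdeal) :
    LCI.IsKoszulRegularIdeal J := by
  set π := Ideal.Quotient.mk (Ideal.ofList a) with hπ
  have hπs : Function.Surjective π := Ideal.Quotient.mk_surjective
  have hker : RingHom.ker π = Ideal.ofList a := Ideal.mk_ker
  set K := J.comap π with hKdef
  have haK : Ideal.ofList a ≤ K := by
    intro x hx
    have hx0 : π x = 0 := by rw [← RingHom.mem_ker, hker]; exact hx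
    rw [hKdef, Ideal.mem_comap, hx0]
    exact J.zero_mem
  have haK' : ∀ x ∈ a, x ∈ K := fun x hx => haK (Ideal.subset_span hx)
  have hKfg : K.FG := fg_of_isKoszulRegularIdeal K hK
  rw [isKoszulRegularIdeal_iff]
  intro 𝔮 h𝔮
  set 𝔓 : PrimeSpectrum R := ⟨𝔮.asIdeal.comap π, inferInstance⟩ with h𝔓
  have hK𝔓 : K ≤ 𝔓.asIdeal := Ideal.comap_mono h𝔮
  obtain ⟨b, hbK, hloc, hmin⟩ := exists_list_extension K 𝔓.asIdeal hK𝔓 hKfg a haK'
    (hind 𝔓 hK𝔓)
  have hbaK : ∀ x ∈ b ++ a, x ∈ K := by
    intro x hx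
    rcases List.mem_append.mp hx with hx | hx
    · exact hbK x hx
    · exact haK' x hx
  obtain ⟨G, hG, hGreg, hGloc⟩ := exists_powers_of_atPrime K hK 𝔓 hK𝔓 (b ++ a) hbaK hloc
    (fun l' hl' hKl' => le_antisymm (hmin l' hKl')
      (length_le_of_kregLoc_atPrime 𝔓.asIdeal hK𝔓 hl' hKl' hloc))
  refine ⟨π G, hG, b.map π, ?_, ?_, ?_⟩
  · rw [kregLoc_append_iff a b ha, Submonoid.map_powers] at hGreg
    exact hGreg
  · intro y hy
    obtain ⟨x, rfl⟩ := hπs y
    obtain ⟨_, ⟨n, rfl⟩, h1⟩ := hGloc.1 x hy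
    refine ⟨π G ^ n, ⟨n, rfl⟩, ?_⟩
    rw [← map_pow, ← map_mul, ← Ideal.map_ofList]
    rw [Ideal.ofList_append] at h1
    obtain ⟨y, hy, z, hz, hyz⟩ := Submodule.mem_sup.mp h1
    have hz0 : π z = 0 := by rw [← RingHom.mem_ker, hker]; exact hz
    rw [← hyz, map_add, hz0, add_zero]
    exact Ideal.mem_map_of_mem π hy
  · intro y hy
    refine ⟨1, ⟨0, pow_zero _⟩, ?_⟩
    rw [one_mul]
    rw [← Ideal.map_ofList] at hy
    have h1 : (Ideal.ofList b).map π ≤ K.map π := Ideal.map_mono (by
      rw [Ideal.ofList, Ideal.span_le]; exact fun x hx => hbK x hx)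
    have h2 : K.map π = J := Ideal.map_comap_of_surjective π hπs J
    rw [← h2]
    exact h1 hy

end T2

end Groth.Agent.Lib.Helper16.KzComp
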