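import Mathlib
import Groth.Prelude.Def_Koszul
import Groth.Prelude.Def_LCI2
import Groth.Agent.Lib.Helper11.KzRes
import Groth.Agent.Lib.Helper16.KzComp3

/-!
# Koszul-regular ideals and evaluation maps of polynomial rings; ring isomorphisms
-/

set_option autoImplicit false
set_option linter.unusedSectionVars false
set_option linter.unusedVariables false
set_option linter.unusedSimpArgs false
universe u
open CategoryTheory CategoryTheory.Limits TensorProduct

namespace Groth.Agent.Lib.Helper16.KzComp

open Groth.Agent.Lib.Helper16.KzInv Groth.Agent.Lib.Helper16.KzLoc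

section RingEquiv

variable {R R' : Type u} [CommRing R] [CommRing R']

/-- Koszul-regular sequences transfer along ring isomorphisms -/
theorem kreg_map_ringEquiv (e : R ≃+* R') (l : List R) (h : LCI.IsKoszulRegularSeq R l) :
    LCI.IsKoszulRegularSeq R' (l.map e) := by
  let _ : Algebra R R' := (e : R →+* R').toAlgebra
  have hfl : Module.Flat R R' :=
    RingHom.flat_algebraMap_iff.mp (RingHom.Flat.of_bijective e.bijective)
  exact isKoszulRegularSeq_map_of_flat (A := R) (B := R') h

/-- Koszul-regular ideals transfer along ring isomorphisms -/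
theorem isKoszulRegularIdeal_of_comap_ringEquiv (e : R ≃+* R') (I' : Ideal R')
    (h : LCI.IsKoszulRegularIdeal (I'.comap (e : R →+* R'))) : LCI.IsKoszulRegularIdeal I' := by
  let _ : Algebra R' R := (e.symm : R' →+* R).toAlgebra
  have hff : Module.FaithfullyFlat R' R :=
    RingHom.faithfullyFlat_algebraMap_iff.mp (RingHom.FaithfullyFlat.of_bijective e.symm.bijective)
  apply isKoszulRegularIdeal_of_faithfullyFlat (A := R') (B := R) I'
  have : I'.map (algebraMap R' R) = I'.comap (e : R →+* R') := Ideal.map_symm (f := e)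
  rw [this]
  exact h

theorem isKoszulRegularIdeal_comap_ringEquiv_iff (e : R ≃+* R') (I' : Ideal R') :
    LCI.IsKoszulRegularIdeal (I'.comap (e : R →+* R')) ↔ LCI.IsKoszulRegularIdeal I' := by
  refine ⟨isKoszulRegularIdeal_of_comap_ringEquiv e I', fun h => ?_⟩
  apply isKoszulRegularIdeal_of_comap_ringEquiv e.symm
  have : (I'.comap (e : R →+* R')).comap (e.symm : R' →+* R) = I' := by
    ext x
    simp only [Ideal.mem_comap, RingEquiv.coe_toRingHom, RingEquiv.apply_symm_apply]
  rw [this]
  exact h

end RingEquiv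

section Poly

open MvPolynomial

variable {k : Type u} [CommRing k] {N : ℕ}

/- the next three statements are taken from helper25's `SectionRegular` -/
theorem mem_span_X_of_X_mul_mem (s : Set (Fin N)) (j : Fin N) (hj : j ∉ s)
    (f : MvPolynomial (Fin N) k) (h : X j * f ∈ Ideal.span (X '' s : Set (MvPolynomial (Fin N) k))) :
    f ∈ Ideal.span (X '' s : Set (MvPolynomial (Fin N) k)) := by
  rw [MvPolynomial.mem_ideal_span_X_image] at h ⊢
  intro d hd
  have hmem : Finsupp.single j 1 + d ∈ (X j * f).support := by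
    rw [MvPolynomial.support_X_mul]
    exact Finset.mem_map_of_mem _ hd
  obtain ⟨i, his, hi⟩ := h _ hmem
  refine ⟨i, his, ?_⟩
  have hij : j ≠ i := fun h' => hj (h' ▸ his)
  rw [Finsupp.add_apply, Finsupp.single_apply, if_neg hij, zero_add] at hi
  exact hi

theorem ofList_take_ofFn_X (i : ℕ) :
    Ideal.ofList ((List.ofFn (X : Fin N → MvPolynomial (Fin N) k)).take i) =
      Ideal.span (X '' {j : Fin N | (j : ℕ) < i}) := by
  unfold Ideal.ofList
  congr 1
  ext r
  simp only [Set.mem_ofPred_eq, Set.mem_image]
  rw [List.mem_take_iff_getElem]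
  constructor
  · rintro ⟨a, ha, rfl⟩
    rw [List.length_ofFn] at ha
    refine ⟨⟨a, (lt_min_iff.1 ha).2⟩, (lt_min_iff.1 ha).1, ?_⟩
    rw [List.getElem_ofFn]
  · rintro ⟨j, hj, rfl⟩
    refine ⟨j, ?_, ?_⟩
    · rw [List.length_ofFn]; exact lt_min hj j.2
    · rw [List.getElem_ofFn]

theorem isWeaklyRegular_X : RingTheory.Sequence.IsWeaklyRegular (MvPolynomial (Fin N) k)
    (List.ofFn (X : Fin N → MvPolynomial (Fin N) k)) := by
  refine ⟨fun i hi => ?_⟩
  rw [List.length_ofFn] at hi
  rw [isSMulRegular_on_quot_iff_lsmul_comap_le, List.getElem_ofFn, smul_eq_mul, Ideal.mul_top,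
    ofList_take_ofFn_X]
  intro f hf
  exact mem_span_X_of_X_mul_mem _ ⟨i, hi⟩ (by simp) f hf

theorem kreg_of_isWeaklyRegular {A : Type u} [CommRing A] (rs : List A)
    (hreg : RingTheory.Sequence.IsWeaklyRegular A rs) : LCI.IsKoszulRegularSeq A rs := by
  intro i hi
  have heq := Groth.Agent.Lib.Helper11.Kz.koszul_eq rs
  exact (Groth.Agent.Lib.Helper11.Kz.koszulRegular_of_isWeaklyRegular rs hreg i hi).of_iso
    ((HomologicalComplex.homologyFunctor _ _ i).mapIso (eqToIso heq))

variable (h : Fin N → k)

/-- the translation automorphism `X i ↦ X i - C (h i)` -/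
noncomputable def shiftEquiv : MvPolynomial (Fin N) k ≃ₐ[k] MvPolynomial (Fin N) k :=
  AlgEquiv.ofAlgHom (aeval fun i => X i - C (h i)) (aeval fun i => X i + C (h i))
    (by
      apply MvPolynomial.algHom_ext
      intro i
      simp)
    (by
      apply MvPolynomial.algHom_ext
      intro i
      simp)

@[simp] lemma shiftEquiv_X (i : Fin N) : shiftEquiv h (X i) = X i - C (h i) := by
  simp [shiftEquiv]

/-- the sequence `X i - C (h i)` -/
noncomputable def shiftList : List (MvPolynomial (Fin N) k) := List.ofFn fun i => X i - C (h i)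

lemma shiftList_length : (shiftList h).length = N := by simp [shiftList]

theorem kreg_shiftList : LCI.IsKoszulRegularSeq (MvPolynomial (Fin N) k) (shiftList h) := by
  have h1 := kreg_map_ringEquiv (shiftEquiv h).toRingEquiv _ (kreg_of_isWeaklyRegular _
    (isWeaklyRegular_X (k := k) (N := N)))
  have h2 : (List.ofFn (X : Fin N → MvPolynomial (Fin N) k)).map (shiftEquiv h).toRingEquiv =
      shiftList h := by
    rw [List.map_ofFn, shiftList]
    congr 1
    funext i
    simp
  rw [h2] at h1
  exact h1

theorem ker_eval_eq : RingHom.ker (MvPolynomial.eval h) = Ideal.ofList (shiftList h) := by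
  have hle : Ideal.ofList (shiftList h) ≤ RingHom.ker (MvPolynomial.eval h) := by
    rw [Ideal.ofList, Ideal.span_le]
    intro x hx
    obtain ⟨i, rfl⟩ := (List.mem_ofFn' _ _).mp hx
    simp [RingHom.mem_ker]
  refine le_antisymm ?_ hle
  have key : ∀ p : MvPolynomial (Fin N) k, p - C (MvPolynomial.eval h p) ∈
      Ideal.ofList (shiftList h) := by
    intro p
    induction p using MvPolynomial.induction_on with
    | C a => simp
    | add p q hp hq =>
      have : p + q - C (MvPolynomial.eval h (p + q)) =
          (p - C (MvPolynomial.eval h p)) + (q - C (MvPolynomial.eval h q)) := by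
        rw [map_add, map_add]; ring
      rw [this]
      exact Ideal.add_mem _ hp hq
    | mul_X p i hp =>
      have : p * X i - C (MvPolynomial.eval h (p * X i)) =
          (p - C (MvPolynomial.eval h p)) * X i + C (MvPolynomial.eval h p) * (X i - C (h i)) := by
        rw [map_mul, MvPolynomial.eval_X, map_mul]; ring
      rw [this]
      refine Ideal.add_mem _ (Ideal.mul_mem_right _ _ hp) (Ideal.mul_mem_left _ _ ?_)
      exact Ideal.subset_span ((List.mem_ofFn' _ _).mpr ⟨i, rfl⟩)
  intro p hp
  rw [RingHom.mem_ker] at hp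
  have := key p
  rw [hp, map_zero, sub_zero] at this
  exact this

/-- independence of the `X i - C (h i)` modulo `𝔓 K` -/
theorem indep_shiftList (K 𝔓 : Ideal (MvPolynomial (Fin N) k)) (hK : Ideal.ofList (shiftList h) ≤ K)
    (hK𝔓 : K ≤ 𝔓) (cf : Fin (shiftList h).length → MvPolynomial (Fin N) k)
    (hcf : (∑ i, cf i * (shiftList h).get i) ∈ 𝔓 * K) (i : Fin (shiftList h).length) :
    cf i ∈ 𝔓 := by
  classical
  have hlen : (shiftList h).length = N := shiftList_length h
  set j : Fin N := Fin.cast hlen i with hj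
  have hget : ∀ i', (shiftList h).get i' = X (Fin.cast hlen i') - C (h (Fin.cast hlen i')) := by
    intro i'
    simp only [shiftList, List.get_eq_getElem, List.getElem_ofFn]
    rfl
  -- the derivation `∂/∂X_j` maps `𝔓 K` into `𝔓`
  have hD : ∀ z ∈ 𝔓 * K, MvPolynomial.pderiv j z ∈ 𝔓 := by
    intro z hz
    refine Submodule.smul_induction_on hz ?_ ?_
    · intro p hp q hq
      rw [smul_eq_mul, Derivation.leibniz, smul_eq_mul, smul_eq_mul]
      exact Ideal.add_mem _ (Ideal.mul_mem_right _ _ hp) (Ideal.mul_mem_right _ _ (hK𝔓 hq))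
    · intro x y hx hy
      rw [map_add]; exact Ideal.add_mem _ hx hy
  have h1 := hD _ hcf
  rw [map_sum] at h1
  have h2 : ∀ i' : Fin (shiftList h).length,
      MvPolynomial.pderiv j (cf i' * (shiftList h).get i') =
        (if i' = i then cf i' else 0) +
          (shiftList h).get i' * MvPolynomial.pderiv j (cf i') := by
    intro i'
    rw [Derivation.leibniz, hget i', map_sub, MvPolynomial.pderiv_X, MvPolynomial.pderiv_C,
      sub_zero, smul_eq_mul, smul_eq_mul]
    by_cases hii : i' = i
    · subst hii
      rw [if_pos rfl, Pi.single_eq_same, mul_one]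
    · rw [if_neg hii, Pi.single_eq_of_ne, mul_zero]
      intro hh
      apply hii
      have := Fin.cast_injective hlen (hh.trans hj)
      exact this
  simp only [h2, Finset.sum_add_distrib, Finset.sum_ite_eq', Finset.mem_univ, if_true] at h1
  have h3 : (∑ i', (shiftList h).get i' * MvPolynomial.pderiv j (cf i')) ∈ 𝔓 := by
    refine Ideal.sum_mem _ fun i' _ => Ideal.mul_mem_right _ _ (hK𝔓 (hK ?_))
    exact Ideal.subset_span (List.get_mem _ _)
  exact (Ideal.add_mem_iff_left _ h3).mp h1


/-- the quotient by the shifted variables is the coefficient ring -/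
noncomputable def quotShiftEquiv :
    (MvPolynomial (Fin N) k ⧸ Ideal.ofList (shiftList h)) ≃+* k :=
  (Ideal.quotEquivOfEq (ker_eval_eq h).symm).trans
    (RingHom.quotientKerEquivOfSurjective (f := MvPolynomial.eval h) (fun y => ⟨C y, by simp⟩))

lemma quotShiftEquiv_mk (p : MvPolynomial (Fin N) k) :
    quotShiftEquiv h (Ideal.Quotient.mk _ p) = MvPolynomial.eval h p := by
  simp [quotShiftEquiv]

theorem comap_eval_eq (I₀ : Ideal k) :
    (I₀.comap (quotShiftEquiv h : _ →+* k)).comap
      (Ideal.Quotient.mk (Ideal.ofList (shiftList h))) = I₀.comap (MvPolynomial.eval h) := by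
  ext p
  simp only [Ideal.mem_comap, RingEquiv.coe_toRingHom, quotShiftEquiv_mk]

/-- **Koszul-regularity of an ideal of `k` and of its preimage under an evaluation
`k[X₁, …, X_N] → k` are equivalent.** -/
theorem isKoszulRegularIdeal_comap_eval_iff (I₀ : Ideal k) :
    LCI.IsKoszulRegularIdeal (I₀.comap (MvPolynomial.eval h)) ↔ LCI.IsKoszulRegularIdeal I₀ := by
  rw [← comap_eval_eq, ← isKoszulRegularIdeal_comap_ringEquiv_iff (quotShiftEquiv h) I₀]
  constructor
  · intro hK
    refine isKoszulRegularIdeal_of_comap_mk _ (kreg_shiftList h) _ hK ?_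
    intro 𝔓 h𝔓 cf hcf i
    refine indep_shiftList h _ 𝔓.asIdeal ?_ h𝔓 cf hcf i
    intro x hx
    have hx0 : Ideal.Quotient.mk (Ideal.ofList (shiftList h)) x = 0 :=
      Ideal.Quotient.eq_zero_iff_mem.mpr hx
    rw [Ideal.mem_comap, hx0]
    exact Ideal.zero_mem _
  · exact isKoszulRegularIdeal_comap_mk _ (kreg_shiftList h) _

end Poly

end Groth.Agent.Lib.Helper16.KzComp
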