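import Mathlib
import Groth.Prelude.Def_Koszul
import Groth.Prelude.Def_LCI2
import Groth.Agent.Lib.Helper16.KzComp4

/-!
# Koszul-regularity of kernels of presentations is local on the target
-/

set_option autoImplicit false
set_option linter.unusedSectionVars false
set_option linter.unusedVariables false
set_option linter.unusedSimpArgs false
universe u
open CategoryTheory CategoryTheory.Limits TensorProduct

namespace Groth.Agent.Lib.Helper16.KzComp

open Groth.Agent.Lib.Helper16.KzInv Groth.Agent.Lib.Helper16.KzLoc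

section Away

variable {P : Type u} [CommRing P]

lemma exists_list_of_isLocalization (M : Submonoid P) (Q : Type u) [CommRing Q] [Algebra P Q]
    [IsLocalization M Q] (l : List Q) :
    ∃ l₀ : List P, List.Forall₂ (fun y' y => ∃ u, IsUnit u ∧ y' = u * y)
      (l₀.map (algebraMap P Q)) l := by
  induction l with
  | nil => exact ⟨[], List.Forall₂.nil⟩
  | cons y t ih =>
    obtain ⟨t₀, ht₀⟩ := ih
    obtain ⟨⟨x, s⟩, hxs⟩ := IsLocalization.surj M y
    refine ⟨x :: t₀, ?_⟩
    rw [List.map_cons]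
    refine List.Forall₂.cons ⟨algebraMap P _ s, IsLocalization.map_units _ s, ?_⟩ ht₀
    rw [← hxs, mul_comm]

lemma forall₂_unit_map {T T' : Type u} [CommRing T] [CommRing T'] (φ : T →+* T') {l' l : List T}
    (h : List.Forall₂ (fun y' y => ∃ u, IsUnit u ∧ y' = u * y) l' l) :
    List.Forall₂ (fun y' y => ∃ u, IsUnit u ∧ y' = u * y) (l'.map φ) (l.map φ) := by
  induction h with
  | nil => exact List.Forall₂.nil
  | @cons y' y t' t hy _ ih =>
    obtain ⟨u, hu, rfl⟩ := hy
    rw [List.map_cons, List.map_cons]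
    exact List.Forall₂.cons ⟨φ u, hu.map φ, map_mul φ u y⟩ ih

/-- Koszul-regularity of an ideal can be checked on a principal open subset -/
theorem exists_local_data_of_away (Q : Type u) [CommRing Q] [Algebra P Q] (G : P)
    [IsLocalization.Away G Q] (I : Ideal P)
    (hI : LCI.IsKoszulRegularIdeal (I.map (algebraMap P Q))) (𝔭 : PrimeSpectrum P)
    (h𝔭 : I ≤ 𝔭.asIdeal) (hG : G ∉ 𝔭.asIdeal) :
    ∃ g : P, g ∉ 𝔭.asIdeal ∧ ∃ l₀ : List P, KregLoc l₀ (Submonoid.powers g) ∧
      LocEq (Submonoid.powers g) I (Ideal.ofList l₀) := by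
  have hdisj : Disjoint (Submonoid.powers G : Set P) (𝔭.asIdeal : Set P) := by
    rw [Set.disjoint_left]
    rintro _ ⟨n, rfl⟩ hn
    exact hG (𝔭.2.mem_of_pow_mem n hn)
  have hprime : (𝔭.asIdeal.map (algebraMap P Q)).IsPrime :=
    IsLocalization.isPrime_of_isPrime_disjoint (Submonoid.powers G) Q _ 𝔭.2 hdisj
  rw [isKoszulRegularIdeal_iff] at hI
  obtain ⟨g', hg', l', hl', hJl'⟩ := hI ⟨_, hprime⟩ (Ideal.map_mono h𝔭)
  obtain ⟨⟨g'', s⟩, hgs⟩ := IsLocalization.surj (Submonoid.powers G) g'
  obtain ⟨l₀, hl₀⟩ := exists_list_of_isLocalization (Submonoid.powers G) Q l'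
  have hsu : IsUnit (algebraMap P Q s) := IsLocalization.map_units Q s
  have hl₁ : KregLoc l' (Submonoid.powers (algebraMap P Q g'')) := by
    have := hl'.mul_right (algebraMap P Q s)
    rwa [hgs] at this
  have hJ₁ : LocEq (Submonoid.powers (algebraMap P Q g'')) (I.map (algebraMap P Q))
      (Ideal.ofList l') := by
    have := hJl'.mul_right (algebraMap P Q s)
    rwa [hgs] at this
  have hg''𝔭 : g'' ∉ 𝔭.asIdeal := by
    intro hh
    have h1 : algebraMap P Q g'' ∈ 𝔭.asIdeal.map (algebraMap P Q) := Ideal.mem_map_of_mem _ hh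
    rw [← hgs, mul_comm] at h1
    exact hg' ((Ideal.unit_mul_mem_iff_mem _ hsu).mp h1)
  set T' := Localization.Away (algebraMap P Q g'') with hT'
  have hloc : IsLocalization.Away (G * g'') T' := IsLocalization.Away.mul' Q T' G g''
  have hcompo : algebraMap P T' = (algebraMap Q T').comp (algebraMap P Q) :=
    IsScalarTower.algebraMap_eq P Q T'
  have hmm : (l₀.map (algebraMap P Q)).map (algebraMap Q T') = l₀.map (algebraMap P T') := by
    rw [List.map_map, hcompo]
    rfl
  refine ⟨G * g'', ?_, l₀, ?_, ?_⟩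
  · intro hh
    rcases 𝔭.2.mem_or_mem hh with hh | hh
    · exact hG hh
    · exact hg''𝔭 hh
  · have h1 : LCI.IsKoszulRegularSeq T' (l'.map (algebraMap Q T')) :=
      (kreg_iff_kregLoc l' (Submonoid.powers (algebraMap P Q g'')) T').mpr hl₁
    have h2 := kreg_of_forall₂_unit (forall₂_unit_map (algebraMap Q T') hl₀) h1
    rw [hmm] at h2
    exact (kreg_iff_kregLoc l₀ (Submonoid.powers (G * g'')) T').mp h2
  · rw [← map_eq_map_iff (Submonoid.powers (G * g'')) T']
    have h3 := (map_eq_map_iff (Submonoid.powers (algebraMap P Q g'')) T' _ _).mpr hJ₁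
    rw [Ideal.map_map, ← hcompo, ← ofList_eq_of_forall₂_unit hl₀, ← Ideal.map_ofList,
      Ideal.map_map, ← hcompo] at h3
    exact h3


open Polynomial in
/-- `G X - 1` is a nonzerodivisor of `P[X]` -/
theorem isSMulRegular_CX_sub_one (G : P) : IsSMulRegular P[X] (C G * X - 1 : P[X]) := by
  intro x y hxy
  have hxy' : (C G * X - 1 : P[X]) * x = (C G * X - 1) * y := hxy
  have hu : IsUnit (((C G * X - 1 : P[X]) : PowerSeries P)) := by
    rw [PowerSeries.isUnit_iff_constantCoeff, Polynomial.constantCoeff_coe]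
    simp
  have h1 : ((C G * X - 1 : P[X]) : PowerSeries P) * (x : PowerSeries P) =
      ((C G * X - 1 : P[X]) : PowerSeries P) * (y : PowerSeries P) := by
    rw [← Polynomial.coe_mul, ← Polynomial.coe_mul, hxy']
  exact Polynomial.coe_injective P (hu.mul_left_cancel h1)

open Polynomial in
theorem kreg_CX_sub_one (G : P) : LCI.IsKoszulRegularSeq P[X] [C G * X - 1] :=
  kreg_of_isWeaklyRegular _
    ((RingTheory.Sequence.isWeaklyRegular_singleton_iff _ _).mpr (isSMulRegular_CX_sub_one G))

open Polynomial in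
/-- the quotient `P[X]/(G X - 1)` is the localization of `P` away from `G` -/
theorem isLocalization_quot_CX_sub_one (G : P) :
    IsLocalization.Away G (P[X] ⧸ Ideal.ofList [C G * X - 1]) := by
  have h1 : IsLocalization.Away G (P[X] ⧸ Ideal.span {C G * X - 1}) :=
    IsLocalization.adjoin_inv G
  have h2 : Ideal.span {C G * X - 1} = Ideal.ofList [C G * X - 1] := by
    rw [Ideal.ofList]
    congr 1
    ext x
    simp
  exact IsLocalization.isLocalization_of_algEquiv (Submonoid.powers G)
    (Ideal.quotientEquivAlgOfEq P h2)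

open Polynomial in
/-- independence of `G X - 1` modulo `𝔓 K` -/
theorem indep_CX_sub_one (G : P) (K 𝔓 : Ideal P[X]) [𝔓.IsPrime] (hK : (C G * X - 1 : P[X]) ∈ K)
    (hK𝔓 : K ≤ 𝔓) (cf : Fin [(C G * X - 1 : P[X])].length → P[X])
    (hcf : (∑ i, cf i * [(C G * X - 1 : P[X])].get i) ∈ 𝔓 * K)
    (i : Fin [(C G * X - 1 : P[X])].length) : cf i ∈ 𝔓 := by
  have hsum : (∑ i, cf i * [(C G * X - 1 : P[X])].get i) = cf 0 * (C G * X - 1) :=
    Fin.sum_univ_one (fun i : Fin 1 => cf i * [(C G * X - 1 : P[X])].get i)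
  have hi : i = 0 := Subsingleton.elim (α := Fin 1) i 0
  rw [hsum] at hcf
  rw [hi]
  have hD : ∀ z ∈ 𝔓 * K, Polynomial.derivative z ∈ 𝔓 := by
    intro z hz
    refine Submodule.smul_induction_on hz ?_ ?_
    · intro p hp q hq
      rw [smul_eq_mul, Polynomial.derivative_mul]
      exact Ideal.add_mem _ (Ideal.mul_mem_left _ _ (hK𝔓 hq)) (Ideal.mul_mem_right _ _ hp)
    · intro x y hx hy
      rw [map_add]; exact Ideal.add_mem _ hx hy
  have h1 := hD _ hcf
  rw [Polynomial.derivative_mul] at h1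
  have h2 : Polynomial.derivative (C G * X - 1 : P[X]) = C G := by
    simp
  rw [h2] at h1
  have h3 : Polynomial.derivative (cf 0) * (C G * X - 1) ∈ 𝔓 := Ideal.mul_mem_left _ _ (hK𝔓 hK)
  have h4 : cf 0 * C G ∈ 𝔓 := (Ideal.add_mem_iff_right _ h3).mp h1
  have h5 : (C G : P[X]) ∉ 𝔓 := by
    intro hh
    have h6 : (1 : P[X]) ∈ 𝔓 := by
      have : (1 : P[X]) = C G * X - (C G * X - 1) := by ring
      rw [this]
      exact Ideal.sub_mem _ (Ideal.mul_mem_right _ _ hh) (hK𝔓 hK)
    exact (Ideal.IsPrime.ne_top inferInstance) ((Ideal.eq_top_iff_one _).mpr h6)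
  rcases Ideal.IsPrime.mem_or_mem inferInstance h4 with hh | hh
  · exact hh
  · exact absurd hh h5

open Polynomial in
/-- **Koszul-regularity of the kernel of a presentation can be checked after inverting an
element**: if the kernel of `P[X] → S_g` (extending `P → S → S_g`, `X ↦ 1/g`) is Koszul-regular,
then `I = ker (P → S)` has Koszul-regular generators near each prime of `D(G)`. -/
theorem exists_local_data_of_ker {Sg : Type u} [CommRing Sg] (G : P) (I : Ideal P)
    (ψ : P[X] →+* Sg) (hX : ψ (C G) * ψ X = 1)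
    (hker : ∀ p : P, ψ (C p) = 0 → ∃ k : ℕ, G ^ k * p ∈ I) (hI : ∀ p ∈ I, ψ (C p) = 0)
    (hK : LCI.IsKoszulRegularIdeal (RingHom.ker ψ)) (𝔭 : PrimeSpectrum P)
    (h𝔭 : I ≤ 𝔭.asIdeal) (hG : G ∉ 𝔭.asIdeal) :
    ∃ g : P, g ∉ 𝔭.asIdeal ∧ ∃ l₀ : List P, KregLoc l₀ (Submonoid.powers g) ∧
      LocEq (Submonoid.powers g) I (Ideal.ofList l₀) := by
  set a : P[X] := C G * X - 1 with ha
  set K := RingHom.ker ψ with hKdef
  have haK : a ∈ K := by
    rw [hKdef, RingHom.mem_ker, ha, map_sub, map_mul, hX, map_one, sub_self]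
  have halK : Ideal.ofList [a] ≤ K := by
    rw [Ideal.ofList, Ideal.span_le]
    intro x hx
    have : x = a := by simpa using hx
    rw [this]; exact haK
  set Q := P[X] ⧸ Ideal.ofList [a] with hQ
  have hloc : IsLocalization.Away G Q := isLocalization_quot_CX_sub_one G
  set π : P[X] →+* Q := Ideal.Quotient.mk (Ideal.ofList [a]) with hπ
  have hπs : Function.Surjective π := Ideal.Quotient.mk_surjective
  have hkerπ : RingHom.ker π = Ideal.ofList [a] := Ideal.mk_ker
  have halg : ∀ p : P, algebraMap P Q p = π (C p) := fun p => rfl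
  set J : Ideal Q := K.map π with hJ
  have hJcomap : J.comap π = K := by
    rw [hJ, Ideal.comap_map_of_surjective π hπs, sup_eq_left]
    change RingHom.ker π ≤ K
    rw [hkerπ]; exact halK
  have hJreg : LCI.IsKoszulRegularIdeal J := by
    refine isKoszulRegularIdeal_of_comap_mk [a] (kreg_CX_sub_one G) J (by rw [hJcomap]; exact hK) ?_
    intro 𝔓 h𝔓 cf hcf i
    rw [hJcomap] at h𝔓 hcf
    exact indep_CX_sub_one G K 𝔓.asIdeal haK h𝔓 cf hcf i
  have hJeq : J = I.map (algebraMap P Q) := by
    apply le_antisymm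
    · intro x hx
      rw [hJ, Ideal.mem_map_iff_of_surjective π hπs] at hx
      obtain ⟨pt, hptK, rfl⟩ := hx
      obtain ⟨n, p, hnp⟩ := IsLocalization.Away.surj G (π pt)
      have h1 : pt * (C G) ^ n - C p ∈ K := by
        apply halK
        rw [← hkerπ, RingHom.mem_ker, map_sub, map_mul, map_pow, ← halg, ← halg, hnp, sub_self]
      have h2 : C p ∈ K := by
        have : C p = pt * (C G) ^ n - (pt * (C G) ^ n - C p) := by ring
        rw [this]
        exact Ideal.sub_mem _ (Ideal.mul_mem_right _ _ hptK) h1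
      obtain ⟨k, hk⟩ := hker p h2
      have h3 : algebraMap P Q (G ^ k * p) ∈ I.map (algebraMap P Q) := Ideal.mem_map_of_mem _ hk
      rw [map_mul, map_pow] at h3
      have hu : IsUnit (algebraMap P Q G) := IsLocalization.Away.algebraMap_isUnit G
      have h4 : algebraMap P Q p ∈ I.map (algebraMap P Q) :=
        (Ideal.unit_mul_mem_iff_mem _ (hu.pow k)).mp h3
      rw [← hnp, mul_comm] at h4
      exact (Ideal.unit_mul_mem_iff_mem _ (hu.pow n)).mp h4
    · rw [Ideal.map_le_iff_le_comap]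
      intro p hp
      rw [Ideal.mem_comap, halg, hJ]
      exact Ideal.mem_map_of_mem π (hI p hp)
  rw [hJeq] at hJreg
  exact exists_local_data_of_away Q G I hJreg 𝔭 h𝔭 hG

end Away

end Groth.Agent.Lib.Helper16.KzComp
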