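import Mathlib
import Groth.Prelude.Def_Koszul
import Groth.Prelude.Def_LCI2
import Groth.Agent.Lib.Helper16.KzComp5

/-!
# Flat base change of Koszul-regular ideals; lifting along quotients by Koszul-regular ideals
-/

set_option autoImplicit false
set_option linter.unusedSectionVars false
set_option linter.unusedVariables false
set_option linter.unusedSimpArgs false
universe u
open CategoryTheory CategoryTheory.Limits TensorProduct

namespace Groth.Agent.Lib.Helper16.KzComp

open Groth.Agent.Lib.Helper16.KzInv Groth.Agent.Lib.Helper16.KzLoc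

section FBC

variable {A : Type u} [CommRing A] {B : Type u} [CommRing B] [Algebra A B]

/-- flat base change of `KregLoc` for principal open subsets -/
theorem kregLoc_map_powers [Module.Flat A B] (l : List A) (g : A)
    (h : KregLoc l (Submonoid.powers g)) :
    KregLoc (l.map (algebraMap A B)) (Submonoid.powers (algebraMap A B g)) := by
  rw [kregLoc_powers_iff]
  intro q hq
  rw [kregLoc_comap_iff l q.asIdeal]
  have hg : g ∉ (PrimeSpectrum.comap (algebraMap A B) q).asIdeal := hq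
  exact (kregLoc_powers_iff l g).mp h (PrimeSpectrum.comap (algebraMap A B) q) hg

theorem locEq_map (S : Submonoid A) (J₁ J₂ : Ideal A) (h : LocEq S J₁ J₂) :
    LocEq (S.map (algebraMap A B)) (J₁.map (algebraMap A B)) (J₂.map (algebraMap A B)) := by
  have key : ∀ J₁ J₂ : Ideal A, (∀ x ∈ J₁, ∃ s ∈ S, s * x ∈ J₂) →
      ∀ y ∈ J₁.map (algebraMap A B), ∃ t ∈ S.map (algebraMap A B),
        t * y ∈ J₂.map (algebraMap A B) := by
    intro J₁ J₂ h12 y hy
    induction hy using Submodule.span_induction with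
    | mem y hy =>
      obtain ⟨x, hx, rfl⟩ := hy
      obtain ⟨s, hs, hsx⟩ := h12 x hx
      refine ⟨algebraMap A B s, ⟨s, hs, rfl⟩, ?_⟩
      rw [← map_mul]
      exact Ideal.mem_map_of_mem _ hsx
    | zero => exact ⟨1, Submonoid.one_mem _, by rw [mul_zero]; exact Ideal.zero_mem _⟩
    | add a b _ _ ha hb =>
      obtain ⟨s, hs, hsa⟩ := ha
      obtain ⟨t, ht, htb⟩ := hb
      refine ⟨s * t, Submonoid.mul_mem _ hs ht, ?_⟩
      have : s * t * (a + b) = t * (s * a) + s * (t * b) := by ring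
      rw [this]
      exact Ideal.add_mem _ (Ideal.mul_mem_left _ _ hsa) (Ideal.mul_mem_left _ _ htb)
    | smul c a _ ha =>
      obtain ⟨s, hs, hsa⟩ := ha
      refine ⟨s, hs, ?_⟩
      rw [smul_eq_mul, mul_left_comm]
      exact Ideal.mul_mem_left _ _ hsa
  exact ⟨key J₁ J₂ h.1, key J₂ J₁ h.2⟩

/-- **Flat base change of Koszul-regular ideals.** -/
theorem isKoszulRegularIdeal_map_of_flat [Module.Flat A B] (I : Ideal A)
    (hI : LCI.IsKoszulRegularIdeal I) : LCI.IsKoszulRegularIdeal (I.map (algebraMap A B)) := by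
  rw [isKoszulRegularIdeal_iff] at hI ⊢
  intro q hq
  have hIp : I ≤ (PrimeSpectrum.comap (algebraMap A B) q).asIdeal :=
    Ideal.map_le_iff_le_comap.mp hq
  obtain ⟨g, hg, l₀, hl₀, hJ⟩ := hI (PrimeSpectrum.comap (algebraMap A B) q) hIp
  refine ⟨algebraMap A B g, hg, l₀.map (algebraMap A B), kregLoc_map_powers l₀ g hl₀, ?_⟩
  have := locEq_map (B := B) (Submonoid.powers g) I (Ideal.ofList l₀) hJ
  rw [Submonoid.map_powers, Ideal.map_ofList] at this
  exact this

end FBC


section T1g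

variable {R : Type u} [CommRing R]

/-- **generalised composition**: if `a` is Koszul-regular on the open `S⁻¹`, generating `I'` there,
and `b` is Koszul-regular there modulo `I'`, then `b ++ a` is Koszul-regular there -/
theorem kregLoc_append_of_quotient (I' : Ideal R) (a b : List R) (S : Submonoid R)
    (ha : KregLoc a S) (hIa : LocEq S I' (Ideal.ofList a))
    (hb : KregLoc (b.map (Ideal.Quotient.mk I')) (S.map (Ideal.Quotient.mk I'))) :
    KregLoc (b ++ a) S := by
  set T := Localization S with hT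
  set aT := a.map (algebraMap R T) with haT
  set bT := b.map (algebraMap R T) with hbT
  have h1 : LCI.IsKoszulRegularSeq T aT := (kreg_iff_kregLoc a S T).mpr ha
  have hI'T : I'.map (algebraMap R T) = Ideal.ofList aT := by
    rw [(map_eq_map_iff S T _ _).mpr hIa, Ideal.map_ofList]
  have hloc : IsLocalization (Algebra.algebraMapSubmonoid (R ⧸ I') S)
      (T ⧸ I'.map (algebraMap R T)) := inferInstance
  have hloc' : IsLocalization (S.map (Ideal.Quotient.mk I')) (T ⧸ I'.map (algebraMap R T)) := hloc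
  have h2 : LCI.IsKoszulRegularSeq (T ⧸ I'.map (algebraMap R T))
      ((b.map (Ideal.Quotient.mk I')).map (algebraMap (R ⧸ I') (T ⧸ I'.map (algebraMap R T)))) :=
    (kreg_iff_kregLoc (b.map (Ideal.Quotient.mk I')) (S.map (Ideal.Quotient.mk I'))
      (T ⧸ I'.map (algebraMap R T))).mpr hb
  have h3 := kreg_map_ringEquiv (Ideal.quotEquivOfEq hI'T) _ h2
  have h4 : (((b.map (Ideal.Quotient.mk I')).map
      (algebraMap (R ⧸ I') (T ⧸ I'.map (algebraMap R T)))).map (Ideal.quotEquivOfEq hI'T)) =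
      bT.map (Ideal.Quotient.mk (Ideal.ofList aT)) := by
    rw [hbT, List.map_map, List.map_map, List.map_map]
    apply List.map_congr_left
    intro x _
    rfl
  rw [h4] at h3
  have h5 : LCI.IsKoszulRegularSeq T (bT ++ aT) := (kreg_append_iff aT bT h1).mpr h3
  rw [hbT, haT, ← List.map_append] at h5
  exact (kreg_iff_kregLoc (b ++ a) S T).mp h5

lemma locEq_sup_left {S : Submonoid R} {J₁ J₂ : Ideal R} (h : LocEq S J₁ J₂) (J : Ideal R) :
    LocEq S (J ⊔ J₁) (J ⊔ J₂) := by
  have key : ∀ J₁ J₂ : Ideal R, (∀ x ∈ J₁, ∃ s ∈ S, s * x ∈ J₂) →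
      ∀ x ∈ J ⊔ J₁, ∃ s ∈ S, s * x ∈ J ⊔ J₂ := by
    intro J₁ J₂ h12 x hx
    obtain ⟨j, hj, x₁, hx₁, rfl⟩ := Submodule.mem_sup.mp hx
    obtain ⟨s, hs, hsx⟩ := h12 x₁ hx₁
    refine ⟨s, hs, ?_⟩
    rw [mul_add]
    exact Ideal.add_mem _ (Ideal.mem_sup_left (Ideal.mul_mem_left _ _ hj)) (Ideal.mem_sup_right hsx)
  exact ⟨key J₁ J₂ h.1, key J₂ J₁ h.2⟩

lemma locEq_comap {Q : Type u} [CommRing Q] (π : R →+* Q) {S : Submonoid R} {J₁ J₂ : Ideal Q}
    (h : LocEq (S.map π) J₁ J₂) : LocEq S (J₁.comap π) (J₂.comap π) := by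
  have key : ∀ J₁ J₂ : Ideal Q, (∀ x ∈ J₁, ∃ s ∈ S.map π, s * x ∈ J₂) →
      ∀ x ∈ J₁.comap π, ∃ s ∈ S, s * x ∈ J₂.comap π := by
    intro J₁ J₂ h12 x hx
    obtain ⟨_, ⟨s, hs, rfl⟩, hsx⟩ := h12 (π x) hx
    exact ⟨s, hs, by rw [Ideal.mem_comap, map_mul]; exact hsx⟩
  exact ⟨key J₁ J₂ h.1, key J₂ J₁ h.2⟩

/-- **Koszul-regular ideals lift along the quotient by a Koszul-regular ideal.** -/
theorem isKoszulRegularIdeal_comap_mk_of_ideal (I' : Ideal R) (hI' : LCI.IsKoszulRegularIdeal I')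
    (J : Ideal (R ⧸ I')) (hJ : LCI.IsKoszulRegularIdeal J) :
    LCI.IsKoszulRegularIdeal (J.comap (Ideal.Quotient.mk I')) := by
  set π := Ideal.Quotient.mk I' with hπ
  have hπs : Function.Surjective π := Ideal.Quotient.mk_surjective
  have hker : RingHom.ker π = I' := Ideal.mk_ker
  rw [isKoszulRegularIdeal_iff] at hI' hJ ⊢
  intro 𝔓 h𝔓
  have hI'K : I' ≤ J.comap π := by
    intro x hx
    have hx0 : π x = 0 := by rw [← RingHom.mem_ker, hker]; exact hx
    rw [Ideal.mem_comap, hx0]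
    exact J.zero_mem
  have hI'𝔓 : RingHom.ker π ≤ 𝔓.asIdeal := by
    rw [hker]; exact hI'K.trans h𝔓
  have hprime : (𝔓.asIdeal.map π).IsPrime := Ideal.map_isPrime_of_surjective hπs hI'𝔓
  have hJq : J ≤ 𝔓.asIdeal.map π := by
    intro x hx
    obtain ⟨p, rfl⟩ := hπs x
    exact Ideal.mem_map_of_mem π (h𝔓 hx)
  obtain ⟨g, hg, a, ha, hIa⟩ := hI' 𝔓 (hI'K.trans h𝔓)
  obtain ⟨h', hh', b', hb', hJb'⟩ := hJ ⟨𝔓.asIdeal.map π, hprime⟩ hJq
  obtain ⟨h, rfl⟩ := hπs h'
  obtain ⟨b, rfl⟩ := (List.map_surjective_iff.mpr hπs) b'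
  have hh : h ∉ 𝔓.asIdeal := fun hh0 => hh' (Ideal.mem_map_of_mem π hh0)
  refine ⟨g * h, ?_, b ++ a, ?_, ?_⟩
  · intro hgh
    rcases 𝔓.2.mem_or_mem hgh with h0 | h0
    · exact hg h0
    · exact hh h0
  · refine kregLoc_append_of_quotient I' a b (Submonoid.powers (g * h)) (ha.mul_right h)
      (hIa.mul_right h) ?_
    rw [Submonoid.map_powers, map_mul, mul_comm]
    exact hb'.mul_right (π g)
  · have h1 : LocEq (Submonoid.powers h) (J.comap π) ((Ideal.ofList (b.map π)).comap π) := by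
      apply locEq_comap π
      rw [Submonoid.map_powers]
      exact hJb'
    have h2 : (Ideal.ofList (b.map π)).comap π = I' ⊔ Ideal.ofList b := by
      rw [← Ideal.map_ofList, Ideal.comap_map_of_surjective π hπs, sup_comm]
      congr 1
    rw [h2] at h1
    have h3 : LocEq (Submonoid.powers (g * h)) (J.comap π) (I' ⊔ Ideal.ofList b) := by
      have := h1.mul_right g
      rwa [mul_comm] at this
    have h4 : LocEq (Submonoid.powers (g * h)) (Ideal.ofList b ⊔ I')
        (Ideal.ofList b ⊔ Ideal.ofList a) := locEq_sup_left (hIa.mul_right h) (Ideal.ofList b)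
    rw [sup_comm] at h3
    rw [Ideal.ofList_append]
    exact h3.trans h4

end T1g

end Groth.Agent.Lib.Helper16.KzComp
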