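import Mathlib
import Groth.Prelude.Def_Koszul
import Groth.Prelude.Def_LCI2
import Groth.Agent.Lib.Helper16.KzComp6

/-!
# Composition of local complete intersection ring maps
-/

set_option autoImplicit false
set_option linter.unusedSectionVars false
set_option linter.unusedVariables false
set_option linter.unusedSimpArgs false
universe u
open CategoryTheory CategoryTheory.Limits TensorProduct

namespace Groth.Agent.Lib.Helper16.KzComp

open Groth.Agent.Lib.Helper16.KzInv Groth.Agent.Lib.Helper16.KzLoc

section RC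

lemma exists_quot_ringEquiv {R S : Type u} [CommRing R] [CommRing S] (μ : R →+* S)
    (hμ : Function.Surjective μ) (I' : Ideal R) (h : RingHom.ker μ = I') :
    ∃ e : (R ⧸ I') ≃+* S, ∀ x, e (Ideal.Quotient.mk I' x) = μ x := by
  refine ⟨(Ideal.quotEquivOfEq h.symm).trans (RingHom.quotientKerEquivOfSurjective hμ), ?_⟩
  intro x
  simp

/-- Koszul-regular ideals pull back along a surjection with Koszul-regular kernel -/
theorem isKoszulRegularIdeal_comap_of_surjective {R S : Type u} [CommRing R] [CommRing S]
    (μ : R →+* S) (hμ : Function.Surjective μ) (hker : LCI.IsKoszulRegularIdeal (RingHom.ker μ))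
    (J : Ideal S) (hJ : LCI.IsKoszulRegularIdeal J) : LCI.IsKoszulRegularIdeal (J.comap μ) := by
  obtain ⟨e, he⟩ := exists_quot_ringEquiv μ hμ (RingHom.ker μ) rfl
  have hJ' : LCI.IsKoszulRegularIdeal (J.comap e.toRingHom) :=
    (isKoszulRegularIdeal_comap_ringEquiv_iff e _).mpr hJ
  have hK := isKoszulRegularIdeal_comap_mk_of_ideal (RingHom.ker μ) hker _ hJ'
  have hKeq : (J.comap e.toRingHom).comap (Ideal.Quotient.mk (RingHom.ker μ)) = J.comap μ := by
    ext x
    simp only [Ideal.mem_comap]
    change e (Ideal.Quotient.mk (RingHom.ker μ) x) ∈ J ↔ _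
    rw [he]
  rw [hKeq] at hK
  exact hK

/-- the kernel of `A[x][y] → B[y] → C` is Koszul-regular when those of `A[x] → B` and `B[y] → C`
are -/
theorem isKoszulRegularIdeal_ker_comp_map {A B C : Type u} [CommRing A] [CommRing B] [CommRing C]
    [Algebra A B] (n m : ℕ) (α : MvPolynomial (Fin n) A →ₐ[A] B) (hα : Function.Surjective α)
    (hI : LCI.IsKoszulRegularIdeal (RingHom.ker α.toRingHom))
    (β : MvPolynomial (Fin m) B →+* C) (hJ : LCI.IsKoszulRegularIdeal (RingHom.ker β)) :
    LCI.IsKoszulRegularIdeal (RingHom.ker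
      (β.comp (MvPolynomial.map (σ := Fin m) (α : MvPolynomial (Fin n) A →+* B)))) := by
  have hμs : Function.Surjective (MvPolynomial.map (σ := Fin m)
      (α : MvPolynomial (Fin n) A →+* B)) := MvPolynomial.map_surjective _ hα
  have hkerμ : RingHom.ker (MvPolynomial.map (σ := Fin m)
      (α : MvPolynomial (Fin n) A →+* B)) = (RingHom.ker α.toRingHom).map
        (algebraMap (MvPolynomial (Fin n) A) (MvPolynomial (Fin m) (MvPolynomial (Fin n) A))) := by
    rw [MvPolynomial.ker_map]
    rfl
  have hI'reg : LCI.IsKoszulRegularIdeal (RingHom.ker (MvPolynomial.map (σ := Fin m)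
      (α : MvPolynomial (Fin n) A →+* B))) := by
    rw [hkerμ]
    exact isKoszulRegularIdeal_map_of_flat _ hI
  rw [← RingHom.comap_ker]
  exact isKoszulRegularIdeal_comap_of_surjective _ hμs hI'reg _ hJ

variable (A B C : Type u) [CommRing A] [CommRing B] [CommRing C] [Algebra A B] [Algebra B C]
  [Algebra A C] [IsScalarTower A B C]

/-- **Composition of local complete intersection ring maps.** -/
theorem isLCI_trans (hAB : LCI.IsLCI A B) (hBC : LCI.IsLCI B C) : LCI.IsLCI A C := by
  obtain ⟨hftB, n, α, hα, hI⟩ := hAB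
  obtain ⟨hftC, m, β, hβ, hJ⟩ := hBC
  refine ⟨Algebra.FiniteType.trans hftB hftC, ?_⟩
  have hμs : Function.Surjective (MvPolynomial.map (σ := Fin m)
      (α : MvPolynomial (Fin n) A →+* B)) := MvPolynomial.map_surjective _ hα
  have hK := isKoszulRegularIdeal_ker_comp_map n m α hα hI β.toRingHom hJ
  -- reindex
  let ε : MvPolynomial (Fin (m + n)) A ≃ₐ[A] MvPolynomial (Fin m) (MvPolynomial (Fin n) A) :=
    (MvPolynomial.renameEquiv A finSumFinEquiv.symm).trans (MvPolynomial.sumAlgEquiv A (Fin m) (Fin n))
  have hγ₀A : ∀ a : A, (β.toRingHom.comp (MvPolynomial.map (σ := Fin m)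
      (α : MvPolynomial (Fin n) A →+* B)))
        (algebraMap A (MvPolynomial (Fin m) (MvPolynomial (Fin n) A)) a) = algebraMap A C a := by
    intro a
    have h1 : algebraMap A (MvPolynomial (Fin m) (MvPolynomial (Fin n) A)) a =
        MvPolynomial.C (MvPolynomial.C a) := rfl
    rw [h1, RingHom.comp_apply, MvPolynomial.map_C]
    have h2 : (α : MvPolynomial (Fin n) A →+* B) (MvPolynomial.C a) = algebraMap A B a :=
      α.commutes a
    rw [h2]
    have h3 : β.toRingHom (MvPolynomial.C (algebraMap A B a)) = algebraMap B C (algebraMap A B a) :=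
      β.commutes (algebraMap A B a)
    rw [h3, ← IsScalarTower.algebraMap_apply]
  let γ₁ : MvPolynomial (Fin m) (MvPolynomial (Fin n) A) →ₐ[A] C :=
    { β.toRingHom.comp (MvPolynomial.map (σ := Fin m) (α : MvPolynomial (Fin n) A →+* B)) with
      commutes' := hγ₀A }
  refine ⟨m + n, γ₁.comp ε.toAlgHom, ?_, ?_⟩
  · exact (hβ.comp hμs).comp ε.surjective
  · have h4 : RingHom.ker (γ₁.comp ε.toAlgHom).toRingHom =
        (RingHom.ker (β.toRingHom.comp (MvPolynomial.map (σ := Fin m)
          (α : MvPolynomial (Fin n) A →+* B)))).comap ε.toRingEquiv.toRingHom := by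
      ext x
      simp only [RingHom.mem_ker, Ideal.mem_comap]
      rfl
    rw [h4]
    exact (isKoszulRegularIdeal_comap_ringEquiv_iff ε.toRingEquiv _).mpr hK

end RC

section Transfer

variable (A : Type u) [CommRing A] {B B' : Type u} [CommRing B] [CommRing B'] [Algebra A B]
  [Algebra A B']

/-- local complete intersection algebras are invariant under isomorphism -/
theorem isLCI_of_algEquiv (e : B ≃ₐ[A] B') (h : LCI.IsLCI A B) : LCI.IsLCI A B' := by
  obtain ⟨hft, n, α, hα, hI⟩ := h
  refine ⟨hft.equiv e, n, e.toAlgHom.comp α, e.surjective.comp hα, ?_⟩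
  have : RingHom.ker (e.toAlgHom.comp α).toRingHom = RingHom.ker α.toRingHom := by
    ext x
    simp only [RingHom.mem_ker]
    change e (α x) = 0 ↔ α x = 0
    exact e.map_eq_zero_iff
  rw [this]
  exact hI

end Transfer

end Groth.Agent.Lib.Helper16.KzComp
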