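import Mathlib
import Groth.Prelude.Def_Koszul
import Groth.Prelude.Def_LCI2
import Groth.Agent.Lib.Helper16.KzComp7
import Groth.Agent.S9253

/-!
# Local complete intersection ring homomorphisms: composition, locality on the target
-/

set_option autoImplicit false
set_option linter.unusedSectionVars false
set_option linter.unusedVariables false
set_option linter.unusedSimpArgs false
universe u
open CategoryTheory CategoryTheory.Limits TensorProduct

namespace Groth.Agent.Lib.Helper16.KzComp

/-- local complete intersection ring homomorphisms -/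
def IsLCIHom {A B : Type u} [CommRing A] [CommRing B] (φ : A →+* B) : Prop :=
  @LCI.IsLCI A _ B _ φ.toAlgebra

variable {A B C : Type u} [CommRing A] [CommRing B] [CommRing C]

theorem isLCIHom_comp (φ : A →+* B) (ψ : B →+* C) (h1 : IsLCIHom φ) (h2 : IsLCIHom ψ) :
    IsLCIHom (ψ.comp φ) := by
  let _ := φ.toAlgebra
  let _ := ψ.toAlgebra
  let _ := (ψ.comp φ).toAlgebra
  have : IsScalarTower A B C := IsScalarTower.of_algebraMap_eq (fun x => rfl)
  exact isLCI_trans A B C h1 h2

/-- a ring map is a local complete intersection if it is so on a finite principal open cover of the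
target -/
theorem isLCIHom_of_away_cover (φ : A →+* B) (m : ℕ) (r : Fin m → B)
    (hr : Ideal.span (Set.range r) = ⊤) (T : Fin m → Type u) [∀ j, CommRing (T j)]
    (ι : ∀ j, B →+* T j) (hloc : ∀ j, @IsLocalization.Away B _ (r j) (T j) _ (ι j).toAlgebra)
    (h : ∀ j, IsLCIHom ((ι j).comp φ)) : IsLCIHom φ := by
  let _ := φ.toAlgebra
  apply Groth.Agent.S9253.result A B m r hr
  intro j
  let _ := (ι j).toAlgebra
  let _ : Algebra A (T j) := ((ι j).comp φ).toAlgebra
  have : IsScalarTower A B (T j) := IsScalarTower.of_algebraMap_eq (fun x => rfl)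
  have := hloc j
  let e : T j ≃ₐ[B] Localization.Away (r j) :=
    IsLocalization.algEquiv (Submonoid.powers (r j)) _ _
  exact isLCI_of_algEquiv A (e.restrictScalars A) (h j)

end Groth.Agent.Lib.Helper16.KzComp
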