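import Mathlib
import Groth.Prelude.Def_Koszul
import Groth.Prelude.Def_LCI2
import Groth.Agent.Lib.Helper16.KzComp8
import Groth.Agent.Lib.Helper16.KzLoc5
import Groth.Agent.S9269

/-!
# Local complete intersection ring homomorphisms form a local property; faithfully flat descent
-/

set_option autoImplicit false
set_option linter.unusedSectionVars false
set_option linter.unusedVariables false
set_option linter.unusedSimpArgs false
universe u
open CategoryTheory CategoryTheory.Limits TensorProduct

namespace Groth.Agent.Lib.Helper16.KzComp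


theorem isLCIHom_algebraMap_iff {A B : Type u} [CommRing A] [CommRing B] [Algebra A B] :
    IsLCIHom (algebraMap A B) ↔ LCI.IsLCI A B := by
  rw [IsLCIHom, toAlgebra_algebraMap]

attribute [local instance] Algebra.TensorProduct.rightAlgebra in
/-- **Faithfully flat descent of local complete intersection algebras.** -/
theorem isLCI_of_faithfullyFlat (R S T : Type u) [CommRing R] [CommRing S] [CommRing T]
    [Algebra R S] [Algebra R T] [Module.FaithfullyFlat R T] (h : LCI.IsLCI T (T ⊗[R] S)) :
    LCI.IsLCI R S := by
  obtain ⟨hft, m, β, hβ, hJ⟩ := h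
  have hftS : Algebra.FiniteType R S :=
    Algebra.FiniteType.of_finiteType_tensorProduct_of_faithfullyFlat T
  refine ⟨hftS, ?_⟩
  obtain ⟨n, f, hf⟩ := Algebra.FiniteType.iff_quotient_mvPolynomial''.mp hftS
  refine ⟨n, f, hf, ?_⟩
  have : Module.FaithfullyFlat (MvPolynomial (Fin n) R) (T ⊗[R] MvPolynomial (Fin n) R) :=
    .of_linearEquiv _ _ (Algebra.TensorProduct.commRight _ _ _).symm.toLinearEquiv
  apply KzLoc.isKoszulRegularIdeal_of_faithfullyFlat (B := T ⊗[R] MvPolynomial (Fin n) R)
  let fT := Algebra.TensorProduct.map (.id T T) f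
  have hker : (RingHom.ker f.toRingHom).map
      (algebraMap (MvPolynomial (Fin n) R) (T ⊗[R] MvPolynomial (Fin n) R)) = RingHom.ker fT :=
    (Algebra.TensorProduct.lTensor_ker f hf).symm
  rw [hker]
  let E : T ⊗[R] MvPolynomial (Fin n) R ≃ₐ[T] MvPolynomial (Fin n) T :=
    MvPolynomial.algebraTensorAlgEquiv R T
  let πT : MvPolynomial (Fin n) T →ₐ[T] T ⊗[R] S := fT.comp E.symm.toAlgHom
  have hπT : Function.Surjective πT :=
    (Algebra.FiniteType.baseChangeAux_surj T hf).comp E.symm.surjective
  have hK := Groth.Agent.S9269.result T (T ⊗[R] S) m n β hβ πT hπT hJ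
  have : RingHom.ker fT = (RingHom.ker πT.toRingHom).comap (E.toRingEquiv : _ →+* _) := by
    ext x
    simp [RingHom.mem_ker, πT]
  rw [this]
  exact (isKoszulRegularIdeal_comap_ringEquiv_iff E.toRingEquiv _).2 hK

open Groth.Agent.Lib.Helper16.KzLoc in
/-- the ideal generated by a Koszul-regular sequence is a Koszul-regular ideal -/
theorem isKoszulRegularIdeal_ofList {R : Type u} [CommRing R] (l : List R)
    (hl : LCI.IsKoszulRegularSeq R l) : LCI.IsKoszulRegularIdeal (Ideal.ofList l) := by
  rw [isKoszulRegularIdeal_iff]
  intro 𝔭 h𝔭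
  refine ⟨1, fun h => 𝔭.2.ne_top ((Ideal.eq_top_iff_one _).mpr h), l, ?_, ?_⟩
  · exact ((kregLoc_top_iff l).mpr hl).mono bot_le
  · exact ⟨fun x hx => ⟨1, one_mem _, by simpa using hx⟩, fun x hx => ⟨1, one_mem _, by simpa using hx⟩⟩

open Polynomial in
theorem aeval_invSelf_props (R S : Type u) [CommRing R] [CommRing S] [Algebra R S] (r : R)
    [IsLocalization.Away r S] :
    Function.Surjective (Polynomial.aeval (R := R) (IsLocalization.Away.invSelf (S := S) r)) ∧
    RingHom.ker (Polynomial.aeval (R := R) (IsLocalization.Away.invSelf (S := S) r)).toRingHom =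
      Ideal.ofList [C r * X - 1] := by
  set β := Polynomial.aeval (R := R) (IsLocalization.Away.invSelf (S := S) r) with hβdef
  set I : Ideal R[X] := Ideal.ofList [C r * X - 1] with hIdef
  have hL : IsLocalization.Away r (R[X] ⧸ I) := isLocalization_quot_CX_sub_one r
  have hβI : ∀ a ∈ I, β a = 0 := by
    have hle : I ≤ RingHom.ker β.toRingHom := by
      rw [hIdef, Ideal.ofList, Ideal.span_le]
      intro a ha
      simp only [List.mem_singleton, Set.mem_ofPred_eq] at ha
      subst ha
      simp [RingHom.mem_ker, β, IsLocalization.Away.mul_invSelf]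
    intro a ha
    exact hle ha
  let βbar : (R[X] ⧸ I) →ₐ[R] S := Ideal.Quotient.liftₐ I β hβI
  let E : (R[X] ⧸ I) ≃ₐ[R] S := IsLocalization.algEquiv (Submonoid.powers r) _ _
  have hsub : Subsingleton ((R[X] ⧸ I) →ₐ[R] S) :=
    IsLocalization.algHom_subsingleton (Submonoid.powers r)
  have hβE : βbar = E.toAlgHom := Subsingleton.elim _ _
  have hcomp : ∀ p, β p = E (Ideal.Quotient.mk I p) := by
    intro p
    have : βbar (Ideal.Quotient.mk I p) = β p := by simp [βbar]
    rw [← this, hβE]
    rfl
  constructor
  · intro s
    obtain ⟨p, hp⟩ := Ideal.Quotient.mk_surjective (E.symm s)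
    exact ⟨p, by rw [hcomp, hp, AlgEquiv.apply_symm_apply]⟩
  · ext p
    rw [RingHom.mem_ker]
    change β p = 0 ↔ _
    rw [hcomp, map_eq_zero_iff E E.injective, Ideal.Quotient.eq_zero_iff_mem]

/-- the localization away from an element is a local complete intersection algebra -/
theorem isLCI_of_isLocalizationAway (R S : Type u) [CommRing R] [CommRing S] [Algebra R S] (r : R)
    [IsLocalization.Away r S] : LCI.IsLCI R S := by
  have hfp : Algebra.FinitePresentation R S := IsLocalization.Away.finitePresentation r
  obtain ⟨hsurj, hker⟩ := aeval_invSelf_props R S r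
  let e₁ : MvPolynomial (Fin 1) R ≃ₐ[R] Polynomial R := MvPolynomial.uniqueAlgEquiv R (Fin 1)
  let β := Polynomial.aeval (R := R) (IsLocalization.Away.invSelf (S := S) r)
  refine ⟨inferInstance, 1, β.comp e₁.toAlgHom, hsurj.comp e₁.surjective, ?_⟩
  have : RingHom.ker (β.comp e₁.toAlgHom).toRingHom =
      (RingHom.ker β.toRingHom).comap (e₁.toRingEquiv : _ →+* _) := by
    ext x
    simp [RingHom.mem_ker]
  rw [this, isKoszulRegularIdeal_comap_ringEquiv_iff, hker]
  exact isKoszulRegularIdeal_ofList _ (kreg_CX_sub_one r)

attribute [local instance] MvPolynomial.algebraMvPolynomial in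
/-- if `R'` is a localization of `R` and `S'` is an `R'`-algebra which is a local complete intersection
over `R`, then it is a local complete intersection over `R'` -/
theorem isLCI_of_isLocalization_tower (R R' S' : Type u) [CommRing R] [CommRing R'] [CommRing S']
    (M : Submonoid R) [Algebra R R'] [IsLocalization M R'] [Algebra R' S'] [Algebra R S']
    [IsScalarTower R R' S'] (h : LCI.IsLCI R S') : LCI.IsLCI R' S' := by
  obtain ⟨hft, n, α, hα, hI⟩ := h
  have hft' : Algebra.FiniteType R' S' := Algebra.FiniteType.of_restrictScalars_finiteType R R' S'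
  refine ⟨hft', n, MvPolynomial.aeval (fun i => α (MvPolynomial.X i)), ?_, ?_⟩
  all_goals
    set α' : MvPolynomial (Fin n) R' →ₐ[R'] S' :=
      MvPolynomial.aeval (fun i => α (MvPolynomial.X i)) with hα'
    have hcomp : ∀ p : MvPolynomial (Fin n) R, α' (MvPolynomial.map (algebraMap R R') p) = α p := by
      intro p
      induction p using MvPolynomial.induction_on with
      | C a =>
        have h1 := α.commutes a
        rw [MvPolynomial.algebraMap_eq] at h1
        rw [MvPolynomial.map_C, hα', MvPolynomial.aeval_C, ← IsScalarTower.algebraMap_apply, h1]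
      | add p q hp hq => rw [map_add, map_add, map_add, hp, hq]
      | mul_X p i hp =>
        rw [map_mul, map_mul, map_mul, hp, MvPolynomial.map_X, hα', MvPolynomial.aeval_X]
  · intro s
    obtain ⟨p, rfl⟩ := hα s
    exact ⟨_, hcomp p⟩
  · have hflat : Module.Flat (MvPolynomial (Fin n) R) (MvPolynomial (Fin n) R') :=
      IsLocalization.flat _ (M.map (MvPolynomial.C (σ := Fin n)))
    have hK := isKoszulRegularIdeal_map_of_flat (B := MvPolynomial (Fin n) R') _ hI
    have hker : RingHom.ker α'.toRingHom = (RingHom.ker α.toRingHom).map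
        (algebraMap (MvPolynomial (Fin n) R) (MvPolynomial (Fin n) R')) := by
      apply le_antisymm
      · intro p' hp'
        rw [RingHom.mem_ker] at hp'
        obtain ⟨⟨p, m⟩, hpm⟩ := IsLocalization.surj (M.map (MvPolynomial.C (σ := Fin n))) p'
        have hu : IsUnit (algebraMap (MvPolynomial (Fin n) R) (MvPolynomial (Fin n) R') m) :=
          IsLocalization.map_units _ m
        rw [← Ideal.mul_unit_mem_iff_mem _ hu, hpm]
        apply Ideal.mem_map_of_mem
        rw [RingHom.mem_ker]
        change α p = 0
        rw [← hcomp p]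
        change α' (algebraMap (MvPolynomial (Fin n) R) (MvPolynomial (Fin n) R') p) = 0
        rw [← hpm, map_mul]
        rw [show α' p' = 0 from hp', zero_mul]
      · rw [Ideal.map_le_iff_le_comap]
        intro p hp
        rw [RingHom.mem_ker] at hp
        rw [Ideal.mem_comap, RingHom.mem_ker]
        change α' (MvPolynomial.map (algebraMap R R') p) = 0
        rw [hcomp]
        exact hp
    rw [hker]
    exact hK

theorem isLCIHom_holdsForLocalizationAway : RingHom.HoldsForLocalizationAway @IsLCIHom := by
  intro R S _ _ _ r _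
  exact isLCIHom_algebraMap_iff.2 (isLCI_of_isLocalizationAway R S r)

theorem isLCIHom_stableUnderComposition : RingHom.StableUnderComposition @IsLCIHom := by
  intro R S T _ _ _ f g hf hg
  exact isLCIHom_comp f g hf hg

theorem isLCIHom_of_isLocalization_comp {R R' S' : Type u} [CommRing R] [CommRing R'] [CommRing S']
    (M : Submonoid R) [Algebra R R'] [IsLocalization M R'] (ψ : R' →+* S')
    (h : IsLCIHom (ψ.comp (algebraMap R R'))) : IsLCIHom ψ := by
  let _ := ψ.toAlgebra
  let _ : Algebra R S' := (ψ.comp (algebraMap R R')).toAlgebra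
  have : IsScalarTower R R' S' := IsScalarTower.of_algebraMap_eq (fun x => rfl)
  exact isLCI_of_isLocalization_tower R R' S' M h

theorem isLCIHom_localizationAwayPreserves : RingHom.LocalizationAwayPreserves @IsLCIHom := by
  intro R S _ _ f r R' S' _ _ _ _ _ _ hf
  apply isLCIHom_of_isLocalization_comp (Submonoid.powers r)
  have h1 : (IsLocalization.Away.map R' S' f r).comp (algebraMap R R') =
      (algebraMap S S').comp f := IsLocalization.map_comp _
  rw [h1]
  exact isLCIHom_comp f (algebraMap S S') hf (isLCIHom_holdsForLocalizationAway S' (f r))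

theorem isLCIHom_ofLocalizationSpanTarget : RingHom.OfLocalizationSpanTarget @IsLCIHom := by
  rw [RingHom.ofLocalizationSpanTarget_iff_finite]
  intro R S _ _ f s hs h
  refine isLCIHom_of_away_cover f s.card (fun j => ((s.equivFin.symm j : s) : S)) ?_
    (fun j => Localization.Away ((s.equivFin.symm j : s) : S))
    (fun j => algebraMap S _) ?_ ?_
  · have : Set.range (fun j => ((s.equivFin.symm j : s) : S)) = (s : Set S) := by
      ext x
      constructor
      · rintro ⟨j, rfl⟩
        exact (s.equivFin.symm j).2
      · intro hx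
        exact ⟨s.equivFin ⟨x, hx⟩, by simp⟩
    rw [this]
    exact hs
  · intro j
    rw [toAlgebra_algebraMap]
    infer_instance
  · intro j
    exact h (s.equivFin.symm j)

theorem isLCIHom_propertyIsLocal : RingHom.PropertyIsLocal @IsLCIHom where
  localizationAwayPreserves := isLCIHom_localizationAwayPreserves
  ofLocalizationSpanTarget := isLCIHom_ofLocalizationSpanTarget
  ofLocalizationSpan := isLCIHom_ofLocalizationSpanTarget.ofLocalizationSpan
    (isLCIHom_stableUnderComposition.stableUnderCompositionWithLocalizationAway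
      isLCIHom_holdsForLocalizationAway).1
  StableUnderCompositionWithLocalizationAwayTarget :=
    (isLCIHom_stableUnderComposition.stableUnderCompositionWithLocalizationAway
      isLCIHom_holdsForLocalizationAway).2

theorem isLCIHom_respectsIso : RingHom.RespectsIso @IsLCIHom :=
  isLCIHom_propertyIsLocal.respectsIso

theorem isLCIHom_codescendsAlong :
    RingHom.CodescendsAlong @IsLCIHom RingHom.FaithfullyFlat := by
  refine .mk _ isLCIHom_respectsIso fun R S T _ _ _ _ _ h h' ↦ ?_
  rw [isLCIHom_algebraMap_iff] at h' ⊢
  rw [RingHom.faithfullyFlat_algebraMap_iff] at h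
  exact isLCI_of_faithfullyFlat R T S h'

end Groth.Agent.Lib.Helper16.KzComp
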