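import Mathlib
import Groth.Prelude.Def_Koszul
import Groth.Prelude.Def_LCI2
import Groth.Agent.Lib.Helper16.KzDesc1

/-!
# fpqc descent of affine-locally local complete intersection morphisms of schemes
-/

set_option autoImplicit false
set_option linter.unusedSectionVars false
set_option linter.unusedVariables false
set_option linter.unusedSimpArgs false
universe u
open CategoryTheory CategoryTheory.Limits AlgebraicGeometry MorphismProperty

namespace Groth.Agent.Lib.Helper16.KzComp

/-- morphisms of schemes that are affine-locally local complete intersection ring maps -/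
def LCIMor : MorphismProperty Scheme.{u} := affineLocally @IsLCIHom

instance : HasRingHomProperty LCIMor.{u} @IsLCIHom where
  isLocal_ringHomProperty := isLCIHom_propertyIsLocal
  eq_affineLocally' := rfl

theorem lciMor_iff {X Y : Scheme.{u}} (f : X ⟶ Y) :
    LCIMor f ↔ ∀ (U : X.Opens) (V : Y.Opens) (hU : IsAffineOpen U) (hV : IsAffineOpen V)
      (hUV : U ≤ f ⁻¹ᵁ V), IsLCIHom (f.appLE V U hUV).hom := by
  rw [HasRingHomProperty.iff_appLE (P := LCIMor)]
  constructor
  · intro h U V hU hV hUV
    exact h ⟨V, hV⟩ ⟨U, hU⟩ hUV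
  · intro h V U e
    exact h U.1 V.1 U.2 V.2 e

/-- a property local at the target is stable under base change along local isomorphisms -/
lemma pullback_fst_of_isLocalIso (P : MorphismProperty Scheme.{u}) [IsZariskiLocalAtTarget P]
    {X Y W : Scheme.{u}} (q : Y ⟶ X) (hq : IsLocalIso q) (h : W ⟶ X) (hP : P h) :
    P (pullback.fst q h) := by
  obtain ⟨𝒰, h𝒰⟩ := IsLocalIso.eq_sourceLocalClosure_isOpenImmersion ▸ hq
  rw [IsZariskiLocalAtTarget.iff_of_openCover (P := P) 𝒰]
  intro i
  have := h𝒰 i
  have hpb : IsPullback (pullback.fst (pullback.fst q h) (𝒰.f i) ≫ pullback.snd q h)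
      (pullback.snd (pullback.fst q h) (𝒰.f i)) h (𝒰.f i ≫ q) :=
    IsPullback.paste_horiz (IsPullback.of_hasPullback (pullback.fst q h) (𝒰.f i))
      (IsPullback.of_hasPullback q h).flip
  exact IsZariskiLocalAtTarget.of_isPullback hpb hP


set_option backward.isDefEq.respectTransparency.types false in
/-- variant of Mathlib's `IsZariskiLocalAtTarget.descendsAlong_inf_quasiCompact` which does not
assume that `P` is stable under arbitrary base change -/
lemma descendsAlong_inf_quasiCompact_of_local (P P' : MorphismProperty Scheme.{u})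
    [P'.IsStableUnderBaseChange] [P'.IsStableUnderComposition]
    (H₁ : (@IsLocalIso ⊓ @Surjective : MorphismProperty Scheme) ≤ P')
    [IsZariskiLocalAtTarget P]
    (H : ∀ {R S : CommRingCat.{u}} {Y : Scheme.{u}} (φ : R ⟶ S) (g : Y ⟶ Spec R),
      P' (Spec.map φ) → P (pullback.fst (Spec.map φ) g) → P g) :
    P.DescendsAlong (P' ⊓ @QuasiCompact) := by
  apply IsZariskiLocalAtTarget.descendsAlong
  intro R X Y f g hf h
  wlog hX : ∃ T, X = Spec T generalizing X
  · have _ : CompactSpace X := by simpa [← quasiCompact_iff_compactSpace f] using hf.2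
    obtain ⟨Y, p, hsurj, hP', hY⟩ := X.exists_hom_isAffine_of_isZariskiLocalAtSource @IsLocalIso
    refine this (f := (Y.isoSpec.inv ≫ p) ≫ f) ?_ ?_ ⟨_, rfl⟩
    · rw [Category.assoc, (P' ⊓ @QuasiCompact).cancel_left_of_respectsIso]
      exact ⟨P'.comp_mem _ _ (H₁ _ ⟨hP', hsurj⟩) hf.1, inferInstance⟩
    · rw [← pullbackRightPullbackFstIso_inv_fst f g _, P.cancel_left_of_respectsIso]
      refine pullback_fst_of_isLocalIso P _ ?_ _ h
      exact (MorphismProperty.cancel_left_of_respectsIso @IsLocalIso _ _).mpr hP'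
  obtain ⟨T, rfl⟩ := hX
  obtain ⟨φ, rfl⟩ := Spec.map_surjective f
  exact H φ g hf.1 h

set_option backward.isDefEq.respectTransparency.types false in
/-- variant of Mathlib's `HasRingHomProperty.descendsAlong` which does not
assume that `P` is stable under arbitrary base change -/
lemma descendsAlong_of_codescendsAlong (P P' : MorphismProperty Scheme.{u})
    (Q Q' : ∀ {R S : Type u} [CommRing R] [CommRing S], (R →+* S) → Prop)
    [P'.IsStableUnderBaseChange] [P'.IsStableUnderComposition]
    (H₁ : (@IsLocalIso ⊓ @Surjective : MorphismProperty Scheme) ≤ P')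
    (H₂ : ∀ {R S : CommRingCat.{u}} {f : R ⟶ S}, P' (Spec.map f) → Q' f.hom)
    [HasRingHomProperty P Q] (hQQ' : RingHom.CodescendsAlong Q Q') :
    P.DescendsAlong (P' ⊓ @QuasiCompact) := by
  apply descendsAlong_inf_quasiCompact_of_local _ _ H₁
  introv h hf
  wlog hY : ∃ S, Y = Spec S generalizing Y
  · rw [IsZariskiLocalAtSource.iff_of_openCover (P := P) Y.affineCover]
    intro i
    have heq : pullback.fst (Spec.map φ) (Y.affineCover.f i ≫ g) =
        pullback.map _ _ _ _ (𝟙 _) (Y.affineCover.f i) (𝟙 _) (by simp) (by simp) ≫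
          pullback.fst (Spec.map φ) g := (pullback.lift_fst _ _ _).symm
    exact this _ (heq ▸ AlgebraicGeometry.IsZariskiLocalAtSource.comp hf _) ⟨_, rfl⟩
  obtain ⟨S, rfl⟩ := hY
  apply of_pullback_fst_Spec_of_codescendsAlong _ _ hQQ' H₂ _ h hf
  simp [HasRingHomProperty.Spec_iff (P := P)]

set_option backward.isDefEq.respectTransparency.types false in
/-- **fpqc descent of local complete intersection morphisms.** -/
theorem lciMor_descendsAlong :
    LCIMor.{u}.DescendsAlong (@Surjective ⊓ @Flat ⊓ @QuasiCompact) := by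
  refine descendsAlong_of_codescendsAlong _ _ @IsLCIHom RingHom.FaithfullyFlat ?_ ?_
    isLCIHom_codescendsAlong
  · rw [inf_comm]
    gcongr
    exact IsLocalIso.le_of_isZariskiLocalAtSource @Flat
  · intro R S f ⟨hf₁, hf₂⟩
    rw [RingHom.FaithfullyFlat.iff_flat_and_comap_surjective]
    refine ⟨?_, (Spec.map f).surjective⟩
    rwa [HasRingHomProperty.Spec_iff (P := @Flat)] at hf₂

end Groth.Agent.Lib.Helper16.KzComp
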