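import Groth.Agent.Lib.Helper16.Depth
import Mathlib.RingTheory.Regular.Category

/-!
# Depth library, part 2 (helper16): Ext long exact sequence consequences

* `subsingleton_ext_of_smul_top_eq_top` : if `IM = M` (`M` finite) then `Ext^i(R/I, M) = 0` for all `i`.
* `le_idealDepth_iff_ext'` : `(n : ℕ∞) ≤ idealDepth I M ↔ ∀ i < n, Ext^i(R/I, M) = 0`
  (no hypothesis `IM ≠ M`).
* `ext_X₂`, `ext_X₃`, `ext_X₁_zero`, `ext_X₁_succ` : vanishing of `Ext` along a short exact sequence.
* `shortExact_of_linearMaps` : a short exact sequence in `ModuleCat` from linear maps.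
* `smul_top_quotSMulTop_ne_top`.
-/

set_option autoImplicit false
universe u v w

open CategoryTheory RingTheory.Sequence CategoryTheory.Abelian

namespace Groth.Agent.Lib.Helper16.Depth

section vanish

variable {R : Type u} [CommRing R]

theorem subsingleton_ext_of_smul_top_eq_top (I : Ideal R) (M : Type u) [AddCommGroup M]
    [Module R M] [Module.Finite R M] (h : I • (⊤ : Submodule R M) = ⊤) (i : ℕ) :
    Subsingleton (Abelian.Ext (ModuleCat.of R (R ⧸ I)) (ModuleCat.of R M) i) := by
  obtain ⟨r, hr1, hr0⟩ := Submodule.exists_sub_one_mem_and_smul_eq_zero_of_fg_of_le_smul I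
    (⊤ : Submodule R M) Module.Finite.fg_top h.ge
  refine ⟨fun e e' => ?_⟩
  suffices hz : ∀ e : Abelian.Ext (ModuleCat.of R (R ⧸ I)) (ModuleCat.of R M) i, e = 0 by
    rw [hz e, hz e']
  intro e
  have h1 : r • e = 0 := by
    have hid : r • 𝟙 (ModuleCat.of R M) = 0 := by
      ext m
      exact hr0 m trivial
    have : r • e = e.comp (Ext.mk₀ (r • 𝟙 (ModuleCat.of R M))) (add_zero i) := by
      simp [Ext.mk₀_smul]
    rw [this, hid, Ext.mk₀_zero, Ext.comp_zero]
  have h2 : (r - 1) • e = 0 := by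
    have hid : (r - 1) • 𝟙 (ModuleCat.of R (R ⧸ I)) = 0 := by
      apply ModuleCat.hom_ext
      apply LinearMap.ext
      intro y
      obtain ⟨x, rfl⟩ := Ideal.Quotient.mk_surjective y
      change (r - 1) • (Ideal.Quotient.mk I x) = 0
      rw [Algebra.smul_def]
      have : (algebraMap R (R ⧸ I)) (r - 1) = 0 := Ideal.Quotient.eq_zero_iff_mem.mpr hr1
      rw [this, zero_mul]
    have : (r - 1) • e = (Ext.mk₀ ((r - 1) • 𝟙 (ModuleCat.of R (R ⧸ I)))).comp e (zero_add i) := by
      simp [Ext.mk₀_smul]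
    rw [this, hid, Ext.mk₀_zero, Ext.zero_comp]
  have : e = r • e - (r - 1) • e := by rw [← sub_smul]; simp
  rw [this, h1, h2, sub_zero]

variable [IsNoetherianRing R] (I : Ideal R) (M : Type u) [AddCommGroup M] [Module R M]
  [Module.Finite R M]

/-- Rees' characterization of depth, including the degenerate case `IM = M`. -/
theorem le_idealDepth_iff_ext' (n : ℕ) :
    (n : ℕ∞) ≤ LocCoh.idealDepth I M ↔
      ∀ i : ℕ, i < n → Subsingleton (Abelian.Ext (ModuleCat.of R (R ⧸ I)) (ModuleCat.of R M) i) := by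
  by_cases hIM : I • (⊤ : Submodule R M) = ⊤
  · rw [idealDepth_eq_top_of_smul_top_eq_top I M hIM]
    simp only [le_top, true_iff]
    intro i _
    exact subsingleton_ext_of_smul_top_eq_top I M hIM i
  · exact le_idealDepth_iff_ext I M hIM n

/-- To prove `a ≤ idealDepth I M` it suffices to show `Ext` vanishing below every natural number
bounded by `a`. -/
theorem le_idealDepth_of_forall (a : ℕ∞)
    (h : ∀ n : ℕ, (n : ℕ∞) ≤ a → ∀ i : ℕ, i < n →
      Subsingleton (Abelian.Ext (ModuleCat.of R (R ⧸ I)) (ModuleCat.of R M) i)) :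
    a ≤ LocCoh.idealDepth I M := by
  rw [← ENat.forall_natCast_le_iff_le]
  intro n hn
  exact (le_idealDepth_iff_ext' I M n).mpr (h n hn)

theorem subsingleton_ext_of_lt_idealDepth (i : ℕ) (h : (i : ℕ∞) < LocCoh.idealDepth I M) :
    Subsingleton (Abelian.Ext (ModuleCat.of R (R ⧸ I)) (ModuleCat.of R M) i) := by
  have h2 : ((i + 1 : ℕ) : ℕ∞) ≤ LocCoh.idealDepth I M := by
    have := Order.add_one_le_of_lt h
    exact_mod_cast this
  exact (le_idealDepth_iff_ext' I M (i + 1)).mp h2 i (Nat.lt_succ_self i)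

end vanish

section les

variable {C : Type u} [Category.{v} C] [Abelian C] [HasExt.{w} C] {S : ShortComplex C}
  (hS : S.ShortExact) (X : C)

include hS

theorem ext_X₂ (i : ℕ) (h1 : Subsingleton (Ext X S.X₁ i)) (h3 : Subsingleton (Ext X S.X₃ i)) :
    Subsingleton (Ext X S.X₂ i) := by
  refine ⟨fun a b => ?_⟩
  suffices hz : ∀ e : Ext X S.X₂ i, e = 0 by rw [hz a, hz b]
  intro e
  obtain ⟨x₁, hx₁⟩ := Ext.covariant_sequence_exact₂ X hS e (Subsingleton.elim _ _)
  rw [← hx₁, Subsingleton.elim x₁ 0, Ext.zero_comp]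

theorem ext_X₃ (i : ℕ) (h2 : Subsingleton (Ext X S.X₂ i))
    (h1 : Subsingleton (Ext X S.X₁ (i + 1))) : Subsingleton (Ext X S.X₃ i) := by
  refine ⟨fun a b => ?_⟩
  suffices hz : ∀ e : Ext X S.X₃ i, e = 0 by rw [hz a, hz b]
  intro e
  obtain ⟨x₂, hx₂⟩ := Ext.covariant_sequence_exact₃ X hS e rfl (Subsingleton.elim _ _)
  rw [← hx₂, Subsingleton.elim x₂ 0, Ext.zero_comp]

theorem ext_X₁_succ (i : ℕ) (h3 : Subsingleton (Ext X S.X₃ i))
    (h2 : Subsingleton (Ext X S.X₂ (i + 1))) : Subsingleton (Ext X S.X₁ (i + 1)) := by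
  refine ⟨fun a b => ?_⟩
  suffices hz : ∀ e : Ext X S.X₁ (i + 1), e = 0 by rw [hz a, hz b]
  intro e
  obtain ⟨x₃, hx₃⟩ := Ext.covariant_sequence_exact₁ X hS e (Subsingleton.elim _ _) rfl
  rw [← hx₃, Subsingleton.elim x₃ 0, Ext.zero_comp]

theorem ext_X₁_zero (h2 : Subsingleton (Ext X S.X₂ 0)) : Subsingleton (Ext X S.X₁ 0) := by
  have : Mono S.f := hS.mono_f
  exact (Ext.postcomp_mk₀_injective_of_mono X S.f).subsingleton

end les

section modules

variable {R : Type u} [CommRing R]

/-- A short exact sequence of `R`-modules as a short exact `ShortComplex` in `ModuleCat`. -/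
theorem shortExact_of_linearMaps {N' N N'' : Type v} [AddCommGroup N'] [Module R N']
    [AddCommGroup N] [Module R N] [AddCommGroup N''] [Module R N'']
    (f : N' →ₗ[R] N) (g : N →ₗ[R] N'') (hf : Function.Injective f) (hg : Function.Surjective g)
    (hfg : Function.Exact f g) :
    (ModuleCat.shortComplexOfCompEqZero f g hfg.linearMap_comp_eq_zero).ShortExact where
  exact := ModuleCat.shortComplex_exact _ hfg
  mono_f := by
    simpa [ModuleCat.shortComplexOfCompEqZero, ModuleCat.mono_iff_injective] using hf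
  epi_g := by
    simpa [ModuleCat.shortComplexOfCompEqZero, ModuleCat.epi_iff_surjective] using hg

theorem smul_top_quotSMulTop_ne_top {M : Type v} [AddCommGroup M]
    [Module R M] {I : Ideal R} {r : R} (hr : r ∈ I)
    (hI : I • (⊤ : Submodule R M) ≠ ⊤) :
    I • (⊤ : Submodule R (QuotSMulTop r M)) ≠ ⊤ := by
  by_contra eq
  absurd congrArg (Submodule.comap (Submodule.mkQ _)) eq
  simpa [Submodule.comap_smul_top_of_surjective I _ (Submodule.mkQ_surjective _),
    Submodule.smul_mono_left ((Ideal.span_singleton_le_iff_mem I).mpr hr),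
    ← Submodule.ideal_span_singleton_smul] using hI

end modules

end Groth.Agent.Lib.Helper16.Depth
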