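import Mathlib
import Groth.Prelude.Def_RegImm
import Groth.Agent.Lib.Helper18.FlatDepth

/-!
# Transversally regular sequences: reduction to and lifting from the closed fibre
-/

set_option autoImplicit false
set_option linter.unusedSectionVars false
set_option linter.unusedVariables false
set_option linter.unusedSimpArgs false
universe u
open IsLocalRing TensorProduct Pointwise RingTheory.Sequence

namespace Groth.Agent.Lib.Helper16.TransReg

section general

/-- Elements of `I N` are finite combinations `∑ aᵢ nᵢ` with `aᵢ ∈ I`. -/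
theorem exists_sum_of_mem_smul_top {A : Type*} [CommRing A] {N : Type*} [AddCommGroup N]
    [Module A N] (I : Ideal A) (x : N) (hx : x ∈ (I • ⊤ : Submodule A N)) :
    ∃ (k : ℕ) (a : Fin k → A) (m : Fin k → N), (∀ i, a i ∈ I) ∧ ∑ i, a i • m i = x := by
  classical
  have h : x ∈ I • Submodule.span A (Set.range (id : N → N)) := by
    rw [Set.range_id, Submodule.span_univ]; exact hx
  rw [Submodule.mem_ideal_smul_span_iff_exists_sum] at h
  obtain ⟨a, ha, rfl⟩ := h
  refine ⟨a.support.card, fun i => a ((a.support.equivFin.symm i : N)),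
    fun i => (a.support.equivFin.symm i : N), fun i => ha _, ?_⟩
  rw [Finsupp.sum, ← Finset.sum_coe_sort a.support]
  exact (a.support.equivFin.symm.sum_comp (fun i : a.support => a (i : N) • (i : N)))

variable {A C : Type u} [CommRing A] [CommRing C] [Algebra A C]

/-- If `r` is `N`-regular and `N/rN` is flat over `A`, then `r` is regular on `N/IN`. -/
theorem isSMulRegular_quot_of_flat (N : Type u) [AddCommGroup N] [Module C N] [Module A N]
    [IsScalarTower A C N] (I : Ideal A) (r : C) (hr : IsSMulRegular N r)
    [Module.Flat A (QuotSMulTop r N)] :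
    IsSMulRegular (N ⧸ (I.map (algebraMap A C) • ⊤ : Submodule C N)) r := by
  classical
  rw [isSMulRegular_iff_right_eq_zero_of_smul]
  intro nbar h0
  obtain ⟨n, rfl⟩ := Submodule.Quotient.mk_surjective _ nbar
  rw [← Submodule.Quotient.mk_smul, Submodule.Quotient.mk_eq_zero,
    Groth.Agent.Lib.Helper18.CM.mem_map_smul_top_iff] at h0
  rw [Submodule.Quotient.mk_eq_zero, Groth.Agent.Lib.Helper18.CM.mem_map_smul_top_iff]
  obtain ⟨k, a, m, ha, hsum⟩ := exists_sum_of_mem_smul_top I _ h0
  -- relation in `N/rN`
  have hrel : ∑ i, a i • (Submodule.Quotient.mk (m i) : QuotSMulTop r N) = 0 := by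
    have h1 : (Submodule.Quotient.mk (r • n) : QuotSMulTop r N) = 0 := by
      rw [Submodule.Quotient.mk_eq_zero]
      exact Submodule.smul_mem_pointwise_smul n r ⊤ trivial
    rw [← h1, ← hsum, ← Submodule.mkQ_apply, map_sum]
    refine Finset.sum_congr rfl fun i _ => ?_
    rw [Submodule.mkQ_apply, ← algebraMap_smul C (a i) (m i), Submodule.Quotient.mk_smul,
      algebraMap_smul]
  obtain ⟨l, b, y, hy, hb⟩ := Module.Flat.isTrivialRelation_of_sum_smul_eq_zero hrel
  replace hy : ∀ i, (Submodule.Quotient.mk (m i) : QuotSMulTop r N) = ∑ j, b i j • y j := hy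
  choose z hz using fun j => Submodule.Quotient.mk_surjective _ (y j)
  have hmem : ∀ i, ∃ w : N, m i - ∑ j, b i j • z j = r • w := by
    intro i
    have h2 : (Submodule.Quotient.mk (m i - ∑ j, b i j • z j) : QuotSMulTop r N) = 0 := by
      rw [Submodule.Quotient.mk_sub, hy i, sub_eq_zero, ← Submodule.mkQ_apply, map_sum]
      refine Finset.sum_congr rfl fun j _ => ?_
      rw [Submodule.mkQ_apply, ← hz j, ← algebraMap_smul C (b i j) (z j),
        Submodule.Quotient.mk_smul, algebraMap_smul]
    rw [Submodule.Quotient.mk_eq_zero, Submodule.mem_smul_pointwise_iff_exists] at h2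
    obtain ⟨w, -, hw⟩ := h2
    exact ⟨w, hw.symm⟩
  choose w hw using hmem
  have hkey : r • n = r • ∑ i, a i • w i := by
    have h3 : ∑ i, a i • ∑ j, b i j • z j = 0 := by
      simp_rw [Finset.smul_sum]
      rw [Finset.sum_comm]
      refine Finset.sum_eq_zero fun j _ => ?_
      simp_rw [smul_smul]
      rw [← Finset.sum_smul, hb j, zero_smul]
    have h4 : ∀ i, m i = ∑ j, b i j • z j + r • w i := by
      intro i; rw [← hw i]; abel
    rw [← hsum]
    calc ∑ i, a i • m i = ∑ i, (a i • ∑ j, b i j • z j + a i • (r • w i)) := by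
          refine Finset.sum_congr rfl fun i _ => ?_
          rw [← smul_add, ← h4 i]
      _ = ∑ i, a i • (r • w i) := by rw [Finset.sum_add_distrib, h3, zero_add]
      _ = r • ∑ i, a i • w i := by
          rw [Finset.smul_sum]
          refine Finset.sum_congr rfl fun i _ => ?_
          rw [smul_comm]
  have hn : n = ∑ i, a i • w i := hr hkey
  rw [hn]
  exact Submodule.sum_mem _ fun i _ => Submodule.smul_mem_smul (ha i) trivial

/-- Module-level transversal regularity: `rs` is weakly regular on `N` and all partial quotients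
are flat over `A`. -/
def TR (A : Type u) {C : Type u} [CommRing A] [CommRing C] [Algebra A C]
    (N : Type u) [AddCommGroup N] [Module C N] [Module A N] [IsScalarTower A C N]
    (rs : List C) : Prop :=
  IsWeaklyRegular N rs ∧
    ∀ j : ℕ, j ≤ rs.length → Module.Flat A (N ⧸ (Ideal.ofList (rs.take j) • ⊤ : Submodule C N))

section TRlemmas

variable (N : Type u) [AddCommGroup N] [Module C N] [Module A N] [IsScalarTower A C N]

/-- `N ⧸ (∅) N ≃ N`. -/
noncomputable def quotNilEquiv :
    (N ⧸ (Ideal.ofList ([] : List C) • ⊤ : Submodule C N)) ≃ₗ[C] N :=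
  Submodule.quotEquivOfEqBot _ (by rw [Ideal.ofList_nil, Submodule.bot_smul])

theorem flat_quot_nil_iff :
    Module.Flat A (N ⧸ (Ideal.ofList ([] : List C) • ⊤ : Submodule C N)) ↔ Module.Flat A N :=
  ⟨fun h => Module.Flat.of_linearEquiv ((quotNilEquiv (C := C) N).symm.restrictScalars A),
   fun h => Module.Flat.of_linearEquiv ((quotNilEquiv (C := C) N).restrictScalars A)⟩

theorem TR.flat {rs : List C} (h : TR A N rs) : Module.Flat A N := by
  have := h.2 0 (Nat.zero_le _)
  rw [List.take_zero] at this
  exact (flat_quot_nil_iff N).mp this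

theorem tr_nil_iff : TR A N ([] : List C) ↔ Module.Flat A N := by
  constructor
  · exact fun h => h.flat
  · intro h
    refine ⟨IsWeaklyRegular.nil C N, fun j hj => ?_⟩
    rw [List.take_nil]
    exact (flat_quot_nil_iff N).mpr h

theorem flat_quot_cons_iff (r : C) (l : List C) :
    Module.Flat A (N ⧸ (Ideal.ofList (r :: l) • ⊤ : Submodule C N)) ↔
      Module.Flat A (QuotSMulTop r N ⧸ (Ideal.ofList l • ⊤ : Submodule C (QuotSMulTop r N))) :=
  ⟨fun h => Module.Flat.of_linearEquiv
      ((Submodule.quotOfListConsSMulTopEquivQuotSMulTopInner N r l).symm.restrictScalars A),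
   fun h => Module.Flat.of_linearEquiv
      ((Submodule.quotOfListConsSMulTopEquivQuotSMulTopInner N r l).restrictScalars A)⟩

theorem tr_cons_iff (r : C) (rs : List C) :
    TR A N (r :: rs) ↔ Module.Flat A N ∧ IsSMulRegular N r ∧ TR A (QuotSMulTop r N) rs := by
  constructor
  · intro h
    refine ⟨h.flat, ((isWeaklyRegular_cons_iff N r rs).mp h.1).1,
      ((isWeaklyRegular_cons_iff N r rs).mp h.1).2, fun j hj => ?_⟩
    have := h.2 (j + 1) (by simpa using hj)
    rw [List.take_succ_cons] at this
    exact (flat_quot_cons_iff N r _).mp this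
  · rintro ⟨hfl, hr, hw, hf⟩
    refine ⟨(isWeaklyRegular_cons_iff N r rs).mpr ⟨hr, hw⟩, fun j hj => ?_⟩
    cases j with
    | zero =>
      rw [List.take_zero]
      exact (flat_quot_nil_iff N).mpr hfl
    | succ j =>
      rw [List.take_succ_cons]
      exact (flat_quot_cons_iff N r _).mpr (hf j (by simpa using hj))

end TRlemmas

/-- A transversally regular sequence stays weakly regular modulo any ideal of the base. -/
theorem isWeaklyRegular_quot_of_tr (I : Ideal A) (rs : List C) :
    ∀ (N : Type u) [AddCommGroup N] [Module C N] [Module A N] [IsScalarTower A C N],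
      TR A N rs → IsWeaklyRegular (N ⧸ (I.map (algebraMap A C) • ⊤ : Submodule C N)) rs := by
  induction rs with
  | nil => intro N _ _ _ _ _; exact IsWeaklyRegular.nil C _
  | cons r rs ih =>
    intro N _ _ _ _ h
    obtain ⟨hfl, hr, htr⟩ := (tr_cons_iff N r rs).mp h
    have hfl' : Module.Flat A (QuotSMulTop r N) := htr.flat
    rw [isWeaklyRegular_cons_iff]
    refine ⟨isSMulRegular_quot_of_flat N I r hr, ?_⟩
    have := ih (QuotSMulTop r N) htr
    exact ((Groth.Agent.Lib.Helper18.CM.quotSMulTopQuotEquiv N
      (I.map (algebraMap A C)) r).isWeaklyRegular_congr rs).mpr this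

end general

section localCase

variable {A C : Type u} [CommRing A] [CommRing C] [IsLocalRing A] [IsLocalRing C]
  [IsNoetherianRing A] [IsNoetherianRing C] [Algebra A C] [IsLocalHom (algebraMap A C)]

/-- **Lifting regular sequences from the closed fibre** (Noetherian local case): a sequence which
is weakly regular on `N/𝔪_A N`, `N` finite over `C` and flat over `A`, is transversally regular. -/
theorem tr_of_isWeaklyRegular_fibre (rs : List C) :
    ∀ (N : Type u) [AddCommGroup N] [Module C N] [Module A N] [IsScalarTower A C N]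
      [Module.Finite C N] [Module.Flat A N],
      IsWeaklyRegular (N ⧸ ((maximalIdeal A).map (algebraMap A C) • ⊤ : Submodule C N)) rs →
        TR A N rs := by
  induction rs with
  | nil => intro N _ _ _ _ _ hfl _; exact (tr_nil_iff N).mpr hfl
  | cons r rs ih =>
    intro N _ _ _ _ _ hfl h
    rw [isWeaklyRegular_cons_iff] at h
    obtain ⟨hr, hw⟩ := h
    have hk := Groth.Agent.Lib.Helper18.CM.smulEnd_lTensor_residueField_injective (A := A) N hr
    have hinj := (Groth.Agent.Lib.Helper9.injective_and_flat_of_lTensor_residueField_injective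
      (Groth.Agent.Lib.Helper18.CM.smulEnd (A := A) N r) C hk).1
    have hfl' : Module.Flat A (QuotSMulTop r N) :=
      Groth.Agent.Lib.Helper18.CM.flat_quotSMulTop_of_isSMulRegular_fibre N hr
    have hw' := ((Groth.Agent.Lib.Helper18.CM.quotSMulTopQuotEquiv N
      ((maximalIdeal A).map (algebraMap A C)) r).isWeaklyRegular_congr rs).mp hw
    exact (tr_cons_iff N r rs).mpr ⟨hfl, hinj, ih (QuotSMulTop r N) hw'⟩

end localCase

end Groth.Agent.Lib.Helper16.TransReg
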