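import Groth.Agent.Lib.Helper16.PDRegular
import Groth.Agent.Lib.Helper18.CM5
import Groth.Agent.Lib.Helper18.SerreReg2

/-!
# Dimension formula and projective dimension at primes over regular local rings (helper16)

* `isCohenMacaulayModule_self_of_isRegularLocalRing`.
* `ringKrullDim_eq_quotient_add_height` : `dim R = dim R/p + ht p` for a regular local ring.
* `hasProjectiveDimensionLT_succ_localization_of_le` : A–B at a prime of a regular local ring.
-/

set_option autoImplicit false
universe u

open IsLocalRing CategoryTheory

namespace Groth.Agent.Lib.Helper16.PDR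

open Groth.Agent.Lib.Helper18.CM

theorem isCohenMacaulayModule_self_of_isRegularLocalRing (R : Type u) [CommRing R]
    [IsRegularLocalRing R] : LocCoh.IsCohenMacaulayModule R R := by
  unfold LocCoh.IsCohenMacaulayModule
  apply le_antisymm
  · rw [Module.supportDim_self_eq_ringKrullDim]
    exact ringKrullDim_le_depth_of_free R R
  · exact depth_le_supportDim (R := R) R

theorem supportDim_localizedModule_self {R : Type u} [CommRing R] (p : Ideal R) [p.IsPrime] :
    Module.supportDim (Localization.AtPrime p) (LocalizedModule p.primeCompl R) =
      ((p.height : ℕ∞) : WithBot ℕ∞) := by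
  let e : LocalizedModule p.primeCompl R ≃ₗ[R] Localization.AtPrime p :=
    IsLocalizedModule.iso p.primeCompl (Algebra.linearMap R (Localization.AtPrime p))
  let e' : LocalizedModule p.primeCompl R ≃ₗ[Localization.AtPrime p] Localization.AtPrime p :=
    LinearEquiv.extendScalarsOfIsLocalization p.primeCompl (Localization.AtPrime p) e
  rw [Module.supportDim_eq_of_equiv e', Module.supportDim_self_eq_ringKrullDim,
    IsLocalization.AtPrime.ringKrullDim_eq_height p (Localization.AtPrime p)]

/-- `dim R = dim R/p + ht p` for a regular local ring. -/
theorem ringKrullDim_eq_quotient_add_height (R : Type u) [CommRing R] [IsRegularLocalRing R]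
    (p : Ideal R) [hp : p.IsPrime] :
    ringKrullDim R = ringKrullDim (R ⧸ p) + ((p.height : ℕ∞) : WithBot ℕ∞) := by
  have hCM := isCohenMacaulayModule_self_of_isRegularLocalRing R
  have hsupp : (⟨p, hp⟩ : PrimeSpectrum R) ∈ Module.support R R := by
    rw [Module.support_eq_zeroLocus, Module.annihilator_eq_bot.mpr inferInstance]
    simp
  have h := supportDim_eq_add_localizedModule p R hCM hsupp
  rw [Module.supportDim_self_eq_ringKrullDim, supportDim_quotient_prime_smul_top p R hsupp,
    supportDim_localizedModule_self p] at h
  exact h

end Groth.Agent.Lib.Helper16.PDR
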