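import Mathlib
import Groth.Agent.Lib.Helper18.CM4
import Groth.Agent.Lib.Helper16.RegularDim

/-!
# Conormal module generators vs regular sequences in CM local rings (helper16)
-/

set_option autoImplicit false
set_option linter.unusedSectionVars false
set_option linter.unusedVariables false
universe u

open IsLocalRing RingTheory.Sequence

namespace Groth.Agent.Lib.Helper16.CICot

section CM

variable {R : Type u} [CommRing R] [IsLocalRing R] [IsNoetherianRing R]

/-- `R ⧸ (I • ⊤) ≃ R ⧸ I` -/
noncomputable def quotSMulTopEquiv (I : Ideal R) :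
    (R ⧸ (I • ⊤ : Submodule R R)) ≃ₗ[R] (R ⧸ I) :=
  Submodule.quotEquivOfEq _ _ (by rw [smul_eq_mul, Ideal.mul_top])

theorem supportDim_quot_smul_top (I : Ideal R) :
    Module.supportDim R (R ⧸ (I • ⊤ : Submodule R R)) = ringKrullDim (R ⧸ I) := by
  rw [Module.supportDim_eq_of_equiv (quotSMulTopEquiv I), Module.supportDim_quotient_eq_ringKrullDim]

theorem isWeaklyRegular_iff_dim (hCM : LocCoh.IsCohenMacaulayModule R R) (xs : List R)
    (hxs : ∀ x ∈ xs, x ∈ maximalIdeal R) :
    IsWeaklyRegular R xs ↔
      ringKrullDim (R ⧸ Ideal.ofList xs) + (xs.length : WithBot ℕ∞) = ringKrullDim R := by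
  have h := (Groth.Agent.Lib.Helper18.CM.isWeaklyRegular_iff_supportDim_and_isCohenMacaulayModule
    xs hxs R hCM).1
  rw [supportDim_quot_smul_top, Module.supportDim_self_eq_ringKrullDim] at h
  exact h

theorem dim_le (xs : List R) (hxs : ∀ x ∈ xs, x ∈ maximalIdeal R) :
    ringKrullDim R ≤ ringKrullDim (R ⧸ Ideal.ofList xs) + (xs.length : WithBot ℕ∞) := by
  have h := Groth.Agent.Lib.Helper18.CM.supportDim_le_quot_ofList_add_length xs hxs R
  rw [supportDim_quot_smul_top, Module.supportDim_self_eq_ringKrullDim] at h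
  exact h

end CM

section cot

variable {R : Type u} [CommRing R]

theorem spanFinrank_cotangent_le (I : Ideal R) (rs : List R) (h : Ideal.ofList rs = I) :
    (⊤ : Submodule (R ⧸ I) I.Cotangent).spanFinrank ≤ rs.length := by
  classical
  subst h
  set I := Ideal.ofList rs with hIdef
  have hmem : ∀ r ∈ rs, r ∈ I := fun r hr => Ideal.subset_span hr
  -- the generating set
  let s : Set I.Cotangent := {y | ∃ r, ∃ hr : r ∈ rs, y = I.toCotangent ⟨r, hmem r hr⟩}
  have hsfin : s.Finite := by
    have : s ⊆ ((rs.attach.map (fun r => I.toCotangent ⟨r.1, hmem r.1 r.2⟩)).toFinset : Set _) := by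
      rintro y ⟨r, hr, rfl⟩
      simp only [List.coe_toFinset, List.mem_map, List.mem_attach, true_and, Subtype.exists,
        Set.mem_ofPred_eq]
      exact ⟨r, hr, rfl⟩
    exact (Finset.finite_toSet _).subset this
  have hcard : s.ncard ≤ rs.length := by
    have hsub : s ⊆ ((rs.attach.map (fun r => I.toCotangent ⟨r.1, hmem r.1 r.2⟩)).toFinset : Set _) := by
      rintro y ⟨r, hr, rfl⟩
      simp only [List.coe_toFinset, List.mem_map, List.mem_attach, true_and, Subtype.exists,
        Set.mem_ofPred_eq]
      exact ⟨r, hr, rfl⟩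
    calc s.ncard ≤ ((rs.attach.map (fun r => I.toCotangent ⟨r.1, hmem r.1 r.2⟩)).toFinset :
            Set _).ncard := Set.ncard_le_ncard hsub (Finset.finite_toSet _)
      _ = (rs.attach.map (fun r => I.toCotangent ⟨r.1, hmem r.1 r.2⟩)).toFinset.card :=
          Set.ncard_coe_finset _
      _ ≤ (rs.attach.map (fun r => I.toCotangent ⟨r.1, hmem r.1 r.2⟩)).length :=
          List.toFinset_card_le _
      _ = rs.length := by simp
  have hspan : Submodule.span (R ⧸ I) s = ⊤ := by
    rw [eq_top_iff]
    intro y _
    obtain ⟨x, rfl⟩ := I.toCotangent_surjective y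
    -- x ∈ I = span rs
    have hx : (x : R) ∈ Ideal.span {r | r ∈ rs} := x.2
    have key : ∀ (z : R) (hz : z ∈ Ideal.span {r | r ∈ rs}),
        I.toCotangent ⟨z, hz⟩ ∈ (Submodule.span (R ⧸ I) s).restrictScalars R := by
      intro z hz
      induction hz using Submodule.span_induction with
      | mem z hz' =>
        exact Submodule.subset_span ⟨z, hz', rfl⟩
      | zero =>
        have : (⟨0, I.zero_mem⟩ : I) = 0 := rfl
        rw [this, map_zero]
        exact Submodule.zero_mem _
      | add a b ha hb iha ihb =>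
        have : (⟨a + b, I.add_mem ha hb⟩ : I) = ⟨a, ha⟩ + ⟨b, hb⟩ := rfl
        rw [this, map_add]
        exact Submodule.add_mem _ iha ihb
      | smul c a ha iha =>
        have : (⟨c • a, I.smul_mem c ha⟩ : I) = c • ⟨a, ha⟩ := rfl
        rw [this, map_smul]
        exact Submodule.smul_mem _ c iha
    exact key x.1 hx
  calc (⊤ : Submodule (R ⧸ I) I.Cotangent).spanFinrank
      = (Submodule.span (R ⧸ I) s).spanFinrank := by rw [hspan]
    _ ≤ s.ncard := Submodule.spanFinrank_span_le_ncard_of_finite hsfin
    _ ≤ rs.length := hcard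

end cot

section gens

variable {R : Type u} [CommRing R]

theorem exists_list_generators [IsLocalRing R] [IsNoetherianRing R] (I : Ideal R) (hI : I ≠ ⊤) :
    ∃ xs : List R, Ideal.ofList xs = I ∧
      xs.length = (⊤ : Submodule (R ⧸ I) I.Cotangent).spanFinrank := by
  classical
  have hfinI : Module.Finite R I := Module.IsNoetherian.finite R I
  have hfinR : Module.Finite R I.Cotangent :=
    Module.Finite.of_surjective I.toCotangent I.toCotangent_surjective
  have hfin : Module.Finite (R ⧸ I) I.Cotangent := Module.Finite.of_restrictScalars_finite R _ _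
  have hfg : (⊤ : Submodule (R ⧸ I) I.Cotangent).FG := Module.finite_def.mp hfin
  obtain ⟨t, htcard, htspan⟩ := Submodule.FG.exists_span_finset_card_eq_spanFinrank hfg
  let lift : I.Cotangent → I := Function.surjInv I.toCotangent_surjective
  have hlift : ∀ y, I.toCotangent (lift y) = y := Function.surjInv_eq I.toCotangent_surjective
  let xs : List R := t.toList.map (fun y => (lift y : R))
  refine ⟨xs, ?_, by simp [xs, htcard]⟩
  have hle : Ideal.ofList xs ≤ I := by
    unfold Ideal.ofList
    rw [Ideal.span_le]
    intro x hx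
    simp only [xs, Set.mem_ofPred_eq, List.mem_map, Finset.mem_toList] at hx
    obtain ⟨y, -, rfl⟩ := hx
    exact (lift y).2
  apply le_antisymm hle
  -- Nakayama
  have hIm : I ≤ Ideal.jacobson ⊥ := by
    rw [IsLocalRing.jacobson_eq_maximalIdeal ⊥ bot_ne_top]
    exact IsLocalRing.le_maximalIdeal hI
  refine Submodule.le_of_le_smul_of_le_jacobson_bot (I := I) (N := Ideal.ofList xs) (N' := I)
    (IsNoetherian.noetherian I) hIm ?_
  intro x hx
  -- image of x in the cotangent space lies in span of t over R (restrict scalars)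
  have hsurj : Function.Surjective (algebraMap R (R ⧸ I)) := Ideal.Quotient.mk_surjective
  have hspanR : Submodule.span R (t : Set I.Cotangent) = ⊤ := by
    rw [← Submodule.restrictScalars_span R (R ⧸ I) hsurj, htspan, Submodule.restrictScalars_top]
  have hmem : I.toCotangent ⟨x, hx⟩ ∈ Submodule.span R (t : Set I.Cotangent) := by
    rw [hspanR]; trivial
  -- every element of span R t is the image of an element of ofList xs
  have key : ∀ y ∈ Submodule.span R (t : Set I.Cotangent),
      ∃ z : I, (z : R) ∈ Ideal.ofList xs ∧ I.toCotangent z = y := by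
    intro y hy
    induction hy using Submodule.span_induction with
    | mem y hy' =>
      refine ⟨lift y, ?_, hlift y⟩
      apply Ideal.subset_span
      simp only [xs, Set.mem_ofPred_eq, List.mem_map, Finset.mem_toList]
      exact ⟨y, hy', rfl⟩
    | zero => exact ⟨0, Ideal.zero_mem _, map_zero _⟩
    | add a b _ _ iha ihb =>
      obtain ⟨za, hza, rfl⟩ := iha
      obtain ⟨zb, hzb, rfl⟩ := ihb
      exact ⟨za + zb, Ideal.add_mem _ hza hzb, map_add _ _ _⟩
    | smul c a _ iha =>
      obtain ⟨za, hza, rfl⟩ := iha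
      exact ⟨c • za, Ideal.mul_mem_left _ c hza, map_smul _ _ _⟩
  obtain ⟨z, hz, hzx⟩ := key _ hmem
  have hdiff : (x - (z : R)) ∈ I ^ 2 := by
    have := (I.toCotangent_eq (x := ⟨x, hx⟩) (y := z)).mp hzx.symm
    exact this
  have hx' : x = (z : R) + (x - z) := by ring
  rw [hx']
  refine Submodule.add_mem_sup hz ?_
  rw [smul_eq_mul, ← pow_two]
  exact hdiff

end gens

end Groth.Agent.Lib.Helper16.CICot
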