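import Mathlib

/-!
# Elementary first Koszul homology of a tuple: relations modulo Koszul relations (helper16)
-/

set_option autoImplicit false

universe u v w

open Submodule

namespace Groth.Agent.Lib.Helper16.CIInv

variable {R : Type u} [CommRing R] {ι : Type v} [Fintype ι] [DecidableEq ι]

/-- the linear form `w ↦ ∑ w_i x_i` -/
noncomputable def lc (x : ι → R) : (ι → R) →ₗ[R] R := Fintype.linearCombination R x

omit [DecidableEq ι] in
theorem lc_apply (x w : ι → R) : lc x w = ∑ i, w i * x i := by
  simp [lc, Fintype.linearCombination_apply]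

theorem lc_single (x : ι → R) (i : ι) (r : R) : lc x (Pi.single i r) = r * x i := by
  simp [lc, Fintype.linearCombination_apply_single]

omit [DecidableEq ι] in
theorem range_lc (x : ι → R) : LinearMap.range (lc x) = Ideal.span (Set.range x) :=
  Fintype.range_linearCombination R x

/-- the Koszul generator attached to a pair of indices -/
def gen (x : ι → R) (p : ι × ι) : ι → R :=
  x p.1 • Pi.single p.2 (1 : R) - x p.2 • Pi.single p.1 (1 : R)

/-- the span of the Koszul relations -/
def kosz (x : ι → R) : Submodule R (ι → R) := Submodule.span R (Set.range (gen x))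

theorem lc_gen (x : ι → R) (p : ι × ι) : lc x (gen x p) = 0 := by
  simp only [gen, map_sub, map_smul, lc_single, smul_eq_mul, one_mul]
  ring

theorem kosz_le_ker (x : ι → R) : kosz x ≤ LinearMap.ker (lc x) := by
  rw [kosz, Submodule.span_le]
  rintro _ ⟨p, rfl⟩
  exact lc_gen x p

theorem lemK_single (x : ι → R) (i : ι) (v : ι → R) :
    x i • v - lc x v • Pi.single i (1 : R) ∈ kosz x := by
  let φ : (ι → R) →ₗ[R] ((ι → R) ⧸ kosz x) :=
    (kosz x).mkQ ∘ₗ (x i • LinearMap.id - (lc x).smulRight (Pi.single i (1 : R)))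
  have hφ : φ = 0 := by
    apply (Pi.basisFun R ι).ext
    intro j
    simp only [φ, LinearMap.comp_apply, LinearMap.sub_apply, LinearMap.smul_apply,
      LinearMap.id_apply, LinearMap.smulRight_apply, Pi.basisFun_apply, lc_single, one_mul,
      LinearMap.zero_apply]
    rw [Submodule.mkQ_apply, Submodule.Quotient.mk_eq_zero]
    exact Submodule.subset_span ⟨(i, j), rfl⟩
  have h := congrArg (fun F => F v) hφ
  simp only [φ, LinearMap.comp_apply, LinearMap.sub_apply, LinearMap.smul_apply,
    LinearMap.id_apply, LinearMap.smulRight_apply, LinearMap.zero_apply] at h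
  rwa [Submodule.mkQ_apply, Submodule.Quotient.mk_eq_zero] at h

/-- the key bilinear identity: `lc(u) v - lc(v) u` is a Koszul relation -/
theorem lemK (x : ι → R) (u v : ι → R) : lc x u • v - lc x v • u ∈ kosz x := by
  let ψ : (ι → R) →ₗ[R] ((ι → R) ⧸ kosz x) :=
    (kosz x).mkQ ∘ₗ ((lc x).smulRight v - lc x v • LinearMap.id)
  have hψ : ψ = 0 := by
    apply (Pi.basisFun R ι).ext
    intro i
    simp only [ψ, LinearMap.comp_apply, LinearMap.sub_apply, LinearMap.smul_apply,
      LinearMap.id_apply, LinearMap.smulRight_apply, Pi.basisFun_apply, lc_single, one_mul,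
      LinearMap.zero_apply]
    rw [Submodule.mkQ_apply, Submodule.Quotient.mk_eq_zero]
    exact lemK_single x i v
  have h := congrArg (fun F => F u) hψ
  simp only [ψ, LinearMap.comp_apply, LinearMap.sub_apply, LinearMap.smul_apply,
    LinearMap.id_apply, LinearMap.smulRight_apply, LinearMap.zero_apply] at h
  rwa [Submodule.mkQ_apply, Submodule.Quotient.mk_eq_zero] at h

/-- the quotient of the free module by the Koszul relations -/
abbrev Q (x : ι → R) : Type (max u v) := (ι → R) ⧸ kosz x

/-- the linear form induced on `Q x` -/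
noncomputable def lcbar (x : ι → R) : Q x →ₗ[R] R := (kosz x).liftQ (lc x) (kosz_le_ker x)

@[simp] theorem lcbar_mk (x : ι → R) (w : ι → R) : lcbar x (Submodule.Quotient.mk w) = lc x w := rfl

/-- the first Koszul homology of the tuple `x` (relations modulo Koszul relations) -/
noncomputable abbrev H1 (x : ι → R) : Submodule R (Q x) := LinearMap.ker (lcbar x)

/-- its length -/
noncomputable def h1 (x : ι → R) : ℕ∞ := Module.length R (H1 x)


section Morph

variable {ι' : Type w} [Fintype ι'] [DecidableEq ι']

/-- a morphism of tuples: a linear map of free modules compatible with the linear forms and the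
Koszul relations -/
structure Mor (x : ι → R) (x' : ι' → R) where
  F : (ι → R) →ₗ[R] (ι' → R)
  hk : ∀ w ∈ kosz x, F w ∈ kosz x'
  hl : ∀ w, lc x' (F w) = lc x w

omit [Fintype ι] [Fintype ι'] in
theorem hk_of_gen {x : ι → R} {x' : ι' → R} (F : (ι → R) →ₗ[R] (ι' → R))
    (h : ∀ p, F (gen x p) ∈ kosz x') : ∀ w ∈ kosz x, F w ∈ kosz x' := by
  intro w hw
  have : (kosz x).map F ≤ kosz x' := by
    rw [kosz, Submodule.map_span_le]
    rintro _ ⟨p, rfl⟩
    exact h p
  exact this (Submodule.mem_map_of_mem hw)

variable {x : ι → R} {x' : ι' → R}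

/-- the induced map on `Q` -/
noncomputable def Mor.Qmap (m : Mor x x') : Q x →ₗ[R] Q x' :=
  (kosz x).mapQ (kosz x') m.F (fun w hw => m.hk w hw)

theorem Mor.Qmap_mk (m : Mor x x') (w : ι → R) :
    m.Qmap (Submodule.Quotient.mk w) = Submodule.Quotient.mk (m.F w) := rfl

theorem Mor.lcbar_Qmap (m : Mor x x') (q : Q x) : lcbar x' (m.Qmap q) = lcbar x q := by
  induction q using Submodule.Quotient.induction_on with
  | H w => exact m.hl w

/-- the induced map on `H1` -/
noncomputable def Mor.Hmap (m : Mor x x') : H1 x →ₗ[R] H1 x' :=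
  m.Qmap.restrict (fun q hq => by
    rw [LinearMap.mem_ker] at hq ⊢
    rw [m.lcbar_Qmap]; exact hq)

theorem Mor.Hmap_coe (m : Mor x x') (q : H1 x) : ((m.Hmap q : H1 x') : Q x') = m.Qmap q := rfl

theorem h1_eq_of_inverse (m : Mor x x') (m' : Mor x' x) (h₁ : ∀ w, m'.F (m.F w) = w)
    (h₂ : ∀ w, m.F (m'.F w) = w) : h1 x = h1 x' := by
  have e : H1 x ≃ₗ[R] H1 x' := LinearEquiv.ofLinearMap m.Hmap m'.Hmap
    (by
      ext ⟨q, hq⟩
      induction q using Submodule.Quotient.induction_on with
      | H w =>
        simp only [LinearMap.comp_apply, LinearMap.id_apply, Mor.Hmap_coe, Mor.Qmap_mk, h₂])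
    (by
      ext ⟨q, hq⟩
      induction q using Submodule.Quotient.induction_on with
      | H w =>
        simp only [LinearMap.comp_apply, LinearMap.id_apply, Mor.Hmap_coe, Mor.Qmap_mk, h₁])
  exact e.length_eq

/-- reindexing morphism -/
noncomputable def reindexMor (σ : ι ≃ ι') (x : ι → R) (x' : ι' → R) (h : ∀ i, x' (σ i) = x i) :
    Mor x x' where
  F := LinearMap.funLeft R R σ.symm
  hk := by
    apply hk_of_gen
    rintro ⟨i, j⟩
    have hs : ∀ k : ι, LinearMap.funLeft R R σ.symm (Pi.single k (1 : R)) =
        Pi.single (σ k) (1 : R) := by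
      intro k
      funext i'
      rw [LinearMap.funLeft_apply, Pi.single_apply, Pi.single_apply]
      simp only [Equiv.symm_apply_eq]
    have : LinearMap.funLeft R R σ.symm (gen x (i, j)) = gen x' (σ i, σ j) := by
      simp only [gen, map_sub, map_smul, hs, h]
    rw [this]
    exact Submodule.subset_span ⟨_, rfl⟩
  hl := by
    intro w
    rw [lc_apply, lc_apply]
    rw [← Equiv.sum_comp σ]
    simp [LinearMap.funLeft_apply, h]

theorem h1_reindex (σ : ι ≃ ι') (x : ι → R) (x' : ι' → R) (h : ∀ i, x' (σ i) = x i) :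
    h1 x = h1 x' := by
  refine h1_eq_of_inverse (reindexMor σ x x' h)
    (reindexMor σ.symm x' x (fun i' => by rw [← h, Equiv.apply_symm_apply])) ?_ ?_
  · intro w
    funext i
    simp [reindexMor, LinearMap.funLeft_apply]
  · intro w
    funext i
    simp [reindexMor, LinearMap.funLeft_apply]

end Morph

end Groth.Agent.Lib.Helper16.CIInv
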