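import Mathlib
import Groth.Agent.Lib.Helper16.CIInv1

/-!
# Elementary first Koszul homology: adding redundant generators (helper16)
-/

set_option autoImplicit false
set_option linter.unusedSectionVars false

universe u v w

open Submodule

namespace Groth.Agent.Lib.Helper16.CIInv

variable {R : Type u} [CommRing R] {ι : Type v} [Fintype ι] [DecidableEq ι]
  {ι' : Type w} [Fintype ι'] [DecidableEq ι']

section Sum

variable (x : ι → R) (c : ι' → ι → R)

/-- the enlarged tuple `(x, y)` with `y_j = ∑ c_{ji} x_i` -/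
noncomputable def zz : ι ⊕ ι' → R := Sum.elim x (fun j => lc x (c j))

/-- extension by zero -/
def extF : (ι → R) →ₗ[R] (ι ⊕ ι' → R) where
  toFun w := Sum.elim w 0
  map_add' a b := by funext s; cases s <;> simp
  map_smul' r a := by funext s; cases s <;> simp

/-- the retraction -/
def rhoF : (ι ⊕ ι' → R) →ₗ[R] (ι → R) where
  toFun w := fun i => w (Sum.inl i) + ∑ j, w (Sum.inr j) * c j i
  map_add' a b := by
    funext i
    simp only [Pi.add_apply, add_mul, Finset.sum_add_distrib]
    ring
  map_smul' r a := by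
    funext i
    simp only [Pi.smul_apply, smul_eq_mul, RingHom.id_apply, mul_add, Finset.mul_sum, mul_assoc]

theorem rhoF_extF (a : ι → R) : rhoF c (extF (ι' := ι') a) = a := by
  funext i
  simp [rhoF, extF]

theorem lc_zz (w : ι ⊕ ι' → R) :
    lc (zz x c) w = lc x (fun i => w (Sum.inl i)) + ∑ j, w (Sum.inr j) * lc x (c j) := by
  rw [lc_apply, Fintype.sum_sum_type, lc_apply]
  simp [zz]

theorem lc_rhoF (w : ι ⊕ ι' → R) : lc x (rhoF c w) = lc (zz x c) w := by
  rw [lc_zz, lc_apply, lc_apply]
  simp only [rhoF, LinearMap.coe_mk, AddHom.coe_mk, add_mul, Finset.sum_add_distrib, lc_apply,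
    Finset.sum_mul, Finset.mul_sum]
  congr 1
  rw [Finset.sum_comm]
  refine Finset.sum_congr rfl fun j _ => Finset.sum_congr rfl fun i _ => by ring

theorem lc_extF (a : ι → R) : lc (zz x c) (extF (ι' := ι') a) = lc x a := by
  rw [← lc_rhoF, rhoF_extF]

theorem extF_single (i : ι) (r : R) :
    extF (ι' := ι') (Pi.single i r) = Pi.single (Sum.inl i) r := by
  funext s
  cases s with
  | inl k => simp [extF, Pi.single_apply]
  | inr k => simp [extF, Pi.single_apply]

/-- `ρ` as a morphism of tuples -/
noncomputable def rhoMor : Mor (zz x c) x where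
  F := rhoF c
  hk := by
    apply hk_of_gen
    rintro ⟨s, t⟩
    have h : ∀ s : ι ⊕ ι', zz x c s = lc x (rhoF c (Pi.single s (1 : R))) := by
      intro s
      rw [lc_rhoF, lc_single, one_mul]
    have : rhoF c (gen (zz x c) (s, t)) =
        lc x (rhoF c (Pi.single s (1 : R))) • rhoF c (Pi.single t (1 : R)) -
          lc x (rhoF c (Pi.single t (1 : R))) • rhoF c (Pi.single s (1 : R)) := by
      simp only [gen, map_sub, map_smul, ← h]
    rw [this]
    exact lemK x _ _
  hl := lc_rhoF x c

/-- extension by zero as a morphism of tuples -/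
noncomputable def extMor : Mor x (zz x c) where
  F := extF
  hk := by
    apply hk_of_gen
    rintro ⟨i, j⟩
    have : extF (ι' := ι') (gen x (i, j)) = gen (zz x c) (Sum.inl i, Sum.inl j) := by
      simp only [gen, map_sub, map_smul, extF_single, zz, Sum.elim_inl]
    rw [this]
    exact Submodule.subset_span ⟨_, rfl⟩
  hl := lc_extF x c


/-- the map to the residue part -/
noncomputable def qF : (ι ⊕ ι' → R) →ₗ[R] (ι' → R ⧸ Ideal.span (Set.range x)) :=
  LinearMap.pi fun j => (Submodule.mkQ (Ideal.span (Set.range x))) ∘ₗ LinearMap.proj (Sum.inr j)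

theorem qF_apply (w : ι ⊕ ι' → R) (j : ι') :
    qF (ι' := ι') x w j = Submodule.Quotient.mk (w (Sum.inr j)) := rfl

theorem zz_mem (s : ι ⊕ ι') : zz x c s ∈ Ideal.span (Set.range x) := by
  cases s with
  | inl i => exact Ideal.subset_span ⟨i, rfl⟩
  | inr j =>
    show lc x (c j) ∈ _
    rw [← range_lc]
    exact ⟨_, rfl⟩

theorem kosz_le_ker_qF : kosz (zz x c) ≤ LinearMap.ker (qF (ι' := ι') x) := by
  rw [kosz, Submodule.span_le]
  rintro _ ⟨⟨s, t⟩, rfl⟩
  rw [SetLike.mem_coe, LinearMap.mem_ker]
  funext j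
  rw [qF_apply, Pi.zero_apply, Submodule.Quotient.mk_eq_zero]
  simp only [gen, Pi.sub_apply, Pi.smul_apply, smul_eq_mul]
  exact Ideal.sub_mem _ (Ideal.mul_mem_right _ _ (zz_mem x c s)) (Ideal.mul_mem_right _ _ (zz_mem x c t))

/-- the induced map on `Q` -/
noncomputable def qbar : Q (zz x c) →ₗ[R] (ι' → R ⧸ Ideal.span (Set.range x)) :=
  (kosz (zz x c)).liftQ (qF x) (kosz_le_ker_qF x c)

/-- the vector `f_j - ext(c_j)`, a relation of the enlarged tuple -/
noncomputable def vv (j : ι') : ι ⊕ ι' → R := Pi.single (Sum.inr j) (1 : R) - extF (c j)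

theorem lc_vv (j : ι') : lc (zz x c) (vv c j) = 0 := by
  rw [vv, map_sub, lc_single, lc_extF, one_mul]
  simp [zz]

theorem smul_vv_mem (j : ι') (b : R) (hb : b ∈ Ideal.span (Set.range x)) :
    b • vv c j ∈ kosz (zz x c) := by
  rw [← range_lc] at hb
  obtain ⟨r, rfl⟩ := hb
  have h := lemK (zz x c) (extF r) (vv c j)
  rwa [lc_vv, zero_smul, sub_zero, lc_extF] at h

theorem sub_extF_rhoF (w : ι ⊕ ι' → R) :
    w - extF (rhoF c w) = ∑ j, w (Sum.inr j) • vv c j := by
  funext s
  cases s with
  | inl i =>
    simp only [Pi.sub_apply, extF, rhoF, LinearMap.coe_mk, AddHom.coe_mk, Sum.elim_inl,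
      Finset.sum_apply, Pi.smul_apply, vv, smul_eq_mul, Pi.zero_apply]
    simp [Pi.single_apply]
  | inr k =>
    simp only [Pi.sub_apply, extF, rhoF, LinearMap.coe_mk, AddHom.coe_mk, Sum.elim_inr,
      Finset.sum_apply, Pi.smul_apply, vv, smul_eq_mul, Pi.zero_apply]
    simp [Pi.single_apply]

theorem key_f (w : ι ⊕ ι' → R) (hw : qF (ι' := ι') x w = 0) :
    w - extF (rhoF c w) ∈ kosz (zz x c) := by
  rw [sub_extF_rhoF]
  refine Submodule.sum_mem _ fun j _ => smul_vv_mem x c j _ ?_
  have := congrFun hw j
  rwa [qF_apply, Pi.zero_apply, Submodule.Quotient.mk_eq_zero] at this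

theorem h1_zz :
    h1 (zz x c) = h1 x + Module.length R (ι' → R ⧸ Ideal.span (Set.range x)) := by
  let f' : H1 x →ₗ[R] H1 (zz x c) := (extMor x c).Hmap
  let g' : H1 (zz x c) →ₗ[R] (ι' → R ⧸ Ideal.span (Set.range x)) :=
    qbar x c ∘ₗ (H1 (zz x c)).subtype
  have hinj : Function.Injective f' := by
    have hl : Function.LeftInverse (rhoMor x c).Hmap f' := by
      rintro ⟨q, hq⟩
      induction q using Submodule.Quotient.induction_on with
      | H w =>
        apply Subtype.ext
        simp only [f', Mor.Hmap_coe, Mor.Qmap_mk]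
        show Submodule.Quotient.mk (rhoF c (extF w)) = _
        rw [rhoF_extF]
    exact hl.injective
  have hsurj : Function.Surjective g' := by
    intro bb
    choose b hb using fun j => Submodule.Quotient.mk_surjective _ (bb j)
    let w : ι ⊕ ι' → R := Sum.elim (fun i => - ∑ j, b j * c j i) b
    have hw : lc (zz x c) w = 0 := by
      rw [lc_zz]
      simp only [w, Sum.elim_inl, Sum.elim_inr, lc_apply, Finset.mul_sum, Finset.sum_mul, neg_mul,
        Finset.sum_neg_distrib]
      rw [Finset.sum_comm]
      simp [mul_assoc]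
    refine ⟨⟨Submodule.Quotient.mk w, hw⟩, ?_⟩
    funext j
    show Submodule.Quotient.mk (w (Sum.inr j)) = bb j
    rw [← hb j]
    rfl
  have hex : Function.Exact f' g' := by
    intro y
    constructor
    · intro hy
      obtain ⟨q, hq⟩ := y
      induction q using Submodule.Quotient.induction_on with
      | H w =>
        have hw : qF (ι' := ι') x w = 0 := hy
        have hlc : lc (zz x c) w = 0 := hq
        refine ⟨⟨Submodule.Quotient.mk (rhoF c w), ?_⟩, ?_⟩
        · show lc x (rhoF c w) = 0
          rw [lc_rhoF, hlc]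
        · apply Subtype.ext
          show Submodule.Quotient.mk (extF (rhoF c w)) = Submodule.Quotient.mk w
          rw [eq_comm, Submodule.Quotient.eq]
          exact key_f x c w hw
    · rintro ⟨⟨q, hq⟩, rfl⟩
      induction q using Submodule.Quotient.induction_on with
      | H a =>
        funext j
        show Submodule.Quotient.mk ((extF a : ι ⊕ ι' → R) (Sum.inr j)) = 0
        simp [extF]
  exact Module.length_eq_add_of_exact f' g' hinj hsurj hex

end Sum

/-- adding redundant generators of the maximal ideal raises `h1` by their number -/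
theorem h1_sum_elim [IsLocalRing R] (x : ι → R)
    (hx : Ideal.span (Set.range x) = IsLocalRing.maximalIdeal R) (y : ι' → R)
    (hy : ∀ j, y j ∈ IsLocalRing.maximalIdeal R) :
    h1 (Sum.elim x y) = h1 x + (Fintype.card ι' : ℕ∞) := by
  have hy' : ∀ j, ∃ cj : ι → R, lc x cj = y j := by
    intro j
    have := hy j
    rw [← hx, ← range_lc] at this
    exact this
  choose c hc using hy'
  have hz : Sum.elim x y = zz x c := by
    funext s
    cases s with
    | inl i => rfl
    | inr j => simp [zz, hc]
  rw [hz, h1_zz, hx, Module.length_pi_of_fintype]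
  congr 1
  have : Module.length R (R ⧸ IsLocalRing.maximalIdeal R) = 1 := by
    rw [Module.length_eq_one_iff, isSimpleModule_iff_isCoatom, ← Ideal.isMaximal_def]
    infer_instance
  simp [this]

end Groth.Agent.Lib.Helper16.CIInv
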