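import Mathlib
import Groth.Agent.Lib.Helper16.CIInv2

/-!
# Elementary first Koszul homology: comparison with I/mI along a surjection (helper16)
-/

set_option autoImplicit false
set_option linter.unusedSectionVars false

universe u v w

open Submodule

namespace Groth.Agent.Lib.Helper16.CIInv

/-- lengths agree along a pair of surjections with the same kernel, one linear and one semilinear
over a surjective ring homomorphism -/
theorem length_eq_of_semilinear {B A : Type*} [CommRing B] [CommRing A] (f : B →+* A)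
    (hf : Function.Surjective f) {M T N : Type*} [AddCommGroup M] [Module B M] [AddCommGroup T]
    [Module B T] [AddCommGroup N] [Module A N] (Ψ : M →ₗ[B] T) (hΨ : Function.Surjective Ψ)
    (Pm : M →ₛₗ[f] N) (hP : Function.Surjective Pm) (hker : LinearMap.ker Ψ = LinearMap.ker Pm) :
    Module.length B T = Module.length A N := by
  have : RingHomSurjective f := ⟨hf⟩
  rw [← (Ψ.quotKerEquivOfSurjective hΨ).length_eq, (Submodule.quotEquivOfEq _ _ hker).length_eq]
  let Pb : (M ⧸ LinearMap.ker Pm) →ₛₗ[f] N := (LinearMap.ker Pm).liftQ Pm le_rfl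
  have hbij : Function.Bijective Pb := by
    constructor
    · rw [← LinearMap.ker_eq_bot]
      exact Submodule.ker_liftQ_eq_bot _ _ _ le_rfl
    · intro n
      obtain ⟨m, rfl⟩ := hP n
      exact ⟨Submodule.Quotient.mk m, rfl⟩
  rw [Module.length, Module.length, WithBot.unbot_inj,
    Order.krullDim_eq_of_orderIso (Submodule.orderIsoMapComapOfBijective Pb hbij)]


section TwoRing

variable {B A : Type u} [CommRing B] [CommRing A] (f : B →+* A) (hf : Function.Surjective f)
  {ι : Type v} [Fintype ι] [DecidableEq ι] (ξ : ι → B)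

/-- vectors with all coordinates in an ideal -/
def piI (I : Ideal B) : Submodule B (ι → B) := Submodule.pi Set.univ (fun _ => I)

theorem mem_piI (I : Ideal B) (w : ι → B) : w ∈ piI I ↔ ∀ i, w i ∈ I := by
  simp [piI, Submodule.mem_pi]

/-- pushing a vector forward along `f` -/
def Fmap : (ι → B) →ₛₗ[f] (ι → A) where
  toFun w := fun i => f (w i)
  map_add' a b := by funext i; simp
  map_smul' r a := by funext i; simp

theorem Fmap_apply (w : ι → B) (i : ι) : Fmap f w i = f (w i) := rfl

theorem Fmap_gen (p : ι × ι) : Fmap f (gen ξ p) = gen (fun i => f (ξ i)) p := by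
  funext k
  simp only [Fmap_apply, gen, Pi.sub_apply, Pi.smul_apply, smul_eq_mul, map_sub, map_mul,
    Pi.single_apply]
  split_ifs <;> simp

theorem lc_Fmap (w : ι → B) : lc (fun i => f (ξ i)) (Fmap f w) = f (lc ξ w) := by
  rw [lc_apply, lc_apply, map_sum]
  simp [Fmap_apply]

include hf in
theorem Fmap_mem_kosz_iff (w : ι → B) :
    Fmap f w ∈ kosz (fun i => f (ξ i)) ↔ w ∈ kosz ξ ⊔ piI (RingHom.ker f) := by
  have : RingHomSurjective f := ⟨hf⟩
  constructor
  · intro h
    have hle : kosz (fun i => f (ξ i)) ≤ (kosz ξ).map (Fmap f) := by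
      rw [kosz, Submodule.span_le]
      rintro _ ⟨p, rfl⟩
      exact ⟨gen ξ p, Submodule.subset_span ⟨p, rfl⟩, Fmap_gen f ξ p⟩
    obtain ⟨k, hk, hkw⟩ := hle h
    have hb : w - k ∈ piI (RingHom.ker f) := by
      rw [mem_piI]
      intro i
      rw [RingHom.mem_ker, Pi.sub_apply, map_sub, sub_eq_zero]
      exact (congrFun hkw i).symm
    have : w = k + (w - k) := by abel
    rw [this]
    exact Submodule.add_mem_sup hk hb
  · intro h
    obtain ⟨k, hk, b, hb, rfl⟩ := Submodule.mem_sup.mp h
    rw [map_add]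
    refine Submodule.add_mem _ ?_ ?_
    · have hle : (kosz ξ).map (Fmap f) ≤ kosz (fun i => f (ξ i)) := by
        rw [kosz, Submodule.map_span_le]
        rintro _ ⟨p, rfl⟩
        rw [Fmap_gen]
        exact Submodule.subset_span ⟨p, rfl⟩
      exact hle (Submodule.mem_map_of_mem hk)
    · have : Fmap f b = 0 := by
        funext i
        exact (mem_piI _ b).mp hb i
      rw [this]
      exact Submodule.zero_mem _

theorem lc_mem_smul_iff (hH : LinearMap.ker (lc ξ) ≤ kosz ξ) (I : Ideal B) (w : ι → B) :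
    lc ξ w ∈ Ideal.span (Set.range ξ) * I ↔ w ∈ kosz ξ ⊔ piI I := by
  constructor
  · intro h
    have hle : Ideal.span (Set.range ξ) * I ≤ (piI I).map (lc ξ) := by
      rw [Ideal.mul_le]
      intro r hr s hs
      rw [← range_lc] at hr
      obtain ⟨t, rfl⟩ := hr
      refine ⟨s • t, ?_, ?_⟩
      · rw [SetLike.mem_coe, mem_piI]
        intro i
        exact Ideal.mul_mem_right _ _ hs
      · rw [map_smul, smul_eq_mul, mul_comm]
    obtain ⟨b, hb, hbw⟩ := hle h
    have hk : w - b ∈ kosz ξ := hH (by rw [LinearMap.mem_ker, map_sub, hbw, sub_self])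
    have : w = (w - b) + b := by abel
    rw [this]
    exact Submodule.add_mem_sup hk hb
  · intro h
    obtain ⟨k, hk, b, hb, rfl⟩ := Submodule.mem_sup.mp h
    rw [map_add, (LinearMap.mem_ker.mp (kosz_le_ker ξ hk)), zero_add, lc_apply]
    refine Ideal.sum_mem _ fun i _ => ?_
    have hc : b i * ξ i = ξ i * b i := mul_comm _ _
    rw [hc]
    exact Ideal.mul_mem_mul (Ideal.subset_span (Set.mem_range_self i)) ((mem_piI _ b).mp hb i)

include hf in
/-- the first Koszul homology of the image of a tuple with only Koszul relations, generating an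
ideal containing the kernel: it is `I / 𝔪 I` -/
theorem length_quot_eq_h1 (hH : LinearMap.ker (lc ξ) ≤ kosz ξ)
    (hI : RingHom.ker f ≤ Ideal.span (Set.range ξ)) :
    Module.length B (↥(RingHom.ker f) ⧸
      (Ideal.span (Set.range ξ) • ⊤ : Submodule B (RingHom.ker f))) =
      h1 (fun i => f (ξ i)) := by
  set I := RingHom.ker f with hIdef
  set 𝔪 := Ideal.span (Set.range ξ) with h𝔪
  let M₀ : Submodule B (ι → B) := Submodule.comap (lc ξ) I
  let Ψ : M₀ →ₗ[B] (↥I ⧸ (𝔪 • ⊤ : Submodule B I)) :=
    (Submodule.mkQ _) ∘ₗ ((lc ξ).restrict (p := M₀) (q := I) (fun w hw => hw))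
  let Pm : M₀ →ₛₗ[f] H1 (fun i => f (ξ i)) :=
    { toFun := fun w => ⟨Submodule.Quotient.mk (Fmap f w.1), by
        rw [LinearMap.mem_ker, lcbar_mk, lc_Fmap]
        exact w.2⟩
      map_add' := by
        intro a b
        apply Subtype.ext
        simp only [Submodule.coe_add, map_add, Submodule.Quotient.mk_add]
      map_smul' := by
        intro r a
        apply Subtype.ext
        simp only [Submodule.coe_smul, map_smulₛₗ, Submodule.Quotient.mk_smul] }
  have hΨ : Function.Surjective Ψ := by
    intro t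
    obtain ⟨⟨a, ha⟩, rfl⟩ := Submodule.mkQ_surjective _ t
    have ha' : a ∈ 𝔪 := hI ha
    rw [h𝔪, ← range_lc] at ha'
    obtain ⟨w, rfl⟩ := ha'
    exact ⟨⟨w, ha⟩, rfl⟩
  have hP : Function.Surjective Pm := by
    rintro ⟨q, hq⟩
    induction q using Submodule.Quotient.induction_on with
    | H v =>
      choose w hw using fun i => hf (v i)
      have hv : Fmap f w = v := funext hw
      have hw0 : w ∈ M₀ := by
        show lc ξ w ∈ I
        rw [hIdef, RingHom.mem_ker, ← lc_Fmap, hv]
        exact hq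
      refine ⟨⟨w, hw0⟩, ?_⟩
      apply Subtype.ext
      show Submodule.Quotient.mk (Fmap f w) = Submodule.Quotient.mk v
      rw [hv]
  have hker : LinearMap.ker Ψ = LinearMap.ker Pm := by
    ext ⟨w, hw⟩
    rw [LinearMap.mem_ker, LinearMap.mem_ker]
    have h1 : Ψ ⟨w, hw⟩ = 0 ↔ lc ξ w ∈ 𝔪 * I := by
      show Submodule.Quotient.mk (⟨lc ξ w, hw⟩ : I) = 0 ↔ _
      rw [Submodule.Quotient.mk_eq_zero, Submodule.mem_smul_top_iff]
      rfl
    have h2 : Pm ⟨w, hw⟩ = 0 ↔ Fmap f w ∈ kosz (fun i => f (ξ i)) := by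
      rw [← Subtype.coe_inj]
      show Submodule.Quotient.mk (Fmap f w) = 0 ↔ _
      rw [Submodule.Quotient.mk_eq_zero]
    rw [h1, h2, lc_mem_smul_iff ξ hH, Fmap_mem_kosz_iff f hf]
  exact length_eq_of_semilinear f hf Ψ hΨ Pm hP hker

end TwoRing

end Groth.Agent.Lib.Helper16.CIInv
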