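import Mathlib
import Groth.Agent.Lib.Helper16.CIInv3
import Groth.Agent.Lib.Helper1.KoszulLow
import Groth.Agent.Lib.Helper11.KzRes
import Groth.Agent.Lib.Helper21.RegularLocal

/-!
# Independence of dim B - mu(I) from the regular presentation B/I of a local ring (helper16)
-/

set_option autoImplicit false
set_option linter.unusedSectionVars false

universe u v w

open Submodule IsLocalRing

namespace Groth.Agent.Lib.Helper16.CIInv

/-- relations among the members of a weakly regular sequence are Koszul relations -/
theorem ker_lc_le_kosz_of_isWeaklyRegular {B : Type u} [CommRing B] (l : List B)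
    (h : RingTheory.Sequence.IsWeaklyRegular B l) :
    LinearMap.ker (lc (fun i : Fin l.length => l.get i)) ≤ kosz (fun i : Fin l.length => l.get i) := by
  intro c hc
  rw [LinearMap.mem_ker, lc_apply] at hc
  have hex : CategoryTheory.Limits.IsZero ((Koszul.koszul B l).homology (-1)) := by
    rw [Groth.Agent.Lib.Helper11.Kz.koszul_eq]
    exact Groth.Agent.Lib.Helper11.Kz.koszulRegular_of_isWeaklyRegular l h (-1) (by decide)
  have h1 := Groth.Agent.Lib.Helper1.KoszulLow.rel_mem_kosz l hex c hc
  have hle : Groth.Agent.Lib.Helper1.KoszulLow.kosz (fun i : Fin l.length => l.get i) ≤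
      kosz (fun i : Fin l.length => l.get i) := by
    unfold Groth.Agent.Lib.Helper1.KoszulLow.kosz kosz
    apply Submodule.span_mono
    rintro y ⟨i, j, rfl⟩
    exact ⟨(i, j), rfl⟩
  exact hle h1

/-- the minimal number of generators of an ideal of a Noetherian local ring as a length -/
theorem spanFinrank_eq_length {B : Type u} [CommRing B] [IsLocalRing B] [IsNoetherianRing B]
    (I : Ideal B) :
    (I.spanFinrank : ℕ∞) =
      Module.length B (↥I ⧸ (maximalIdeal B • ⊤ : Submodule B I)) := by
  let := Ideal.Quotient.field (maximalIdeal B)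
  rw [IsLocalRing.spanFinrank_eq_finrank_quotient I I.fg_of_isNoetherianRing,
    Module.length_eq_of_surjective (S := B) (R := B ⧸ maximalIdeal B)
      (M := ↥I ⧸ (maximalIdeal B • ⊤ : Submodule B I)) Ideal.Quotient.mk_surjective,
    Module.length_eq_finrank]

/-- a regular local ring has a regular sequence generating its maximal ideal, of length the
dimension -/
theorem exists_regular_list (B : Type u) [CommRing B] [IsRegularLocalRing B] (d : ℕ)
    (hd : ringKrullDim B = d) :
    ∃ l : List B, l.length = d ∧ RingTheory.Sequence.IsRegular B l ∧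
      Ideal.ofList l = maximalIdeal B := by
  classical
  obtain ⟨s, hcard, hspan⟩ := Submodule.FG.exists_span_finset_card_eq_spanFinrank
    (maximalIdeal B).fg_of_isNoetherianRing
  have h2 : ((maximalIdeal B).spanFinrank : WithBot ℕ∞) = ringKrullDim B :=
    IsRegularLocalRing.spanFinrank_maximalIdeal
  rw [hd] at h2
  have h3 : (maximalIdeal B).spanFinrank = d := by exact_mod_cast h2
  rw [h3] at hcard
  let e := s.equivFinOfCardEq hcard
  let x : Fin d → B := fun i => (e.symm i : B)
  have hrange : Set.range x = (s : Set B) := by
    ext b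
    constructor
    · rintro ⟨i, rfl⟩
      exact (e.symm i).2
    · intro hb
      exact ⟨e ⟨b, hb⟩, by simp [x]⟩
  have hx : Ideal.span (Set.range x) = maximalIdeal B := by rw [hrange]; exact hspan
  refine ⟨List.ofFn x, List.length_ofFn, ?_, ?_⟩
  · exact Groth.Agent.Lib.Helper21.isRegular_ofFn_of_span_eq_maximalIdeal d B hd x hx
  · rw [← hx, Ideal.ofList]
    congr 1
    ext b
    simp [List.mem_ofFn]


theorem span_range_get {B : Type u} [CommRing B] (l : List B) :
    Ideal.span (Set.range fun i : Fin l.length => l.get i) = Ideal.ofList l := by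
  rw [Ideal.ofList]
  congr 1
  exact Set.range_list_get l

/-- the first Koszul homology of the image of a regular system of parameters computes the number
of generators of the kernel -/
theorem h1_image {B A : Type u} [CommRing B] [CommRing A] [IsLocalRing B] [IsNoetherianRing B]
    [Nontrivial A] (f : B →+* A) (hf : Function.Surjective f) (l : List B)
    (hl : RingTheory.Sequence.IsWeaklyRegular B l) (hspan : Ideal.ofList l = maximalIdeal B) :
    h1 (fun i : Fin l.length => f (l.get i)) = ((RingHom.ker f).spanFinrank : ℕ∞) := by
  have hI : RingHom.ker f ≤ Ideal.span (Set.range fun i : Fin l.length => l.get i) := by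
    rw [span_range_get, hspan]
    exact IsLocalRing.le_maximalIdeal (RingHom.ker_ne_top f)
  have h := length_quot_eq_h1 f hf (fun i : Fin l.length => l.get i)
    (ker_lc_le_kosz_of_isWeaklyRegular l hl) hI
  rw [spanFinrank_eq_length, ← h]
  have : Ideal.span (Set.range fun i : Fin l.length => l.get i) = maximalIdeal B := by
    rw [span_range_get, hspan]
  rw [this]

/-- **Independence of the presentation**: for two surjections from regular local rings onto the
same local ring, `dim B - μ(ker) = dim B' - μ(ker')`. -/
theorem dim_sub_spanFinrank_eq {A : Type u} [CommRing A] [IsLocalRing A] (B B' : Type u)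
    [CommRing B] [CommRing B'] [IsRegularLocalRing B] [IsRegularLocalRing B']
    (f : B →+* A) (hf : Function.Surjective f) (f' : B' →+* A) (hf' : Function.Surjective f')
    (d d' : ℕ) (hd : ringKrullDim B = d) (hd' : ringKrullDim B' = d') :
    (d : ℤ) - ((RingHom.ker f).spanFinrank : ℤ) = (d' : ℤ) - ((RingHom.ker f').spanFinrank : ℤ) := by
  obtain ⟨l, hlen, hreg, hspan⟩ := exists_regular_list B d hd
  obtain ⟨l', hlen', hreg', hspan'⟩ := exists_regular_list B' d' hd'
  let x : Fin l.length → A := fun i => f (l.get i)
  let x' : Fin l'.length → A := fun i => f' (l'.get i)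
  have hx : Ideal.span (Set.range x) = maximalIdeal A := by
    have : Set.range x = f '' (Set.range fun i : Fin l.length => l.get i) := by
      rw [← Set.range_comp]; rfl
    rw [this, ← Ideal.map_span, span_range_get, hspan, IsLocalRing.map_maximalIdeal_of_surjective f hf]
  have hx' : Ideal.span (Set.range x') = maximalIdeal A := by
    have : Set.range x' = f' '' (Set.range fun i : Fin l'.length => l'.get i) := by
      rw [← Set.range_comp]; rfl
    rw [this, ← Ideal.map_span, span_range_get, hspan',
      IsLocalRing.map_maximalIdeal_of_surjective f' hf']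
  have hm : ∀ i, x i ∈ maximalIdeal A := fun i => hx ▸ Ideal.subset_span ⟨i, rfl⟩
  have hm' : ∀ i, x' i ∈ maximalIdeal A := fun i => hx' ▸ Ideal.subset_span ⟨i, rfl⟩
  have e1 := h1_sum_elim x hx x' hm'
  have e2 := h1_sum_elim x' hx' x hm
  have e3 : h1 (Sum.elim x x') = h1 (Sum.elim x' x) :=
    h1_reindex (Equiv.sumComm _ _) (Sum.elim x x') (Sum.elim x' x) (by
      intro s
      cases s <;> rfl)
  rw [e1, e2, h1_image f hf l hreg.1 hspan, h1_image f' hf' l' hreg'.1 hspan', Fintype.card_fin,
    Fintype.card_fin, hlen, hlen'] at e3
  have e4 : (RingHom.ker f).spanFinrank + d' = (RingHom.ker f').spanFinrank + d := by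
    exact_mod_cast e3
  omega

end Groth.Agent.Lib.Helper16.CIInv
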