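import Mathlib
import Groth.Agent.Lib.Helper16.CIInv4
import Groth.Agent.Lib.Helper16.CICot

/-!
# Regular-sequence generation of kernels is independent of the regular presentation (helper16)
-/

set_option autoImplicit false
set_option linter.unusedSectionVars false

universe u v w

open Submodule IsLocalRing RingTheory.Sequence

namespace Groth.Agent.Lib.Helper16.CIInv

section Num

variable {B : Type u} [CommRing B]

theorem exists_list_spanFinrank [IsNoetherianRing B] (I : Ideal B) :
    ∃ xs : List B, Ideal.ofList xs = I ∧ xs.length = I.spanFinrank := by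
  obtain ⟨s, hcard, hspan⟩ := Submodule.FG.exists_span_finset_card_eq_spanFinrank
    I.fg_of_isNoetherianRing
  refine ⟨s.toList, ?_, ?_⟩
  · rw [Ideal.ofList, ← hspan]
    congr 1
    ext b
    simp
  · rw [Finset.length_toList, hcard]

theorem spanFinrank_ofList_le (xs : List B) : (Ideal.ofList xs).spanFinrank ≤ xs.length := by
  classical
  have h : {x | x ∈ xs} = (xs.toFinset : Set B) := by ext; simp
  rw [Ideal.ofList, h]
  refine (Submodule.spanFinrank_span_le_ncard_of_finite (Finset.finite_toSet _)).trans ?_
  rw [Set.ncard_coe_finset]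
  exact List.toFinset_card_le xs

variable [IsRegularLocalRing B]

theorem dim_le_add_spanFinrank (I : Ideal B) (hI : I ≠ ⊤) (a d : ℕ)
    (ha : ringKrullDim (B ⧸ I) = a) (hd : ringKrullDim B = d) : d ≤ a + I.spanFinrank := by
  obtain ⟨xs, hxs, hlen⟩ := exists_list_spanFinrank I
  have hmem : ∀ x ∈ xs, x ∈ maximalIdeal B := by
    intro x hx
    exact IsLocalRing.le_maximalIdeal hI (hxs ▸ Ideal.subset_span hx)
  have h := Groth.Agent.Lib.Helper16.CICot.dim_le xs hmem
  rw [hxs, ha, hd, hlen] at h
  exact_mod_cast h

/-- in a regular local ring, an ideal is generated by a regular sequence iff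
`dim B/I + μ(I) = dim B` -/
theorem exists_isRegular_iff (I : Ideal B) (hI : I ≠ ⊤) (a d : ℕ)
    (ha : ringKrullDim (B ⧸ I) = a) (hd : ringKrullDim B = d) :
    (∃ xs : List B, Ideal.ofList xs = I ∧ IsRegular B xs) ↔ a + I.spanFinrank = d := by
  have hCM := Groth.Agent.Lib.Helper16.PDR.isCohenMacaulayModule_self_of_isRegularLocalRing B
  constructor
  · rintro ⟨xs, hxs, hreg⟩
    have hmem : ∀ x ∈ xs, x ∈ maximalIdeal B := by
      intro x hx
      exact IsLocalRing.le_maximalIdeal hI (hxs ▸ Ideal.subset_span hx)
    have h := (Groth.Agent.Lib.Helper16.CICot.isWeaklyRegular_iff_dim hCM xs hmem).mp hreg.1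
    rw [hxs, ha, hd] at h
    have h1 : a + xs.length = d := by exact_mod_cast h
    have h2 : I.spanFinrank ≤ xs.length := hxs ▸ spanFinrank_ofList_le xs
    have h3 := dim_le_add_spanFinrank I hI a d ha hd
    omega
  · intro h
    obtain ⟨xs, hxs, hlen⟩ := exists_list_spanFinrank I
    have hmem : ∀ x ∈ xs, x ∈ maximalIdeal B := by
      intro x hx
      exact IsLocalRing.le_maximalIdeal hI (hxs ▸ Ideal.subset_span hx)
    refine ⟨xs, hxs, ?_⟩
    rw [IsLocalRing.isRegular_iff_isWeaklyRegular_of_subset_maximalIdeal hmem,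
      Groth.Agent.Lib.Helper16.CICot.isWeaklyRegular_iff_dim hCM xs hmem, hxs, ha, hd, hlen]
    exact_mod_cast h

end Num

/-- **Independence of the presentation** for complete intersections: if the kernel of one
surjection from a regular local ring is generated by a regular sequence, so is the kernel of any
other. -/
theorem exists_isRegular_of_exists_isRegular {A : Type u} [CommRing A] [IsLocalRing A]
    (B B' : Type u) [CommRing B] [CommRing B'] [IsRegularLocalRing B] [IsRegularLocalRing B']
    (f : B →+* A) (hf : Function.Surjective f) (f' : B' →+* A) (hf' : Function.Surjective f')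
    (h' : ∃ xs : List B', Ideal.ofList xs = RingHom.ker f' ∧ IsRegular B' xs) :
    ∃ xs : List B, Ideal.ofList xs = RingHom.ker f ∧ IsRegular B xs := by
  have hN : IsNoetherianRing A := isNoetherianRing_of_surjective B A f hf
  obtain ⟨a, ha⟩ := Groth.Agent.Lib.Helper21.exists_nat_eq_ringKrullDim (R := A)
  obtain ⟨d, hd⟩ := Groth.Agent.Lib.Helper21.exists_nat_eq_ringKrullDim (R := B)
  obtain ⟨d', hd'⟩ := Groth.Agent.Lib.Helper21.exists_nat_eq_ringKrullDim (R := B')
  have haB : ringKrullDim (B ⧸ RingHom.ker f) = a := by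
    rw [ringKrullDim_eq_of_ringEquiv (RingHom.quotientKerEquivOfSurjective hf), ha]
  have haB' : ringKrullDim (B' ⧸ RingHom.ker f') = a := by
    rw [ringKrullDim_eq_of_ringEquiv (RingHom.quotientKerEquivOfSurjective hf'), ha]
  have h1 := (exists_isRegular_iff (RingHom.ker f') (RingHom.ker_ne_top f') a d' haB' hd').mp h'
  have h2 := dim_sub_spanFinrank_eq B B' f hf f' hf' d d' hd hd'
  rw [exists_isRegular_iff (RingHom.ker f) (RingHom.ker_ne_top f) a d haB hd]
  omega

end Groth.Agent.Lib.Helper16.CIInv
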