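import Groth.Agent.Lib.Helper16.DepthTransport
import Groth.Prelude.Def_W4bk5brsh7111920

/-!
# Adjusted depths along a surjective ring map (helper16)

For a surjective algebra map `A → B`, a `B`-module `M` (finite over `A`) and a prime `P` of `B`
with contraction `p`:
* `depth_localization_comap_of_surjective` : `depth_{B_P} M_P = depth_{A_p} M_p`;
* `height_map_comap_of_surjective` : `ht ((a+p)/p) = ht ((aB+P)/P)`;
* `minAdjDepth_eq_of_surjective` : the minimum adjusted depths over `A` and over `B` agree.
-/

set_option autoImplicit false
universe u

open IsLocalRing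

namespace Groth.Agent.Lib.Helper16.Depth

open Groth.Agent.Lib.Helper18.CM

section

variable {A B : Type u} [CommRing A] [CommRing B] [IsNoetherianRing A] [Algebra A B]
  (hsurj : Function.Surjective (algebraMap A B))
  (M : Type u) [AddCommGroup M] [Module A M] [Module B M] [IsScalarTower A B M]
  [Module.Finite A M]

include hsurj in
/-- `depth_{B_P} M_P = depth_{A_p} M_p` for `p` the contraction of `P` along a surjection. -/
theorem depth_localization_comap_of_surjective (P : Ideal B) [P.IsPrime] :
    LocCoh.depth (Localization.AtPrime P) (LocalizedModule P.primeCompl M) =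
      LocCoh.depth (Localization.AtPrime (P.comap (algebraMap A B)))
        (LocalizedModule (P.comap (algebraMap A B)).primeCompl M) := by
  let σ : Localization.AtPrime (P.comap (algebraMap A B)) →ₐ[A] Localization.AtPrime P :=
    { Localization.localRingHom (P.comap (algebraMap A B)) P (algebraMap A B) rfl with
      commutes' := fun r => by
        change Localization.localRingHom (P.comap (algebraMap A B)) P (algebraMap A B) rfl
          (algebraMap A _ r) = _
        rw [Localization.localRingHom_to_map,
          IsScalarTower.algebraMap_apply A B (Localization.AtPrime P) r] }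
  have hσ : Function.Surjective σ :=
    (RingHom.surjectiveOnStalks_of_surjective hsurj) P inferInstance
  let g : M →ₗ[A] LocalizedModule P.primeCompl M :=
    (LocalizedModule.mkLinearMap P.primeCompl M).restrictScalars A
  have hg : IsLocalizedModule (P.comap (algebraMap A B)).primeCompl g := by
    refine ⟨fun x => ?_, fun y => ?_, fun {x₁ x₂} h => ?_⟩
    · have hx : algebraMap A B x ∈ P.primeCompl := x.2
      have hu := IsLocalizedModule.map_units (LocalizedModule.mkLinearMap P.primeCompl M)
        ⟨algebraMap A B x, hx⟩
      rw [Module.End.isUnit_iff] at hu ⊢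
      have hfun : ∀ y : LocalizedModule P.primeCompl M,
          (algebraMap A (Module.End A (LocalizedModule P.primeCompl M)) x) y =
          (algebraMap B (Module.End B (LocalizedModule P.primeCompl M))
            (algebraMap A B x)) y := fun y => by
        rw [Module.algebraMap_end_apply, Module.algebraMap_end_apply, algebraMap_smul]
      have hfun' : ⇑(algebraMap A (Module.End A (LocalizedModule P.primeCompl M)) x) =
          ⇑(algebraMap B (Module.End B (LocalizedModule P.primeCompl M))
            (algebraMap A B x)) := funext hfun
      rw [hfun']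
      exact hu
    · obtain ⟨⟨m, s⟩, hs⟩ := IsLocalizedModule.surj P.primeCompl
        (LocalizedModule.mkLinearMap P.primeCompl M) y
      obtain ⟨s', hs'⟩ := hsurj s
      have hs'mem : s' ∈ (P.comap (algebraMap A B)).primeCompl := by
        change algebraMap A B s' ∉ P
        rw [hs']
        exact s.2
      refine ⟨(m, ⟨s', hs'mem⟩), ?_⟩
      change s' • y = _
      rw [← algebraMap_smul B s' y, hs']
      exact hs
    · obtain ⟨c, hc⟩ := IsLocalizedModule.exists_of_eq (S := P.primeCompl)
        (f := LocalizedModule.mkLinearMap P.primeCompl M) h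
      obtain ⟨c', hc'⟩ := hsurj c
      have hc'mem : c' ∈ (P.comap (algebraMap A B)).primeCompl := by
        change algebraMap A B c' ∉ P
        rw [hc']
        exact c.2
      refine ⟨⟨c', hc'mem⟩, ?_⟩
      change c' • x₁ = c' • x₂
      rw [← algebraMap_smul B c' x₁, ← algebraMap_smul B c' x₂, hc']
      exact hc
  exact depth_eq_of_surjective_algHom (P.comap (algebraMap A B)) M (Localization.AtPrime P) σ hσ
    (LocalizedModule P.primeCompl M) g

omit [IsNoetherianRing A] in
include hsurj in
/-- `ht ((a+p)/p) = ht ((aB+P)/P)` for `p` the contraction of `P` along a surjection. -/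
theorem height_map_comap_of_surjective (a : Ideal A) (P : Ideal B) [P.IsPrime] :
    ((a ⊔ P.comap (algebraMap A B)).map
        (Ideal.Quotient.mk (P.comap (algebraMap A B)))).height =
      ((a.map (algebraMap A B) ⊔ P).map (Ideal.Quotient.mk P)).height := by
  let e : (A ⧸ P.comap (algebraMap A B)) ≃+* (B ⧸ P) :=
    RingEquiv.ofBijective (Ideal.quotientMap P (algebraMap A B) le_rfl)
      ⟨Ideal.quotientMap_injective, Ideal.quotientMap_surjective hsurj⟩
  rw [← RingEquiv.height_map e]
  congr 1
  have he : (e : (A ⧸ P.comap (algebraMap A B)) →+* (B ⧸ P)).comp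
      (Ideal.Quotient.mk (P.comap (algebraMap A B))) =
      (Ideal.Quotient.mk P).comp (algebraMap A B) := by
    ext x
    rfl
  change Ideal.map (e : (A ⧸ P.comap (algebraMap A B)) →+* (B ⧸ P)) _ = _
  rw [Ideal.map_map, he, ← Ideal.map_map, Ideal.map_sup, Ideal.map_comap_of_surjective _ hsurj]

include hsurj in
/-- The adjusted depths at `P` and at its contraction agree. -/
theorem adjDepth_comap_of_surjective (a : Ideal A) (P : PrimeSpectrum B) :
    LocCoh.adjDepth a M ⟨P.asIdeal.comap (algebraMap A B), inferInstance⟩ =
      LocCoh.adjDepth (a.map (algebraMap A B)) M P := by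
  unfold LocCoh.adjDepth
  rw [depth_localization_comap_of_surjective hsurj M P.asIdeal,
    height_map_comap_of_surjective hsurj a P.asIdeal]

include hsurj in
/-- The minimum adjusted depths over `A` and over its quotient `B` agree. -/
theorem minAdjDepth_eq_of_surjective (a b : Ideal A) :
    LocCoh.minAdjDepth a b M =
      LocCoh.minAdjDepth (a.map (algebraMap A B)) (b.map (algebraMap A B)) M := by
  unfold LocCoh.minAdjDepth
  apply le_antisymm
  · refine le_iInf₂ fun P hP => ?_
    refine iInf₂_le_of_le ⟨P.asIdeal.comap (algebraMap A B), inferInstance⟩ ?_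
      (adjDepth_comap_of_surjective hsurj M a P).le
    intro hb
    exact hP (Ideal.map_le_iff_le_comap.mpr hb)
  · refine le_iInf₂ fun p hp => ?_
    by_cases hker : RingHom.ker (algebraMap A B) ≤ p.asIdeal
    · have hprime : (p.asIdeal.map (algebraMap A B)).IsPrime :=
        Ideal.map_isPrime_of_surjective hsurj hker
      have hcomap : (p.asIdeal.map (algebraMap A B)).comap (algebraMap A B) = p.asIdeal := by
        rw [Ideal.comap_map_of_surjective _ hsurj, sup_eq_left]
        exact hker
      have heq : (⟨(p.asIdeal.map (algebraMap A B)).comap (algebraMap A B), inferInstance⟩ :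
          PrimeSpectrum A) = p := PrimeSpectrum.ext hcomap
      refine iInf₂_le_of_le ⟨p.asIdeal.map (algebraMap A B), hprime⟩ ?_ ?_
      · intro hb
        apply hp
        rw [← hcomap]
        exact Ideal.map_le_iff_le_comap.mp hb
      · rw [← adjDepth_comap_of_surjective hsurj M a ⟨_, hprime⟩, heq]
    · have hsub : Subsingleton (LocalizedModule p.asIdeal.primeCompl M) := by
        obtain ⟨c, hc, hcp⟩ := Set.not_subset.mp hker
        rw [LocalizedModule.subsingleton_iff]
        intro m
        refine ⟨c, hcp, ?_⟩
        rw [← algebraMap_smul B c m, (RingHom.mem_ker).mp hc, zero_smul]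
      unfold LocCoh.adjDepth
      rw [depth_eq_top_of_subsingleton, top_add]
      exact le_top

end

end Groth.Agent.Lib.Helper16.Depth
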