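import Mathlib.RingTheory.Ideal.Height
import Mathlib.RingTheory.Ideal.KrullsHeightTheorem

/-!
# Heights of primes in quotients by primes (helper16)

`ht (s/p) + ht (q/s) ≤ ht (q/p)` for primes `p ≤ s ≤ q` of a Noetherian ring.
-/

set_option autoImplicit false
universe u

namespace Groth.Agent.Lib.Helper16.Depth

section

variable {R : Type u} [CommRing R]

theorem map_mk_isPrime (p s : Ideal R) [s.IsPrime] (hps : p ≤ s) :
    (s.map (Ideal.Quotient.mk p)).IsPrime :=
  Ideal.map_isPrime_of_surjective Ideal.Quotient.mk_surjective (by rwa [Ideal.mk_ker])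

theorem comap_map_mk (p s : Ideal R) (hps : p ≤ s) :
    (s.map (Ideal.Quotient.mk p)).comap (Ideal.Quotient.mk p) = s := by
  rw [Ideal.comap_map_of_surjective _ Ideal.Quotient.mk_surjective, ← RingHom.ker_eq_comap_bot,
    Ideal.mk_ker]
  exact sup_eq_left.mpr hps

theorem map_mk_lt_map_mk (p s q : Ideal R) (hps : p ≤ s) (hsq : s < q) :
    s.map (Ideal.Quotient.mk p) < q.map (Ideal.Quotient.mk p) := by
  refine lt_of_le_of_ne (Ideal.map_mono hsq.le) ?_
  intro h
  have h1 := congrArg (Ideal.comap (Ideal.Quotient.mk p)) h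
  rw [comap_map_mk p s hps, comap_map_mk p q (hps.trans hsq.le)] at h1
  exact hsq.ne h1

/-- `ht (s/p) + n ≤ ht (q/p)` whenever `n ≤ ht (q/s)`. -/
theorem height_map_add_le_aux (p s : Ideal R) [p.IsPrime] [s.IsPrime] (hps : p ≤ s) :
    ∀ (n : ℕ) (q : Ideal R) [q.IsPrime], s ≤ q → (n : ℕ∞) ≤ (q.map (Ideal.Quotient.mk s)).height →
      (s.map (Ideal.Quotient.mk p)).height + n ≤ (q.map (Ideal.Quotient.mk p)).height := by
  intro n
  induction n with
  | zero =>
    intro q _ hsq _
    rw [Nat.cast_zero, add_zero]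
    exact Ideal.height_mono (Ideal.map_mono hsq)
  | succ n ih =>
    intro q _ hsq hn
    have hQprime : (q.map (Ideal.Quotient.mk s)).IsPrime := map_mk_isPrime s q hsq
    have hnot : ¬ (q.map (Ideal.Quotient.mk s)).height ≤ (n : ℕ∞) := by
      intro hle
      have h1 : ((n + 1 : ℕ) : ℕ∞) ≤ (n : ℕ∞) := hn.trans hle
      have h2 : n + 1 ≤ n := by exact_mod_cast h1
      omega
    rw [Ideal.height_le_iff] at hnot
    simp only [not_forall] at hnot
    obtain ⟨Q', hQ'prime, hQ'lt, hQ'ht⟩ := hnot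
    rw [not_lt] at hQ'ht
    -- pull `Q'` back to `R`
    let q' := Q'.comap (Ideal.Quotient.mk s)
    have hq'prime : q'.IsPrime := Ideal.comap_isPrime _ _
    have hsq' : s ≤ q' := by
      intro x hx
      change Ideal.Quotient.mk s x ∈ Q'
      rw [Ideal.Quotient.eq_zero_iff_mem.mpr hx]
      exact Ideal.zero_mem _
    have hmap : q'.map (Ideal.Quotient.mk s) = Q' :=
      Ideal.map_comap_of_surjective _ Ideal.Quotient.mk_surjective Q'
    have hq'q : q' < q := by
      have hle : q' ≤ q := by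
        have := Ideal.comap_mono (f := Ideal.Quotient.mk s) hQ'lt.le
        rwa [comap_map_mk s q hsq] at this
      refine lt_of_le_of_ne hle ?_
      intro h
      apply hQ'lt.ne
      rw [← hmap, h]
    have h1 := ih q' hsq' (by rw [hmap]; exact hQ'ht)
    have hq'P : (q'.map (Ideal.Quotient.mk p)).IsPrime := map_mk_isPrime p q' (hps.trans hsq')
    have hqP : (q.map (Ideal.Quotient.mk p)).IsPrime := map_mk_isPrime p q (hps.trans hsq)
    have h2 := Ideal.height_add_one_le_of_lt_of_isPrime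
      (map_mk_lt_map_mk p q' q (hps.trans hsq') hq'q)
    calc (s.map (Ideal.Quotient.mk p)).height + ((n + 1 : ℕ) : ℕ∞)
        = ((s.map (Ideal.Quotient.mk p)).height + n) + 1 := by push_cast; rw [add_assoc]
      _ ≤ (q'.map (Ideal.Quotient.mk p)).height + 1 := add_le_add h1 le_rfl
      _ ≤ _ := h2

/-- `ht (s/p) + ht (q/s) ≤ ht (q/p)` for primes `p ≤ s ≤ q` of a Noetherian ring. -/
theorem height_map_add_height_map_le [IsNoetherianRing R] (p s q : Ideal R) [p.IsPrime]
    [s.IsPrime] [q.IsPrime] (hps : p ≤ s) (hsq : s ≤ q) :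
    (s.map (Ideal.Quotient.mk p)).height + (q.map (Ideal.Quotient.mk s)).height ≤
      (q.map (Ideal.Quotient.mk p)).height := by
  have hQprime : (q.map (Ideal.Quotient.mk s)).IsPrime := map_mk_isPrime s q hsq
  have hfin : (q.map (Ideal.Quotient.mk s)).height ≠ ⊤ := Ideal.height_ne_top_of_isPrime
  obtain ⟨n, hn⟩ := ENat.ne_top_iff_exists.mp hfin
  rw [← hn]
  exact height_map_add_le_aux p s hps n q hsq (by rw [hn])

end

end Groth.Agent.Lib.Helper16.Depth
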