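import Groth.Prelude.Def_SGA2
import Groth.Agent.Lib.Helper16.HeightQuot
import Mathlib.RingTheory.Ideal.Height
import Mathlib.RingTheory.Spectrum.Prime.RingHom

/-!
# The codimension function `SGA2.relCodim` (helper16)

* `height_Ici_eq` : the order height of `q` in `Set.Ici p` is the height of `q/p` in `A/p`.
* `relCodim_eq_height` : `c(p) = ht ((I + p)/p)`.
* `one_le_relCodim_iff` : `1 ≤ c(p) ↔ ¬ I ≤ p`.
* `exists_relCodim_eq_one` : if `c(p) = c` is finite and positive there is `p' ⊇ p` with `c(p') = 1`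
  and `ht (p'/p) + 1 = c`.
-/

set_option autoImplicit false
universe u

namespace Groth.Agent.Lib.Helper16.RC

variable {A : Type u} [CommRing A]

/-- The order isomorphism `Spec (A/p) ≃o Set.Ici p`. -/
noncomputable def quotIsoIci (p : PrimeSpectrum A) :
    PrimeSpectrum (A ⧸ p.asIdeal) ≃o Set.Ici p :=
  (Ideal.primeSpectrumQuotientOrderIsoZeroLocus p.asIdeal).trans
    (OrderIso.setCongr _ _ (by
      ext q
      simp only [PrimeSpectrum.mem_zeroLocus, Set.mem_Ici, SetLike.coe_subset_coe]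
      exact Iff.rfl))

theorem quotIsoIci_symm_asIdeal (p q : PrimeSpectrum A) (hpq : p ≤ q) :
    ((quotIsoIci p).symm ⟨q, hpq⟩).asIdeal = q.asIdeal.map (Ideal.Quotient.mk p.asIdeal) :=
  rfl

theorem quotIsoIci_apply_coe (p : PrimeSpectrum A) (Q : PrimeSpectrum (A ⧸ p.asIdeal)) :
    ((quotIsoIci p Q : Set.Ici p) : PrimeSpectrum A).asIdeal =
      Q.asIdeal.comap (Ideal.Quotient.mk p.asIdeal) :=
  rfl

/-- The order height of `q` in `Set.Ici p` is the height of `q/p`. -/
theorem height_Ici_eq (p q : PrimeSpectrum A) (hpq : p ≤ q) :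
    Order.height (⟨q, hpq⟩ : Set.Ici p) =
      (q.asIdeal.map (Ideal.Quotient.mk p.asIdeal)).height := by
  rw [← quotIsoIci_symm_asIdeal p q hpq, PrimeSpectrum.height_eq_orderHeight,
    ← Order.height_orderIso (quotIsoIci p), OrderIso.apply_symm_apply]

theorem relCodim_eq_iInf (I : Ideal A) (p : PrimeSpectrum A) :
    SGA2.relCodim I p = ⨅ q : {q : PrimeSpectrum A // p ≤ q ∧ I ≤ q.asIdeal},
      (q.1.asIdeal.map (Ideal.Quotient.mk p.asIdeal)).height := by
  unfold SGA2.relCodim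
  exact iInf_congr fun q => height_Ici_eq p q.1 q.2.1

theorem relCodim_le (I : Ideal A) (p q : PrimeSpectrum A) (hpq : p ≤ q) (hIq : I ≤ q.asIdeal) :
    SGA2.relCodim I p ≤ (q.asIdeal.map (Ideal.Quotient.mk p.asIdeal)).height := by
  rw [relCodim_eq_iInf]
  exact iInf_le (fun q : {q : PrimeSpectrum A // p ≤ q ∧ I ≤ q.asIdeal} =>
    (q.1.asIdeal.map (Ideal.Quotient.mk p.asIdeal)).height) ⟨q, hpq, hIq⟩

theorem le_relCodim_iff (I : Ideal A) (p : PrimeSpectrum A) (n : ℕ∞) :
    n ≤ SGA2.relCodim I p ↔ ∀ q : PrimeSpectrum A, p ≤ q → I ≤ q.asIdeal →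
      n ≤ (q.asIdeal.map (Ideal.Quotient.mk p.asIdeal)).height := by
  rw [relCodim_eq_iInf, le_iInf_iff]
  exact ⟨fun h q hpq hIq => h ⟨q, hpq, hIq⟩, fun h q => h q.1 q.2.1 q.2.2⟩

/-- `c(p) = ht ((I + p)/p)`. -/
theorem relCodim_eq_height (I : Ideal A) (p : PrimeSpectrum A) :
    SGA2.relCodim I p = ((I ⊔ p.asIdeal).map (Ideal.Quotient.mk p.asIdeal)).height := by
  apply le_antisymm
  · rw [Ideal.height_eq_inf_minimalPrimes]
    refine le_iInf₂ fun Q hQ => ?_
    have hQp : Q.IsPrime := hQ.1.1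
    have hle : I ⊔ p.asIdeal ≤ Q.comap (Ideal.Quotient.mk p.asIdeal) :=
      Ideal.map_le_iff_le_comap.mp hQ.1.2
    let q : PrimeSpectrum A := ⟨Q.comap (Ideal.Quotient.mk p.asIdeal), inferInstance⟩
    have h := relCodim_le I p q (le_sup_right.trans hle) (le_sup_left.trans hle)
    have hq : q.asIdeal.map (Ideal.Quotient.mk p.asIdeal) = Q :=
      Ideal.map_comap_of_surjective _ Ideal.Quotient.mk_surjective Q
    rwa [hq] at h
  · rw [le_relCodim_iff]
    intro q hpq hIq
    exact Ideal.height_mono (Ideal.map_mono (sup_le hIq hpq))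

theorem height_map_mk_eq_zero_iff (p q : PrimeSpectrum A) (hpq : p ≤ q) :
    (q.asIdeal.map (Ideal.Quotient.mk p.asIdeal)).height = 0 ↔ q = p := by
  have hQ : (q.asIdeal.map (Ideal.Quotient.mk p.asIdeal)).IsPrime :=
    Groth.Agent.Lib.Helper16.Depth.map_mk_isPrime p.asIdeal q.asIdeal hpq
  have hdom : IsDomain (A ⧸ p.asIdeal) := Ideal.Quotient.isDomain p.asIdeal
  rw [Ideal.height_eq_zero_iff_eq_bot]
  constructor
  · intro h
    have h1 := Groth.Agent.Lib.Helper16.Depth.comap_map_mk p.asIdeal q.asIdeal hpq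
    rw [h, ← RingHom.ker_eq_comap_bot, Ideal.mk_ker] at h1
    exact PrimeSpectrum.ext h1.symm
  · rintro rfl
    exact Ideal.map_quotient_self _

/-- `1 ≤ c(p) ↔ ¬ I ≤ p`. -/
theorem one_le_relCodim_iff (I : Ideal A) (p : PrimeSpectrum A) :
    1 ≤ SGA2.relCodim I p ↔ ¬ I ≤ p.asIdeal := by
  constructor
  · intro h hIp
    have h1 := h.trans (relCodim_le I p p le_rfl hIp)
    rw [(height_map_mk_eq_zero_iff p p le_rfl).mpr rfl] at h1
    exact absurd h1 (by simp)
  · intro hIp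
    rw [le_relCodim_iff]
    intro q hpq hIq
    rw [Order.one_le_iff_ne_zero]
    intro h0
    rw [height_map_mk_eq_zero_iff p q hpq] at h0
    exact hIp (h0 ▸ hIq)

/-- If `c(p) = c` is a positive natural number, there is a prime `p' ⊇ p` not containing `I` with
`c(p') = 1` and `ht (p'/p) + 1 = c`. -/
theorem exists_relCodim_eq_one [IsNoetherianRing A] (I : Ideal A) (p : PrimeSpectrum A)
    (hIp : ¬ I ≤ p.asIdeal) (c : ℕ) (hc : SGA2.relCodim I p = c) :
    ∃ p' : PrimeSpectrum A, p ≤ p' ∧ ¬ I ≤ p'.asIdeal ∧ SGA2.relCodim I p' = 1 ∧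
      (p'.asIdeal.map (Ideal.Quotient.mk p.asIdeal)).height + 1 = c := by
  have hc1 : 1 ≤ c := by
    have := (one_le_relCodim_iff I p).mpr hIp
    rw [hc] at this
    exact_mod_cast this
  -- the infimum is attained
  have hne : Nonempty {q : PrimeSpectrum A // p ≤ q ∧ I ≤ q.asIdeal} := by
    by_contra hempty
    rw [not_nonempty_iff] at hempty
    rw [relCodim_eq_iInf, iInf_of_empty] at hc
    exact ENat.top_ne_natCast c hc
  obtain ⟨⟨q, hpq, hIq⟩, hq⟩ := ENat.exists_eq_iInf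
    (fun q : {q : PrimeSpectrum A // p ≤ q ∧ I ≤ q.asIdeal} =>
      (q.1.asIdeal.map (Ideal.Quotient.mk p.asIdeal)).height)
  rw [← relCodim_eq_iInf, hc] at hq
  simp only at hq
  -- `Q = q/p` has height `c` in `A/p`
  let Q : PrimeSpectrum (A ⧸ p.asIdeal) := (quotIsoIci p).symm ⟨q, hpq⟩
  have hQh : Order.height Q = c := by
    rw [← PrimeSpectrum.height_eq_orderHeight, quotIsoIci_symm_asIdeal]
    exact hq
  have hlt : ((c - 1 : ℕ) : ℕ∞) < Order.height Q := by
    rw [hQh]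
    exact_mod_cast Nat.sub_lt hc1 Nat.one_pos
  obtain ⟨Q', hQ'lt, hQ'h⟩ := (Order.coe_lt_height_iff (by rw [hQh]; exact ENat.natCast_lt_top c)).mp hlt
  let p' : PrimeSpectrum A := ((quotIsoIci p Q' : Set.Ici p) : PrimeSpectrum A)
  have hpp' : p ≤ p' := (quotIsoIci p Q').2
  have hp'h : (p'.asIdeal.map (Ideal.Quotient.mk p.asIdeal)).height = ((c - 1 : ℕ) : ℕ∞) := by
    rw [← height_Ici_eq p p' hpp']
    have : (⟨p', hpp'⟩ : Set.Ici p) = quotIsoIci p Q' := rfl
    rw [this, Order.height_orderIso]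
    exact hQ'h
  have hp'q : p' ≤ q := by
    have h1 : quotIsoIci p Q' ≤ quotIsoIci p Q := (quotIsoIci p).monotone hQ'lt.le
    rw [OrderIso.apply_symm_apply] at h1
    exact h1
  have hIp' : ¬ I ≤ p'.asIdeal := by
    intro hI
    have h1 := relCodim_le I p p' hpp' hI
    rw [hc, hp'h] at h1
    have : c ≤ c - 1 := by exact_mod_cast h1
    omega
  refine ⟨p', hpp', hIp', ?_, ?_⟩
  · apply le_antisymm
    · have h1 := relCodim_le I p' q hp'q hIq
      have h2 := Groth.Agent.Lib.Helper16.Depth.height_map_add_height_map_le p.asIdeal p'.asIdeal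
        q.asIdeal hpp' hp'q
      rw [hq, hp'h] at h2
      refine h1.trans ?_
      have hfin : (q.asIdeal.map (Ideal.Quotient.mk p'.asIdeal)).height ≠ ⊤ := by
        have : (q.asIdeal.map (Ideal.Quotient.mk p'.asIdeal)).IsPrime :=
          Groth.Agent.Lib.Helper16.Depth.map_mk_isPrime p'.asIdeal q.asIdeal hp'q
        exact Ideal.height_ne_top_of_isPrime
      obtain ⟨n, hn⟩ := ENat.ne_top_iff_exists.mp hfin
      rw [← hn] at h2 ⊢
      have h3 : c - 1 + n ≤ c := by exact_mod_cast h2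
      have : n ≤ 1 := by omega
      exact_mod_cast this
    · exact (one_le_relCodim_iff I p').mpr hIp'
  · rw [hp'h]
    have : c - 1 + 1 = c := by omega
    exact_mod_cast this

end Groth.Agent.Lib.Helper16.RC
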