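import Groth.Agent.Lib.Helper16.RegularDim
import Groth.Agent.Lib.Helper16.DepthQuotient
import Groth.Agent.Lib.Helper16.RelCodim

/-!
# Additivity of heights in quotients of regular rings (helper16)

* `height_eq_height_map_add` : `ht Q = ht (Q/P) + ht P` in a regular ring.
* `height_map_eq_add_of_isRegularRing` : `ht (Q/P₀) = ht (P/P₀) + ht (Q/P)` in a regular ring.
* `height_map_eq_add_of_surjective` : the same in a quotient of a regular ring.
* `relCodim_le_height_add_relCodim` : `c(p₀) ≤ ht (p/p₀) + c(p)` in a quotient of a regular ring.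
-/

set_option autoImplicit false
universe u

namespace Groth.Agent.Lib.Helper16.Cat

open Groth.Agent.Lib.Helper16 Groth.Agent.Lib.Helper16.Depth

section regular

variable (R : Type u) [CommRing R] [IsRegularRing R]

theorem height_eq_height_map_add (P Q : Ideal R) [P.IsPrime] [Q.IsPrime] (h : P ≤ Q) :
    Q.height = (Q.map (Ideal.Quotient.mk P)).height + P.height := by
  have hdisj : Disjoint (Q.primeCompl : Set R) (P : Set R) := by
    rw [Set.disjoint_left]
    intro x hx hxP
    exact hx (h hxP)
  have hPprime : (P.map (algebraMap R (Localization.AtPrime Q))).IsPrime :=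
    IsLocalization.isPrime_of_isPrime_disjoint Q.primeCompl _ P inferInstance hdisj
  have h1 := PDR.ringKrullDim_eq_quotient_add_height (Localization.AtPrime Q)
    (P.map (algebraMap R (Localization.AtPrime Q)))
  rw [IsLocalization.AtPrime.ringKrullDim_eq_height Q (Localization.AtPrime Q),
    ringKrullDim_localization_quotient_map P Q h,
    IsLocalization.height_map_of_disjoint Q.primeCompl P hdisj] at h1
  exact_mod_cast h1

theorem height_map_eq_add_of_isRegularRing (P₀ P Q : Ideal R) [P₀.IsPrime] [P.IsPrime]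
    [Q.IsPrime] (h₀ : P₀ ≤ P) (h₁ : P ≤ Q) :
    (Q.map (Ideal.Quotient.mk P₀)).height =
      (P.map (Ideal.Quotient.mk P₀)).height + (Q.map (Ideal.Quotient.mk P)).height := by
  have e1 := height_eq_height_map_add R P₀ Q (h₀.trans h₁)
  have e2 := height_eq_height_map_add R P₀ P h₀
  have e3 := height_eq_height_map_add R P Q h₁
  have hfin : P₀.height ≠ ⊤ := Ideal.height_ne_top_of_isPrime
  rw [e2, ← add_assoc] at e3
  rw [e1] at e3
  have := (ENat.add_left_injective_of_ne_top hfin) e3
  rw [this, add_comm]

end regular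

section quotient

variable (R : Type u) [CommRing R] [IsRegularRing R] (A : Type u) [CommRing A]
  (π : R →+* A) (hπ : Function.Surjective π)

include hπ in
theorem height_map_eq_add_of_surjective (p₀ p q : Ideal A) [p₀.IsPrime] [p.IsPrime]
    [q.IsPrime] (h₀ : p₀ ≤ p) (h₁ : p ≤ q) :
    (q.map (Ideal.Quotient.mk p₀)).height =
      (p.map (Ideal.Quotient.mk p₀)).height + (q.map (Ideal.Quotient.mk p)).height := by
  let alg : Algebra R A := π.toAlgebra
  have hsurj : Function.Surjective (algebraMap R A) := hπ
  have key : ∀ (s t : Ideal A) [s.IsPrime] [t.IsPrime], s ≤ t →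
      (t.map (Ideal.Quotient.mk s)).height =
        ((t.comap (algebraMap R A)).map
          (Ideal.Quotient.mk (s.comap (algebraMap R A)))).height := by
    intro s t _ _ hst
    have h := height_map_comap_of_surjective hsurj (t.comap (algebraMap R A)) s
    rw [Ideal.map_comap_of_surjective _ hsurj, sup_eq_left.mpr hst,
      sup_eq_left.mpr (Ideal.comap_mono hst)] at h
    exact h.symm
  rw [key p₀ q (h₀.trans h₁), key p₀ p h₀, key p q h₁]
  exact height_map_eq_add_of_isRegularRing R _ _ _ (Ideal.comap_mono h₀) (Ideal.comap_mono h₁)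

include hπ in
/-- `c(p₀) ≤ ht (p/p₀) + c(p)` in a quotient of a regular ring. -/
theorem relCodim_le_height_add_relCodim (I : Ideal A) (p₀ p : PrimeSpectrum A) (h : p₀ ≤ p) :
    SGA2.relCodim I p₀ ≤
      (p.asIdeal.map (Ideal.Quotient.mk p₀.asIdeal)).height + SGA2.relCodim I p := by
  by_cases hne : Nonempty {q : PrimeSpectrum A // p ≤ q ∧ I ≤ q.asIdeal}
  · obtain ⟨⟨q, hpq, hIq⟩, hq⟩ := ENat.exists_eq_iInf
      (fun q : {q : PrimeSpectrum A // p ≤ q ∧ I ≤ q.asIdeal} =>
        (q.1.asIdeal.map (Ideal.Quotient.mk p.asIdeal)).height)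
    rw [← RC.relCodim_eq_iInf] at hq
    simp only at hq
    rw [← hq, ← height_map_eq_add_of_surjective R A π hπ p₀.asIdeal p.asIdeal q.asIdeal h hpq]
    exact RC.relCodim_le I p₀ q (h.trans hpq) hIq
  · rw [not_nonempty_iff] at hne
    rw [RC.relCodim_eq_iInf I p, iInf_of_empty, add_top]
    exact le_top

end quotient

end Groth.Agent.Lib.Helper16.Cat
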