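import Mathlib
import Groth.Agent.Lib.Helper7.DimFT
import Groth.Agent.Lib.Helper16.RelCodim

/-!
# Dimension at the vertex of a graded algebra (helper16)

* height_map_mk_le, exists_prime_height_le_height_map : heights in quotients by primes.
* height_map_mk_eq_ringKrullDim_of_isMaximal, height_eq_ringKrullDim_of_forall_minimalPrimes_le : in a finitely generated algebra over a field a maximal ideal containing all minimal primes has height the dimension.
* le_irrelevant_of_isHomogeneous, irrelevant_isMaximal, le_irrelevant_of_mem_minimalPrimes : for an N-graded algebra with degree zero part the base field.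
* finiteType_of_isNoetherianRing : a Noetherian N-graded K-algebra with degree zero part K is finitely generated.
* height_map_irrelevant_eq : the height of the image of the irrelevant ideal in A/I (I proper homogeneous) is dim A/I.
-/

set_option autoImplicit false
universe u v
open DirectSum

namespace Groth.Agent.Lib.Helper16.GrVertex

section general

variable {B : Type v} [CommRing B]

/-- the height of `Q/P` in `B/P` is at most the height of `Q`. -/
theorem height_map_mk_le (P Q : Ideal B) [hP : P.IsPrime] [hQ : Q.IsPrime] (h : P ≤ Q) :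
    (Q.map (Ideal.Quotient.mk P)).height ≤ Q.height := by
  have h1 := Groth.Agent.Lib.Helper16.RC.height_Ici_eq (⟨P, hP⟩ : PrimeSpectrum B) ⟨Q, hQ⟩ h
  have h2 := Order.height_le_height_apply_of_strictMono
    (Subtype.val : Set.Ici (⟨P, hP⟩ : PrimeSpectrum B) → PrimeSpectrum B)
    (Subtype.strictMono_coe _) ⟨⟨Q, hQ⟩, h⟩
  have h3 := PrimeSpectrum.height_eq_orderHeight (⟨Q, hQ⟩ : PrimeSpectrum B)
  change Q.height = _ at h3
  change _ = (Q.map (Ideal.Quotient.mk P)).height at h1
  rw [← h1, h3]
  exact h2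

/-- a prime of finite height is reached by a chain starting at some prime `P`, so that
`ht Q ≤ ht (Q/P)`. -/
theorem exists_prime_height_le_height_map (Q : Ideal B) [hQ : Q.IsPrime] [Q.FiniteHeight] :
    ∃ (P : Ideal B) (_ : P.IsPrime), P ≤ Q ∧ Q.height ≤ (Q.map (Ideal.Quotient.mk P)).height := by
  obtain ⟨l, hl1, hl2⟩ := Ideal.exists_ltSeries_length_eq_height Q
  refine ⟨l.head.asIdeal, l.head.2, ?_, ?_⟩
  · have := LTSeries.head_le_last l
    rw [hl1] at this
    exact this
  · have hle : l.head ≤ ⟨Q, hQ⟩ := by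
      have := LTSeries.head_le_last l
      rwa [hl1] at this
    have h1 := Groth.Agent.Lib.Helper16.RC.height_Ici_eq l.head ⟨Q, hQ⟩ hle
    change _ = (Q.map (Ideal.Quotient.mk l.head.asIdeal)).height at h1
    rw [← h1, ← hl2]
    let s : LTSeries (Set.Ici l.head) :=
      { length := l.length
        toFun := fun i => ⟨l i, LTSeries.head_le l i⟩
        step := fun i => by
          change l (Fin.castSucc i) < l (Fin.succ i)
          exact l.step i }
    have hs : s.last = ⟨⟨Q, hQ⟩, hle⟩ := by
      apply Subtype.ext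
      change l.last = _
      exact hl1
    have := Order.length_le_height (p := s) (x := ⟨⟨Q, hQ⟩, hle⟩) (le_of_eq hs)
    exact this

end general

section ft

variable (K : Type u) [Field K] (B : Type v) [CommRing B] [Algebra K B] [Algebra.FiniteType K B]

include K in
/-- For a maximal ideal `m ⊇ p₀` of a finitely generated algebra over a field:
`ht (m/p₀) = dim B/p₀`. -/
theorem height_map_mk_eq_ringKrullDim_of_isMaximal (p₀ m : Ideal B) [p₀.IsPrime]
    [hm : m.IsMaximal] (h : p₀ ≤ m) :
    ((m.map (Ideal.Quotient.mk p₀)).height : WithBot ℕ∞) = ringKrullDim (B ⧸ p₀) := by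
  have : Algebra.FiniteType K (B ⧸ p₀) :=
    Algebra.FiniteType.of_surjective (Ideal.Quotient.mkₐ K p₀) (Ideal.Quotient.mkₐ_surjective K p₀)
  have hsurj : Function.Surjective (Ideal.Quotient.mk p₀) := Ideal.Quotient.mk_surjective
  have hker : RingHom.ker (Ideal.Quotient.mk p₀) ≤ m := by rw [Ideal.mk_ker]; exact h
  have hmprime : (m.map (Ideal.Quotient.mk p₀)).IsPrime :=
    Ideal.map_isPrime_of_surjective hsurj hker
  have hmmax : (m.map (Ideal.Quotient.mk p₀)).IsMaximal :=
    (Ideal.map_eq_top_or_isMaximal_of_surjective _ hsurj hm).resolve_left hmprime.ne_top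
  exact Groth.Agent.Lib.Helper7.DimFT.height_eq_ringKrullDim_of_isMaximal K (B ⧸ p₀) _

include K in
/-- In a finitely generated algebra over a field, a maximal ideal containing all minimal primes
has height equal to the dimension. -/
theorem height_eq_ringKrullDim_of_forall_minimalPrimes_le (m : Ideal B) [hm : m.IsMaximal]
    (hmin : ∀ P ∈ minimalPrimes B, P ≤ m) :
    (m.height : WithBot ℕ∞) = ringKrullDim B := by
  have hnoe : IsNoetherianRing B := Algebra.FiniteType.isNoetherianRing K B
  apply le_antisymm Ideal.height_le_ringKrullDim_of_isPrime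
  rw [ringKrullDim_le_iff_isMaximal_height_le]
  intro n hn
  obtain ⟨P, hP, hPn, hle⟩ := exists_prime_height_le_height_map n
  obtain ⟨P₀, hP₀, hP₀P⟩ := Ideal.exists_minimalPrimes_le (I := ⊥) (J := P) bot_le
  have hP₀prime : P₀.IsPrime := hP₀.1.1
  have hP₀m : P₀ ≤ m := hmin P₀ hP₀
  have e1 := height_map_mk_eq_ringKrullDim_of_isMaximal K B P n hPn
  have e2 := height_map_mk_eq_ringKrullDim_of_isMaximal K B P₀ m hP₀m
  have e3 : ringKrullDim (B ⧸ P) ≤ ringKrullDim (B ⧸ P₀) :=
    ringKrullDim_le_of_surjective (Ideal.Quotient.factor hP₀P) (Ideal.Quotient.factor_surjective hP₀P)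
  have e4 := height_map_mk_le P₀ m hP₀m
  calc ((n.height : ℕ∞) : WithBot ℕ∞) ≤ ((n.map (Ideal.Quotient.mk P)).height : WithBot ℕ∞) := by
        exact_mod_cast hle
    _ = ringKrullDim (B ⧸ P) := e1
    _ ≤ ringKrullDim (B ⧸ P₀) := e3
    _ = ((m.map (Ideal.Quotient.mk P₀)).height : WithBot ℕ∞) := e2.symm
    _ ≤ m.height := by exact_mod_cast e4

end ft

section graded

variable {K : Type u} [Field K] {A : Type v} [CommRing A] [Algebra K A]
  (𝒜 : ℕ → Submodule K A) [GradedAlgebra 𝒜]

theorem mem_irrelevant_toIdeal_iff (a : A) :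
    a ∈ (HomogeneousIdeal.irrelevant 𝒜).toIdeal ↔ (decompose 𝒜 a 0 : A) = 0 := Iff.rfl

/-- a proper homogeneous ideal lies in the irrelevant ideal (degree zero part a field). -/
theorem le_irrelevant_of_isHomogeneous (h0 : ∀ a ∈ 𝒜 0, ∃ c : K, algebraMap K A c = a)
    (I : Ideal A) (hI : I.IsHomogeneous 𝒜) (hne : I ≠ ⊤) :
    I ≤ (HomogeneousIdeal.irrelevant 𝒜).toIdeal := by
  intro a ha
  rw [mem_irrelevant_toIdeal_iff]
  have h1 : (decompose 𝒜 a 0 : A) ∈ I := hI 0 ha
  obtain ⟨c, hc⟩ := h0 _ (decompose 𝒜 a 0).2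
  by_contra hne0
  have hc0 : c ≠ 0 := by
    rintro rfl
    apply hne0
    rw [← hc, map_zero]
  apply hne
  rw [Ideal.eq_top_iff_one]
  have h2 : (1 : A) = algebraMap K A c⁻¹ * algebraMap K A c := by
    rw [← map_mul, inv_mul_cancel₀ hc0, map_one]
  rw [h2, hc]
  exact I.mul_mem_left _ h1

theorem irrelevant_isMaximal [Nontrivial A] (h0 : ∀ a ∈ 𝒜 0, ∃ c : K, algebraMap K A c = a) :
    (HomogeneousIdeal.irrelevant 𝒜).toIdeal.IsMaximal := by
  rw [Ideal.isMaximal_iff]
  constructor
  · rw [mem_irrelevant_toIdeal_iff, decompose_of_mem_same 𝒜 SetLike.GradedOne.one_mem]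
    exact one_ne_zero
  · intro J x hmJ hx hxJ
    rw [mem_irrelevant_toIdeal_iff] at hx
    obtain ⟨c, hc⟩ := h0 _ (decompose 𝒜 x 0).2
    have hc0 : c ≠ 0 := by
      rintro rfl
      apply hx
      rw [← hc, map_zero]
    have h1 : x - (decompose 𝒜 x 0 : A) ∈ (HomogeneousIdeal.irrelevant 𝒜).toIdeal := by
      rw [mem_irrelevant_toIdeal_iff, decompose_sub, DFinsupp.sub_apply,
        AddSubgroupClass.coe_sub, decompose_of_mem_same 𝒜 (decompose 𝒜 x 0).2, sub_self]
    have h2 : (decompose 𝒜 x 0 : A) ∈ J := by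
      have := J.sub_mem hxJ (hmJ h1)
      rwa [sub_sub_cancel] at this
    have h3 : (1 : A) = algebraMap K A c⁻¹ * algebraMap K A c := by
      rw [← map_mul, inv_mul_cancel₀ hc0, map_one]
    rw [h3, hc]
    exact J.mul_mem_left _ h2

/-- minimal primes of a homogeneous ideal lie in the irrelevant ideal. -/
theorem le_irrelevant_of_mem_minimalPrimes (h0 : ∀ a ∈ 𝒜 0, ∃ c : K, algebraMap K A c = a)
    (I : Ideal A) (hI : I.IsHomogeneous 𝒜) {P : Ideal A} (hP : P ∈ I.minimalPrimes) :
    P ≤ (HomogeneousIdeal.irrelevant 𝒜).toIdeal := by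
  have hPp := hP.1.1
  have hcore : ((P.homogeneousCore 𝒜).toIdeal).IsPrime := Ideal.IsPrime.homogeneousCore hPp
  have hle : (P.homogeneousCore 𝒜).toIdeal ≤ P := Ideal.toIdeal_homogeneousCore_le _ P
  have hIcore : I ≤ (P.homogeneousCore 𝒜).toIdeal := by
    rw [← hI.toIdeal_homogeneousCore_eq_self]
    exact Ideal.homogeneousCore_mono _ hP.1.2
  have hPle : P ≤ (P.homogeneousCore 𝒜).toIdeal := hP.2 ⟨hcore, hIcore⟩ hle
  exact hPle.trans (le_irrelevant_of_isHomogeneous 𝒜 h0 _
    (HomogeneousIdeal.isHomogeneous _) hcore.ne_top)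

/-- a Noetherian `ℕ`-graded algebra with degree zero part the base field is finitely generated. -/
theorem finiteType_of_isNoetherianRing [IsNoetherianRing A]
    (h0 : ∀ a ∈ 𝒜 0, ∃ c : K, algebraMap K A c = a) : Algebra.FiniteType K A := by
  classical
  -- homogeneous generators of the irrelevant ideal
  have hcore : (HomogeneousIdeal.irrelevant 𝒜).toIdeal =
      Ideal.span {x : A | SetLike.IsHomogeneousElem 𝒜 x ∧
        x ∈ (HomogeneousIdeal.irrelevant 𝒜).toIdeal} := by
    apply le_antisymm
    · intro a ha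
      rw [← sum_support_decompose 𝒜 a]
      refine Ideal.sum_mem _ fun i _ => Ideal.subset_span ⟨⟨i, (decompose 𝒜 a i).2⟩, ?_⟩
      exact (HomogeneousIdeal.irrelevant 𝒜).isHomogeneous i ha
    · rw [Ideal.span_le]
      intro x hx
      exact hx.2
  have hfg : ((HomogeneousIdeal.irrelevant 𝒜).toIdeal).FG := IsNoetherian.noetherian _
  rw [hcore] at hfg
  obtain ⟨S, hSsub, hSspan⟩ := (Submodule.fg_span_iff_fg_span_finset_subset _).mp hfg
  have hSspan' : (HomogeneousIdeal.irrelevant 𝒜).toIdeal = Ideal.span (S : Set A) :=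
    hcore.trans hSspan
  refine ⟨⟨S, ?_⟩⟩
  set B : Subalgebra K A := Algebra.adjoin K (S : Set A) with hB
  -- every homogeneous piece lies in `B`
  have hpiece : ∀ n : ℕ, ∀ a ∈ 𝒜 n, a ∈ B := by
    intro n
    induction n using Nat.strong_induction_on with
    | _ n ih =>
      intro a ha
      rcases Nat.eq_zero_or_pos n with hn | hn
      · subst hn
        obtain ⟨c, rfl⟩ := h0 a ha
        exact B.algebraMap_mem c
      · have ham : a ∈ (HomogeneousIdeal.irrelevant 𝒜).toIdeal :=
          HomogeneousIdeal.mem_irrelevant_of_mem 𝒜 hn ha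
        rw [hSspan'] at ham
        obtain ⟨f, hf⟩ := (Submodule.mem_span_finset' ).mp ham
        have ha' : a = (decompose 𝒜 a n : A) := (decompose_of_mem_same 𝒜 ha).symm
        rw [ha', ← hf, decompose_sum, DFinsupp.finsetSum_apply, AddSubmonoidClass.coe_finsetSum]
        refine Subalgebra.sum_mem _ fun t _ => ?_
        obtain ⟨⟨d, hd⟩, htm⟩ := hSsub t.2
        rw [smul_eq_mul]
        by_cases hdn : d ≤ n
        · rw [coe_decompose_mul_of_right_mem_of_le 𝒜 hd hdn]
          rcases Nat.eq_zero_or_pos d with hd0 | hd0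
          · subst hd0
            have ht0 : (t : A) = 0 := by
              have := (mem_irrelevant_toIdeal_iff 𝒜 _).mp htm
              rwa [decompose_of_mem_same 𝒜 hd] at this
            rw [ht0, mul_zero]
            exact B.zero_mem
          · exact B.mul_mem (ih (n - d) (by omega) _ (decompose 𝒜 (f t) (n - d)).2)
              (Algebra.subset_adjoin t.2)
        · rw [coe_decompose_mul_of_right_mem_of_not_le 𝒜 hd hdn]
          exact B.zero_mem
  rw [eq_top_iff]
  intro a _
  rw [← sum_support_decompose 𝒜 a]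
  exact Subalgebra.sum_mem _ fun i _ => hpiece i _ (decompose 𝒜 a i).2


/-- In a Noetherian `ℕ`-graded algebra `A` with `A₀ = K` a field, the image of the irrelevant ideal
in `A/I` (`I` proper homogeneous) has height `dim A/I`. -/
theorem height_map_irrelevant_eq [IsNoetherianRing A]
    (h0 : ∀ a ∈ 𝒜 0, ∃ c : K, algebraMap K A c = a) (I : Ideal A) (hI : I.IsHomogeneous 𝒜)
    (hne : I ≠ ⊤) :
    ((((HomogeneousIdeal.irrelevant 𝒜).toIdeal.map (Ideal.Quotient.mk I)).height : ℕ∞) :
      WithBot ℕ∞) = ringKrullDim (A ⧸ I) := by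
  have hnt : Nontrivial A := by
    by_contra hcon
    rw [not_nontrivial_iff_subsingleton] at hcon
    exact hne (Subsingleton.elim _ _)
  have hft : Algebra.FiniteType K A := finiteType_of_isNoetherianRing 𝒜 h0
  have hftq : Algebra.FiniteType K (A ⧸ I) :=
    Algebra.FiniteType.of_surjective (Ideal.Quotient.mkₐ K I) (Ideal.Quotient.mkₐ_surjective K I)
  have hmax : (HomogeneousIdeal.irrelevant 𝒜).toIdeal.IsMaximal := irrelevant_isMaximal 𝒜 h0
  have hIm : I ≤ (HomogeneousIdeal.irrelevant 𝒜).toIdeal :=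
    le_irrelevant_of_isHomogeneous 𝒜 h0 I hI hne
  have hsurj : Function.Surjective (Ideal.Quotient.mk I) := Ideal.Quotient.mk_surjective
  have hmprime : ((HomogeneousIdeal.irrelevant 𝒜).toIdeal.map (Ideal.Quotient.mk I)).IsPrime :=
    Ideal.map_isPrime_of_surjective hsurj (by rwa [Ideal.mk_ker])
  have hmmax : ((HomogeneousIdeal.irrelevant 𝒜).toIdeal.map (Ideal.Quotient.mk I)).IsMaximal :=
    (Ideal.map_eq_top_or_isMaximal_of_surjective _ hsurj hmax).resolve_left hmprime.ne_top
  apply height_eq_ringKrullDim_of_forall_minimalPrimes_le K (A ⧸ I)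
  intro P hP
  have h1 := Ideal.comap_minimalPrimes_eq_of_surjective hsurj (⊥ : Ideal (A ⧸ I))
  rw [← RingHom.ker_eq_comap_bot, Ideal.mk_ker] at h1
  have hPc : P.comap (Ideal.Quotient.mk I) ∈ I.minimalPrimes := by
    rw [h1]
    exact ⟨P, hP, rfl⟩
  have h2 := le_irrelevant_of_mem_minimalPrimes 𝒜 h0 I hI hPc
  have h3 := Ideal.map_mono (f := Ideal.Quotient.mk I) h2
  rwa [Ideal.map_comap_of_surjective _ hsurj] at h3

end graded

end Groth.Agent.Lib.Helper16.GrVertex
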