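import Groth.Agent.Lib.Helper16.RegularDim

/-!
# `ht I + dim R/I = dim R` for ideals of a Cohen–Macaulay local ring (helper16)

(The prime case and the auxiliary lemma on supports follow helper18's `CMCat`/`TensorDim`; they are
reproved here with light imports.)
-/

set_option autoImplicit false
universe u
open IsLocalRing

namespace Groth.Agent.Lib.Helper16.CMHt

open Groth.Agent.Lib.Helper18.CM Groth.Agent.Lib.Helper16.PDR

variable (R : Type u) [CommRing R] [IsLocalRing R] [IsNoetherianRing R]

/-- in a Cohen–Macaulay local ring `ht p + dim R/p = dim R` for primes `p` -/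
theorem height_add_ringKrullDim_quotient_prime (hCM : LocCoh.IsCohenMacaulayModule R R)
    (p : Ideal R) [hp : p.IsPrime] :
    ((p.height : ℕ∞) : WithBot ℕ∞) + ringKrullDim (R ⧸ p) = ringKrullDim R := by
  have hsupp : (⟨p, hp⟩ : PrimeSpectrum R) ∈ Module.support R R := by
    rw [Module.support_eq_zeroLocus, Module.annihilator_eq_bot.mpr inferInstance]
    simp
  obtain ⟨n, -, -, h2, h3⟩ := cm_localization p R hCM hsupp
  rw [supportDim_localizedModule_self] at h2
  rw [Module.supportDim_self_eq_ringKrullDim] at h3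
  rw [h3, h2, add_comm]

omit [IsLocalRing R] in
/-- there is a prime containing `I` with `dim R/p = dim R/I` -/
theorem exists_prime_ringKrullDim_quotient_eq [IsLocalRing R] (I : Ideal R) (hI : I ≠ ⊤) :
    ∃ (p : Ideal R) (_ : p.IsPrime), I ≤ p ∧ ringKrullDim (R ⧸ p) = ringKrullDim (R ⧸ I) := by
  have hnt : Nontrivial (R ⧸ I) := Ideal.Quotient.nontrivial_iff.2 hI
  obtain ⟨d, hd⟩ := exists_nat_eq_supportDim (R := R) (R ⧸ I)
  have h1 : (d : WithBot ℕ∞) ≤ Order.krullDim (Module.support R (R ⧸ I)) := hd.ge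
  rw [Order.le_krullDim_iff] at h1
  obtain ⟨l, hl⟩ := h1
  have hsup : Module.support R (R ⧸ I) = PrimeSpectrum.zeroLocus (I : Set R) := by
    rw [Module.support_eq_zeroLocus, Ideal.annihilator_quotient]
  have hle : I ≤ l.head.1.asIdeal := by
    have h2 : l.head.1 ∈ PrimeSpectrum.zeroLocus (I : Set R) := hsup ▸ l.head.2
    rw [PrimeSpectrum.mem_zeroLocus] at h2
    exact h2
  refine ⟨l.head.1.asIdeal, l.head.1.isPrime, hle, le_antisymm ?_ ?_⟩
  · rw [← Module.supportDim_quotient_eq_ringKrullDim I]
    exact ringKrullDim_quotient_le_supportDim_of_mem_support (R ⧸ I) _ l.head.2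
  · rw [← Module.supportDim_quotient_eq_ringKrullDim I, hd, ringKrullDim_quotient,
      Order.le_krullDim_iff]
    have hmem : ∀ i, (l i).1 ∈ PrimeSpectrum.zeroLocus (R := R) (l.head.1.asIdeal : Set R) := by
      intro i
      rw [PrimeSpectrum.mem_zeroLocus, SetLike.coe_subset_coe]
      have : l.head ≤ l i := LTSeries.head_le l i
      exact this
    refine ⟨⟨l.length, fun i => ⟨(l i).1, hmem i⟩, fun i => ?_⟩, hl⟩
    exact l.step i

/-- in a Cohen–Macaulay local ring `ht I + dim R/I = dim R` for every proper ideal `I` -/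
theorem height_add_ringKrullDim_quotient (hCM : LocCoh.IsCohenMacaulayModule R R)
    (I : Ideal R) (hI : I ≠ ⊤) :
    ((I.height : ℕ∞) : WithBot ℕ∞) + ringKrullDim (R ⧸ I) = ringKrullDim R := by
  apply le_antisymm
  · obtain ⟨p, hp, hIp, hpd⟩ := exists_prime_ringKrullDim_quotient_eq R I hI
    rw [← hpd, ← height_add_ringKrullDim_quotient_prime R hCM p]
    have h1 : I.height ≤ p.height := Ideal.height_mono hIp
    exact add_le_add_left (by exact_mod_cast h1) _
  · have hfin : I.height ≠ ⊤ := Ideal.height_ne_top hI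
    obtain ⟨g, hg⟩ := ENat.ne_top_iff_exists.mp hfin
    obtain ⟨p, hp, hIp, hpg⟩ := Ideal.exists_isPrime_height_eq hg.symm
    rw [← height_add_ringKrullDim_quotient_prime R hCM p, hpg, ← hg]
    have h2 : ringKrullDim (R ⧸ p) ≤ ringKrullDim (R ⧸ I) :=
      ringKrullDim_le_of_surjective (Ideal.Quotient.factor hIp)
        (Ideal.Quotient.factor_surjective hIp)
    exact add_le_add_right h2 _

end Groth.Agent.Lib.Helper16.CMHt
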