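import Groth.Agent.Lib.Helper18.CMRing
import Groth.Agent.Lib.Helper16.CMHeightFormula

/-!
# Cohen–Macaulay local rings: grade equals height (helper16)

* `isCohenMacaulayRing`: a Cohen–Macaulay local ring is a Cohen–Macaulay ring.
* `exists_regular_sequence`: a proper ideal `I` contains a weakly regular sequence of length `ht I`.
* `length_le_height`: a weakly regular sequence inside a prime `q` has length at most `ht q`.
* `exists_nat_dim`: `ht I = n`, `dim R/I = d`, `dim R = n + d` with natural numbers.
* `exists_regular_sequence_same_dim`: for `R/I` equidimensional, `I` contains a weakly regular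
  sequence `rs` with `dim R/(rs) = dim R/I` and `Min(I) ⊆ Min(rs)`.
-/

set_option autoImplicit false
universe u

open IsLocalRing RingTheory.Sequence

namespace Groth.Agent.Lib.Helper16.CMLocalRing

open Groth.Agent.Lib.Helper18.CM Groth.Agent.Lib.Helper16.Depth

variable (R : Type u) [CommRing R] [hR : LocCoh.IsCohenMacaulayLocalRing R]

/-- a Cohen–Macaulay local ring is a Cohen–Macaulay ring -/
theorem isCohenMacaulayRing : LocCoh.IsCohenMacaulayRing R where
  isCohenMacaulayLocalRing_localization := fun p hp => by
    have hCM : LocCoh.IsCohenMacaulayModule R R := hR.supportDim_eq_depth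
    have hsupp : (⟨p, hp⟩ : PrimeSpectrum R) ∈ Module.support R R := by
      rw [Module.support_eq_zeroLocus, Module.annihilator_eq_bot.mpr inferInstance]
      simp
    have h := isCohenMacaulayModule_localizedModule p R hCM hsupp
    let e : LocalizedModule p.primeCompl R ≃ₗ[R] Localization.AtPrime p :=
      IsLocalizedModule.iso p.primeCompl (Algebra.linearMap R (Localization.AtPrime p))
    let e' : LocalizedModule p.primeCompl R ≃ₗ[Localization.AtPrime p] Localization.AtPrime p :=
      LinearEquiv.extendScalarsOfIsLocalization p.primeCompl (Localization.AtPrime p) e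
    have hnoe : IsNoetherianRing (Localization.AtPrime p) :=
      IsLocalization.isNoetherianRing p.primeCompl _ inferInstance
    exact { supportDim_eq_depth := (isCohenMacaulayModule_congr e').mp h }

variable {R}

/-- in a Cohen–Macaulay local ring, a proper ideal contains a weakly regular sequence of length
its height -/
theorem exists_regular_sequence (I : Ideal R) (hI : I ≠ ⊤) :
    ∃ rs : List R, (rs.length : ℕ∞) = I.height ∧ IsWeaklyRegular R rs ∧ ∀ r ∈ rs, r ∈ I := by
  have := isCohenMacaulayRing R
  have h1 := height_le_idealDepth_of_isCohenMacaulayRing I hI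
  obtain ⟨n, hn⟩ := ENat.ne_top_iff_exists.mp (Ideal.height_ne_top hI)
  rw [← hn, le_idealDepth_iff] at h1
  rcases h1 with h1 | ⟨rs, hlen, hreg, hmem⟩
  · exfalso
    rw [smul_eq_mul, Ideal.mul_top] at h1
    exact hI h1
  · exact ⟨rs, by rw [hlen, hn], hreg, hmem⟩

omit hR in
/-- a weakly regular sequence inside a prime bounds its height from below -/
theorem length_le_height [IsNoetherianRing R] (rs : List R) (hreg : IsWeaklyRegular R rs)
    (q : Ideal R) [q.IsPrime] (hmem : ∀ r ∈ rs, r ∈ q) : (rs.length : ℕ∞) ≤ q.height :=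
  (length_le_depth_localization q rs hreg hmem).trans (depth_localization_le_height q)

/-- numerical form of the dimension formula -/
theorem exists_nat_dim (I : Ideal R) (hI : I ≠ ⊤) :
    ∃ n d : ℕ, I.height = (n : ℕ∞) ∧ ringKrullDim (R ⧸ I) = ((d : ℕ) : WithBot ℕ∞) ∧
      ringKrullDim R = ((n + d : ℕ) : WithBot ℕ∞) := by
  have hnt : Nontrivial (R ⧸ I) := Ideal.Quotient.nontrivial_iff.2 hI
  obtain ⟨d, hd⟩ := exists_nat_eq_supportDim (R := R) (R ⧸ I)
  rw [Module.supportDim_quotient_eq_ringKrullDim] at hd
  obtain ⟨n, hn⟩ := ENat.ne_top_iff_exists.mp (Ideal.height_ne_top hI)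
  have h := CMHt.height_add_ringKrullDim_quotient R hR.supportDim_eq_depth I hI
  rw [← hn, hd] at h
  refine ⟨n, d, hn.symm, hd, ?_⟩
  rw [← h]
  push_cast
  rfl

/-- In a Cohen–Macaulay local ring, an ideal `I` with `R/I` equidimensional contains a weakly
regular sequence `rs` with `dim R/(rs) = dim R/I` such that the minimal primes of `I` are minimal
over `(rs)`. -/
theorem exists_regular_sequence_same_dim (I : Ideal R)
    (hI : ∀ p ∈ I.minimalPrimes, ringKrullDim (R ⧸ p) = ringKrullDim (R ⧸ I)) :
    ∃ rs : List R, IsWeaklyRegular R rs ∧ Ideal.ofList rs ≤ I ∧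
      ringKrullDim (R ⧸ Ideal.ofList rs) = ringKrullDim (R ⧸ I) ∧
      I.minimalPrimes ⊆ (Ideal.ofList rs).minimalPrimes := by
  by_cases hItop : I = ⊤
  · subst hItop
    refine ⟨[1], ?_, le_top, ?_, ?_⟩
    · rw [isWeaklyRegular_singleton_iff]
      exact IsSMulRegular.one R
    · rw [Ideal.ofList_singleton, Ideal.span_singleton_one]
    · rw [Ideal.minimalPrimes_top]
      exact Set.empty_subset _
  obtain ⟨rs, hlen, hreg, hmem⟩ := exists_regular_sequence I hItop
  have hJI : Ideal.ofList rs ≤ I := by
    rw [Ideal.ofList, Ideal.span_le]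
    exact fun r hr => hmem r hr
  have hJtop : Ideal.ofList rs ≠ ⊤ := fun h => hItop (top_le_iff.mp (h ▸ hJI))
  obtain ⟨n, d, hn, hd, hnd⟩ := exists_nat_dim I hItop
  have hlen' : rs.length = n := by
    rw [hn] at hlen
    exact_mod_cast hlen
  -- primes containing `(rs)` have height at least `n`
  have hht : ∀ (q : Ideal R) [q.IsPrime], Ideal.ofList rs ≤ q → (n : ℕ∞) ≤ q.height := by
    intro q _ hq
    rw [← hlen']
    exact length_le_height rs hreg q (fun r hr => hq (Ideal.subset_span hr))
  refine ⟨rs, hreg, hJI, ?_, ?_⟩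
  · apply le_antisymm
    · obtain ⟨q, hqp, hJq, hqd⟩ := CMHt.exists_prime_ringKrullDim_quotient_eq R _ hJtop
      obtain ⟨m, e, hm, he, hme⟩ := exists_nat_dim q hqp.ne_top
      have h1 := hht q hJq
      rw [hm] at h1
      have h1' : n ≤ m := by exact_mod_cast h1
      have h2 : n + d = m + e := by
        rw [hnd] at hme
        exact_mod_cast hme
      rw [← hqd, he, hd]
      have : e ≤ d := by omega
      exact_mod_cast this
    · exact ringKrullDim_le_of_surjective (Ideal.Quotient.factor hJI)
        (Ideal.Quotient.factor_surjective hJI)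
  · intro p hp
    have hpp : p.IsPrime := hp.1.1
    obtain ⟨q, hq, hqp⟩ := Ideal.exists_minimalPrimes_le (hJI.trans hp.1.2)
    have hqq : q.IsPrime := hq.1.1
    obtain ⟨m, e, hm, he, hme⟩ := exists_nat_dim p hpp.ne_top
    have hed : e = d := by
      have := hI p hp
      rw [he, hd] at this
      exact_mod_cast this
    have hmn : m = n := by
      rw [hnd] at hme
      have : n + d = m + e := by exact_mod_cast hme
      omega
    have h1 := hht q hq.1.2
    have h2 : p.height ≤ q.height := by
      rw [hm, hmn]
      exact h1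
    have : q = p := Ideal.eq_of_le_of_height_le q hqp h2
    rw [← this]
    exact hq

end Groth.Agent.Lib.Helper16.CMLocalRing
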