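import Groth.Agent.Lib.Helper16.DepthExt
import Mathlib.RingTheory.Regular.LinearMap
import Mathlib.RingTheory.Ideal.AssociatedPrime.Finiteness

/-!
# Ext vanishing: contravariant long exact sequence consequences and dependence on the support
(helper16)

* `ext'_X₂`, `ext'_X₃_succ`, `ext'_X₃_zero`, `ext'_X₁` : vanishing of `Ext(-, Y)` along a short
  exact sequence (contravariant analogues of `ext_X₂` etc.).
* `subsingleton_ext_of_iso_left`, `subsingleton_ext_of_isZero_left`.
* `subsingleton_ext_of_forall_prime` : over a Noetherian ring, `Ext^n(A/p, G) = 0` for all `p ∈ Z`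
  implies `Ext^n(F, G) = 0` for all finite `F` with `Supp F ⊆ Z`.
* `subsingleton_ext_of_support_subset` : if `Ext^i(F₀, G) = 0` for `i < n` (F₀ finite, `G` arbitrary)
  then `Ext^i(F, G) = 0` for `i < n` and all finite `F` with `Supp F ⊆ Supp F₀`.
-/

set_option autoImplicit false
universe u v w
open CategoryTheory CategoryTheory.Abelian

namespace Groth.Agent.Lib.Helper16.Depth

section contravariant

variable {C : Type u} [Category.{v} C] [Abelian C] [HasExt.{w} C] {S : ShortComplex C}
  (hS : S.ShortExact) (Y : C)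

include hS

theorem ext'_X₂ (i : ℕ) (h1 : Subsingleton (Ext S.X₁ Y i)) (h3 : Subsingleton (Ext S.X₃ Y i)) :
    Subsingleton (Ext S.X₂ Y i) := by
  refine ⟨fun a b => ?_⟩
  suffices hz : ∀ e : Ext S.X₂ Y i, e = 0 by rw [hz a, hz b]
  intro e
  obtain ⟨x₃, hx₃⟩ := Ext.contravariant_sequence_exact₂ hS Y e (Subsingleton.elim _ _)
  rw [← hx₃, Subsingleton.elim x₃ 0, Ext.comp_zero]

theorem ext'_X₃_succ (i : ℕ) (h1 : Subsingleton (Ext S.X₁ Y i))
    (h2 : Subsingleton (Ext S.X₂ Y (i + 1))) : Subsingleton (Ext S.X₃ Y (i + 1)) := by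
  refine ⟨fun a b => ?_⟩
  suffices hz : ∀ e : Ext S.X₃ Y (i + 1), e = 0 by rw [hz a, hz b]
  intro e
  obtain ⟨x₁, hx₁⟩ := Ext.contravariant_sequence_exact₃ hS Y e (Subsingleton.elim _ _)
    (Nat.add_comm 1 i)
  rw [← hx₁, Subsingleton.elim x₁ 0, Ext.comp_zero]

theorem ext'_X₃_zero (h2 : Subsingleton (Ext S.X₂ Y 0)) : Subsingleton (Ext S.X₃ Y 0) := by
  have : Epi S.g := hS.epi_g
  exact (Ext.precomp_mk₀_injective_of_epi Y S.g).subsingleton

theorem ext'_X₁ (i : ℕ) (h2 : Subsingleton (Ext S.X₂ Y i))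
    (h3 : Subsingleton (Ext S.X₃ Y (i + 1))) : Subsingleton (Ext S.X₁ Y i) := by
  refine ⟨fun a b => ?_⟩
  suffices hz : ∀ e : Ext S.X₁ Y i, e = 0 by rw [hz a, hz b]
  intro e
  obtain ⟨x₂, hx₂⟩ := Ext.contravariant_sequence_exact₁ hS Y e (Nat.add_comm 1 i)
    (Subsingleton.elim _ _)
  rw [← hx₂, Subsingleton.elim x₂ 0, Ext.comp_zero]

end contravariant

section iso

variable {C : Type u} [Category.{v} C] [Abelian C] [HasExt.{w} C]

theorem subsingleton_ext_of_iso_left {X X' : C} (f : X ≅ X') (Y : C) (i : ℕ)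
    (h : Subsingleton (Ext X' Y i)) : Subsingleton (Ext X Y i) := by
  refine ⟨fun a b => ?_⟩
  suffices hz : ∀ e : Ext X Y i, e = 0 by rw [hz a, hz b]
  intro e
  have : e = (Ext.mk₀ f.hom).comp ((Ext.mk₀ f.inv).comp e (zero_add i)) (zero_add i) := by
    rw [Ext.mk₀_comp_mk₀_assoc, Iso.hom_inv_id, Ext.mk₀_id_comp]
  rw [this, Subsingleton.elim ((Ext.mk₀ f.inv).comp e (zero_add i)) 0, Ext.comp_zero]

theorem subsingleton_ext_of_isZero_left {X : C} (hX : Limits.IsZero X) (Y : C) (i : ℕ) :
    Subsingleton (Ext X Y i) := by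
  refine ⟨fun a b => ?_⟩
  suffices hz : ∀ e : Ext X Y i, e = 0 by rw [hz a, hz b]
  intro e
  have : e = (Ext.mk₀ (𝟙 X)).comp e (zero_add i) := by rw [Ext.mk₀_id_comp]
  rw [this, hX.eq_of_src (𝟙 X) 0, Ext.mk₀_zero, Ext.zero_comp]

end iso

section support

variable {A : Type u} [CommRing A] [IsNoetherianRing A] (G : ModuleCat.{u} A)

/-- Ext-vanishing in a fixed degree propagates from the quotients `A/p` (for `p` in a set `Z` of
primes containing the support) to all finite modules supported in `Z`. -/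
theorem subsingleton_ext_of_forall_prime (n : ℕ) (Z : Set (PrimeSpectrum A))
    (hZ : ∀ p ∈ Z, Subsingleton (Ext.{u} (ModuleCat.of A (A ⧸ p.asIdeal)) G n))
    (F : Type u) [AddCommGroup F] [Module A F] [hF : Module.Finite A F]
    (hsupp : Module.support A F ⊆ Z) : Subsingleton (Ext.{u} (ModuleCat.of A F) G n) := by
  revert hsupp
  induction hF using IsNoetherianRing.induction_on_isQuotientEquivQuotientPrime A with
  | subsingleton N =>
    intro _
    exact subsingleton_ext_of_isZero_left (ModuleCat.isZero_of_subsingleton _) G n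
  | quotient N p f =>
    intro hsupp
    have hp : p ∈ Z := by
      apply hsupp
      rw [f.support_eq, Module.support_eq_zeroLocus, Ideal.annihilator_quotient,
        PrimeSpectrum.mem_zeroLocus]
    exact subsingleton_ext_of_iso_left f.toModuleIso G n (hZ p hp)
  | exact N₁ N₂ N₃ f g hf hg hfg h₁ h₃ =>
    intro hsupp
    have hS := shortExact_of_linearMaps f g hf hg hfg
    exact ext'_X₂ hS G n
      (h₁ ((Module.support_subset_of_injective f hf).trans hsupp))
      (h₃ ((Module.support_subset_of_surjective g hg).trans hsupp))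

/-- Key step: vanishing of `Ext^n(A/p, G)` for all primes `p` in the support of a finite module
`F₀` with `Ext^n(F₀, G) = 0`, provided the lower `Ext`s vanish for all finite modules supported
in `Supp F₀`. -/
theorem subsingleton_ext_quotient_prime_of_support (n : ℕ)
    (F₀ : Type u) [AddCommGroup F₀] [Module A F₀] [Module.Finite A F₀]
    (hlow : ∀ (F : Type u) [AddCommGroup F] [Module A F] [Module.Finite A F],
      Module.support A F ⊆ Module.support A F₀ → ∀ i < n,
        Subsingleton (Ext.{u} (ModuleCat.of A F) G i))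
    (htop : Subsingleton (Ext.{u} (ModuleCat.of A F₀) G n)) :
    ∀ p ∈ Module.support A F₀, Subsingleton (Ext.{u} (ModuleCat.of A (A ⧸ p.asIdeal)) G n) := by
  suffices H : ∀ 𝔭 : Ideal A, ∀ (h : 𝔭.IsPrime), (⟨𝔭, h⟩ : PrimeSpectrum A) ∈ Module.support A F₀ →
      Subsingleton (Ext.{u} (ModuleCat.of A (A ⧸ 𝔭)) G n) by
    intro p hp
    exact H p.asIdeal p.2 hp
  intro 𝔭
  induction 𝔭 using IsNoetherian.induction with
  | hgt 𝔭 IH =>
  intro h𝔭 hsupp
  -- a nonzero map `F₀ → A/𝔭`
  have hne : ¬ Subsingleton (F₀ →ₗ[A] (A ⧸ 𝔭)) := by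
    intro hsub
    obtain ⟨r, hr, hreg⟩ := IsSMulRegular.subsingleton_linearMap_iff.mp hsub
    have hr𝔭 : r ∈ 𝔭 := (Module.mem_support_iff_of_finite.mp hsupp) hr
    have h1 : r • (1 : A ⧸ 𝔭) = r • 0 := by
      rw [smul_zero, Algebra.smul_def, mul_one]
      exact Ideal.Quotient.eq_zero_iff_mem.mpr hr𝔭
    have h2 : (1 : A ⧸ 𝔭) = 0 := hreg h1
    have : Nontrivial (A ⧸ 𝔭) := Ideal.Quotient.nontrivial_iff.mpr h𝔭.ne_top
    exact one_ne_zero h2
  rw [not_subsingleton_iff_nontrivial] at hne
  obtain ⟨φ, hφ⟩ := exists_ne (0 : F₀ →ₗ[A] (A ⧸ 𝔭))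
  let K : Submodule A (A ⧸ 𝔭) := LinearMap.range φ
  have hK : K ≠ ⊥ := by
    intro hK
    apply hφ
    exact LinearMap.range_eq_bot.mp hK
  obtain ⟨y, hyK, hy0⟩ := Submodule.exists_mem_ne_zero_of_ne_bot hK
  obtain ⟨a, rfl⟩ := Ideal.Quotient.mk_surjective y
  have ha𝔭 : a ∉ 𝔭 := fun h => hy0 (Ideal.Quotient.eq_zero_iff_mem.mpr h)
  -- the two short exact sequences
  have hS1 := shortExact_of_linearMaps K.subtype K.mkQ (Submodule.injective_subtype _)
    (Submodule.mkQ_surjective _) (LinearMap.exact_subtype_mkQ _)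
  have hS2 := shortExact_of_linearMaps (LinearMap.ker φ).subtype φ.rangeRestrict
    (Submodule.injective_subtype _) φ.surjective_rangeRestrict (by
      intro x
      constructor
      · intro hx
        have : x ∈ LinearMap.ker φ := by
          have := congrArg Subtype.val hx
          exact this
        exact ⟨⟨x, this⟩, rfl⟩
      · rintro ⟨z, rfl⟩
        apply Subtype.ext
        exact z.2)
  -- the support of the cokernel consists of primes strictly containing `𝔭`
  have hsuppC : Module.support A ((A ⧸ 𝔭) ⧸ K) ⊆ {q | 𝔭 < q.asIdeal} := by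
    intro q hq
    rw [Module.mem_support_iff_of_finite] at hq
    have h1 : 𝔭 ≤ Module.annihilator A ((A ⧸ 𝔭) ⧸ K) := by
      intro b hb
      rw [Module.mem_annihilator]
      intro c
      obtain ⟨x, rfl⟩ := Submodule.Quotient.mk_surjective K c
      rw [← Submodule.Quotient.mk_smul]
      have : b • x = 0 := by
        rw [Algebra.smul_def]
        have : (algebraMap A (A ⧸ 𝔭)) b = 0 := Ideal.Quotient.eq_zero_iff_mem.mpr hb
        rw [this, zero_mul]
      rw [this, Submodule.Quotient.mk_zero]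
    have h2 : a ∈ Module.annihilator A ((A ⧸ 𝔭) ⧸ K) := by
      rw [Module.mem_annihilator]
      intro c
      obtain ⟨x, rfl⟩ := Submodule.Quotient.mk_surjective K c
      obtain ⟨x', rfl⟩ := Ideal.Quotient.mk_surjective x
      rw [← Submodule.Quotient.mk_smul, Submodule.Quotient.mk_eq_zero]
      have : a • (Ideal.Quotient.mk 𝔭 x') = x' • (Ideal.Quotient.mk 𝔭 a) := by
        rw [Algebra.smul_def, Algebra.smul_def]
        change Ideal.Quotient.mk 𝔭 a * Ideal.Quotient.mk 𝔭 x' =
          Ideal.Quotient.mk 𝔭 x' * Ideal.Quotient.mk 𝔭 a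
        ring
      rw [this]
      exact K.smul_mem x' hyK
    refine lt_of_le_of_ne (h1.trans hq) ?_
    intro heq
    exact ha𝔭 (heq ▸ hq h2)
  -- vanishing for the cokernel
  have hC : Subsingleton (Ext.{u} (ModuleCat.of A ((A ⧸ 𝔭) ⧸ K)) G n) := by
    apply subsingleton_ext_of_forall_prime G n {q | 𝔭 < q.asIdeal} _ _ hsuppC
    intro q hq
    exact IH q.asIdeal hq q.2 (Module.mem_support_mono (le_of_lt hq : (⟨𝔭, h𝔭⟩ : PrimeSpectrum A) ≤ q) hsupp)
  -- vanishing for the image
  have hKer : Module.support A (LinearMap.ker φ) ⊆ Module.support A F₀ :=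
    Module.support_subset_of_injective _ (Submodule.injective_subtype _)
  have hKe : Subsingleton (Ext.{u} (ModuleCat.of A K) G n) := by
    rcases n with _ | m
    · exact ext'_X₃_zero hS2 G htop
    · exact ext'_X₃_succ hS2 G m (hlow _ hKer m (Nat.lt_succ_self m)) htop
  exact ext'_X₂ hS1 G n hKe hC

/-- Vanishing of `Ext^i(F₀, G)` for `i < n` propagates to all finite modules supported in
`Supp F₀` (no finiteness assumption on `G`). -/
theorem subsingleton_ext_of_support_subset (n : ℕ) :
    ∀ (F₀ : Type u) [AddCommGroup F₀] [Module A F₀] [Module.Finite A F₀],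
      (∀ i < n, Subsingleton (Ext.{u} (ModuleCat.of A F₀) G i)) →
      ∀ (F : Type u) [AddCommGroup F] [Module A F] [Module.Finite A F],
        Module.support A F ⊆ Module.support A F₀ → ∀ i < n,
          Subsingleton (Ext.{u} (ModuleCat.of A F) G i) := by
  induction n with
  | zero => intro F₀ _ _ _ _ F _ _ _ _ i hi; exact absurd hi (Nat.not_lt_zero i)
  | succ n ih =>
    intro F₀ _ _ _ hF₀ F _ _ _ hF i hi
    have hlow : ∀ (F : Type u) [AddCommGroup F] [Module A F] [Module.Finite A F],
        Module.support A F ⊆ Module.support A F₀ → ∀ i < n,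
          Subsingleton (Ext.{u} (ModuleCat.of A F) G i) :=
      ih F₀ (fun i hi => hF₀ i (Nat.lt_succ_of_lt hi))
    rcases Nat.lt_succ_iff_lt_or_eq.mp hi with hi | rfl
    · exact hlow F hF i hi
    · exact subsingleton_ext_of_forall_prime G i (Module.support A F₀)
        (subsingleton_ext_quotient_prime_of_support G i F₀ hlow (hF₀ i (Nat.lt_succ_self i))) F hF

end support

end Groth.Agent.Lib.Helper16.Depth
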