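import Mathlib
import Groth.Prelude.Def_Wider
import Groth.Agent.Lib.Helper25.MatlisDual

/-!
# Multiplicativity of the socle length along flat local homomorphisms (helper16)

`torsionByCongr`, `torsionByPi`, `torsionBySub`: generic equivalences for `LocCoh.torsionBy`.
`length_socle_mul`: `length soc(B) = length soc(A) * length soc_B(B/m_A B)` for flat local `A → B`.
`length_socle_fibre`: the socle length of a quotient ring computed upstairs.
-/

set_option autoImplicit false
universe u
open IsLocalRing TensorProduct

namespace Groth.Agent.Lib.Helper16.SocMul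

section generic

variable {R : Type*} [CommRing R] (I : Ideal R)

/-- the `I`-torsion is functorial for isomorphisms -/
noncomputable def torsionByCongr {M M' : Type*} [AddCommGroup M] [Module R M] [AddCommGroup M']
    [Module R M'] (e : M ≃ₗ[R] M') : LocCoh.torsionBy I M ≃ₗ[R] LocCoh.torsionBy I M' :=
  LinearEquiv.ofSubmodules e _ _ (by
    ext x
    simp only [Submodule.mem_map, Submodule.mem_torsionBySet_iff]
    constructor
    · rintro ⟨y, hy, rfl⟩ a
      have h1 : (a : R) • y = 0 := hy a
      change (a : R) • (e y) = 0
      rw [← map_smul, h1, map_zero]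
    · intro hx
      refine ⟨e.symm x, fun a => ?_, e.apply_symm_apply x⟩
      have h1 : (a : R) • x = 0 := hx a
      change (a : R) • (e.symm x) = 0
      rw [← map_smul, h1, map_zero])

/-- the `I`-torsion of a power -/
noncomputable def torsionByPi (ι : Type*) (M : Type*) [AddCommGroup M] [Module R M] :
    LocCoh.torsionBy I (ι → M) ≃ₗ[R] (ι → LocCoh.torsionBy I M) where
  toFun z i := ⟨z.1 i, by
    rw [Submodule.mem_torsionBySet_iff]
    intro a
    have := (Submodule.mem_torsionBySet_iff _ _).mp z.2 a
    exact congrFun this i⟩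
  invFun w := ⟨fun i => (w i).1, by
    rw [Submodule.mem_torsionBySet_iff]
    intro a
    funext i
    exact (Submodule.mem_torsionBySet_iff _ _).mp (w i).2 a⟩
  left_inv z := rfl
  right_inv w := rfl
  map_add' z w := rfl
  map_smul' a z := rfl

/-- the `I`-torsion of a submodule containing the `I`-torsion -/
noncomputable def torsionBySub {M : Type*} [AddCommGroup M] [Module R M] (T : Submodule R M)
    (h : LocCoh.torsionBy I M ≤ T) : LocCoh.torsionBy I T ≃ₗ[R] LocCoh.torsionBy I M :=
  (LinearEquiv.ofEq _ _ (by
    ext x
    simp only [Submodule.mem_comap, Submodule.mem_torsionBySet_iff, Submodule.subtype_apply]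
    constructor
    · intro hx a
      have := hx a
      exact congrArg Subtype.val this
    · intro hx a
      exact Subtype.ext (hx a))).trans (Submodule.comapSubtypeEquivOfLe h)

end generic

section flat

variable {A B : Type u} [CommRing A] [CommRing B] [IsLocalRing A] [IsLocalRing B]
  [IsNoetherianRing A] [Algebra A B] [IsLocalHom (algebraMap A B)] [Module.Flat A B]

/-- multiplication by a finite family of generators -/
noncomputable def genMap (s : Finset A) : A →ₗ[A] (s → A) :=
  LinearMap.pi (fun x : s => LinearMap.lsmul A A x.1)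

omit [IsLocalRing A] [IsNoetherianRing A] in
theorem ker_genMap (s : Finset A) (I : Ideal A) (hs : Ideal.span (s : Set A) = I) :
    LinearMap.ker (genMap s) = LocCoh.torsionBy I A := by
  have h1 : LocCoh.torsionBy I A = Submodule.torsionBySet A A (s : Set A) := by
    change Submodule.torsionBySet A A (I : Set A) = _
    rw [← hs]
    exact (Submodule.torsionBySet_eq_torsionBySet_span (R := A) (M := A) (s : Set A)).symm
  rw [h1]
  ext a
  rw [LinearMap.mem_ker, Submodule.mem_torsionBySet_iff]
  constructor
  · intro h x
    have := congrFun h ⟨x.1, x.2⟩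
    simpa [genMap] using this
  · intro h
    funext x
    have := h ⟨x.1, x.2⟩
    simpa [genMap] using this

omit [IsNoetherianRing A] [Module.Flat A B] in
/-- elements of `B ⊗ A` killed by the maximal ideal of `B` die under the generator map -/
theorem torsionBy_le_ker (s : Finset A) (hs : ∀ x ∈ s, x ∈ maximalIdeal A) :
    LocCoh.torsionBy (maximalIdeal B) (B ⊗[A] A) ≤
      LinearMap.ker (AlgebraTensorModule.lTensor B B (genMap s)) := by
  classical
  intro z hz
  rw [Submodule.mem_torsionBySet_iff] at hz
  rw [LinearMap.mem_ker]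
  apply (TensorProduct.piRight A B B (fun _ : s => A)).injective
  rw [map_zero]
  funext x
  have hx : algebraMap A B x.1 ∈ maximalIdeal B :=
    (IsLocalRing.map_maximalIdeal_le (algebraMap A B)) (Ideal.mem_map_of_mem _ (hs x.1 x.2))
  have hz' : (algebraMap A B x.1) • z = 0 := hz ⟨_, hx⟩
  have key : ∀ w : B ⊗[A] A, (TensorProduct.piRight A B B (fun _ : s => A))
      (AlgebraTensorModule.lTensor B B (genMap s) w) x = (algebraMap A B x.1) • w := by
    intro w
    induction w with
    | zero => simp
    | tmul b a =>
      simp only [AlgebraTensorModule.lTensor_tmul, TensorProduct.piRight_apply,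
        TensorProduct.piRightHom_tmul, genMap, LinearMap.pi_apply, LinearMap.lsmul_apply]
      rw [algebraMap_smul, TensorProduct.smul_tmul', TensorProduct.smul_tmul]
    | add w₁ w₂ h₁ h₂ =>
      rw [map_add, map_add, Pi.add_apply, h₁, h₂, smul_add]
  rw [key, hz']
  rfl

/-- **multiplicativity of the socle length** along a flat local homomorphism -/
theorem length_socle_mul :
    Module.length B (LocCoh.torsionBy (maximalIdeal B) B) =
      Module.length A (LocCoh.torsionBy (maximalIdeal A) A) *
        Module.length B (LocCoh.torsionBy (maximalIdeal B)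
          (B ⧸ (maximalIdeal A).map (algebraMap A B))) := by
  classical
  obtain ⟨s, hs⟩ := (maximalIdeal A).fg_of_isNoetherianRing
  have hsm : ∀ x ∈ s, x ∈ maximalIdeal A := fun x hx => hs ▸ Ideal.subset_span hx
  let _ : Field (A ⧸ maximalIdeal A) := Ideal.Quotient.field _
  have hfin : Module.Finite (A ⧸ maximalIdeal A) (LocCoh.torsionBy (maximalIdeal A) A) :=
    Module.Finite.of_restrictScalars_finite A _ _
  let b := Module.finBasisOfFinrankEq (A ⧸ maximalIdeal A)
    (LocCoh.torsionBy (maximalIdeal A) A) rfl
  let esoc : LocCoh.torsionBy (maximalIdeal A) A ≃ₗ[A]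
      (Fin (Module.finrank (A ⧸ maximalIdeal A) (LocCoh.torsionBy (maximalIdeal A) A)) →
        A ⧸ maximalIdeal A) := b.equivFun.restrictScalars A
  let eker := (LinearEquiv.ofEq _ _ (ker_genMap s (maximalIdeal A) hs)).trans esoc
  let e1 := torsionByCongr (maximalIdeal B) (TensorProduct.AlgebraTensorModule.rid A B B).symm
  let e2 := (torsionBySub (maximalIdeal B) _ (torsionBy_le_ker (B := B) s hsm)).symm
  let e3 := torsionByCongr (M := LinearMap.ker (AlgebraTensorModule.lTensor B B (genMap s)))
    (M' := B ⊗[A] LinearMap.ker (genMap s)) (maximalIdeal B)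
    (LinearMap.tensorKerEquiv B B (genMap s)).symm
  let e4 := TensorProduct.AlgebraTensorModule.congr (LinearEquiv.refl B B) eker
  let e5 := TensorProduct.piRight A B B (fun _ : Fin (Module.finrank (A ⧸ maximalIdeal A)
    (LocCoh.torsionBy (maximalIdeal A) A)) => A ⧸ maximalIdeal A)
  let e6 : (Fin (Module.finrank (A ⧸ maximalIdeal A) (LocCoh.torsionBy (maximalIdeal A) A)) →
      B ⊗[A] (A ⧸ maximalIdeal A)) ≃ₗ[B]
      (Fin (Module.finrank (A ⧸ maximalIdeal A) (LocCoh.torsionBy (maximalIdeal A) A)) →
        B ⧸ (maximalIdeal A).map (algebraMap A B)) :=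
    LinearEquiv.piCongrRight (fun _ =>
      (Algebra.TensorProduct.quotIdealMapEquivTensorQuot B (maximalIdeal A)).symm.toLinearEquiv)
  let e7 := torsionByCongr (maximalIdeal B) (e4.trans (e5.trans e6))
  let e8 := torsionByPi (maximalIdeal B)
    (Fin (Module.finrank (A ⧸ maximalIdeal A) (LocCoh.torsionBy (maximalIdeal A) A)))
    (B ⧸ (maximalIdeal A).map (algebraMap A B))
  rw [(e1.trans (e2.trans (e3.trans (e7.trans e8)))).length_eq, Module.length_pi,
    Groth.Agent.Lib.Helper25.length_eq_finrank_quotient (LocCoh.torsionBy (maximalIdeal A) A)]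
  simp

end flat

section fibre

variable {B F : Type u} [CommRing B] [IsLocalRing B] [CommRing F] [IsLocalRing F]

/-- the socle length of a quotient ring may be computed over the ring upstairs -/
theorem length_socle_fibre (π : B →+* F) (hπ : Function.Surjective π) :
    Module.length B (LocCoh.torsionBy (maximalIdeal B) (B ⧸ RingHom.ker π)) =
      Module.length F (LocCoh.torsionBy (maximalIdeal F) F) := by
  let _ : Algebra B F := π.toAlgebra
  have hsm : ∀ (b : B) (z : F), b • z = π b * z := fun b z => rfl
  let e0 : (B ⧸ RingHom.ker π) ≃ₗ[B] F :=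
    { (RingHom.quotientKerEquivOfSurjective hπ).toAddEquiv with
      map_smul' := by
        intro b x
        obtain ⟨y, rfl⟩ := Ideal.Quotient.mk_surjective x
        change RingHom.quotientKerEquivOfSurjective hπ (Ideal.Quotient.mk _ (b * y)) =
          π b * RingHom.quotientKerEquivOfSurjective hπ (Ideal.Quotient.mk _ y)
        rw [RingHom.quotientKerEquivOfSurjective_apply_mk,
          RingHom.quotientKerEquivOfSurjective_apply_mk, map_mul] }
  have hloc : IsLocalHom π := IsLocalHom.of_surjective π hπ
  have hmem : ∀ b : B, b ∈ maximalIdeal B ↔ π b ∈ maximalIdeal F := by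
    intro b
    rw [mem_maximalIdeal, mem_maximalIdeal, mem_nonunits_iff, mem_nonunits_iff, not_iff_not]
    exact ⟨fun h => h.map π, fun h => (isUnit_map_iff π b).mp h⟩
  let e1 : LocCoh.torsionBy (maximalIdeal B) F ≃ₗ[B] LocCoh.torsionBy (maximalIdeal F) F :=
    { toFun := fun z => ⟨z.1, by
        rw [Submodule.mem_torsionBySet_iff]
        rintro ⟨c, hc⟩
        obtain ⟨b, rfl⟩ := hπ c
        have := (Submodule.mem_torsionBySet_iff _ _).mp z.2 ⟨b, (hmem b).mpr hc⟩
        exact this⟩
      invFun := fun w => ⟨w.1, by
        rw [Submodule.mem_torsionBySet_iff]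
        rintro ⟨b, hb⟩
        have := (Submodule.mem_torsionBySet_iff _ _).mp w.2 ⟨π b, (hmem b).mp hb⟩
        exact this⟩
      left_inv := fun z => rfl
      right_inv := fun w => rfl
      map_add' := fun z w => rfl
      map_smul' := fun b z => rfl }
  rw [((torsionByCongr (maximalIdeal B) e0).trans e1).length_eq]
  exact Module.length_eq_of_surjective hπ

end fibre

end Groth.Agent.Lib.Helper16.SocMul
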