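import Groth.Agent.Lib.Helper16.GorArt
import Groth.Agent.Lib.Helper16.SocMul
import Groth.Agent.Lib.Helper18.FlatLocal
import Groth.Agent.Lib.Helper18.FlatDepth
import Groth.Agent.Lib.Helper11.ReesGor
import Groth.Agent.Lib.Helper11.GorCM2

/-!
# Gorenstein transfer along flat local homomorphisms (helper16)

`isGorenstein_iff_of_flat`: for a flat local homomorphism `A → B` of Noetherian local rings, `B` is
Gorenstein iff `A` and the closed fibre `B ⧸ m_A B` are. Proof by induction on
`depth A + depth F`, cutting by regular elements (`step_A_data`, `step_F_data`); the depth-zero case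
(`base_case`) via multiplicativity of socle lengths (`SocMul`) and `GorArt`.
Also: `isGorenstein_iff_of_dim_zero`, `depth_eq_zero_iff_length_socle_ne_zero`.
-/

set_option autoImplicit false
universe u
open CategoryTheory Abelian IsLocalRing

namespace Groth.Agent.Lib.Helper16.GorFlat

open Groth.Agent.Lib.Helper18.CM Groth.Agent.Lib.Helper16.GorArt Groth.Agent.Lib.Helper16.SocMul

section single

variable (R : Type u) [CommRing R] [IsLocalRing R] [IsNoetherianRing R]

theorem depth_eq_zero_iff_length_socle_ne_zero :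
    LocCoh.depth R R = 0 ↔ Module.length R (LocCoh.torsionBy (maximalIdeal R) R) ≠ 0 := by
  rw [depth_eq_zero_iff_exists_socle, Ne, Module.length_eq_zero_iff, not_subsingleton_iff_nontrivial]
  constructor
  · rintro ⟨z, hz0, hz⟩
    refine ⟨⟨⟨z, ?_⟩, 0, fun h => hz0 (congrArg Subtype.val h)⟩⟩
    rw [Submodule.mem_torsionBySet_iff]
    rintro ⟨a, ha⟩
    exact hz a ha
  · intro h
    obtain ⟨⟨z, hz⟩, hz0⟩ := exists_ne (0 : LocCoh.torsionBy (maximalIdeal R) R)
    refine ⟨z, fun h => hz0 (Subtype.ext h), fun a ha => ?_⟩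
    exact (Submodule.mem_torsionBySet_iff _ _).mp hz ⟨a, ha⟩

theorem ringKrullDim_eq_zero_of_gorenstein_of_depth (hG : LocCoh.IsGorensteinLocalRing R)
    (h0 : LocCoh.depth R R = 0) : ringKrullDim R = 0 := by
  obtain ⟨n, hn⟩ := hG.exists_hasInjectiveDimensionLT
  exact Groth.Agent.Lib.Helper11.GorCM.ringKrullDim_eq_zero_of_injective
    (Groth.Agent.Lib.Helper11.GorCM.injective_of_depth_zero h0 n hn)

theorem isArtinianRing_of_ringKrullDim_eq_zero (h : ringKrullDim R = 0) : IsArtinianRing R := by
  rw [isArtinianRing_iff_krullDimLE_zero, ringKrullDimZero_iff_ringKrullDim_eq_zero]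
  exact h

/-- for a zero-dimensional Noetherian local ring, Gorenstein means simple socle -/
theorem isGorenstein_iff_of_dim_zero (h : ringKrullDim R = 0) :
    LocCoh.IsGorensteinLocalRing R ↔
      Module.length R (LocCoh.torsionBy (maximalIdeal R) R) = 1 := by
  have := isArtinianRing_of_ringKrullDim_eq_zero R h
  exact ⟨fun hG => length_socle_eq_one_of_isGorenstein R hG h,
    fun h1 => isGorenstein_of_length_socle_eq_one R h1⟩

end single

section base

variable {A B F : Type u} [CommRing A] [IsLocalRing A] [IsNoetherianRing A]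
  [CommRing B] [IsLocalRing B] [IsNoetherianRing B]
  [CommRing F] [IsLocalRing F] [IsNoetherianRing F]
  [Algebra A B] [IsLocalHom (algebraMap A B)] [Module.Flat A B]
  (π : B →+* F) (hπ : Function.Surjective π)
  (hker : RingHom.ker π = (maximalIdeal A).map (algebraMap A B))

include hπ hker

omit [IsNoetherianRing B] [IsNoetherianRing F] in
theorem length_socle_eq_mul :
    Module.length B (LocCoh.torsionBy (maximalIdeal B) B) =
      Module.length A (LocCoh.torsionBy (maximalIdeal A) A) *
        Module.length F (LocCoh.torsionBy (maximalIdeal F) F) := by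
  rw [length_socle_mul (A := A) (B := B), ← hker, length_socle_fibre π hπ]

omit [IsLocalRing F] [IsNoetherianRing F] in
theorem ringKrullDim_eq_add :
    ringKrullDim B = ringKrullDim A + ringKrullDim F := by
  have hnt : Nontrivial (B ⧸ (maximalIdeal A).map (algebraMap A B)) := by
    rw [Ideal.Quotient.nontrivial_iff]
    intro htop
    have := IsLocalRing.map_maximalIdeal_le (algebraMap A B)
    rw [htop] at this
    exact (maximalIdeal.isMaximal B).ne_top (top_le_iff.mp this)
  have hloc : IsLocalRing (B ⧸ (maximalIdeal A).map (algebraMap A B)) :=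
    IsLocalRing.of_surjective' (Ideal.Quotient.mk _) Ideal.Quotient.mk_surjective
  rw [Groth.Agent.Lib.Helper18.FlatLocal.ringKrullDim_eq_add_fibre_of_flat A B]
  congr 1
  exact ringKrullDim_eq_of_ringEquiv
    ((Ideal.quotEquivOfEq hker).symm.trans (RingHom.quotientKerEquivOfSurjective hπ))

theorem base_case (hA0 : LocCoh.depth A A = 0) (hF0 : LocCoh.depth F F = 0) :
    LocCoh.IsGorensteinLocalRing B ↔
      (LocCoh.IsGorensteinLocalRing A ∧ LocCoh.IsGorensteinLocalRing F) := by
  have hmul := length_socle_eq_mul π hπ hker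
  have hdim := ringKrullDim_eq_add π hπ hker
  have htA := (depth_eq_zero_iff_length_socle_ne_zero A).mp hA0
  have htF := (depth_eq_zero_iff_length_socle_ne_zero F).mp hF0
  have hdA0 : (0 : WithBot ℕ∞) ≤ ringKrullDim A := ringKrullDim_nonneg_of_nontrivial
  have hdF0 : (0 : WithBot ℕ∞) ≤ ringKrullDim F := ringKrullDim_nonneg_of_nontrivial
  constructor
  · intro hB
    have hB0 : LocCoh.depth B B = 0 := by
      rw [depth_eq_zero_iff_length_socle_ne_zero, hmul]
      exact mul_ne_zero htA htF
    have hdB := ringKrullDim_eq_zero_of_gorenstein_of_depth B hB hB0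
    rw [hdB] at hdim
    have hdA : ringKrullDim A = 0 := by
      apply le_antisymm _ hdA0
      calc ringKrullDim A = ringKrullDim A + 0 := (add_zero _).symm
        _ ≤ ringKrullDim A + ringKrullDim F := add_le_add le_rfl hdF0
        _ = 0 := hdim.symm
    have hdF : ringKrullDim F = 0 := by
      apply le_antisymm _ hdF0
      calc ringKrullDim F = 0 + ringKrullDim F := (zero_add _).symm
        _ ≤ ringKrullDim A + ringKrullDim F := add_le_add hdA0 le_rfl
        _ = 0 := hdim.symm
    have h1 := (isGorenstein_iff_of_dim_zero B hdB).mp hB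
    rw [hmul] at h1
    have h2 : Module.length A (LocCoh.torsionBy (maximalIdeal A) A) = 1 ∧
        Module.length F (LocCoh.torsionBy (maximalIdeal F) F) = 1 := by
      revert h1
      generalize Module.length A (LocCoh.torsionBy (maximalIdeal A) A) = a
      generalize Module.length F (LocCoh.torsionBy (maximalIdeal F) F) = b
      intro h1
      cases a with
      | top =>
        exfalso
        rw [ENat.top_mul (by rintro rfl; simp at h1)] at h1
        simp at h1
      | coe a =>
        cases b with
        | top =>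
          exfalso
          rw [ENat.mul_top (by rintro h; simp [h] at h1)] at h1
          simp at h1
        | coe b =>
          have h3 : a * b = 1 := by exact_mod_cast h1
          have := mul_eq_one.mp h3
          exact ⟨by exact_mod_cast this.1, by exact_mod_cast this.2⟩
    exact ⟨(isGorenstein_iff_of_dim_zero A hdA).mpr h2.1,
      (isGorenstein_iff_of_dim_zero F hdF).mpr h2.2⟩
  · rintro ⟨hA, hF⟩
    have hdA := ringKrullDim_eq_zero_of_gorenstein_of_depth A hA hA0
    have hdF := ringKrullDim_eq_zero_of_gorenstein_of_depth F hF hF0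
    have hdB : ringKrullDim B = 0 := by rw [hdim, hdA, hdF, add_zero]
    rw [isGorenstein_iff_of_dim_zero B hdB, hmul,
      (isGorenstein_iff_of_dim_zero A hdA).mp hA, (isGorenstein_iff_of_dim_zero F hdF).mp hF,
      mul_one]

end base

section quot

variable {R : Type u} [CommRing R] [IsLocalRing R] [IsNoetherianRing R]

theorem gor_iff_quot (J : Ideal R) (f : R) (hJ : J = Ideal.span {f})
    (hfm : f ∈ maximalIdeal R) (hreg : IsSMulRegular R f) :
    LocCoh.IsGorensteinLocalRing R ↔ LocCoh.IsGorensteinLocalRing (R ⧸ J) := by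
  subst hJ
  exact Groth.Agent.Lib.Helper11.Rees.gorenstein_iff_quotient hfm hreg

theorem depth_quot (J : Ideal R) (f : R) (hJ : J = Ideal.span {f})
    (hfm : f ∈ maximalIdeal R) (hreg : IsSMulRegular R f) [IsLocalRing (R ⧸ J)] :
    LocCoh.depth (R ⧸ J) (R ⧸ J) + 1 = LocCoh.depth R R := by
  subst hJ
  exact Groth.Agent.Lib.Helper11.GorCM.depth_quotient_span_singleton hfm hreg

omit [IsNoetherianRing R] in
theorem isLocalRing_quot_of_le (J : Ideal R) (hJ : J ≤ maximalIdeal R) : IsLocalRing (R ⧸ J) := by
  have hnt : Nontrivial (R ⧸ J) := by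
    rw [Ideal.Quotient.nontrivial_iff]
    intro htop
    rw [htop] at hJ
    exact (maximalIdeal.isMaximal R).ne_top (top_le_iff.mp hJ)
  exact IsLocalRing.of_surjective' (Ideal.Quotient.mk _) Ideal.Quotient.mk_surjective

end quot

section stepA

variable {A B F : Type u} [CommRing A] [IsLocalRing A] [IsNoetherianRing A]
  [CommRing B] [IsLocalRing B] [IsNoetherianRing B]
  [CommRing F] [IsLocalRing F] [IsNoetherianRing F]
  [Algebra A B] [IsLocalHom (algebraMap A B)] [Module.Flat A B]
  (π : B →+* F) (hπ : Function.Surjective π)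
  (hker : RingHom.ker π = (maximalIdeal A).map (algebraMap A B))

omit [IsLocalRing A] [IsNoetherianRing A] [IsLocalRing B] [IsNoetherianRing B]
  [IsLocalHom (algebraMap A B)] in
theorem flat_quotient (I : Ideal A) :
    Module.Flat (A ⧸ I) (B ⧸ I.map (algebraMap A B)) :=
  Module.Flat.of_linearEquiv (Algebra.TensorProduct.quotIdealMapEquivQuotTensor B I).toLinearEquiv

omit [IsLocalRing F] [IsNoetherianRing F] in
include hπ hker in
theorem step_A_data (x : A) (hx : x ∈ maximalIdeal A) (hreg : IsSMulRegular A x) :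
    ∃ (_ : IsLocalRing (A ⧸ Ideal.span {x}))
      (_ : IsLocalRing (B ⧸ (Ideal.span {x}).map (algebraMap A B)))
      (_ : IsLocalHom (algebraMap (A ⧸ Ideal.span {x})
        (B ⧸ (Ideal.span {x}).map (algebraMap A B))))
      (_ : Module.Flat (A ⧸ Ideal.span {x}) (B ⧸ (Ideal.span {x}).map (algebraMap A B)))
      (π₁ : (B ⧸ (Ideal.span {x}).map (algebraMap A B)) →+* F),
      Function.Surjective π₁ ∧
      RingHom.ker π₁ = (maximalIdeal (A ⧸ Ideal.span {x})).map
        (algebraMap (A ⧸ Ideal.span {x}) (B ⧸ (Ideal.span {x}).map (algebraMap A B))) ∧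
      (LocCoh.IsGorensteinLocalRing A ↔ LocCoh.IsGorensteinLocalRing (A ⧸ Ideal.span {x})) ∧
      (LocCoh.IsGorensteinLocalRing B ↔
        LocCoh.IsGorensteinLocalRing (B ⧸ (Ideal.span {x}).map (algebraMap A B))) ∧
      LocCoh.depth (A ⧸ Ideal.span {x}) (A ⧸ Ideal.span {x}) + 1 = LocCoh.depth A A := by
  have hJA : Ideal.span {x} ≤ maximalIdeal A := (Ideal.span_singleton_le_iff_mem _).mpr hx
  have hJB : (Ideal.span {x}).map (algebraMap A B) = Ideal.span {algebraMap A B x} := by
    rw [Ideal.map_span, Set.image_singleton]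
  have hxB : algebraMap A B x ∈ maximalIdeal B :=
    (IsLocalRing.map_maximalIdeal_le (algebraMap A B)) (Ideal.mem_map_of_mem _ hx)
  have hJBle : (Ideal.span {x}).map (algebraMap A B) ≤ maximalIdeal B :=
    (Ideal.map_mono hJA).trans (IsLocalRing.map_maximalIdeal_le (algebraMap A B))
  have hlA : IsLocalRing (A ⧸ Ideal.span {x}) := isLocalRing_quot_of_le _ hJA
  have hlB : IsLocalRing (B ⧸ (Ideal.span {x}).map (algebraMap A B)) :=
    isLocalRing_quot_of_le _ hJBle
  have hmA : maximalIdeal (A ⧸ Ideal.span {x}) =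
      (maximalIdeal A).map (Ideal.Quotient.mk (Ideal.span {x})) :=
    (IsLocalRing.map_maximalIdeal_of_surjective _ Ideal.Quotient.mk_surjective).symm
  have hmB : maximalIdeal (B ⧸ (Ideal.span {x}).map (algebraMap A B)) =
      (maximalIdeal B).map (Ideal.Quotient.mk ((Ideal.span {x}).map (algebraMap A B))) :=
    (IsLocalRing.map_maximalIdeal_of_surjective _ Ideal.Quotient.mk_surjective).symm
  have hsq : (algebraMap (A ⧸ Ideal.span {x}) (B ⧸ (Ideal.span {x}).map (algebraMap A B))).comp
      (Ideal.Quotient.mk (Ideal.span {x})) =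
      (Ideal.Quotient.mk ((Ideal.span {x}).map (algebraMap A B))).comp (algebraMap A B) :=
    RingHom.ext fun a => rfl
  have hmapm : (maximalIdeal (A ⧸ Ideal.span {x})).map
      (algebraMap (A ⧸ Ideal.span {x}) (B ⧸ (Ideal.span {x}).map (algebraMap A B))) =
      ((maximalIdeal A).map (algebraMap A B)).map
        (Ideal.Quotient.mk ((Ideal.span {x}).map (algebraMap A B))) := by
    rw [hmA, Ideal.map_map, hsq, ← Ideal.map_map]
  have hloc : IsLocalHom (algebraMap (A ⧸ Ideal.span {x})
      (B ⧸ (Ideal.span {x}).map (algebraMap A B))) := by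
    refine ((IsLocalRing.local_hom_TFAE _).out 2 0).mp ?_
    rw [hmapm, hmB]
    exact Ideal.map_mono (IsLocalRing.map_maximalIdeal_le (algebraMap A B))
  have hle : (Ideal.span {x}).map (algebraMap A B) ≤ RingHom.ker π := by
    rw [hker]
    exact Ideal.map_mono hJA
  refine ⟨hlA, hlB, hloc, flat_quotient _, Ideal.Quotient.lift _ π (fun b hb => hle hb),
    Ideal.Quotient.lift_surjective_of_surjective _ _ hπ, ?_, ?_, ?_, ?_⟩
  · rw [Ideal.ker_quotient_lift, hker, hmapm]
  · exact gor_iff_quot _ x rfl hx hreg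
  · exact gor_iff_quot _ (algebraMap A B x) hJB hxB (IsSMulRegular.of_flat hreg)
  · exact depth_quot _ x rfl hx hreg

include hπ hker in
theorem step_F_data (y : B) (hy : π y ∈ maximalIdeal F) (hreg : IsSMulRegular F (π y)) :
    ∃ (_ : IsLocalRing (B ⧸ Ideal.span {y}))
      (_ : IsLocalRing (F ⧸ Ideal.span {π y}))
      (_ : IsLocalHom (algebraMap A (B ⧸ Ideal.span {y})))
      (_ : Module.Flat A (B ⧸ Ideal.span {y}))
      (π₁ : (B ⧸ Ideal.span {y}) →+* (F ⧸ Ideal.span {π y})),
      Function.Surjective π₁ ∧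
      RingHom.ker π₁ = (maximalIdeal A).map (algebraMap A (B ⧸ Ideal.span {y})) ∧
      (LocCoh.IsGorensteinLocalRing B ↔ LocCoh.IsGorensteinLocalRing (B ⧸ Ideal.span {y})) ∧
      (LocCoh.IsGorensteinLocalRing F ↔ LocCoh.IsGorensteinLocalRing (F ⧸ Ideal.span {π y})) ∧
      LocCoh.depth (F ⧸ Ideal.span {π y}) (F ⧸ Ideal.span {π y}) + 1 = LocCoh.depth F F := by
  have hlocπ : IsLocalHom π := IsLocalHom.of_surjective π hπ
  have hyB : y ∈ maximalIdeal B := by
    rw [mem_maximalIdeal, mem_nonunits_iff]
    intro hu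
    exact hy (hu.map π)
  have hJB : Ideal.span {y} ≤ maximalIdeal B := (Ideal.span_singleton_le_iff_mem _).mpr hyB
  have hJF : Ideal.span {π y} ≤ maximalIdeal F := (Ideal.span_singleton_le_iff_mem _).mpr hy
  have hlB : IsLocalRing (B ⧸ Ideal.span {y}) := isLocalRing_quot_of_le _ hJB
  have hlF : IsLocalRing (F ⧸ Ideal.span {π y}) := isLocalRing_quot_of_le _ hJF
  have hlocmk : IsLocalHom (Ideal.Quotient.mk (Ideal.span {y})) :=
    IsLocalHom.of_surjective _ Ideal.Quotient.mk_surjective
  have hloc : IsLocalHom (algebraMap A (B ⧸ Ideal.span {y})) := by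
    change IsLocalHom ((Ideal.Quotient.mk (Ideal.span {y})).comp (algebraMap A B))
    infer_instance
  -- regularity on the fibre module
  let _ : Algebra B F := π.toAlgebra
  let e0 : (B ⧸ ((maximalIdeal A).map (algebraMap A B) • ⊤ : Submodule B B)) ≃ₗ[B] F :=
    (Submodule.quotEquivOfEq _ _ (by rw [smul_eq_mul, Ideal.mul_top, hker])).trans
    { (RingHom.quotientKerEquivOfSurjective hπ).toAddEquiv with
      map_smul' := by
        intro b x
        obtain ⟨z, rfl⟩ := Ideal.Quotient.mk_surjective x
        change RingHom.quotientKerEquivOfSurjective hπ (Ideal.Quotient.mk _ (b * z)) =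
          π b * RingHom.quotientKerEquivOfSurjective hπ (Ideal.Quotient.mk _ z)
        rw [RingHom.quotientKerEquivOfSurjective_apply_mk,
          RingHom.quotientKerEquivOfSurjective_apply_mk, map_mul] }
  have hregF' : IsSMulRegular F y := hreg
  have hregfib : IsSMulRegular
      (B ⧸ ((maximalIdeal A).map (algebraMap A B) • ⊤ : Submodule B B)) y :=
    (e0.isSMulRegular_congr y).mpr hregF'
  have hflat : Module.Flat A (B ⧸ Ideal.span {y}) := by
    have h1 := flat_quotSMulTop_of_isSMulRegular_fibre (A := A) B hregfib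
    refine Module.Flat.of_linearEquiv (M := QuotSMulTop y B) ?_
    exact ((Submodule.quotEquivOfEq _ _ (by
      rw [← Submodule.ideal_span_singleton_smul, smul_eq_mul, Ideal.mul_top])).restrictScalars A)
  have hregB : IsSMulRegular B y := by
    have h1 := isSMulRegular_tensor_of_isSMulRegular_fibre (A := A) A B hregfib
    exact ((TensorProduct.AlgebraTensorModule.rid A B B).isSMulRegular_congr y).mp h1
  have hH : Ideal.span {y} ≤ (Ideal.span {π y}).comap π := by
    rw [Ideal.span_singleton_le_iff_mem, Ideal.mem_comap]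
    exact Ideal.mem_span_singleton_self _
  refine ⟨hlB, hlF, hloc, hflat, Ideal.quotientMap (Ideal.span {π y}) π hH,
    Ideal.quotientMap_surjective hπ, ?_, ?_, ?_, ?_⟩
  · have h1 : (maximalIdeal A).map (algebraMap A (B ⧸ Ideal.span {y})) =
        (RingHom.ker π).map (Ideal.Quotient.mk (Ideal.span {y})) := by
      rw [hker, Ideal.map_map]
      rfl
    rw [h1, Ideal.quotientMap, Ideal.ker_quotient_lift, ← RingHom.comap_ker, Ideal.mk_ker]
    have h2 : Ideal.span {π y} = (Ideal.span {y}).map π := by
      rw [Ideal.map_span, Set.image_singleton]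
    rw [h2, Ideal.comap_map_of_surjective π hπ, ← RingHom.ker_eq_comap_bot, Ideal.map_sup,
      Ideal.map_quotient_self, bot_sup_eq]
  · exact gor_iff_quot _ y rfl hyB hregB
  · exact gor_iff_quot _ (π y) rfl hy hreg
  · exact depth_quot _ (π y) rfl hy hreg

end stepA

theorem gorenstein_flat_aux (n : ℕ) :
    ∀ (A B F : Type u) [CommRing A] [IsLocalRing A] [IsNoetherianRing A]
      [CommRing B] [IsLocalRing B] [IsNoetherianRing B]
      [CommRing F] [IsLocalRing F] [IsNoetherianRing F]
      [Algebra A B] [IsLocalHom (algebraMap A B)] [Module.Flat A B]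
      (π : B →+* F) (_ : Function.Surjective π)
      (_ : RingHom.ker π = (maximalIdeal A).map (algebraMap A B)),
      LocCoh.depth A A + LocCoh.depth F F = n →
      (LocCoh.IsGorensteinLocalRing B ↔
        (LocCoh.IsGorensteinLocalRing A ∧ LocCoh.IsGorensteinLocalRing F)) := by
  induction n with
  | zero =>
    intro A B F _ _ _ _ _ _ _ _ _ _ _ _ π hπ hker hd
    have hA0 : LocCoh.depth A A = 0 := by
      have h : LocCoh.depth A A ≤ 0 := by
        have := le_of_le_of_eq (le_self_add (a := LocCoh.depth A A) (b := LocCoh.depth F F)) hd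
        simpa using this
      exact le_antisymm h zero_le
    have hF0 : LocCoh.depth F F = 0 := by
      have h : LocCoh.depth F F ≤ 0 := by
        have := le_of_le_of_eq (le_add_self (a := LocCoh.depth F F) (b := LocCoh.depth A A)) hd
        simpa using this
      exact le_antisymm h zero_le
    exact base_case π hπ hker hA0 hF0
  | succ n ih =>
    intro A B F _ _ _ _ _ _ _ _ _ _ _ _ π hπ hker hd
    have h1ne : (1 : ℕ∞) ≠ ⊤ := by simp
    by_cases hA0 : LocCoh.depth A A = 0
    · have hF1 : 1 ≤ LocCoh.depth F F := by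
        rw [hA0, zero_add] at hd
        rw [hd]
        exact_mod_cast Nat.le_add_left 1 n
      obtain ⟨ybar, hym, hyreg⟩ := (one_le_depth_iff (M := F)).1 hF1
      obtain ⟨y, rfl⟩ := hπ ybar
      obtain ⟨_, _, _, _, π₁, hπ₁, hker₁, hGB, hGF, hdep⟩ :=
        step_F_data π hπ hker y hym hyreg
      have hd' : LocCoh.depth A A + LocCoh.depth (F ⧸ Ideal.span {π y})
          (F ⧸ Ideal.span {π y}) = n := by
        apply ENat.add_left_injective_of_ne_top h1ne
        change _ + 1 = (n : ℕ∞) + 1
        rw [add_assoc, hdep, hd]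
        push_cast
        rfl
      rw [hGB, hGF]
      exact ih A (B ⧸ Ideal.span {y}) (F ⧸ Ideal.span {π y}) π₁ hπ₁ hker₁ hd'
    · have hA1 : 1 ≤ LocCoh.depth A A := Order.one_le_iff_ne_zero.mpr hA0
      obtain ⟨x, hxm, hxreg⟩ := (one_le_depth_iff (M := A)).1 hA1
      obtain ⟨_, _, _, _, π₁, hπ₁, hker₁, hGA, hGB, hdep⟩ :=
        step_A_data π hπ hker x hxm hxreg
      have hd' : LocCoh.depth (A ⧸ Ideal.span {x}) (A ⧸ Ideal.span {x}) +
          LocCoh.depth F F = n := by
        apply ENat.add_left_injective_of_ne_top h1ne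
        change _ + 1 = (n : ℕ∞) + 1
        rw [add_right_comm, hdep, hd]
        push_cast
        rfl
      rw [hGA, hGB]
      exact ih (A ⧸ Ideal.span {x}) (B ⧸ (Ideal.span {x}).map (algebraMap A B)) F π₁ hπ₁ hker₁ hd'

/-- **Gorenstein transfer along flat local homomorphisms.** -/
theorem isGorenstein_iff_of_flat (A B : Type u) [CommRing A] [IsLocalRing A] [IsNoetherianRing A]
    [CommRing B] [IsLocalRing B] [IsNoetherianRing B] [Algebra A B] [IsLocalHom (algebraMap A B)]
    [Module.Flat A B] :
    LocCoh.IsGorensteinLocalRing B ↔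
      (LocCoh.IsGorensteinLocalRing A ∧
        LocCoh.IsGorensteinLocalRing (B ⧸ (maximalIdeal A).map (algebraMap A B))) := by
  have hloc : IsLocalRing (B ⧸ (maximalIdeal A).map (algebraMap A B)) :=
    isLocalRing_quot_of_le _ (IsLocalRing.map_maximalIdeal_le (algebraMap A B))
  obtain ⟨a, ha⟩ := ENat.ne_top_iff_exists.mp (depth_ne_top (R := A) A)
  obtain ⟨b, hb⟩ := ENat.ne_top_iff_exists.mp
    (depth_ne_top (R := B ⧸ (maximalIdeal A).map (algebraMap A B))
      (B ⧸ (maximalIdeal A).map (algebraMap A B)))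
  exact gorenstein_flat_aux (a + b) A B (B ⧸ (maximalIdeal A).map (algebraMap A B))
    (Ideal.Quotient.mk _) Ideal.Quotient.mk_surjective Ideal.mk_ker
    (by rw [← ha, ← hb]; push_cast; rfl)

end Groth.Agent.Lib.Helper16.GorFlat
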