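import Groth.Agent.Lib.Helper16.LocCohFlatBaseChange
import Mathlib.Algebra.Homology.DerivedCategory.Ext.Linear
import Mathlib.Algebra.Homology.DerivedCategory.Ext.ExactSequences
import Mathlib.Algebra.Homology.DerivedCategory.Ext.EnoughProjectives
import Mathlib.Algebra.Module.FinitePresentation
import Mathlib.LinearAlgebra.TensorProduct.Basis

/-!
# Flat base change for `Ext` of finite modules over a Noetherian ring (helper16)

`B ⊗_A Ext^r_A(M, N) ≃ₗ[B] Ext^r_B(B ⊗ M, B ⊗ N)` for `A` Noetherian, `B` flat, `M` finite.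
Degree `0` is `Module.FinitePresentation.isBaseChange_map`; higher degrees by dimension shifting
along a presentation `0 → K → A^n → M → 0`.
-/

set_option autoImplicit false
universe u
open CategoryTheory TensorProduct Abelian

namespace Groth.Agent.Lib.Helper16.ExtBC

open Groth.Agent.Lib.Helper16.Depth Groth.Agent.Lib.Helper16.DTL

variable {A : Type u} [CommRing A] (B : Type u) [CommRing B] [Algebra A B]

section deg0

variable (X N : Type u) [AddCommGroup X] [Module A X] [AddCommGroup N] [Module A N]

/-- `Ext^0 ≃ Hom` as linear maps of modules. -/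
noncomputable def e₀ : Ext (ModuleCat.of A X) (ModuleCat.of A N) 0 ≃ₗ[A] (X →ₗ[A] N) :=
  (Ext.linearEquiv₀ (R := A)).trans (ModuleCat.homLinearEquiv (S := A))

theorem e₀_symm_apply (f : X →ₗ[A] N) : (e₀ X N).symm f = Ext.mk₀ (ModuleCat.ofHom f) := rfl

theorem e₀_mk₀ (f : X →ₗ[A] N) : e₀ X N (Ext.mk₀ (ModuleCat.ofHom f)) = f := by
  rw [← e₀_symm_apply, LinearEquiv.apply_symm_apply]

variable [Module.Flat A B] [Module.FinitePresentation A X]

/-- base change in degree zero. -/
noncomputable def β₀ : B ⊗[A] Ext (ModuleCat.of A X) (ModuleCat.of A N) 0 ≃ₗ[B]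
    Ext (ModuleCat.of B (B ⊗[A] X)) (ModuleCat.of B (B ⊗[A] N)) 0 :=
  ((e₀ X N).baseChange A B).trans
    ((Module.FinitePresentation.isBaseChange_map A X N B).equiv.trans
      (e₀ (A := B) (B ⊗[A] X) (B ⊗[A] N)).symm)

theorem β₀_tmul (b : B) (f : X →ₗ[A] N) :
    β₀ B X N (b ⊗ₜ Ext.mk₀ (ModuleCat.ofHom f)) =
      Ext.mk₀ (ModuleCat.ofHom (b • f.baseChange B)) := by
  unfold β₀
  rw [LinearEquiv.trans_apply, LinearEquiv.trans_apply, LinearEquiv.baseChange_tmul, e₀_mk₀,
    IsBaseChange.equiv_tmul, e₀_symm_apply]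
  rfl

end deg0

section nat

variable [Module.Flat A B] (X X' N : Type u) [AddCommGroup X] [Module A X] [AddCommGroup X']
  [Module A X'] [AddCommGroup N] [Module A N] [Module.FinitePresentation A X]
  [Module.FinitePresentation A X']

theorem β₀_naturality (g : X' →ₗ[A] X)
    (z : B ⊗[A] Ext (ModuleCat.of A X) (ModuleCat.of A N) 0) :
    β₀ B X' N ((Ext.precompOfLinear (Ext.mk₀ (ModuleCat.ofHom g)) A (ModuleCat.of A N)
      (zero_add 0)).baseChange B z) =
    Ext.precompOfLinear (Ext.mk₀ (ModuleCat.ofHom (g.baseChange B))) B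
      (ModuleCat.of B (B ⊗[A] N)) (zero_add 0) (β₀ B X N z) := by
  induction z using TensorProduct.induction_on with
  | zero => simp
  | add x y hx hy => rw [map_add, map_add, hx, hy, map_add, map_add]
  | tmul b e =>
    obtain ⟨f, rfl⟩ : ∃ f : X →ₗ[A] N, Ext.mk₀ (ModuleCat.ofHom f) = e :=
      ⟨e₀ X N e, by rw [← e₀_symm_apply, LinearEquiv.symm_apply_apply]⟩
    rw [LinearMap.baseChange_tmul, β₀_tmul]
    change β₀ B X' N (b ⊗ₜ (Ext.mk₀ (ModuleCat.ofHom g)).comp (Ext.mk₀ (ModuleCat.ofHom f))
      (zero_add 0)) = (Ext.mk₀ (ModuleCat.ofHom (g.baseChange B))).comp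
        (Ext.mk₀ (ModuleCat.ofHom (b • f.baseChange B))) (zero_add 0)
    rw [Ext.mk₀_comp_mk₀, Ext.mk₀_comp_mk₀, ← ModuleCat.ofHom_comp, ← ModuleCat.ofHom_comp,
      β₀_tmul, LinearMap.baseChange_comp, LinearMap.smul_comp]

end nat

section les

variable {R : Type u} [CommRing R] {S : ShortComplex (ModuleCat.{u} R)} (hS : S.ShortExact)
  (Y : ModuleCat.{u} R)

/-- restriction `Ext^n(X₂,Y) → Ext^n(X₁,Y)`. -/
noncomputable abbrev resMap (S : ShortComplex (ModuleCat.{u} R)) (Y : ModuleCat.{u} R) (n : ℕ) :
    Ext S.X₂ Y n →ₗ[R] Ext S.X₁ Y n :=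
  Ext.precompOfLinear (Ext.mk₀ S.f) R Y (zero_add n)

/-- connecting map `Ext^n(X₁,Y) → Ext^{n+1}(X₃,Y)`. -/
noncomputable abbrev connMap (n : ℕ) : Ext S.X₁ Y n →ₗ[R] Ext S.X₃ Y (n + 1) :=
  Ext.precompOfLinear hS.extClass R Y (add_comm 1 n)

theorem exact_res_conn (n : ℕ) : Function.Exact (resMap S Y n) (connMap hS Y n) := by
  intro y
  constructor
  · intro hy
    obtain ⟨x, hx⟩ := Ext.contravariant_sequence_exact₁ hS Y y (add_comm 1 n) hy
    exact ⟨x, hx⟩
  · rintro ⟨x, rfl⟩
    change hS.extClass.comp ((Ext.mk₀ S.f).comp x (zero_add n)) (add_comm 1 n) = 0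
    simp only [ShortComplex.ShortExact.extClass_comp_assoc]

theorem connMap_surjective [Projective S.X₂] (n : ℕ) : Function.Surjective (connMap hS Y n) := by
  intro x₃
  have h0 : (Ext.mk₀ S.g).comp x₃ (zero_add (n + 1)) = 0 := Ext.eq_zero_of_projective _
  obtain ⟨x₁, hx₁⟩ := Ext.contravariant_sequence_exact₃ hS Y x₃ h0 (add_comm 1 n)
  exact ⟨x₁, hx₁⟩

theorem connMap_injective [Projective S.X₂] (n : ℕ) :
    Function.Injective (connMap hS Y (n + 1)) := by
  rw [← LinearMap.ker_eq_bot, eq_bot_iff]
  intro y hy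
  obtain ⟨x, rfl⟩ := (exact_res_conn hS Y (n + 1) y).mp hy
  rw [Ext.eq_zero_of_projective x, map_zero]
  exact Submodule.zero_mem _

end les

section main

variable [IsNoetherianRing A] [Module.Flat A B] (N : Type u) [AddCommGroup N] [Module A N]

theorem projective_of_free (R : Type u) [CommRing R] (F : Type u) [AddCommGroup F] [Module R F]
    [Module.Free R F] : Projective (ModuleCat.of R F) :=
  (IsProjective.iff_projective F).mp inferInstance

/-- Flat base change for `Ext` of finite modules over a Noetherian ring. -/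
theorem nonempty_ext_baseChange_equiv : ∀ (r : ℕ) (M : Type u) [AddCommGroup M] [Module A M]
    [Module.Finite A M],
    Nonempty ((B ⊗[A] Ext (ModuleCat.of A M) (ModuleCat.of A N) r) ≃ₗ[B]
      Ext (ModuleCat.of B (B ⊗[A] M)) (ModuleCat.of B (B ⊗[A] N)) r) := by
  intro r
  induction r with
  | zero =>
    intro M _ _ _
    have : Module.FinitePresentation A M := Module.finitePresentation_of_finite A M
    exact ⟨β₀ B M N⟩
  | succ r ih =>
    intro M _ _ _
    obtain ⟨n, g, hg⟩ := Module.Finite.exists_fin' A M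
    have hS := shortExact_of_linearMaps (LinearMap.ker g).subtype g
      (Submodule.injective_subtype _) hg (LinearMap.exact_subtype_ker_map g)
    have hinj' : Function.Injective ((LinearMap.ker g).subtype.baseChange B) := by
      rw [LinearMap.baseChange_eq_ltensor]
      exact Module.Flat.lTensor_preserves_injective_linearMap _ (Submodule.injective_subtype _)
    have hsurj' : Function.Surjective (g.baseChange B) := by
      rw [LinearMap.baseChange_eq_ltensor]
      exact LinearMap.lTensor_surjective B hg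
    have hex' : Function.Exact ((LinearMap.ker g).subtype.baseChange B) (g.baseChange B) := by
      rw [LinearMap.baseChange_eq_ltensor, LinearMap.baseChange_eq_ltensor]
      exact lTensor_exact B (LinearMap.exact_subtype_ker_map g) hg
    have hS' := shortExact_of_linearMaps ((LinearMap.ker g).subtype.baseChange B)
      (g.baseChange B) hinj' hsurj' hex'
    have hP : Projective (ModuleCat.shortComplexOfCompEqZero (LinearMap.ker g).subtype g
        (LinearMap.exact_subtype_ker_map g).linearMap_comp_eq_zero).X₂ :=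
      projective_of_free A (Fin n → A)
    have hP' : Projective (ModuleCat.shortComplexOfCompEqZero
        ((LinearMap.ker g).subtype.baseChange B) (g.baseChange B)
        hex'.linearMap_comp_eq_zero).X₂ :=
      projective_of_free B (B ⊗[A] (Fin n → A))
    cases r with
    | zero =>
      have : Module.FinitePresentation A (Fin n → A) := Module.finitePresentation_of_finite A _
      have : Module.FinitePresentation A (LinearMap.ker g) :=
        Module.finitePresentation_of_finite A _
      exact nonempty_equiv_of_coker (R := A) (R' := B)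
        (resMap _ (ModuleCat.of A N) 0) (connMap hS (ModuleCat.of A N) 0)
        (exact_res_conn hS _ 0) (connMap_surjective hS _ 0)
        (resMap _ (ModuleCat.of B (B ⊗[A] N)) 0) (connMap hS' (ModuleCat.of B (B ⊗[A] N)) 0)
        (exact_res_conn hS' _ 0) (connMap_surjective hS' _ 0)
        (β₀ B (Fin n → A) N) (β₀ B (LinearMap.ker g) N)
        (fun z => β₀_naturality B (Fin n → A) (LinearMap.ker g) N (LinearMap.ker g).subtype z)
    | succ r' =>
      obtain ⟨e⟩ := ih (LinearMap.ker g)
      let dA := LinearEquiv.ofBijective (connMap hS (ModuleCat.of A N) (r' + 1))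
        ⟨connMap_injective hS _ r', connMap_surjective hS _ (r' + 1)⟩
      let dB := LinearEquiv.ofBijective (connMap hS' (ModuleCat.of B (B ⊗[A] N)) (r' + 1))
        ⟨connMap_injective hS' _ r', connMap_surjective hS' _ (r' + 1)⟩
      exact ⟨((dA.baseChange A B).symm.trans e).trans dB⟩

end main

end Groth.Agent.Lib.Helper16.ExtBC
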