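import Groth.Agent.Lib.Helper16.LocCohTorsion
import Groth.Agent.Lib.Helper16.ExtVanish
import Mathlib.RingTheory.KrullDimension.Regular

set_option autoImplicit false
universe u
open CategoryTheory Opposite Limits

namespace Groth.Agent.Lib.Helper16.LC

open Groth.Agent.Lib.Helper16.Depth

section basics

variable {R : Type u} [CommRing R] (I : Ideal R)

theorem Hmap_smul_id (p : ℕ) (M : ModuleCat.{u} R) (r : R) (z : (localCohomology I p).obj M) :
    Hmap I p (r • 𝟙 M) z = r • z := by
  obtain ⟨k, e, rfl⟩ := ι_jointly_surjective I p M z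
  rw [Hmap_ι, ← map_smul]
  congr 1
  simp [Abelian.Ext.mk₀_smul]

theorem subsingleton_ext_of_isZero_right (X : ModuleCat.{u} R) {Y : ModuleCat.{u} R}
    (hY : IsZero Y) (i : ℕ) : Subsingleton (Abelian.Ext.{u} X Y i) := by
  refine ⟨fun a b => ?_⟩
  suffices hz : ∀ e : Abelian.Ext.{u} X Y i, e = 0 by rw [hz a, hz b]
  intro e
  have : e = e.comp (Abelian.Ext.mk₀ (𝟙 Y)) (add_zero i) := by rw [Abelian.Ext.comp_mk₀_id]
  rw [this, hY.eq_of_src (𝟙 Y) 0, Abelian.Ext.mk₀_zero, Abelian.Ext.comp_zero]

theorem subsingleton_H_of_subsingleton (p : ℕ) (M : Type u) [AddCommGroup M] [Module R M]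
    [Subsingleton M] : Subsingleton (LocCoh.H I p M) := by
  apply subsingleton_H_of_forall
  intro k
  exact subsingleton_ext_of_isZero_right _ (ModuleCat.isZero_of_subsingleton _) p

end basics

section fg

variable {R : Type u} [CommRing R] [IsNoetherianRing R] (I : Ideal R)

theorem torsionSub_quotient_torsionSub (M : Type u) [AddCommGroup M] [Module R M] :
    DRing.torsionSub I (M ⧸ DRing.torsionSub I M) = ⊥ := by
  rw [eq_bot_iff]
  rintro c ⟨k, hk⟩
  obtain ⟨m, rfl⟩ := Submodule.Quotient.mk_surjective _ c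
  rw [Submodule.mem_bot, Submodule.Quotient.mk_eq_zero]
  -- `I^k • span{m}` is a finitely generated submodule of `Γ_I(M)`
  have hfg : ((I ^ k) • (Submodule.span R {m} : Submodule R M)).FG :=
    Submodule.FG.smul (IsNoetherian.noetherian _) (Submodule.fg_span_singleton m)
  have hle : (I ^ k) • (Submodule.span R {m} : Submodule R M) ≤ DRing.torsionSub I M := by
    rw [Submodule.smul_le]
    intro a ha y hy
    obtain ⟨r, rfl⟩ := Submodule.mem_span_singleton.mp hy
    have h1 := hk a ha
    rw [← Submodule.Quotient.mk_smul, Submodule.Quotient.mk_eq_zero] at h1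
    rw [smul_comm]
    exact (DRing.torsionSub I M).smul_mem r h1
  obtain ⟨l, hl⟩ := exists_pow_smul_eq_zero_of_fg I M _ hfg hle
  refine ⟨l + k, fun a ha => ?_⟩
  rw [pow_add] at ha
  refine Submodule.mul_induction_on ha ?_ ?_
  · intro b hb c hc
    rw [mul_smul]
    exact hl b hb _ (Submodule.smul_mem_smul hc (Submodule.mem_span_singleton_self m))
  · intro x y hx hy
    rw [add_smul, hx, hy, add_zero]

theorem exists_isSMulRegular_of_torsionSub_eq_bot (M : Type u) [AddCommGroup M] [Module R M]
    [Module.Finite R M] (h : DRing.torsionSub I M = ⊥) : ∃ x ∈ I, IsSMulRegular M x := by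
  have hsub : Subsingleton ((R ⧸ I) →ₗ[R] M) := by
    refine ⟨fun φ ψ => ?_⟩
    suffices hz : ∀ φ : (R ⧸ I) →ₗ[R] M, φ = 0 by rw [hz φ, hz ψ]
    intro φ
    have h1 : φ 1 ∈ DRing.torsionSub I M := by
      refine ⟨1, fun a ha => ?_⟩
      rw [pow_one] at ha
      rw [← map_smul]
      have : a • (1 : R ⧸ I) = 0 := by
        rw [Algebra.smul_def, mul_one]
        exact Ideal.Quotient.eq_zero_iff_mem.mpr ha
      rw [this, map_zero]
    rw [h, Submodule.mem_bot] at h1
    apply LinearMap.ext
    intro y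
    obtain ⟨r, rfl⟩ := Ideal.Quotient.mk_surjective y
    have h2 : (Ideal.Quotient.mk I) r = r • (1 : R ⧸ I) := by
      rw [Algebra.smul_def, mul_one]; rfl
    rw [h2, map_smul, h1, smul_zero, LinearMap.zero_apply]
  obtain ⟨x, hx, hreg⟩ := IsSMulRegular.subsingleton_linearMap_iff.mp hsub
  rw [Ideal.annihilator_quotient] at hx
  exact ⟨x, hx, hreg⟩

theorem Hmap_mkQ_torsionSub_bijective (N : Type u) [AddCommGroup N] [Module R N] (q : ℕ) :
    Function.Bijective (Hmap I (q + 1) (ModuleCat.ofHom (DRing.torsionSub I N).mkQ)) := by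
  have hS := shortExact_of_linearMaps (DRing.torsionSub I N).subtype (DRing.torsionSub I N).mkQ
    (Submodule.injective_subtype _) (Submodule.mkQ_surjective _)
    (LinearMap.exact_subtype_mkQ _)
  have htors : ∀ m : DRing.torsionSub I N, m ∈ DRing.torsionSub I (DRing.torsionSub I N) := by
    rintro ⟨m, n, hn⟩
    refine ⟨n, fun a ha => ?_⟩
    apply Subtype.ext
    exact hn a ha
  have h1 : Subsingleton (LocCoh.H I (q + 1) (DRing.torsionSub I N)) :=
    subsingleton_H_succ_of_torsion I q _ htors
  have h2 : Subsingleton (LocCoh.H I (q + 1 + 1) (DRing.torsionSub I N)) :=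
    subsingleton_H_succ_of_torsion I (q + 1) _ htors
  constructor
  · rw [injective_iff_map_eq_zero]
    intro x hx
    obtain ⟨y, rfl⟩ := Hmap_exact₂ I hS (q + 1) x hx
    rw [h1.elim y 0, map_zero]
  · intro z
    exact Hmap_exact₃ I hS (q + 1) z (h2.elim _ _)

theorem withBot_aux {a : WithBot ℕ∞} {n : ℕ} (h : a + 1 < ((n + 1 : ℕ) : WithBot ℕ∞)) :
    a < (n : WithBot ℕ∞) := by
  induction a using WithBot.recBotCoe with
  | bot => exact WithBot.bot_lt_coe _
  | coe c =>
    induction c using ENat.recTopCoe with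
    | top =>
      exfalso
      have : ((⊤ : ℕ∞) : WithBot ℕ∞) + 1 = ((⊤ : ℕ∞) : WithBot ℕ∞) := rfl
      rw [this] at h
      have h2 : ((n + 1 : ℕ) : WithBot ℕ∞) = (((n + 1 : ℕ) : ℕ∞) : WithBot ℕ∞) := rfl
      rw [h2, WithBot.coe_lt_coe] at h
      exact absurd h (by simp)
    | coe m =>
      have h1 : (((m : ℕ∞) : WithBot ℕ∞) + 1) = (((m + 1 : ℕ) : ℕ∞) : WithBot ℕ∞) := by
        push_cast; rfl
      have h2 : ((n + 1 : ℕ) : WithBot ℕ∞) = (((n + 1 : ℕ) : ℕ∞) : WithBot ℕ∞) := rfl
      rw [h1, h2, WithBot.coe_lt_coe, Nat.cast_lt] at h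
      have h3 : ((n : ℕ) : WithBot ℕ∞) = (((n : ℕ) : ℕ∞) : WithBot ℕ∞) := rfl
      rw [h3, WithBot.coe_lt_coe, Nat.cast_lt]
      omega

/-- **Grothendieck vanishing** for finitely generated modules. -/
theorem subsingleton_H_of_supportDim_lt_of_finite :
    ∀ (n : ℕ) (M : Type u) [AddCommGroup M] [Module R M] [Module.Finite R M],
      Module.supportDim R M < (n : WithBot ℕ∞) → ∀ i : ℕ, n ≤ i →
        Subsingleton (LocCoh.H I i M) := by
  intro n
  induction n with
  | zero =>
    intro M _ _ _ hdim i _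
    have : Module.supportDim R M = ⊥ := by
      have h0 : ((0 : ℕ) : WithBot ℕ∞) = ((⊥ : ℕ∞) : WithBot ℕ∞) := rfl
      rw [h0] at hdim
      exact WithBot.lt_coe_bot.mp hdim
    have := (Module.supportDim_eq_bot_iff_subsingleton R M).mp this
    exact subsingleton_H_of_subsingleton I i M
  | succ n ih =>
    intro M _ _ _ hdim i hi
    obtain ⟨q, rfl⟩ : ∃ q, i = q + 1 := ⟨i - 1, by omega⟩
    -- reduce to `M' = M/Γ_I(M)`
    let M' := M ⧸ DRing.torsionSub I M
    suffices hM' : Subsingleton (LocCoh.H I (q + 1) M') from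
      (Hmap_mkQ_torsionSub_bijective I M q).1.subsingleton
    have hdim' : Module.supportDim R M' < ((n + 1 : ℕ) : WithBot ℕ∞) :=
      lt_of_le_of_lt (Module.supportDim_le_of_surjective _ (Submodule.mkQ_surjective _)) hdim
    obtain ⟨x, hxI, hreg⟩ := exists_isSMulRegular_of_torsionSub_eq_bot I M'
      (torsionSub_quotient_torsionSub I M)
    have hdimQ : Module.supportDim R (QuotSMulTop x M') < (n : WithBot ℕ∞) := by
      apply withBot_aux
      exact lt_of_le_of_lt (Module.supportDim_quotSMulTop_succ_le_of_notMem_minimalPrimes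
        (fun _ => hreg.notMem_of_mem_minimalPrimes)) hdim'
    have hQ : Subsingleton (LocCoh.H I q (QuotSMulTop x M')) :=
      ih (QuotSMulTop x M') hdimQ q (by omega)
    have hS := IsSMulRegular.smulShortComplex_shortExact (M := ModuleCat.of R M') hreg
    -- multiplication by `x` is injective on `H^{q+1}(M')`
    have hinj : ∀ z : LocCoh.H I (q + 1) M', x • z = 0 → z = 0 := by
      intro z hz
      rw [← Hmap_smul_id] at hz
      obtain ⟨w, rfl⟩ := Hmap_exact₁ I hS q z hz
      have hQ' : Subsingleton ((localCohomology I q).obj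
          ((ModuleCat.of R M').smulShortComplex x).X₃) := hQ
      rw [hQ'.elim w 0]
      exact map_zero _
    refine ⟨fun a b => ?_⟩
    suffices hz : ∀ z : LocCoh.H I (q + 1) M', z = 0 by rw [hz a, hz b]
    intro z
    -- `z` is killed by a power of `x`
    have htor : ∃ k : ℕ, x ^ k • z = 0 := by
      obtain ⟨k, e, rfl⟩ := ι_jointly_surjective I (q + 1) (ModuleCat.of R M') z
      refine ⟨k, ?_⟩
      rw [← map_smul]
      have hid : x ^ k • 𝟙 (Q I k) = 0 := by
        apply ModuleCat.hom_ext
        apply LinearMap.ext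
        intro y
        obtain ⟨r, rfl⟩ := Ideal.Quotient.mk_surjective y
        change x ^ k • (Ideal.Quotient.mk (I ^ k) r) = 0
        rw [Algebra.smul_def]
        have : (algebraMap R (R ⧸ I ^ k)) (x ^ k) = 0 :=
          Ideal.Quotient.eq_zero_iff_mem.mpr (Ideal.pow_mem_pow hxI k)
        rw [this, zero_mul]
      have : x ^ k • e = (Abelian.Ext.mk₀ (x ^ k • 𝟙 (Q I k))).comp e (zero_add (q + 1)) := by
        simp [Abelian.Ext.mk₀_smul]
      rw [this, hid, Abelian.Ext.mk₀_zero, Abelian.Ext.zero_comp, map_zero]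
    obtain ⟨k, hk⟩ := htor
    induction k with
    | zero => simpa using hk
    | succ k ihk =>
      apply ihk
      apply hinj
      rw [← mul_smul, ← pow_succ']
      exact hk

end fg

section general

variable {R : Type u} [CommRing R] [IsNoetherianRing R] (I : Ideal R)

/-- Over a Noetherian ring, any Ext class out of a finitely generated module comes from a finitely
generated submodule of the target. -/
theorem exists_fg_factor_ext (M : Type u) [AddCommGroup M] [Module R M] :
    ∀ (i : ℕ) (X : Type u) [AddCommGroup X] [Module R X] [Module.Finite R X]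
      (e : Abelian.Ext.{u} (ModuleCat.of R X) (ModuleCat.of R M) i),
      ∃ (M' : Submodule R M) (_ : M'.FG) (e' : Abelian.Ext.{u} (ModuleCat.of R X)
        (ModuleCat.of R M') i),
        e = e'.comp (Abelian.Ext.mk₀ (ModuleCat.ofHom M'.subtype)) (add_zero i) := by
  intro i
  induction i with
  | zero =>
    intro X _ _ _ e
    obtain ⟨f, rfl⟩ := Abelian.Ext.mk₀_bijective.{u} _ _ |>.2 e
    refine ⟨LinearMap.range f.hom, ?_, Abelian.Ext.mk₀ (ModuleCat.ofHom f.hom.rangeRestrict), ?_⟩
    · rw [LinearMap.range_eq_map]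
      exact Submodule.FG.map _ Module.Finite.fg_top
    · rw [Abelian.Ext.mk₀_comp_mk₀]
      rfl
  | succ i ih =>
    intro X _ _ _ e
    obtain ⟨r, π, hπ⟩ := Module.Finite.exists_fin' R X
    have hS := shortExact_of_linearMaps (LinearMap.ker π).subtype π
      (Submodule.injective_subtype _) hπ (LinearMap.exact_subtype_ker_map π)
    have hproj : Projective (ModuleCat.of R (Fin r → R)) :=
      (IsProjective.iff_projective _).mp inferInstance
    obtain ⟨e₁, he₁⟩ := Abelian.Ext.contravariant_sequence_exact₃ hS _ e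
      (Abelian.Ext.eq_zero_of_projective _) (add_comm 1 i)
    obtain ⟨M', hM', e₁', he₁'⟩ := ih (LinearMap.ker π) e₁
    refine ⟨M', hM', hS.extClass.comp e₁' (add_comm 1 i), ?_⟩
    rw [← he₁, he₁', Abelian.Ext.comp_assoc_of_third_deg_zero]

/-- Every local cohomology class comes from a finitely generated submodule. -/
theorem exists_fg_Hmap_eq (M : Type u) [AddCommGroup M] [Module R M] (i : ℕ)
    (x : LocCoh.H I i M) :
    ∃ (M' : Submodule R M) (_ : M'.FG) (y : LocCoh.H I i M'),
      Hmap I i (ModuleCat.ofHom M'.subtype) y = x := by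
  obtain ⟨k, e, rfl⟩ := ι_jointly_surjective I i (ModuleCat.of R M) x
  have : Module.Finite R (R ⧸ I ^ k) := Module.Finite.quotient R _
  obtain ⟨M', hM', e', he'⟩ := exists_fg_factor_ext M i (R ⧸ I ^ k) e
  refine ⟨M', hM', ι I i (ModuleCat.of R M') k e', ?_⟩
  rw [Hmap_ι, he']

/-- **Grothendieck vanishing** for arbitrary modules over a Noetherian ring. -/
theorem subsingleton_H_of_supportDim_lt (M : Type u) [AddCommGroup M] [Module R M] (n : ℕ)
    (hdim : Module.supportDim R M < (n : WithBot ℕ∞)) (i : ℕ) (hi : n ≤ i) :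
    Subsingleton (LocCoh.H I i M) := by
  refine ⟨fun a b => ?_⟩
  suffices hz : ∀ z : LocCoh.H I i M, z = 0 by rw [hz a, hz b]
  intro z
  obtain ⟨M', hM', y, rfl⟩ := exists_fg_Hmap_eq I M i z
  have : Module.Finite R M' := Module.Finite.iff_fg.mpr hM'
  have hdim' : Module.supportDim R M' < (n : WithBot ℕ∞) :=
    lt_of_le_of_lt (Module.supportDim_le_of_injective _ (Submodule.injective_subtype M')) hdim
  have := subsingleton_H_of_supportDim_lt_of_finite I n M' hdim' i hi
  rw [this.elim y 0, map_zero]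

end general

end Groth.Agent.Lib.Helper16.LC
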