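import Groth.Agent.Lib.Helper16.LocalDualityGor
import Groth.Agent.Lib.Helper16.LocCohGrothVanish
import Groth.Agent.Lib.Helper16.ExtFlatBaseChange
import Groth.Agent.Lib.Helper25.MatlisDual
import Groth.Agent.Lib.Helper16.CMHeightFormula
import Groth.Agent.Lib.Helper11.GorDim2

/-!
# Annihilators of local cohomology over a Gorenstein local ring (helper16)

`annihilator_H_eq`: `Ann H^i_m(M) = Ann Ext^{n-i}(M,S)`; `subsingleton_H_iff`; `le_radical_annihilator_iff`
(support criterion); `subsingleton_localized_ext_iff` (Ext localizes); `exists_dims`;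
`localized_ext_iff`; `le_radical_annihilator_H_iff` (Faltings' annihilator theorem over a Gorenstein
local ring).
-/

set_option autoImplicit false
universe u
open CategoryTheory Abelian IsLocalRing

namespace Groth.Agent.Lib.Helper16.GorAnn

open Groth.Agent.Lib.Helper16.LC Groth.Agent.Lib.Helper25

section gor

variable {S : Type u} [CommRing S] [LocCoh.IsGorensteinLocalRing S] {n : ℕ}

/-- over a Gorenstein local ring, `H^i_m(M)` and `Ext^{n-i}(M, S)` have the same annihilator -/
theorem annihilator_H_eq (hn : ringKrullDim S = n) (M : Type u) [AddCommGroup M] [Module S M]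
    [Module.Finite S M] (i j : ℕ) (h : i + j = n) :
    Module.annihilator S (LocCoh.H (maximalIdeal S) i M) =
      Module.annihilator S (Ext.{u} (ModuleCat.of S M) (ModuleCat.of S S) j) := by
  obtain ⟨E, _, _, f, hf⟩ := exists_isInjectiveHull (R := S) (ResidueField S)
  obtain ⟨e⟩ := LD.local_duality hn E f hf M i j h
  rw [e.annihilator_eq, ← annihilator_dual_eq f hf]

theorem subsingleton_H_iff (hn : ringKrullDim S = n) (M : Type u) [AddCommGroup M] [Module S M]
    [Module.Finite S M] (i j : ℕ) (h : i + j = n) :
    Subsingleton (LocCoh.H (maximalIdeal S) i M) ↔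
      Subsingleton (Ext.{u} (ModuleCat.of S M) (ModuleCat.of S S) j) := by
  rw [← Module.annihilator_eq_top_iff (R := S), ← Module.annihilator_eq_top_iff (R := S),
    annihilator_H_eq hn M i j h]

theorem subsingleton_ext_of_gt (hn : ringKrullDim S = n) (M : ModuleCat.{u} S) (j : ℕ)
    (hj : n < j) : Subsingleton (Ext.{u} M (ModuleCat.of S S) j) := by
  have := Helper11.GorCM.hasInjectiveDimensionLT_of_depth n S (GorTop.depth_eq hn)
  exact HasInjectiveDimensionLT.subsingleton _ (n + 1) j hj _

theorem subsingleton_H_of_gt (hn : ringKrullDim S = n) (M : Type u) [AddCommGroup M] [Module S M]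
    (i : ℕ) (hi : n < i) : Subsingleton (LocCoh.H (maximalIdeal S) i M) := by
  refine subsingleton_H_of_supportDim_lt (maximalIdeal S) M (n + 1) ?_ i hi
  refine lt_of_le_of_lt (Module.supportDim_le_ringKrullDim S M) ?_
  rw [hn]
  exact_mod_cast Nat.lt_succ_self n

end gor

section supp

variable {A : Type u} [CommRing A]

/-- `J ⊆ rad Ann N` iff `N` vanishes at all primes not containing `J` (for finite `N`) -/
theorem le_radical_annihilator_iff (N : Type u) [AddCommGroup N] [Module A N] [Module.Finite A N]
    (J : Ideal A) :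
    J ≤ (Module.annihilator A N).radical ↔
      ∀ (P : Ideal A) [P.IsPrime], ¬ J ≤ P → Subsingleton (LocalizedModule P.primeCompl N) := by
  constructor
  · intro h P hP hJP
    have hns : (⟨P, hP⟩ : PrimeSpectrum A) ∉ Module.support A N := by
      rw [Module.mem_support_iff_of_finite]
      intro hle
      apply hJP
      refine h.trans ?_
      exact (Ideal.IsPrime.radical_le_iff hP).mpr hle
    exact Module.notMem_support_iff.mp hns
  · intro h x hx
    rw [Ideal.radical_eq_sInf, Submodule.mem_sInf]
    rintro P ⟨hle, hP⟩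
    by_contra hxP
    have hJP : ¬ J ≤ P := fun hle' => hxP (hle' hx)
    have hsub := h P hJP
    have hns : (⟨P, hP⟩ : PrimeSpectrum A) ∉ Module.support A N :=
      Module.notMem_support_iff.mpr hsub
    exact hns (Module.mem_support_iff_of_finite.mpr hle)

end supp

section iso

universe v' w' u'

variable {C : Type u'} [Category.{v'} C] [Abelian C] [HasExt.{w'} C]

theorem subsingleton_ext_of_iso_right (X : C) {Y Y' : C} (f : Y ≅ Y') (i : ℕ)
    (h : Subsingleton (Ext X Y' i)) : Subsingleton (Ext X Y i) := by
  refine ⟨fun a b => ?_⟩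
  suffices hz : ∀ e : Ext X Y i, e = 0 by rw [hz a, hz b]
  intro e
  have : e = (e.comp (Ext.mk₀ f.hom) (add_zero i)).comp (Ext.mk₀ f.inv) (add_zero i) := by
    rw [Ext.comp_assoc_of_third_deg_zero, Ext.mk₀_comp_mk₀, Iso.hom_inv_id, Ext.comp_mk₀_id]
  rw [this, Subsingleton.elim (e.comp (Ext.mk₀ f.hom) (add_zero i)) 0, Ext.zero_comp]

end iso

section extloc

open TensorProduct

variable {A : Type u} [CommRing A] [IsNoetherianRing A]

/-- `Ext^j(M, A)` vanishes at `P` iff `Ext^j(M_P, A_P)` vanishes -/
theorem subsingleton_localized_ext_iff (P : Ideal A) [P.IsPrime] (M : Type u) [AddCommGroup M]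
    [Module A M] [Module.Finite A M] (j : ℕ) :
    Subsingleton (LocalizedModule P.primeCompl (Ext.{u} (ModuleCat.of A M) (ModuleCat.of A A) j)) ↔
      Subsingleton (Ext.{u}
        (ModuleCat.of (Localization.AtPrime P) (LocalizedModule P.primeCompl M))
        (ModuleCat.of (Localization.AtPrime P) (Localization.AtPrime P)) j) := by
  have hflat : Module.Flat A (Localization.AtPrime P) := IsLocalization.flat _ P.primeCompl
  obtain ⟨e⟩ := ExtBC.nonempty_ext_baseChange_equiv (A := A) (Localization.AtPrime P) A j M
  let e1 := LocalizedModule.equivTensorProduct P.primeCompl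
    (Ext.{u} (ModuleCat.of A M) (ModuleCat.of A A) j)
  let i1 : ModuleCat.of (Localization.AtPrime P) (Localization.AtPrime P ⊗[A] M) ≅
      ModuleCat.of (Localization.AtPrime P) (LocalizedModule P.primeCompl M) :=
    (LocalizedModule.equivTensorProduct P.primeCompl M).symm.toModuleIso
  let i2 : ModuleCat.of (Localization.AtPrime P) (Localization.AtPrime P ⊗[A] A) ≅
      ModuleCat.of (Localization.AtPrime P) (Localization.AtPrime P) :=
    (TensorProduct.AlgebraTensorModule.rid A (Localization.AtPrime P)
      (Localization.AtPrime P)).toModuleIso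
  constructor
  · intro h
    have h1 : Subsingleton (Ext.{u}
        (ModuleCat.of (Localization.AtPrime P) (Localization.AtPrime P ⊗[A] M))
        (ModuleCat.of (Localization.AtPrime P) (Localization.AtPrime P ⊗[A] A)) j) :=
      (e1.trans e).symm.toEquiv.subsingleton
    have h2 := subsingleton_ext_of_iso_right _ i2.symm j h1
    exact Depth.subsingleton_ext_of_iso_left i1.symm _ j h2
  · intro h
    have h2 := Depth.subsingleton_ext_of_iso_left i1 _ j h
    have h1 := subsingleton_ext_of_iso_right _ i2 j h2
    exact (e1.trans e).toEquiv.subsingleton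

end extloc

section main

variable {S : Type u} [CommRing S] [hS : LocCoh.IsGorensteinLocalRing S] {n : ℕ}

/-- localizations of a Gorenstein local ring are Gorenstein -/
theorem isGorensteinLocalRing_localization (P : Ideal S) [P.IsPrime] :
    LocCoh.IsGorensteinLocalRing (Localization.AtPrime P) :=
  ((Helper11.GorCM.finite_injdim_iff (A := S)).mp
    hS.exists_hasInjectiveDimensionLT).1.isGorensteinLocalRing_localization P

/-- dimension bookkeeping at a prime of a Gorenstein local ring -/
theorem exists_dims (hn : ringKrullDim S = n) (P : Ideal S) [P.IsPrime] :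
    ∃ h d : ℕ, ringKrullDim (Localization.AtPrime P) = h ∧ ringKrullDim (S ⧸ P) = d ∧
      h + d = n := by
  have hCM : LocCoh.IsCohenMacaulayModule S S :=
    (Helper11.GorCM.isCohenMacaulayLocalRing_of_gorenstein S).supportDim_eq_depth
  have hform := CMHt.height_add_ringKrullDim_quotient_prime S hCM P
  rw [hn] at hform
  have hne : P.height ≠ ⊤ := Ideal.height_ne_top (Ideal.IsPrime.ne_top inferInstance)
  obtain ⟨h, hh⟩ := ENat.ne_top_iff_exists.mp hne
  have hnt : Nontrivial (S ⧸ P) := Ideal.Quotient.nontrivial_iff.mpr (Ideal.IsPrime.ne_top inferInstance)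
  have h0 : (0 : WithBot ℕ∞) ≤ ringKrullDim (S ⧸ P) := ringKrullDim_nonneg_of_nontrivial
  rw [← hh] at hform
  refine ⟨h, ?_⟩
  rw [IsLocalization.AtPrime.ringKrullDim_eq_height P (Localization.AtPrime P), ← hh]
  induction hr : ringKrullDim (S ⧸ P) with
  | bot => rw [hr] at h0; simp at h0
  | coe a =>
    rw [hr] at hform
    induction a with
    | top =>
      exfalso
      have : ((h : ℕ∞) : WithBot ℕ∞) + ((⊤ : ℕ∞) : WithBot ℕ∞) = ((⊤ : ℕ∞) : WithBot ℕ∞) := by
        rw [← WithBot.coe_add, add_top]
      rw [this] at hform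
      have h2 : ((⊤ : ℕ∞) : WithBot ℕ∞) = ((n : ℕ∞) : WithBot ℕ∞) := hform
      rw [WithBot.coe_inj] at h2
      exact ENat.top_ne_natCast n h2
    | coe d =>
      refine ⟨d, rfl, rfl, ?_⟩
      have h2 : (((h : ℕ∞) + (d : ℕ∞) : ℕ∞) : WithBot ℕ∞) = ((n : ℕ∞) : WithBot ℕ∞) := by
        rw [WithBot.coe_add]; exact hform
      rw [WithBot.coe_inj] at h2
      exact_mod_cast h2

/-- at a prime `P`: `Ext^j(M,S)_P = 0` iff `H^{j'}(M_P) = 0` for the `j'` with
`j' + dim S/P = i`, where `i + j = n` -/
theorem localized_ext_iff (hn : ringKrullDim S = n) (M : Type u) [AddCommGroup M] [Module S M]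
    [Module.Finite S M] (P : Ideal S) [P.IsPrime] (i j : ℕ) (hij : i + j = n) :
    Subsingleton (LocalizedModule P.primeCompl
        (Ext.{u} (ModuleCat.of S M) (ModuleCat.of S S) j)) ↔
      ∀ j' : ℕ, (j' : WithBot ℕ∞) + ringKrullDim (S ⧸ P) = i →
        Subsingleton (LocCoh.H (maximalIdeal (Localization.AtPrime P)) j'
          (LocalizedModule P.primeCompl M)) := by
  have hGP := isGorensteinLocalRing_localization P
  obtain ⟨h, d, hh, hd, hhd⟩ := exists_dims hn P
  rw [subsingleton_localized_ext_iff P M j, hd]
  have hfin : Module.Finite (Localization.AtPrime P) (LocalizedModule P.primeCompl M) :=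
    Module.Finite.of_isLocalizedModule P.primeCompl (LocalizedModule.mkLinearMap P.primeCompl M)
  have hcast : ∀ j' : ℕ, ((j' : WithBot ℕ∞) + ((d : ℕ) : WithBot ℕ∞) = (i : WithBot ℕ∞)) ↔
      j' + d = i := by
    intro j'
    constructor
    · intro h1
      exact_mod_cast h1
    · intro h1
      exact_mod_cast h1
  by_cases hjh : j ≤ h
  · have hi' : (h - j) + j = h := Nat.sub_add_cancel hjh
    rw [← subsingleton_H_iff hh (LocalizedModule P.primeCompl M) (h - j) j hi']
    constructor
    · intro hsub j' hj'
      have : j' = h - j := by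
        have := (hcast j').mp hj'
        omega
      rw [this]
      exact hsub
    · intro hall
      apply hall (h - j)
      rw [hcast]
      omega
  · push Not at hjh
    have h1 := subsingleton_ext_of_gt hh
      (ModuleCat.of (Localization.AtPrime P) (LocalizedModule P.primeCompl M)) j hjh
    constructor
    · intro _ j' hj'
      exfalso
      have := (hcast j').mp hj'
      omega
    · intro _
      exact h1

/-- **Faltings' annihilator theorem over a Gorenstein local ring.** -/
theorem le_radical_annihilator_H_iff (hn : ringKrullDim S = n) (M : Type u) [AddCommGroup M]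
    [Module S M] [Module.Finite S M] (J : Ideal S) (i : ℕ) :
    J ≤ (Module.annihilator S (LocCoh.H (maximalIdeal S) i M)).radical ↔
      ∀ (P : Ideal S) [P.IsPrime], ¬ J ≤ P → ∀ j' : ℕ,
        (j' : WithBot ℕ∞) + ringKrullDim (S ⧸ P) = i →
        Subsingleton (LocCoh.H (maximalIdeal (Localization.AtPrime P)) j'
          (LocalizedModule P.primeCompl M)) := by
  by_cases hin : i ≤ n
  · have hij : i + (n - i) = n := Nat.add_sub_cancel' hin
    rw [annihilator_H_eq hn M i (n - i) hij, le_radical_annihilator_iff]
    constructor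
    · intro h P hP hJP
      exact (localized_ext_iff hn M P i (n - i) hij).mp (h P hJP)
    · intro h P hP hJP
      exact (localized_ext_iff hn M P i (n - i) hij).mpr (h P hJP)
  · push Not at hin
    have h0 := subsingleton_H_of_gt hn M i hin
    have htop : Module.annihilator S (LocCoh.H (maximalIdeal S) i M) = ⊤ :=
      (Module.annihilator_eq_top_iff (R := S)).mpr h0
    rw [htop, Ideal.radical_top]
    constructor
    · intro _ P hP _ j' hj'
      have hGP := isGorensteinLocalRing_localization P
      obtain ⟨h, d, hh, hd, hhd⟩ := exists_dims hn P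
      rw [hd] at hj'
      have h1 : j' + d = i := by exact_mod_cast hj'
      exact subsingleton_H_of_gt hh _ j' (by omega)
    · intro _
      exact le_top

end main

end Groth.Agent.Lib.Helper16.GorAnn
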