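import Groth.Agent.Lib.Helper4.RegularGlobalDim
import Groth.Agent.Lib.Helper11.GorCM

/-!
# A regular local ring is a Gorenstein local ring (helper16)
-/

set_option autoImplicit false
universe u
open CategoryTheory Abelian IsLocalRing

namespace Groth.Agent.Lib.Helper16.RegGor

/-- a regular local ring of dimension `d` has injective dimension `≤ d` over itself -/
theorem hasInjectiveDimensionLT_of_isRegularLocalRing (A : Type u) [CommRing A]
    [IsRegularLocalRing A] (d : ℕ) (hd : ringKrullDim A = d) :
    HasInjectiveDimensionLT (ModuleCat.of A A) (d + 1) := by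
  have hk : HasProjectiveDimensionLT (ModuleCat.of A (ResidueField A)) (d + 1) :=
    Helper4.hasProjectiveDimensionLT_of_isRegularLocalRing_of_finite A d hd (ResidueField A)
  exact Helper11.GorCM.hasInjectiveDimensionLT_succ_of_residueField (ModuleCat.of A A) d
    (fun i hi => HasProjectiveDimensionLT.subsingleton _ (d + 1) i hi _)

/-- a regular local ring is Gorenstein -/
theorem isGorensteinLocalRing_of_isRegularLocalRing (A : Type u) [CommRing A]
    [IsRegularLocalRing A] : LocCoh.IsGorensteinLocalRing A := by
  have h : ((maximalIdeal A).spanFinrank : WithBot ℕ∞) = ringKrullDim A :=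
    IsRegularLocalRing.spanFinrank_maximalIdeal
  exact { exists_hasInjectiveDimensionLT :=
    ⟨_, hasInjectiveDimensionLT_of_isRegularLocalRing A _ h.symm⟩ }

end Groth.Agent.Lib.Helper16.RegGor
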