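import Mathlib
import Groth.Prelude.Def_CAlg
import Groth.Agent.Lib.Helper2.Gor.GK1
import Groth.Agent.Lib.Helper11.ReesGor
import Groth.Agent.Lib.Helper11.GorCM2
import Groth.Agent.Lib.Helper18.CM4
import Groth.Agent.Lib.Helper16.GorFlat
import Groth.Agent.Lib.Helper18.CM9

/-!
# Gorenstein quotients of a local ring (helper16)

* quotSMulTopEquiv, quotSMulTopIdealEquiv : (T/a)/x(T/a) = T/(a + xT) as T-modules.
* gor_sup_iff : cutting by an element regular on T/a preserves and reflects Gorenstein.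
* gor_quot_ofList : a Gorenstein local ring modulo a regular sequence is Gorenstein.
* gor_quot_colon_of_dim_zero, gor_quot_colon, gor_quot_colon_of_cm : if T/a is Gorenstein, f is not in a and
  T/(a + fT) is Cohen-Macaulay of the same dimension, then T/(a : f) is Gorenstein (linkage of an almost
  complete intersection).
-/

set_option autoImplicit false
set_option linter.unusedSectionVars false
universe u
open IsLocalRing RingTheory.Sequence Pointwise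

namespace Groth.Agent.Lib.Helper16.GorQuot

open Groth.Agent.Lib.Helper2.GK

section equiv

variable {T : Type u} [CommRing T]

theorem smul_top_eq_map (𝔞 : Ideal T) (x : T) :
    (x • (⊤ : Submodule T (T ⧸ 𝔞))) = Submodule.map (Submodule.mkQ 𝔞) (Ideal.span {x}) := by
  ext m
  constructor
  · intro hm
    obtain ⟨m', -, rfl⟩ := (Submodule.mem_smul_pointwise_iff_exists _ _ _).mp hm
    obtain ⟨t, rfl⟩ := Submodule.mkQ_surjective _ m'
    refine ⟨x * t, Ideal.mul_mem_right _ _ (Ideal.mem_span_singleton_self x), ?_⟩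
    rw [← smul_eq_mul, map_smul]
  · rintro ⟨t, ht, rfl⟩
    obtain ⟨s, rfl⟩ := Ideal.mem_span_singleton'.mp ht
    rw [mul_comm, ← smul_eq_mul, map_smul]
    exact Submodule.smul_mem_pointwise_smul _ _ _ Submodule.mem_top

/-- `(T/𝔞)/x(T/𝔞) ≃ T/(𝔞 + xT)` as `T`-modules. -/
noncomputable def quotSMulTopEquiv (𝔞 : Ideal T) (x : T) :
    QuotSMulTop x (T ⧸ 𝔞) ≃ₗ[T] T ⧸ (𝔞 ⊔ Ideal.span {x}) :=
  (Submodule.quotEquivOfEq _ _ (smul_top_eq_map 𝔞 x)).trans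
    (Submodule.quotientQuotientEquivQuotientSup 𝔞 (Ideal.span {x}))

theorem mem_colon_singleton' (𝔞 : Ideal T) (f t : T) : t ∈ 𝔞.colon {f} ↔ t * f ∈ 𝔞 := by
  rw [Submodule.mem_colon_singleton, smul_eq_mul]

theorem le_colon_singleton (𝔞 : Ideal T) (f : T) : 𝔞 ≤ 𝔞.colon {f} := by
  intro t ht
  rw [mem_colon_singleton']
  exact 𝔞.mul_mem_right f ht

theorem colon_singleton_ne_top (𝔞 : Ideal T) (f : T) (hf : f ∉ 𝔞) : 𝔞.colon {f} ≠ ⊤ := by
  intro h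
  apply hf
  have : (1 : T) ∈ 𝔞.colon {f} := h ▸ Submodule.mem_top
  rw [mem_colon_singleton', one_mul] at this
  exact this

end equiv

section cut

variable {T : Type u} [CommRing T] [IsLocalRing T] [IsNoetherianRing T]

theorem isLocalRing_quotient (𝔞 : Ideal T) (h𝔞 : 𝔞 ≠ ⊤) : IsLocalRing (T ⧸ 𝔞) :=
  have := Ideal.Quotient.nontrivial_iff.mpr h𝔞
  IsLocalRing.of_surjective' (Ideal.Quotient.mk 𝔞) Ideal.Quotient.mk_surjective

theorem le_maximalIdeal_of_ne_top (𝔞 : Ideal T) (h𝔞 : 𝔞 ≠ ⊤) : 𝔞 ≤ maximalIdeal T :=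
  IsLocalRing.le_maximalIdeal h𝔞

theorem sup_span_ne_top (𝔞 : Ideal T) (h𝔞 : 𝔞 ≠ ⊤) (x : T) (hx : x ∈ maximalIdeal T) :
    𝔞 ⊔ Ideal.span {x} ≠ ⊤ := by
  intro h
  have h1 : 𝔞 ⊔ Ideal.span {x} ≤ maximalIdeal T :=
    sup_le (IsLocalRing.le_maximalIdeal h𝔞) ((Ideal.span_singleton_le_iff_mem _).mpr hx)
  rw [h] at h1
  exact (maximalIdeal.isMaximal T).ne_top (top_le_iff.mp h1)

/-- Cutting by an element regular on `T/𝔞` preserves and reflects the Gorenstein property. -/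
theorem gor_sup_iff (𝔞 : Ideal T) (h𝔞 : 𝔞 ≠ ⊤) (x : T) (hx : x ∈ maximalIdeal T)
    (hreg : ∀ t, x * t ∈ 𝔞 → t ∈ 𝔞) :
    LocCoh.IsGorensteinLocalRing (T ⧸ 𝔞) ↔
      LocCoh.IsGorensteinLocalRing (T ⧸ (𝔞 ⊔ Ideal.span {x})) := by
  have hloc := isLocalRing_quotient 𝔞 h𝔞
  have hfm : Ideal.Quotient.mk 𝔞 x ∈ maximalIdeal (T ⧸ 𝔞) := by
    rw [IsLocalRing.mem_maximalIdeal, mem_nonunits_iff] at hx ⊢
    intro hu
    have : IsLocalHom (Ideal.Quotient.mk 𝔞) :=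
      IsLocalHom.of_surjective _ Ideal.Quotient.mk_surjective
    exact hx (isUnit_of_map_unit (Ideal.Quotient.mk 𝔞) x hu)
  have hreg' : IsSMulRegular (T ⧸ 𝔞) (Ideal.Quotient.mk 𝔞 x) := by
    rw [isSMulRegular_iff_right_eq_zero_of_smul]
    intro m hm
    obtain ⟨t, rfl⟩ := Ideal.Quotient.mk_surjective m
    rw [smul_eq_mul, ← map_mul, Ideal.Quotient.eq_zero_iff_mem] at hm
    rw [Ideal.Quotient.eq_zero_iff_mem]
    exact hreg t hm
  rw [Groth.Agent.Lib.Helper11.Rees.gorenstein_iff_quotient hfm hreg']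
  have hmap : (Ideal.span {x}).map (Ideal.Quotient.mk 𝔞) = Ideal.span {Ideal.Quotient.mk 𝔞 x} := by
    rw [Ideal.map_span, Set.image_singleton]
  let e : ((T ⧸ 𝔞) ⧸ Ideal.span {Ideal.Quotient.mk 𝔞 x}) ≃+* T ⧸ (𝔞 ⊔ Ideal.span {x}) :=
    (Ideal.quotEquivOfEq hmap.symm).trans (DoubleQuot.quotQuotEquivQuotSup 𝔞 (Ideal.span {x}))
  exact ⟨fun h => gor_of_ringEquiv e h, fun h => gor_of_ringEquiv e.symm h⟩

theorem mk_mem_maximalIdeal_iff (𝔞 : Ideal T) [IsLocalRing (T ⧸ 𝔞)] (r : T) :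
    Ideal.Quotient.mk 𝔞 r ∈ maximalIdeal (T ⧸ 𝔞) ↔ r ∈ maximalIdeal T := by
  rw [IsLocalRing.mem_maximalIdeal, mem_nonunits_iff, IsLocalRing.mem_maximalIdeal,
    mem_nonunits_iff, not_iff_not]
  constructor
  · intro hu
    have : IsLocalHom (Ideal.Quotient.mk 𝔞) :=
      IsLocalHom.of_surjective _ Ideal.Quotient.mk_surjective
    exact isUnit_of_map_unit (Ideal.Quotient.mk 𝔞) r hu
  · intro hu
    exact hu.map _

theorem gor_congr_ideal {𝔞 𝔟 : Ideal T} (h : 𝔞 = 𝔟) (hG : LocCoh.IsGorensteinLocalRing (T ⧸ 𝔞)) :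
    LocCoh.IsGorensteinLocalRing (T ⧸ 𝔟) := by
  subst h
  exact hG

theorem isSMulRegular_quotient_iff (𝔞 : Ideal T) (x : T) :
    IsSMulRegular (T ⧸ 𝔞) x ↔ ∀ t, x * t ∈ 𝔞 → t ∈ 𝔞 := by
  rw [isSMulRegular_iff_right_eq_zero_of_smul]
  constructor
  · intro h t ht
    have := h (Ideal.Quotient.mk 𝔞 t) (by
      rw [← Ideal.Quotient.mk_eq_mk, ← Submodule.Quotient.mk_smul, Ideal.Quotient.mk_eq_mk,
        smul_eq_mul]
      exact Ideal.Quotient.eq_zero_iff_mem.mpr ht)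
    exact Ideal.Quotient.eq_zero_iff_mem.mp this
  · intro h m hm
    obtain ⟨t, rfl⟩ := Ideal.Quotient.mk_surjective m
    rw [← Ideal.Quotient.mk_eq_mk, ← Submodule.Quotient.mk_smul, Ideal.Quotient.mk_eq_mk,
      smul_eq_mul, Ideal.Quotient.eq_zero_iff_mem] at hm
    exact Ideal.Quotient.eq_zero_iff_mem.mpr (h t hm)

/-- A sequence in the maximal ideal which is regular on the Gorenstein quotient `T/𝔞` cuts out a
Gorenstein quotient. -/
theorem gor_quot_sup_ofList (gs : List T) (hgs : ∀ g ∈ gs, g ∈ maximalIdeal T) :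
    ∀ (𝔞 : Ideal T), 𝔞 ≠ ⊤ → LocCoh.IsGorensteinLocalRing (T ⧸ 𝔞) → IsWeaklyRegular (T ⧸ 𝔞) gs →
      LocCoh.IsGorensteinLocalRing (T ⧸ (𝔞 ⊔ Ideal.ofList gs)) := by
  induction gs with
  | nil =>
    intro 𝔞 _ hG _
    exact gor_congr_ideal (by rw [Ideal.ofList_nil, sup_bot_eq]) hG
  | cons x gs ih =>
    intro 𝔞 h𝔞 hG hreg
    rw [isWeaklyRegular_cons_iff] at hreg
    have hx : x ∈ maximalIdeal T := hgs x List.mem_cons_self
    have hregx := (isSMulRegular_quotient_iff 𝔞 x).mp hreg.1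
    have hG' := (gor_sup_iff 𝔞 h𝔞 x hx hregx).mp hG
    have hreg' : IsWeaklyRegular (T ⧸ (𝔞 ⊔ Ideal.span {x})) gs :=
      ((quotSMulTopEquiv 𝔞 x).isWeaklyRegular_congr gs).mp hreg.2
    have := ih (fun g hg => hgs g (List.mem_cons_of_mem _ hg)) (𝔞 ⊔ Ideal.span {x})
      (sup_span_ne_top 𝔞 h𝔞 x hx) hG' hreg'
    exact gor_congr_ideal (by rw [Ideal.ofList_cons, sup_assoc]) this

/-- A Gorenstein local ring modulo a regular sequence is Gorenstein. -/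
theorem gor_quot_ofList (hG : LocCoh.IsGorensteinLocalRing T) (gs : List T)
    (hgs : ∀ g ∈ gs, g ∈ maximalIdeal T) (hreg : IsWeaklyRegular T gs) :
    LocCoh.IsGorensteinLocalRing (T ⧸ Ideal.ofList gs) := by
  have h1 : LocCoh.IsGorensteinLocalRing (T ⧸ (⊥ : Ideal T)) :=
    gor_of_ringEquiv (RingEquiv.quotientBot T).symm hG
  have h2 : IsWeaklyRegular (T ⧸ (⊥ : Ideal T)) gs :=
    ((Submodule.quotEquivOfEqBot (⊥ : Ideal T) rfl).isWeaklyRegular_congr gs).mpr hreg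
  exact gor_congr_ideal (by rw [bot_sup_eq]) (gor_quot_sup_ofList gs hgs ⊥ bot_ne_top h1 h2)

/-- Zero-dimensional case: a quotient of a zero-dimensional Gorenstein local ring by the
annihilator of an element is Gorenstein. -/
theorem gor_quot_colon_of_dim_zero (𝔞 : Ideal T) (f : T) (hf : f ∉ 𝔞)
    (hG : LocCoh.IsGorensteinLocalRing (T ⧸ 𝔞)) (h0 : ringKrullDim (T ⧸ 𝔞) = 0) :
    LocCoh.IsGorensteinLocalRing (T ⧸ 𝔞.colon {f}) := by
  have hJtop := colon_singleton_ne_top 𝔞 f hf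
  have h𝔞J := le_colon_singleton 𝔞 f
  have hlocA : IsLocalRing (T ⧸ 𝔞) := hG.toIsLocalRing
  have hlocC := isLocalRing_quotient (𝔞.colon {f}) hJtop
  have hdimC : ringKrullDim (T ⧸ 𝔞.colon {f}) = 0 := by
    apply le_antisymm
    · rw [← h0]
      exact ringKrullDim_le_of_surjective (Ideal.Quotient.factor h𝔞J)
        (Ideal.Quotient.factor_surjective h𝔞J)
    · exact ringKrullDim_nonneg_of_nontrivial
  rw [Groth.Agent.Lib.Helper16.GorFlat.isGorenstein_iff_of_dim_zero _ hdimC,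
    Module.length_eq_one_iff]
  have hA := (Groth.Agent.Lib.Helper16.GorFlat.isGorenstein_iff_of_dim_zero _ h0).mp hG
  rw [Module.length_eq_one_iff] at hA
  have hnt : Nontrivial (LocCoh.torsionBy (maximalIdeal (T ⧸ 𝔞.colon {f})) (T ⧸ 𝔞.colon {f})) := by
    have hdep : LocCoh.depth (T ⧸ 𝔞.colon {f}) (T ⧸ 𝔞.colon {f}) = 0 := by
      have h1 := Groth.Agent.Lib.Helper18.CM.depth_le_supportDim (R := T ⧸ 𝔞.colon {f})
        (T ⧸ 𝔞.colon {f})
      rw [Module.supportDim_self_eq_ringKrullDim, hdimC] at h1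
      have h2 : LocCoh.depth (T ⧸ 𝔞.colon {f}) (T ⧸ 𝔞.colon {f}) ≤ 0 := by exact_mod_cast h1
      exact le_antisymm h2 zero_le
    have := (Groth.Agent.Lib.Helper16.GorFlat.depth_eq_zero_iff_length_socle_ne_zero
      (T ⧸ 𝔞.colon {f})).mp hdep
    rwa [Ne, Module.length_eq_zero_iff, not_subsingleton_iff_nontrivial] at this
  have key : ∀ s : T, Ideal.Quotient.mk (𝔞.colon {f}) s ∈
      LocCoh.torsionBy (maximalIdeal (T ⧸ 𝔞.colon {f})) (T ⧸ 𝔞.colon {f}) →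
      Ideal.Quotient.mk 𝔞 (s * f) ∈ LocCoh.torsionBy (maximalIdeal (T ⧸ 𝔞)) (T ⧸ 𝔞) := by
    intro s hs
    rw [Submodule.mem_torsionBySet_iff] at hs ⊢
    rintro ⟨a, ha⟩
    obtain ⟨r, rfl⟩ := Ideal.Quotient.mk_surjective a
    have hr : r ∈ maximalIdeal T := (mk_mem_maximalIdeal_iff 𝔞 r).mp ha
    have hrJ : Ideal.Quotient.mk (𝔞.colon {f}) r ∈ maximalIdeal (T ⧸ 𝔞.colon {f}) :=
      (mk_mem_maximalIdeal_iff _ r).mpr hr
    have h1 := hs ⟨_, hrJ⟩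
    change Ideal.Quotient.mk (𝔞.colon {f}) r • Ideal.Quotient.mk (𝔞.colon {f}) s = 0 at h1
    rw [smul_eq_mul, ← map_mul, Ideal.Quotient.eq_zero_iff_mem, mem_colon_singleton'] at h1
    change Ideal.Quotient.mk 𝔞 r • Ideal.Quotient.mk 𝔞 (s * f) = 0
    rw [smul_eq_mul, ← map_mul, Ideal.Quotient.eq_zero_iff_mem, ← mul_assoc]
    exact h1
  rw [isSimpleModule_iff_toSpanSingleton_surjective]
  refine ⟨hnt, ?_⟩
  rintro ⟨c, hc⟩ hc0 ⟨c', hc'⟩
  obtain ⟨t, rfl⟩ := Ideal.Quotient.mk_surjective c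
  obtain ⟨t', rfl⟩ := Ideal.Quotient.mk_surjective c'
  have hu0 : (⟨_, key t hc⟩ : LocCoh.torsionBy (maximalIdeal (T ⧸ 𝔞)) (T ⧸ 𝔞)) ≠ 0 := by
    intro h
    apply hc0
    have h1 : Ideal.Quotient.mk 𝔞 (t * f) = 0 := congrArg Subtype.val h
    rw [Ideal.Quotient.eq_zero_iff_mem, ← mem_colon_singleton'] at h1
    exact Subtype.ext (Ideal.Quotient.eq_zero_iff_mem.mpr h1)
  obtain ⟨a, ha⟩ := hA.toSpanSingleton_surjective (T ⧸ 𝔞) hu0 ⟨_, key t' hc'⟩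
  obtain ⟨r, rfl⟩ := Ideal.Quotient.mk_surjective a
  refine ⟨Ideal.Quotient.mk (𝔞.colon {f}) r, ?_⟩
  apply Subtype.ext
  have h1 : Ideal.Quotient.mk 𝔞 r • Ideal.Quotient.mk 𝔞 (t * f) = Ideal.Quotient.mk 𝔞 (t' * f) :=
    congrArg Subtype.val ha
  rw [smul_eq_mul, ← map_mul, Ideal.Quotient.eq, ← mul_assoc, ← sub_mul,
    ← mem_colon_singleton'] at h1
  change Ideal.Quotient.mk (𝔞.colon {f}) r • Ideal.Quotient.mk (𝔞.colon {f}) t =
    Ideal.Quotient.mk (𝔞.colon {f}) t'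
  rw [smul_eq_mul, ← map_mul, Ideal.Quotient.eq]
  exact h1

theorem colon_sup_span (𝔞 : Ideal T) (f x : T)
    (hreg : ∀ t, x * t ∈ 𝔞 ⊔ Ideal.span {f} → t ∈ 𝔞 ⊔ Ideal.span {f}) :
    (𝔞 ⊔ Ideal.span {x}).colon {f} = 𝔞.colon {f} ⊔ Ideal.span {x} := by
  apply le_antisymm
  · intro b hb
    rw [mem_colon_singleton'] at hb
    obtain ⟨a, ha, y, hy, hay⟩ := Submodule.mem_sup.mp hb
    obtain ⟨t, rfl⟩ := Ideal.mem_span_singleton'.mp hy
    have h1 : x * t ∈ 𝔞 ⊔ Ideal.span {f} := by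
      have : x * t = b * f - a := by rw [← hay]; ring
      rw [this]
      exact Ideal.sub_mem _ (Ideal.mem_sup_right (Ideal.mul_mem_left _ _
        (Ideal.mem_span_singleton_self f))) (Ideal.mem_sup_left ha)
    obtain ⟨a', ha', z, hz, haz⟩ := Submodule.mem_sup.mp (hreg t h1)
    obtain ⟨s, rfl⟩ := Ideal.mem_span_singleton'.mp hz
    have h2 : b - x * s ∈ 𝔞.colon {f} := by
      rw [mem_colon_singleton']
      have : (b - x * s) * f = a + x * a' := by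
        have e1 : t = a' + s * f := haz.symm
        have e2 : b * f = a + t * x := hay.symm
        rw [sub_mul, e2, e1]
        ring
      rw [this]
      exact 𝔞.add_mem ha (𝔞.mul_mem_left x ha')
    have : b = (b - x * s) + s * x := by ring
    rw [this]
    exact Ideal.add_mem _ (Ideal.mem_sup_left h2)
      (Ideal.mem_sup_right (Ideal.mul_mem_left _ _ (Ideal.mem_span_singleton_self x)))
  · apply sup_le
    · intro b hb
      rw [mem_colon_singleton'] at hb ⊢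
      exact Ideal.mem_sup_left hb
    · rw [Ideal.span_le, Set.singleton_subset_iff, SetLike.mem_coe, mem_colon_singleton']
      exact Ideal.mem_sup_right (Ideal.mul_mem_right _ _ (Ideal.mem_span_singleton_self x))

theorem notMem_sup_span (𝔞 : Ideal T) (f x : T) (hf : f ∉ 𝔞) (hx : x ∈ maximalIdeal T)
    (hreg : ∀ t, x * t ∈ 𝔞 ⊔ Ideal.span {f} → t ∈ 𝔞 ⊔ Ideal.span {f}) :
    f ∉ 𝔞 ⊔ Ideal.span {x} := by
  intro hmem
  apply hf
  obtain ⟨a, ha, y, hy, hay⟩ := Submodule.mem_sup.mp hmem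
  obtain ⟨t, rfl⟩ := Ideal.mem_span_singleton'.mp hy
  have h1 : x * t ∈ 𝔞 ⊔ Ideal.span {f} := by
    have : x * t = f - a := by rw [← hay]; ring
    rw [this]
    exact Ideal.sub_mem _ (Ideal.mem_sup_right (Ideal.mem_span_singleton_self f))
      (Ideal.mem_sup_left ha)
  obtain ⟨a', ha', z, hz, haz⟩ := Submodule.mem_sup.mp (hreg t h1)
  obtain ⟨s, rfl⟩ := Ideal.mem_span_singleton'.mp hz
  have h2 : f * (1 - x * s) ∈ 𝔞 := by
    have : f * (1 - x * s) = a + x * a' := by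
      have e1 : t = a' + s * f := haz.symm
      have e2 : f = a + t * x := hay.symm
      calc f * (1 - x * s) = f - x * s * f := by ring
        _ = a + t * x - x * s * f := by rw [← e2]
        _ = a + x * a' := by rw [e1]; ring
    rw [this]
    exact 𝔞.add_mem ha (𝔞.mul_mem_left x ha')
  have hunit : IsUnit (1 - x * s) := by
    by_contra hnu
    have h3 : 1 - x * s ∈ maximalIdeal T := (IsLocalRing.mem_maximalIdeal _).mpr hnu
    have h4 : (1 : T) ∈ maximalIdeal T := by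
      have : (1 : T) = (1 - x * s) + x * s := by ring
      rw [this]
      exact Ideal.add_mem _ h3 (Ideal.mul_mem_right _ _ hx)
    exact (maximalIdeal.isMaximal T).ne_top ((Ideal.eq_top_iff_one _).mpr h4)
  obtain ⟨u, hu⟩ := hunit
  have : f = f * (1 - x * s) * (u⁻¹ : Tˣ) := by
    rw [← hu, mul_assoc, Units.mul_inv, mul_one]
  rw [this]
  exact 𝔞.mul_mem_right _ h2

theorem isWeaklyRegular_congr_ideal {𝔞 𝔟 : Ideal T} (h : 𝔞 = 𝔟) (xs : List T)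
    (hreg : IsWeaklyRegular (T ⧸ 𝔞) xs) : IsWeaklyRegular (T ⧸ 𝔟) xs := by
  subst h
  exact hreg

theorem ringKrullDim_congr_ideal {𝔞 𝔟 : Ideal T} (h : 𝔞 = 𝔟) :
    ringKrullDim (T ⧸ 𝔞) = ringKrullDim (T ⧸ 𝔟) := by
  subst h
  rfl

/-- Main local theorem: let `T/𝔞` be Gorenstein local, `f ∉ 𝔞`, and `xs` a sequence in the maximal
ideal, regular on `T/𝔞` and on `T/(𝔞 + fT)`, cutting `T/𝔞` down to dimension zero.  Then
`T/(𝔞 : f)` is Gorenstein. -/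
theorem gor_quot_colon (xs : List T) (hxs : ∀ x ∈ xs, x ∈ maximalIdeal T) :
    ∀ (𝔞 : Ideal T) (f : T), f ∉ 𝔞 → LocCoh.IsGorensteinLocalRing (T ⧸ 𝔞) →
      IsWeaklyRegular (T ⧸ 𝔞) xs → IsWeaklyRegular (T ⧸ (𝔞 ⊔ Ideal.span {f})) xs →
      ringKrullDim (T ⧸ (𝔞 ⊔ Ideal.ofList xs)) = 0 →
      LocCoh.IsGorensteinLocalRing (T ⧸ 𝔞.colon {f}) := by
  induction xs with
  | nil =>
    intro 𝔞 f hf hG _ _ h0
    rw [ringKrullDim_congr_ideal (show 𝔞 ⊔ Ideal.ofList ([] : List T) = 𝔞 by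
      rw [Ideal.ofList_nil, sup_bot_eq])] at h0
    exact gor_quot_colon_of_dim_zero 𝔞 f hf hG h0
  | cons x xs ih =>
    intro 𝔞 f hf hG hreg1 hreg2 h0
    rw [isWeaklyRegular_cons_iff] at hreg1 hreg2
    have hx : x ∈ maximalIdeal T := hxs x List.mem_cons_self
    have h𝔞 : 𝔞 ≠ ⊤ := fun h => hf (h ▸ Submodule.mem_top)
    have hregx := (isSMulRegular_quotient_iff 𝔞 x).mp hreg1.1
    have hregx2 := (isSMulRegular_quotient_iff _ x).mp hreg2.1
    have hf' := notMem_sup_span 𝔞 f x hf hx hregx2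
    have hG' := (gor_sup_iff 𝔞 h𝔞 x hx hregx).mp hG
    have hreg1' : IsWeaklyRegular (T ⧸ (𝔞 ⊔ Ideal.span {x})) xs :=
      ((quotSMulTopEquiv 𝔞 x).isWeaklyRegular_congr xs).mp hreg1.2
    have hreg2' : IsWeaklyRegular (T ⧸ (𝔞 ⊔ Ideal.span {x} ⊔ Ideal.span {f})) xs :=
      isWeaklyRegular_congr_ideal (sup_right_comm _ _ _) xs
        (((quotSMulTopEquiv (𝔞 ⊔ Ideal.span {f}) x).isWeaklyRegular_congr xs).mp hreg2.2)
    have h0' : ringKrullDim (T ⧸ (𝔞 ⊔ Ideal.span {x} ⊔ Ideal.ofList xs)) = 0 := by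
      rw [← h0]
      exact ringKrullDim_congr_ideal (by rw [Ideal.ofList_cons, sup_assoc])
    have h1 := ih (fun y hy => hxs y (List.mem_cons_of_mem _ hy)) (𝔞 ⊔ Ideal.span {x}) f hf' hG'
      hreg1' hreg2' h0'
    rw [gor_sup_iff (𝔞.colon {f}) (colon_singleton_ne_top 𝔞 f hf) x hx]
    · exact gor_congr_ideal (colon_sup_span 𝔞 f x hregx2) h1
    · intro t ht
      rw [mem_colon_singleton'] at ht ⊢
      apply hregx
      rw [← mul_assoc]
      exact ht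

end cut

section cm

open Groth.Agent.Lib.Helper18.CM Groth.Agent.Lib.Helper16.Depth

variable {T : Type u} [CommRing T] [IsLocalRing T] [IsNoetherianRing T]

theorem ideal_smul_top_eq_map (𝔞 I : Ideal T) :
    (I • ⊤ : Submodule T (T ⧸ 𝔞)) = Submodule.map (Submodule.mkQ 𝔞) I := by
  have : (I • ⊤ : Submodule T T) = I := by rw [smul_eq_mul, Ideal.mul_top]
  conv_rhs => rw [← this]
  rw [Submodule.map_smul'', Submodule.map_top, Submodule.range_mkQ]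

/-- `(T/𝔞)/I(T/𝔞) ≃ T/(𝔞 + I)` as `T`-modules. -/
noncomputable def quotSMulTopIdealEquiv (𝔞 I : Ideal T) :
    ((T ⧸ 𝔞) ⧸ (I • ⊤ : Submodule T (T ⧸ 𝔞))) ≃ₗ[T] T ⧸ (𝔞 ⊔ I) :=
  (Submodule.quotEquivOfEq _ _ (ideal_smul_top_eq_map 𝔞 I)).trans
    (Submodule.quotientQuotientEquivQuotientSup 𝔞 I)

theorem cm_module_of_cm_ring (𝔟 : Ideal T) (h : LocCoh.IsCohenMacaulayLocalRing (T ⧸ 𝔟)) :
    LocCoh.IsCohenMacaulayModule T (T ⧸ 𝔟) := by
  have : IsLocalRing (T ⧸ 𝔟) := h.toIsLocalRing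
  have hloc : IsLocalHom (algebraMap T (T ⧸ 𝔟)) :=
    IsLocalHom.of_surjective _ Ideal.Quotient.mk_surjective
  unfold LocCoh.IsCohenMacaulayModule
  rw [depth_eq_of_finite (A := T) (B := T ⧸ 𝔟) (T ⧸ 𝔟),
    Module.supportDim_quotient_eq_ringKrullDim]
  have h1 := h.supportDim_eq_depth
  rwa [Module.supportDim_self_eq_ringKrullDim] at h1

theorem supportDim_quot_le_of_le (𝔞 𝔟 I : Ideal T) (h : 𝔞 ≤ 𝔟) :
    Module.supportDim T ((T ⧸ 𝔟) ⧸ (I • ⊤ : Submodule T (T ⧸ 𝔟))) ≤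
      Module.supportDim T ((T ⧸ 𝔞) ⧸ (I • ⊤ : Submodule T (T ⧸ 𝔞))) := by
  have h1 : Module.support T ((T ⧸ 𝔟) ⧸ (I • ⊤ : Submodule T (T ⧸ 𝔟))) ⊆
      Module.support T ((T ⧸ 𝔞) ⧸ (I • ⊤ : Submodule T (T ⧸ 𝔞))) := by
    rw [Module.support_quotient, Module.support_quotient]
    intro p hp
    refine ⟨?_, hp.2⟩
    have h2 := hp.1
    rw [Module.support_eq_zeroLocus, Ideal.annihilator_quotient] at h2 ⊢
    exact PrimeSpectrum.zeroLocus_anti_mono h h2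
  exact Order.krullDim_le_of_strictMono (fun a => ⟨a.1, h1 a.2⟩) (fun {_ _} lt => lt)

/-- A sequence regular on the Cohen–Macaulay quotient `T/𝔞` is regular on every Cohen–Macaulay
quotient `T/𝔟` with `𝔞 ≤ 𝔟` of the same dimension. -/
theorem isWeaklyRegular_of_cm_of_le (𝔞 𝔟 : Ideal T) (h𝔞𝔟 : 𝔞 ≤ 𝔟)
    (hN : LocCoh.IsCohenMacaulayModule T (T ⧸ 𝔞)) (hM : LocCoh.IsCohenMacaulayModule T (T ⧸ 𝔟))
    (hdim : ringKrullDim (T ⧸ 𝔟) = ringKrullDim (T ⧸ 𝔞))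
    (xs : List T) (hxs : ∀ x ∈ xs, x ∈ maximalIdeal T) (hreg : IsWeaklyRegular (T ⧸ 𝔞) xs) :
    IsWeaklyRegular (T ⧸ 𝔟) xs := by
  have h1 := ((isWeaklyRegular_iff_supportDim_and_isCohenMacaulayModule xs hxs (T ⧸ 𝔞) hN).1).mp
    hreg
  rw [(isWeaklyRegular_iff_supportDim_and_isCohenMacaulayModule xs hxs (T ⧸ 𝔟) hM).1]
  apply le_antisymm
  · rw [Module.supportDim_quotient_eq_ringKrullDim, hdim,
      ← Module.supportDim_quotient_eq_ringKrullDim, ← h1]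
    exact add_le_add_left (supportDim_quot_le_of_le 𝔞 𝔟 (Ideal.ofList xs) h𝔞𝔟) _
  · exact supportDim_le_quot_ofList_add_length xs hxs (T ⧸ 𝔟)

/-- Let `T/𝔞` be Gorenstein local and `f ∉ 𝔞` with `T/(𝔞 + fT)` Cohen–Macaulay of the same
dimension as `T/𝔞`.  Then `T/(𝔞 : f)` is Gorenstein. -/
theorem gor_quot_colon_of_cm (𝔞 : Ideal T) (f : T) (hf : f ∉ 𝔞)
    (hG : LocCoh.IsGorensteinLocalRing (T ⧸ 𝔞))
    (hCM : LocCoh.IsCohenMacaulayLocalRing (T ⧸ (𝔞 ⊔ Ideal.span {f})))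
    (hdim : ringKrullDim (T ⧸ (𝔞 ⊔ Ideal.span {f})) = ringKrullDim (T ⧸ 𝔞)) :
    LocCoh.IsGorensteinLocalRing (T ⧸ 𝔞.colon {f}) := by
  have hCMA : LocCoh.IsCohenMacaulayLocalRing (T ⧸ 𝔞) :=
    Groth.Agent.Lib.Helper11.GorCM.isCohenMacaulayLocalRing_of_gorenstein (T ⧸ 𝔞)
  have hN := cm_module_of_cm_ring 𝔞 hCMA
  have hM := cm_module_of_cm_ring _ hCM
  have hloc : IsLocalRing (T ⧸ 𝔞) := hG.toIsLocalRing
  obtain ⟨d, hd⟩ := exists_nat_eq_supportDim (R := T) (T ⧸ 𝔞)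
  have hdep : LocCoh.depth T (T ⧸ 𝔞) = d := by
    unfold LocCoh.IsCohenMacaulayModule at hN
    rw [hd] at hN
    exact_mod_cast hN.symm
  obtain ⟨xs, hlen, hreg, hxs⟩ : HasRegSeq (maximalIdeal T) (T ⧸ 𝔞) d := by
    have h1 : (d : ℕ∞) ≤ LocCoh.idealDepth (maximalIdeal T) (T ⧸ 𝔞) := by
      change (d : ℕ∞) ≤ LocCoh.depth T (T ⧸ 𝔞)
      rw [hdep]
    exact ((le_idealDepth_iff (maximalIdeal T) (T ⧸ 𝔞) d).mp h1).resolve_left
      (maximalIdeal_smul_top_ne_top (T ⧸ 𝔞))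
  have hreg2 := isWeaklyRegular_of_cm_of_le 𝔞 _ le_sup_left hN hM hdim xs hxs hreg
  have h0 : ringKrullDim (T ⧸ (𝔞 ⊔ Ideal.ofList xs)) = 0 := by
    have h1 := ((isWeaklyRegular_iff_supportDim_and_isCohenMacaulayModule xs hxs (T ⧸ 𝔞)
      hN).1).mp hreg
    have hnt := nontrivial_quot_ofList xs hxs (T ⧸ 𝔞)
    obtain ⟨e, he⟩ := exists_nat_eq_supportDim (R := T)
      ((T ⧸ 𝔞) ⧸ (Ideal.ofList xs • ⊤ : Submodule T (T ⧸ 𝔞)))
    rw [← Module.supportDim_quotient_eq_ringKrullDim,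
      ← Module.supportDim_eq_of_equiv (quotSMulTopIdealEquiv 𝔞 (Ideal.ofList xs)), he]
    rw [hd, hlen, he] at h1
    have h2 : e + d = d := by exact_mod_cast h1
    have h3 : e = 0 := by omega
    rw [h3]
    rfl
  exact gor_quot_colon xs hxs 𝔞 f hf hG hreg hreg2 h0

end cm

end Groth.Agent.Lib.Helper16.GorQuot
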