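import Groth.Agent.Lib.Helper16.Liaison4
import Groth.Agent.Lib.Helper16.GorQuot
import Groth.Agent.Lib.Helper16.CMLocalRing
import Groth.Agent.Lib.Helper18.SerreNormal
import Groth.Agent.Lib.Helper18.SerreReg2

/-!
# Liaison V: the link of an almost complete intersection is Gorenstein (helper16)

* locQuotEquiv : (R/b)_q = R_Q/bR_Q.  map_colon_singleton : colon by an element commutes with localization.
* height_map_localization_eq, add_ringKrullDim_quot_map : dimension of R_Q/bR_Q.
* gor_quot_map_span_range, isGorensteinRing_quot_span_range : complete intersections in regular rings are Gorenstein.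
* height_eq_of_mem_minimalPrimes_cm : homogeneous ideals with Cohen-Macaulay quotient are unmixed.
* linked_aci_gorenstein : R/(c : I) is Gorenstein for I = c + (f) with R/I Cohen-Macaulay of the same codimension.
-/

set_option autoImplicit false
set_option linter.unusedSectionVars false
universe u
open IsLocalRing MvPolynomial

namespace Groth.Agent.Lib.Helper16.Liaison

section general

variable {R : Type u} [CommRing R]

/-- `(R/𝔟)_q ≃ R_Q/𝔟R_Q` for `Q` the preimage of `q`. -/
noncomputable def locQuotEquiv (𝔟 : Ideal R) (q : Ideal (R ⧸ 𝔟)) [q.IsPrime] (Q : Ideal R)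
    [Q.IsPrime] (hQ : Q = q.comap (Ideal.Quotient.mk 𝔟)) :
    Localization.AtPrime q ≃+*
      (Localization.AtPrime Q ⧸ 𝔟.map (algebraMap R (Localization.AtPrime Q))) := by
  have h1 : q.primeCompl = Algebra.algebraMapSubmonoid (R ⧸ 𝔟) Q.primeCompl := by
    ext x
    constructor
    · intro hx
      obtain ⟨r, rfl⟩ := Ideal.Quotient.mk_surjective x
      refine ⟨r, ?_, rfl⟩
      change r ∉ Q
      rw [hQ, Ideal.mem_comap]
      exact hx
    · rintro ⟨r, hr, rfl⟩
      change r ∉ Q at hr
      rw [hQ, Ideal.mem_comap] at hr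
      exact hr
  have h2 : IsLocalization q.primeCompl
      (Localization.AtPrime Q ⧸ 𝔟.map (algebraMap R (Localization.AtPrime Q))) := by
    rw [h1]
    infer_instance
  exact (IsLocalization.algEquiv q.primeCompl (Localization.AtPrime q)
    (Localization.AtPrime Q ⧸ 𝔟.map (algebraMap R (Localization.AtPrime Q)))).toRingEquiv

/-- colon by an element commutes with localization -/
theorem map_colon_singleton (M : Submonoid R) (S : Type u) [CommRing S] [Algebra R S]
    [IsLocalization M S] (𝔠 : Ideal R) (f : R) :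
    (𝔠.colon {f}).map (algebraMap R S) = (𝔠.map (algebraMap R S)).colon {algebraMap R S f} := by
  apply le_antisymm
  · rw [Ideal.map_le_iff_le_comap]
    intro r hr
    rw [Ideal.mem_comap, GorQuot.mem_colon_singleton', ← map_mul]
    exact Ideal.mem_map_of_mem _ ((GorQuot.mem_colon_singleton' 𝔠 f r).mp hr)
  · intro t ht
    rw [GorQuot.mem_colon_singleton'] at ht
    obtain ⟨r, s, rfl⟩ := IsLocalization.exists_mk'_eq M t
    have h1 : IsLocalization.mk' S r s * algebraMap R S f = IsLocalization.mk' S (r * f) s := by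
      rw [mul_comm r f, ← IsLocalization.mul_mk'_eq_mk'_of_mul, mul_comm]
    rw [h1, IsLocalization.mk'_mem_map_algebraMap_iff] at ht
    obtain ⟨m, hm, hmr⟩ := ht
    rw [IsLocalization.mk'_mem_map_algebraMap_iff]
    refine ⟨m, hm, ?_⟩
    rw [GorQuot.mem_colon_singleton', mul_assoc]
    exact hmr

theorem height_map_localization_eq (𝔟 : Ideal R) (Q : Ideal R) [Q.IsPrime] (h𝔟Q : 𝔟 ≤ Q)
    (c : ℕ∞) (h : ∀ P ∈ 𝔟.minimalPrimes, P.height = c) :
    (𝔟.map (algebraMap R (Localization.AtPrime Q))).height = c := by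
  apply le_antisymm
  · obtain ⟨P, hP, hPQ⟩ := Ideal.exists_minimalPrimes_le h𝔟Q
    have hPp : P.IsPrime := hP.1.1
    have hdisj : Disjoint (Q.primeCompl : Set R) (P : Set R) := by
      rw [Set.disjoint_left]
      intro x hx hxP
      exact hx (hPQ hxP)
    rw [← h P hP, ← IsLocalization.height_map_of_disjoint Q.primeCompl P hdisj
      (S := Localization.AtPrime Q)]
    exact Ideal.height_mono (Ideal.map_mono hP.1.2)
  · rw [← IsLocalization.height_under Q.primeCompl]
    have h1 : c ≤ 𝔟.height := by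
      rw [𝔟.height_eq_inf_minimalPrimes]
      exact le_iInf₂ fun P hP => (h P hP).ge
    exact h1.trans (Ideal.height_mono Ideal.le_comap_map)

theorem height_eq_of_mem_minimalPrimes_span_range [IsNoetherianRing R] (c : ℕ) (g : Fin c → R)
    (hc : (Ideal.span (Set.range g)).height = c) {P : Ideal R}
    (hP : P ∈ (Ideal.span (Set.range g)).minimalPrimes) : P.height = c := by
  classical
  apply le_antisymm
  · have hcoe : ((Finset.univ.image g : Finset R) : Set R) = Set.range g := by
      rw [Finset.coe_image, Finset.coe_univ, Set.image_univ]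
    have hP' : P ∈ (Ideal.span ((Finset.univ.image g : Finset R) : Set R)).minimalPrimes := by
      rw [hcoe]
      exact hP
    have h1 := Ideal.height_le_card_of_mem_minimalPrimes_span_finset hP'
    have h2 : (Finset.univ.image g).card ≤ c := by
      have := Finset.card_image_le (s := (Finset.univ : Finset (Fin c))) (f := g)
      rwa [Finset.card_univ, Fintype.card_fin] at this
    exact h1.trans (by exact_mod_cast h2)
  · rw [← hc]
    exact Ideal.height_mono hP.1.2

section loc

variable [IsNoetherianRing R] (Q : Ideal R) [Q.IsPrime]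

theorem map_ne_top_of_le (𝔟 : Ideal R) (h𝔟Q : 𝔟 ≤ Q) :
    𝔟.map (algebraMap R (Localization.AtPrime Q)) ≠ ⊤ := by
  intro h
  have h1 : 𝔟.map (algebraMap R (Localization.AtPrime Q)) ≤ maximalIdeal (Localization.AtPrime Q) := by
    rw [← Localization.AtPrime.map_eq_maximalIdeal]
    exact Ideal.map_mono h𝔟Q
  rw [h] at h1
  exact (maximalIdeal.isMaximal _).ne_top (top_le_iff.mp h1)

/-- `c + dim R_Q/𝔟R_Q = dim R_Q` when `R_Q` is Cohen–Macaulay and all minimal primes of `𝔟` have
height `c`. -/
theorem add_ringKrullDim_quot_map (hCM : LocCoh.IsCohenMacaulayLocalRing (Localization.AtPrime Q))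
    (𝔟 : Ideal R) (h𝔟Q : 𝔟 ≤ Q) (c : ℕ) (h : ∀ P ∈ 𝔟.minimalPrimes, P.height = c) :
    (c : WithBot ℕ∞) +
      ringKrullDim (Localization.AtPrime Q ⧸ 𝔟.map (algebraMap R (Localization.AtPrime Q))) =
      ringKrullDim (Localization.AtPrime Q) := by
  have h1 := CMHt.height_add_ringKrullDim_quotient (Localization.AtPrime Q) hCM.supportDim_eq_depth
    (𝔟.map (algebraMap R (Localization.AtPrime Q))) (map_ne_top_of_le Q 𝔟 h𝔟Q)
  rw [height_map_localization_eq 𝔟 Q h𝔟Q c h] at h1
  exact h1

open RingTheory.Sequence Groth.Agent.Lib.Helper18.CM in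
/-- A complete intersection in a Gorenstein localization is Gorenstein. -/
theorem gor_quot_map_span_range (hG : LocCoh.IsGorensteinLocalRing (Localization.AtPrime Q))
    (c : ℕ) (g : Fin c → R) (hgQ : Ideal.span (Set.range g) ≤ Q)
    (hc : (Ideal.span (Set.range g)).height = c) :
    LocCoh.IsGorensteinLocalRing (Localization.AtPrime Q ⧸
      (Ideal.span (Set.range g)).map (algebraMap R (Localization.AtPrime Q))) := by
  have hCM : LocCoh.IsCohenMacaulayLocalRing (Localization.AtPrime Q) :=
    Groth.Agent.Lib.Helper11.GorCM.isCohenMacaulayLocalRing_of_gorenstein _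
  set gs : List (Localization.AtPrime Q) :=
    List.ofFn (fun i => algebraMap R (Localization.AtPrime Q) (g i)) with hgsdef
  have hgs : ∀ x ∈ gs, x ∈ maximalIdeal (Localization.AtPrime Q) := by
    intro x hx
    rw [hgsdef, List.mem_ofFn] at hx
    obtain ⟨i, rfl⟩ := hx
    rw [IsLocalization.AtPrime.to_map_mem_maximal_iff (Localization.AtPrime Q) Q]
    exact hgQ (Ideal.subset_span ⟨i, rfl⟩)
  have hofList : Ideal.ofList gs =
      (Ideal.span (Set.range g)).map (algebraMap R (Localization.AtPrime Q)) := by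
    rw [Ideal.map_span, Ideal.ofList]
    congr 1
    ext x
    simp only [Set.mem_ofPred_eq, hgsdef, List.mem_ofFn, Set.mem_image, Set.mem_range,
      exists_exists_eq_and]
  have hdim := add_ringKrullDim_quot_map Q hCM _ hgQ c
    (fun P hP => height_eq_of_mem_minimalPrimes_span_range c g hc hP)
  have hreg : IsWeaklyRegular (Localization.AtPrime Q) gs := by
    rw [(isWeaklyRegular_iff_supportDim_and_isCohenMacaulayModule gs hgs (Localization.AtPrime Q)
      hCM.supportDim_eq_depth).1]
    have e : ((Localization.AtPrime Q) ⧸ (Ideal.ofList gs • ⊤ :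
        Submodule (Localization.AtPrime Q) (Localization.AtPrime Q))) ≃ₗ[Localization.AtPrime Q]
        ((Localization.AtPrime Q) ⧸ Ideal.ofList gs) :=
      Submodule.quotEquivOfEq _ _ (by rw [smul_eq_mul, Ideal.mul_top])
    rw [Module.supportDim_eq_of_equiv e, Module.supportDim_quotient_eq_ringKrullDim,
      Module.supportDim_self_eq_ringKrullDim, hgsdef, List.length_ofFn, ← hgsdef, ← hdim, add_comm,
      GorQuot.ringKrullDim_congr_ideal hofList]
  exact GorQuot.gor_congr_ideal hofList (GorQuot.gor_quot_ofList hG gs hgs hreg)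

end loc

/-- The quotient of a regular ring by an ideal of height `c` generated by `c` elements is a
Gorenstein ring. -/
theorem isGorensteinRing_quot_span_range [IsRegularRing R] (c : ℕ) (g : Fin c → R)
    (hc : (Ideal.span (Set.range g)).height = c) :
    LocCoh.IsGorensteinRing (R ⧸ Ideal.span (Set.range g)) where
  isGorensteinLocalRing_localization q hq := by
    have hQ : (q.comap (Ideal.Quotient.mk (Ideal.span (Set.range g)))).IsPrime :=
      Ideal.comap_isPrime _ _
    have hgQ : Ideal.span (Set.range g) ≤ q.comap (Ideal.Quotient.mk (Ideal.span (Set.range g))) := by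
      intro x hx
      rw [Ideal.mem_comap, Ideal.Quotient.eq_zero_iff_mem.mpr hx]
      exact zero_mem _
    have hG := RegGor.isGorensteinLocalRing_of_isRegularLocalRing
      (Localization.AtPrime (q.comap (Ideal.Quotient.mk (Ideal.span (Set.range g)))))
    exact Groth.Agent.Lib.Helper2.GK.gor_of_ringEquiv (locQuotEquiv _ q _ rfl).symm
      (gor_quot_map_span_range _ hG c g hgQ hc)

end general

section heightcm

variable (K : Type u) [Field K]
variable (R : Type u) [CommRing R] [IsDomain R] [IsRegularRing R] [Algebra K R]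
  [Algebra.FiniteType K R]

include K in
/-- Cohen–Macaulay version of `height_add_eq_of_mem_minimalPrimes`. -/
theorem height_add_eq_of_mem_minimalPrimes_cm (𝔠 : Ideal R)
    (m : Ideal R) [hm : m.IsMaximal] {P : Ideal R} (hP : P ∈ 𝔠.minimalPrimes) (hPm : P ≤ m)
    [hmprime : (m.map (Ideal.Quotient.mk 𝔠)).IsPrime]
    (hCM : LocCoh.IsCohenMacaulayLocalRing (Localization.AtPrime (m.map (Ideal.Quotient.mk 𝔠)))) :
    ((P.height : ℕ∞) : WithBot ℕ∞) +
      ringKrullDim (Localization.AtPrime (m.map (Ideal.Quotient.mk 𝔠))) = ringKrullDim R := by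
  have hPp : P.IsPrime := hP.1.1
  have h𝔠P : 𝔠 ≤ P := hP.1.2
  have hsurj : Function.Surjective (Ideal.Quotient.mk 𝔠) := Ideal.Quotient.mk_surjective
  have : Algebra.FiniteType K (R ⧸ 𝔠) :=
    Algebra.FiniteType.of_surjective (Ideal.Quotient.mkₐ K 𝔠) (Ideal.Quotient.mkₐ_surjective K 𝔠)
  have hnoe : IsNoetherianRing R := inferInstance
  have hpprime : (P.map (Ideal.Quotient.mk 𝔠)).IsPrime :=
    Ideal.map_isPrime_of_surjective hsurj (by rwa [Ideal.mk_ker])
  have hmbmax : (m.map (Ideal.Quotient.mk 𝔠)).IsMaximal :=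
    (Ideal.map_eq_top_or_isMaximal_of_surjective _ hsurj hm).resolve_left hmprime.ne_top
  have hpmb : P.map (Ideal.Quotient.mk 𝔠) ≤ m.map (Ideal.Quotient.mk 𝔠) := Ideal.map_mono hPm
  have hpmin : P.map (Ideal.Quotient.mk 𝔠) ∈ minimalPrimes (R ⧸ 𝔠) := by
    have h1 := Ideal.minimalPrimes_map_of_surjective hsurj 𝔠
    rw [Ideal.mk_ker, sup_idem, Ideal.map_quotient_self] at h1
    change P.map (Ideal.Quotient.mk 𝔠) ∈ (⊥ : Ideal (R ⧸ 𝔠)).minimalPrimes
    rw [h1]
    exact ⟨P, hP, rfl⟩
  have e1 : ringKrullDim (R ⧸ P) = ringKrullDim ((R ⧸ 𝔠) ⧸ P.map (Ideal.Quotient.mk 𝔠)) :=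
    (ringKrullDim_eq_of_ringEquiv (DoubleQuot.quotQuotEquivQuotOfLE h𝔠P)).symm
  have e2 := height_map_mk_eq_ringKrullDim_of_isMaximal K (R ⧸ 𝔠) (P.map (Ideal.Quotient.mk 𝔠))
    (m.map (Ideal.Quotient.mk 𝔠)) hpmb
  have e3 := Depth.ringKrullDim_localization_quotient_map (P.map (Ideal.Quotient.mk 𝔠))
    (m.map (Ideal.Quotient.mk 𝔠)) hpmb
  have hminloc : (P.map (Ideal.Quotient.mk 𝔠)).map
      (algebraMap (R ⧸ 𝔠) (Localization.AtPrime (m.map (Ideal.Quotient.mk 𝔠)))) ∈
      minimalPrimes (Localization.AtPrime (m.map (Ideal.Quotient.mk 𝔠))) := by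
    have h2 := IsLocalization.minimalPrimes_map (m.map (Ideal.Quotient.mk 𝔠)).primeCompl
      (Localization.AtPrime (m.map (Ideal.Quotient.mk 𝔠))) (⊥ : Ideal (R ⧸ 𝔠))
    rw [Ideal.map_bot] at h2
    change _ ∈ (⊥ : Ideal (Localization.AtPrime (m.map (Ideal.Quotient.mk 𝔠)))).minimalPrimes
    rw [h2, Set.mem_preimage]
    have hdisj : Disjoint ((m.map (Ideal.Quotient.mk 𝔠)).primeCompl : Set (R ⧸ 𝔠))
        (P.map (Ideal.Quotient.mk 𝔠) : Set (R ⧸ 𝔠)) := by
      rw [Set.disjoint_left]
      intro x hx hx0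
      exact hx (hpmb hx0)
    have h3 := IsLocalization.under_map_of_isPrime_disjoint
      (m.map (Ideal.Quotient.mk 𝔠)).primeCompl
      (Localization.AtPrime (m.map (Ideal.Quotient.mk 𝔠))) hpprime hdisj
    rw [h3]
    exact hpmin
  have e4 := Groth.Agent.Lib.Helper18.CMCat.isEquidim_of_CM
    (Localization.AtPrime (m.map (Ideal.Quotient.mk 𝔠))) hCM.supportDim_eq_depth _ hminloc
  have e5 := Cat.height_eq_height_map_add R P m hPm
  have e6 := height_map_mk_eq_ringKrullDim_of_isMaximal K R P m hPm
  have e7 := Groth.Agent.Lib.Helper7.DimFT.height_eq_ringKrullDim_of_isMaximal K R m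
  rw [← e7, e5, ← e4, e3, e2, ← e1, ← e6]
  push_cast
  rw [add_comm]

end heightcm

section poly

variable {K : Type u} [Field K] {N : ℕ}

/-- For a homogeneous ideal `I` of the polynomial ring with Cohen–Macaulay quotient, all minimal
primes of `I` have height `ht I`. -/
theorem height_eq_of_mem_minimalPrimes_cm (I : Ideal (MvPolynomial (Fin N) K))
    (hI : I.IsHomogeneous (GrSyz.stdGr K (Fin N)))
    [hCMI : LocCoh.IsCohenMacaulayRing (MvPolynomial (Fin N) K ⧸ I)]
    {P : Ideal (MvPolynomial (Fin N) K)} (hP : P ∈ I.minimalPrimes) : P.height = I.height := by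
  have hItop : I ≠ ⊤ := fun h => hP.1.1.ne_top (top_le_iff.mp (h ▸ hP.1.2))
  have hIm : I ≤ irr K N := le_irr_of_isHomogeneous hI hItop
  have hmprime : ((irr K N).map (Ideal.Quotient.mk I)).IsPrime :=
    Ideal.map_isPrime_of_surjective Ideal.Quotient.mk_surjective (by rwa [Ideal.mk_ker])
  have hCM := hCMI.isCohenMacaulayLocalRing_localization ((irr K N).map (Ideal.Quotient.mk I))
  have key : ∀ Q ∈ I.minimalPrimes, Q.height = P.height := by
    intro Q hQ
    have h1 := height_add_eq_of_mem_minimalPrimes_cm K (MvPolynomial (Fin N) K) I (irr K N) hQ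
      (le_irr_of_mem_minimalPrimes hI hQ) hCM
    have h2 := height_add_eq_of_mem_minimalPrimes_cm K (MvPolynomial (Fin N) K) I (irr K N) hP
      (le_irr_of_mem_minimalPrimes hI hP) hCM
    obtain ⟨d, hd⟩ := Groth.Agent.Lib.Helper18.SerreReg.exists_ringKrullDim_eq_nat
      (Localization.AtPrime ((irr K N).map (Ideal.Quotient.mk I)))
    rw [hd] at h1 h2
    rw [← h2] at h1
    have h3 : ((Q.height + d : ℕ∞) : WithBot ℕ∞) = ((P.height + d : ℕ∞) : WithBot ℕ∞) := by
      push_cast
      exact h1
    have h4 : Q.height + (d : ℕ∞) = P.height + d := by exact_mod_cast h3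
    exact ENat.add_left_injective_of_ne_top (ENat.natCast_ne_top d) h4
  rw [I.height_eq_inf_minimalPrimes]
  apply le_antisymm
  · exact le_iInf₂ fun Q hQ => (key Q hQ).ge
  · exact iInf₂_le P hP

end poly

section transfer

theorem cm_of_ringEquiv {A B : Type u} [CommRing A] [CommRing B] (e : A ≃+* B)
    (h : LocCoh.IsCohenMacaulayLocalRing A) : LocCoh.IsCohenMacaulayLocalRing B := by
  have : IsNoetherianRing A := h.toIsNoetherian
  have : IsLocalRing A := h.toIsLocalRing
  have : IsNoetherianRing B := isNoetherianRing_of_ringEquiv A e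
  have : IsLocalRing B := e.isLocalRing
  refine { supportDim_eq_depth := ?_ }
  have h1 := h.supportDim_eq_depth
  rw [Module.supportDim_self_eq_ringKrullDim] at h1 ⊢
  rw [← ringKrullDim_eq_of_ringEquiv e, h1,
    Groth.Agent.Lib.Helper18.Serre.depth_self_eq_of_ringEquiv e]

end transfer

section main

variable {K : Type u} [Field K] {N : ℕ}

theorem colon_sup_span_singleton {R : Type u} [CommRing R] (𝔠 : Ideal R) (f : R) :
    𝔠.colon ((𝔠 ⊔ Ideal.span {f} : Ideal R) : Set R) = 𝔠.colon {f} := by
  ext r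
  rw [Submodule.mem_colon, GorQuot.mem_colon_singleton']
  constructor
  · intro h
    have := h f (Ideal.mem_sup_right (Ideal.mem_span_singleton_self f))
    rwa [smul_eq_mul] at this
  · intro h s hs
    obtain ⟨a, ha, y, hy, rfl⟩ := Submodule.mem_sup.mp hs
    obtain ⟨t, rfl⟩ := Ideal.mem_span_singleton'.mp hy
    rw [smul_eq_mul, mul_add]
    refine 𝔠.add_mem (𝔠.mul_mem_left r ha) ?_
    have : r * (t * f) = t * (r * f) := by ring
    rw [this]
    exact 𝔠.mul_mem_left t h

/-- Linkage of an almost complete intersection: if `𝔠` is a homogeneous complete intersection of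
height `c` and `I = 𝔠 + (f)` is homogeneous of height `c` with `R/I` Cohen–Macaulay, then
`R/(𝔠 : I)` is Gorenstein of codimension `c`. -/
theorem linked_aci_gorenstein (c : ℕ) (g : Fin c → MvPolynomial (Fin N) K)
    (f : MvPolynomial (Fin N) K) (𝔠 I : Ideal (MvPolynomial (Fin N) K))
    (h𝔠g : Ideal.span (Set.range g) = 𝔠)
    (h𝔠 : 𝔠.IsHomogeneous (GrSyz.stdGr K (Fin N))) (hI : I.IsHomogeneous (GrSyz.stdGr K (Fin N)))
    (h𝔠c : 𝔠.height = c) (hIc : I.height = c)
    [hCMI : LocCoh.IsCohenMacaulayRing (MvPolynomial (Fin N) K ⧸ I)]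
    (hlt : 𝔠 < I) (hIf : I = 𝔠 ⊔ Ideal.span {f}) :
    (𝔠.colon (I : Set (MvPolynomial (Fin N) K))).height = c ∧
      LocCoh.IsGorensteinRing
        (MvPolynomial (Fin N) K ⧸ 𝔠.colon (I : Set (MvPolynomial (Fin N) K))) := by
  subst h𝔠g
  have hG𝔠 : LocCoh.IsGorensteinRing (MvPolynomial (Fin N) K ⧸ Ideal.span (Set.range g)) :=
    isGorensteinRing_quot_span_range c g h𝔠c
  refine ⟨?_, ?_⟩
  · have := (colon_unmixed (Ideal.span (Set.range g)) I h𝔠 (not_le_of_gt hlt)).1
    rw [h𝔠c] at this
    exact this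
  have hcolon : (Ideal.span (Set.range g)).colon (I : Set (MvPolynomial (Fin N) K)) =
      (Ideal.span (Set.range g)).colon {f} := by
    rw [hIf]
    exact colon_sup_span_singleton _ f
  rw [hcolon]
  have hfI : f ∈ I := hIf ▸ Ideal.mem_sup_right (Ideal.mem_span_singleton_self f)
  refine { isGorensteinLocalRing_localization := fun q hq => ?_ }
  obtain ⟨Q, hQdef⟩ : ∃ Q : Ideal (MvPolynomial (Fin N) K),
      Q = q.comap (Ideal.Quotient.mk ((Ideal.span (Set.range g)).colon {f})) := ⟨_, rfl⟩
  have hQ : Q.IsPrime := hQdef ▸ Ideal.comap_isPrime _ _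
  have hJQ : (Ideal.span (Set.range g)).colon {f} ≤ Q := by
    intro x hx
    rw [hQdef, Ideal.mem_comap, Ideal.Quotient.eq_zero_iff_mem.mpr hx]
    exact zero_mem _
  have h𝔠Q : Ideal.span (Set.range g) ≤ Q := (GorQuot.le_colon_singleton _ f).trans hJQ
  have hGT := RegGor.isGorensteinLocalRing_of_isRegularLocalRing (Localization.AtPrime Q)
  have hCMT : LocCoh.IsCohenMacaulayLocalRing (Localization.AtPrime Q) :=
    Groth.Agent.Lib.Helper11.GorCM.isCohenMacaulayLocalRing_of_gorenstein _
  have hG1 := gor_quot_map_span_range Q hGT c g h𝔠Q h𝔠c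
  refine Groth.Agent.Lib.Helper2.GK.gor_of_ringEquiv (locQuotEquiv _ q Q hQdef).symm ?_
  refine GorQuot.gor_congr_ideal (map_colon_singleton Q.primeCompl (Localization.AtPrime Q)
    (Ideal.span (Set.range g)) f).symm ?_
  by_cases hfQ : f ∈ Q
  · have hIQ : I ≤ Q := by
      rw [hIf]
      exact sup_le h𝔠Q ((Ideal.span_singleton_le_iff_mem _).mpr hfQ)
    have hmapI : (Ideal.span (Set.range g)).map (algebraMap _ (Localization.AtPrime Q)) ⊔
        Ideal.span {algebraMap _ (Localization.AtPrime Q) f} =
        I.map (algebraMap _ (Localization.AtPrime Q)) := by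
      rw [hIf, Ideal.map_sup]
      congr 1
      rw [Ideal.map_span, Set.image_singleton]
    have hf : algebraMap _ (Localization.AtPrime Q) f ∉
        (Ideal.span (Set.range g)).map (algebraMap _ (Localization.AtPrime Q)) := by
      intro h
      rw [IsLocalization.algebraMap_mem_map_algebraMap_iff Q.primeCompl] at h
      obtain ⟨m, hm, hmf⟩ := h
      exact hm (hJQ ((GorQuot.mem_colon_singleton' _ f m).mpr hmf))
    -- the Cohen–Macaulay local ring `T/IT`
    have hqI : (Q.map (Ideal.Quotient.mk I)).IsPrime :=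
      Ideal.map_isPrime_of_surjective Ideal.Quotient.mk_surjective (by rwa [Ideal.mk_ker])
    have hcomap : Q = (Q.map (Ideal.Quotient.mk I)).comap (Ideal.Quotient.mk I) := by
      rw [Ideal.comap_map_of_surjective _ Ideal.Quotient.mk_surjective, ← RingHom.ker_eq_comap_bot,
        Ideal.mk_ker, sup_eq_left.mpr hIQ]
    have hCM0 := hCMI.isCohenMacaulayLocalRing_localization (Q.map (Ideal.Quotient.mk I))
    have hCM1 : LocCoh.IsCohenMacaulayLocalRing (Localization.AtPrime Q ⧸
        I.map (algebraMap _ (Localization.AtPrime Q))) :=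
      cm_of_ringEquiv (locQuotEquiv I (Q.map (Ideal.Quotient.mk I)) Q hcomap) hCM0
    have hCM : LocCoh.IsCohenMacaulayLocalRing (Localization.AtPrime Q ⧸
        ((Ideal.span (Set.range g)).map (algebraMap _ (Localization.AtPrime Q)) ⊔
        Ideal.span {algebraMap _ (Localization.AtPrime Q) f})) := by
      rw [hmapI]
      exact hCM1
    have hdim : ringKrullDim (Localization.AtPrime Q ⧸
        ((Ideal.span (Set.range g)).map (algebraMap _ (Localization.AtPrime Q)) ⊔
        Ideal.span {algebraMap _ (Localization.AtPrime Q) f})) =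
        ringKrullDim (Localization.AtPrime Q ⧸
          (Ideal.span (Set.range g)).map (algebraMap _ (Localization.AtPrime Q))) := by
      rw [GorQuot.ringKrullDim_congr_ideal hmapI]
      have h1 := add_ringKrullDim_quot_map Q hCMT I hIQ c
        (fun P hP => (height_eq_of_mem_minimalPrimes_cm I hI hP).trans hIc)
      have h2 := add_ringKrullDim_quot_map Q hCMT _ h𝔠Q c
        (fun P hP => height_eq_of_mem_minimalPrimes_span_range c g h𝔠c hP)
      have hl1 : IsLocalRing (Localization.AtPrime Q ⧸
        I.map (algebraMap _ (Localization.AtPrime Q))) := hCM1.toIsLocalRing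
      have hl2 : IsLocalRing (Localization.AtPrime Q ⧸
        (Ideal.span (Set.range g)).map (algebraMap _ (Localization.AtPrime Q))) :=
        hG1.toIsLocalRing
      obtain ⟨a, ha⟩ := Groth.Agent.Lib.Helper18.SerreReg.exists_ringKrullDim_eq_nat
        (Localization.AtPrime Q ⧸ I.map (algebraMap _ (Localization.AtPrime Q)))
      obtain ⟨b, hb⟩ := Groth.Agent.Lib.Helper18.SerreReg.exists_ringKrullDim_eq_nat
        (Localization.AtPrime Q ⧸
          (Ideal.span (Set.range g)).map (algebraMap _ (Localization.AtPrime Q)))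
      obtain ⟨d, hd⟩ := Groth.Agent.Lib.Helper18.SerreReg.exists_ringKrullDim_eq_nat
        (Localization.AtPrime Q)
      rw [ha, hd] at h1
      rw [hb, hd] at h2
      rw [ha, hb]
      have h1' : c + a = d := by exact_mod_cast h1
      have h2' : c + b = d := by exact_mod_cast h2
      have : a = b := by omega
      rw [this]
    exact GorQuot.gor_quot_colon_of_cm _ _ hf hG1 hCM hdim
  · have hunit : IsUnit (algebraMap _ (Localization.AtPrime Q) f) :=
      IsLocalization.map_units (Localization.AtPrime Q) (⟨f, hfQ⟩ : Q.primeCompl)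
    have heq : ((Ideal.span (Set.range g)).map (algebraMap _ (Localization.AtPrime Q))).colon
        {algebraMap _ (Localization.AtPrime Q) f} =
        (Ideal.span (Set.range g)).map (algebraMap _ (Localization.AtPrime Q)) := by
      ext t
      rw [GorQuot.mem_colon_singleton']
      exact Ideal.mul_unit_mem_iff_mem _ hunit
    exact GorQuot.gor_congr_ideal heq.symm hG1

end main

end Groth.Agent.Lib.Helper16.Liaison
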