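import Mathlib
import Groth.Prelude.Def_RegImm
import Groth.Agent.Lib.Helper16.KzLoc5
import Groth.Agent.Lib.Helper16.KzComp6

/-!
# Descent of Koszul-regular ideals along flat finitely presented maps near a point of the image
-/

set_option autoImplicit false
universe u

namespace Groth.Agent.Lib.Helper16.SyntDesc

open Groth.Agent.Lib.Helper16.KzLoc Groth.Agent.Lib.Helper16.KzComp

/-- descent of Koszul-regularity along a flat finitely presented map, near a point of the image -/
theorem exists_away_kreg_of_flat_fp (A T : Type u) [CommRing A] [CommRing T] [Algebra A T]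
    [Module.Flat A T] [Algebra.FinitePresentation A T] (I : Ideal A)
    (hIT : LCI.IsKoszulRegularIdeal (I.map (algebraMap A T)))
    (𝔓 : Ideal T) [𝔓.IsPrime] :
    ∃ s : A, s ∉ 𝔓.comap (algebraMap A T) ∧
      LCI.IsKoszulRegularIdeal (I.map (algebraMap A (Localization.Away s))) := by
  have hopen := PrimeSpectrum.isOpenMap_comap_of_hasGoingDown_of_finitePresentation (R := A) (S := T)
  have hU : IsOpen (Set.range (PrimeSpectrum.comap (algebraMap A T))) := hopen.isOpen_range
  let 𝔭 : PrimeSpectrum A := PrimeSpectrum.comap (algebraMap A T) ⟨𝔓, inferInstance⟩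
  have h𝔭 : 𝔭 ∈ Set.range (PrimeSpectrum.comap (algebraMap A T)) := ⟨_, rfl⟩
  obtain ⟨_, ⟨_, ⟨s, rfl⟩, rfl⟩, hs𝔭, hsU⟩ :=
    PrimeSpectrum.isBasis_basic_opens.exists_subset_of_mem_open h𝔭 hU
  refine ⟨s, hs𝔭, ?_⟩
  let As := Localization.Away s
  let t := algebraMap A T s
  let Ts := Localization.Away t
  let _ : Algebra As Ts := (Localization.awayMap (algebraMap A T) s).toAlgebra
  have hmap : ∀ a : A, algebraMap As Ts (algebraMap A As a) = algebraMap T Ts (algebraMap A T a) := by
    intro a
    change Localization.awayMap (algebraMap A T) s (algebraMap A As a) = _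
    exact IsLocalization.map_eq _ _
  have _ : IsScalarTower A As Ts := IsScalarTower.of_algebraMap_eq (fun a => by
    rw [hmap, ← IsScalarTower.algebraMap_apply A T Ts])
  have _ : Module.Flat As Ts :=
    (Module.flat_iff_of_isLocalization As (Submonoid.powers s) Ts).mpr inferInstance
  have _ : Module.FaithfullyFlat As Ts := Module.FaithfullyFlat.of_comap_surjective (by
    intro 𝔮
    have h1 : PrimeSpectrum.comap (algebraMap A As) 𝔮 ∈
        (PrimeSpectrum.basicOpen s : Set (PrimeSpectrum A)) := by
      intro hmem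
      have hu : IsUnit (algebraMap A As s) := IsLocalization.Away.algebraMap_isUnit s
      exact 𝔮.2.ne_top (Ideal.eq_top_of_isUnit_mem _ hmem hu)
    obtain ⟨𝔔, h𝔔⟩ := hsU h1
    have ht : t ∉ 𝔔.asIdeal := by
      intro hmem
      have : s ∈ (PrimeSpectrum.comap (algebraMap A T) 𝔔).asIdeal := hmem
      rw [h𝔔] at this
      exact h1 this
    have hdisj : Disjoint (Submonoid.powers t : Set T) (𝔔.asIdeal : Set T) := by
      rw [Set.disjoint_left]
      rintro x ⟨k, rfl⟩ hx
      exact ht (𝔔.2.mem_of_pow_mem k hx)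
    have hprime : (𝔔.asIdeal.map (algebraMap T Ts)).IsPrime :=
      IsLocalization.isPrime_of_isPrime_disjoint (Submonoid.powers t) Ts _ 𝔔.2 hdisj
    have hcomap : (𝔔.asIdeal.map (algebraMap T Ts)).comap (algebraMap T Ts) = 𝔔.asIdeal :=
      IsLocalization.under_map_of_isPrime_disjoint (Submonoid.powers t) Ts 𝔔.2 hdisj
    refine ⟨⟨𝔔.asIdeal.map (algebraMap T Ts), hprime⟩, ?_⟩
    apply PrimeSpectrum.localization_comap_injective As (Submonoid.powers s)
    rw [← h𝔔]
    ext a
    simp only [PrimeSpectrum.comap_asIdeal, Ideal.mem_comap]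
    rw [hmap, ← Ideal.mem_comap, hcomap])
  apply isKoszulRegularIdeal_of_faithfullyFlat (B := Ts)
  have h2 : (I.map (algebraMap A As)).map (algebraMap As Ts) =
      (I.map (algebraMap A T)).map (algebraMap T Ts) := by
    rw [Ideal.map_map, Ideal.map_map, ← IsScalarTower.algebraMap_eq, ← IsScalarTower.algebraMap_eq]
  rw [h2]
  exact isKoszulRegularIdeal_map_of_flat _ hIT

end Groth.Agent.Lib.Helper16.SyntDesc
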