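import Groth.Agent.Lib.Helper18.Codepth
import Groth.Agent.Lib.Helper18.CM9

/-!
# Depth and localization: model independence and transitivity (helper16)

* `depth_eq_of_isLocalizedModule` : the depth of a localization of `M` at a prime `p` does not
  depend on the model `(B, T)` of `(R_p, M_p)`.
* `depth_localization_localization` : `depth ((M_s)_P) = depth M_{P ∩ R}` for a prime `P` of `R_s`.
* `depth_localization_le_add_height` : `depth M_s ≤ depth M_p + ht (s/p)` for primes `p ≤ s`.
-/

set_option autoImplicit false
universe u

open IsLocalRing

namespace Groth.Agent.Lib.Helper16.Depth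

open Groth.Agent.Lib.Helper18.CM

section model

variable {R : Type u} [CommRing R] [IsNoetherianRing R] (p : Ideal R) [p.IsPrime]
  (M : Type u) [AddCommGroup M] [Module R M] [Module.Finite R M]

/-- The depth of a localization of `M` at `p` does not depend on the chosen model. -/
theorem depth_eq_of_isLocalizedModule
    (B : Type u) [CommRing B] [Algebra R B] [IsLocalization.AtPrime B p] [IsLocalRing B]
    (T : Type u) [AddCommGroup T] [Module R T] [Module B T] [IsScalarTower R B T]
    (g : M →ₗ[R] T) [IsLocalizedModule p.primeCompl g] :
    LocCoh.depth B T =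
      LocCoh.depth (Localization.AtPrime p) (LocalizedModule p.primeCompl M) := by
  let σ : Localization.AtPrime p ≃ₐ[R] B :=
    IsLocalization.algEquiv p.primeCompl (Localization.AtPrime p) B
  let algRpB : Algebra (Localization.AtPrime p) B := σ.toRingHom.toAlgebra
  let modRpT : Module (Localization.AtPrime p) T :=
    Module.compHom T (algebraMap (Localization.AtPrime p) B)
  have tower1 : IsScalarTower (Localization.AtPrime p) B T :=
    IsScalarTower.of_algebraMap_smul fun r x => rfl
  have tower2 : IsScalarTower R (Localization.AtPrime p) T := by
    refine IsScalarTower.of_algebraMap_smul fun r x => ?_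
    change σ (algebraMap R (Localization.AtPrime p) r) • x = r • x
    rw [σ.commutes, algebraMap_smul]
  let e : LocalizedModule p.primeCompl M ≃ₗ[R] T := IsLocalizedModule.iso p.primeCompl g
  let e' : LocalizedModule p.primeCompl M ≃ₗ[Localization.AtPrime p] T :=
    LinearEquiv.extendScalarsOfIsLocalization p.primeCompl (Localization.AtPrime p) e
  have hfin : Module.Finite (Localization.AtPrime p) T := Module.Finite.equiv e'
  have hloc : IsLocalHom (algebraMap (Localization.AtPrime p) B) := by
    change IsLocalHom σ.toRingHom
    exact IsLocalHom.of_surjective _ σ.surjective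
  have hnoeB : IsNoetherianRing B := IsLocalization.isNoetherianRing p.primeCompl B inferInstance
  rw [← depth_eq_of_finite (A := Localization.AtPrime p) (B := B) T, ← depth_congr e']

end model

section double

variable {R : Type u} [CommRing R] [IsNoetherianRing R] (s : Ideal R) [s.IsPrime]
  (M : Type u) [AddCommGroup M] [Module R M] [Module.Finite R M]

omit [IsNoetherianRing R] [Module.Finite R M] in
/-- The composite `M → M_s → (M_s)_P` is a localization of `M` at the contraction of `P`. -/
theorem isLocalizedModule_comp_mkLinearMap (P : Ideal (Localization.AtPrime s)) [P.IsPrime] :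
    IsLocalizedModule (P.comap (algebraMap R (Localization.AtPrime s))).primeCompl
      ((LocalizedModule.mkLinearMap P.primeCompl
          (LocalizedModule s.primeCompl M)).restrictScalars R ∘ₗ
        LocalizedModule.mkLinearMap s.primeCompl M) := by
  have h₁ : IsBaseChange (Localization.AtPrime s) (LocalizedModule.mkLinearMap s.primeCompl M) :=
    (isLocalizedModule_iff_isBaseChange s.primeCompl _ _).mp inferInstance
  have h₂ : IsBaseChange (Localization.AtPrime P)
      (LocalizedModule.mkLinearMap P.primeCompl (LocalizedModule s.primeCompl M)) :=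
    (isLocalizedModule_iff_isBaseChange P.primeCompl _ _).mp inferInstance
  have h₃ := IsBaseChange.comp h₁ h₂
  exact (isLocalizedModule_iff_isBaseChange
    (P.comap (algebraMap R (Localization.AtPrime s))).primeCompl (Localization.AtPrime P) _).mpr h₃

/-- `depth ((M_s)_P) = depth M_{P ∩ R}`. -/
theorem depth_localization_localization (P : Ideal (Localization.AtPrime s)) [P.IsPrime] :
    LocCoh.depth (Localization.AtPrime P)
        (LocalizedModule P.primeCompl (LocalizedModule s.primeCompl M)) =
      LocCoh.depth (Localization.AtPrime (P.comap (algebraMap R (Localization.AtPrime s))))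
        (LocalizedModule (P.comap (algebraMap R (Localization.AtPrime s))).primeCompl M) := by
  have := isLocalizedModule_comp_mkLinearMap s M P
  exact depth_eq_of_isLocalizedModule (P.comap (algebraMap R (Localization.AtPrime s))) M
    (Localization.AtPrime P) _
    ((LocalizedModule.mkLinearMap P.primeCompl
          (LocalizedModule s.primeCompl M)).restrictScalars R ∘ₗ
        LocalizedModule.mkLinearMap s.primeCompl M)

/-- `depth M_s ≤ depth M_{P ∩ R} + dim (R_s / P)` for a prime `P` of `R_s`. -/
theorem depth_localization_le_add_ringKrullDim (P : Ideal (Localization.AtPrime s)) [P.IsPrime] :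
    ((LocCoh.depth (Localization.AtPrime s) (LocalizedModule s.primeCompl M) : ℕ∞) :
        WithBot ℕ∞) ≤
      ((LocCoh.depth (Localization.AtPrime (P.comap (algebraMap R (Localization.AtPrime s))))
        (LocalizedModule (P.comap (algebraMap R (Localization.AtPrime s))).primeCompl M) : ℕ∞) :
          WithBot ℕ∞) + ringKrullDim (Localization.AtPrime s ⧸ P) := by
  by_cases hsub : Subsingleton
      (LocalizedModule (P.comap (algebraMap R (Localization.AtPrime s))).primeCompl M)
  · have hd : LocCoh.depth (Localization.AtPrime (P.comap (algebraMap R (Localization.AtPrime s))))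
        (LocalizedModule (P.comap (algebraMap R (Localization.AtPrime s))).primeCompl M) = ⊤ :=
      depth_eq_top_of_subsingleton _
    rw [hd]
    have hnt : Nontrivial (Localization.AtPrime s ⧸ P) :=
      Ideal.Quotient.nontrivial_iff.mpr (Ideal.IsPrime.ne_top inferInstance)
    have h0 : (0 : WithBot ℕ∞) ≤ ringKrullDim (Localization.AtPrime s ⧸ P) :=
      ringKrullDim_nonneg_of_nontrivial
    calc _ ≤ ((⊤ : ℕ∞) : WithBot ℕ∞) := WithBot.coe_le_coe.mpr le_top
      _ = ((⊤ : ℕ∞) : WithBot ℕ∞) + 0 := (add_zero _).symm
      _ ≤ _ := add_le_add le_rfl h0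
  · rw [not_subsingleton_iff_nontrivial] at hsub
    have hloc := isLocalizedModule_comp_mkLinearMap s M P
    have hnt : Nontrivial (LocalizedModule P.primeCompl (LocalizedModule s.primeCompl M)) :=
      (IsLocalizedModule.iso (P.comap (algebraMap R (Localization.AtPrime s))).primeCompl
        ((LocalizedModule.mkLinearMap P.primeCompl
          (LocalizedModule s.primeCompl M)).restrictScalars R ∘ₗ
        LocalizedModule.mkLinearMap s.primeCompl M)).symm.toEquiv.nontrivial
    rw [← depth_localization_localization s M P]
    exact depth_le_depth_localizedModule_add (LocalizedModule s.primeCompl M) P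

end double

section height

variable {R : Type u} [CommRing R] [IsNoetherianRing R]

omit [IsNoetherianRing R] in
/-- `dim (R_s / p R_s) = ht (s/p)` for primes `p ≤ s`. -/
theorem ringKrullDim_localization_quotient_map (p s : Ideal R) [p.IsPrime] [s.IsPrime]
    (hps : p ≤ s) :
    ringKrullDim (Localization.AtPrime s ⧸ p.map (algebraMap R (Localization.AtPrime s))) =
      ((s.map (Ideal.Quotient.mk p)).height : WithBot ℕ∞) := by
  have hprime : (s.map (Ideal.Quotient.mk p)).IsPrime :=
    Ideal.map_isPrime_of_surjective Ideal.Quotient.mk_surjective (by rwa [Ideal.mk_ker])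
  have hsub : Algebra.algebraMapSubmonoid (R ⧸ p) s.primeCompl =
      (s.map (Ideal.Quotient.mk p)).primeCompl := by
    ext x
    obtain ⟨r, rfl⟩ := Ideal.Quotient.mk_surjective x
    constructor
    · rintro ⟨t, ht, hrt⟩ hmem
      apply ht
      have h1 : (Ideal.Quotient.mk p) t ∈ s.map (Ideal.Quotient.mk p) := by
        have : (algebraMap R (R ⧸ p)) t = (Ideal.Quotient.mk p) r := hrt
        rw [← this] at hmem
        exact hmem
      obtain ⟨t', ht', hEq⟩ :=
        (Ideal.mem_map_iff_of_surjective _ Ideal.Quotient.mk_surjective).mp h1
      have h2 : t - t' ∈ p := by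
        rw [← Ideal.Quotient.eq]
        exact hEq.symm
      have h3 : t = (t - t') + t' := by ring
      rw [h3]
      exact s.add_mem (hps h2) ht'
    · intro hr
      refine ⟨r, ?_, rfl⟩
      intro hrs
      exact hr (Ideal.mem_map_of_mem _ hrs)
  have hloc : IsLocalization.AtPrime
      (Localization.AtPrime s ⧸ p.map (algebraMap R (Localization.AtPrime s)))
      (s.map (Ideal.Quotient.mk p)) := by
    unfold IsLocalization.AtPrime
    rw [← hsub]
    infer_instance
  exact IsLocalization.AtPrime.ringKrullDim_eq_height (s.map (Ideal.Quotient.mk p)) _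

variable (M : Type u) [AddCommGroup M] [Module R M] [Module.Finite R M]

omit [IsNoetherianRing R] [Module.Finite R M] in
theorem depth_congr_of_eq {p p' : Ideal R} [hp : p.IsPrime] [hp' : p'.IsPrime] (h : p' = p) :
    LocCoh.depth (Localization.AtPrime p') (LocalizedModule p'.primeCompl M) =
      LocCoh.depth (Localization.AtPrime p) (LocalizedModule p.primeCompl M) := by
  subst h
  rfl

/-- **Depth and localization**: `depth M_s ≤ depth M_p + ht (s/p)` for primes `p ≤ s`. -/
theorem depth_localization_le_add_height (p s : Ideal R) [p.IsPrime] [s.IsPrime] (hps : p ≤ s) :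
    LocCoh.depth (Localization.AtPrime s) (LocalizedModule s.primeCompl M) ≤
      LocCoh.depth (Localization.AtPrime p) (LocalizedModule p.primeCompl M) +
        (s.map (Ideal.Quotient.mk p)).height := by
  have hdisj : Disjoint (s.primeCompl : Set R) (p : Set R) := by
    rw [Set.disjoint_left]
    intro x hx hxp
    exact hx (hps hxp)
  have hPprime : (p.map (algebraMap R (Localization.AtPrime s))).IsPrime :=
    IsLocalization.isPrime_of_isPrime_disjoint s.primeCompl _ p inferInstance hdisj
  have hcomap : (p.map (algebraMap R (Localization.AtPrime s))).comap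
      (algebraMap R (Localization.AtPrime s)) = p :=
    IsLocalization.under_map_of_isPrime_disjoint s.primeCompl _ inferInstance hdisj
  have h1 := depth_localization_le_add_ringKrullDim s M
    (p.map (algebraMap R (Localization.AtPrime s)))
  rw [depth_congr_of_eq M hcomap, ringKrullDim_localization_quotient_map p s hps] at h1
  exact_mod_cast h1

end height

end Groth.Agent.Lib.Helper16.Depth
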