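import Mathlib
import Groth.Prelude.Def_RegImm
import Groth.Agent.Lib.Helper16.KzInv5
import Groth.Agent.Lib.Helper16.KzComp3

/-!
# Independence of Koszul-regular sequences modulo P*(w)
-/

set_option autoImplicit false
universe u

namespace Groth.Agent.Lib.Helper16.SyntDesc

open Groth.Agent.Lib.Helper16.KzInv

/-- elements of `𝔓 * (w)` are combinations of the `w i` with coefficients in `𝔓` -/
theorem exists_coeff_of_mem_mul {S : Type u} [CommRing S] {r : ℕ} (w : Fin r → S) (𝔓 : Ideal S)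
    (x : S) (hx : x ∈ 𝔓 * Ideal.span (Set.range w)) :
    ∃ e : Fin r → S, (∀ i, e i ∈ 𝔓) ∧ x = ∑ i, e i * w i := by
  refine Submodule.mul_induction_on hx ?_ ?_
  · intro p hp j hj
    obtain ⟨d, hd⟩ := (Ideal.mem_span_range_iff_exists_fun).mp hj
    refine ⟨fun i => p * d i, fun i => Ideal.mul_mem_right _ _ hp, ?_⟩
    rw [← hd, Finset.mul_sum]
    exact Finset.sum_congr rfl fun i _ => by ring
  · intro a b ha hb
    obtain ⟨e1, he1, h1⟩ := ha
    obtain ⟨e2, he2, h2⟩ := hb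
    refine ⟨fun i => e1 i + e2 i, fun i => Ideal.add_mem _ (he1 i) (he2 i), ?_⟩
    rw [h1, h2, ← Finset.sum_add_distrib]
    exact Finset.sum_congr rfl fun i _ => by ring

/-- a Koszul-regular sequence is independent modulo `𝔓 * (w)` for every ideal `𝔓 ⊇ (w)` -/
theorem indep_of_kreg_fn {S : Type u} [CommRing S] {r : ℕ} (w : Fin r → S)
    (hreg : LCI.IsKoszulRegularSeq S (List.ofFn w))
    (𝔓 : Ideal S) (h𝔓 : Ideal.span (Set.range w) ≤ 𝔓) (cf : Fin r → S)
    (h : (∑ i, cf i * w i) ∈ 𝔓 * Ideal.span (Set.range w)) : ∀ i, cf i ∈ 𝔓 := by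
  set J := Ideal.span (Set.range w) with hJ
  have hw : ∀ i, w i ∈ J := fun i => Ideal.subset_span ⟨i, rfl⟩
  obtain ⟨b, hb⟩ := exists_cotangent_basis_of_kreg J w hw rfl hreg
  obtain ⟨e, he, hsum⟩ := exists_coeff_of_mem_mul w 𝔓 _ h
  have h0 : ∑ i, (cf i - e i) * w i = 0 := by
    simp only [sub_mul, Finset.sum_sub_distrib]
    rw [hsum, sub_self]
  have h1 : ∑ i, (Ideal.Quotient.mk J (cf i - e i)) • b i = 0 := by
    have h2 : ∀ i, (Ideal.Quotient.mk J (cf i - e i)) • b i =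
        J.toCotangent ((cf i - e i) • (⟨w i, hw i⟩ : J)) := by
      intro i
      rw [hb i, map_smul]
      rfl
    simp only [h2]
    rw [← map_sum]
    have h3 : ∑ i, (cf i - e i) • (⟨w i, hw i⟩ : J) = 0 := by
      apply Subtype.ext
      rw [AddSubmonoidClass.coe_finsetSum]
      simpa [smul_eq_mul] using h0
    rw [h3, map_zero]
  have h4 := (Fintype.linearIndependent_iff.mp b.linearIndependent) _ h1
  intro i
  have h5 : cf i - e i ∈ J := Ideal.Quotient.eq_zero_iff_mem.mp (h4 i)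
  have h6 : cf i = (cf i - e i) + e i := by ring
  rw [h6]
  exact Ideal.add_mem _ (h𝔓 h5) (he i)

end Groth.Agent.Lib.Helper16.SyntDesc
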