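import Mathlib
import Groth.Prelude.Def_Koszul
import Groth.Prelude.Def_LCI2
import Groth.Agent.Lib.Helper2.TorBalance
import Groth.Agent.Lib.Helper11.KzRes

/-!
# Symmetry of Tor, flat base change vanishing of Tor, Koszul homology with base-changed coefficients
-/

set_option autoImplicit false
set_option linter.unusedSectionVars false
set_option linter.unusedVariables false
set_option linter.unusedSimpArgs false
universe u
open CategoryTheory CategoryTheory.Limits MonoidalCategory TensorProduct

namespace Groth.Agent.Lib.Helper16.KzFlat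

open Groth.Agent.Lib.Helper4 Groth.Agent.Lib.Helper21 Groth.Agent.Lib.Helper2.TorBalance

section symm

variable {A : Type u} [CommRing A]

/-- symmetry of `Tor` (existence of an isomorphism) -/
theorem nonempty_tor_symm (M N : ModuleCat.{u} A) (n : ℕ) :
    Nonempty (((Tor (ModuleCat.{u} A) n).obj M).obj N ≅ ((Tor (ModuleCat.{u} A) n).obj N).obj M) := by
  obtain ⟨e1⟩ := nonempty_tor_iso_homology (projectiveResolution M) N n
  let e2 := torIsoHomology N M n
  let e3 := (HomologicalComplex.homologyFunctor (ModuleCat.{u} A) (ComplexShape.down ℕ) n).mapIso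
    ((NatIso.mapHomologicalComplex (BraidedCategory.tensorLeftIsoTensorRight N)
      (ComplexShape.down ℕ)).app (projectiveResolution M).complex)
  exact ⟨e1 ≪≫ e3.symm ≪≫ e2.symm⟩

end symm

section FRpre

variable (R S : Type u) [CommRing R] [CommRing S] [Algebra R S]
  (C : Type u) [AddCommGroup C] [Module R C] [Module S C] [IsScalarTower R S C]

/-- the comparison `(S ⊗[R] X) ⊗[S] C → C ⊗[R] X` -/
noncomputable def cancelEquiv (X : Type u) [AddCommGroup X] [Module R X] :
    (S ⊗[R] X) ⊗[S] C ≃ₗ[S] C ⊗[R] X :=
  (TensorProduct.comm S (S ⊗[R] X) C) ≪≫ₗ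
    (TensorProduct.AlgebraTensorModule.cancelBaseChange R S S C X)

lemma cancelEquiv_tmul (X : Type u) [AddCommGroup X] [Module R X] (s : S) (x : X) (c : C) :
    cancelEquiv R S C X ((s ⊗ₜ[R] x) ⊗ₜ[S] c) = (s • c) ⊗ₜ[R] x := by
  simp [cancelEquiv]

lemma cancelEquiv_symm_tmul (X : Type u) [AddCommGroup X] [Module R X] (c : C) (x : X) :
    (cancelEquiv R S C X).symm (c ⊗ₜ[R] x) = ((1 : S) ⊗ₜ[R] x) ⊗ₜ[S] c := by
  rw [LinearEquiv.symm_apply_eq, cancelEquiv_tmul, one_smul]

lemma cancelEquiv_rTensor_baseChange {X Y : Type u} [AddCommGroup X] [Module R X] [AddCommGroup Y]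
    [Module R Y] (f : X →ₗ[R] Y) (z : (S ⊗[R] X) ⊗[S] C) :
    cancelEquiv R S C Y ((f.baseChange S).rTensor C z) = (f.lTensor C) (cancelEquiv R S C X z) := by
  induction z using TensorProduct.induction_on with
  | zero => simp
  | add a b ha hb => simp only [map_add, ha, hb]
  | tmul w c =>
    induction w using TensorProduct.induction_on with
    | zero => simp
    | add a b ha hb =>
      simp only [TensorProduct.add_tmul, map_add, ha, hb]
    | tmul s x =>
      simp only [LinearMap.rTensor_tmul, LinearMap.baseChange_tmul, cancelEquiv_tmul,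
        LinearMap.lTensor_tmul]

lemma injective_lTensor_of_injective_rTensor_baseChange {X Y : Type u} [AddCommGroup X] [Module R X]
    [AddCommGroup Y] [Module R Y] (f : X →ₗ[R] Y)
    (h : Function.Injective ((f.baseChange S).rTensor C)) : Function.Injective (f.lTensor C) := by
  intro u v huv
  obtain ⟨z₁, rfl⟩ := (cancelEquiv R S C X).surjective u
  obtain ⟨z₂, rfl⟩ := (cancelEquiv R S C X).surjective v
  rw [← cancelEquiv_rTensor_baseChange, ← cancelEquiv_rTensor_baseChange] at huv
  rw [h ((cancelEquiv R S C Y).injective huv)]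

variable [Module.Flat R S] [Module.Flat R C]

lemma injective_rTensor_baseChange {X Y : Type u} [AddCommGroup X] [Module R X] [AddCommGroup Y]
    [Module R Y] (f : X →ₗ[R] Y) (hf : Function.Injective f) :
    Function.Injective ((f.baseChange S).rTensor C) := by
  have hinj : Function.Injective (f.lTensor C) :=
    Module.Flat.lTensor_preserves_injective_linearMap f hf
  intro z₁ z₂ h
  apply (cancelEquiv R S C X).injective
  apply hinj
  rw [← cancelEquiv_rTensor_baseChange, ← cancelEquiv_rTensor_baseChange, h]

end FRpre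

section FR

variable (R S : Type u) [CommRing R] [CommRing S] [Algebra R S] [Module.Flat R S]
  (C : Type u) [AddCommGroup C] [Module R C] [Module S C] [IsScalarTower R S C] [Module.Flat R C]

section bc

variable {N' F N : Type u} [AddCommGroup N'] [Module R N'] [AddCommGroup F] [Module R F]
  [AddCommGroup N] [Module R N]
  (ι : N' →ₗ[R] F) (π : F →ₗ[R] N) (hι : Function.Injective ι) (hπ : Function.Surjective π)
  (hex : Function.Exact ι π)

include hπ hex in
lemma bc_exact : Function.Exact (ι.baseChange S) (π.baseChange S) := by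
  have h := lTensor_exact S hex hπ
  intro y
  have := h y
  simpa only [LinearMap.baseChange_eq_ltensor] using this

include hι in
lemma bc_injective : Function.Injective (ι.baseChange S) := by
  have h : Function.Injective (ι.lTensor S) :=
    Module.Flat.lTensor_preserves_injective_linearMap _ hι
  simpa only [LinearMap.baseChange_eq_ltensor] using h

include hπ in
lemma bc_surjective : Function.Surjective (π.baseChange S) := by
  have h := LinearMap.lTensor_surjective S hπ
  simpa only [LinearMap.baseChange_eq_ltensor] using h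

/-- the short exact sequence `S ⊗ N' → S ⊗ F → S ⊗ N` -/
noncomputable def bcSC : ShortComplex (ModuleCat.{u} S) :=
  ShortComplex.mk (ModuleCat.ofHom (ι.baseChange S))
    (ModuleCat.ofHom (π.baseChange S))
    (ModuleCat.hom_ext (LinearMap.ext (fun x => (bc_exact R S ι π hπ hex).apply_apply_eq_zero x)))

include hι in
lemma bcSC_shortExact : (bcSC R S ι π hπ hex).ShortExact :=
  ModuleCat.shortComplex_shortExact _ (bc_exact R S ι π hπ hex) (bc_injective R S ι hι)
    (bc_surjective R S π hπ)

end bc

section step

variable {F N : Type u} [AddCommGroup F] [Module R F] [AddCommGroup N] [Module R N]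
  (π : F →ₗ[R] N) (hπ : Function.Surjective π) [Module.Flat S (S ⊗[R] F)]

include hπ in
lemma isZero_tor_one_baseChange_of_surjective :
    IsZero (((Tor (ModuleCat.{u} S) 1).obj (ModuleCat.of S (S ⊗[R] N))).obj (ModuleCat.of S C)) := by
  have hex := LinearMap.exact_subtype_ker_map π
  have hT := bcSC_shortExact R S (LinearMap.ker π).subtype π
    (Submodule.subtype_injective _) hπ hex
  have hz2 : IsZero (((Tor (ModuleCat.{u} S) 1).obj
      (bcSC R S (LinearMap.ker π).subtype π hπ hex).X₂).obj (ModuleCat.of S C)) :=
    isZero_tor_of_flat (ModuleCat.of S (S ⊗[R] F)) _ 1 one_pos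
  exact isZero_tor_one_of_injective_rTensor _ (ModuleCat.of S C) hT hz2
    (injective_rTensor_baseChange R S C _ (Submodule.subtype_injective _))

include hπ in
lemma isZero_tor_succ_baseChange_of_surjective (n : ℕ) (hn : 0 < n)
    (ih : IsZero (((Tor (ModuleCat.{u} S) n).obj
      (ModuleCat.of S (S ⊗[R] LinearMap.ker π))).obj (ModuleCat.of S C))) :
    IsZero (((Tor (ModuleCat.{u} S) (n + 1)).obj
      (ModuleCat.of S (S ⊗[R] N))).obj (ModuleCat.of S C)) := by
  have hex := LinearMap.exact_subtype_ker_map π
  have hT := bcSC_shortExact R S (LinearMap.ker π).subtype π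
    (Submodule.subtype_injective _) hπ hex
  have hz2 : IsZero (((Tor (ModuleCat.{u} S) (n + 1)).obj
      (bcSC R S (LinearMap.ker π).subtype π hπ hex).X₂).obj (ModuleCat.of S C)) :=
    isZero_tor_of_flat (ModuleCat.of S (S ⊗[R] F)) _ (n + 1) (Nat.succ_pos n)
  have hz2' : IsZero (((Tor (ModuleCat.{u} S) n).obj
      (bcSC R S (LinearMap.ker π).subtype π hπ hex).X₂).obj (ModuleCat.of S C)) :=
    isZero_tor_of_flat (ModuleCat.of S (S ⊗[R] F)) _ n hn
  obtain ⟨e⟩ := tor_succ_iso _ (ModuleCat.of S C) hT n hz2 hz2'
  exact IsZero.of_iso ih e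

end step

/-- **Flat base change vanishing for Tor**: if `S` is flat over `R` and `C` is an `S`-module which is
flat over `R`, then `Tor_n^S(S ⊗[R] N, C) = 0` for `n > 0`. -/
theorem isZero_tor_baseChange (n : ℕ) (hn : 0 < n) :
    ∀ (N : Type u) [AddCommGroup N] [Module R N],
      IsZero (((Tor (ModuleCat.{u} S) n).obj (ModuleCat.of S (S ⊗[R] N))).obj (ModuleCat.of S C)) := by
  induction n, hn using Nat.le_induction with
  | base =>
    intro N _ _
    have hflat : Module.Flat S (S ⊗[R] (N →₀ R)) := inferInstance
    exact isZero_tor_one_baseChange_of_surjective R S C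
      (Finsupp.linearCombination R (id : N → N)) (Finsupp.linearCombination_id_surjective R N)
  | succ n hn ih =>
    intro N _ _
    have hflat : Module.Flat S (S ⊗[R] (N →₀ R)) := inferInstance
    exact isZero_tor_succ_baseChange_of_surjective R S C
      (Finsupp.linearCombination R (id : N → N)) (Finsupp.linearCombination_id_surjective R N)
      n hn (ih (LinearMap.ker (Finsupp.linearCombination R (id : N → N))))

end FR


section KFlat

open Groth.Agent.Lib.Helper11.Kz CohIII

variable (R S : Type u) [CommRing R] [CommRing S] [Algebra R S] [Module.Flat R S]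

/-- **Koszul homology with base-changed coefficients vanishes** when the sequence is Koszul-regular
with quotient flat over the base. -/
theorem isZero_KH_baseChange (l : List S)
    (hK : ∀ i : ℤ, i ≠ 0 → IsZero ((koszulCx (ModuleCat.of S S) l).homology i))
    [Module.Flat R (S ⧸ Ideal.ofList l)] (N : Type u) [AddCommGroup N] [Module R N] (i : ℤ)
    (hi : i ≠ 0) : IsZero (KH l (S ⊗[R] N) i) := by
  by_cases hpos : 0 < i
  · have := KH_subsingleton l (S ⊗[R] N) i (Or.inl hpos)
    exact ModuleCat.isZero_of_subsingleton _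
  · obtain ⟨n, hn, rfl⟩ : ∃ n : ℕ, 0 < n ∧ i = -(n : ℤ) :=
      ⟨(-i).toNat, by omega, by omega⟩
    obtain ⟨e⟩ := nonempty_tor_equiv l hK (S ⊗[R] N) n
    obtain ⟨e'⟩ := nonempty_tor_symm (ModuleCat.of S (S ⊗[R] N))
      (ModuleCat.of S (S ⧸ Ideal.ofList l)) n
    have hz := isZero_tor_baseChange R S (S ⧸ Ideal.ofList l) n hn N
    have hz' := hz.of_iso e'.symm
    have hs := ModuleCat.subsingleton_of_isZero hz'
    have := e.symm.toEquiv.subsingleton
    exact ModuleCat.isZero_of_subsingleton _

end KFlat

end Groth.Agent.Lib.Helper16.KzFlat
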