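import Mathlib
import Groth.Prelude.Def_Koszul
import Groth.Prelude.Def_LCI2
import Groth.Agent.Lib.Helper16.KzFlat1
import Groth.Agent.Lib.Helper16.KzInv4
import Groth.Agent.Lib.Helper11.KzChi

/-!
# Koszul homology with coefficients: change of rings, isomorphic coefficients, short exact sequences
-/

set_option autoImplicit false
set_option linter.unusedSectionVars false
set_option linter.unusedVariables false
set_option linter.unusedSimpArgs false
universe u
open CategoryTheory CategoryTheory.Limits MonoidalCategory TensorProduct

namespace Groth.Agent.Lib.Helper16.KzFlat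

open Groth.Agent.Lib.Helper11.Kz CohIII Groth.Agent.Lib.Helper16.KzInv
  Groth.Agent.Lib.Helper28.Koszul

/-- change of rings for Koszul homology with coefficients -/
theorem isZero_KH_restrictScalars_iff {B B' : Type u} [CommRing B] [CommRing B'] (φ : B →+* B')
    (M : ModuleCat.{u} B') (l : List B) (i : ℤ) :
    IsZero ((koszulCx M (l.map φ)).homology i) ↔
      IsZero ((koszulCx ((ModuleCat.restrictScalars φ).obj M) l).homology i) := by
  rw [koszulCx_eq_kz, koszulCx_eq_kz, isZero_homology_kz_map_iff φ _ l i]
  have e1 : ((ModuleCat.restrictScalars φ).mapHomologicalComplex (ComplexShape.up ℤ)).obj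
      ((HomologicalComplex.single (ModuleCat.{u} B') (ComplexShape.up ℤ) 0).obj M) ≅
      (HomologicalComplex.single (ModuleCat.{u} B) (ComplexShape.up ℤ) 0).obj
        ((ModuleCat.restrictScalars φ).obj M) :=
    (HomologicalComplex.singleMapHomologicalComplex (ModuleCat.restrictScalars φ)
      (ComplexShape.up ℤ) 0).app M
  exact ((DIso.of_iso e1).kz l).isZero_homology_iff i

variable {B : Type u} [CommRing B]

/-- Koszul homology of isomorphic modules -/
theorem isZero_KH_congr {M M' : ModuleCat.{u} B} (e : M ≅ M') (l : List B) (i : ℤ) :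
    IsZero ((koszulCx M l).homology i) ↔ IsZero ((koszulCx M' l).homology i) :=
  Iso.isZero_iff ((HomologicalComplex.homologyFunctor _ _ i).mapIso (koszulIso e l))

/-- the middle term of a short exact sequence has vanishing Koszul homology if the outer terms do -/
theorem isZero_KH_of_shortExact (T : ShortComplex (ModuleCat.{u} B)) (hT : T.ShortExact)
    (l : List B) (i : ℤ) (h1 : IsZero ((koszulCx T.X₁ l).homology i))
    (h3 : IsZero ((koszulCx T.X₃ l).homology i)) : IsZero ((koszulCx T.X₂ l).homology i) := by
  have hdeg := koszulMap_degreewise T hT l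
  let S : ShortComplex (CochainComplex (ModuleCat.{u} B) ℤ) :=
    ShortComplex.mk (koszulMap T.f l) (koszulMap T.g l) (by
      ext n x
      exact (hdeg n).2.2.apply_apply_eq_zero x)
  have hS : S.ShortExact := by
    refine HomologicalComplex.shortExact_of_degreewise_shortExact _ fun n => ?_
    exact ModuleCat.shortComplex_shortExact _ (hdeg n).2.2 (hdeg n).1 (hdeg n).2.1
  have hex := hS.homology_exact₂ i
  exact hex.isZero_X₂ (h1.eq_of_src _ _) (h3.eq_of_tgt _ _)

end Groth.Agent.Lib.Helper16.KzFlat
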