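import Mathlib
import Groth.Prelude.Def_Koszul
import Groth.Prelude.Def_LCI2
import Groth.Agent.Lib.Helper16.KzFlat2

/-!
# Lifting Koszul-regular sequences and flatness along square-zero thickenings
-/

set_option autoImplicit false
set_option linter.unusedSectionVars false
set_option linter.unusedVariables false
set_option linter.unusedSimpArgs false
universe u
open CategoryTheory CategoryTheory.Limits MonoidalCategory TensorProduct

namespace Groth.Agent.Lib.Helper16.KzFlat

open Groth.Agent.Lib.Helper11.Kz CohIII Groth.Agent.Lib.Helper16.KzInv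
  Groth.Agent.Lib.Helper28.Koszul

section quot

variable (A B : Type u) [CommRing A] [CommRing B] [Algebra A B] (J : Ideal A)
  (N : Type u) [AddCommGroup N] [Module A N] [Module (A ⧸ J) N] [IsScalarTower A (A ⧸ J) N]

/-- `B ⊗[A] N ≃ (B ⧸ JB) ⊗[A ⧸ J] N` for an `A ⧸ J`-module `N`, additively -/
noncomputable def bcQuotAddEquiv :
    B ⊗[A] N ≃+ (B ⧸ J.map (algebraMap A B)) ⊗[A ⧸ J] N :=
  (TensorProduct.comm A B N).toAddEquiv.trans
    ((cancelEquiv A (A ⧸ J) N B).symm.toAddEquiv.trans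
      (TensorProduct.congr
        (Algebra.TensorProduct.quotIdealMapEquivQuotTensor B J).symm.toLinearEquiv
        (LinearEquiv.refl (A ⧸ J) N)).toAddEquiv)

lemma bcQuotAddEquiv_tmul (b : B) (n : N) :
    bcQuotAddEquiv A B J N (b ⊗ₜ[A] n) =
      (Ideal.Quotient.mk (J.map (algebraMap A B)) b) ⊗ₜ[A ⧸ J] n := by
  have h1 : (TensorProduct.comm A B N) (b ⊗ₜ[A] n) = n ⊗ₜ[A] b := TensorProduct.comm_tmul A B N b n
  have h2 : (cancelEquiv A (A ⧸ J) N B).symm (n ⊗ₜ[A] b) =
      ((1 : A ⧸ J) ⊗ₜ[A] b) ⊗ₜ[A ⧸ J] n := cancelEquiv_symm_tmul A (A ⧸ J) N B n b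
  have h3 : (Algebra.TensorProduct.quotIdealMapEquivQuotTensor B J).symm ((1 : A ⧸ J) ⊗ₜ[A] b) =
      Ideal.Quotient.mk (J.map (algebraMap A B)) b := by
    rw [AlgEquiv.symm_apply_eq, Algebra.TensorProduct.quotIdealMapEquivQuotTensor_mk]
  change (TensorProduct.congr
      (Algebra.TensorProduct.quotIdealMapEquivQuotTensor B J).symm.toLinearEquiv
      (LinearEquiv.refl (A ⧸ J) N))
    ((cancelEquiv A (A ⧸ J) N B).symm ((TensorProduct.comm A B N) (b ⊗ₜ[A] n))) = _
  rw [h1, h2, TensorProduct.congr_tmul]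
  change ((Algebra.TensorProduct.quotIdealMapEquivQuotTensor B J).symm ((1 : A ⧸ J) ⊗ₜ[A] b))
    ⊗ₜ[A ⧸ J] n = _
  rw [h3]


/-- the comparison as an isomorphism of `B`-modules -/
noncomputable def bcQuotLinearEquiv :
    (B ⊗[A] N) ≃ₗ[B] ((ModuleCat.restrictScalars (Ideal.Quotient.mk (J.map (algebraMap A B)))).obj
      (ModuleCat.of (B ⧸ J.map (algebraMap A B)) ((B ⧸ J.map (algebraMap A B)) ⊗[A ⧸ J] N))) where
  toFun := fun z => bcQuotAddEquiv A B J N z
  map_add' := fun x y => map_add (bcQuotAddEquiv A B J N) x y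
  map_smul' := by
    intro c z
    change bcQuotAddEquiv A B J N (c • z) =
      (Ideal.Quotient.mk (J.map (algebraMap A B)) c) • (bcQuotAddEquiv A B J N z)
    induction z using TensorProduct.induction_on with
    | zero => simp
    | add x y hx hy =>
      rw [smul_add, map_add, hx, hy, map_add, smul_add]
    | tmul b n =>
      rw [TensorProduct.smul_tmul', bcQuotAddEquiv_tmul, bcQuotAddEquiv_tmul, smul_eq_mul, map_mul,
        TensorProduct.smul_tmul', smul_eq_mul]
  invFun := fun z => (bcQuotAddEquiv A B J N).symm z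
  left_inv := fun z => (bcQuotAddEquiv A B J N).symm_apply_apply z
  right_inv := fun z => (bcQuotAddEquiv A B J N).apply_symm_apply z

end quot


section main

variable (A B : Type u) [CommRing A] [CommRing B] [Algebra A B] [Module.Flat A B] (J : Ideal A)
  (rs : List B)
  (hreg : LCI.IsKoszulRegularSeq (B ⧸ J.map (algebraMap A B))
    (rs.map (Ideal.Quotient.mk (J.map (algebraMap A B)))))
  [hflat : Module.Flat (A ⧸ J) ((B ⧸ J.map (algebraMap A B)) ⧸
    Ideal.ofList (rs.map (Ideal.Quotient.mk (J.map (algebraMap A B)))))]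

include hreg in
/-- Koszul homology of `rs` with coefficients in `B ⊗[A] N` vanishes for `N` killed by `J` -/
theorem isZero_KH_baseChange_of_torsion (N : Type u) [AddCommGroup N] [Module A N]
    (hN : ∀ a ∈ J, ∀ x : N, a • x = 0) (i : ℤ) (hi : i ≠ 0) :
    IsZero ((koszulCx (ModuleCat.of B (B ⊗[A] N)) rs).homology i) := by
  have hT : Module.IsTorsionBySet A N J := fun x a => hN a.1 a.2 x
  let _ : Module (A ⧸ J) N := hT.module
  have : IsScalarTower A (A ⧸ J) N := hT.isScalarTower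
  have : Module.Flat (A ⧸ J) (B ⧸ J.map (algebraMap A B)) :=
    Module.Flat.of_linearEquiv (Algebra.TensorProduct.quotIdealMapEquivQuotTensor B J).toLinearEquiv
  have hK : ∀ i : ℤ, i ≠ 0 → IsZero ((koszulCx (ModuleCat.of (B ⧸ J.map (algebraMap A B))
      (B ⧸ J.map (algebraMap A B))) (rs.map (Ideal.Quotient.mk (J.map (algebraMap A B))))).homology i) := by
    rw [← koszul_eq]
    exact hreg
  have h1 := isZero_KH_baseChange (A ⧸ J) (B ⧸ J.map (algebraMap A B))
    (rs.map (Ideal.Quotient.mk (J.map (algebraMap A B)))) hK N i hi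
  have h2 := (isZero_KH_restrictScalars_iff (Ideal.Quotient.mk (J.map (algebraMap A B)))
    (ModuleCat.of (B ⧸ J.map (algebraMap A B)) ((B ⧸ J.map (algebraMap A B)) ⊗[A ⧸ J] N)) rs i).mp h1
  exact (isZero_KH_congr (bcQuotLinearEquiv A B J N).toModuleIso rs i).mpr h2


include hreg in
/-- **Lifting Koszul-regularity along a square-zero thickening**: the sequence is Koszul-regular
upstairs. -/
theorem kreg_of_sq_zero (hJ : J * J = ⊥) : LCI.IsKoszulRegularSeq B rs ∧
    (∀ i : ℤ, i ≠ 0 → IsZero ((koszulCx (ModuleCat.of B (B ⊗[A] (A ⧸ J))) rs).homology i)) := by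
  have hJJ : ∀ a ∈ J, ∀ b ∈ J, a * b = 0 := by
    intro a ha b hb
    have : a * b ∈ J * J := Ideal.mul_mem_mul ha hb
    rw [hJ] at this
    exact this
  have h3 : ∀ i : ℤ, i ≠ 0 →
      IsZero ((koszulCx (ModuleCat.of B (B ⊗[A] (A ⧸ J))) rs).homology i) := by
    intro i hi
    refine isZero_KH_baseChange_of_torsion A B J rs hreg (A ⧸ J) ?_ i hi
    intro a ha x
    obtain ⟨y, rfl⟩ := Ideal.Quotient.mk_surjective x
    rw [Algebra.smul_def, Ideal.Quotient.algebraMap_eq, ← map_mul, Ideal.Quotient.eq_zero_iff_mem]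
    exact J.mul_mem_right _ ha
  refine ⟨?_, h3⟩
  have h1 : ∀ i : ℤ, i ≠ 0 →
      IsZero ((koszulCx (ModuleCat.of B (B ⊗[A] ↥J)) rs).homology i) := by
    intro i hi
    refine isZero_KH_baseChange_of_torsion A B J rs hreg ↥J ?_ i hi
    intro a ha x
    apply Subtype.ext
    rw [Submodule.coe_smul, smul_eq_mul, hJJ a ha x.1 x.2]
    rfl
  let ι : ↥J →ₗ[A] A := Submodule.subtype J
  let π : A →ₗ[A] A ⧸ J := (Ideal.Quotient.mkₐ A J).toLinearMap
  have hι : Function.Injective ι := Submodule.subtype_injective _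
  have hπ : Function.Surjective π := Ideal.Quotient.mk_surjective
  have hex : Function.Exact ι π := by
    intro y
    change Ideal.Quotient.mk J y = 0 ↔ _
    rw [Ideal.Quotient.eq_zero_iff_mem]
    constructor
    · intro hy
      exact ⟨⟨y, hy⟩, rfl⟩
    · rintro ⟨x, rfl⟩
      exact x.2
  have hT := bcSC_shortExact A B ι π hι hπ hex
  rw [isKoszulRegularSeq_iff]
  intro i hi
  have h2 := isZero_KH_of_shortExact (bcSC A B ι π hπ hex) hT rs i (h1 i hi) (h3 i hi)
  rw [← koszulCx_eq_kz]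
  exact (isZero_KH_congr (TensorProduct.AlgebraTensorModule.rid A B B).toModuleIso rs i).mp h2


include hreg in
/-- injectivity of `J ⊗ C → A ⊗ C` for the quotient `C = B ⧸ (rs)` -/
theorem injective_rTensor_quot_of_sq_zero (hJ : J * J = ⊥) :
    Function.Injective ((Submodule.subtype J).rTensor (B ⧸ Ideal.ofList rs)) := by
  obtain ⟨hKB, h3⟩ := kreg_of_sq_zero A B J rs hreg hJ
  have hKB' : ∀ i : ℤ, i ≠ 0 → IsZero ((koszulCx (ModuleCat.of B B) rs).homology i) := by
    rw [isKoszulRegularSeq_iff] at hKB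
    intro i hi
    rw [koszulCx_eq_kz]
    exact hKB i hi
  let ι : ↥J →ₗ[A] A := Submodule.subtype J
  let π : A →ₗ[A] A ⧸ J := (Ideal.Quotient.mkₐ A J).toLinearMap
  have hι : Function.Injective ι := Submodule.subtype_injective _
  have hπ : Function.Surjective π := Ideal.Quotient.mk_surjective
  have hex : Function.Exact ι π := by
    intro y
    change Ideal.Quotient.mk J y = 0 ↔ _
    rw [Ideal.Quotient.eq_zero_iff_mem]
    constructor
    · intro hy
      exact ⟨⟨y, hy⟩, rfl⟩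
    · rintro ⟨x, rfl⟩
      exact x.2
  have hT := bcSC_shortExact A B ι π hι hπ hex
  obtain ⟨e⟩ := nonempty_tor_equiv rs hKB' (B ⊗[A] (A ⧸ J)) 1
  have hs : Subsingleton (KH rs (B ⊗[A] (A ⧸ J)) (-((1 : ℕ) : ℤ))) :=
    ModuleCat.subsingleton_of_isZero (h3 _ (by norm_num))
  have hs' := e.toEquiv.subsingleton
  have hz1 : IsZero (((Tor (ModuleCat.{u} B) 1).obj (ModuleCat.of B (B ⧸ Ideal.ofList rs))).obj
      (ModuleCat.of B (B ⊗[A] (A ⧸ J)))) := ModuleCat.isZero_of_subsingleton _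
  obtain ⟨e'⟩ := nonempty_tor_symm (ModuleCat.of B (B ⊗[A] (A ⧸ J)))
    (ModuleCat.of B (B ⧸ Ideal.ofList rs)) 1
  have hz : IsZero (((Tor (ModuleCat.{u} B) 1).obj (bcSC A B ι π hπ hex).X₃).obj
      (ModuleCat.of B (B ⧸ Ideal.ofList rs))) := hz1.of_iso e'
  have h4 := Groth.Agent.Lib.Helper21.injective_rTensor_of_isZero_tor_one (bcSC A B ι π hπ hex)
    (ModuleCat.of B (B ⧸ Ideal.ofList rs)) hT hz
  have h5 : Function.Injective (ι.lTensor (B ⧸ Ideal.ofList rs)) :=
    injective_lTensor_of_injective_rTensor_baseChange A B (B ⧸ Ideal.ofList rs) ι h4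
  exact (LinearMap.lTensor_inj_iff_rTensor_inj (B ⧸ Ideal.ofList rs) ι).mp h5


/-- the reduction of `B ⧸ (rs)` modulo `J` is the quotient of `B ⧸ JB` by the reduced sequence -/
noncomputable def quotTensorEquiv :
    ((A ⧸ J) ⊗[A] (B ⧸ Ideal.ofList rs)) ≃ₗ[A ⧸ J]
      ((B ⧸ J.map (algebraMap A B)) ⧸
        Ideal.ofList (rs.map (Ideal.Quotient.mk (J.map (algebraMap A B))))) := by
  have h₁ : J.map (algebraMap A (B ⧸ Ideal.ofList rs)) =
      (J.map (algebraMap A B)).map (Ideal.Quotient.mkₐ A (Ideal.ofList rs)) := by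
    have hK : ∀ K : Ideal B, K.map (Ideal.Quotient.mkₐ A (Ideal.ofList rs)) =
        K.map (Ideal.Quotient.mk (Ideal.ofList rs)) := fun K => rfl
    rw [hK, Ideal.map_map]
    rfl
  have h₂ : (Ideal.ofList rs).map (Ideal.Quotient.mkₐ A (J.map (algebraMap A B))) =
      Ideal.ofList (rs.map (Ideal.Quotient.mk (J.map (algebraMap A B)))) := by
    have hK : ∀ K : Ideal B, K.map (Ideal.Quotient.mkₐ A (J.map (algebraMap A B))) =
        K.map (Ideal.Quotient.mk (J.map (algebraMap A B))) := fun K => rfl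
    rw [hK, Ideal.ofList, Ideal.ofList, Ideal.map_span]
    congr 1
    ext y
    simp only [Set.mem_image, Set.mem_ofPred_eq, List.mem_map]
  let e1 := ((Algebra.TensorProduct.quotIdealMapEquivQuotTensor (B ⧸ Ideal.ofList rs)
    J).symm.toLinearEquiv).restrictScalars A
  let e2 := (Ideal.quotientEquivAlgOfEq A h₁).toLinearEquiv
  let e3 := (DoubleQuot.quotQuotEquivCommₐ A (Ideal.ofList rs) (J.map (algebraMap A B))).toLinearEquiv
  let e4 := (Ideal.quotientEquivAlgOfEq A h₂).toLinearEquiv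
  exact LinearEquiv.extendScalarsOfSurjective Ideal.Quotient.mk_surjective
    (e1 ≪≫ₗ e2 ≪≫ₗ e3 ≪≫ₗ e4)

include hreg in
/-- **Lifting Koszul-regularity and flatness along a square-zero thickening.** -/
theorem kreg_and_flat_of_sq_zero (hJ : J * J = ⊥) :
    LCI.IsKoszulRegularSeq B rs ∧ Module.Flat A (B ⧸ Ideal.ofList rs) := by
  refine ⟨(kreg_of_sq_zero A B J rs hreg hJ).1, ?_⟩
  have hinj := injective_rTensor_quot_of_sq_zero A B J rs hreg hJ
  have hfl : Module.Flat (A ⧸ J) ((A ⧸ J) ⊗[A] (B ⧸ Ideal.ofList rs)) :=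
    Module.Flat.of_linearEquiv (quotTensorEquiv A B J rs)
  have hnil : IsNilpotent J := ⟨2, by rw [pow_two, hJ]; rfl⟩
  exact Groth.Agent.Lib.Helper9.flat_of_isNilpotent_of_rTensor_injective J hnil hinj

end main

end Groth.Agent.Lib.Helper16.KzFlat
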