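import Mathlib
import Groth.Prelude.Def_Koszul
import Groth.Prelude.Def_LCI2
import Groth.Agent.Lib.Helper16.KzFlat3
import Groth.Agent.Lib.Helper16.KzDesc1

/-!
# Arbitrary base change of Koszul-regular ideals with flat quotient; base change of flat LCI algebras
-/

set_option autoImplicit false
set_option linter.unusedSectionVars false
set_option linter.unusedVariables false
set_option linter.unusedSimpArgs false
universe u
open CategoryTheory CategoryTheory.Limits MonoidalCategory TensorProduct

namespace Groth.Agent.Lib.Helper16.KzFlat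

open Groth.Agent.Lib.Helper11.Kz CohIII Groth.Agent.Lib.Helper16.KzInv
  Groth.Agent.Lib.Helper28.Koszul Groth.Agent.Lib.Helper16.KzLoc Groth.Agent.Lib.Helper16.KzComp

section core

variable (A P A' : Type u) [CommRing A] [CommRing P] [CommRing A'] [Algebra A P] [Algebra A A']
  [Module.Flat A P]

/-- Koszul-regularity of a sequence with flat quotient is preserved by arbitrary base change, on a
principal localization -/
theorem kreg_tensor_away (g : P) (l₀ : List P) (I : Ideal P) [Module.Flat A (P ⧸ I)]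
    (hl₀ : KregLoc l₀ (Submonoid.powers g)) (hI : LocEq (Submonoid.powers g) I (Ideal.ofList l₀)) :
    KregLoc (l₀.map (algebraMap P (P ⊗[A] A')))
      (Submonoid.powers (algebraMap P (P ⊗[A] A') g)) := by
  set Pg := Localization.Away g with hPg
  set l : List Pg := l₀.map (algebraMap P Pg) with hl
  have hK : LCI.IsKoszulRegularSeq Pg l := (kreg_iff_kregLoc l₀ (Submonoid.powers g) Pg).mpr hl₀
  have hflatPg : Module.Flat A Pg := by
    have : Module.Flat P Pg := IsLocalization.flat Pg (Submonoid.powers g)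
    exact Module.Flat.trans A P Pg
  have hIeq : Ideal.ofList l = I.map (algebraMap P Pg) := by
    rw [hl, Ideal.ofList, span_mem_list_eq]
    exact ((map_eq_map_iff (Submonoid.powers g) Pg I (Ideal.ofList l₀)).mpr hI).symm
  have hflatQ : Module.Flat A (Pg ⧸ Ideal.ofList l) := by
    rw [hIeq]
    have htower : IsScalarTower A (P ⧸ I) (Pg ⧸ I.map (algebraMap P Pg)) :=
      IsScalarTower.of_algebraMap_eq (fun a => by
        rw [IsScalarTower.algebraMap_apply A Pg (Pg ⧸ I.map (algebraMap P Pg)),
          IsScalarTower.algebraMap_apply A P Pg,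
          IsScalarTower.algebraMap_apply A P (P ⧸ I)]
        rfl)
    have : Module.Flat (P ⧸ I) (Pg ⧸ I.map (algebraMap P Pg)) :=
      IsLocalization.flat _ (Algebra.algebraMapSubmonoid (P ⧸ I) (Submonoid.powers g))
    exact Module.Flat.trans A (P ⧸ I) (Pg ⧸ I.map (algebraMap P Pg))
  have hK' : ∀ i : ℤ, i ≠ 0 → IsZero ((koszulCx (ModuleCat.of Pg Pg) l).homology i) := by
    rw [isKoszulRegularSeq_iff] at hK
    intro i hi
    rw [koszulCx_eq_kz]
    exact hK i hi
  have hKH := isZero_KH_baseChange A Pg l hK' A'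
  have hKQ : LCI.IsKoszulRegularSeq (Pg ⊗[A] A') (l.map (algebraMap Pg (Pg ⊗[A] A'))) := by
    rw [kreg_map_iff_kz]
    intro i hi
    rw [← koszulCx_eq_kz]
    exact hKH i hi
  let ψ : P ⊗[A] A' →ₐ[A] Pg ⊗[A] A' :=
    Algebra.TensorProduct.map (IsScalarTower.toAlgHom A P Pg) (AlgHom.id A A')
  let _ : Algebra (P ⊗[A] A') (Pg ⊗[A] A') := ψ.toRingHom.toAlgebra
  have halg : ∀ z, algebraMap (P ⊗[A] A') (Pg ⊗[A] A') z = ψ z := fun z => rfl
  have htw : IsScalarTower P (P ⊗[A] A') (Pg ⊗[A] A') :=
    IsScalarTower.of_algebraMap_eq (fun p => by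
      rw [halg, Algebra.TensorProduct.algebraMap_apply, Algebra.TensorProduct.algebraMap_apply]
      simp [ψ])
  have hpush : Algebra.IsPushout P Pg (P ⊗[A] A') (Pg ⊗[A] A') :=
    Algebra.IsPushout.tensorProduct_tensorProduct A A' P Pg (by
      ext a
      simp [halg, ψ])
  have hloc : IsLocalization (Algebra.algebraMapSubmonoid (P ⊗[A] A') (Submonoid.powers g))
      (Pg ⊗[A] A') :=
    (Algebra.isLocalization_iff_isPushout (Submonoid.powers g) Pg).mpr hpush.symm
  have hpow : Algebra.algebraMapSubmonoid (P ⊗[A] A') (Submonoid.powers g) =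
      Submonoid.powers (algebraMap P (P ⊗[A] A') g) := by
    rw [Algebra.algebraMapSubmonoid, Submonoid.map_powers]
  rw [hpow] at hloc
  rw [← kreg_iff_kregLoc (l₀.map (algebraMap P (P ⊗[A] A')))
    (Submonoid.powers (algebraMap P (P ⊗[A] A') g)) (Pg ⊗[A] A')]
  convert hKQ using 1
  rw [hl, List.map_map, List.map_map]
  congr 1


/-- **Arbitrary base change of Koszul-regular ideals with flat quotient.** -/
theorem isKoszulRegularIdeal_map_tensor (I : Ideal P) (hI : LCI.IsKoszulRegularIdeal I)
    [Module.Flat A (P ⧸ I)] :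
    LCI.IsKoszulRegularIdeal (I.map (algebraMap P (P ⊗[A] A'))) := by
  rw [isKoszulRegularIdeal_iff] at hI ⊢
  intro 𝔮 h𝔮
  have h𝔭 : I ≤ (PrimeSpectrum.comap (algebraMap P (P ⊗[A] A')) 𝔮).asIdeal :=
    Ideal.map_le_iff_le_comap.mp h𝔮
  obtain ⟨g, hg, l₀, hl₀, hIl₀⟩ := hI (PrimeSpectrum.comap (algebraMap P (P ⊗[A] A')) 𝔮) h𝔭
  refine ⟨algebraMap P (P ⊗[A] A') g, hg, l₀.map (algebraMap P (P ⊗[A] A')),
    kreg_tensor_away A P A' g l₀ I hl₀ hIl₀, ?_⟩
  have h := locEq_map (B := P ⊗[A] A') (Submonoid.powers g) I (Ideal.ofList l₀) hIl₀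
  have h1 : (Submonoid.powers g).map (algebraMap P (P ⊗[A] A')) =
      Submonoid.powers (algebraMap P (P ⊗[A] A') g) := Submonoid.map_powers _ g
  have h2 : (Ideal.ofList l₀).map (algebraMap P (P ⊗[A] A')) =
      Ideal.ofList (l₀.map (algebraMap P (P ⊗[A] A'))) := by
    rw [Ideal.ofList, ← span_mem_list_eq]
  rw [h1, h2] at h
  exact h

end core


/-- the kernel of the base change of a surjection with Koszul-regular kernel and flat target is
Koszul-regular -/
theorem isKoszulRegularIdeal_ker_lTensor (A A' P B : Type u) [CommRing A] [CommRing A'] [CommRing P]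
    [CommRing B] [Algebra A A'] [Algebra A P] [Algebra A B] [Module.Flat A P] [Module.Flat A B]
    (α : P →ₐ[A] B) (hα : Function.Surjective α)
    (hI : LCI.IsKoszulRegularIdeal (RingHom.ker α.toRingHom)) :
    LCI.IsKoszulRegularIdeal
      (RingHom.ker (Algebra.TensorProduct.map (AlgHom.id A' A') α).toRingHom) := by
  have hk2 : RingHom.ker (Algebra.TensorProduct.map (AlgHom.id A' A') α).toRingHom =
      (RingHom.ker α.toRingHom).map
        (Algebra.TensorProduct.includeRight : P →ₐ[A] A' ⊗[A] P).toRingHom :=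
    Algebra.TensorProduct.lTensor_ker α hα
  rw [hk2]
  let c : A' ⊗[A] P ≃+* P ⊗[A] A' := (Algebra.TensorProduct.comm A A' P).toRingEquiv
  have hc : (c.symm : _ →+* _).comp (algebraMap P (P ⊗[A] A')) =
      (Algebra.TensorProduct.includeRight : P →ₐ[A] A' ⊗[A] P).toRingHom := by
    ext p
    simp [c, Algebra.TensorProduct.algebraMap_apply]
  have hk3 : (RingHom.ker α.toRingHom).map
        (Algebra.TensorProduct.includeRight : P →ₐ[A] A' ⊗[A] P).toRingHom =
      ((RingHom.ker α.toRingHom).map (algebraMap P (P ⊗[A] A'))).comap (c : _ →+* _) := by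
    rw [← hc, ← Ideal.map_map]
    exact Ideal.map_symm c
  rw [hk3, isKoszulRegularIdeal_comap_ringEquiv_iff]
  have : Module.Flat A (P ⧸ RingHom.ker α.toRingHom) :=
    Module.Flat.of_linearEquiv (Ideal.quotientKerAlgEquivOfSurjective hα).toLinearEquiv
  exact isKoszulRegularIdeal_map_tensor A P A' _ hI

/-- **Flat local complete intersection algebras are stable under arbitrary base change.** -/
theorem isLCI_baseChange_of_flat (A A' B : Type u) [CommRing A] [CommRing A'] [CommRing B]
    [Algebra A A'] [Algebra A B] [Module.Flat A B] (h : LCI.IsLCI A B) :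
    LCI.IsLCI A' (A' ⊗[A] B) := by
  obtain ⟨hft, n, α, hα, hI⟩ := h
  refine ⟨inferInstance, n, ?_⟩
  let E : A' ⊗[A] MvPolynomial (Fin n) A ≃ₐ[A'] MvPolynomial (Fin n) A' :=
    MvPolynomial.algebraTensorAlgEquiv A A'
  let αT := Algebra.TensorProduct.map (AlgHom.id A' A') α
  have hαT : Function.Surjective αT := Algebra.FiniteType.baseChangeAux_surj A' hα
  refine ⟨αT.comp E.symm.toAlgHom, hαT.comp E.symm.surjective, ?_⟩
  have hker : RingHom.ker (αT.comp E.symm.toAlgHom).toRingHom =
      (RingHom.ker αT.toRingHom).comap (E.symm.toRingEquiv : _ →+* _) := by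
    ext x
    simp [RingHom.mem_ker]
  rw [hker, isKoszulRegularIdeal_comap_ringEquiv_iff]
  exact isKoszulRegularIdeal_ker_lTensor A A' (MvPolynomial (Fin n) A) B α hα hI

end Groth.Agent.Lib.Helper16.KzFlat
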