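import Mathlib
import Groth.Agent.Lib.Helper16.CIInv5
import Groth.Agent.Lib.Helper18.CplQuot
import Groth.Agent.S0548

/-!
# Minimal number of generators under completion / faithfully flat local extensions (helper16)
-/

set_option autoImplicit false
set_option linter.unusedSectionVars false

universe u v w

open Submodule IsLocalRing RingTheory.Sequence

namespace Groth.Agent.Lib.Helper16.CIInv

section FF

variable {R S : Type u} [CommRing R] [CommRing S] [IsLocalRing S] [IsNoetherianRing R]
  [IsNoetherianRing S] [Algebra R S] [Module.FaithfullyFlat R S]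

/-- every element of `I S` is congruent to the image of an element of `I` modulo `𝔪_S I S`, when
`R → S/𝔪_S` is surjective -/
theorem exists_sub_mem (hres : ∀ s : S, ∃ r : R, s - algebraMap R S r ∈ maximalIdeal S)
    (I : Ideal R) (t : S) (ht : t ∈ I.map (algebraMap R S)) :
    ∃ a ∈ I, t - algebraMap R S a ∈ maximalIdeal S * I.map (algebraMap R S) := by
  rw [Ideal.map] at ht
  induction ht using Submodule.span_induction with
  | mem t ht =>
    obtain ⟨a, ha, rfl⟩ := ht
    exact ⟨a, ha, by rw [sub_self]; exact Ideal.zero_mem _⟩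
  | zero => exact ⟨0, I.zero_mem, by rw [map_zero, sub_self]; exact Ideal.zero_mem _⟩
  | add x y hx hy ihx ihy =>
    obtain ⟨a, ha, hxa⟩ := ihx
    obtain ⟨b, hb, hyb⟩ := ihy
    refine ⟨a + b, I.add_mem ha hb, ?_⟩
    have : x + y - algebraMap R S (a + b) = (x - algebraMap R S a) + (y - algebraMap R S b) := by
      rw [map_add]; ring
    rw [this]
    exact Ideal.add_mem _ hxa hyb
  | smul s x hx ih =>
    obtain ⟨a, ha, hxa⟩ := ih
    obtain ⟨r, hr⟩ := hres s
    refine ⟨r * a, I.mul_mem_left r ha, ?_⟩
    have : s • x - algebraMap R S (r * a) =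
        algebraMap R S r * (x - algebraMap R S a) + (s - algebraMap R S r) * x := by
      rw [map_mul, smul_eq_mul]; ring
    rw [this]
    exact Ideal.add_mem _ (Ideal.mul_mem_left _ _ hxa) (Ideal.mul_mem_mul hr hx)

/-- the minimal number of generators of an ideal does not change under a faithfully flat local
extension with trivial residue field extension -/
theorem spanFinrank_le_spanFinrank_map
    (hres : ∀ s : S, ∃ r : R, s - algebraMap R S r ∈ maximalIdeal S) (I : Ideal R) :
    I.spanFinrank ≤ (I.map (algebraMap R S)).spanFinrank := by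
  classical
  set J := I.map (algebraMap R S) with hJ
  obtain ⟨T, hcard, hspan⟩ := Submodule.FG.exists_span_finset_card_eq_spanFinrank
    J.fg_of_isNoetherianRing
  have hT : ∀ t ∈ T, ∃ a ∈ I, t - algebraMap R S a ∈ maximalIdeal S * J := by
    intro t ht
    have htJ : t ∈ J := by rw [← hspan]; exact Submodule.subset_span ht
    exact exists_sub_mem hres I t htJ
  choose! a ha hta using hT
  let I' : Ideal R := Ideal.span (a '' (T : Set S))
  have hI'I : I' ≤ I := by
    rw [Ideal.span_le]
    rintro _ ⟨t, ht, rfl⟩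
    exact ha t ht
  have hJle : J ≤ I'.map (algebraMap R S) ⊔ maximalIdeal S • J := by
    rw [← hspan, Submodule.span_le]
    intro t ht
    have h1 : algebraMap R S (a t) ∈ I'.map (algebraMap R S) :=
      Ideal.mem_map_of_mem _ (Ideal.subset_span ⟨t, ht, rfl⟩)
    have h2 : t = algebraMap R S (a t) + (t - algebraMap R S (a t)) := by ring
    rw [SetLike.mem_coe, h2]
    refine Submodule.add_mem_sup h1 ?_
    rw [hspan]
    exact hta t ht
  have hJ' : J ≤ I'.map (algebraMap R S) :=
    Submodule.le_of_le_smul_of_le_jacobson_bot J.fg_of_isNoetherianRing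
      (IsLocalRing.maximalIdeal_le_jacobson ⊥) hJle
  have hII' : I ≤ I' := by
    rw [← Ideal.comap_map_eq_self_of_faithfullyFlat (B := S) I,
      ← Ideal.comap_map_eq_self_of_faithfullyFlat (B := S) I']
    exact Ideal.comap_mono hJ'
  have hI : I = I' := le_antisymm hII' hI'I
  rw [hI, ← hcard]
  refine (Submodule.spanFinrank_span_le_ncard_of_finite ((Finset.finite_toSet T).image a)).trans ?_
  refine (Set.ncard_image_le (Finset.finite_toSet T)).trans ?_
  rw [Set.ncard_coe_finset]

theorem spanFinrank_map_eq
    (hres : ∀ s : S, ∃ r : R, s - algebraMap R S r ∈ maximalIdeal S) (I : Ideal R) :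
    (I.map (algebraMap R S)).spanFinrank = I.spanFinrank :=
  le_antisymm (Ideal.spanFinrank_map_le_of_fg _ I.fg_of_isNoetherianRing)
    (spanFinrank_le_spanFinrank_map hres I)

end FF

section Cpl

variable (R : Type u) [CommRing R] [IsLocalRing R] [IsNoetherianRing R]

theorem cpl_hres (s : EGA4.Cpl R) :
    ∃ r : R, s - algebraMap R (EGA4.Cpl R) r ∈ maximalIdeal (EGA4.Cpl R) := by
  obtain ⟨r, hr⟩ := Ideal.Quotient.mk_surjective (AdicCompletion.evalₐ (maximalIdeal R) 1 s)
  refine ⟨r, ?_⟩
  rw [AdicCompletion.maximalIdeal_eq_map, ← pow_one (Ideal.map _ _),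
    Groth.Agent.Lib.Helper18.CplQuot.mem_map_pow_iff_evalₐ _ (maximalIdeal R).fg_of_isNoetherianRing,
    map_sub, AdicCompletion.algebraMap_apply, AdicCompletion.evalₐ_of, ← hr]
  simp

theorem spanFinrank_map_cpl (I : Ideal R) :
    (I.map (algebraMap R (EGA4.Cpl R))).spanFinrank = I.spanFinrank :=
  spanFinrank_map_eq (cpl_hres R) I

end Cpl

end Groth.Agent.Lib.Helper16.CIInv
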