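import Mathlib
import Groth.Prelude.Def_Koszul
import Groth.Prelude.Def_LCI2
import Groth.Agent.Lib.Helper16.KzFlat3

/-!
# Koszul-regular sequences lift along nilpotent thickenings (flat case)
-/

set_option autoImplicit false
set_option linter.unusedSectionVars false
set_option linter.unusedVariables false
set_option linter.unusedSimpArgs false
universe u
open CategoryTheory CategoryTheory.Limits MonoidalCategory TensorProduct

namespace Groth.Agent.Lib.Helper16.KzFlat

open Groth.Agent.Lib.Helper11.Kz CohIII Groth.Agent.Lib.Helper16.KzInv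
  Groth.Agent.Lib.Helper28.Koszul

section nil

variable (A B : Type u) [CommRing A] [CommRing B] [Algebra A B] [Module.Flat A B] (J : Ideal A)
  (rs : List B)
  (hreg : LCI.IsKoszulRegularSeq (B ⧸ J.map (algebraMap A B))
    (rs.map (Ideal.Quotient.mk (J.map (algebraMap A B)))))
  [hflat : Module.Flat (A ⧸ J) ((B ⧸ J.map (algebraMap A B)) ⧸
    Ideal.ofList (rs.map (Ideal.Quotient.mk (J.map (algebraMap A B)))))]

include hreg in
/-- Koszul homology of `rs` with coefficients in `B ⊗[A] N` vanishes for `N` killed by a power of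
`J` -/
theorem isZero_KH_baseChange_of_pow_torsion (k : ℕ) :
    ∀ (N : Type u) [AddCommGroup N] [Module A N] (hN : ∀ a ∈ J ^ (k + 1), ∀ x : N, a • x = 0)
      (i : ℤ) (hi : i ≠ 0), IsZero ((koszulCx (ModuleCat.of B (B ⊗[A] N)) rs).homology i) := by
  induction k with
  | zero =>
    intro N _ _ hN i hi
    refine isZero_KH_baseChange_of_torsion A B J rs hreg N ?_ i hi
    intro a ha x
    exact hN a (by simpa using ha) x
  | succ k ih =>
    intro N _ _ hN i hi
    set N₁ : Submodule A N := J • (⊤ : Submodule A N) with hN₁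
    have h1 : IsZero ((koszulCx (ModuleCat.of B (B ⊗[A] ↥N₁)) rs).homology i) := by
      refine ih ↥N₁ ?_ i hi
      intro a ha x
      apply Subtype.ext
      rw [Submodule.coe_smul, Submodule.coe_zero]
      have hx : (x : N) ∈ J • (⊤ : Submodule A N) := x.2
      refine Submodule.smul_induction_on hx ?_ ?_
      · intro b hb n _
        rw [← mul_smul]
        exact hN (a * b) (by rw [pow_succ]; exact Ideal.mul_mem_mul ha hb) n
      · intro y z hy hz
        rw [smul_add, hy, hz, add_zero]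
    have h3 : IsZero ((koszulCx (ModuleCat.of B (B ⊗[A] (N ⧸ N₁))) rs).homology i) := by
      refine isZero_KH_baseChange_of_torsion A B J rs hreg (N ⧸ N₁) ?_ i hi
      intro a ha x
      obtain ⟨y, rfl⟩ := Submodule.Quotient.mk_surjective _ x
      rw [← Submodule.Quotient.mk_smul, Submodule.Quotient.mk_eq_zero]
      exact Submodule.smul_mem_smul ha trivial
    have hT := bcSC_shortExact A B N₁.subtype N₁.mkQ (Submodule.subtype_injective _)
      (Submodule.mkQ_surjective _) (LinearMap.exact_subtype_mkQ N₁)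
    exact isZero_KH_of_shortExact (bcSC A B N₁.subtype N₁.mkQ (Submodule.mkQ_surjective _)
      (LinearMap.exact_subtype_mkQ N₁)) hT rs i h1 h3


include hreg in
/-- **Lifting Koszul-regularity along a nilpotent thickening.** -/
theorem kreg_of_isNilpotent (hJ : IsNilpotent J) : LCI.IsKoszulRegularSeq B rs ∧
    (∀ i : ℤ, i ≠ 0 → IsZero ((koszulCx (ModuleCat.of B (B ⊗[A] (A ⧸ J))) rs).homology i)) := by
  have h3 : ∀ i : ℤ, i ≠ 0 →
      IsZero ((koszulCx (ModuleCat.of B (B ⊗[A] (A ⧸ J))) rs).homology i) := by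
    intro i hi
    refine isZero_KH_baseChange_of_torsion A B J rs hreg (A ⧸ J) ?_ i hi
    intro a ha x
    obtain ⟨y, rfl⟩ := Ideal.Quotient.mk_surjective x
    rw [Algebra.smul_def, Ideal.Quotient.algebraMap_eq, ← map_mul, Ideal.Quotient.eq_zero_iff_mem]
    exact J.mul_mem_right _ ha
  refine ⟨?_, h3⟩
  obtain ⟨k, hk⟩ := hJ
  have hk' : J ^ (k + 1) = ⊥ := by rw [pow_succ, hk]; simp
  rw [isKoszulRegularSeq_iff]
  intro i hi
  have h2 := isZero_KH_baseChange_of_pow_torsion A B J rs hreg k A (by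
    intro a ha x
    rw [hk'] at ha
    rw [(Submodule.mem_bot A).mp ha, zero_smul]) i hi
  rw [← koszulCx_eq_kz]
  exact (isZero_KH_congr (TensorProduct.AlgebraTensorModule.rid A B B).toModuleIso rs i).mp h2

include hreg in
/-- injectivity of `J ⊗ C → A ⊗ C` for the quotient `C = B ⧸ (rs)` -/
theorem injective_rTensor_quot_of_isNilpotent (hJ : IsNilpotent J) :
    Function.Injective ((Submodule.subtype J).rTensor (B ⧸ Ideal.ofList rs)) := by
  obtain ⟨hKB, h3⟩ := kreg_of_isNilpotent A B J rs hreg hJ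
  have hKB' : ∀ i : ℤ, i ≠ 0 → IsZero ((koszulCx (ModuleCat.of B B) rs).homology i) := by
    rw [isKoszulRegularSeq_iff] at hKB
    intro i hi
    rw [koszulCx_eq_kz]
    exact hKB i hi
  let ι : ↥J →ₗ[A] A := Submodule.subtype J
  let π : A →ₗ[A] A ⧸ J := (Ideal.Quotient.mkₐ A J).toLinearMap
  have hι : Function.Injective ι := Submodule.subtype_injective _
  have hπ : Function.Surjective π := Ideal.Quotient.mk_surjective
  have hex : Function.Exact ι π := by
    intro y
    change Ideal.Quotient.mk J y = 0 ↔ _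
    rw [Ideal.Quotient.eq_zero_iff_mem]
    constructor
    · intro hy
      exact ⟨⟨y, hy⟩, rfl⟩
    · rintro ⟨x, rfl⟩
      exact x.2
  have hT := bcSC_shortExact A B ι π hι hπ hex
  obtain ⟨e⟩ := nonempty_tor_equiv rs hKB' (B ⊗[A] (A ⧸ J)) 1
  have hs : Subsingleton (KH rs (B ⊗[A] (A ⧸ J)) (-((1 : ℕ) : ℤ))) :=
    ModuleCat.subsingleton_of_isZero (h3 _ (by norm_num))
  have hs' := e.toEquiv.subsingleton
  have hz1 : IsZero (((Tor (ModuleCat.{u} B) 1).obj (ModuleCat.of B (B ⧸ Ideal.ofList rs))).obj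
      (ModuleCat.of B (B ⊗[A] (A ⧸ J)))) := ModuleCat.isZero_of_subsingleton _
  obtain ⟨e'⟩ := nonempty_tor_symm (ModuleCat.of B (B ⊗[A] (A ⧸ J)))
    (ModuleCat.of B (B ⧸ Ideal.ofList rs)) 1
  have hz : IsZero (((Tor (ModuleCat.{u} B) 1).obj (bcSC A B ι π hπ hex).X₃).obj
      (ModuleCat.of B (B ⧸ Ideal.ofList rs))) := hz1.of_iso e'
  have h4 := Groth.Agent.Lib.Helper21.injective_rTensor_of_isZero_tor_one (bcSC A B ι π hπ hex)
    (ModuleCat.of B (B ⧸ Ideal.ofList rs)) hT hz
  have h5 : Function.Injective (ι.lTensor (B ⧸ Ideal.ofList rs)) :=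
    injective_lTensor_of_injective_rTensor_baseChange A B (B ⧸ Ideal.ofList rs) ι h4
  exact (LinearMap.lTensor_inj_iff_rTensor_inj (B ⧸ Ideal.ofList rs) ι).mp h5

include hreg in
/-- **Lifting Koszul-regularity and flatness along a nilpotent thickening.** -/
theorem kreg_and_flat_of_isNilpotent (hJ : IsNilpotent J) :
    LCI.IsKoszulRegularSeq B rs ∧ Module.Flat A (B ⧸ Ideal.ofList rs) := by
  refine ⟨(kreg_of_isNilpotent A B J rs hreg hJ).1, ?_⟩
  have hinj := injective_rTensor_quot_of_isNilpotent A B J rs hreg hJ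
  have hfl : Module.Flat (A ⧸ J) ((A ⧸ J) ⊗[A] (B ⧸ Ideal.ofList rs)) :=
    Module.Flat.of_linearEquiv (quotTensorEquiv A B J rs)
  exact Groth.Agent.Lib.Helper9.flat_of_isNilpotent_of_rTensor_injective J hJ hinj

end nil

end Groth.Agent.Lib.Helper16.KzFlat
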