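import Mathlib
import Groth.Prelude.Def_Koszul
import Groth.Prelude.Def_LCI2
import Groth.Agent.Lib.Helper16.KzFlat5

/-!
# Flat quotients: J ∩ IR = I J, and uniqueness of flat lifts of ideals modulo nilpotents
-/

set_option autoImplicit false
set_option linter.unusedSectionVars false
set_option linter.unusedVariables false
set_option linter.unusedSimpArgs false
universe u
open CategoryTheory CategoryTheory.Limits MonoidalCategory TensorProduct

namespace Groth.Agent.Lib.Helper16.KzFlat

/-- If `R ⧸ J` is flat over `A`, then `J ∩ I R ⊆ (I R) J`. -/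
theorem inf_map_le_mul_of_flat {A R : Type*} [CommRing A] [CommRing R] [Algebra A R]
    (I : Ideal A) (J : Ideal R) [Module.Flat A (R ⧸ J)] :
    J ⊓ I.map (algebraMap A R) ≤ I.map (algebraMap A R) * J := by
  classical
  rintro x ⟨hxJ, hxI⟩
  replace hxJ : x ∈ J := hxJ
  replace hxI : x ∈ Submodule.span R (⇑(algebraMap A R) '' (I : Set A)) := hxI
  rw [Submodule.mem_span_image_iff_exists_fun] at hxI
  obtain ⟨t, ht, c, hc⟩ := hxI
  have hrel : ∑ i : t, (algebraMap A (R ⧸ J) (i : A)) * (Ideal.Quotient.mk J (c i)) = 0 := by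
    have : Ideal.Quotient.mk J x = 0 := Ideal.Quotient.eq_zero_iff_mem.mpr hxJ
    rw [← this, ← hc, map_sum]
    refine Finset.sum_congr rfl fun i _ => ?_
    rw [smul_eq_mul, map_mul, mul_comm]
    rfl
  obtain ⟨k, a, y, hy, ha⟩ := Module.Flat.isTrivialRelation_of_sum_smul_eq_zero (R := A)
    (M := R ⧸ J) (f := fun i : t => (i : A)) (x := fun i => Ideal.Quotient.mk J (c i))
    (by simp_rw [Algebra.smul_def]; exact hrel)
  replace hy : ∀ i : t, Ideal.Quotient.mk J (c i) = ∑ j, a i j • y j := hy
  replace ha : ∀ j : Fin k, ∑ i : t, (i : A) * a i j = 0 := ha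
  choose s hs using fun j => Ideal.Quotient.mk_surjective (y j)
  have hmem : ∀ i : t, c i - ∑ j, algebraMap A R (a i j) * s j ∈ J := by
    intro i
    rw [← Ideal.Quotient.eq, hy i, map_sum]
    refine Finset.sum_congr rfl fun j _ => ?_
    rw [map_mul, hs j, Algebra.smul_def]
    rfl
  have hx : x = ∑ i : t, algebraMap A R (i : A) * (c i - ∑ j, algebraMap A R (a i j) * s j) := by
    have h2 : ∑ i : t, algebraMap A R (i : A) * ∑ j, algebraMap A R (a i j) * s j = 0 := by
      simp_rw [Finset.mul_sum]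
      rw [Finset.sum_comm]
      refine Finset.sum_eq_zero fun j _ => ?_
      have : ∑ i : t, algebraMap A R (i : A) * (algebraMap A R (a i j) * s j)
          = algebraMap A R (∑ i : t, (i : A) * a i j) * s j := by
        rw [map_sum, Finset.sum_mul]
        refine Finset.sum_congr rfl fun i _ => ?_
        rw [map_mul, mul_assoc]
      rw [this, ha j, map_zero, zero_mul]
    simp_rw [mul_sub]
    rw [Finset.sum_sub_distrib, h2, sub_zero, ← hc]
    refine Finset.sum_congr rfl fun i _ => ?_
    rw [smul_eq_mul, mul_comm]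
  rw [hx]
  refine Ideal.sum_mem _ fun i _ => ?_
  exact Ideal.mul_mem_mul (Ideal.mem_map_of_mem _ (ht i.2)) (hmem i)

/-- If `R ⧸ J'` is flat over `A`, `J'' ≤ J'` and the two ideals have the same image modulo `I R`,
then `J' ≤ J'' + (I R) J'`. -/
theorem le_sup_mul_of_map_eq_of_flat {A R : Type*} [CommRing A] [CommRing R] [Algebra A R]
    (I : Ideal A) (J' J'' : Ideal R) [Module.Flat A (R ⧸ J')]
    (hle : J'' ≤ J')
    (hmap : J'.map (Ideal.Quotient.mk (I.map (algebraMap A R)))
      = J''.map (Ideal.Quotient.mk (I.map (algebraMap A R)))) :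
    J' ≤ J'' ⊔ I.map (algebraMap A R) * J' := by
  set K := I.map (algebraMap A R) with hK
  have h1 : J' ≤ J'' ⊔ K := by
    intro x hx
    have : Ideal.Quotient.mk K x ∈ J''.map (Ideal.Quotient.mk K) := by
      rw [← hmap]; exact Ideal.mem_map_of_mem _ hx
    rw [Ideal.mem_map_iff_of_surjective _ Ideal.Quotient.mk_surjective] at this
    obtain ⟨y, hy, hxy⟩ := this
    have hd : x - y ∈ K := by
      rw [← Ideal.Quotient.eq]; exact hxy.symm
    have : x = y + (x - y) := by ring
    rw [this]
    exact Submodule.add_mem_sup hy hd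
  intro x hx
  obtain ⟨y, hy, z, hz, rfl⟩ := Submodule.mem_sup.mp (h1 hx)
  have hzJ : z ∈ J' := by
    have := J'.sub_mem hx (hle hy)
    simpa using this
  exact Submodule.add_mem_sup hy (inf_map_le_mul_of_flat I J' ⟨hzJ, hz⟩)

/-- Two ideals `J'' ≤ J'` with `R ⧸ J'` flat over `A` and the same image modulo a nilpotent ideal
of `A` are equal. -/
theorem eq_of_map_eq_of_flat_of_isNilpotent {A R : Type*} [CommRing A] [CommRing R] [Algebra A R]
    (I : Ideal A) (hI : IsNilpotent I) (J' J'' : Ideal R) [Module.Flat A (R ⧸ J')]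
    (hle : J'' ≤ J')
    (hmap : J'.map (Ideal.Quotient.mk (I.map (algebraMap A R)))
      = J''.map (Ideal.Quotient.mk (I.map (algebraMap A R)))) : J' = J'' := by
  refine le_antisymm ?_ hle
  set K := I.map (algebraMap A R) with hK
  have h1 : J' ≤ J'' ⊔ K := by
    intro x hx
    have : Ideal.Quotient.mk K x ∈ J''.map (Ideal.Quotient.mk K) := by
      rw [← hmap]; exact Ideal.mem_map_of_mem _ hx
    rw [Ideal.mem_map_iff_of_surjective _ Ideal.Quotient.mk_surjective] at this
    obtain ⟨y, hy, hxy⟩ := this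
    have hd : x - y ∈ K := by
      rw [← Ideal.Quotient.eq]; exact hxy.symm
    have : x = y + (x - y) := by ring
    rw [this]
    exact Submodule.add_mem_sup hy hd
  have h2 : J' ≤ J'' ⊔ K * J' := by
    intro x hx
    obtain ⟨y, hy, z, hz, rfl⟩ := Submodule.mem_sup.mp (h1 hx)
    have hzJ : z ∈ J' := by
      have := J'.sub_mem hx (hle hy)
      simpa using this
    exact Submodule.add_mem_sup hy (inf_map_le_mul_of_flat I J' ⟨hzJ, hz⟩)
  have h3 : ∀ n : ℕ, J' ≤ J'' ⊔ K ^ (n + 1) * J' := by
    intro n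
    induction n with
    | zero => simpa using h2
    | succ n ih =>
      refine h2.trans (sup_le le_sup_left ?_)
      calc K * J' ≤ K * (J'' ⊔ K ^ (n + 1) * J') := Ideal.mul_mono_right ih
        _ = K * J'' ⊔ K * (K ^ (n + 1) * J') := Ideal.mul_sup _ _ _
        _ ≤ J'' ⊔ K ^ (n + 1 + 1) * J' := by
          refine sup_le_sup Ideal.mul_le_right (le_of_eq ?_)
          rw [← mul_assoc, ← pow_succ']
  obtain ⟨n, hn⟩ := hI
  have hKn : K ^ (n + 1) = ⊥ := by
    rw [hK, ← Ideal.map_pow, pow_succ, hn]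
    simp
  have := h3 n
  rwa [hKn, Ideal.bot_mul, sup_bot_eq] at this

end Groth.Agent.Lib.Helper16.KzFlat
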