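import Mathlib
import Groth.Prelude.Def_RegImm
import Groth.Prelude.Def_Pi1
import Groth.Prelude.Def_EGA4b
import Groth.Agent.Lib.Helper16.TransReg1
import Groth.Agent.Lib.Helper16.CIInv6
import Groth.Agent.Lib.Helper16.KzLoc4
import Groth.Agent.Lib.Helper16.KzFlat6
import Groth.Agent.S5178

/-!
# Transversally regular generators of a flat quotient vs complete intersection closed fibre
-/

set_option autoImplicit false
set_option linter.unusedSectionVars false
set_option linter.unusedVariables false
set_option linter.unusedSimpArgs false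
universe u
open IsLocalRing TensorProduct Pointwise RingTheory.Sequence

namespace Groth.Agent.Lib.Helper16.TransReg

/-- For a surjection from a regular local ring `R` onto a local ring `A'`, `A'` is a complete
intersection iff the kernel is generated by a regular sequence. -/
theorem ci_iff_of_surjective {R A' : Type u} [CommRing R] [IsRegularLocalRing R] [CommRing A']
    [IsLocalRing A'] [Algebra R A'] (hs : Function.Surjective (algebraMap R A')) :
    Pi1.IsCompleteIntersection A' ↔
      ∃ rs : List R, Ideal.ofList rs = RingHom.ker (algebraMap R A') ∧ IsRegular R rs := by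
  classical
  have hN : IsNoetherianRing A' := isNoetherianRing_of_surjective R A' (algebraMap R A') hs
  set I := RingHom.ker (algebraMap R A') with hIdef
  have hI : I ≠ ⊤ := RingHom.ker_ne_top _
  have hregC : IsRegularLocalRing (EGA4.Cpl R) := (Groth.Agent.S0548.result R).mp inferInstance
  have hloc : IsLocalHom (algebraMap R A') :=
    Groth.Agent.Lib.Helper18.CplQuot.isLocalHom_of_surjective _ _ hs
  obtain ⟨ε⟩ := Groth.Agent.Lib.Helper18.CplQuot.nonempty_ringEquiv R A' hs
  obtain ⟨d, hd⟩ := Groth.Agent.Lib.Helper21.exists_nat_eq_ringKrullDim (R := A')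
  obtain ⟨e, he⟩ := Groth.Agent.Lib.Helper21.exists_nat_eq_ringKrullDim (R := R)
  have heC : ringKrullDim (EGA4.Cpl R) = (e : WithBot ℕ∞) := by
    rw [← he]; exact Groth.Agent.S0547.result R
  have hd' : ringKrullDim (R ⧸ I) = d := by
    rw [ringKrullDim_eq_of_ringEquiv (RingHom.quotientKerEquivOfSurjective hs), hd]
  have h1 := (Groth.Agent.S5178.result A' (EGA4.Cpl R) (I.map (algebraMap R (EGA4.Cpl R)))
    ⟨ε.symm⟩ d e hd heC).2
  rw [Groth.Agent.Lib.Helper16.CIInv.spanFinrank_map_cpl R I] at h1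
  have h2 := Groth.Agent.Lib.Helper16.CIInv.exists_isRegular_iff I hI d e hd' he
  rw [← h1, h2]
  omega

section ring

variable {A C : Type u} [CommRing A] [CommRing C] [Algebra A C]

/-- `C ⧸ (I • ⊤) ≃ C ⧸ I`. -/
noncomputable def quotSMulTopSelfEquiv (I : Ideal C) :
    (C ⧸ (I • ⊤ : Submodule C C)) ≃ₗ[C] (C ⧸ I) :=
  Submodule.quotEquivOfEq _ _ (by rw [smul_eq_mul, Ideal.mul_top])

theorem tr_self_iff (rs : List C) : TR A C rs ↔ RegImm.IsTransRegularSeq A C rs := by
  unfold TR RegImm.IsTransRegularSeq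
  refine and_congr Iff.rfl (forall_congr' fun j => forall_congr' fun hj => ?_)
  exact ⟨fun h => Module.Flat.of_linearEquiv
      ((quotSMulTopSelfEquiv (Ideal.ofList (rs.take j))).symm.restrictScalars A),
    fun h => Module.Flat.of_linearEquiv
      ((quotSMulTopSelfEquiv (Ideal.ofList (rs.take j))).restrictScalars A)⟩

/-- weak regularity on the quotient ring `C ⧸ K` of the images vs. on the `C`-module `C ⧸ K • ⊤` -/
theorem isWeaklyRegular_quot_iff (K : Ideal C) (rs : List C) :
    IsWeaklyRegular (C ⧸ K) (rs.map (Ideal.Quotient.mk K)) ↔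
      IsWeaklyRegular (C ⧸ (K • ⊤ : Submodule C C)) rs := by
  have h1 : IsWeaklyRegular (C ⧸ K) (rs.map (algebraMap C (C ⧸ K))) ↔ IsWeaklyRegular (C ⧸ K) rs :=
    isWeaklyRegular_map_algebraMap_iff (C ⧸ K) (C ⧸ K) rs
  rw [← (quotSMulTopSelfEquiv K).isWeaklyRegular_congr rs] at h1
  exact h1

end ring

section main

variable (A C B : Type u) [CommRing A] [IsLocalRing A] [IsNoetherianRing A]
  [CommRing C] [IsLocalRing C] [IsNoetherianRing C] [Algebra A C] [IsLocalHom (algebraMap A C)]
  [Module.Flat A C]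
  [CommRing B] [IsLocalRing B] [Algebra C B] [Algebra A B] [IsScalarTower A C B]
  [IsLocalHom (algebraMap A B)]

theorem mB_le_comap : EGA4.mB A C ≤ (EGA4.mB A B).comap (algebraMap C B) := by
  rw [← Ideal.map_le_iff_le_comap, EGA4.mB, EGA4.mB, Ideal.map_map,
    ← IsScalarTower.algebraMap_eq]

/-- the induced map on closed fibres -/
noncomputable def fibMap : EGA4.FibRing A C →+* EGA4.FibRing A B :=
  Ideal.quotientMap (EGA4.mB A B) (algebraMap C B) (mB_le_comap A C B)

theorem fibMap_mk (x : C) :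
    fibMap A C B (Ideal.Quotient.mk (EGA4.mB A C) x) =
      Ideal.Quotient.mk (EGA4.mB A B) (algebraMap C B x) := by
  unfold fibMap
  rw [Ideal.quotientMap_mk]

variable (hsurj : Function.Surjective (algebraMap C B))

include hsurj in
theorem fibMap_surjective : Function.Surjective (fibMap A C B) :=
  Ideal.quotientMap_surjective hsurj

include hsurj in
theorem ker_fibMap : RingHom.ker (fibMap A C B) =
    (RingHom.ker (algebraMap C B)).map (Ideal.Quotient.mk (EGA4.mB A C)) := by
  ext xbar
  obtain ⟨x, rfl⟩ := Ideal.Quotient.mk_surjective xbar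
  rw [RingHom.mem_ker, fibMap_mk, Ideal.Quotient.eq_zero_iff_mem,
    Ideal.mem_map_iff_of_surjective _ Ideal.Quotient.mk_surjective]
  constructor
  · intro h
    have hm : EGA4.mB A B = (EGA4.mB A C).map (algebraMap C B) := by
      rw [EGA4.mB, EGA4.mB, Ideal.map_map, ← IsScalarTower.algebraMap_eq]
    rw [hm, Ideal.mem_map_iff_of_surjective _ hsurj] at h
    obtain ⟨y, hy, hxy⟩ := h
    refine ⟨x - y, ?_, ?_⟩
    · rw [RingHom.mem_ker, map_sub, hxy, sub_self]
    · rw [Ideal.Quotient.eq]
      simpa using hy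
  · rintro ⟨j, hj, hjx⟩
    rw [Ideal.Quotient.eq] at hjx
    have h1 : algebraMap C B x = algebraMap C B (x - j) := by
      rw [map_sub, (RingHom.mem_ker).mp hj, sub_zero]
    rw [h1]
    have h2 : x - j ∈ EGA4.mB A C := by
      have := (EGA4.mB A C).neg_mem hjx
      simpa using this
    exact mB_le_comap A C B h2

/-- `B ≃ C ⧸ ker` as `A`-modules -/
noncomputable def quotKerEquiv : (C ⧸ RingHom.ker (algebraMap C B)) ≃ₗ[A] B :=
  (Ideal.quotientKerAlgEquivOfSurjective (f := IsScalarTower.toAlgHom A C B) hsurj).toLinearEquiv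

include hsurj in
theorem flat_iff_quot : Module.Flat A B ↔ Module.Flat A (C ⧸ RingHom.ker (algebraMap C B)) :=
  ⟨fun h => Module.Flat.of_linearEquiv (quotKerEquiv A C B hsurj),
   fun h => Module.Flat.of_linearEquiv (quotKerEquiv A C B hsurj).symm⟩

include hsurj in
theorem ker_ne_top' : RingHom.ker (fibMap A C B) ≠ ⊤ := RingHom.ker_ne_top _

include hsurj in
/-- forward direction -/
theorem fwd (hreg : IsRegularLocalRing (EGA4.FibRing A C)) (rs : List C)
    (hrs : Ideal.ofList rs = RingHom.ker (algebraMap C B))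
    (htr : RegImm.IsTransRegularSeq A C rs) :
    Module.Flat A B ∧ Pi1.IsCompleteIntersection (EGA4.FibRing A B) := by
  have hfl : Module.Flat A B := by
    rw [flat_iff_quot A C B hsurj, ← hrs]
    have := htr.2 rs.length le_rfl
    rwa [List.take_length] at this
  refine ⟨hfl, ?_⟩
  let _ : Algebra (EGA4.FibRing A C) (EGA4.FibRing A B) := (fibMap A C B).toAlgebra
  have hs' : Function.Surjective (algebraMap (EGA4.FibRing A C) (EGA4.FibRing A B)) :=
    fibMap_surjective A C B hsurj
  have hker : RingHom.ker (algebraMap (EGA4.FibRing A C) (EGA4.FibRing A B)) =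
      (RingHom.ker (algebraMap C B)).map (Ideal.Quotient.mk (EGA4.mB A C)) :=
    ker_fibMap A C B hsurj
  rw [ci_iff_of_surjective hs']
  have hof : Ideal.ofList (rs.map (Ideal.Quotient.mk (EGA4.mB A C))) =
      RingHom.ker (algebraMap (EGA4.FibRing A C) (EGA4.FibRing A B)) := by
    rw [hker, ← hrs, Ideal.map_ofList]
  refine ⟨rs.map (Ideal.Quotient.mk (EGA4.mB A C)), hof, ?_⟩
  have hmem : ∀ x ∈ rs.map (Ideal.Quotient.mk (EGA4.mB A C)),
      x ∈ maximalIdeal (EGA4.FibRing A C) := by
    intro x hx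
    refine IsLocalRing.le_maximalIdeal (RingHom.ker_ne_top
      (algebraMap (EGA4.FibRing A C) (EGA4.FibRing A B))) ?_
    rw [← hof]
    exact Ideal.subset_span hx
  rw [IsLocalRing.isRegular_iff_isWeaklyRegular_of_subset_maximalIdeal hmem,
    isWeaklyRegular_quot_iff]
  exact isWeaklyRegular_quot_of_tr (maximalIdeal A) rs C ((tr_self_iff rs).mpr htr)

include hsurj in
/-- backward direction -/
theorem bwd (hreg : IsRegularLocalRing (EGA4.FibRing A C)) (hfl : Module.Flat A B)
    (hci : Pi1.IsCompleteIntersection (EGA4.FibRing A B)) :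
    ∃ rs : List C, Ideal.ofList rs = RingHom.ker (algebraMap C B) ∧
      RegImm.IsTransRegularSeq A C rs := by
  let _ : Algebra (EGA4.FibRing A C) (EGA4.FibRing A B) := (fibMap A C B).toAlgebra
  have hs' : Function.Surjective (algebraMap (EGA4.FibRing A C) (EGA4.FibRing A B)) :=
    fibMap_surjective A C B hsurj
  have hker : RingHom.ker (algebraMap (EGA4.FibRing A C) (EGA4.FibRing A B)) =
      (RingHom.ker (algebraMap C B)).map (Ideal.Quotient.mk (EGA4.mB A C)) :=
    ker_fibMap A C B hsurj
  rw [ci_iff_of_surjective hs'] at hci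
  obtain ⟨rbar, hrbar, hregbar⟩ := hci
  set J := RingHom.ker (algebraMap C B) with hJ
  -- lift the generators to `J`
  obtain ⟨rs, hrsJ, hrsmap⟩ := Groth.Agent.Lib.Helper16.KzLoc.exists_lift_list
    (Ideal.Quotient.mk (EGA4.mB A C)) J rbar (by
      intro x hx
      have hx' : x ∈ J.map (Ideal.Quotient.mk (EGA4.mB A C)) := by
        rw [← hker, ← hrbar]; exact Ideal.subset_span hx
      rw [Ideal.mem_map_iff_of_surjective _ Ideal.Quotient.mk_surjective] at hx'
      obtain ⟨j, hj, hjx⟩ := hx'
      exact ⟨j, hj, hjx⟩)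
  have hwr : IsWeaklyRegular (C ⧸ (EGA4.mB A C • ⊤ : Submodule C C)) rs := by
    rw [← isWeaklyRegular_quot_iff, hrsmap]
    exact hregbar.toIsWeaklyRegular
  have htr : TR A C rs := tr_of_isWeaklyRegular_fibre rs C hwr
  refine ⟨rs, ?_, (tr_self_iff rs).mp htr⟩
  have hle : Ideal.ofList rs ≤ J := by
    rw [Ideal.ofList, Ideal.span_le]
    exact fun x hx => hrsJ x hx
  refine le_antisymm hle ?_
  have : Module.Flat A (C ⧸ J) := (flat_iff_quot A C B hsurj).mp hfl
  have hmapeq : J.map (Ideal.Quotient.mk (EGA4.mB A C)) =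
      (Ideal.ofList rs).map (Ideal.Quotient.mk (EGA4.mB A C)) := by
    rw [Ideal.map_ofList, hrsmap, hrbar, hker]
  have h2 : J ≤ Ideal.ofList rs ⊔ EGA4.mB A C * J :=
    Groth.Agent.Lib.Helper16.KzFlat.le_sup_mul_of_map_eq_of_flat (maximalIdeal A) J
      (Ideal.ofList rs) hle hmapeq
  refine Submodule.le_of_le_smul_of_le_jacobson_bot (I := EGA4.mB A C)
    (IsNoetherian.noetherian J) ?_ h2
  rw [IsLocalRing.jacobson_eq_maximalIdeal ⊥ bot_ne_top]
  exact IsLocalRing.map_maximalIdeal_le (algebraMap A C)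

end main

end Groth.Agent.Lib.Helper16.TransReg
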