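import Mathlib
import Groth.Prelude.Def_RegImm
import Groth.Prelude.Def_EGA4b
import Groth.Agent.Lib.Helper16.TransReg2
import Groth.Agent.Lib.Helper18.FibBridge
import Groth.Agent.Lib.Helper23.SyntF2

/-!
# Local structure of syntomic algebras over a Noetherian base: kernel generated by a regular sequence at each prime
-/

set_option autoImplicit false
set_option linter.unusedSectionVars false
set_option linter.unusedVariables false
set_option linter.unusedSimpArgs false
universe u
open IsLocalRing TensorProduct Pointwise RingTheory.Sequence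

namespace Groth.Agent.Lib.Helper16.SyntStr

section bwd

variable (A C B : Type u) [CommRing A] [IsLocalRing A] [IsNoetherianRing A]
  [CommRing C] [IsLocalRing C] [IsNoetherianRing C] [Algebra A C] [IsLocalHom (algebraMap A C)]
  [Module.Flat A C]
  [CommRing B] [IsLocalRing B] [Algebra C B] [Algebra A B] [IsScalarTower A C B]
  [IsLocalHom (algebraMap A B)]

open Groth.Agent.Lib.Helper16.TransReg in
/-- variant of `TransReg.bwd` taking the regular sequence on the closed fibre directly -/
theorem bwd' (hsurj : Function.Surjective (algebraMap C B)) (hfl : Module.Flat A B)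
    (rbar : List (EGA4.FibRing A C))
    (hrbar : Ideal.ofList rbar = RingHom.ker (fibMap A C B))
    (hregbar : IsWeaklyRegular (EGA4.FibRing A C) rbar) :
    ∃ rs : List C, Ideal.ofList rs = RingHom.ker (algebraMap C B) ∧
      RegImm.IsTransRegularSeq A C rs := by
  have hker : RingHom.ker (fibMap A C B) =
      (RingHom.ker (algebraMap C B)).map (Ideal.Quotient.mk (EGA4.mB A C)) :=
    ker_fibMap A C B hsurj
  set J := RingHom.ker (algebraMap C B) with hJ
  obtain ⟨rs, hrsJ, hrsmap⟩ := Groth.Agent.Lib.Helper16.KzLoc.exists_lift_list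
    (Ideal.Quotient.mk (EGA4.mB A C)) J rbar (by
      intro x hx
      have hx' : x ∈ J.map (Ideal.Quotient.mk (EGA4.mB A C)) := by
        rw [← hker, ← hrbar]; exact Ideal.subset_span hx
      rw [Ideal.mem_map_iff_of_surjective _ Ideal.Quotient.mk_surjective] at hx'
      obtain ⟨j, hj, hjx⟩ := hx'
      exact ⟨j, hj, hjx⟩)
  have hwr : IsWeaklyRegular (C ⧸ (EGA4.mB A C • ⊤ : Submodule C C)) rs := by
    rw [← isWeaklyRegular_quot_iff, hrsmap]
    exact hregbar
  have htr : TR A C rs := tr_of_isWeaklyRegular_fibre rs C hwr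
  refine ⟨rs, ?_, (tr_self_iff rs).mp htr⟩
  have hle : Ideal.ofList rs ≤ J := by
    rw [Ideal.ofList, Ideal.span_le]
    exact fun x hx => hrsJ x hx
  refine le_antisymm hle ?_
  have : Module.Flat A (C ⧸ J) := (flat_iff_quot A C B hsurj).mp hfl
  have hmapeq : J.map (Ideal.Quotient.mk (EGA4.mB A C)) =
      (Ideal.ofList rs).map (Ideal.Quotient.mk (EGA4.mB A C)) := by
    rw [Ideal.map_ofList, hrsmap, hrbar, hker]
  have h2 : J ≤ Ideal.ofList rs ⊔ EGA4.mB A C * J :=
    Groth.Agent.Lib.Helper16.KzFlat.le_sup_mul_of_map_eq_of_flat (maximalIdeal A) J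
      (Ideal.ofList rs) hle hmapeq
  refine Submodule.le_of_le_smul_of_le_jacobson_bot (I := EGA4.mB A C)
    (IsNoetherian.noetherian J) ?_ h2
  rw [IsLocalRing.jacobson_eq_maximalIdeal ⊥ bot_ne_top]
  exact IsLocalRing.map_maximalIdeal_le (algebraMap A C)

end bwd

section loc

variable {R S : Type u} [CommRing R] [CommRing S]

theorem localRingHom_surjective (f : R →+* S) (hf : Function.Surjective f) (I : Ideal R)
    [I.IsPrime] (J : Ideal S) [J.IsPrime] (hIJ : I = J.comap f) :
    Function.Surjective (Localization.localRingHom I J f hIJ) := by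
  subst hIJ
  exact RingHom.surjective_localRingHom_of_surjective f hf J

theorem ker_localRingHom (f : R →+* S) (hf : Function.Surjective f) (I : Ideal R)
    [I.IsPrime] (J : Ideal S) [J.IsPrime] (hIJ : I = J.comap f) :
    RingHom.ker (Localization.localRingHom I J f hIJ) =
      (RingHom.ker f).map (algebraMap R (Localization.AtPrime I)) := by
  subst hIJ
  have hT : Submonoid.map f (J.comap f).primeCompl = J.primeCompl :=
    Submonoid.map_comap_eq_of_surjective hf J.primeCompl
  exact IsLocalization.ker_map (S := Localization.AtPrime (J.comap f))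
    (Localization.AtPrime J) f hT

end loc


section bridge

variable {A B : Type u} [CommRing A] [CommRing B] [Algebra A B]
  (p : Ideal A) [p.IsPrime] (q : Ideal B) [q.IsPrime] [q.LiesOver p]
  [Algebra (Localization.AtPrime p) (Localization.AtPrime q)]
  [Localization.AtPrime.IsLiesOverAlgebra p q]

theorem isLocalHom_algebraMap :
    IsLocalHom (algebraMap (Localization.AtPrime p) (Localization.AtPrime q)) := by
  rw [Localization.AtPrime.IsLiesOverAlgebra.algebraMap_eq]
  exact Localization.isLocalHom_localRingHom _ _ _ _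

theorem mB_eq : EGA4.mB (Localization.AtPrime p) (Localization.AtPrime q) =
    (q.comap (algebraMap A B)).map (algebraMap A (Localization.AtPrime q)) := by
  have hp : q.comap (algebraMap A B) = p := (Ideal.over_def q p).symm
  rw [hp, EGA4.mB, ← Localization.AtPrime.map_eq_maximalIdeal, Ideal.map_map,
    ← IsScalarTower.algebraMap_eq]

theorem fibLocRing_congr (r r' : Ideal B) [r.IsPrime] [r'.IsPrime] (h : r = r') :
    Nonempty (EGA4.FibLocRing A B r ≃+* EGA4.FibLocRing A B r') := by
  subst h
  exact ⟨RingEquiv.refl _⟩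

/-- the closed fibre of `A_p → B_q` is the local ring of the fibre `κ(p) ⊗ B` at a prime -/
theorem exists_fiber_equiv :
    ∃ (Q : Ideal (p.Fiber B)) (_ : Q.IsPrime),
      Nonempty (Localization.AtPrime Q ≃+*
        EGA4.FibRing (Localization.AtPrime p) (Localization.AtPrime q)) := by
  obtain ⟨Q, hQ, hQq⟩ := Groth.Agent.Lib.Helper18.FibBridge.exists_prime_of_comap_eq p q
    (Ideal.over_def q p).symm
  obtain ⟨e1⟩ := Groth.Agent.Lib.Helper18.FibBridge.nonempty_ringEquiv p Q
  obtain ⟨e2⟩ := fibLocRing_congr (A := A) _ q hQq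
  exact ⟨Q, hQ, ⟨(e1.trans e2).trans (Ideal.quotEquivOfEq (mB_eq p q)).symm⟩⟩

theorem isRegularLocalRing_fibRing [IsRegularRing (p.Fiber B)] :
    letI := isLocalHom_algebraMap p q
    IsRegularLocalRing (EGA4.FibRing (Localization.AtPrime p) (Localization.AtPrime q)) := by
  obtain ⟨Q, hQ, ⟨e⟩⟩ := exists_fiber_equiv p q
  have : IsRegularLocalRing (Localization.AtPrime Q) :=
    IsRegularRing.isRegularLocalRing_localization Q
  exact @IsRegularLocalRing.of_ringEquiv (Localization.AtPrime Q) _ _ _ _ e

end bridge


section main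

variable {A P B : Type u} [CommRing A] [CommRing P] [CommRing B] [Algebra A P] [Algebra P B]
  [Algebra A B] [IsScalarTower A P B]
  (p : Ideal A) [p.IsPrime] (Q : Ideal P) [Q.IsPrime] (q : Ideal B) [q.IsPrime]
  [Q.LiesOver p] [q.LiesOver Q] [q.LiesOver p]
  [Algebra (Localization.AtPrime p) (Localization.AtPrime Q)]
  [Localization.AtPrime.IsLiesOverAlgebra p Q]
  [Algebra (Localization.AtPrime Q) (Localization.AtPrime q)]
  [Localization.AtPrime.IsLiesOverAlgebra Q q]
  [Algebra (Localization.AtPrime p) (Localization.AtPrime q)]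
  [Localization.AtPrime.IsLiesOverAlgebra p q]

include q in
open Groth.Agent.Lib.Helper16.TransReg in
theorem exists_isWeaklyRegular_ker_aux [IsNoetherianRing A] [IsNoetherianRing P]
    [Module.Flat A P] [Module.Flat A B] [IsRegularRing (p.Fiber P)]
    (hsurj : Function.Surjective (algebraMap P B))
    (hlci : Synt.IsLCIOver p.ResidueField (p.Fiber B)) :
    ∃ xs : List (Localization.AtPrime Q),
      Ideal.ofList xs =
        (RingHom.ker (algebraMap P B)).map (algebraMap P (Localization.AtPrime Q)) ∧
      IsWeaklyRegular (Localization.AtPrime Q) xs := by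
  have hl1 := isLocalHom_algebraMap p Q
  have hl2 := isLocalHom_algebraMap p q
  have hs' : Function.Surjective
      (algebraMap (Localization.AtPrime Q) (Localization.AtPrime q)) := by
    rw [Localization.AtPrime.IsLiesOverAlgebra.algebraMap_eq]
    exact localRingHom_surjective _ hsurj _ _ _
  have hker : RingHom.ker (algebraMap (Localization.AtPrime Q) (Localization.AtPrime q)) =
      (RingHom.ker (algebraMap P B)).map (algebraMap P (Localization.AtPrime Q)) := by
    rw [Localization.AtPrime.IsLiesOverAlgebra.algebraMap_eq]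
    exact ker_localRingHom _ hsurj _ _ _
  have hreg : IsRegularLocalRing
      (EGA4.FibRing (Localization.AtPrime p) (Localization.AtPrime Q)) :=
    isRegularLocalRing_fibRing p Q
  obtain ⟨Qb, hQb, ⟨e⟩⟩ := exists_fiber_equiv p q
  have hCI : Synt.IsCIOver p.ResidueField (Localization.AtPrime Qb) :=
    Groth.Agent.Lib.Helper23.SyntF.isCIOver_atPrime_of_isLCIOver hlci Qb
  let f : EGA4.FibRing (Localization.AtPrime p) (Localization.AtPrime Q) →+*
      Localization.AtPrime Qb :=
    e.symm.toRingHom.comp
      (fibMap (Localization.AtPrime p) (Localization.AtPrime Q) (Localization.AtPrime q))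
  have hf : Function.Surjective f :=
    e.symm.surjective.comp (fibMap_surjective _ _ _ hs')
  have hkf : RingHom.ker f = RingHom.ker
      (fibMap (Localization.AtPrime p) (Localization.AtPrime Q) (Localization.AtPrime q)) := by
    ext x
    simp only [f, RingHom.mem_ker, RingHom.coe_comp, Function.comp_apply]
    exact EmbeddingLike.map_eq_zero_iff (f := e.symm)
  obtain ⟨rbar, hrbar, hregbar⟩ :=
    Groth.Agent.Lib.Helper23.SyntF.exists_isRegular_of_isCIOver hCI _ f hf
  obtain ⟨rs, hrs, htr⟩ := bwd' (Localization.AtPrime p) (Localization.AtPrime Q)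
    (Localization.AtPrime q) hs' inferInstance rbar (hrbar.trans hkf)
    hregbar.toIsWeaklyRegular
  exact ⟨rs, hrs.trans hker, htr.1⟩

end main


section wrapper

instance isRegularRing_fiber_mvPolynomial {A : Type u} [CommRing A] (p : Ideal A) [p.IsPrime]
    (n : ℕ) : IsRegularRing (p.Fiber (MvPolynomial (Fin n) A)) :=
  IsRegularRing.of_ringEquiv
    (MvPolynomial.algebraTensorAlgEquiv (σ := Fin n) A p.ResidueField).symm.toRingEquiv

/-- Local structure of a syntomic algebra over a Noetherian ring: for a presentation
`f : A[T] → B`, the kernel of `f` is generated at each prime by a (weakly) regular sequence. -/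
theorem exists_isWeaklyRegular_ker (A : Type u) [CommRing A] [IsNoetherianRing A] (B : Type u)
    [CommRing B] [Algebra A B] (h : Synt.IsSyntomic A B) (n : ℕ)
    (f : MvPolynomial (Fin n) A →ₐ[A] B) (hf : Function.Surjective f)
    (q : Ideal B) [q.IsPrime] :
    ∃ xs : List (Localization.AtPrime (q.comap f)),
      Ideal.ofList xs = (RingHom.ker f).map
        (algebraMap (MvPolynomial (Fin n) A) (Localization.AtPrime (q.comap f))) ∧
      IsWeaklyRegular (Localization.AtPrime (q.comap f)) xs := by
  let _ : Algebra (MvPolynomial (Fin n) A) B := f.toRingHom.toAlgebra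
  have htow : IsScalarTower A (MvPolynomial (Fin n) A) B :=
    IsScalarTower.of_algebraMap_eq fun x => (f.commutes x).symm
  have hfl : Module.Flat A B := h.1
  have h1 : q.LiesOver (q.comap f) := ⟨rfl⟩
  have h2 : q.LiesOver (q.under A) := ⟨rfl⟩
  have h3 : (q.comap f).LiesOver (q.under A) := by
    refine ⟨?_⟩
    ext x
    simp only [Ideal.under, Ideal.mem_comap]
    rw [f.commutes]
  let _ := Localization.AtPrime.algebraOfLiesOver (q.under A) (q.comap f)
  let _ := Localization.AtPrime.algebraOfLiesOver (q.comap f) q
  let _ := Localization.AtPrime.algebraOfLiesOver (q.under A) q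
  exact exists_isWeaklyRegular_ker_aux (q.under A) (q.comap f) q hf
    (h.2.2 ⟨q.under A, inferInstance⟩)

end wrapper

end Groth.Agent.Lib.Helper16.SyntStr
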