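import Mathlib
import Groth.Prelude.Def_CAlg
import Groth.Agent.Lib.Helper18.CM5

/-!
# Localization vs quotient by a list; spreading out regular sequences from a prime to a basic open
-/

set_option autoImplicit false
set_option linter.unusedSectionVars false
universe u
open IsLocalRing RingTheory.Sequence Pointwise

namespace Groth.Agent.Lib.Helper16.SkEmb

section quot

variable {A : Type u} [CommRing A] (T : Submonoid A)
  (M : Type u) [AddCommGroup M] [Module A M]

theorem localized_ofList_smul_top (fs : List A) :
    (Ideal.ofList fs • (⊤ : Submodule A M)).localized T =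
      Ideal.ofList (fs.map (algebraMap A (Localization T))) •
        (⊤ : Submodule (Localization T) (LocalizedModule T M)) := by
  change (Ideal.ofList fs • (⊤ : Submodule A M)).localized' (Localization T) T
    (LocalizedModule.mkLinearMap T M) = _
  rw [Submodule.localized'_smul, Submodule.localized'_top]
  congr 1
  change (Submodule.span A {r | r ∈ fs}).localized' (Localization T) T
    (Algebra.linearMap A (Localization T)) = Submodule.span (Localization T) _
  rw [Submodule.localized'_span]
  congr 1
  ext x
  simp only [Set.mem_image, Set.mem_ofPred_eq, List.mem_map, Algebra.linearMap_apply]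

/-- localization commutes with the quotient by a finitely generated ideal -/
noncomputable def locQuotEquiv (fs : List A) :
    LocalizedModule T (M ⧸ Ideal.ofList fs • (⊤ : Submodule A M)) ≃ₗ[Localization T]
      (LocalizedModule T M ⧸ Ideal.ofList (fs.map (algebraMap A (Localization T))) •
        (⊤ : Submodule (Localization T) (LocalizedModule T M))) :=
  (localizedQuotientEquiv T (Ideal.ofList fs • (⊤ : Submodule A M))).symm ≪≫ₗ
    Submodule.quotEquivOfEq _ _ (localized_ofList_smul_top T M fs)

end quot

section unit

variable {R : Type u} [CommRing R]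

theorem smul_top_eq_of_isUnit (M : Type u) [AddCommGroup M] [Module R M] (a u : R)
    (hu : IsUnit u) : (u * a) • (⊤ : Submodule R M) = a • (⊤ : Submodule R M) := by
  obtain ⟨v, rfl⟩ := hu
  ext x
  constructor
  · intro hx
    obtain ⟨y, -, rfl⟩ := (Submodule.mem_smul_pointwise_iff_exists x (↑v * a) ⊤).mp hx
    rw [mul_comm, mul_smul]
    exact Submodule.smul_mem_pointwise_smul _ a ⊤ trivial
  · intro hx
    obtain ⟨y, -, rfl⟩ := (Submodule.mem_smul_pointwise_iff_exists x a ⊤).mp hx
    have : a • y = (↑v * a) • ((↑v⁻¹ : R) • y) := by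
      rw [← mul_smul, mul_comm (↑v : R) a, mul_assoc, Units.mul_inv, mul_one]
    rw [this]
    exact Submodule.smul_mem_pointwise_smul _ _ ⊤ trivial

theorem isWeaklyRegular_of_forall₂_unit {rs rs' : List R}
    (h : List.Forall₂ (fun a b => ∃ u : R, IsUnit u ∧ b = u * a) rs rs') :
    ∀ (M : Type u) [AddCommGroup M] [Module R M], IsWeaklyRegular M rs → IsWeaklyRegular M rs' := by
  induction h with
  | nil => intro M _ _ h; exact h
  | @cons a b l₁ l₂ hab _ ih =>
    intro M _ _ hreg
    obtain ⟨u, hu, rfl⟩ := hab
    rw [isWeaklyRegular_cons_iff] at hreg ⊢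
    refine ⟨IsSMulRegular.mul (hu.isSMulRegular M) hreg.1, ?_⟩
    have e : QuotSMulTop a M ≃ₗ[R] QuotSMulTop (u * a) M :=
      Submodule.quotEquivOfEq _ _ (smul_top_eq_of_isUnit M a u hu).symm
    exact (LinearEquiv.isWeaklyRegular_congr e _).mp (ih _ hreg.2)

end unit

section spread

variable {A : Type u} [CommRing A] [IsNoetherianRing A] (p : Ideal A) [hp : p.IsPrime]

/-- clearing denominators in a list of elements of a localization -/
theorem exists_numerators (xs : List (Localization.AtPrime p)) :
    ∃ fs : List A, fs.length = xs.length ∧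
      List.Forall₂ (fun a b => ∃ u : Localization.AtPrime p, IsUnit u ∧ b = u * a) xs
        (fs.map (algebraMap A (Localization.AtPrime p))) := by
  induction xs with
  | nil => exact ⟨[], rfl, List.Forall₂.nil⟩
  | cons x xs ih =>
    obtain ⟨fs, hlen, hfs⟩ := ih
    obtain ⟨a, s, rfl⟩ := IsLocalization.exists_mk'_eq p.primeCompl x
    refine ⟨a :: fs, by simp [hlen], ?_⟩
    rw [List.map_cons]
    refine List.Forall₂.cons ⟨algebraMap A (Localization.AtPrime p) s,
      IsLocalization.map_units _ s, ?_⟩ hfs
    rw [IsLocalization.mul_mk'_eq_mk'_of_mul, IsLocalization.mk'_mul_cancel_left]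

variable (N : Type u) [AddCommGroup N] [Module A N] [Module.Finite A N]

/-- spreading out regularity of one element -/
theorem exists_isSMulRegular_localizedModule (f : A)
    (h : IsSMulRegular (LocalizedModule p.primeCompl N)
      (algebraMap A (Localization.AtPrime p) f)) :
    ∃ g : A, g ∉ p ∧ ∀ T : Submonoid A, IsUnit (algebraMap A (Localization T) g) →
      IsSMulRegular (LocalizedModule T N) (algebraMap A (Localization T) f) := by
  let K : Submodule A N := LinearMap.ker (LinearMap.lsmul A N f)
  have hK : ∀ k ∈ K, f • k = 0 := fun k hk => hk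
  have hsub : Subsingleton (LocalizedModule p.primeCompl K) := by
    rw [LocalizedModule.subsingleton_iff]
    intro k
    have h0 : algebraMap A (Localization.AtPrime p) f •
        LocalizedModule.mk (k : N) (1 : p.primeCompl) =
        algebraMap A (Localization.AtPrime p) f • (0 : LocalizedModule p.primeCompl N) := by
      rw [algebraMap_smul, LocalizedModule.smul'_mk, hK k.1 k.2, LocalizedModule.zero_mk,
        smul_zero]
    have h1 := h h0
    rw [← LocalizedModule.zero_mk (1 : p.primeCompl), LocalizedModule.mk_eq] at h1
    obtain ⟨t, ht⟩ := h1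
    simp only [one_smul, smul_zero] at ht
    exact ⟨t, t.2, Subtype.ext ht⟩
  have hnot : (⟨p, hp⟩ : PrimeSpectrum A) ∉ Module.support A K :=
    Module.notMem_support_iff.mpr hsub
  rw [Module.mem_support_iff_of_finite] at hnot
  obtain ⟨g, hgann, hgp⟩ := SetLike.not_le_iff_exists.mp hnot
  refine ⟨g, hgp, ?_⟩
  intro T hT
  rw [isSMulRegular_iff_right_eq_zero_of_smul]
  intro x hx
  induction x using LocalizedModule.induction_on with
  | h m t =>
    rw [algebraMap_smul, LocalizedModule.smul'_mk, ← LocalizedModule.zero_mk t,
      LocalizedModule.mk_eq] at hx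
    obtain ⟨u, hu⟩ := hx
    simp only [smul_zero, Submonoid.smul_def] at hu
    have hmem : (u : A) • (t : A) • m ∈ K := by
      show f • ((u : A) • (t : A) • m) = 0
      rw [smul_comm f, smul_comm f]
      exact hu
    have hg0 : g • ((u : A) • (t : A) • m) = 0 := by
      have := Module.mem_annihilator.mp hgann ⟨_, hmem⟩
      exact congrArg Subtype.val this
    have hunit : IsUnit (algebraMap A (Localization T) (g * u * t)) := by
      rw [map_mul, map_mul]
      exact (hT.mul (IsLocalization.map_units _ u)).mul (IsLocalization.map_units _ t)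
    apply (hunit.isSMulRegular (LocalizedModule T N)).right_eq_zero_of_smul
    rw [algebraMap_smul, LocalizedModule.smul'_mk, mul_smul, mul_smul, hg0,
      LocalizedModule.zero_mk]

/-- spreading out regular sequences -/
theorem exists_isWeaklyRegular_localizedModule (fs : List A) :
    ∀ (N : Type u) [AddCommGroup N] [Module A N] [Module.Finite A N],
      IsWeaklyRegular (LocalizedModule p.primeCompl N)
        (fs.map (algebraMap A (Localization.AtPrime p))) →
      ∃ g : A, g ∉ p ∧ ∀ T : Submonoid A, IsUnit (algebraMap A (Localization T) g) →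
        IsWeaklyRegular (LocalizedModule T N) (fs.map (algebraMap A (Localization T))) := by
  induction fs with
  | nil =>
    intro N _ _ _ _
    exact ⟨1, fun h => hp.ne_top ((Ideal.eq_top_iff_one p).mpr h),
      fun T _ => IsWeaklyRegular.nil _ _⟩
  | cons f fs ih =>
    intro N _ _ _ h
    rw [List.map_cons, isWeaklyRegular_cons_iff] at h
    obtain ⟨g1, hg1, h1⟩ := exists_isSMulRegular_localizedModule p N f h.1
    have h2' : IsWeaklyRegular (LocalizedModule p.primeCompl (QuotSMulTop f N))
        (fs.map (algebraMap A (Localization.AtPrime p))) :=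
      (LinearEquiv.isWeaklyRegular_congr
        (Groth.Agent.Lib.Helper18.CM.localizedQuotSMulTopEquiv p.primeCompl N f) _).mpr h.2
    obtain ⟨g2, hg2, h2⟩ := ih (QuotSMulTop f N) h2'
    refine ⟨g1 * g2, fun hmem => (hp.mem_or_mem hmem).elim hg1 hg2, ?_⟩
    intro T hT
    rw [map_mul, IsUnit.mul_iff] at hT
    rw [List.map_cons, isWeaklyRegular_cons_iff]
    exact ⟨h1 T hT.1, (LinearEquiv.isWeaklyRegular_congr
      (Groth.Agent.Lib.Helper18.CM.localizedQuotSMulTopEquiv T N f) _).mp (h2 T hT.2)⟩

end spread

end Groth.Agent.Lib.Helper16.SkEmb
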