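import Mathlib
import Groth.Agent.Lib.Helper16.SkEmb2
import Groth.Agent.Lib.Helper23.SyntF2

/-!
# Spreading out a regular sequence generating an ideal at a prime to a basic open
-/

set_option autoImplicit false
set_option linter.unusedSectionVars false
set_option linter.unusedVariables false
set_option linter.unusedSimpArgs false
universe u
open IsLocalRing TensorProduct Pointwise RingTheory.Sequence

namespace Groth.Agent.Lib.Helper16.SyntStr

variable {R : Type u} [CommRing R]

/-- `S⁻¹R` as a module over itself is the localized module of `R` -/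
noncomputable def localizedModuleSelfEquiv (T : Submonoid R) :
    LocalizedModule T R ≃ₗ[Localization T] Localization T :=
  (IsLocalizedModule.linearEquiv T (LocalizedModule.mkLinearMap T R)
    (Algebra.linearMap R (Localization T))).extendScalarsOfIsLocalization T (Localization T)

theorem isWeaklyRegular_localizedModule_self_iff (T : Submonoid R) (rs : List (Localization T)) :
    IsWeaklyRegular (LocalizedModule T R) rs ↔ IsWeaklyRegular (Localization T) rs :=
  LinearEquiv.isWeaklyRegular_congr (localizedModuleSelfEquiv T) rs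

theorem ofList_eq_of_forall₂_unit {S : Type u} [CommRing S] {rs rs' : List S}
    (h : List.Forall₂ (fun a b => ∃ u : S, IsUnit u ∧ b = u * a) rs rs') :
    Ideal.ofList rs' = Ideal.ofList rs := by
  induction h with
  | nil => rfl
  | @cons a b l₁ l₂ hab _ ih =>
    obtain ⟨u, hu, rfl⟩ := hab
    rw [Ideal.ofList_cons, Ideal.ofList_cons, ih, Ideal.span_singleton_mul_left_unit hu]

/-- spreading out a regular sequence generating an ideal at a prime to a basic open -/
theorem exists_away_isWeaklyRegular [IsNoetherianRing R] (Q : Ideal R) [Q.IsPrime] (I : Ideal R)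
    (xs : List (Localization.AtPrime Q))
    (hxs : Ideal.ofList xs = I.map (algebraMap R (Localization.AtPrime Q)))
    (hreg : IsWeaklyRegular (Localization.AtPrime Q) xs) :
    ∃ (h : R) (fs : List R), h ∉ Q ∧
      Ideal.ofList (fs.map (algebraMap R (Localization.Away h))) =
        I.map (algebraMap R (Localization.Away h)) ∧
      IsWeaklyRegular (Localization.Away h) (fs.map (algebraMap R (Localization.Away h))) := by
  obtain ⟨fs, hlen, hF⟩ := Groth.Agent.Lib.Helper16.SkEmb.exists_numerators Q xs
  have hreg' : IsWeaklyRegular (Localization.AtPrime Q)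
      (fs.map (algebraMap R (Localization.AtPrime Q))) :=
    Groth.Agent.Lib.Helper16.SkEmb.isWeaklyRegular_of_forall₂_unit hF _ hreg
  have hspan : Ideal.ofList (fs.map (algebraMap R (Localization.AtPrime Q))) = Ideal.ofList xs :=
    ofList_eq_of_forall₂_unit hF
  have hJ : (Ideal.ofList fs).map (algebraMap R (Localization.AtPrime Q)) =
      I.map (algebraMap R (Localization.AtPrime Q)) := by
    rw [Ideal.map_ofList, hspan, hxs]
  obtain ⟨G1, hG1, hG1I⟩ := Groth.Agent.Lib.Helper23.SyntF.exists_mul_mem_of_map_eq I
    (Ideal.ofList fs) Q (le_of_eq hJ.symm)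
  obtain ⟨G2, hG2, hG2J⟩ := Groth.Agent.Lib.Helper23.SyntF.exists_mul_mem_of_map_eq
    (Ideal.ofList fs) I Q (le_of_eq hJ)
  have hreg'' : IsWeaklyRegular (LocalizedModule Q.primeCompl R)
      (fs.map (algebraMap R (Localization.AtPrime Q))) :=
    (isWeaklyRegular_localizedModule_self_iff Q.primeCompl _).mpr hreg'
  obtain ⟨g, hg, hgreg⟩ :=
    Groth.Agent.Lib.Helper16.SkEmb.exists_isWeaklyRegular_localizedModule Q fs R hreg''
  have hunit : IsUnit (algebraMap R (Localization.Away (g * G1 * G2)) (g * G1 * G2)) :=
    IsLocalization.Away.algebraMap_isUnit _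
  rw [map_mul, map_mul, IsUnit.mul_iff, IsUnit.mul_iff] at hunit
  obtain ⟨⟨hug, hu1⟩, hu2⟩ := hunit
  refine ⟨g * G1 * G2, fs, ?_, ?_, ?_⟩
  · intro hmem
    rcases (Ideal.IsPrime.mem_or_mem inferInstance hmem) with h1 | h1
    · rcases (Ideal.IsPrime.mem_or_mem inferInstance h1) with h2 | h2
      · exact hg h2
      · exact hG1 h2
    · exact hG2 h1
  · rw [← Ideal.map_ofList]
    refine le_antisymm ?_ ?_
    · rw [Ideal.map_le_iff_le_comap]
      intro y hy
      rw [Ideal.mem_comap]
      have := Ideal.mem_map_of_mem (algebraMap R (Localization.Away (g * G1 * G2))) (hG2J y hy)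
      rw [map_mul] at this
      exact (Ideal.unit_mul_mem_iff_mem _ hu2).mp this
    · rw [Ideal.map_le_iff_le_comap]
      intro y hy
      rw [Ideal.mem_comap]
      have := Ideal.mem_map_of_mem (algebraMap R (Localization.Away (g * G1 * G2))) (hG1I y hy)
      rw [map_mul] at this
      exact (Ideal.unit_mul_mem_iff_mem _ hu1).mp this
  · exact (isWeaklyRegular_localizedModule_self_iff _ _).mp
      (hgreg (Submonoid.powers (g * G1 * G2)) hug)

end Groth.Agent.Lib.Helper16.SyntStr
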