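import Mathlib
import Groth.Prelude.Def_CAlgX
import Groth.Agent.Lib.Helper12.QuasiReg2

/-!
# Graded pieces of the ideal of a quasi-regular sequence are finite free
-/

set_option autoImplicit false
set_option linter.unusedSectionVars false
set_option linter.unusedVariables false
set_option linter.unusedSimpArgs false
universe u
open MvPolynomial

namespace Groth.Agent.Lib.Helper16.KzGr

variable {A : Type u} [CommRing A] {c : ℕ} (f : Fin c → A) (n : ℕ)

/-- exponent vectors of total degree `n` -/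
abbrev Mon (c n : ℕ) : Type := ↥((Finset.univ : Finset (Fin c)).finsuppAntidiag n)

lemma degree_of_mem {d : Fin c →₀ ℕ}
    (hd : d ∈ (Finset.univ : Finset (Fin c)).finsuppAntidiag n) : d.degree = n := by
  rw [Finset.mem_finsuppAntidiag] at hd
  rw [Finsupp.degree_eq_sum]
  exact hd.1

lemma mem_of_degree {d : Fin c →₀ ℕ} (hd : d.degree = n) :
    d ∈ (Finset.univ : Finset (Fin c)).finsuppAntidiag n := by
  rw [Finset.mem_finsuppAntidiag]
  refine ⟨?_, Finset.subset_univ _⟩
  rw [← Finsupp.degree_eq_sum]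
  exact hd

/-- the homogeneous polynomial with prescribed coefficients -/
noncomputable def polyOf : (Mon c n → A) →ₗ[A] MvPolynomial (Fin c) A :=
  ∑ d : Mon c n, (monomial d.1).comp (LinearMap.proj d)

lemma polyOf_apply (a : Mon c n → A) : polyOf n a = ∑ d : Mon c n, monomial d.1 (a d) := by
  unfold polyOf
  rw [LinearMap.sum_apply]
  rfl

lemma polyOf_isHomogeneous (a : Mon c n → A) : (polyOf n a).IsHomogeneous n := by
  rw [polyOf_apply]
  exact IsHomogeneous.sum _ _ _ fun d _ => isHomogeneous_monomial _ (degree_of_mem n d.2)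

lemma coeff_polyOf (a : Mon c n → A) (d : Mon c n) : (polyOf n a).coeff d.1 = a d := by
  classical
  rw [polyOf_apply, coeff_sum]
  rw [Finset.sum_eq_single d]
  · rw [coeff_monomial, if_pos rfl]
  · intro b _ hb
    rw [coeff_monomial, if_neg]
    exact fun h => hb (Subtype.ext h)
  · intro h; exact absurd (Finset.mem_univ d) h

lemma coeff_polyOf_of_notMem (a : Mon c n → A) (d : Fin c →₀ ℕ)
    (hd : d ∉ (Finset.univ : Finset (Fin c)).finsuppAntidiag n) : (polyOf n a).coeff d = 0 :=
  (polyOf_isHomogeneous n a).coeff_eq_zero (fun h => hd (mem_of_degree n h))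

lemma coeff_polyOf_mem (K : Ideal A) (a : Mon c n → A) (ha : ∀ d, a d ∈ K) (d : Fin c →₀ ℕ) :
    (polyOf n a).coeff d ∈ K := by
  by_cases hd : d ∈ (Finset.univ : Finset (Fin c)).finsuppAntidiag n
  · have := coeff_polyOf n a ⟨d, hd⟩
    rw [this]; exact ha _
  · rw [coeff_polyOf_of_notMem n a d hd]; exact zero_mem _

lemma eq_polyOf (P : MvPolynomial (Fin c) A) (hP : P.IsHomogeneous n) :
    P = polyOf n (fun d => P.coeff d.1) := by
  ext d
  by_cases hd : d ∈ (Finset.univ : Finset (Fin c)).finsuppAntidiag n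
  · exact (coeff_polyOf n (fun d => P.coeff d.1) ⟨d, hd⟩).symm
  · rw [coeff_polyOf_of_notMem n _ d hd]
    exact hP.coeff_eq_zero (fun h => hd (mem_of_degree n h))

/-- the `n`-th graded piece `Jⁿ/Jⁿ⁺¹` as in the statements -/
abbrev Gr (J : Ideal A) (n : ℕ) : Type u :=
  ↥(J ^ n) ⧸ Submodule.comap (J ^ n).subtype (J ^ (n + 1))

/-- evaluation at `f`, into `Jⁿ` -/
noncomputable def evalPow : (Mon c n → A) →ₗ[A] ↥(Ideal.span (Set.range f) ^ n) :=
  LinearMap.codRestrict (Ideal.span (Set.range f) ^ n)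
    ((MvPolynomial.aeval f).toLinearMap ∘ₗ polyOf n) (fun a => by
      show MvPolynomial.aeval f (polyOf n a) ∈ _
      rw [MvPolynomial.aeval_eq_eval₂Hom]
      exact Groth.Agent.Lib.Helper12.QR.eval_mem_pow_of_isHomogeneous f (polyOf_isHomogeneous n a))

lemma evalPow_coe (a : Mon c n → A) : (evalPow f n a : A) = eval f (polyOf n a) := by
  unfold evalPow
  rw [LinearMap.codRestrict_apply]
  show MvPolynomial.aeval f (polyOf n a) = _
  rfl

/-- evaluation at `f`, into `Jⁿ/Jⁿ⁺¹` -/
noncomputable def evalGr : (Mon c n → A) →ₗ[A] Gr (Ideal.span (Set.range f)) n :=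
  (Submodule.mkQ _) ∘ₗ evalPow f n

lemma evalGr_surjective : Function.Surjective (evalGr f n) := by
  intro q
  obtain ⟨⟨y, hy⟩, rfl⟩ := Submodule.Quotient.mk_surjective _ q
  obtain ⟨P, hP, rfl⟩ := (Ideal.mem_span_pow_iff_exists_isHomogeneous f _).1 hy
  refine ⟨fun d => P.coeff d.1, ?_⟩
  unfold evalGr
  rw [LinearMap.comp_apply, Submodule.mkQ_apply]
  congr 1
  apply Subtype.ext
  rw [evalPow_coe, ← eq_polyOf n P hP]

lemma ker_evalGr (hq : CAlgX.IsQuasiRegular f) :
    LinearMap.ker (evalGr f n) =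
      Submodule.pi Set.univ (fun _ : Mon c n => (Ideal.span (Set.range f) : Submodule A A)) := by
  ext a
  rw [LinearMap.mem_ker, Submodule.mem_pi]
  unfold evalGr
  rw [LinearMap.comp_apply, Submodule.mkQ_apply, Submodule.Quotient.mk_eq_zero,
    Submodule.mem_comap, Submodule.subtype_apply, evalPow_coe]
  constructor
  · intro h d _
    have := hq n (polyOf n a) (polyOf_isHomogeneous n a) h d.1
    rwa [coeff_polyOf] at this
  · intro h
    have h1 := Groth.Agent.Lib.Helper12.QR.eval_mem_mul_pow_of_coeff_mem f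
      (Ideal.span (Set.range f)) (polyOf_isHomogeneous n a)
      (coeff_polyOf_mem n _ a (fun d => h d (Set.mem_univ d)))
    rwa [← pow_succ'] at h1

/-- **The graded pieces of a quasi-regular sequence are finite free over `A/J`.** -/
noncomputable def grEquiv (hq : CAlgX.IsQuasiRegular f) :
    Gr (Ideal.span (Set.range f)) n ≃ₗ[A] (Mon c n → A ⧸ Ideal.span (Set.range f)) :=
  ((evalGr f n).quotKerEquivOfSurjective (evalGr_surjective f n)).symm ≪≫ₗ
    Submodule.quotEquivOfEq _ _ (ker_evalGr f n hq) ≪≫ₗ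
    Submodule.quotientPi (fun _ : Mon c n => (Ideal.span (Set.range f) : Submodule A A))

end Groth.Agent.Lib.Helper16.KzGr
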