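import Mathlib
import Groth.Prelude.Def_Koszul
import Groth.Prelude.Def_LCI2
import Groth.Prelude.Def_CAlgX
import Groth.Agent.Lib.Helper11.KzLow

/-!
# Koszul-regular sequences are H1-regular (elementary form)
-/

set_option autoImplicit false
set_option linter.unusedSectionVars false
set_option linter.unusedVariables false
set_option linter.unusedSimpArgs false
universe u v
open CategoryTheory CategoryTheory.Limits CochainComplex MonoidalCategory
open Groth.Agent.Lib.Helper28.Koszul CohIII Groth.Agent.Lib.Helper11.Kz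
open scoped Pointwise

namespace Groth.Agent.Lib.Helper16.KzH1

variable {A : Type u} [CommRing A]

/-- the submodule of Koszul (trivial) relations -/
def kosz (l : List A) : Submodule A (Fin l.length → A) :=
  Submodule.span A {v | ∃ i j : Fin l.length, v = Pi.single i (l.get j) - Pi.single j (l.get i)}

/-- the structure of the Koszul complex `K(l; A)` in degrees `-2, -1, 0` -/
structure LowData2 (l : List A) where
  u : (koszulCx (ModuleCat.of A A) l).X 0
  ρ : (koszulCx (ModuleCat.of A A) l).X 0 →ₗ[A] A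
  ι : (Fin l.length → A) →ₗ[A] (koszulCx (ModuleCat.of A A) l).X (-1)
  π : (koszulCx (ModuleCat.of A A) l).X (-1) →ₗ[A] (Fin l.length → A)
  ρ_u : ρ u = 1
  u_ρ : ∀ x, ρ x • u = x
  π_ι : ∀ c, π (ι c) = c
  ι_π : ∀ y, ι (π y) = y
  d_ι : ∀ c, (koszulCx (ModuleCat.of A A) l).d (-1) 0 (ι c) = (∑ i, c i * l.get i) • u
  range_kosz : ∀ z, π ((koszulCx (ModuleCat.of A A) l).d (-2) (-1) z) ∈ kosz l

theorem nonempty_lowData2_nil : Nonempty (LowData2 ([] : List A)) := by
  have hs : Subsingleton ((koszulCx (ModuleCat.of A A) []).X (-1)) :=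
    ModuleCat.subsingleton_of_isZero
      (HomologicalComplex.isZero_single_obj_X (ComplexShape.up ℤ) 0 _ (-1) (by norm_num))
  let e : (koszulCx (ModuleCat.of A A) []).X 0 ≃ₗ[A] A :=
    (HomologicalComplex.singleObjXSelf (ComplexShape.up ℤ) 0 (ModuleCat.of A A)).toLinearEquiv
  refine ⟨{ u := e.symm 1, ρ := e.toLinearMap, ι := 0, π := 0, ρ_u := e.apply_symm_apply 1
            u_ρ := fun x => ?_
            π_ι := fun c => funext fun i => i.elim0
            ι_π := fun y => Subsingleton.elim _ _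
            d_ι := fun c => ?_, range_kosz := fun z => ?_ }⟩
  · apply e.injective
    rw [map_smul, e.apply_symm_apply, smul_eq_mul, mul_one]
    rfl
  · have h0 : (∑ i, c i * ([] : List A).get i) = 0 := Finset.sum_eq_zero (fun i _ => Fin.elim0 i)
    rw [h0, zero_smul, LinearMap.zero_apply, map_zero]
  · rw [LinearMap.zero_apply]
    exact zero_mem _

/-- extension by zero of Koszul relations -/
theorem cons_zero_mem_kosz (a : A) (l : List A) (k : Fin l.length → A) (hk : k ∈ kosz l) :
    (Fin.cons 0 k : Fin (l.length + 1) → A) ∈ kosz (a :: l) := by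
  classical
  let E : (Fin l.length → A) →ₗ[A] (Fin (l.length + 1) → A) :=
    { toFun := fun k => Fin.cons 0 k
      map_add' := fun x y => by
        funext i
        refine Fin.cases ?_ (fun j => ?_) i
        · simp
        · simp
      map_smul' := fun c x => by
        funext i
        refine Fin.cases ?_ (fun j => ?_) i
        · simp
        · simp }
  have hE : ∀ k, E k = Fin.cons 0 k := fun k => rfl
  have : kosz l ≤ (kosz (a :: l)).comap E := by
    unfold kosz
    rw [Submodule.span_le]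
    rintro _ ⟨i, j, rfl⟩
    rw [SetLike.mem_coe, Submodule.mem_comap]
    refine Submodule.subset_span ⟨i.succ, j.succ, ?_⟩
    rw [hE]
    funext t
    refine Fin.cases ?_ (fun s => ?_) t
    · simp [Pi.single_apply, Fin.succ_ne_zero, eq_comm]
    · simp [Pi.single_apply, Fin.succ_inj]
  exact this hk

theorem cons_mem_kosz (a : A) (l : List A) (b : Fin l.length → A) :
    (Fin.cons (-∑ i, b i * l.get i) (a • b) : Fin (l.length + 1) → A) ∈ kosz (a :: l) := by
  classical
  have h : (Fin.cons (-∑ i, b i * l.get i) (a • b) : Fin (l.length + 1) → A) =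
      ∑ i : Fin l.length, b i • ((Pi.single i.succ ((a :: l).get 0) : Fin (l.length + 1) → A)
        - Pi.single 0 ((a :: l).get i.succ)) := by
    funext t
    refine Fin.cases ?_ (fun s => ?_) t
    · simp [Pi.single_apply, Fin.succ_ne_zero, Finset.sum_neg_distrib, eq_comm]
    · simp [Pi.single_apply, Fin.succ_inj, Fin.succ_ne_zero, mul_comm, eq_comm]
  rw [h]
  refine Submodule.sum_mem _ fun i _ => Submodule.smul_mem _ _ ?_
  exact Submodule.subset_span ⟨i.succ, 0, rfl⟩

theorem nonempty_lowData2_cons (a : A) (l : List A) (D : LowData2 l) :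
    Nonempty (LowData2 (a :: l)) := by
  classical
  set K := koszulCx (ModuleCat.of A A) l with hK
  let φ : K ⟶ K := a • 𝟙 K
  have hX1 : Subsingleton (K.X 1) := subsingleton_X (ModuleCat.of A A) l 1 (Or.inl one_pos)
  let u' : (mappingCone φ).X 0 := coneInr φ 0 D.u
  let ρ' : (mappingCone φ).X 0 →ₗ[A] A := D.ρ ∘ₗ coneSnd φ 0
  let ι' : (Fin (l.length + 1) → A) →ₗ[A] (mappingCone φ).X (-1) :=
    (coneInl' φ (-1) 0 (by norm_num)) ∘ₗ (LinearMap.toSpanSingleton A _ D.u) ∘ₗ
        (LinearMap.proj (0 : Fin (l.length + 1)))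
      + (coneInr φ (-1)) ∘ₗ D.ι ∘ₗ (LinearMap.funLeft A A Fin.succ)
  let π' : (mappingCone φ).X (-1) →ₗ[A] (Fin (l.length + 1) → A) :=
    (Fin.consLinearEquiv A (fun _ : Fin (l.length + 1) => A)).toLinearMap ∘ₗ
      ((D.ρ ∘ₗ coneFst' φ (-1) 0 (by norm_num)).prod (D.π ∘ₗ coneSnd φ (-1)))
  have hπ' : ∀ y, π' y = Fin.cons (D.ρ (coneFst' φ (-1) 0 (by norm_num) y))
      (D.π (coneSnd φ (-1) y)) := fun y => rfl
  have hι' : ∀ c, ι' c = coneInl' φ (-1) 0 (by norm_num) (c 0 • D.u) +
      coneInr φ (-1) (D.ι (fun i => c i.succ)) := by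
    intro c
    simp only [ι', LinearMap.add_apply, LinearMap.comp_apply, LinearMap.proj_apply,
      LinearMap.toSpanSingleton_apply]
    rfl
  have hι1 : ∀ c, coneFst' φ (-1) 0 (by norm_num) (ι' c) = c 0 • D.u := by
    intro c
    rw [hι' c, map_add, coneFst'_coneInl', coneFst'_coneInr, add_zero]
  have hι2 : ∀ c, coneSnd φ (-1) (ι' c) = D.ι (fun i => c i.succ) := by
    intro c
    rw [hι' c, map_add, coneSnd_coneInl', coneSnd_coneInr, zero_add]
  refine ⟨{ u := u', ρ := ρ', ι := ι', π := π', ρ_u := ?_, u_ρ := ?_, π_ι := ?_, ι_π := ?_,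
            d_ι := ?_, range_kosz := ?_ }⟩
  · show D.ρ (coneSnd φ 0 (coneInr φ 0 D.u)) = 1
    rw [coneSnd_coneInr, D.ρ_u]
  · intro x
    show D.ρ (coneSnd φ 0 x) • coneInr φ 0 D.u = x
    rw [← map_smul, D.u_ρ]
    refine cone_ext' φ 0 1 rfl (Subsingleton.elim _ _) ?_
    rw [coneSnd_coneInr]
  · have key : ∀ c : Fin (l.length + 1) → A, π' (ι' c) = c := by
      intro c
      rw [hπ', hι1, hι2, D.π_ι, map_smul, D.ρ_u, smul_eq_mul, mul_one]
      exact Fin.cons_self_tail c
    exact key
  · have key : ∀ y : (mappingCone φ).X (-1), ι' (π' y) = y := by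
      intro y
      rw [hι', hπ']
      simp only [Fin.cons_zero, Fin.cons_succ]
      rw [D.u_ρ, D.ι_π]
      exact coneInl'_fst_add_coneInr_snd φ (-1) 0 (by norm_num) y
    exact key
  · intro c
    show (mappingCone φ).d (-1) 0 (ι' c) = (∑ i, c i * (a :: l).get i) • u'
    refine cone_ext' φ 0 1 rfl (Subsingleton.elim _ _) ?_
    rw [coneSnd_d' φ (-1) 0 (by norm_num), hι1, hι2, D.d_ι, smul_id_f_apply, map_smul,
      coneSnd_coneInr]
    show _ = (∑ i : Fin (l.length + 1), c i * (a :: l).get i) • D.u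
    rw [Fin.sum_univ_succ, add_smul, mul_smul]
    congr 1
    · rw [smul_comm]
      rfl
  · intro z
    show π' ((mappingCone φ).d (-2) (-1) z) ∈ kosz (a :: l)
    set y := (mappingCone φ).d (-2) (-1) z with hy
    have h1 : coneFst' φ (-1) 0 (by norm_num) y =
        - K.d (-1) 0 (coneFst' φ (-2) (-1) (by norm_num) z) :=
      coneFst'_d' φ (-2) (-1) 0 (by norm_num) (by norm_num) z
    have h2 : coneSnd φ (-1) y = φ.f (-1) (coneFst' φ (-2) (-1) (by norm_num) z) +
        K.d (-2) (-1) (coneSnd φ (-2) z) := coneSnd_d' φ (-2) (-1) (by norm_num) z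
    rw [smul_id_f_apply] at h2
    set b := D.π (coneFst' φ (-2) (-1) (by norm_num) z) with hb
    have hbz : coneFst' φ (-2) (-1) (by norm_num) z = D.ι b := (D.ι_π _).symm
    rw [hπ', h1, h2, hbz, D.d_ι, map_neg, map_smul, D.ρ_u, smul_eq_mul, mul_one, map_add,
      map_smul, D.π_ι]
    have hsplit : (Fin.cons (-∑ i, b i * l.get i)
        (a • b + D.π (K.d (-2) (-1) (coneSnd φ (-2) z))) : Fin (l.length + 1) → A) =
        Fin.cons (-∑ i, b i * l.get i) (a • b) +
          Fin.cons 0 (D.π (K.d (-2) (-1) (coneSnd φ (-2) z))) := by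
      funext t
      refine Fin.cases ?_ (fun s => ?_) t
      · simp
      · simp
    rw [hsplit]
    exact add_mem (cons_mem_kosz a l b) (cons_zero_mem_kosz a l _ (D.range_kosz _))

theorem nonempty_lowData2 : ∀ l : List A, Nonempty (LowData2 l)
  | [] => nonempty_lowData2_nil
  | a :: l => by
    obtain ⟨D⟩ := nonempty_lowData2 l
    exact nonempty_lowData2_cons a l D

/-- **Koszul-regular (indeed `H₁ = 0`) implies `H₁`-regular** in the elementary sense: every
relation is a combination of the trivial ones. -/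
theorem mem_kosz_of_relation (l : List A)
    (hex : IsZero ((koszulCx (ModuleCat.of A A) l).homology (-1)))
    (c : Fin l.length → A) (hc : ∑ i, c i * l.get i = 0) : c ∈ kosz l := by
  obtain ⟨D⟩ := nonempty_lowData2 l
  set K := koszulCx (ModuleCat.of A A) l with hK
  have hd : K.d (-1) 0 (D.ι c) = 0 := by
    rw [D.d_ι, hc, zero_smul]
  have hE : K.ExactAt (-1) := (HomologicalComplex.exactAt_iff_isZero_homology _ _).2 hex
  rw [HomologicalComplex.exactAt_iff' K (-2) (-1) 0 (by simp) (by simp),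
    ShortComplex.moduleCat_exact_iff] at hE
  obtain ⟨z, hz⟩ := hE (D.ι c) hd
  have := D.range_kosz z
  have hz' : K.d (-2) (-1) z = D.ι c := hz
  rwa [hz', D.π_ι] at this

end Groth.Agent.Lib.Helper16.KzH1
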