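import Mathlib
import Groth.Prelude.Def_Koszul
import Groth.Prelude.Def_LCI2
import Groth.Prelude.Def_CAlgX
import Groth.Agent.Lib.Helper16.KzH1
import Groth.Agent.Lib.Helper16.KzGr
import Groth.Agent.Lib.Helper16.KzFlat2
import Groth.Agent.Lib.Helper16.KzComp1
import Groth.Agent.Lib.Helper4.TorLES
import Groth.Agent.S2103

/-!
# Tor-independence of powers of Koszul-regular ideals; Koszul-regular implies quasi-regular
-/

set_option autoImplicit false
set_option linter.unusedSectionVars false
set_option linter.unusedVariables false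
set_option linter.unusedSimpArgs false
universe u
open CategoryTheory CategoryTheory.Limits MonoidalCategory

namespace Groth.Agent.Lib.Helper16.TorPow

open Groth.Agent.Lib.Helper4 Groth.Agent.Lib.Helper11.Kz CohIII Groth.Agent.Lib.Helper28.Koszul

variable {A : Type u} [CommRing A]

/-- `Tor` respects isomorphisms in the first variable -/
theorem isZero_tor_of_linearEquiv {M M' : Type u} [AddCommGroup M] [Module A M] [AddCommGroup M']
    [Module A M'] (e : M ≃ₗ[A] M') (N : ModuleCat.{u} A) (i : ℕ)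
    (h : IsZero (((Tor (ModuleCat.{u} A) i).obj (ModuleCat.of A M')).obj N)) :
    IsZero (((Tor (ModuleCat.{u} A) i).obj (ModuleCat.of A M)).obj N) :=
  h.of_iso (((Tor (ModuleCat.{u} A) i).mapIso e.toModuleIso).app N)

/-- `Tor_i` of a subsingleton module vanishes for `i > 0` -/
theorem isZero_tor_of_subsingleton (M : Type u) [AddCommGroup M] [Module A M] [Subsingleton M]
    (N : ModuleCat.{u} A) (i : ℕ) (hi : 0 < i) :
    IsZero (((Tor (ModuleCat.{u} A) i).obj (ModuleCat.of A M)).obj N) :=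
  isZero_tor_of_flat (ModuleCat.of A M) N i hi

/-- inclusion of the first coordinate -/
noncomputable def inc (M : Type u) [AddCommGroup M] [Module A M] (m : ℕ) :
    M →ₗ[A] (Fin (m + 1) → M) := LinearMap.single A (fun _ : Fin (m + 1) => M) 0

/-- forgetting the first coordinate -/
noncomputable def tl (M : Type u) [AddCommGroup M] [Module A M] (m : ℕ) :
    (Fin (m + 1) → M) →ₗ[A] (Fin m → M) := LinearMap.funLeft A M (Fin.succ : Fin m → Fin (m + 1))

lemma inc_zero (M : Type u) [AddCommGroup M] [Module A M] (m : ℕ) (x : M) :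
    inc (A := A) M m x 0 = x := by
  unfold inc
  rw [LinearMap.coe_single, Pi.single_eq_same]

lemma inc_succ (M : Type u) [AddCommGroup M] [Module A M] (m : ℕ) (x : M) (j : Fin m) :
    inc (A := A) M m x j.succ = 0 := by
  unfold inc
  rw [LinearMap.coe_single, Pi.single_eq_of_ne (Fin.succ_ne_zero j)]

lemma tl_apply (M : Type u) [AddCommGroup M] [Module A M] (m : ℕ) (y : Fin (m + 1) → M)
    (j : Fin m) : tl (A := A) M m y j = y j.succ := rfl

/-- the short exact sequence `M → M^{m+1} → M^m` -/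
noncomputable def piSC (M : Type u) [AddCommGroup M] [Module A M] (m : ℕ) :
    ShortComplex (ModuleCat.{u} A) :=
  ShortComplex.mk (ModuleCat.ofHom (inc (A := A) M m)) (ModuleCat.ofHom (tl (A := A) M m))
    (by
      rw [← ModuleCat.ofHom_comp]
      have : tl (A := A) M m ∘ₗ inc (A := A) M m = 0 := by
        refine LinearMap.ext fun x => funext fun j => ?_
        rw [LinearMap.comp_apply, tl_apply, inc_succ]
        rfl
      rw [this]
      rfl)

theorem piSC_shortExact (M : Type u) [AddCommGroup M] [Module A M] (m : ℕ) :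
    (piSC (A := A) M m).ShortExact := by
  have hmono : Mono (piSC (A := A) M m).f := by
    rw [ModuleCat.mono_iff_injective]
    intro x y hxy
    have h : inc (A := A) M m x 0 = inc (A := A) M m y 0 := congrFun hxy 0
    rwa [inc_zero, inc_zero] at h
  have hepi : Epi (piSC (A := A) M m).g := by
    rw [ModuleCat.epi_iff_surjective]
    intro y
    refine ⟨(Fin.cons 0 y : Fin (m + 1) → M), ?_⟩
    funext j
    show tl (A := A) M m (Fin.cons 0 y) j = y j
    rw [tl_apply, Fin.cons_succ]
  refine ShortComplex.ShortExact.mk' ?_ hmono hepi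
  rw [ShortComplex.moduleCat_exact_iff]
  intro x hx
  refine ⟨x 0, ?_⟩
  funext j
  show inc (A := A) M m (x 0) j = x j
  refine Fin.cases ?_ (fun s => ?_) j
  · rw [inc_zero]
  · rw [inc_succ]
    have h : tl (A := A) M m x s = 0 := congrFun hx s
    rw [tl_apply] at h
    exact h.symm

theorem isZero_tor_pi_fin (M : Type u) [AddCommGroup M] [Module A M] (N : ModuleCat.{u} A) (i : ℕ)
    (hi : 0 < i) (h : IsZero (((Tor (ModuleCat.{u} A) i).obj (ModuleCat.of A M)).obj N)) :
    ∀ m : ℕ, IsZero (((Tor (ModuleCat.{u} A) i).obj (ModuleCat.of A (Fin m → M))).obj N)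
  | 0 => isZero_tor_of_subsingleton (Fin 0 → M) N i hi
  | m + 1 => isZero_tor_X₂ (piSC M m) (piSC_shortExact M m) N i h (isZero_tor_pi_fin M N i hi h m)

theorem isZero_tor_pi (M : Type u) [AddCommGroup M] [Module A M] (N : ModuleCat.{u} A) (i : ℕ)
    (hi : 0 < i) (h : IsZero (((Tor (ModuleCat.{u} A) i).obj (ModuleCat.of A M)).obj N))
    (ι : Type) [Fintype ι] :
    IsZero (((Tor (ModuleCat.{u} A) i).obj (ModuleCat.of A (ι → M))).obj N) :=
  isZero_tor_of_linearEquiv (LinearEquiv.funCongrLeft A M (Fintype.equivFin ι).symm) N i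
    (isZero_tor_pi_fin M N i hi h _)

section main

variable (A' : Type u) [CommRing A'] [Algebra A A']

/-- Koszul-regular sequences are quasi-regular -/
theorem isQuasiRegular_of_kreg (fs : List A) (hfs : LCI.IsKoszulRegularSeq A fs) :
    CAlgX.IsQuasiRegular fs.get := by
  apply Groth.Agent.S2103.result
  intro a ha
  have h1 := hfs (-1) (by norm_num)
  have e : Koszul.koszul A fs = koszulCx (ModuleCat.of A A) fs :=
    Groth.Agent.Lib.Helper11.Kz.koszul_eq _
  rw [(Groth.Agent.Lib.Helper16.KzInv.DIso.of_eq e).isZero_homology_iff] at h1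
  exact Groth.Agent.Lib.Helper16.KzH1.mem_kosz_of_relation fs h1 a ha

/-- `Tor_i(A/J, A') = 0` for `i ≥ 1` when the sequence stays Koszul-regular in `A'` -/
theorem isZero_tor_quot (fs : List A) (hfs : LCI.IsKoszulRegularSeq A fs)
    (hfs' : LCI.IsKoszulRegularSeq A' (fs.map (algebraMap A A'))) (i : ℕ) (hi : 1 ≤ i) :
    IsZero (((Tor (ModuleCat.{u} A) i).obj (ModuleCat.of A (A ⧸ Ideal.ofList fs))).obj
      (ModuleCat.of A A')) := by
  have h : ∀ j : ℤ, j ≠ 0 → IsZero ((koszulCx (ModuleCat.of A A) fs).homology j) := by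
    intro j hj
    have h1 := hfs j hj
    have e : Koszul.koszul A fs = koszulCx (ModuleCat.of A A) fs :=
      Groth.Agent.Lib.Helper11.Kz.koszul_eq _
    rwa [(Groth.Agent.Lib.Helper16.KzInv.DIso.of_eq e).isZero_homology_iff] at h1
  obtain ⟨e⟩ := Groth.Agent.Lib.Helper11.Kz.nonempty_tor_equiv fs h A' i
  have hz : IsZero (KH fs A' (-(i : ℤ))) := by
    have := (Groth.Agent.Lib.Helper16.KzComp.kreg_map_iff_kz (A := A) (B := A') fs).mp hfs'
      (-(i : ℤ)) (by omega)
    have e2 := Groth.Agent.Lib.Helper16.KzInv.koszulCx_eq_kz (ModuleCat.of A A') fs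
    exact ((Groth.Agent.Lib.Helper16.KzInv.DIso.of_eq e2).isZero_homology_iff _).mpr this
  have hs := ModuleCat.subsingleton_of_isZero hz
  have := e.toEquiv.subsingleton
  exact ModuleCat.isZero_of_subsingleton _

open Groth.Agent.Lib.Helper16.KzGr in
/-- `Tor_i(Jⁿ/Jⁿ⁺¹, N) = 0` once `Tor_i(A/J, N) = 0`, for `J` generated by a quasi-regular
sequence -/
theorem isZero_tor_gr {c : ℕ} (f : Fin c → A) (hq : CAlgX.IsQuasiRegular f)
    (N : ModuleCat.{u} A) (i : ℕ) (hi : 0 < i)
    (h : IsZero (((Tor (ModuleCat.{u} A) i).obj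
      (ModuleCat.of A (A ⧸ Ideal.span (Set.range f)))).obj N)) (n : ℕ) :
    IsZero (((Tor (ModuleCat.{u} A) i).obj
      (ModuleCat.of A (Gr (Ideal.span (Set.range f)) n))).obj N) :=
  isZero_tor_of_linearEquiv (grEquiv f n hq) N i (isZero_tor_pi _ N i hi h (Mon c n))

/-- the short exact sequence `Jⁿ⁺¹ → Jⁿ → Jⁿ/Jⁿ⁺¹` -/
noncomputable def powSC (J : Ideal A) (n : ℕ) : ShortComplex (ModuleCat.{u} A) :=
  ShortComplex.mk
    (ModuleCat.ofHom (Submodule.inclusion (Ideal.pow_le_pow_right (Nat.le_succ n)) :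
      ↥(J ^ (n + 1)) →ₗ[A] ↥(J ^ n)))
    (ModuleCat.ofHom (Submodule.mkQ (Submodule.comap (J ^ n).subtype (J ^ (n + 1)))))
    (by
      rw [← ModuleCat.ofHom_comp]
      have : (Submodule.mkQ (Submodule.comap (J ^ n).subtype (J ^ (n + 1)))) ∘ₗ
          (Submodule.inclusion (Ideal.pow_le_pow_right (Nat.le_succ n)) :
            ↥(J ^ (n + 1)) →ₗ[A] ↥(J ^ n)) = 0 := by
        refine LinearMap.ext fun x => ?_
        rw [LinearMap.comp_apply, Submodule.mkQ_apply, LinearMap.zero_apply,
          Submodule.Quotient.mk_eq_zero, Submodule.mem_comap]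
        exact x.2
      rw [this]
      rfl)

theorem powSC_shortExact (J : Ideal A) (n : ℕ) : (powSC J n).ShortExact := by
  have hmono : Mono (powSC J n).f := by
    rw [ModuleCat.mono_iff_injective]
    exact Submodule.inclusion_injective (Ideal.pow_le_pow_right (Nat.le_succ n))
  have hepi : Epi (powSC J n).g := by
    rw [ModuleCat.epi_iff_surjective]
    exact Submodule.mkQ_surjective _
  refine ShortComplex.ShortExact.mk' ?_ hmono hepi
  rw [ShortComplex.moduleCat_exact_iff]
  intro x hx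
  have hx' : Submodule.mkQ (Submodule.comap (J ^ n).subtype (J ^ (n + 1))) x = 0 := hx
  rw [Submodule.mkQ_apply, Submodule.Quotient.mk_eq_zero, Submodule.mem_comap] at hx'
  exact ⟨⟨x.1, hx'⟩, Subtype.ext rfl⟩

/-- `Tor_i(Jⁿ, N) = 0` for all `n` once the graded pieces have vanishing `Tor`. -/
theorem isZero_tor_pow (J : Ideal A) (N : ModuleCat.{u} A)
    (hgr : ∀ (i : ℕ), 0 < i → ∀ n : ℕ, IsZero (((Tor (ModuleCat.{u} A) i).obj
      (ModuleCat.of A (Groth.Agent.Lib.Helper16.KzGr.Gr J n))).obj N)) :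
    ∀ (n i : ℕ), 0 < i → IsZero (((Tor (ModuleCat.{u} A) i).obj (ModuleCat.of A ↥(J ^ n))).obj N)
  | 0, i, hi => by
    have e : ↥(J ^ 0) ≃ₗ[A] A := by
      rw [pow_zero, Ideal.one_eq_top]
      exact Submodule.topEquiv
    refine isZero_tor_of_linearEquiv e N i ?_
    exact isZero_tor_of_flat (ModuleCat.of A A) N i hi
  | n + 1, i, hi =>
    isZero_tor_X₁ (powSC J n) (powSC_shortExact J n) N i (hgr (i + 1) (Nat.succ_pos i) n)
      (isZero_tor_pow J N hgr n i hi)

lemma span_mem_eq_span_range_get (fs : List A) :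
    Ideal.span {x | x ∈ fs} = Ideal.span (Set.range fs.get) := by
  congr 1
  ext x
  simp only [Set.mem_ofPred_eq, Set.mem_range]
  exact List.mem_iff_get

/-- **Tor-independence of the powers of a Koszul-regular ideal** from an algebra in which the
sequence stays Koszul-regular. -/
theorem tor_powers_vanish (fs : List A) (hfs : LCI.IsKoszulRegularSeq A fs)
    (hfs' : LCI.IsKoszulRegularSeq A' (fs.map (algebraMap A A'))) (n i : ℕ) (hi : 1 ≤ i) :
    IsZero (((Tor (ModuleCat.{u} A) i).obj
        (ModuleCat.of A ↥(Ideal.span {x | x ∈ fs} ^ n))).obj (ModuleCat.of A A')) ∧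
      IsZero (((Tor (ModuleCat.{u} A) i).obj (ModuleCat.of A
        (↥(Ideal.span {x | x ∈ fs} ^ n) ⧸ Submodule.comap (Ideal.span {x | x ∈ fs} ^ n).subtype
          (Ideal.span {x | x ∈ fs} ^ (n + 1))))).obj (ModuleCat.of A A')) := by
  have hJ := span_mem_eq_span_range_get fs
  rw [hJ]
  have hq := isQuasiRegular_of_kreg fs hfs
  have hquot : ∀ j : ℕ, 0 < j → IsZero (((Tor (ModuleCat.{u} A) j).obj
      (ModuleCat.of A (A ⧸ Ideal.span (Set.range fs.get)))).obj (ModuleCat.of A A')) := by
    intro j hj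
    have h0 := isZero_tor_quot A' fs hfs hfs' j hj
    have hof : Ideal.span (Set.range fs.get) = Ideal.ofList fs := hJ.symm
    exact isZero_tor_of_linearEquiv
      (Submodule.quotEquivOfEq (Ideal.span (Set.range fs.get)) (Ideal.ofList fs) hof) _ j h0
  have hgr : ∀ (j : ℕ), 0 < j → ∀ m : ℕ, IsZero (((Tor (ModuleCat.{u} A) j).obj
      (ModuleCat.of A (Groth.Agent.Lib.Helper16.KzGr.Gr (Ideal.span (Set.range fs.get)) m))).obj
        (ModuleCat.of A A')) :=
    fun j hj m => isZero_tor_gr fs.get hq _ j hj (hquot j hj) m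
  exact ⟨isZero_tor_pow _ _ hgr n i hi, hgr i hi n⟩

end main

end Groth.Agent.Lib.Helper16.TorPow
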