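import Mathlib
import Groth.Prelude.Def_RegImm
import Groth.Agent.Lib.Helper16.KzLoc4
import Groth.Agent.Lib.Helper16.KzInv5
import Groth.Agent.Lib.Helper16.KzFlat4
import Groth.Agent.Lib.Helper16.KzComp4
import Groth.Agent.Lib.Helper16.TorPow
import Groth.Agent.Lib.Helper16.SyntStr1
import Groth.Agent.Lib.Helper16.SyntStr2
import Groth.Agent.Lib.Helper23.QuasiRegReg
import Groth.Agent.Lib.Helper23.SyntF3

/-!
# Flat local complete intersection algebras (Koszul-regular presentations) vs syntomic algebras
-/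

set_option autoImplicit false
set_option linter.unusedSectionVars false
set_option linter.unusedVariables false
set_option linter.unusedSimpArgs false
universe u
open IsLocalRing TensorProduct Pointwise RingTheory.Sequence

namespace Groth.Agent.Lib.Helper16.SyntLCI

open Groth.Agent.Lib.Helper16.KzLoc Groth.Agent.Lib.Helper16.KzInv in
/-- In a Noetherian ring a Koszul-regular ideal is generated, at each prime containing it, by a
regular sequence. -/
theorem exists_isRegular_atPrime {R : Type u} [CommRing R] [IsNoetherianRing R] (J : Ideal R)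
    (hJ : LCI.IsKoszulRegularIdeal J) (q : Ideal R) [q.IsPrime] (hJq : J ≤ q) :
    ∃ rs : List (Localization.AtPrime q), IsRegular (Localization.AtPrime q) rs ∧
      Ideal.ofList rs = J.map (algebraMap R (Localization.AtPrime q)) := by
  rw [isKoszulRegularIdeal_iff] at hJ
  obtain ⟨g, hg, l₀, hl₀, hloc⟩ := hJ ⟨q, inferInstance⟩ hJq
  have hle := powers_le_primeCompl (p := q) hg
  obtain ⟨hk, hspan⟩ := kreg_atPrime_data q (hl₀.mono hle) (hloc.mono hle)
  rw [← map_eq_ofFn] at hk
  rw [span_range_map_get] at hspan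
  set fs := l₀.map (algebraMap R (Localization.AtPrime q)) with hfs
  have hof : Ideal.ofList fs = J.map (algebraMap R (Localization.AtPrime q)) := by
    rw [hfs, ← Ideal.map_ofList, hspan]
  have hmem : ∀ r ∈ fs, r ∈ maximalIdeal (Localization.AtPrime q) := by
    intro r hr
    refine IsLocalRing.le_maximalIdeal (map_ne_top_of_le q hJq) ?_
    rw [← hof]
    exact Ideal.subset_span hr
  have hq := Groth.Agent.Lib.Helper16.TorPow.isQuasiRegular_of_kreg fs hk
  have hw := Groth.Agent.Lib.Helper23.QRR.isWeaklyRegular_of_isQuasiRegular fs.length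
    (Localization.AtPrime q) fs.get (fun i => hmem _ (List.get_mem fs i)) hq
  rw [List.ofFn_get] at hw
  exact ⟨fs, (IsLocalRing.isRegular_iff_isWeaklyRegular_of_subset_maximalIdeal hmem).mpr hw, hof⟩

/-- Over a field, a local complete intersection algebra (Koszul-regular presentation) is a local
complete intersection in the sense of `Synt.IsLCIOver`. -/
theorem isLCIOver_of_isLCI (k : Type u) [Field k] (T : Type u) [CommRing T] [Algebra k T]
    (h : LCI.IsLCI k T) : Synt.IsLCIOver k T := by
  obtain ⟨hft, n, α, hα, hJ⟩ := h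
  refine ⟨hft, fun q => ?_⟩
  have hq : q.asIdeal.IsPrime := q.2
  have hJq : RingHom.ker α.toRingHom ≤ q.asIdeal.comap α := by
    intro x hx
    rw [Ideal.mem_comap]
    have : α x = 0 := hx
    rw [this]
    exact Ideal.zero_mem _
  obtain ⟨rs, hreg, hof⟩ := exists_isRegular_atPrime (RingHom.ker α.toRingHom) hJ
    (q.asIdeal.comap α) hJq
  have hess : Algebra.EssFiniteType k (Localization.AtPrime (q.asIdeal.comap α)) :=
    Algebra.EssFiniteType.comp k (MvPolynomial (Fin n) k) _
  have hCI : Synt.IsCIOver k (Localization.AtPrime q.asIdeal) :=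
    Groth.Agent.Lib.Helper23.SyntF.isCIOver_of_surjective
      (Localization.AtPrime (q.asIdeal.comap α)) hess
      (Groth.Agent.Lib.Helper23.SyntF.locHom k α q.asIdeal)
      (Groth.Agent.Lib.Helper23.SyntF.locHom_surjective k q.asIdeal hα) rs hreg
      ((Groth.Agent.Lib.Helper23.SyntF.ker_locHom k q.asIdeal hα).trans hof.symm)
  exact Groth.Agent.Lib.Helper23.SyntF.exists_away_of_isCIOver q.asIdeal hCI

/-- A flat local complete intersection algebra is syntomic. -/
theorem isSyntomic_of_flat_of_isLCI (R S : Type u) [CommRing R] [CommRing S] [Algebra R S]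
    [Module.Flat R S] (h : LCI.IsLCI R S) : Synt.IsSyntomic R S := by
  refine ⟨inferInstance, ?_, fun p => ?_⟩
  · obtain ⟨hft, n, α, hα, hJ⟩ := h
    exact Algebra.FinitePresentation.of_surjective hα
      (Groth.Agent.Lib.Helper16.KzLoc.fg_of_isKoszulRegularIdeal _ hJ)
  · have hp : p.asIdeal.IsPrime := p.2
    exact isLCIOver_of_isLCI _ _
      (Groth.Agent.Lib.Helper16.KzFlat.isLCI_baseChange_of_flat R p.asIdeal.ResidueField S h)

/-- Over a Noetherian ring, a syntomic algebra is a local complete intersection algebra. -/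
theorem isLCI_of_isSyntomic_of_isNoetherianRing (R S : Type u) [CommRing R] [IsNoetherianRing R]
    [CommRing S] [Algebra R S] (h : Synt.IsSyntomic R S) : LCI.IsLCI R S := by
  have hfp : Algebra.FinitePresentation R S := h.2.1
  obtain ⟨n, f, hf⟩ := Algebra.FiniteType.iff_quotient_mvPolynomial''.mp
    (inferInstance : Algebra.FiniteType R S)
  refine ⟨inferInstance, n, f, hf, ?_⟩
  intro 𝔭 h𝔭
  have h𝔭' : 𝔭.asIdeal.IsPrime := 𝔭.2
  -- the prime of `S` below `𝔭`
  have hmap : (𝔭.asIdeal.map f).comap f = 𝔭.asIdeal := by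
    rw [Ideal.comap_map_of_surjective f hf, sup_eq_left, ← RingHom.ker_eq_comap_bot]
    exact h𝔭
  have hqprime : (𝔭.asIdeal.map f).IsPrime :=
    Ideal.map_isPrime_of_surjective hf h𝔭
  obtain ⟨xs, hxs, hxreg⟩ :=
    Groth.Agent.Lib.Helper16.SyntStr.exists_isWeaklyRegular_ker R S h n f hf (𝔭.asIdeal.map f)
  obtain ⟨hh, fs, hhQ, hI, hreg⟩ :=
    Groth.Agent.Lib.Helper16.SyntStr.exists_away_isWeaklyRegular ((𝔭.asIdeal.map f).comap f)
      (RingHom.ker f) xs hxs hxreg
  rw [hmap] at hhQ
  refine ⟨hh, hhQ, fs.map (algebraMap _ (Localization.Away hh)),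
    Groth.Agent.Lib.Helper16.KzComp.kreg_of_isWeaklyRegular _ hreg, ?_⟩
  exact hI.symm

end Groth.Agent.Lib.Helper16.SyntLCI
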