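import Groth.Agent.Lib.Helper16.RegularDim
import Groth.Agent.Lib.Helper16.HeightQuot
import Groth.Agent.Lib.Helper18.CMRing

/-!
# Facts on regular rings used for Faltings' annihilator theorem (helper16)

* `height_add_height_map_le'` : `ht s + ht (q/s) ≤ ht q` for primes `s ≤ q`.
* `isCohenMacaulayRing_of_isRegularRing`, `height_le_idealDepth_of_isRegularRing`.
* `isRegularRing_localization` : localizations of regular rings are regular.
-/

set_option autoImplicit false
universe u

open IsLocalRing

namespace Groth.Agent.Lib.Helper16.PDR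

open Groth.Agent.Lib.Helper16.Depth Groth.Agent.Lib.Helper18.CM

section heights

variable {R : Type u} [CommRing R]

/-- `ht s + n ≤ ht q` whenever `n ≤ ht (q/s)`. -/
theorem height_add_le_aux (s : Ideal R) [s.IsPrime] :
    ∀ (n : ℕ) (q : Ideal R) [q.IsPrime], s ≤ q → (n : ℕ∞) ≤ (q.map (Ideal.Quotient.mk s)).height →
      s.height + n ≤ q.height := by
  intro n
  induction n with
  | zero =>
    intro q _ hsq _
    rw [Nat.cast_zero, add_zero]
    exact Ideal.height_mono hsq
  | succ n ih =>
    intro q _ hsq hn
    have hQprime : (q.map (Ideal.Quotient.mk s)).IsPrime := map_mk_isPrime s q hsq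
    have hnot : ¬ (q.map (Ideal.Quotient.mk s)).height ≤ (n : ℕ∞) := by
      intro hle
      have h1 : ((n + 1 : ℕ) : ℕ∞) ≤ (n : ℕ∞) := hn.trans hle
      have h2 : n + 1 ≤ n := by exact_mod_cast h1
      omega
    rw [Ideal.height_le_iff] at hnot
    simp only [not_forall] at hnot
    obtain ⟨Q', hQ'prime, hQ'lt, hQ'ht⟩ := hnot
    rw [not_lt] at hQ'ht
    let q' := Q'.comap (Ideal.Quotient.mk s)
    have hq'prime : q'.IsPrime := Ideal.comap_isPrime _ _
    have hsq' : s ≤ q' := by
      intro x hx
      change Ideal.Quotient.mk s x ∈ Q'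
      rw [Ideal.Quotient.eq_zero_iff_mem.mpr hx]
      exact Ideal.zero_mem _
    have hmap : q'.map (Ideal.Quotient.mk s) = Q' :=
      Ideal.map_comap_of_surjective _ Ideal.Quotient.mk_surjective Q'
    have hq'q : q' < q := by
      have hle : q' ≤ q := by
        have := Ideal.comap_mono (f := Ideal.Quotient.mk s) hQ'lt.le
        rwa [comap_map_mk s q hsq] at this
      refine lt_of_le_of_ne hle ?_
      intro h
      apply hQ'lt.ne
      rw [← hmap, h]
    have h1 := ih q' hsq' (by rw [hmap]; exact hQ'ht)
    have h2 := Ideal.height_add_one_le_of_lt_of_isPrime hq'q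
    calc s.height + ((n + 1 : ℕ) : ℕ∞) = (s.height + n) + 1 := by push_cast; rw [add_assoc]
      _ ≤ q'.height + 1 := add_le_add h1 le_rfl
      _ ≤ _ := h2

/-- `ht s + ht (q/s) ≤ ht q` for primes `s ≤ q` of a Noetherian ring. -/
theorem height_add_height_map_le' [IsNoetherianRing R] (s q : Ideal R) [s.IsPrime] [q.IsPrime]
    (hsq : s ≤ q) : s.height + (q.map (Ideal.Quotient.mk s)).height ≤ q.height := by
  have hQprime : (q.map (Ideal.Quotient.mk s)).IsPrime := map_mk_isPrime s q hsq
  have hfin : (q.map (Ideal.Quotient.mk s)).height ≠ ⊤ := Ideal.height_ne_top_of_isPrime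
  obtain ⟨n, hn⟩ := ENat.ne_top_iff_exists.mp hfin
  rw [← hn]
  exact height_add_le_aux s n q hsq (by rw [hn])

end heights

section regular

variable (R : Type u) [CommRing R] [IsRegularRing R]

theorem isCohenMacaulayRing_of_isRegularRing : LocCoh.IsCohenMacaulayRing R where
  isCohenMacaulayLocalRing_localization := fun p _ =>
    { supportDim_eq_depth := isCohenMacaulayModule_self_of_isRegularLocalRing
        (Localization.AtPrime p) }

variable {R} in
theorem height_le_idealDepth_of_isRegularRing (a : Ideal R) (ha : a ≠ ⊤) :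
    a.height ≤ LocCoh.idealDepth a R := by
  have := isCohenMacaulayRing_of_isRegularRing R
  exact height_le_idealDepth_of_isCohenMacaulayRing a ha

theorem isRegularRing_localization (S : Submonoid R) : IsRegularRing (Localization S) := by
  have hnoe : IsNoetherianRing (Localization S) :=
    IsLocalization.isNoetherianRing S _ inferInstance
  rw [isRegularRing_iff]
  intro P hP
  exact IsRegularLocalRing.of_ringEquiv (IsLocalization.algEquiv
    (P.comap (algebraMap R (Localization S))).primeCompl
    (Localization.AtPrime (P.comap (algebraMap R (Localization S))))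
    (Localization.AtPrime P)).toRingEquiv

end regular

end Groth.Agent.Lib.Helper16.PDR
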