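import Mathlib
import Groth.Prelude.Def_RegImm
import Groth.Agent.Lib.Helper16.SyntLCI
import Groth.Agent.Lib.Helper16.KzComp7
import Groth.Agent.Lib.Helper16.KzDesc1
import Groth.Agent.Lib.Helper23.SyntLci
import Groth.Agent.S9254

/-!
# Syntomic vs flat lci: reduction to the local structure as relative global complete intersections
-/

set_option autoImplicit false
set_option linter.unusedSectionVars false
set_option linter.unusedVariables false
set_option linter.unusedSimpArgs false
universe u
open IsLocalRing TensorProduct Pointwise RingTheory.Sequence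

namespace Groth.Agent.Lib.Helper16.SyntLCI

/-- being syntomic is invariant under isomorphism of algebras -/
theorem isSyntomic_of_algEquiv {R S S' : Type u} [CommRing R] [CommRing S] [CommRing S']
    [Algebra R S] [Algebra R S'] (e : S ≃ₐ[R] S') (h : Synt.IsSyntomic R S) :
    Synt.IsSyntomic R S' := by
  obtain ⟨h1, h2, h3⟩ := h
  refine ⟨Module.Flat.of_linearEquiv e.symm.toLinearEquiv,
    Algebra.FinitePresentation.equiv e, fun p => ?_⟩
  have hp : p.asIdeal.IsPrime := p.2
  exact Groth.Agent.Lib.Helper23.FibProp0.isLCIOver_of_algEquiv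
    (Algebra.TensorProduct.congr (AlgEquiv.refl (R := p.asIdeal.ResidueField)
      (A₁ := p.asIdeal.ResidueField)) e) (h3 p)

theorem ofList_ofFn' {A : Type u} [CommRing A] {c : ℕ} (F : Fin c → A) :
    Ideal.ofList (List.ofFn F) = Ideal.span (Set.range F) := by
  rw [Ideal.ofList]
  congr 1
  ext x
  simp [List.mem_ofFn]

/-- a relative global complete intersection is a local complete intersection algebra -/
theorem isLCI_relGCIRing (R : Type u) [CommRing R] (n c : ℕ)
    (F : Fin c → MvPolynomial (Fin n) R) (h : Synt.IsRelGCI R n c F) :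
    LCI.IsLCI R (Synt.RelGCIRing R n c F) := by
  refine ⟨inferInstance, n, Ideal.Quotient.mkₐ R _, Ideal.Quotient.mk_surjective, ?_⟩
  have hker : RingHom.ker (Ideal.Quotient.mkₐ R (Ideal.span (Set.range F))).toRingHom =
      Ideal.ofList (List.ofFn F) := by
    rw [ofList_ofFn']
    exact Ideal.mk_ker
  rw [hker]
  exact Groth.Agent.Lib.Helper16.KzComp.isKoszulRegularIdeal_ofList _
    (Groth.Agent.S9254.result R n c F h)

open Groth.Agent.Lib.Helper16.KzComp in
/-- an algebra which is, locally on its spectrum, a relative global complete intersection is a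
local complete intersection algebra -/
theorem isLCI_of_locally_relGCI (R S : Type u) [CommRing R] [CommRing S] [Algebra R S]
    (H : ∀ (q : Ideal S) [q.IsPrime], ∃ g : S, g ∉ q ∧
      ∃ (n c : ℕ) (F : Fin c → MvPolynomial (Fin n) R), Synt.IsRelGCI R n c F ∧
        Nonempty (Localization.Away g ≃ₐ[R] Synt.RelGCIRing R n c F)) :
    LCI.IsLCI R S := by
  rw [← isLCIHom_algebraMap_iff]
  set s : Set S := {g | ∃ (n c : ℕ) (F : Fin c → MvPolynomial (Fin n) R), Synt.IsRelGCI R n c F ∧
        Nonempty (Localization.Away g ≃ₐ[R] Synt.RelGCIRing R n c F)} with hs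
  have hspan : Ideal.span s = ⊤ := by
    by_contra hne
    obtain ⟨m, hm, hle⟩ := Ideal.exists_le_maximal _ hne
    obtain ⟨g, hg, hgs⟩ := H m
    exact hg (hle (Ideal.subset_span hgs))
  refine isLCIHom_ofLocalizationSpanTarget (algebraMap R S) s hspan ?_
  rintro ⟨r, n, c, F, hF, ⟨e⟩⟩
  have h1 : (algebraMap S (Localization.Away r)).comp (algebraMap R S) =
      algebraMap R (Localization.Away r) := (IsScalarTower.algebraMap_eq _ _ _).symm
  rw [h1, isLCIHom_algebraMap_iff]
  exact isLCI_of_algEquiv R e.symm (isLCI_relGCIRing R n c F hF)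


/-- `S9287` modulo the local structure of syntomic algebras as relative global complete
intersections. -/
theorem isSyntomic_iff_flat_and_isLCI_of (R S : Type u) [CommRing R] [CommRing S] [Algebra R S]
    (H : ∀ (q : Ideal S) [q.IsPrime],
      (∃ g : S, g ∉ q ∧ Synt.IsSyntomic R (Localization.Away g)) →
      ∃ g : S, g ∉ q ∧ ∃ (n c : ℕ) (F : Fin c → MvPolynomial (Fin n) R), Synt.IsRelGCI R n c F ∧
        Nonempty (Localization.Away g ≃ₐ[R] Synt.RelGCIRing R n c F)) :
    Synt.IsSyntomic R S ↔ Module.Flat R S ∧ LCI.IsLCI R S := by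
  constructor
  · intro h
    refine ⟨h.1, isLCI_of_locally_relGCI R S fun q hq => H q ⟨1, ?_, ?_⟩⟩
    · exact fun h1 => hq.ne_top ((Ideal.eq_top_iff_one q).mpr h1)
    · exact isSyntomic_of_algEquiv
        ((IsLocalization.atOne S (Localization.Away (1 : S))).restrictScalars R) h
  · rintro ⟨h1, h2⟩
    exact isSyntomic_of_flat_of_isLCI R S h2

end Groth.Agent.Lib.Helper16.SyntLCI
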