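import Mathlib
import Groth.Prelude.Def_RegImm
import Groth.Agent.Lib.Helper16.SyntDesc1
import Groth.Agent.Lib.Helper16.SyntLCI2
import Groth.Agent.Helper19.RelGCI12
import Groth.Agent.S9254
import Groth.Agent.S9269

/-!
# Core lemma for syntomic descent of lci: for a relative global complete intersection T over A with A -> T/IT lci, the ideal IT is Koszul-regular
-/

set_option autoImplicit false
universe u

namespace Groth.Agent.Lib.Helper16.SyntDesc

open Groth.Agent.Lib.Helper16.KzLoc Groth.Agent.Lib.Helper16.KzComp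
open Groth.Agent.Helper19.RelGCI

/-- relative global complete intersections are stable under base change -/
theorem isRelGCI_baseChange (R₀ R : Type u) [CommRing R₀] [CommRing R] [Algebra R₀ R] {n c : ℕ}
    (F₀ : Fin c → MvPolynomial (Fin n) R₀) (h : Synt.IsRelGCI R₀ n c F₀) :
    Synt.IsRelGCI R n c (mapPoly R₀ R F₀) := by
  intro p hnt
  have hp : p.asIdeal.IsPrime := p.2
  have h1 := ringKrullDim_fiber_baseChange R₀ R F₀ p.asIdeal
  have hnt0 : Nontrivial ((p.asIdeal.comap (algebraMap R₀ R)).Fiber (Synt.RelGCIRing R₀ n c F₀)) := by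
    apply nontrivial_of_ringKrullDim_ne_bot
    rw [h1]
    intro hbot
    have h2 : (0 : WithBot ℕ∞) ≤
        ringKrullDim (p.asIdeal.Fiber (Synt.RelGCIRing R n c (mapPoly R₀ R F₀))) :=
      ringKrullDim_nonneg_of_nontrivial
    rw [hbot] at h2
    exact absurd h2 (by simp)
  obtain ⟨hcn, hd⟩ := h ⟨p.asIdeal.comap (algebraMap R₀ R), inferInstance⟩ hnt0
  exact ⟨hcn, h1 ▸ hd⟩


/-- relative global complete intersections are stable under reduction modulo an ideal -/
theorem isRelGCI_quotient (A : Type u) [CommRing A] (I : Ideal A) {n c : ℕ}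
    (F : Fin c → MvPolynomial (Fin n) A) (h : Synt.IsRelGCI A n c F) :
    Synt.IsRelGCI (A ⧸ I) n c (fun i => MvPolynomial.map (Ideal.Quotient.mk I) (F i)) :=
  isRelGCI_baseChange A (A ⧸ I) F h

/-- the kernel of any presentation of a local complete intersection algebra is Koszul-regular -/
theorem kreg_ker_of_isLCI (A B : Type u) [CommRing A] [CommRing B] [Algebra A B]
    (h : LCI.IsLCI A B) (n : ℕ) (π : MvPolynomial (Fin n) A →ₐ[A] B)
    (hπ : Function.Surjective π) : LCI.IsKoszulRegularIdeal (RingHom.ker π.toRingHom) := by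
  obtain ⟨-, m, β, hβ, hJβ⟩ := h
  exact Groth.Agent.S9269.result A B m n β hβ π hπ hJβ

set_option maxHeartbeats 400000 in
/-- **Core lemma.** If `T = A[x]/(F)` is a relative global complete intersection over `A` and
`A → T/IT` is a local complete intersection, then `IT` is a Koszul-regular ideal of `T`. -/
theorem kreg_map_of_isRelGCI (A : Type u) [CommRing A] (I : Ideal A) (n c : ℕ)
    (F : Fin c → MvPolynomial (Fin n) A) (hF : Synt.IsRelGCI A n c F)
    (hlci : LCI.IsLCI A (Synt.RelGCIRing A n c F ⧸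
      I.map (algebraMap A (Synt.RelGCIRing A n c F)))) :
    LCI.IsKoszulRegularIdeal (I.map (algebraMap A (Synt.RelGCIRing A n c F))) := by
  classical
  let P := MvPolynomial (Fin n) A
  let a : List P := List.ofFn F
  have ha : LCI.IsKoszulRegularSeq P a := Groth.Agent.S9254.result A n c F hF
  have heq : Ideal.ofList a = Ideal.span (Set.range F) :=
    Groth.Agent.Lib.Helper16.SyntLCI.ofList_ofFn' F
  let T := Synt.RelGCIRing A n c F
  let ε : (P ⧸ Ideal.ofList a) ≃+* T := Ideal.quotEquivOfEq heq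
  let IT : Ideal T := I.map (algebraMap A T)
  change LCI.IsKoszulRegularIdeal IT
  rw [← isKoszulRegularIdeal_comap_ringEquiv_iff ε IT]
  -- the presentation of `T/IT`
  let π : P →ₐ[A] T ⧸ IT :=
    (Ideal.Quotient.mkₐ A IT).comp (Ideal.Quotient.mkₐ A (Ideal.span (Set.range F)))
  have hπ : Function.Surjective π :=
    (Ideal.Quotient.mkₐ_surjective A IT).comp (Ideal.Quotient.mkₐ_surjective A _)
  have hπmem : ∀ x : P, π x = 0 ↔ Ideal.Quotient.mk (Ideal.span (Set.range F)) x ∈ IT := by
    intro x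
    exact Ideal.Quotient.eq_zero_iff_mem
  have hKeq : (IT.comap (ε : (P ⧸ Ideal.ofList a) →+* T)).comap
      (Ideal.Quotient.mk (Ideal.ofList a)) = RingHom.ker π.toRingHom := by
    ext x
    rw [Ideal.mem_comap, Ideal.mem_comap, RingHom.mem_ker]
    have e1 : (ε : (P ⧸ Ideal.ofList a) →+* T) (Ideal.Quotient.mk (Ideal.ofList a) x) =
        Ideal.Quotient.mk (Ideal.span (Set.range F)) x := Ideal.quotEquivOfEq_mk heq x
    rw [e1]
    exact (hπmem x).symm
  have hK : LCI.IsKoszulRegularIdeal (RingHom.ker π.toRingHom) :=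
    kreg_ker_of_isLCI A (T ⧸ IT) hlci n π hπ
  have hK' : LCI.IsKoszulRegularIdeal ((IT.comap (ε : (P ⧸ Ideal.ofList a) →+* T)).comap
      (Ideal.Quotient.mk (Ideal.ofList a))) := by
    rw [hKeq]
    exact hK
  refine isKoszulRegularIdeal_of_comap_mk a ha (IT.comap (ε : (P ⧸ Ideal.ofList a) →+* T))
    hK' ?_
  -- independence
  intro 𝔓 h𝔓 cf hcf
  rw [hKeq] at h𝔓 hcf
  set K := RingHom.ker π.toRingHom with hKdef
  let φ : P →+* MvPolynomial (Fin n) (A ⧸ I) := MvPolynomial.map (Ideal.Quotient.mk I)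
  have hφs : Function.Surjective φ := MvPolynomial.map_surjective _ Ideal.Quotient.mk_surjective
  let Fb : Fin c → MvPolynomial (Fin n) (A ⧸ I) := fun i => φ (F i)
  have hFb : LCI.IsKoszulRegularSeq (MvPolynomial (Fin n) (A ⧸ I)) (List.ofFn Fb) :=
    Groth.Agent.S9254.result (A ⧸ I) n c Fb (isRelGCI_quotient A I F hF)
  -- `ker φ ≤ K`
  have hkerφ : RingHom.ker φ = I.map (MvPolynomial.C : A →+* P) := by
    rw [MvPolynomial.ker_map, Ideal.mk_ker]
  have hIK : I.map (MvPolynomial.C : A →+* P) ≤ K := by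
    rw [Ideal.map_le_iff_le_comap]
    intro i hi
    rw [Ideal.mem_comap, hKdef, RingHom.mem_ker]
    change π (MvPolynomial.C i) = 0
    rw [hπmem]
    exact Ideal.mem_map_of_mem _ hi
  have hFK : ∀ j, F j ∈ K := by
    intro j
    rw [hKdef, RingHom.mem_ker]
    change π (F j) = 0
    have hz : Ideal.Quotient.mk (Ideal.span (Set.range F)) (F j) = 0 :=
      Ideal.Quotient.eq_zero_iff_mem.mpr (Ideal.subset_span ⟨j, rfl⟩)
    rw [hπmem, hz]
    exact IT.zero_mem
  -- `φ K ≤ (Fb)`
  have hKφ : K.map φ ≤ Ideal.span (Set.range Fb) := by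
    rw [Ideal.map_le_iff_le_comap]
    intro x hx
    rw [hKdef, RingHom.mem_ker] at hx
    have hx' : Ideal.Quotient.mk (Ideal.span (Set.range F)) x ∈ IT := (hπmem x).mp hx
    have hIT : IT = (I.map (MvPolynomial.C : A →+* P)).map
        (Ideal.Quotient.mk (Ideal.span (Set.range F))) := by
      rw [Ideal.map_map]
      rfl
    rw [hIT, Ideal.mem_map_iff_of_surjective _ Ideal.Quotient.mk_surjective] at hx'
    obtain ⟨x', hx'I, hxx'⟩ := hx'
    have hdiff : x - x' ∈ Ideal.span (Set.range F) := by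
      rw [← Ideal.Quotient.eq_zero_iff_mem, map_sub, hxx', sub_self]
    have hφx' : φ x' = 0 := by
      rw [← RingHom.mem_ker, hkerφ]
      exact hx'I
    rw [Ideal.mem_comap]
    have hx2 : φ x = φ (x - x') := by rw [map_sub, hφx', sub_zero]
    rw [hx2]
    have : (Ideal.span (Set.range F)).map φ ≤ Ideal.span (Set.range Fb) := by
      rw [Ideal.map_span, Ideal.span_le]
      rintro _ ⟨_, ⟨j, rfl⟩, rfl⟩
      exact Ideal.subset_span ⟨j, rfl⟩
    exact this (Ideal.mem_map_of_mem _ hdiff)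
  have hlen : a.length = c := List.length_ofFn
  let cf' : Fin c → MvPolynomial (Fin n) (A ⧸ I) := fun j => φ (cf (Fin.cast hlen.symm j))
  have hsum : φ (∑ i, cf i * a.get i) = ∑ j, cf' j * Fb j := by
    rw [map_sum]
    rw [← (finCongr hlen).sum_comp]
    refine Finset.sum_congr rfl fun i _ => ?_
    rw [map_mul]
    congr 1
    change φ (a.get i) = φ (F (Fin.cast hlen i))
    congr 1
    simp only [a, List.get_eq_getElem, List.getElem_ofFn]
    rfl
  have hmem : (∑ j, cf' j * Fb j) ∈ 𝔓.asIdeal.map φ * Ideal.span (Set.range Fb) := by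
    rw [← hsum]
    have h1 := Ideal.mem_map_of_mem φ hcf
    rw [Ideal.map_mul] at h1
    exact Ideal.mul_mono_right hKφ h1
  have hle : Ideal.span (Set.range Fb) ≤ 𝔓.asIdeal.map φ := by
    rw [Ideal.span_le]
    rintro _ ⟨j, rfl⟩
    exact Ideal.mem_map_of_mem _ (h𝔓 (hFK j))
  have hres := indep_of_kreg_fn Fb hFb (𝔓.asIdeal.map φ) hle cf' hmem
  intro i
  have h2 : φ (cf i) ∈ 𝔓.asIdeal.map φ := by
    have := hres (Fin.cast hlen i)
    simpa [cf'] using this
  have h3 : cf i ∈ (𝔓.asIdeal.map φ).comap φ := h2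
  rw [Ideal.comap_map_of_surjective' φ hφs, hkerφ] at h3
  have h4 : 𝔓.asIdeal ⊔ I.map (MvPolynomial.C : A →+* P) = 𝔓.asIdeal :=
    sup_eq_left.mpr (hIK.trans h𝔓)
  rw [h4] at h3
  exact h3

end Groth.Agent.Lib.Helper16.SyntDesc
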