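import Mathlib

/-!
# Generic quotient/localization isomorphisms used for lifting syntomic algebras
-/

set_option autoImplicit false
universe u

namespace Groth.Agent.Lib.Helper16.SyntDesc

section G1

variable {P T D : Type u} [CommRing P] [CommRing T] [CommRing D] [Algebra P T] [Algebra P D]

/-- If `ψ : T → D` is a surjection of `P`-algebras with kernel `IT` and `ψ t = 1`, then
`T_t / I T_t ≃ D` as `P`-algebras. -/
theorem nonempty_algEquiv_away_quotient (I : Ideal P) (ψ : T →ₐ[P] D)
    (hψ : Function.Surjective ψ)
    (hker : RingHom.ker ψ.toRingHom = I.map (algebraMap P T)) (t : T) (ht : ψ t = 1) :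
    Nonempty ((Localization.Away t ⧸ I.map (algebraMap P (Localization.Away t))) ≃ₐ[P] D) := by
  have hunit : ∀ y : Submonoid.powers t, IsUnit (ψ y) := by
    rintro ⟨_, k, rfl⟩
    rw [map_pow, ht, one_pow]
    exact isUnit_one
  let Φ : Localization.Away t →ₐ[P] D := IsLocalization.liftAlgHom (M := Submonoid.powers t) hunit
  have hΦa : ∀ a : T, Φ (algebraMap T (Localization.Away t) a) = ψ a := by
    intro a
    exact IsLocalization.lift_eq _ _
  have hΦs : Function.Surjective Φ := by
    intro d
    obtain ⟨a, rfl⟩ := hψ d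
    exact ⟨algebraMap T _ a, hΦa a⟩
  have hkerΦ : I.map (algebraMap P (Localization.Away t)) = RingHom.ker Φ.toRingHom := by
    apply le_antisymm
    · rw [Ideal.map_le_iff_le_comap]
      intro i hi
      rw [Ideal.mem_comap, RingHom.mem_ker]
      change Φ (algebraMap P (Localization.Away t) i) = 0
      rw [Φ.commutes, ← ψ.commutes]
      have : algebraMap P T i ∈ RingHom.ker ψ.toRingHom := by
        rw [hker]; exact Ideal.mem_map_of_mem _ hi
      exact this
    · intro x hx
      rw [RingHom.mem_ker] at hx
      obtain ⟨⟨a, ⟨_, k, rfl⟩⟩, hax⟩ := IsLocalization.surj (Submonoid.powers t) x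
      simp only at hax
      have h1 : ψ a = 0 := by
        rw [← hΦa, ← hax, map_mul]
        change Φ x * _ = 0
        have : Φ x = 0 := hx
        rw [this, zero_mul]
      have h2 : a ∈ I.map (algebraMap P T) := by
        rw [← hker]; exact h1
      have h3 : algebraMap T (Localization.Away t) a ∈
          I.map (algebraMap P (Localization.Away t)) := by
        have := Ideal.mem_map_of_mem (algebraMap T (Localization.Away t)) h2
        rwa [Ideal.map_map, ← IsScalarTower.algebraMap_eq] at this
      rw [← hax] at h3
      have hu : IsUnit (algebraMap T (Localization.Away t) (t ^ k)) :=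
        IsLocalization.map_units _ (⟨t ^ k, k, rfl⟩ : Submonoid.powers t)
      exact (Ideal.mul_unit_mem_iff_mem _ hu).mp h3
  exact ⟨(Ideal.quotientEquivAlgOfEq P hkerΦ).trans (Ideal.quotientKerAlgEquivOfSurjective hΦs)⟩

/-- transporting `T / IT` along an isomorphism of `P`-algebras -/
theorem nonempty_algEquiv_quotient_map (I : Ideal P) (e : T ≃ₐ[P] D) :
    Nonempty ((T ⧸ I.map (algebraMap P T)) ≃ₐ[P] (D ⧸ I.map (algebraMap P D))) := by
  refine ⟨Ideal.quotientEquivAlg _ _ e ?_⟩
  rw [Ideal.map_map]
  congr 1
  ext x
  simp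

end G1

end Groth.Agent.Lib.Helper16.SyntDesc
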