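import Mathlib
import Groth.Prelude.Def_RegImm
import Groth.Agent.Lib.Helper16.SyntDesc3
import Groth.Agent.Lib.Helper16.SyntDesc4
import Groth.Agent.S9172

/-!
# Lifting relative global complete intersections along a surjection of base rings
-/

set_option autoImplicit false
universe u

namespace Groth.Agent.Lib.Helper16.SyntDesc

open Groth.Agent.Helper19.RelGCI

section Psi

variable (P B : Type u) [CommRing P] [CommRing B] [Algebra P B] {n c : ℕ}
  (F : Fin c → MvPolynomial (Fin n) P)

/-- the base change map `P[x]/(F) → B[x]/(F̄)` -/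
noncomputable def psi : Synt.RelGCIRing P n c F →ₐ[P] Synt.RelGCIRing B n c (mapPoly P B F) :=
  Ideal.Quotient.liftₐ (Ideal.span (Set.range F))
    ((Ideal.Quotient.mkₐ P (Ideal.span (Set.range (mapPoly P B F)))).comp
      (MvPolynomial.mapAlgHom (Algebra.ofId P B)))
    (by
      intro x hx
      induction hx using Submodule.span_induction with
      | mem y hy =>
        obtain ⟨i, rfl⟩ := hy
        change Ideal.Quotient.mk _ (MvPolynomial.map (algebraMap P B) (F i)) = 0
        exact Ideal.Quotient.eq_zero_iff_mem.mpr (Ideal.subset_span ⟨i, rfl⟩)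
      | zero => exact map_zero _
      | add a b _ _ ha hb => rw [map_add, ha, hb, add_zero]
      | smul a b _ hb => rw [smul_eq_mul, map_mul, hb, mul_zero])

theorem psi_mk (x : MvPolynomial (Fin n) P) :
    psi P B F (Ideal.Quotient.mk _ x) =
      Ideal.Quotient.mk _ (MvPolynomial.map (algebraMap P B) x) := rfl

theorem psi_surjective (hsurj : Function.Surjective (algebraMap P B)) :
    Function.Surjective (psi P B F) := by
  intro y
  obtain ⟨y, rfl⟩ := Ideal.Quotient.mk_surjective y
  obtain ⟨x, rfl⟩ := MvPolynomial.map_surjective _ hsurj y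
  exact ⟨Ideal.Quotient.mk _ x, psi_mk P B F x⟩

theorem ker_psi (hsurj : Function.Surjective (algebraMap P B)) :
    RingHom.ker (psi P B F).toRingHom =
      (RingHom.ker (algebraMap P B)).map (algebraMap P (Synt.RelGCIRing P n c F)) := by
  apply le_antisymm
  · intro y hy
    obtain ⟨x, rfl⟩ := Ideal.Quotient.mk_surjective y
    rw [RingHom.mem_ker] at hy
    change psi P B F (Ideal.Quotient.mk _ x) = 0 at hy
    rw [psi_mk, Ideal.Quotient.eq_zero_iff_mem] at hy
    have hspan : Ideal.span (Set.range (mapPoly P B F)) =
        (Ideal.span (Set.range F)).map (MvPolynomial.map (algebraMap P B)) := by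
      rw [Ideal.map_span]
      congr 1
      ext z
      simp [mapPoly]
    rw [hspan, Ideal.mem_map_iff_of_surjective _ (MvPolynomial.map_surjective _ hsurj)] at hy
    obtain ⟨z, hz, hzx⟩ := hy
    have h1 : x - z ∈ RingHom.ker (MvPolynomial.map (σ := Fin n) (algebraMap P B)) := by
      rw [RingHom.mem_ker, map_sub, hzx, sub_self]
    rw [MvPolynomial.ker_map] at h1
    have h2 : Ideal.Quotient.mk (Ideal.span (Set.range F)) x =
        Ideal.Quotient.mk (Ideal.span (Set.range F)) (x - z) := by
      rw [map_sub, Ideal.Quotient.eq_zero_iff_mem.mpr hz, sub_zero]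
    rw [h2]
    have h3 := Ideal.mem_map_of_mem (Ideal.Quotient.mk (Ideal.span (Set.range F))) h1
    rw [Ideal.map_map] at h3
    exact h3
  · rw [Ideal.map_le_iff_le_comap]
    intro i hi
    rw [Ideal.mem_comap, RingHom.mem_ker]
    change psi P B F (algebraMap P _ i) = 0
    rw [(psi P B F).commutes]
    rw [IsScalarTower.algebraMap_apply P B (Synt.RelGCIRing B n c (mapPoly P B F))]
    rw [RingHom.mem_ker] at hi
    rw [hi, map_zero]

end Psi


section Lift

variable (P B B' : Type u) [CommRing P] [CommRing B] [CommRing B'] [Algebra P B] [Algebra B B']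
  [Algebra P B'] [IsScalarTower P B B']

set_option maxHeartbeats 400000 in
/-- **Lifting relative global complete intersections along a surjection `P → B`.** -/
theorem exists_lift_relGCI (hsurj : Function.Surjective (algebraMap P B))
    (g : B') (n c : ℕ) (G : Fin c → MvPolynomial (Fin n) B) (hG : Synt.IsRelGCI B n c G)
    (eB : Localization.Away g ≃ₐ[B] Synt.RelGCIRing B n c G) :
    ∃ (N C : ℕ) (F : Fin C → MvPolynomial (Fin N) P), Synt.IsRelGCI P N C F ∧
      Nonempty (Localization.Away g ≃ₐ[P] (Synt.RelGCIRing P N C F ⧸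
        (RingHom.ker (algebraMap P B)).map (algebraMap P (Synt.RelGCIRing P N C F)))) := by
  classical
  set I := RingHom.ker (algebraMap P B) with hIdef
  -- lift the equations
  have hlift : ∀ i, ∃ f : MvPolynomial (Fin n) P, MvPolynomial.map (algebraMap P B) f = G i :=
    fun i => MvPolynomial.map_surjective _ hsurj (G i)
  choose F hF using hlift
  have hGF : mapPoly P B F = G := funext hF
  subst hGF
  -- the reduction modulo `I` is a relative global complete intersection
  let e₀ : (P ⧸ I) ≃+* B := RingHom.quotientKerEquivOfSurjective hsurj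
  have he₀ : ∀ x : P, e₀ (Ideal.Quotient.mk I x) = algebraMap P B x := fun x => rfl
  let _ : Algebra B (P ⧸ I) := e₀.symm.toRingHom.toAlgebra
  have hI : Synt.IsRelGCI (P ⧸ I) n c
      (fun i => MvPolynomial.map (Ideal.Quotient.mk I) (F i)) := by
    have h1 := isRelGCI_baseChange B (P ⧸ I) (mapPoly P B F) hG
    have h2 : mapPoly B (P ⧸ I) (mapPoly P B F) =
        fun i => MvPolynomial.map (Ideal.Quotient.mk I) (F i) := by
      have hcomp : (algebraMap B (P ⧸ I)).comp (algebraMap P B) = Ideal.Quotient.mk I := by
        refine RingHom.ext fun x => ?_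
        change e₀.symm (algebraMap P B x) = _
        rw [← he₀, RingEquiv.symm_apply_apply]
      funext i
      simp only [mapPoly, MvPolynomial.map_map]
      rw [hcomp]
    rw [h2] at h1
    exact h1
  obtain ⟨h, hh1, hrel, ⟨ePlus⟩⟩ := Groth.Agent.S9172.result P n c F I hI
  refine ⟨n + 1, c + 1, _, hrel, ?_⟩
  set t := Ideal.Quotient.mk (Ideal.span (Set.range F)) h with ht
  -- `ψ t = 1`
  have hψt : psi P B F t = 1 := by
    have h2 : t - 1 ∈ I.map (algebraMap P (Synt.RelGCIRing P n c F)) := by
      rw [← Ideal.Quotient.eq_zero_iff_mem, map_sub, hh1, map_one, sub_self]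
    rw [← ker_psi P B F hsurj, RingHom.mem_ker] at h2
    have h3 : psi P B F (t - 1) = 0 := h2
    rw [map_sub, map_one, sub_eq_zero] at h3
    exact h3
  obtain ⟨e1⟩ := nonempty_algEquiv_away_quotient I (psi P B F) (psi_surjective P B F hsurj)
    (ker_psi P B F hsurj) t hψt
  obtain ⟨e2⟩ := nonempty_algEquiv_quotient_map I ePlus
  have _ : IsScalarTower P B (Localization.Away g) := IsScalarTower.of_algebraMap_eq (fun x => by
    rw [IsScalarTower.algebraMap_apply P B' (Localization.Away g),
      IsScalarTower.algebraMap_apply P B B',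
      ← IsScalarTower.algebraMap_apply B B' (Localization.Away g)])
  exact ⟨((eB.restrictScalars P).trans e1.symm).trans e2⟩

end Lift

end Groth.Agent.Lib.Helper16.SyntDesc
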