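import Mathlib
import Groth.Prelude.Def_RegImm
import Groth.Agent.Lib.Helper16.SyntDesc5
import Groth.Agent.Lib.Helper16.SyntDesc2
import Groth.Agent.Lib.Helper16.KzComp7
import Groth.Agent.Lib.Helper16.KzDesc1
import Groth.Agent.Helper19.LciCancel
import Groth.Agent.Helper19.RelGCI8

/-!
# Syntomic descent of lci at ring level (modulo local structure of syntomic algebras); S9150 modulo the same
-/

set_option autoImplicit false
universe u

namespace Groth.Agent.Lib.Helper16.SyntDesc

/-- the local structure of syntomic algebras: locally a relative global complete intersection -/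
def LocStr : Prop :=
  ∀ (R S : Type u) [CommRing R] [CommRing S] [Algebra R S] (q : Ideal S) [q.IsPrime],
    Synt.IsSyntomic R S →
    ∃ g : S, g ∉ q ∧ ∃ (n c : ℕ) (F : Fin c → MvPolynomial (Fin n) R), Synt.IsRelGCI R n c F ∧
      Nonempty (Localization.Away g ≃ₐ[R] Synt.RelGCIRing R n c F)

/-- `S9150` modulo the local structure of syntomic algebras -/
theorem exists_cover_lift (H : LocStr.{u}) (R : Type u) [CommRing R] (I : Ideal R) (Sb : Type u)
    [CommRing Sb] [Algebra R Sb] [Algebra (R ⧸ I) Sb] [IsScalarTower R (R ⧸ I) Sb]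
    (h : Synt.IsSyntomic (R ⧸ I) Sb) :
    ∃ s : Finset Sb, Ideal.span (s : Set Sb) = ⊤ ∧ ∀ g ∈ s,
      ∃ (n c : ℕ) (F : Fin c → MvPolynomial (Fin n) R), Synt.IsRelGCI R n c F ∧
        Nonempty (Localization.Away g ≃ₐ[R]
          (Synt.RelGCIRing R n c F ⧸ I.map (algebraMap R (Synt.RelGCIRing R n c F)))) := by
  classical
  set Good : Set Sb := {g | ∃ (n c : ℕ) (F : Fin c → MvPolynomial (Fin n) R),
    Synt.IsRelGCI R n c F ∧ Nonempty (Localization.Away g ≃ₐ[R]
      (Synt.RelGCIRing R n c F ⧸ I.map (algebraMap R (Synt.RelGCIRing R n c F))))} with hGood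
  have htop : Ideal.span Good = ⊤ := by
    by_contra hne
    obtain ⟨𝔪, h𝔪, hle⟩ := Ideal.exists_le_maximal _ hne
    have hp : 𝔪.IsPrime := h𝔪.isPrime
    obtain ⟨g, hg, n, c, G, hG, ⟨eB⟩⟩ := H (R ⧸ I) Sb 𝔪 h
    obtain ⟨N, C, F, hF, ⟨e⟩⟩ := exists_lift_relGCI R (R ⧸ I) Sb Ideal.Quotient.mk_surjective
      g n c G hG eB
    have hker : RingHom.ker (algebraMap R (R ⧸ I)) = I := Ideal.mk_ker
    rw [hker] at e
    exact hg (hle (Ideal.subset_span ⟨N, C, F, hF, ⟨e⟩⟩))
  obtain ⟨s, hs, hstop⟩ := (Ideal.span_eq_top_iff_finite Good).mp htop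
  exact ⟨s, hstop, fun g hg => hs hg⟩


open Groth.Agent.Lib.Helper16.KzComp Groth.Agent.Helper19.RelGCI

section M1

variable (P B B' : Type u) [CommRing P] [CommRing B] [CommRing B'] [Algebra P B] [Algebra B B']
  [Algebra P B'] [IsScalarTower P B B']

set_option maxHeartbeats 400000 in
/-- closed immersion case of syntomic descent of lci, at a point -/
theorem exists_away_kreg_of_lift (hsurj : Function.Surjective (algebraMap P B))
    (hlci : LCI.IsLCI P B') (q' : Ideal B') [q'.IsPrime]
    (g : B') (hg : g ∉ q') (n c : ℕ) (G : Fin c → MvPolynomial (Fin n) B)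
    (hG : Synt.IsRelGCI B n c G) (eB : Localization.Away g ≃ₐ[B] Synt.RelGCIRing B n c G) :
    ∃ s₀ : P, algebraMap P B' s₀ ∉ q' ∧ LCI.IsKoszulRegularIdeal
      ((RingHom.ker (algebraMap P B)).map (algebraMap P (Localization.Away s₀))) := by
  obtain ⟨N, C, F, hF, ⟨e⟩⟩ := exists_lift_relGCI P B B' hsurj g n c G hG eB
  set I := RingHom.ker (algebraMap P B) with hI
  set T := Synt.RelGCIRing P N C F with hT
  have hl1 : LCI.IsLCI P (Localization.Away g) :=
    isLCI_trans P B' (Localization.Away g) hlci (isLCI_of_isLocalizationAway B' _ g)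
  have hl : LCI.IsLCI P (T ⧸ I.map (algebraMap P T)) := isLCI_of_algEquiv P e hl1
  have hIT := kreg_map_of_isRelGCI P I N C F hF hl
  have _ : Module.Flat P T := flat_of_isRelGCI hF
  have _ : Algebra.FinitePresentation P T :=
    Algebra.FinitePresentation.quotient (Submodule.fg_span (Set.finite_range F))
  -- the prime of `T`
  have hdisj : Disjoint (Submonoid.powers g : Set B') (q' : Set B') := by
    rw [Set.disjoint_left]
    rintro x ⟨k, rfl⟩ hx
    exact hg (Ideal.IsPrime.mem_of_pow_mem inferInstance k hx)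
  have hprime : (q'.map (algebraMap B' (Localization.Away g))).IsPrime :=
    IsLocalization.isPrime_of_isPrime_disjoint (Submonoid.powers g) _ _ inferInstance hdisj
  let θ : T →ₐ[P] Localization.Away g :=
    e.symm.toAlgHom.comp (Ideal.Quotient.mkₐ P (I.map (algebraMap P T)))
  let 𝔓 : Ideal T := (q'.map (algebraMap B' (Localization.Away g))).comap θ
  have h𝔓 : 𝔓.IsPrime := Ideal.comap_isPrime θ _
  obtain ⟨s₀, hs₀, hK⟩ := exists_away_kreg_of_flat_fp P T I hIT 𝔓
  refine ⟨s₀, ?_, hK⟩
  intro hmem
  apply hs₀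
  rw [Ideal.mem_comap]
  change θ (algebraMap P T s₀) ∈ q'.map (algebraMap B' (Localization.Away g))
  rw [θ.commutes, IsScalarTower.algebraMap_apply P B' (Localization.Away g)]
  exact Ideal.mem_map_of_mem _ hmem

end M1

section M2

variable (R B B' : Type u) [CommRing R] [CommRing B] [CommRing B'] [Algebra R B] [Algebra B B']
  [Algebra R B'] [IsScalarTower R B B']

set_option maxHeartbeats 400000 in
/-- **Syntomic descent of lci, ring level, at a point** (modulo the local structure of syntomic
algebras). -/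
theorem exists_away_isLCI (H : LocStr.{u}) [Algebra.FiniteType R B]
    (hsyn : Synt.IsSyntomic B B') (hlci : LCI.IsLCI R B') (q' : Ideal B') [q'.IsPrime] :
    ∃ s : B, algebraMap B B' s ∉ q' ∧ LCI.IsLCI R (Localization.Away s) := by
  obtain ⟨n, α, hα⟩ := Algebra.FiniteType.iff_quotient_mvPolynomial''.mp
    (inferInstance : Algebra.FiniteType R B)
  let P := MvPolynomial (Fin n) R
  let _ : Algebra P B := α.toRingHom.toAlgebra
  let _ : Algebra P B' := ((algebraMap B B').comp α.toRingHom).toAlgebra
  have _ : IsScalarTower P B B' := IsScalarTower.of_algebraMap_eq (fun x => rfl)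
  have _ : IsScalarTower R P B := IsScalarTower.of_algebraMap_eq (fun x => (α.commutes x).symm)
  have _ : IsScalarTower R P B' := IsScalarTower.of_algebraMap_eq (fun x => by
    change algebraMap R B' x = algebraMap B B' (α (algebraMap R P x))
    rw [α.commutes, ← IsScalarTower.algebraMap_apply R B B'])
  have hsurj : Function.Surjective (algebraMap P B) := hα
  -- cancellation
  have hlciP : LCI.IsLCI P B' := by
    rw [← isLCIHom_algebraMap_iff]
    apply Groth.Agent.Helper19.LciCancel.isLCIHom_of_comp_smooth (algebraMap R P)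
      (RingHom.smooth_algebraMap.mpr ⟨inferInstance, inferInstance⟩) (algebraMap P B')
    rw [← IsScalarTower.algebraMap_eq R P B', isLCIHom_algebraMap_iff]
    exact hlci
  obtain ⟨g, hg, n', c, G, hG, ⟨eB⟩⟩ := H B B' q' hsyn
  obtain ⟨s₀, hs₀, hK⟩ := exists_away_kreg_of_lift P B B' hsurj hlciP q' g hg n' c G hG eB
  refine ⟨algebraMap P B s₀, ?_, ?_⟩
  · rw [← IsScalarTower.algebraMap_apply P B B']
    exact hs₀
  · let Ps := Localization.Away s₀
    let Bs := Localization.Away (algebraMap P B s₀)
    let _ : Algebra Ps Bs := (Localization.awayMap (algebraMap P B) s₀).toAlgebra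
    have hmap : ∀ a : P, algebraMap Ps Bs (algebraMap P Ps a) = algebraMap B Bs (algebraMap P B a) := by
      intro a
      change Localization.awayMap (algebraMap P B) s₀ (algebraMap P Ps a) = _
      exact IsLocalization.map_eq _ _
    have _ : IsScalarTower R Ps Bs := IsScalarTower.of_algebraMap_eq (fun r => by
      rw [IsScalarTower.algebraMap_apply R P Ps, hmap, ← IsScalarTower.algebraMap_apply R P B,
        ← IsScalarTower.algebraMap_apply R B Bs])
    have hs : Function.Surjective (algebraMap Ps Bs) := by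
      change Function.Surjective (Localization.awayMap (algebraMap P B) s₀)
      rw [Localization.awayMap_surjective_iff]
      intro a
      obtain ⟨b, rfl⟩ := hsurj a
      exact ⟨b, 0, by rw [pow_zero, one_mul]⟩
    have hker : RingHom.ker (algebraMap Ps Bs) =
        (RingHom.ker (algebraMap P B)).map (algebraMap P Ps) :=
      IsLocalization.ker_map (Localization.Away (algebraMap P B s₀)) (algebraMap P B)
        (Submonoid.map_powers (algebraMap P B) s₀)
    have h1 : LCI.IsLCI Ps Bs := by
      rw [Groth.Agent.Helper19.LciRing.isLCI_iff_of_surjective Ps Bs hs, hker]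
      exact hK
    have h2 : LCI.IsLCI R P := Groth.Agent.Helper19.LciRing.isLCI_mvPolynomial R n
    have h3 : LCI.IsLCI P Ps := isLCI_of_isLocalizationAway P Ps s₀
    exact isLCI_trans R Ps Bs (isLCI_trans R P Ps h2 h3) h1

end M2

end Groth.Agent.Lib.Helper16.SyntDesc
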