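import Mathlib
import Groth.Prelude.Def_RegImm
import Groth.Agent.Helper19.LciMor
import Groth.Agent.Lib.Helper23.SyntLci
import Groth.Agent.Lib.Helper16.SyntLCI

/-!
# Syntomic morphisms = flat + Koszul at every point (modulo syntomic ring maps being lci)
-/

set_option autoImplicit false
universe u

open CategoryTheory CategoryTheory.Limits AlgebraicGeometry

namespace Groth.Agent.Lib.Helper16.SyntMor

open Groth.Agent.Lib.Helper16.KzComp

/-- flat + Koszul at every point ⇒ syntomic morphism -/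
theorem isSyntomicMor_of_flat_of_koszul {X S : Scheme.{u}} (f : X ⟶ S) (hfl : Flat f)
    (hk : ∀ x : X, Synt.IsKoszulAt f x) : Synt.IsSyntomicMor f := by
  have hl : LCIMor f := (Groth.Agent.Helper19.LciMor.forall_isKoszulAt_iff f).mp hk
  rw [Groth.Agent.Lib.Helper23.FibProp0.isSyntomicMor_iff_forall]
  intro U V e
  have h1 : (f.appLE V.1 U.1 e).hom.Flat :=
    HasRingHomProperty.appLE (P := @Flat) f hfl V U e
  have h2 : IsLCIHom (f.appLE V.1 U.1 e).hom :=
    HasRingHomProperty.appLE (P := LCIMor) f hl V U e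
  let _ := (f.appLE V.1 U.1 e).hom.toAlgebra
  have h1' : Module.Flat Γ(S, V.1) Γ(X, U.1) := h1
  exact Groth.Agent.Lib.Helper16.SyntLCI.isSyntomic_of_flat_of_isLCI _ _ h2

/-- syntomic morphism ⇒ flat + Koszul at every point, given that syntomic ring maps are
local complete intersections -/
theorem flat_and_koszul_of_isSyntomicMor
    (H : ∀ (R T : Type u) [CommRing R] [CommRing T] [Algebra R T],
      Synt.IsSyntomic R T → LCI.IsLCI R T)
    {X S : Scheme.{u}} (f : X ⟶ S) (h : Synt.IsSyntomicMor f) :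
    Flat f ∧ ∀ x : X, Synt.IsKoszulAt f x := by
  refine ⟨Groth.Agent.Lib.Helper23.FibProp0.flat_of_isSyntomicMor f h, ?_⟩
  rw [Groth.Agent.Helper19.LciMor.forall_isKoszulAt_iff]
  rw [lciMor_iff]
  intro U V hU hV hUV
  have h3 := (Groth.Agent.Lib.Helper23.FibProp0.isSyntomicMor_iff_forall f).mp h ⟨U, hU⟩ ⟨V, hV⟩ hUV
  let _ := (f.appLE V U hUV).hom.toAlgebra
  exact H _ _ h3

theorem flat_and_koszul_iff_isSyntomicMor
    (H : ∀ (R T : Type u) [CommRing R] [CommRing T] [Algebra R T],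
      Synt.IsSyntomic R T → LCI.IsLCI R T)
    {X S : Scheme.{u}} (f : X ⟶ S) :
    (Flat f ∧ ∀ x : X, Synt.IsKoszulAt f x) ↔ Synt.IsSyntomicMor f :=
  ⟨fun h => isSyntomicMor_of_flat_of_koszul f h.1 h.2, flat_and_koszul_of_isSyntomicMor H f⟩

end Groth.Agent.Lib.Helper16.SyntMor
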