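import Mathlib
import Groth.Prelude.Def_RegImm
import Groth.Agent.Lib.Helper16.SyntDesc6
import Groth.Agent.Lib.Helper16.SyntMor
import Groth.Agent.Lib.Helper14.FppfDesc2
import Groth.Agent.Lib.Helper16.SyntLCI2

/-!
# Syntomic descent of lci morphisms of schemes (modulo local structure of syntomic algebras)
-/

set_option autoImplicit false
universe u

open CategoryTheory CategoryTheory.Limits AlgebraicGeometry

namespace Groth.Agent.Lib.Helper16.SyntDesc

open Groth.Agent.Lib.Helper16.KzComp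

/-- lci morphisms are locally of finite type -/
theorem locallyOfFiniteType_of_lciMor {X Y : Scheme.{u}} (f : X ⟶ Y) (h : LCIMor f) :
    LocallyOfFiniteType f := by
  rw [HasRingHomProperty.iff_appLE (P := @LocallyOfFiniteType)]
  intro V U e
  have h1 := (lciMor_iff f).mp h U.1 V.1 U.2 V.2 e
  exact h1.1

set_option maxHeartbeats 800000 in
/-- **Syntomic descent of lci morphisms** (modulo the local structure of syntomic algebras). -/
theorem lciMor_of_comp_syntomic (H : LocStr.{u}) {X' X Y : Scheme.{u}} (g : X' ⟶ X)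
    (hg : Synt.IsSyntomicMor g) [Surjective g] (f : X ⟶ Y) (h : LCIMor (g ≫ f)) : LCIMor f := by
  have hgflat : Flat g := Groth.Agent.Lib.Helper23.FibProp0.flat_of_isSyntomicMor g hg
  have hgfp : LocallyOfFinitePresentation g :=
    ((Groth.Agent.Lib.Helper23.FibProp0.isSyntomicMor_iff g).mp hg).2
  have hgf : LocallyOfFiniteType (g ≫ f) := locallyOfFiniteType_of_lciMor _ h
  have hf : LocallyOfFiniteType f := Groth.Agent.Lib.Helper14.AS.lft_of_fppf_comp g f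
  rw [HasRingHomProperty.iff_exists_appLE (P := LCIMor.{u})
    Groth.Agent.Helper19.LciMor.isLCIHom_stableSource]
  intro x
  obtain ⟨x', rfl⟩ := g.surjective x
  obtain ⟨_, ⟨V, hV, rfl⟩, hxV, -⟩ :=
    Y.isBasis_affineOpens.exists_subset_of_mem_open (Set.mem_univ (f (g x'))) isOpen_univ
  have hV' : IsAffineOpen V := hV
  obtain ⟨_, ⟨U₀, hU₀, rfl⟩, hxU₀, hU₀V⟩ :=
    X.isBasis_affineOpens.exists_subset_of_mem_open (show g x' ∈ f ⁻¹ᵁ V from hxV) (f ⁻¹ᵁ V).2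
  have hU₀' : IsAffineOpen U₀ := hU₀
  have e₀ : U₀ ≤ f ⁻¹ᵁ V := hU₀V
  obtain ⟨_, ⟨U', hU', rfl⟩, hxU', hU'U₀⟩ :=
    X'.isBasis_affineOpens.exists_subset_of_mem_open (show x' ∈ g ⁻¹ᵁ U₀ from hxU₀) (g ⁻¹ᵁ U₀).2
  have hU'' : IsAffineOpen U' := hU'
  have e' : U' ≤ g ⁻¹ᵁ U₀ := hU'U₀
  have e'' : U' ≤ (g ≫ f) ⁻¹ᵁ V := fun y hy => e₀ (e' hy)
  -- the rings
  let φ := (f.appLE V U₀ e₀).hom
  let ψ := (g.appLE U₀ U' e').hom
  let χ := ((g ≫ f).appLE V U' e'').hom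
  have hcomp : χ = ψ.comp φ := by
    have h2 : f.appLE V U₀ e₀ ≫ g.appLE U₀ U' e' = (g ≫ f).appLE V U' e'' :=
      Scheme.Hom.appLE_comp_appLE _ _ _ _ _ _ _
    change ((g ≫ f).appLE V U' e'').hom = _
    rw [← h2]
    rfl
  let _ : Algebra Γ(Y, V) Γ(X, U₀) := φ.toAlgebra
  let _ : Algebra Γ(X, U₀) Γ(X', U') := ψ.toAlgebra
  let _ : Algebra Γ(Y, V) Γ(X', U') := χ.toAlgebra
  have _ : IsScalarTower Γ(Y, V) Γ(X, U₀) Γ(X', U') :=
    IsScalarTower.of_algebraMap_eq (fun r => by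
      change χ r = ψ (φ r)
      rw [hcomp]
      rfl)
  have _ : Algebra.FiniteType Γ(Y, V) Γ(X, U₀) := f.finiteType_appLE hV' hU₀' e₀
  have hsyn : Synt.IsSyntomic Γ(X, U₀) Γ(X', U') :=
    (Groth.Agent.Lib.Helper23.FibProp0.isSyntomicMor_iff_forall g).mp hg ⟨U', hU''⟩ ⟨U₀, hU₀'⟩ e'
  have hlci : LCI.IsLCI Γ(Y, V) Γ(X', U') := (lciMor_iff (g ≫ f)).mp h U' V hU'' hV' e''
  let q' := hU''.primeIdealOf ⟨x', hxU'⟩
  have _ : q'.asIdeal.IsPrime := q'.2
  obtain ⟨s, hs, hL⟩ := exists_away_isLCI Γ(Y, V) Γ(X, U₀) Γ(X', U') H hsyn hlci q'.asIdeal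
  -- the basic open
  have hsx' : x' ∈ X'.basicOpen (ψ s) := by
    by_contra hcon
    exact hs ((Groth.Agent.Helper19.LciDict.mem_primeIdealOf_iff hU'' x' hxU' (ψ s)).mpr hcon)
  have hxs : g x' ∈ X.basicOpen s := by
    have h3 : X'.basicOpen (g.appLE U₀ U' e' s) = U' ⊓ g ⁻¹ᵁ (X.basicOpen s) :=
      Scheme.basicOpen_appLE g U' U₀ e' s
    have h4 : x' ∈ U' ⊓ g ⁻¹ᵁ (X.basicOpen s) := h3 ▸ hsx'
    exact h4.2
  have hUaff : IsAffineOpen (X.basicOpen s) := hU₀'.basicOpen s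
  have hUle : X.basicOpen s ≤ f ⁻¹ᵁ V := (X.basicOpen_le s).trans e₀
  refine ⟨⟨V, hV'⟩, ⟨X.basicOpen s, hUaff⟩, hxs, hUle, ?_⟩
  -- the ring map
  obtain ⟨ε, hε⟩ := Groth.Agent.Helper19.LciDict.exists_equiv_away ⟨U₀, hU₀'⟩ s
  have h5 : f.appLE V U₀ e₀ ≫ X.presheaf.map (homOfLE (X.basicOpen_le s)).op =
      f.appLE V (X.basicOpen s) hUle := Scheme.Hom.appLE_map _ _ _
  have h6 : (f.appLE V (X.basicOpen s) hUle).hom =
      ε.symm.toRingHom.comp (algebraMap Γ(Y, V) (Localization.Away s)) := by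
    rw [← h5]
    refine RingHom.ext fun r => ?_
    change (X.presheaf.map (homOfLE (X.basicOpen_le s)).op).hom (φ r) = ε.symm _
    rw [RingEquiv.eq_symm_apply, hε]
    exact (IsScalarTower.algebraMap_apply Γ(Y, V) Γ(X, U₀) (Localization.Away s) r).symm
  change IsLCIHom (f.appLE V (X.basicOpen s) hUle).hom
  rw [h6]
  exact isLCIHom_respectsIso.1 _ ε.symm (isLCIHom_algebraMap_iff.mpr hL)


/-- syntomic ring maps are local complete intersections, given the local structure -/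
theorem isLCI_of_locStr (H : LocStr.{u}) (R T : Type u) [CommRing R] [CommRing T] [Algebra R T]
    (h : Synt.IsSyntomic R T) : LCI.IsLCI R T :=
  Groth.Agent.Lib.Helper16.SyntLCI.isLCI_of_locally_relGCI R T (fun q _ => H R T q h)

/-- `S9730` modulo the local structure of syntomic algebras -/
theorem forall_isKoszulAt_comp_iff (H : LocStr.{u}) {X' X Y : Scheme.{u}} (g : X' ⟶ X)
    (hg : Synt.IsSyntomicMor g) [Surjective g] (f : X ⟶ Y) :
    (∀ x' : X', Synt.IsKoszulAt (g ≫ f) x') ↔ (∀ x : X, Synt.IsKoszulAt f x) := by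
  rw [Groth.Agent.Helper19.LciMor.forall_isKoszulAt_iff,
    Groth.Agent.Helper19.LciMor.forall_isKoszulAt_iff]
  constructor
  · intro h
    exact lciMor_of_comp_syntomic H g hg f h
  · intro h
    have h1 := (Groth.Agent.Lib.Helper16.SyntMor.flat_and_koszul_of_isSyntomicMor
      (fun R T _ _ _ hs => isLCI_of_locStr H R T hs) g hg).2
    rw [Groth.Agent.Helper19.LciMor.forall_isKoszulAt_iff] at h1
    exact MorphismProperty.comp_mem _ _ _ h1 h

end Groth.Agent.Lib.Helper16.SyntDesc
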