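import Mathlib
import Groth.Prelude.Def_RegImm
import Groth.Agent.Lib.Helper16.SyntDesc6
import Groth.Agent.Helper19.RelGCI16

/-!
# LocStr holds (via helper19 RelGCI16)
-/

set_option autoImplicit false
universe u

namespace Groth.Agent.Lib.Helper16.SyntDesc

/-- the local structure of syntomic algebras holds (helper19, Stacks 00SY) -/
theorem locStr : LocStr.{u} := fun R S _ _ _ q _ h =>
  Groth.Agent.Helper19.RelGCI.exists_relGCI_away_of_isSyntomic (R := R) (T := S) h q

end Groth.Agent.Lib.Helper16.SyntDesc
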