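import Mathlib
import Groth.Prelude.Def_Koszul
import Groth.Prelude.Def_LCI2
import Groth.Agent.Lib.Helper16.KzDesc1
import Groth.Agent.Lib.Helper11.KzRes
import Groth.Agent.Lib.Helper21.RegularQuotient

/-!
# Spreading out Koszul-regularity from a prime (Noetherian case)
-/

set_option autoImplicit false
set_option linter.unusedSectionVars false
set_option linter.unusedVariables false
set_option linter.unusedSimpArgs false
universe u
open CategoryTheory CategoryTheory.Limits TensorProduct

namespace Groth.Agent.Lib.Helper16.KzComp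

open Groth.Agent.Lib.Helper16.KzLoc

variable {R : Type u} [CommRing R]

/-- a finite module each of whose elements is killed by an element outside a prime is killed by a
single such element -/
lemma exists_notMem_smul_eq_zero (p : Ideal R) [p.IsPrime] (H : Type u) [AddCommGroup H] [Module R H]
    [Module.Finite R H] (h : ∀ y : H, ∃ s ∈ p.primeCompl, s • y = 0) :
    ∃ s ∈ p.primeCompl, ∀ y : H, s • y = 0 := by
  classical
  obtain ⟨G, hG⟩ := (Module.finite_def.mp (inferInstance : Module.Finite R H))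
  choose σ hσ using h
  refine ⟨∏ y ∈ G, σ y, ?_, ?_⟩
  · exact Submonoid.prod_mem _ (fun y _ => (hσ y).1)
  · intro y
    have hy : y ∈ Submodule.span R (G : Set H) := by rw [hG]; trivial
    induction hy using Submodule.span_induction with
    | mem z hz =>
      have hzG : z ∈ G := hz
      rw [← Finset.prod_erase_mul G σ hzG, mul_smul, (hσ z).2, smul_zero]
    | zero => rw [smul_zero]
    | add a b _ _ ha hb => rw [smul_add, ha, hb, add_zero]
    | smul c a _ ha => rw [smul_comm, ha, smul_zero]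

/-- spreading out Koszul-regularity from a prime to a basic open neighbourhood, Noetherian case -/
theorem exists_kregLoc_powers_of_atPrime [IsNoetherianRing R] (l : List R) (p : Ideal R) [p.IsPrime]
    (h : KregLoc l p.primeCompl) : ∃ g : R, g ∉ p ∧ KregLoc l (Submonoid.powers g) := by
  classical
  have hfin : ∀ i : ℤ, Module.Finite R ((Koszul.koszul R l).homology i : ModuleCat.{u} R) := by
    intro i
    rw [Groth.Agent.Lib.Helper11.Kz.koszul_eq]
    exact Groth.Agent.Lib.Helper11.Kz.KH_finite l R i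
  have hsub : ∀ i : ℤ, (0 < i ∨ i < -(l.length : ℤ)) →
      Subsingleton ((Koszul.koszul R l).homology i : ModuleCat.{u} R) := by
    intro i hi
    rw [Groth.Agent.Lib.Helper11.Kz.koszul_eq]
    exact Groth.Agent.Lib.Helper11.Kz.KH_subsingleton l R i hi
  have hex : ∀ i : ℤ, ∃ s ∈ p.primeCompl, i ≠ 0 →
      ∀ y : ((Koszul.koszul R l).homology i : ModuleCat.{u} R), s • y = 0 := by
    intro i
    by_cases hi : i = 0
    · exact ⟨1, one_mem _, fun h => absurd hi h⟩
    · have := hfin i
      obtain ⟨s, hs, hsy⟩ := exists_notMem_smul_eq_zero p _ (h i hi)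
      exact ⟨s, hs, fun _ => hsy⟩
  choose σ hσ using hex
  refine ⟨∏ i ∈ Finset.Icc (-(l.length : ℤ)) 0, σ i, ?_, ?_⟩
  · exact Submonoid.prod_mem _ (fun i _ => (hσ i).1)
  · intro i hi y
    refine ⟨_, Submonoid.mem_powers _, ?_⟩
    by_cases hmem : i ∈ Finset.Icc (-(l.length : ℤ)) 0
    · rw [← Finset.prod_erase_mul _ σ hmem, mul_smul, (hσ i).2 hi y, smul_zero]
    · have : Subsingleton ((Koszul.koszul R l).homology i : ModuleCat.{u} R) := by
        apply hsub
        rw [Finset.mem_Icc] at hmem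
        omega
      exact Subsingleton.elim _ _

/-- spreading out equality of finitely generated ideals from a prime to a basic open neighbourhood -/
theorem exists_locEq_powers_of_atPrime (J₁ J₂ : Ideal R) (h1 : J₁.FG) (h2 : J₂.FG) (p : Ideal R)
    [p.IsPrime] (h : LocEq p.primeCompl J₁ J₂) :
    ∃ g : R, g ∉ p ∧ LocEq (Submonoid.powers g) J₁ J₂ := by
  classical
  have key : ∀ (K₁ K₂ : Ideal R), K₁.FG → (∀ x ∈ K₁, ∃ s ∈ p.primeCompl, s * x ∈ K₂) →
      ∃ g ∈ p.primeCompl, ∀ x ∈ K₁, g * x ∈ K₂ := by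
    intro K₁ K₂ hfg hK
    obtain ⟨G, hG⟩ := hfg
    have hGK : ∀ x ∈ G, x ∈ K₁ := fun x hx => hG ▸ Ideal.subset_span hx
    choose! σ hσ using hK
    refine ⟨∏ x ∈ G, σ x, Submonoid.prod_mem _ (fun x hx => (hσ x (hGK x hx)).1), ?_⟩
    intro x hx
    rw [← hG] at hx
    induction hx using Submodule.span_induction with
    | mem y hy =>
      have hyG : y ∈ G := hy
      rw [← Finset.prod_erase_mul G σ hyG, mul_assoc]
      exact Ideal.mul_mem_left _ _ (hσ y (hGK y hyG)).2
    | zero => rw [mul_zero]; exact Ideal.zero_mem _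
    | add a b _ _ ha hb => rw [mul_add]; exact Ideal.add_mem _ ha hb
    | smul c a _ ha =>
      rw [smul_eq_mul, mul_left_comm]
      exact Ideal.mul_mem_left _ _ ha
  obtain ⟨g₁, hg₁, hg₁'⟩ := key J₁ J₂ h1 h.1
  obtain ⟨g₂, hg₂, hg₂'⟩ := key J₂ J₁ h2 h.2
  refine ⟨g₁ * g₂, fun hmem => (Submonoid.mul_mem _ hg₁ hg₂) hmem, ?_, ?_⟩
  · intro x hx
    refine ⟨g₁ * g₂, Submonoid.mem_powers _, ?_⟩
    rw [mul_comm g₁ g₂, mul_assoc]
    exact Ideal.mul_mem_left _ _ (hg₁' x hx)
  · intro x hx
    refine ⟨g₁ * g₂, Submonoid.mem_powers _, ?_⟩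
    rw [mul_assoc]
    exact Ideal.mul_mem_left _ _ (hg₂' x hx)

end Groth.Agent.Lib.Helper16.KzComp
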