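import Mathlib

/-!
# Inverting an element by adjoining a variable: regular sequence presentations of basic opens
-/

set_option autoImplicit false
set_option linter.unusedSectionVars false
set_option linter.unusedVariables false
set_option linter.unusedSimpArgs false
universe u
open IsLocalRing TensorProduct Pointwise RingTheory.Sequence Polynomial

namespace Groth.Agent.Lib.Helper16.SyntStr

section C1

variable {S L : Type u} [CommRing S] [CommRing L]

/-- prepending a regular element `a` to a sequence which is weakly regular on `S/(a) ≅ L` -/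
theorem isWeaklyRegular_cons_of_ker_eq_span (χ : S →+* L) (hχ : Function.Surjective χ) (a : S)
    (hker : RingHom.ker χ = Ideal.span {a}) (ha : IsSMulRegular S a) (gs : List S)
    (hgs : IsWeaklyRegular L (gs.map χ)) : IsWeaklyRegular S (a :: gs) := by
  let _ : Algebra S L := χ.toAlgebra
  rw [isWeaklyRegular_cons_iff]
  refine ⟨ha, ?_⟩
  have hk : LinearMap.ker (Algebra.linearMap S L) = a • (⊤ : Submodule S S) := by
    ext x
    rw [LinearMap.mem_ker, Algebra.linearMap_apply, Submodule.mem_smul_pointwise_iff_exists]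
    change χ x = 0 ↔ _
    rw [← RingHom.mem_ker, hker, Ideal.mem_span_singleton']
    constructor
    · rintro ⟨b, rfl⟩
      exact ⟨b, trivial, by rw [smul_eq_mul, mul_comm]⟩
    · rintro ⟨b, -, rfl⟩
      exact ⟨b, by rw [smul_eq_mul, mul_comm]⟩
  let e : QuotSMulTop a S ≃ₗ[S] L :=
    (Submodule.quotEquivOfEq _ _ hk.symm).trans
      ((Algebra.linearMap S L).quotKerEquivOfSurjective hχ)
  rw [LinearEquiv.isWeaklyRegular_congr e]
  exact (isWeaklyRegular_map_algebraMap_iff L L gs).mp hgs

end C1

section C2

variable {R : Type u} [CommRing R]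

theorem isSMulRegular_C_mul_X_sub_one (h : R) : IsSMulRegular R[X] (C h * X - 1) := by
  intro p q hpq
  simp only [smul_eq_mul] at hpq
  have hinj : Function.Injective (fun p : R[X] => (p : PowerSeries R)) :=
    Polynomial.coe_injective R
  apply hinj
  have hu : IsUnit ((C h * X - 1 : R[X]) : PowerSeries R) := by
    rw [PowerSeries.isUnit_iff_constantCoeff]
    simp
  have := congrArg (fun p : R[X] => (p : PowerSeries R)) hpq
  simp only [Polynomial.coe_mul] at this
  exact hu.mul_left_cancel this

end C2


section D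

variable {A R B : Type u} [CommRing A] [CommRing R] [CommRing B] [Algebra A R] [Algebra A B]

/-- the surjection `R[y] → R_h`, `y ↦ 1/h` -/
noncomputable def chi (h : R) : R[X] →ₐ[R] Localization.Away h :=
  (Localization.awayEquivAdjoin h).symm.toAlgHom.comp (AdjoinRoot.mkₐ (C h * X - 1))

theorem chi_surjective (h : R) : Function.Surjective (chi h) :=
  (Localization.awayEquivAdjoin h).symm.surjective.comp AdjoinRoot.mk_surjective

theorem ker_chi (h : R) : RingHom.ker (chi h).toRingHom = Ideal.span {C h * X - 1} := by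
  ext x
  rw [RingHom.mem_ker, Ideal.mem_span_singleton, ← AdjoinRoot.mk_eq_zero]
  change (Localization.awayEquivAdjoin h).symm (AdjoinRoot.mk _ x) = 0 ↔ _
  exact EmbeddingLike.map_eq_zero_iff

theorem chi_C (h r : R) : chi h (C r) = algebraMap R (Localization.Away h) r := by
  rw [← Polynomial.algebraMap_eq, AlgHom.commutes]

theorem exists_presentation_away (f : R →ₐ[A] B) (hf : Function.Surjective f) (h : R)
    (fs : List R)
    (hI : Ideal.ofList (fs.map (algebraMap R (Localization.Away h))) =
      (RingHom.ker f.toRingHom).map (algebraMap R (Localization.Away h)))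
    (hreg : IsWeaklyRegular (Localization.Away h) (fs.map (algebraMap R (Localization.Away h))))
    [Nontrivial (Localization.Away (f h))] :
    IsRegular R[X] ((C h * X - 1) :: fs.map C) ∧
      Nonempty (Localization.Away (f h) ≃ₐ[A]
        R[X] ⧸ Ideal.ofList ((C h * X - 1) :: fs.map C)) := by
  have hmap : (fs.map C).map (chi h).toRingHom = fs.map (algebraMap R (Localization.Away h)) := by
    rw [List.map_map]
    refine List.map_congr_left fun r _ => ?_
    exact chi_C h r
  have hweak : IsWeaklyRegular R[X] ((C h * X - 1) :: fs.map C) :=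
    isWeaklyRegular_cons_of_ker_eq_span (chi h).toRingHom (chi_surjective h) _ (ker_chi h)
      (isSMulRegular_C_mul_X_sub_one h) (fs.map C) (by rw [hmap]; exact hreg)
  let φ : Localization.Away h →ₐ[A] Localization.Away (f h) := Localization.awayMapₐ f h
  have hφs : Function.Surjective φ := by
    change Function.Surjective (Localization.awayMap f.toRingHom h)
    rw [Localization.awayMap_surjective_iff]
    intro a
    obtain ⟨b, rfl⟩ := hf a
    exact ⟨b, 0, by simp⟩
  have hφk : RingHom.ker φ.toRingHom =
      (RingHom.ker f.toRingHom).map (algebraMap R (Localization.Away h)) :=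
    IsLocalization.ker_map (Localization.Away (f h)) f.toRingHom (Submonoid.map_powers _ h)
  let Ψ : R[X] →ₐ[A] Localization.Away (f h) := φ.comp ((chi h).restrictScalars A)
  have hΨs : Function.Surjective Ψ := hφs.comp (chi_surjective h)
  have hΨk : RingHom.ker Ψ.toRingHom = Ideal.ofList ((C h * X - 1) :: fs.map C) := by
    have h1 : RingHom.ker Ψ.toRingHom = (RingHom.ker φ.toRingHom).comap (chi h).toRingHom := by
      ext x
      simp only [RingHom.mem_ker, Ideal.mem_comap]
      rfl
    rw [h1, hφk, ← hI, ← hmap, ← Ideal.map_ofList,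
      Ideal.comap_map_of_surjective (chi h).toRingHom (chi_surjective h), ← RingHom.ker_eq_comap_bot, ker_chi,
      Ideal.ofList_cons, sup_comm]
  have e : Localization.Away (f h) ≃ₐ[A] R[X] ⧸ Ideal.ofList ((C h * X - 1) :: fs.map C) :=
    (Ideal.quotientKerAlgEquivOfSurjective hΨs).symm.trans (Ideal.quotientEquivAlgOfEq A hΨk)
  refine ⟨⟨hweak, ?_⟩, ⟨e⟩⟩
  intro htop
  rw [smul_eq_mul, Ideal.mul_top] at htop
  have hnt : Nontrivial (R[X] ⧸ Ideal.ofList ((C h * X - 1) :: fs.map C)) :=
    e.injective.nontrivial
  exact (Ideal.Quotient.nontrivial_iff.mp hnt) htop.symm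

end D


section E

theorem isRegular_map_ringEquiv {S₀ S : Type u} [CommRing S₀] [CommRing S] (ε : S₀ ≃+* S)
    (l : List S₀) : IsRegular S₀ l ↔ IsRegular S (l.map ε) :=
  AddEquiv.isRegular_congr (e := ε.toAddEquiv) <| List.forall₂_map_right_iff.mpr <|
    List.forall₂_same.mpr fun r _ x => by
      change ε (r • x) = ε r • ε x
      rw [smul_eq_mul, smul_eq_mul, map_mul]

/-- repackaging a presentation over `A[T_1..T_n][y]` as one over `A[T_0..T_n]` -/
theorem exists_ofFn_presentation (A : Type u) [CommRing A] (n : ℕ) (B' : Type u) [CommRing B']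
    [Algebra A B'] (l₀ : List (MvPolynomial (Fin n) A)[X])
    (hreg : IsRegular (MvPolynomial (Fin n) A)[X] l₀)
    (e : B' ≃ₐ[A] (MvPolynomial (Fin n) A)[X] ⧸ Ideal.ofList l₀) :
    ∃ (d : ℕ) (P : Fin d → MvPolynomial (Fin (n + 1)) A),
      IsRegular (MvPolynomial (Fin (n + 1)) A) (List.ofFn P) ∧
      Nonempty (B' ≃ₐ[A] MvPolynomial (Fin (n + 1)) A ⧸ Ideal.ofList (List.ofFn P)) := by
  let ε : (MvPolynomial (Fin n) A)[X] ≃ₐ[A] MvPolynomial (Fin (n + 1)) A :=
    (MvPolynomial.finSuccEquiv A n).symm
  let l : List (MvPolynomial (Fin (n + 1)) A) := l₀.map ε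
  refine ⟨l.length, l.get, ?_, ?_⟩
  · rw [List.ofFn_get]
    exact (isRegular_map_ringEquiv ε.toRingEquiv l₀).mp hreg
  · rw [List.ofFn_get]
    have hIJ : Ideal.ofList l = (Ideal.ofList l₀).map (ε : _ →+* _) := by
      rw [Ideal.map_ofList]
      rfl
    exact ⟨e.trans (Ideal.quotientEquivAlg _ _ ε hIJ)⟩

end E

end Groth.Agent.Lib.Helper16.SyntStr
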