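import Mathlib
import Groth.Prelude.Def_RegImm
import Groth.Agent.Lib.Helper16.KzLoc4
import Groth.Agent.Lib.Helper16.SyntStr3

/-!
# Square presentations of basic opens: LocEq under ring maps, B_{f h} ≃ R[y]/(hy-1, fs)
-/

set_option autoImplicit false
set_option linter.unusedSectionVars false
set_option linter.unusedVariables false
set_option linter.unusedSimpArgs false
universe u
open IsLocalRing TensorProduct Pointwise RingTheory.Sequence Polynomial

namespace Groth.Agent.Lib.Helper16.QfLci

open Groth.Agent.Lib.Helper16.KzLoc Groth.Agent.Lib.Helper16.SyntStr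

theorem exists_mul_mem_map {R R' : Type u} [CommRing R] [CommRing R'] (φ : R →+* R')
    {S : Submonoid R} {J₁ J₂ : Ideal R} (h : ∀ x ∈ J₁, ∃ s ∈ S, s * x ∈ J₂) :
    ∀ y ∈ J₁.map φ, ∃ t ∈ S.map φ, t * y ∈ J₂.map φ := by
  intro y hy
  refine Submodule.span_induction (p := fun y _ => ∃ t ∈ S.map φ, t * y ∈ J₂.map φ)
    ?_ ?_ ?_ ?_ hy
  · rintro _ ⟨x, hx, rfl⟩
    obtain ⟨s, hs, hsx⟩ := h x hx
    refine ⟨φ s, ⟨s, hs, rfl⟩, ?_⟩
    rw [← map_mul]
    exact Ideal.mem_map_of_mem φ hsx
  · exact ⟨1, one_mem _, by simp⟩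
  · rintro x y _ _ ⟨s, hs, hsx⟩ ⟨t, ht, hty⟩
    refine ⟨s * t, mul_mem hs ht, ?_⟩
    have : s * t * (x + y) = t * (s * x) + s * (t * y) := by ring
    rw [this]
    exact Ideal.add_mem _ (Ideal.mul_mem_left _ _ hsx) (Ideal.mul_mem_left _ _ hty)
  · rintro a x _ ⟨s, hs, hsx⟩
    refine ⟨s, hs, ?_⟩
    have : s * (a • x) = a * (s * x) := by rw [smul_eq_mul]; ring
    rw [this]
    exact Ideal.mul_mem_left _ _ hsx

theorem locEq_map {R R' : Type u} [CommRing R] [CommRing R'] (φ : R →+* R')
    {S : Submonoid R} {J₁ J₂ : Ideal R} (h : LocEq S J₁ J₂) :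
    LocEq (S.map φ) (J₁.map φ) (J₂.map φ) :=
  ⟨exists_mul_mem_map φ h.1, exists_mul_mem_map φ h.2⟩

section D

variable {A R B : Type u} [CommRing A] [CommRing R] [CommRing B] [Algebra A R] [Algebra A B]

/-- `B_{f h} ≃ R[y]/(hy - 1, fs)` when `fs` generates `ker f` after inverting `h`. -/
theorem nonempty_algEquiv_away (f : R →ₐ[A] B) (hf : Function.Surjective f) (h : R)
    (fs : List R)
    (hI : Ideal.ofList (fs.map (algebraMap R (Localization.Away h))) =
      (RingHom.ker f.toRingHom).map (algebraMap R (Localization.Away h))) :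
    Nonempty (Localization.Away (f h) ≃ₐ[A]
        R[X] ⧸ Ideal.ofList ((C h * X - 1) :: fs.map C)) := by
  have hmap : (fs.map C).map (chi h).toRingHom = fs.map (algebraMap R (Localization.Away h)) := by
    rw [List.map_map]
    refine List.map_congr_left fun r _ => ?_
    exact chi_C h r
  let φ : Localization.Away h →ₐ[A] Localization.Away (f h) := Localization.awayMapₐ f h
  have hφs : Function.Surjective φ := by
    change Function.Surjective (Localization.awayMap f.toRingHom h)
    rw [Localization.awayMap_surjective_iff]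
    intro a
    obtain ⟨b, rfl⟩ := hf a
    exact ⟨b, 0, by simp⟩
  have hφk : RingHom.ker φ.toRingHom =
      (RingHom.ker f.toRingHom).map (algebraMap R (Localization.Away h)) :=
    IsLocalization.ker_map (Localization.Away (f h)) f.toRingHom (Submonoid.map_powers _ h)
  let Ψ : R[X] →ₐ[A] Localization.Away (f h) := φ.comp ((chi h).restrictScalars A)
  have hΨs : Function.Surjective Ψ := hφs.comp (chi_surjective h)
  have hΨk : RingHom.ker Ψ.toRingHom = Ideal.ofList ((C h * X - 1) :: fs.map C) := by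
    have h1 : RingHom.ker Ψ.toRingHom = (RingHom.ker φ.toRingHom).comap (chi h).toRingHom := by
      ext x
      simp only [RingHom.mem_ker, Ideal.mem_comap]
      rfl
    rw [h1, hφk, ← hI, ← hmap, ← Ideal.map_ofList,
      Ideal.comap_map_of_surjective (chi h).toRingHom (chi_surjective h),
      ← RingHom.ker_eq_comap_bot, ker_chi, Ideal.ofList_cons, sup_comm]
  exact ⟨(Ideal.quotientKerAlgEquivOfSurjective hΨs).symm.trans
    (Ideal.quotientEquivAlgOfEq A hΨk)⟩

end D

/-- repackaging a presentation over `A[T_1..T_n][y]` by `n + 1` equations as a square presentation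
over `A[T_0..T_n]` -/
theorem exists_range_presentation (A : Type u) [CommRing A] (n : ℕ) (B' : Type u) [CommRing B']
    [Algebra A B'] (l₀ : List (MvPolynomial (Fin n) A)[X]) (hlen : l₀.length = n + 1)
    (e : B' ≃ₐ[A] (MvPolynomial (Fin n) A)[X] ⧸ Ideal.ofList l₀) :
    ∃ F : Fin (n + 1) → MvPolynomial (Fin (n + 1)) A,
      Nonempty (B' ≃ₐ[A] MvPolynomial (Fin (n + 1)) A ⧸ Ideal.span (Set.range F)) := by
  let ε : (MvPolynomial (Fin n) A)[X] ≃ₐ[A] MvPolynomial (Fin (n + 1)) A :=
    (MvPolynomial.finSuccEquiv A n).symm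
  let l : List (MvPolynomial (Fin (n + 1)) A) := l₀.map ε
  have hl : l.length = n + 1 := by rw [List.length_map, hlen]
  refine ⟨fun i => l.get (i.cast hl.symm), ?_⟩
  have hrange : Set.range (fun i : Fin (n + 1) => l.get (i.cast hl.symm)) = {x | x ∈ l} := by
    ext x
    constructor
    · rintro ⟨i, rfl⟩
      exact List.get_mem l _
    · intro hx
      obtain ⟨j, rfl⟩ := List.mem_iff_get.mp hx
      exact ⟨j.cast hl, by simp⟩
  rw [hrange]
  have hIJ : Ideal.ofList l = (Ideal.ofList l₀).map (ε : _ →+* _) := by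
    rw [Ideal.map_ofList]
    rfl
  exact ⟨e.trans (Ideal.quotientEquivAlg _ _ ε hIJ)⟩

end Groth.Agent.Lib.Helper16.QfLci
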