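import Groth.Prelude.Def_CAlg
import Mathlib.RingTheory.Depth.Rees
import Mathlib.Algebra.Category.ModuleCat.Ext.HasExt

/-!
# Depth library (helper16)

Bridges `LocCoh.idealDepth` (supremum of lengths of weakly regular sequences inside `I`) with
Mathlib's Rees theorem (`ModuleCat.exists_isRegular_tfae`).

Main results (namespace `Groth.Agent.Lib.Helper16.Depth`):
* `HasRegSeq I M n` : there is a weakly `M`-regular sequence of length `n` with all terms in `I`.
* `HasRegSeq.mono`, `HasRegSeq.zero`, `HasRegSeq.succ_of_quot`.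
* `le_idealDepth_iff` : `(n : ℕ∞) ≤ idealDepth I M ↔ I • ⊤ = ⊤ ∨ HasRegSeq I M n`.
* `idealDepth_eq_top_of_smul_top_eq_top`.
* `hasRegSeq_iff_ext` (Rees) : for `R` Noetherian, `M` finite, `IM ≠ M`:
  `HasRegSeq I M n ↔ ∀ i < n, Subsingleton (Ext (R ⧸ I) M i)`.
* `le_idealDepth_iff_ext`, `idealDepth_eq_coe_iff_ext`.
-/

set_option autoImplicit false
universe u v

open CategoryTheory RingTheory.Sequence

namespace Groth.Agent.Lib.Helper16.Depth

section basic

variable {R : Type u} [CommRing R] (I : Ideal R) (M : Type v) [AddCommGroup M] [Module R M]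

/-- There is a weakly `M`-regular sequence of length `n` all of whose terms lie in `I`. -/
def HasRegSeq (n : ℕ) : Prop :=
  ∃ rs : List R, rs.length = n ∧ IsWeaklyRegular M rs ∧ ∀ r ∈ rs, r ∈ I

variable {I M}

theorem HasRegSeq.zero : HasRegSeq I M 0 := ⟨[], rfl, IsWeaklyRegular.nil R M, by simp⟩

theorem HasRegSeq.mono {m n : ℕ} (h : m ≤ n) (hn : HasRegSeq I M n) : HasRegSeq I M m := by
  obtain ⟨rs, hlen, hreg, hmem⟩ := hn
  refine ⟨rs.take m, by simp [hlen, h], ?_, fun r hr => hmem r (List.mem_of_mem_take hr)⟩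
  have := (List.take_append_drop m rs).symm ▸ hreg
  exact ((isWeaklyRegular_append_iff M _ _).mp this).1

theorem HasRegSeq.cons {x : R} (hxI : x ∈ I) (hx : IsSMulRegular M x) {n : ℕ}
    (h : HasRegSeq I (QuotSMulTop x M) n) : HasRegSeq I M (n + 1) := by
  obtain ⟨rs, hlen, hreg, hmem⟩ := h
  refine ⟨x :: rs, by simp [hlen], (isWeaklyRegular_cons_iff M x rs).mpr ⟨hx, hreg⟩, ?_⟩
  intro r hr
  rcases List.mem_cons.mp hr with rfl | hr
  · exact hxI
  · exact hmem r hr

variable (I M)

theorem idealDepth_eq_top_of_smul_top_eq_top (h : I • (⊤ : Submodule R M) = ⊤) :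
    LocCoh.idealDepth I M = ⊤ := by
  unfold LocCoh.idealDepth
  rw [if_pos h]

theorem idealDepth_of_smul_top_ne_top (h : I • (⊤ : Submodule R M) ≠ ⊤) :
    LocCoh.idealDepth I M = ⨆ (rs : List R)
      (_ : RingTheory.Sequence.IsWeaklyRegular M rs ∧ ∀ r ∈ rs, r ∈ I), (rs.length : ℕ∞) := by
  unfold LocCoh.idealDepth
  rw [if_neg h]

theorem le_idealDepth_iff (n : ℕ) :
    (n : ℕ∞) ≤ LocCoh.idealDepth I M ↔ I • (⊤ : Submodule R M) = ⊤ ∨ HasRegSeq I M n := by
  by_cases h : I • (⊤ : Submodule R M) = ⊤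
  · simp [idealDepth_eq_top_of_smul_top_eq_top I M h, h]
  · rw [idealDepth_of_smul_top_ne_top I M h]
    simp only [h, false_or]
    constructor
    · intro hle
      by_contra hcon
      -- every admissible sequence has length < n
      have hlt : ∀ rs : List R, (IsWeaklyRegular M rs ∧ ∀ r ∈ rs, r ∈ I) → rs.length < n := by
        intro rs hrs
        by_contra hge
        exact hcon (HasRegSeq.mono (not_lt.mp hge) ⟨rs, rfl, hrs.1, hrs.2⟩)
      rcases n with _ | n
      · exact hcon HasRegSeq.zero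
      · have : (⨆ (rs : List R) (_ : IsWeaklyRegular M rs ∧ ∀ r ∈ rs, r ∈ I),
            (rs.length : ℕ∞)) ≤ (n : ℕ∞) := by
          refine iSup₂_le fun rs hrs => ?_
          exact_mod_cast Nat.lt_succ_iff.mp (hlt rs hrs)
        have h2 := hle.trans this
        have : (n + 1 : ℕ) ≤ n := by exact_mod_cast h2
        omega
    · rintro ⟨rs, rfl, hreg, hmem⟩
      exact le_iSup₂_of_le rs ⟨hreg, hmem⟩ le_rfl

end basic

section rees

variable {R : Type u} [CommRing R] [IsNoetherianRing R] (I : Ideal R)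
  (M : Type u) [AddCommGroup M] [Module R M] [Module.Finite R M]

/-- **Rees**: existence of regular sequences of length `n` inside `I` is detected by the vanishing
of `Ext^i(R/I, M)` for `i < n`. -/
theorem hasRegSeq_iff_ext (hIM : I • (⊤ : Submodule R M) ≠ ⊤) (n : ℕ) :
    HasRegSeq I M n ↔
      ∀ i : ℕ, i < n → Subsingleton (Abelian.Ext (ModuleCat.of R (R ⧸ I)) (ModuleCat.of R M) i) := by
  have hlt : I • (⊤ : Submodule R (ModuleCat.of R M)) < ⊤ := lt_top_iff_ne_top.mpr hIM
  have ntrQ : Nontrivial (R ⧸ I) := by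
    apply Submodule.Quotient.nontrivial_iff.mpr
    intro eq
    apply hIM
    rw [eq, Submodule.top_smul]
  have suppQ : Module.support R (R ⧸ I) = PrimeSpectrum.zeroLocus I := by
    rw [Module.support_eq_zeroLocus, Ideal.annihilator_quotient]
  constructor
  · rintro ⟨rs, hlen, hreg, hmem⟩
    have hle : Ideal.ofList rs ≤ I := by
      rw [Ideal.ofList, Ideal.span_le]
      intro r hr
      exact hmem r hr
    have hreg' : RingTheory.Sequence.IsRegular M rs := by
      refine ⟨hreg, ?_⟩
      intro htop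
      apply hIM
      exact eq_top_iff.mpr (htop.le.trans (Submodule.smul_mono_left hle))
    intro i hi
    exact ModuleCat.subsingleton_ext_of_exists_isRegular I (ModuleCat.of R (R ⧸ I)) suppQ.subset
      (ModuleCat.of R M) hlt rs hmem hreg' i (hlen ▸ hi)
  · intro hext
    obtain ⟨rs, hlen, hmem, hreg⟩ :=
      ModuleCat.exists_isRegular_of_exists_subsingleton_ext I n (ModuleCat.of R M) hlt
        (ModuleCat.of R (R ⧸ I)) suppQ hext
    exact ⟨rs, hlen, hreg.toIsWeaklyRegular, hmem⟩

theorem le_idealDepth_iff_ext (hIM : I • (⊤ : Submodule R M) ≠ ⊤) (n : ℕ) :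
    (n : ℕ∞) ≤ LocCoh.idealDepth I M ↔
      ∀ i : ℕ, i < n → Subsingleton (Abelian.Ext (ModuleCat.of R (R ⧸ I)) (ModuleCat.of R M) i) := by
  rw [le_idealDepth_iff, ← hasRegSeq_iff_ext I M hIM]
  simp [hIM]

theorem idealDepth_eq_coe_iff_ext (hIM : I • (⊤ : Submodule R M) ≠ ⊤) (n : ℕ) :
    LocCoh.idealDepth I M = n ↔
      ((∀ i : ℕ, i < n →
          Subsingleton (Abelian.Ext (ModuleCat.of R (R ⧸ I)) (ModuleCat.of R M) i)) ∧
        Nontrivial (Abelian.Ext (ModuleCat.of R (R ⧸ I)) (ModuleCat.of R M) n)) := by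
  constructor
  · intro h
    have h1 := (le_idealDepth_iff_ext I M hIM n).mp h.ge
    refine ⟨h1, ?_⟩
    by_contra hnt
    rw [not_nontrivial_iff_subsingleton] at hnt
    have h2 : ((n + 1 : ℕ) : ℕ∞) ≤ LocCoh.idealDepth I M := by
      rw [le_idealDepth_iff_ext I M hIM]
      intro i hi
      rcases Nat.lt_succ_iff_lt_or_eq.mp hi with hi | rfl
      · exact h1 i hi
      · exact hnt
    rw [h] at h2
    have : (n + 1 : ℕ) ≤ n := by exact_mod_cast h2
    omega
  · rintro ⟨h1, hnt⟩
    apply le_antisymm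
    · by_contra hgt
      rw [not_le] at hgt
      have h2 : ((n + 1 : ℕ) : ℕ∞) ≤ LocCoh.idealDepth I M := by
        have := Order.add_one_le_of_lt hgt
        exact_mod_cast this
      rw [le_idealDepth_iff_ext I M hIM] at h2
      have := h2 n (Nat.lt_succ_self n)
      exact not_subsingleton _ this
    · exact (le_idealDepth_iff_ext I M hIM n).mpr h1

end rees

end Groth.Agent.Lib.Helper16.Depth
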