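import Groth.Agent.Lib.Helper16.FinDimLe1
import Mathlib.RingTheory.Regular.Flat

/-!
# Tools for `f_a^b(M) ≤ λ_a^b(M)` (helper16), part 2
-/

set_option autoImplicit false
universe u
open CategoryTheory Opposite Limits IsLocalRing

namespace Groth.Agent.Lib.Helper16.LC

open Groth.Agent.Lib.Helper16.Depth Groth.Agent.Lib.Helper18.CM

section avoid

variable {R : Type u} [CommRing R] [IsNoetherianRing R]

/-- Prime avoidance for associated primes. -/
theorem exists_mem_isSMulRegular_of_forall_not_le (I : Ideal R) (M : Type u) [AddCommGroup M]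
    [Module R M] [Module.Finite R M] (h : ∀ Q ∈ associatedPrimes R M, ¬ I ≤ Q) :
    ∃ r ∈ I, IsSMulRegular M r := by
  classical
  have hfin := associatedPrimes.finite R M
  have hprime : ∀ i ∈ hfin.toFinset, i ≠ (⊥ : Ideal R) → i ≠ (⊥ : Ideal R) →
      (id i : Ideal R).IsPrime := by
    intro i hi _ _
    rw [Set.Finite.mem_toFinset] at hi
    exact hi.isPrime
  have hns : ¬ ((I : Set R) ⊆ ⋃ i ∈ (hfin.toFinset : Set (Ideal R)),
      ((id i : Ideal R) : Set R)) := by
    intro hsub
    obtain ⟨i, hi, hIi⟩ := (Ideal.subset_union_prime (f := id) ⊥ ⊥ hprime).mp hsub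
    rw [Set.Finite.mem_toFinset] at hi
    exact h i hi hIi
  obtain ⟨r, hrI, hr⟩ := Set.not_subset.mp hns
  refine ⟨r, hrI, ?_⟩
  by_contra hreg
  have hmem : r ∈ ({ r : R | IsSMulRegular M r }ᶜ : Set R) := hreg
  rw [← biUnion_associatedPrimes_eq_compl_regular R M] at hmem
  obtain ⟨Q, hQ, hrQ⟩ := Set.mem_iUnion₂.mp hmem
  apply hr
  exact Set.mem_biUnion (Finset.mem_coe.mpr (hfin.mem_toFinset.mpr hQ)) hrQ

end avoid

section regstep

variable {R : Type u} [CommRing R]

/-- `f_a^b(M) ≤ f_a^b(M/rM) + 1` for an `M`-regular element `r`. -/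
theorem finDimRel_le_quotSMulTop_add_one (a b : Ideal R) (M : Type u) [AddCommGroup M]
    [Module R M] (r : R) (hreg : IsSMulRegular M r) :
    LocCoh.finDimRel a b M ≤ LocCoh.finDimRel a b (QuotSMulTop r M) + 1 := by
  by_cases htop : LocCoh.finDimRel a b (QuotSMulTop r M) = ⊤
  · rw [htop, top_add]
    exact le_top
  obtain ⟨k, hk⟩ := ENat.ne_top_iff_exists.mp htop
  obtain ⟨i, hi, hb⟩ := (finDimRel_le_natCast_iff a b (QuotSMulTop r M) k).mp hk.symm.le
  obtain ⟨g, d, _, hex, _⟩ := exists_les_of_isSMulRegular a M r hreg i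
  rw [← hk]
  by_cases h1 : b ≤ (Module.annihilator R (LocCoh.H a i M)).radical
  · by_cases h2 : b ≤ (Module.annihilator R (LocCoh.H a (i + 1) M)).radical
    · exfalso
      exact hb (le_radical_annihilator_of_exact b g d (fun y hy => (hex y).mp hy) h1 h2)
    · refine (finDimRel_le_of_not_le a b M (i + 1) h2).trans ?_
      have : i + 1 ≤ k + 1 := by omega
      exact_mod_cast this
  · refine (finDimRel_le_of_not_le a b M i h1).trans ?_
    have : i ≤ k + 1 := by omega
    exact_mod_cast this

end regstep

section depthloc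

variable {R : Type u} [CommRing R] [IsNoetherianRing R] (P : Ideal R) [P.IsPrime]
  (M : Type u) [AddCommGroup M] [Module R M] [Module.Finite R M]

/-- `depth (M/rM)_P + 1 = depth M_P` for `r ∈ P` regular on `M`. -/
theorem depth_localization_quotSMulTop (r : R) (hrP : r ∈ P) (hreg : IsSMulRegular M r) :
    LocCoh.depth (Localization.AtPrime P) (LocalizedModule P.primeCompl (QuotSMulTop r M)) + 1 =
      LocCoh.depth (Localization.AtPrime P) (LocalizedModule P.primeCompl M) := by
  have hnoeth : IsNoetherianRing (Localization.AtPrime P) :=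
    IsLocalization.isNoetherianRing P.primeCompl _ inferInstance
  have hflat : Module.Flat R (Localization.AtPrime P) := IsLocalization.flat _ P.primeCompl
  have hf : IsBaseChange (Localization.AtPrime P) (LocalizedModule.mkLinearMap P.primeCompl M) :=
    IsLocalizedModule.isBaseChange P.primeCompl (Localization.AtPrime P) _
  let e := (QuotSMulTop.algebraMapTensorEquivTensorQuotSMulTop r M
      (Localization.AtPrime P)).symm ≪≫ₗ
    QuotSMulTop.congr ((algebraMap R (Localization.AtPrime P)) r) hf.equiv
  have hg : IsBaseChange (Localization.AtPrime P)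
      (e.toLinearMap.restrictScalars R ∘ₗ
        TensorProduct.mk R (Localization.AtPrime P) (QuotSMulTop r M) 1) :=
    IsBaseChange.of_equiv e (fun _ => by simp)
  have hloc : IsLocalizedModule P.primeCompl
      (e.toLinearMap.restrictScalars R ∘ₗ
        TensorProduct.mk R (Localization.AtPrime P) (QuotSMulTop r M) 1) :=
    (isLocalizedModule_iff_isBaseChange P.primeCompl (Localization.AtPrime P) _).mpr hg
  have h1 := depth_eq_of_isLocalizedModule P (QuotSMulTop r M) (Localization.AtPrime P)
    (QuotSMulTop ((algebraMap R (Localization.AtPrime P)) r) (LocalizedModule P.primeCompl M))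
    (e.toLinearMap.restrictScalars R ∘ₗ
        TensorProduct.mk R (Localization.AtPrime P) (QuotSMulTop r M) 1)
  rw [← h1]
  have hx : algebraMap R (Localization.AtPrime P) r ∈ maximalIdeal (Localization.AtPrime P) :=
    (IsLocalization.AtPrime.to_map_mem_maximal_iff (Localization.AtPrime P) P r).mpr hrP
  have hreg' : IsSMulRegular (LocalizedModule P.primeCompl M)
      (algebraMap R (Localization.AtPrime P) r) := hreg.of_flat_of_isBaseChange hf
  exact depth_quotSMulTop (LocalizedModule P.primeCompl M) hx hreg'

/-- `depth (M/Γ_c(M))_P = depth M_P` when `c ⊄ P`. -/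
theorem depth_localization_quotient_torsionSub (c : Ideal R) (hcP : ¬ c ≤ P) :
    LocCoh.depth (Localization.AtPrime P)
        (LocalizedModule P.primeCompl (M ⧸ DRing.torsionSub c M)) =
      LocCoh.depth (Localization.AtPrime P) (LocalizedModule P.primeCompl M) := by
  obtain ⟨k, hk⟩ := exists_pow_smul_eq_zero_of_fg c M (DRing.torsionSub c M)
    (IsNoetherian.noetherian _) le_rfl
  have hrad : c ≤ (Module.annihilator R (DRing.torsionSub c M)).radical := by
    intro x hx
    refine ⟨k, ?_⟩
    rw [Module.mem_annihilator]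
    intro t
    apply Subtype.ext
    exact hk _ (Ideal.pow_mem_pow hx k) t.1 t.2
  have hsub : Subsingleton (LocalizedModule P.primeCompl (DRing.torsionSub c M)) :=
    Groth.Agent.Lib.Helper16.DTL.subsingleton_localizedModule_of_le_radical_annihilator c _ P
      hcP hrad
  have hex := LocalizedModule.map_exact P.primeCompl (DRing.torsionSub c M).subtype
    (DRing.torsionSub c M).mkQ (LinearMap.exact_subtype_mkQ _)
  have hinj : Function.Injective
      (LocalizedModule.map P.primeCompl (DRing.torsionSub c M).mkQ) := by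
    rw [injective_iff_map_eq_zero]
    intro z hz
    obtain ⟨w, hw⟩ := (hex z).mp hz
    rw [← hw, hsub.elim w 0, map_zero]
  have hsurj : Function.Surjective
      (LocalizedModule.map P.primeCompl (DRing.torsionSub c M).mkQ) :=
    LocalizedModule.map_surjective _ _ (Submodule.mkQ_surjective _)
  exact (depth_congr (LinearEquiv.ofBijective _ ⟨hinj, hsurj⟩)).symm

end depthloc

end Groth.Agent.Lib.Helper16.LC
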