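import Mathlib
import Groth.Prelude.Def_CAlgX
import Groth.Agent.Lib.Helper11.QReg

/-!
# Elementary toolkit for H_1-regular sequences: trivial relations, GL-invariance
-/

set_option autoImplicit false
set_option linter.unusedSectionVars false
set_option linter.unusedVariables false
set_option linter.dupNamespace false
universe u

namespace Groth.Agent.Lib.Helper16.H1Loc

open Matrix

variable {R : Type u} [CommRing R] {c : ℕ}

/-- the module of trivial (Koszul) relations -/
def Kos (f : Fin c → R) : Submodule R (Fin c → R) :=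
  Submodule.span R {v : Fin c → R | ∃ i j : Fin c, v = Pi.single i (f j) - Pi.single j (f i)}

lemma isH1Regular_iff (f : Fin c → R) :
    CAlgX.IsH1Regular f ↔ ∀ a : Fin c → R, ∑ i, a i * f i = 0 → a ∈ Kos f := Iff.rfl

/-- `H_1`-regularity after inverting `S`, elementwise over `R` -/
def H1Loc (f : Fin c → R) (S : Submonoid R) : Prop :=
  ∀ a : Fin c → R, ∑ i, a i * f i = 0 → ∃ s ∈ S, s • a ∈ Kos f

lemma H1Loc.mono {f : Fin c → R} {S S' : Submonoid R} (h : S ≤ S') (hf : H1Loc f S) :
    H1Loc f S' := fun a ha => by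
  obtain ⟨s, hs, hsa⟩ := hf a ha
  exact ⟨s, h hs, hsa⟩

/-- the generators of the ideal kill relations modulo trivial ones -/
theorem smul_mem_kos (f : Fin c → R) (a : Fin c → R) (ha : ∑ i, a i * f i = 0) (j : Fin c) :
    f j • a ∈ Kos f := by
  classical
  have h : f j • a = ∑ i, a i • (Pi.single i (f j) - Pi.single j (f i) : Fin c → R) := by
    funext k
    rw [Finset.sum_apply]
    simp only [Pi.smul_apply, smul_eq_mul, Pi.sub_apply, mul_sub, Finset.sum_sub_distrib]
    have h1 : ∑ i, a i * (Pi.single i (f j) : Fin c → R) k = a k * f j := by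
      rw [Finset.sum_eq_single k]
      · rw [Pi.single_eq_same]
      · intro i _ hik
        rw [Pi.single_eq_of_ne (Ne.symm hik), mul_zero]
      · intro hk; exact absurd (Finset.mem_univ k) hk
    have h2 : ∑ i, a i * (Pi.single j (f i) : Fin c → R) k = 0 := by
      by_cases hk : k = j
      · subst hk
        simp only [Pi.single_eq_same]
        exact ha
      · simp only [Pi.single_eq_of_ne hk, mul_zero, Finset.sum_const_zero]
    rw [h1, h2, sub_zero, mul_comm]
  rw [h]
  refine Submodule.sum_mem _ fun i _ => Submodule.smul_mem _ _ (Submodule.subset_span ⟨i, j, rfl⟩)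

theorem smul_mem_kos_of_mem_span (f : Fin c → R) (a : Fin c → R) (ha : ∑ i, a i * f i = 0)
    (s : R) (hs : s ∈ Ideal.span (Set.range f)) : s • a ∈ Kos f := by
  induction hs using Submodule.span_induction with
  | mem x hx =>
    obtain ⟨j, rfl⟩ := hx
    exact smul_mem_kos f a ha j
  | zero => rw [zero_smul]; exact zero_mem _
  | add x y _ _ hx hy => rw [add_smul]; exact add_mem hx hy
  | smul r x _ hx => rw [smul_eq_mul, mul_smul]; exact Submodule.smul_mem _ _ hx

/-- a sequence generating the unit ideal is `H_1`-regular -/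
theorem isH1Regular_of_span_eq_top (f : Fin c → R) (h : Ideal.span (Set.range f) = ⊤) :
    CAlgX.IsH1Regular f := by
  intro a ha
  have := smul_mem_kos_of_mem_span f a ha 1 (by rw [h]; trivial)
  rwa [one_smul] at this

/-- matrix form of membership in the trivial relations -/
theorem mem_kos_of_matrix (f : Fin c → R) (a : Fin c → R) (b : Fin c → Fin c → R)
    (hb : ∀ i, a i = ∑ j, (b i j - b j i) * f j) : a ∈ Kos f := by
  classical
  have h : a = ∑ i, ∑ j, b i j • (Pi.single i (f j) - Pi.single j (f i) : Fin c → R) := by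
    funext k
    rw [Finset.sum_apply]
    simp only [Finset.sum_apply, Pi.smul_apply, smul_eq_mul, Pi.sub_apply, mul_sub,
      Finset.sum_sub_distrib]
    have h1 : ∑ i, ∑ j, b i j * (Pi.single i (f j) : Fin c → R) k = ∑ j, b k j * f j := by
      rw [Finset.sum_eq_single k]
      · simp only [Pi.single_eq_same]
      · intro i _ hik
        refine Finset.sum_eq_zero fun j _ => ?_
        rw [Pi.single_eq_of_ne (Ne.symm hik), mul_zero]
      · intro hk; exact absurd (Finset.mem_univ k) hk
    have h2 : ∑ i, ∑ j, b i j * (Pi.single j (f i) : Fin c → R) k = ∑ i, b i k * f i := by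
      refine Finset.sum_congr rfl fun i _ => ?_
      rw [Finset.sum_eq_single k]
      · rw [Pi.single_eq_same]
      · intro j _ hjk
        rw [Pi.single_eq_of_ne (Ne.symm hjk), mul_zero]
      · intro hk; exact absurd (Finset.mem_univ k) hk
    rw [h1, h2, hb k, ← Finset.sum_sub_distrib]
    refine Finset.sum_congr rfl fun j _ => ?_
    ring
  rw [h]
  refine Submodule.sum_mem _ fun i _ => Submodule.sum_mem _ fun j _ =>
    Submodule.smul_mem _ _ (Submodule.subset_span ⟨i, j, rfl⟩)

/-- **GL-invariance** of `H_1`-regularity -/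
theorem isH1Regular_mulVec_unit (g : (Matrix (Fin c) (Fin c) R)ˣ) (w : Fin c → R)
    (hw : CAlgX.IsH1Regular w) : CAlgX.IsH1Regular (g.val.mulVec w) := by
  classical
  intro a ha
  generalize hv' : g.val.mulVec w = v at ha ⊢
  have hv : v = g.val.mulVec w := hv'.symm
  set N : Matrix (Fin c) (Fin c) R := (g⁻¹ : (Matrix (Fin c) (Fin c) R)ˣ).val with hN
  have hgN : g.val * N = 1 := by rw [hN, ← Units.val_mul, mul_inv_cancel, Units.val_one]
  have hNg : N * g.val = 1 := by rw [hN, ← Units.val_mul, inv_mul_cancel, Units.val_one]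
  have hwv : w = N.mulVec v := by
    rw [hv, Matrix.mulVec_mulVec, hNg, Matrix.one_mulVec]
  -- the transported relation
  have ha' : ∑ j, (Matrix.vecMul a g.val) j * w j = 0 := by
    have h1 : (Matrix.vecMul a g.val) ⬝ᵥ w = a ⬝ᵥ v := by
      rw [hv, Matrix.dotProduct_mulVec]
    have h2 : a ⬝ᵥ v = 0 := ha
    rw [← h2, ← h1]
    rfl
  obtain ⟨b, hb⟩ := Groth.Agent.Lib.Helper11.QReg.exists_matrix_of_relation w hw _ ha'
  set Bm : Matrix (Fin c) (Fin c) R := Matrix.of b with hBm
  have hC : Matrix.vecMul a g.val = (Bm - Bmᵀ).mulVec w := by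
    funext i
    rw [hb i]
    rfl
  have ha2 : a = (Nᵀ * (Bm - Bmᵀ) * N).mulVec v := by
    have h1 : a = Matrix.vecMul (Matrix.vecMul a g.val) N := by
      rw [Matrix.vecMul_vecMul, hgN, Matrix.vecMul_one]
    have h2 : (Nᵀ * (Bm - Bmᵀ) * N).mulVec v = Nᵀ.mulVec ((Bm - Bmᵀ).mulVec (N.mulVec v)) := by
      rw [Matrix.mulVec_mulVec, Matrix.mulVec_mulVec, Matrix.mul_assoc]
    rw [h2, ← hwv, ← hC, Matrix.mulVec_transpose]
    exact h1
  have hsk : Nᵀ * (Bm - Bmᵀ) * N = (Nᵀ * Bm * N) - (Nᵀ * Bm * N)ᵀ := by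
    rw [Matrix.transpose_mul, Matrix.transpose_mul, Matrix.transpose_transpose, Matrix.mul_sub,
      Matrix.sub_mul, Matrix.mul_assoc Nᵀ Bmᵀ N]
  refine mem_kos_of_matrix v a (fun i j => (Nᵀ * Bm * N) i j) fun i => ?_
  conv_lhs => rw [ha2, hsk]
  rfl

end Groth.Agent.Lib.Helper16.H1Loc
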