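import Mathlib
import Groth.Prelude.Def_CAlgX
import Groth.Agent.Lib.Helper16.H1Loc1

/-!
# H_1-regular sequences: localization, stalkwise criterion, faithfully flat descent of trivial relations
-/

set_option autoImplicit false
set_option linter.unusedSectionVars false
set_option linter.unusedVariables false
set_option linter.dupNamespace false
universe u

namespace Groth.Agent.Lib.Helper16.H1Loc

open TensorProduct

variable {R : Type u} [CommRing R] {c : ℕ}

section map

variable {T : Type u} [CommRing T] (φ : R →+* T)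

/-- trivial relations map to trivial relations -/
theorem map_mem_kos (f : Fin c → R) (v : Fin c → R) (hv : v ∈ Kos f) :
    (fun i => φ (v i)) ∈ Kos (fun i => φ (f i)) := by
  classical
  induction hv using Submodule.span_induction with
  | mem x hx =>
    obtain ⟨p, q, rfl⟩ := hx
    apply Submodule.subset_span
    refine ⟨p, q, ?_⟩
    funext i
    simp only [Pi.sub_apply, map_sub]
    congr 1
    · by_cases h : i = p
      · subst h; rw [Pi.single_eq_same, Pi.single_eq_same]
      · rw [Pi.single_eq_of_ne h, Pi.single_eq_of_ne h, map_zero]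
    · by_cases h : i = q
      · subst h; rw [Pi.single_eq_same, Pi.single_eq_same]
      · rw [Pi.single_eq_of_ne h, Pi.single_eq_of_ne h, map_zero]
  | zero =>
    have : (fun i => φ ((0 : Fin c → R) i)) = 0 := by
      funext i; simp
    rw [this]; exact zero_mem _
  | add x y _ _ hx hy =>
    have : (fun i => φ ((x + y) i)) = (fun i => φ (x i)) + (fun i => φ (y i)) := by
      funext i; simp
    rw [this]; exact add_mem hx hy
  | smul a x _ hx =>
    have : (fun i => φ ((a • x) i)) = φ a • (fun i => φ (x i)) := by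
      funext i; simp
    rw [this]; exact Submodule.smul_mem _ _ hx

end map

section loc

variable (S : Submonoid R) (T : Type u) [CommRing T] [Algebra R T] [IsLocalization S T]

/-- clearing denominators in trivial relations -/
theorem exists_smul_eq_of_mem_kos (f : Fin c → R) (v : Fin c → T)
    (hv : v ∈ Kos (fun i => algebraMap R T (f i))) :
    ∃ s ∈ S, ∃ t ∈ Kos f, (fun i => algebraMap R T (t i)) = algebraMap R T s • v := by
  classical
  induction hv using Submodule.span_induction with
  | mem x hx =>
    obtain ⟨p, q, rfl⟩ := hx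
    refine ⟨1, one_mem _, Pi.single p (f q) - Pi.single q (f p),
      Submodule.subset_span ⟨p, q, rfl⟩, ?_⟩
    rw [map_one, one_smul]
    funext i
    simp only [Pi.sub_apply, map_sub]
    congr 1
    · by_cases h : i = p
      · subst h; rw [Pi.single_eq_same, Pi.single_eq_same]
      · rw [Pi.single_eq_of_ne h, Pi.single_eq_of_ne h, map_zero]
    · by_cases h : i = q
      · subst h; rw [Pi.single_eq_same, Pi.single_eq_same]
      · rw [Pi.single_eq_of_ne h, Pi.single_eq_of_ne h, map_zero]
  | zero =>
    refine ⟨1, one_mem _, 0, zero_mem _, ?_⟩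
    funext i; simp
  | add x y _ _ hx hy =>
    obtain ⟨s1, hs1, t1, ht1, e1⟩ := hx
    obtain ⟨s2, hs2, t2, ht2, e2⟩ := hy
    refine ⟨s1 * s2, mul_mem hs1 hs2, s2 • t1 + s1 • t2,
      add_mem (Submodule.smul_mem _ _ ht1) (Submodule.smul_mem _ _ ht2), ?_⟩
    funext i
    have h1 := congr_fun e1 i
    have h2 := congr_fun e2 i
    simp only [Pi.smul_apply, smul_eq_mul] at h1 h2
    simp only [Pi.add_apply, Pi.smul_apply, smul_eq_mul, map_add, map_mul, h1, h2]
    ring
  | smul r x _ hx =>
    obtain ⟨s1, hs1, t1, ht1, e1⟩ := hx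
    obtain ⟨r0, s0, rfl⟩ := IsLocalization.exists_mk'_eq S r
    refine ⟨s0 * s1, mul_mem s0.2 hs1, r0 • t1, Submodule.smul_mem _ _ ht1, ?_⟩
    funext i
    have h1 := congr_fun e1 i
    simp only [Pi.smul_apply, smul_eq_mul] at h1
    simp only [Pi.smul_apply, smul_eq_mul, map_mul, h1]
    have h3 : IsLocalization.mk' T r0 s0 * algebraMap R T s0 = algebraMap R T r0 :=
      IsLocalization.mk'_spec T r0 s0
    rw [← h3]
    ring

/-- `H_1`-regularity in a localization gives the elementwise condition -/
theorem h1Loc_of_isH1Regular (f : Fin c → R)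
    (hf : CAlgX.IsH1Regular (fun i => algebraMap R T (f i))) : H1Loc f S := by
  classical
  intro a ha
  have ha' : ∑ i, algebraMap R T (a i) * algebraMap R T (f i) = 0 := by
    simp only [← map_mul, ← map_sum, ha, map_zero]
  obtain ⟨s, hs, t, ht, e⟩ := exists_smul_eq_of_mem_kos S T f _ (hf _ ha')
  have hcomp : ∀ k, ∃ u : S, (u : R) * t k = u * (s * a k) := by
    intro k
    have h1 := congr_fun e k
    simp only [Pi.smul_apply, smul_eq_mul, ← map_mul] at h1
    exact (IsLocalization.eq_iff_exists S T).mp h1
  choose u hu using hcomp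
  refine ⟨(∏ k, (u k : R)) * s, mul_mem (prod_mem fun k _ => (u k).2) hs, ?_⟩
  have h2 : ((∏ k, (u k : R)) * s) • a = (∏ k, (u k : R)) • t := by
    funext k
    simp only [Pi.smul_apply, smul_eq_mul]
    rw [← Finset.prod_erase_mul Finset.univ (fun k => (u k : R)) (Finset.mem_univ k)]
    simp only [mul_assoc]
    rw [hu k]
  rw [h2]
  exact Submodule.smul_mem _ _ ht

/-- the elementwise condition gives `H_1`-regularity in the localization -/
theorem isH1Regular_of_h1Loc (f : Fin c → R) (hf : H1Loc f S) :
    CAlgX.IsH1Regular (fun i => algebraMap R T (f i)) := by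
  classical
  intro α hα
  obtain ⟨b, hb⟩ := IsLocalization.exist_integer_multiples S (Finset.univ : Finset (Fin c)) α
  have hb' : ∀ i, ∃ a : R, algebraMap R T a = (b : R) • α i := fun i => hb i (Finset.mem_univ i)
  choose a ha using hb'
  have h1 : algebraMap R T (∑ i, a i * f i) = 0 := by
    rw [map_sum]
    simp only [map_mul, ha, Algebra.smul_def, mul_assoc]
    rw [← Finset.mul_sum, hα, mul_zero]
  obtain ⟨m, hm⟩ := (IsLocalization.map_eq_zero_iff S T _).mp h1
  have h2 : ∑ i, ((m : R) • a) i * f i = 0 := by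
    simp only [Pi.smul_apply, smul_eq_mul, mul_assoc]
    rw [← Finset.mul_sum]
    exact hm
  obtain ⟨s, hs, hsa⟩ := hf _ h2
  have h3 := map_mem_kos (algebraMap R T) f _ hsa
  have hunit : IsUnit (algebraMap R T (s * m * b)) :=
    IsLocalization.map_units T ⟨s * m * b, mul_mem (mul_mem hs m.2) b.2⟩
  have h4 : (fun i => algebraMap R T ((s • (m : R) • a) i)) = algebraMap R T (s * m * b) • α := by
    funext i
    show algebraMap R T (s * ((m : R) * a i)) = algebraMap R T (s * m * b) * α i
    rw [map_mul, map_mul, ha i, Algebra.smul_def, map_mul, map_mul]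
    ring
  rw [h4] at h3
  have := Submodule.smul_mem (Kos fun i => algebraMap R T (f i)) (↑hunit.unit⁻¹ : T) h3
  rwa [smul_smul, IsUnit.val_inv_mul, one_smul] at this

end loc

/-- stalkwise criterion for the elementwise condition -/
theorem h1Loc_powers_of_forall_prime (f : Fin c → R) (g : R)
    (h : ∀ (q : Ideal R) [q.IsPrime], g ∉ q → H1Loc f q.primeCompl) :
    H1Loc f (Submonoid.powers g) := by
  intro a ha
  by_contra hcon0
  have hcon : ∀ s ∈ Submonoid.powers g, s • a ∉ Kos f := fun s hs hsa => hcon0 ⟨s, hs, hsa⟩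
  let 𝔞 : Ideal R := (Kos f).comap (LinearMap.toSpanSingleton R (Fin c → R) a)
  have hmem : ∀ r, r ∈ 𝔞 ↔ r • a ∈ Kos f := fun r => by
    show LinearMap.toSpanSingleton R (Fin c → R) a r ∈ Kos f ↔ _
    rw [LinearMap.toSpanSingleton_apply]
  have hdisj : Disjoint (𝔞 : Set R) (Submonoid.powers g : Set R) := by
    rw [Set.disjoint_left]
    intro r hr hrg
    exact hcon r hrg ((hmem r).mp hr)
  obtain ⟨p, hp, hle, hpd⟩ := Ideal.exists_le_prime_disjoint 𝔞 (Submonoid.powers g) hdisj
  have hgp : g ∉ p := fun hg =>
    Set.disjoint_left.mp hpd hg ⟨1, pow_one g⟩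
  obtain ⟨s, hs, hsa⟩ := @h p hp hgp a ha
  exact hs (hle ((hmem s).mpr hsa))

section ff

variable {A : Type u} [CommRing A] {B : Type u} [CommRing B] [Algebra A B]

variable (B) in
/-- the base-changed quotient map -/
noncomputable def psiKos (f : Fin c → A) : (Fin c → B) →ₗ[B] B ⊗[A] ((Fin c → A) ⧸ Kos f) :=
  ((Kos f).mkQ.baseChange B) ∘ₗ (TensorProduct.piScalarRight A B B (Fin c)).symm.toLinearMap

theorem psiKos_map (f : Fin c → A) (v : Fin c → A) :
    psiKos B f (fun i => algebraMap A B (v i)) = (1 : B) ⊗ₜ[A] (Kos f).mkQ v := by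
  have h1 : (TensorProduct.piScalarRight A B B (Fin c)) ((1 : B) ⊗ₜ[A] v) =
      fun i => algebraMap A B (v i) := by
    rw [TensorProduct.piScalarRight_apply, TensorProduct.piScalarRightHom_tmul]
    funext i
    rw [Algebra.smul_def, mul_one]
  show ((Kos f).mkQ.baseChange B) ((TensorProduct.piScalarRight A B B (Fin c)).symm _) = _
  rw [← h1, LinearEquiv.symm_apply_apply, LinearMap.baseChange_tmul]

theorem kos_le_ker_psiKos (f : Fin c → A) :
    Kos (fun i => algebraMap A B (f i)) ≤ LinearMap.ker (psiKos B f) := by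
  classical
  show Submodule.span B _ ≤ _
  rw [Submodule.span_le]
  rintro _ ⟨p, q, rfl⟩
  rw [SetLike.mem_coe, LinearMap.mem_ker]
  have h2 : (Pi.single p (algebraMap A B (f q)) - Pi.single q (algebraMap A B (f p)) :
      Fin c → B) = fun i => algebraMap A B ((Pi.single p (f q) - Pi.single q (f p) :
        Fin c → A) i) := by
    funext i
    simp only [Pi.sub_apply, map_sub]
    congr 1
    · by_cases h : i = p
      · subst h; rw [Pi.single_eq_same, Pi.single_eq_same]
      · rw [Pi.single_eq_of_ne h, Pi.single_eq_of_ne h, map_zero]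
    · by_cases h : i = q
      · subst h; rw [Pi.single_eq_same, Pi.single_eq_same]
      · rw [Pi.single_eq_of_ne h, Pi.single_eq_of_ne h, map_zero]
  rw [h2, psiKos_map]
  have h3 : (Kos f).mkQ (Pi.single p (f q) - Pi.single q (f p)) = 0 := by
    rw [Submodule.mkQ_apply, Submodule.Quotient.mk_eq_zero]
    exact Submodule.subset_span ⟨p, q, rfl⟩
  rw [h3, TensorProduct.tmul_zero]

/-- **faithfully flat descent** of membership in the trivial relations -/
theorem mem_kos_of_faithfullyFlat [Module.FaithfullyFlat A B] (f : Fin c → A) (a : Fin c → A)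
    (h : (fun i => algebraMap A B (a i)) ∈ Kos (fun i => algebraMap A B (f i))) : a ∈ Kos f := by
  have h4 : (1 : B) ⊗ₜ[A] (Kos f).mkQ a = 0 := by
    rw [← psiKos_map]
    exact kos_le_ker_psiKos f h
  have hinj := Module.FaithfullyFlat.tensorProduct_mk_injective (A := A) (B := B)
    ((Fin c → A) ⧸ Kos f)
  have h5 : (Kos f).mkQ a = 0 := by
    apply hinj
    rw [map_zero]
    exact h4
  rwa [Submodule.mkQ_apply, Submodule.Quotient.mk_eq_zero] at h5

end ff

end Groth.Agent.Lib.Helper16.H1Loc
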