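import Mathlib
import Groth.Prelude.Def_CAlgX
import Groth.Agent.Lib.Helper16.H1Loc2

/-!
# Change of minimal generators over a local ring; flat maps between localizations
-/

set_option autoImplicit false
set_option linter.unusedSectionVars false
set_option linter.unusedVariables false
set_option linter.dupNamespace false
universe u

namespace Groth.Agent.Lib.Helper16.H1Loc

variable {S : Type u} [CommRing S]

/-- over a local ring, two generating families of the same length of a proper ideal differ by an
invertible matrix, as soon as the classes of one of them form a basis of the cotangent module -/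
theorem exists_unit_mulVec_eq' [IsLocalRing S] (J : Ideal S) (hJ : J ≠ ⊤) {r : ℕ} (w v : Fin r → J)
    (hli : LinearIndependent (S ⧸ J) (fun i => J.toCotangent (w i)))
    (hsp : Submodule.span (S ⧸ J) (Set.range fun i => J.toCotangent (w i)) = ⊤)
    (hwJ : Ideal.span (Set.range fun i => (w i : S)) = J)
    (hvJ : Ideal.span (Set.range fun i => (v i : S)) = J) :
    ∃ g : (Matrix (Fin r) (Fin r) S)ˣ, g.val.mulVec (fun i => (w i : S)) = fun i => (v i : S) := by
  classical
  let b : Module.Basis (Fin r) (S ⧸ J) J.Cotangent := Module.Basis.mk hli (by rw [hsp])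
  have hb : ∀ i, b i = J.toCotangent (w i) := fun i => Module.Basis.mk_apply hli _ i
  have : Nontrivial (S ⧸ J) := Ideal.Quotient.nontrivial_iff.mpr hJ
  -- the matrix
  have hex : ∀ i, ∃ c : Fin r → S, ∑ j, c j * (w j : S) = (v i : S) := fun i =>
    (Ideal.mem_span_range_iff_exists_fun).mp (by rw [hwJ]; exact (v i).2)
  choose M hM using hex
  have hMv : (Matrix.of M).mulVec (fun i => (w i : S)) = fun i => (v i : S) := by
    funext i
    rw [Matrix.mulVec, dotProduct, ← hM i]
    rfl
  -- classes
  have hcls : ∀ i, J.toCotangent (v i) = ∑ j, Ideal.Quotient.mk J (M i j) • b j := by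
    intro i
    have : v i = ∑ j, M i j • w j := by
      apply Subtype.ext
      rw [AddSubmonoidClass.coe_finsetSum]
      exact (hM i).symm
    rw [this, map_sum]
    refine Finset.sum_congr rfl fun j _ => ?_
    rw [map_smul, hb, ← algebraMap_smul (S ⧸ J) (M i j)]
    rfl
  -- the classes of `v` span
  have hspan : Submodule.span (S ⧸ J) (Set.range fun i => J.toCotangent (v i)) = ⊤ := by
    rw [eq_top_iff]
    rintro x -
    obtain ⟨y, rfl⟩ := J.toCotangent_surjective x
    obtain ⟨y, hy⟩ := y
    have hy' := hy
    rw [← hvJ] at hy'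
    obtain ⟨c, hc⟩ := (Ideal.mem_span_range_iff_exists_fun).mp hy'
    have : (⟨y, hy⟩ : J) = ∑ i, c i • v i := by
      apply Subtype.ext
      rw [AddSubmonoidClass.coe_finsetSum]
      exact hc.symm
    rw [this, map_sum]
    refine Submodule.sum_mem _ fun i _ => ?_
    rw [map_smul, ← algebraMap_smul (S ⧸ J) (c i)]
    exact Submodule.smul_mem _ _ (Submodule.subset_span ⟨i, rfl⟩)
  -- left inverse of the reduced matrix
  have hN : ∀ k, ∃ n : Fin r → S ⧸ J, ∑ i, n i • J.toCotangent (v i) = b k := by
    intro k
    have hk : b k ∈ Submodule.span (S ⧸ J) (Set.range fun i => J.toCotangent (v i)) := by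
      rw [hspan]; trivial
    obtain ⟨n, hn⟩ := (Submodule.mem_span_range_iff_exists_fun _).mp hk
    exact ⟨n, hn⟩
  choose N hN using hN
  set Mbar : Matrix (Fin r) (Fin r) (S ⧸ J) := (Matrix.of M).map (Ideal.Quotient.mk J) with hMbar
  have hNM : Matrix.of N * Mbar = 1 := by
    ext k j
    have h1 : b.repr (b k) j = (1 : Matrix (Fin r) (Fin r) (S ⧸ J)) k j := by
      rw [b.repr_self, Matrix.one_apply, Finsupp.single_apply]
    rw [← h1, ← hN k, map_sum, Finsupp.coe_finsetSum, Finset.sum_apply, Matrix.mul_apply]
    refine Finset.sum_congr rfl fun i _ => ?_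
    rw [map_smul, hcls i, map_sum, Finsupp.smul_apply, Finsupp.coe_finsetSum, Finset.sum_apply,
      Finset.sum_eq_single j]
    · rw [map_smul, b.repr_self, Finsupp.smul_apply, Finsupp.single_eq_same, smul_eq_mul,
        smul_eq_mul, mul_one]
      rfl
    · intro j' _ hj'
      rw [map_smul, b.repr_self, Finsupp.smul_apply, Finsupp.single_eq_of_ne hj'.symm, smul_zero]
    · intro h; exact absurd (Finset.mem_univ j) h
  have hdetbar : IsUnit Mbar.det := Matrix.isUnit_det_of_left_inverse hNM
  have hdet : IsUnit (Matrix.of M).det := by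
    have h1 : Mbar.det = Ideal.Quotient.mk J (Matrix.of M).det := by
      rw [hMbar, ← RingHom.mapMatrix_apply, ← RingHom.map_det]
    rw [h1] at hdetbar
    obtain ⟨x, hx⟩ := hdetbar.exists_right_inv
    obtain ⟨x, rfl⟩ := Ideal.Quotient.mk_surjective x
    rw [← map_mul, ← map_one (Ideal.Quotient.mk J), Ideal.Quotient.eq] at hx
    have hJm : J ≤ IsLocalRing.maximalIdeal S := IsLocalRing.le_maximalIdeal hJ
    have h2 : IsUnit ((Matrix.of M).det * x) := by
      have h3 : (Matrix.of M).det * x - 1 ∈ IsLocalRing.maximalIdeal S := hJm hx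
      have h4 : ¬ IsUnit ((Matrix.of M).det * x - 1) := (IsLocalRing.mem_maximalIdeal _).mp h3
      have h5 := IsLocalRing.isUnit_or_isUnit_of_isUnit_add (a := (Matrix.of M).det * x)
        (b := 1 - (Matrix.of M).det * x) (by simp)
      rcases h5 with h5 | h5
      · exact h5
      · exfalso
        apply h4
        have : (Matrix.of M).det * x - 1 = -(1 - (Matrix.of M).det * x) := by ring
        rw [this]
        exact h5.neg
    exact isUnit_of_mul_isUnit_left h2
  exact ⟨(Matrix.isUnit_iff_isUnit_det _).mpr hdet |>.unit, hMv⟩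

/-- a localization away from `b` maps flatly to the localization at a prime not containing `b` -/
theorem exists_flat_away_atPrime {B : Type u} [CommRing B] (q : Ideal B) [q.IsPrime] (b : B)
    (hb : b ∉ q) :
    ∃ ψ : Localization.Away b →+* Localization.AtPrime q, ψ.Flat ∧
      ∀ x : B, ψ (algebraMap B (Localization.Away b) x) = algebraMap B (Localization.AtPrime q) x := by
  have hunit : IsUnit (algebraMap B (Localization.AtPrime q) b) :=
    IsLocalization.map_units (Localization.AtPrime q) (⟨b, hb⟩ : q.primeCompl)
  let ψ : Localization.Away b →+* Localization.AtPrime q := IsLocalization.Away.lift b hunit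
  have hψ : ∀ x : B, ψ (algebraMap B (Localization.Away b) x) =
      algebraMap B (Localization.AtPrime q) x := fun x => IsLocalization.Away.lift_eq b hunit x
  refine ⟨ψ, ?_, hψ⟩
  let _ : Algebra (Localization.Away b) (Localization.AtPrime q) := ψ.toAlgebra
  have : IsScalarTower B (Localization.Away b) (Localization.AtPrime q) :=
    IsScalarTower.of_algebraMap_eq fun x => (hψ x).symm
  have hfl : Module.Flat B (Localization.AtPrime q) := IsLocalization.flat _ q.primeCompl
  show Module.Flat (Localization.Away b) (Localization.AtPrime q)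
  exact (Module.flat_iff_of_isLocalization (Localization.Away b) (Submonoid.powers b)
    (Localization.AtPrime q)).mpr hfl

end Groth.Agent.Lib.Helper16.H1Loc
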