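import Mathlib
import Groth.Prelude.Def_LCI2
import Groth.Agent.Lib.Helper16.KzInv5
import Groth.Agent.Lib.Helper16.KzLoc4

/-!
# Conormal module of a Koszul-regular ideal: localization, finite projectivity
-/

set_option autoImplicit false
set_option linter.unusedSectionVars false
universe u

namespace Groth.Agent.Lib.Helper16.CotLoc

section loc

variable {P : Type u} [CommRing P] (J : Ideal P) (S : Submonoid P) (P' : Type u) [CommRing P']
  [Algebra P P']

/-- the extended ideal -/
abbrev Je : Ideal P' := J.map (algebraMap P P')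

/-- the map on conormal modules induced by `P → P'` -/
noncomputable def cotMap : J.Cotangent →ₗ[P] (Je J P').Cotangent :=
  Ideal.mapCotangent J (Je J P') (Algebra.ofId P P') Ideal.le_comap_map

theorem cotMap_toCotangent (x : J) :
    cotMap J P' (J.toCotangent x) =
      (Je J P').toCotangent ⟨algebraMap P P' x, Ideal.mem_map_of_mem _ x.2⟩ := rfl

variable [IsLocalization S P']

include S in
theorem cotMap_isLocalizedModule : IsLocalizedModule S (cotMap J P') := by
  refine ⟨?_, ?_, ?_⟩
  · intro x
    rw [Module.End.isUnit_iff]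
    obtain ⟨u, hu⟩ := IsLocalization.map_units P' x
    constructor
    · intro a b hab
      have h1 : (algebraMap P P' x) • a = (algebraMap P P' x) • b := by
        simpa [algebraMap_smul] using hab
      rw [← hu] at h1
      have h2 := congrArg (fun z => (↑u⁻¹ : P') • z) h1
      simpa [smul_smul] using h2
    · intro b
      refine ⟨(↑u⁻¹ : P') • b, ?_⟩
      change (x : P) • ((↑u⁻¹ : P') • b) = b
      rw [← algebraMap_smul P' (x : P), ← hu, smul_smul, Units.mul_inv, one_smul]
  · intro y
    obtain ⟨⟨z, hz⟩, rfl⟩ := (Je J P').toCotangent_surjective y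
    obtain ⟨⟨j, s⟩, hjs⟩ := (IsLocalization.mem_map_algebraMap_iff S P').mp hz
    refine ⟨⟨J.toCotangent j, s⟩, ?_⟩
    rw [cotMap_toCotangent]
    change (s : P) • (Je J P').toCotangent ⟨z, hz⟩ = _
    rw [← LinearMap.map_smul_of_tower]
    congr 1
    apply Subtype.ext
    change (s : P) • z = algebraMap P P' j
    rw [Algebra.smul_def, mul_comm]
    exact hjs
  · intro x₁ x₂ h
    have key : ∀ x : J.Cotangent, cotMap J P' x = 0 → ∃ c : S, c • x = 0 := by
      intro x hx
      obtain ⟨j, rfl⟩ := J.toCotangent_surjective x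
      rw [cotMap_toCotangent, Ideal.toCotangent_eq_zero] at hx
      change algebraMap P P' j ∈ (Je J P') ^ 2 at hx
      rw [Je, ← Ideal.map_pow] at hx
      obtain ⟨⟨k, s⟩, hks⟩ := (IsLocalization.mem_map_algebraMap_iff S P').mp hx
      rw [← map_mul] at hks
      obtain ⟨t, ht⟩ := (IsLocalization.eq_iff_exists S P').mp hks
      refine ⟨t * s, ?_⟩
      rw [Submonoid.smul_def, ← map_smul, Ideal.toCotangent_eq_zero]
      change ((t * s : S) : P) • (j : P) ∈ J ^ 2
      have : ((t * s : S) : P) • (j : P) = (t : P) * (k : P) := by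
        rw [smul_eq_mul, Submonoid.coe_mul, mul_assoc, mul_comm (s : P) (j : P)]
        exact ht
      rw [this]
      exact Ideal.mul_mem_left _ _ k.2
    obtain ⟨c, hc⟩ := key (x₁ - x₂) (by rw [map_sub, h, sub_self])
    exact ⟨c, by rwa [smul_sub, sub_eq_zero] at hc⟩

end loc

section quot

variable {P : Type u} [CommRing P] (J : Ideal P) (S : Submonoid P) (P' : Type u) [CommRing P']
  [Algebra P P']

/-- `J'/J'²` as a module over `P/J` -/
@[reducible] noncomputable def modB : Module (P ⧸ J) (Je J P').Cotangent :=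
  Module.compHom _ (algebraMap (P ⧸ J) (P' ⧸ Je J P'))

attribute [local instance] modB

theorem modB_smul (b : P ⧸ J) (m : (Je J P').Cotangent) :
    b • m = algebraMap (P ⧸ J) (P' ⧸ Je J P') b • m := rfl

instance isScalarTower_modB : IsScalarTower (P ⧸ J) (P' ⧸ Je J P') (Je J P').Cotangent :=
  IsScalarTower.of_algebraMap_smul (fun _ _ => rfl)

theorem mk_smul_modB (p : P) (m : (Je J P').Cotangent) :
    (Ideal.Quotient.mk J p) • m = p • m := by
  rw [modB_smul, Ideal.Quotient.algebraMap_quotient_map_quotient,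
    ← Ideal.Quotient.algebraMap_eq, algebraMap_smul, algebraMap_smul]

instance isScalarTower_modB' : IsScalarTower P (P ⧸ J) (Je J P').Cotangent :=
  IsScalarTower.of_algebraMap_smul (fun p m => by
    rw [Ideal.Quotient.algebraMap_eq, mk_smul_modB])

/-- `cotMap` as a `P/J`-linear map -/
noncomputable def cotMapB : J.Cotangent →ₗ[P ⧸ J] (Je J P').Cotangent :=
  { toFun := cotMap J P'
    map_add' := map_add _
    map_smul' := by
      intro b x
      obtain ⟨p, rfl⟩ := Ideal.Quotient.mk_surjective b
      rw [RingHom.id_apply, mk_smul_modB, ← Ideal.Quotient.algebraMap_eq, algebraMap_smul,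
        map_smul] }

theorem cotMapB_restrictScalars : (cotMapB J P').restrictScalars P = cotMap J P' := rfl

variable [IsLocalization S P']

include S in
theorem cotMapB_isLocalizedModule :
    IsLocalizedModule (Algebra.algebraMapSubmonoid (P ⧸ J) S) (cotMapB J P') := by
  have : IsLocalizedModule S ((cotMapB J P').restrictScalars P) := by
    rw [cotMapB_restrictScalars]
    exact cotMap_isLocalizedModule J S P'
  exact IsLocalizedModule.of_restrictScalars S (cotMapB J P')

end quot

section free

open Groth.Agent.Lib.Helper16.KzLoc Groth.Agent.Lib.Helper16.KzInv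

variable {P : Type u} [CommRing P] (J : Ideal P) (S : Submonoid P) (P' : Type u) [CommRing P']
  [Algebra P P'] [IsLocalization S P']

include S in
/-- if `J` is, after inverting `S`, generated by a Koszul-regular sequence, then `J'/J'²` is finite
free over `P'/J'` -/
theorem free_cotangent_of_kregLoc (l₀ : List P) (hl₀ : KregLoc l₀ S)
    (hJ : LocEq S J (Ideal.ofList l₀)) :
    Module.Free (P' ⧸ Je J P') (Je J P').Cotangent ∧
      Module.Finite (P' ⧸ Je J P') (Je J P').Cotangent := by
  have hreg : LCI.IsKoszulRegularSeq P' (l₀.map (algebraMap P P')) :=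
    (kreg_iff_kregLoc l₀ S P').mpr hl₀
  have hmap : Je J P' = (Ideal.ofList l₀).map (algebraMap P P') :=
    (map_eq_map_iff S P' J (Ideal.ofList l₀)).mpr hJ
  let w : Fin (l₀.map (algebraMap P P')).length → P' := (l₀.map (algebraMap P P')).get
  have hofFn : List.ofFn w = l₀.map (algebraMap P P') := List.ofFn_get _
  have hwJ : Ideal.span (Set.range w) = Je J P' := by
    rw [hmap, ← span_mem_list_eq]
    congr 1
    ext x
    simp only [w, Set.mem_range, Set.mem_ofPred_eq]
    exact List.mem_iff_get.symm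
  have hw : ∀ i, w i ∈ Je J P' := fun i => hwJ ▸ Ideal.subset_span ⟨i, rfl⟩
  obtain ⟨b, -⟩ := exists_cotangent_basis_of_kreg (Je J P') w hw hwJ (by rw [hofFn]; exact hreg)
  exact ⟨Module.Free.of_basis b, Module.Finite.of_basis b⟩

end free

section main

open Groth.Agent.Lib.Helper16.KzLoc Groth.Agent.Lib.Helper16.KzInv

variable {P : Type u} [CommRing P] (J : Ideal P)

attribute [local instance] modB

/-- the images of elements `g` with `J` Koszul-regularly generated on `D(g)` span the unit ideal of
`P/J` -/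
theorem span_good_eq_top (h : LCI.IsKoszulRegularIdeal J) :
    Ideal.span {b : P ⧸ J | ∃ g : P, Ideal.Quotient.mk J g = b ∧ ∃ l₀ : List P,
      KregLoc l₀ (Submonoid.powers g) ∧ LocEq (Submonoid.powers g) J (Ideal.ofList l₀)} = ⊤ := by
  rw [isKoszulRegularIdeal_iff] at h
  by_contra hne
  obtain ⟨𝔪, h𝔪, hle⟩ := Ideal.exists_le_maximal _ hne
  have hp : (𝔪.comap (Ideal.Quotient.mk J)).IsPrime := Ideal.comap_isPrime _ _
  have hJle : J ≤ 𝔪.comap (Ideal.Quotient.mk J) := by
    intro x hx
    rw [Ideal.mem_comap, Ideal.Quotient.eq_zero_iff_mem.mpr hx]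
    exact zero_mem _
  obtain ⟨g, hg, l₀, hl₀, hJ⟩ := h ⟨_, hp⟩ hJle
  apply hg
  change Ideal.Quotient.mk J g ∈ 𝔪
  exact hle (Ideal.subset_span ⟨g, rfl, l₀, hl₀, hJ⟩)

theorem finitePresentation_cotangent (h : LCI.IsKoszulRegularIdeal J) :
    Module.FinitePresentation (P ⧸ J) J.Cotangent := by
  have hs := span_good_eq_top J h
  set s := {b : P ⧸ J | ∃ g : P, Ideal.Quotient.mk J g = b ∧ ∃ l₀ : List P,
      KregLoc l₀ (Submonoid.powers g) ∧ LocEq (Submonoid.powers g) J (Ideal.ofList l₀)} with hsdef
  -- choose lifts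
  have hch : ∀ b : s, ∃ g : P, Ideal.Quotient.mk J g = b.1 ∧ ∃ l₀ : List P,
      KregLoc l₀ (Submonoid.powers g) ∧ LocEq (Submonoid.powers g) J (Ideal.ofList l₀) :=
    fun b => b.2
  choose g hg l₀ hl₀ hJ using hch
  have hloc : ∀ b : s, IsLocalization.Away b.1
      (Localization.Away (g b) ⧸ Je J (Localization.Away (g b))) := by
    intro b
    have : IsLocalization (Algebra.algebraMapSubmonoid (P ⧸ J) (Submonoid.powers (g b)))
        (Localization.Away (g b) ⧸ Je J (Localization.Away (g b))) := inferInstance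
    rw [Algebra.algebraMapSubmonoid_powers] at this
    rw [← hg b]
    exact this
  have hlm : ∀ b : s, IsLocalizedModule (Submonoid.powers b.1)
      (cotMapB J (Localization.Away (g b))) := by
    intro b
    have := cotMapB_isLocalizedModule J (Submonoid.powers (g b)) (Localization.Away (g b))
    rw [Algebra.algebraMapSubmonoid_powers] at this
    rw [← hg b]
    exact this
  refine Module.FinitePresentation.of_localizationSpan' s hs
    (Rₚ := fun b => Localization.Away (g b) ⧸ Je J (Localization.Away (g b)))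
    (Mₚ := fun b => (Je J (Localization.Away (g b))).Cotangent)
    (fun b => cotMapB J (Localization.Away (g b))) ?_
  intro b
  obtain ⟨h1, h2⟩ := free_cotangent_of_kregLoc J (Submonoid.powers (g b))
    (Localization.Away (g b)) (l₀ b) (hl₀ b) (hJ b)
  exact Module.finitePresentation_of_projective _ _

theorem algebraMapSubmonoid_primeCompl (𝔪 : Ideal (P ⧸ J)) [𝔪.IsPrime] :
    Algebra.algebraMapSubmonoid (P ⧸ J) (𝔪.comap (Ideal.Quotient.mk J)).primeCompl =
      𝔪.primeCompl := by
  ext b
  constructor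
  · rintro ⟨p, hp, rfl⟩
    exact hp
  · intro hb
    obtain ⟨p, rfl⟩ := Ideal.Quotient.mk_surjective b
    exact ⟨p, hb, rfl⟩

theorem projective_cotangent (h : LCI.IsKoszulRegularIdeal J) :
    Module.Projective (P ⧸ J) J.Cotangent := by
  have hfp := finitePresentation_cotangent J h
  rw [isKoszulRegularIdeal_iff] at h
  have hloc : ∀ (𝔪 : Ideal (P ⧸ J)) [𝔪.IsMaximal], IsLocalization 𝔪.primeCompl
      (Localization.AtPrime (𝔪.comap (Ideal.Quotient.mk J)) ⧸
        Je J (Localization.AtPrime (𝔪.comap (Ideal.Quotient.mk J)))) := by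
    intro 𝔪 _
    have : IsLocalization (Algebra.algebraMapSubmonoid (P ⧸ J)
        (𝔪.comap (Ideal.Quotient.mk J)).primeCompl)
        (Localization.AtPrime (𝔪.comap (Ideal.Quotient.mk J)) ⧸
          Je J (Localization.AtPrime (𝔪.comap (Ideal.Quotient.mk J)))) := inferInstance
    rw [algebraMapSubmonoid_primeCompl] at this
    exact this
  have hlm : ∀ (𝔪 : Ideal (P ⧸ J)) [𝔪.IsMaximal], IsLocalizedModule 𝔪.primeCompl
      (cotMapB J (Localization.AtPrime (𝔪.comap (Ideal.Quotient.mk J)))) := by
    intro 𝔪 _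
    have := cotMapB_isLocalizedModule J (𝔪.comap (Ideal.Quotient.mk J)).primeCompl
      (Localization.AtPrime (𝔪.comap (Ideal.Quotient.mk J)))
    rw [algebraMapSubmonoid_primeCompl] at this
    exact this
  refine @Module.projective_of_localization_maximal' (P ⧸ J) J.Cotangent _ _ _
    (fun 𝔪 _ => Localization.AtPrime (𝔪.comap (Ideal.Quotient.mk J)) ⧸
      Je J (Localization.AtPrime (𝔪.comap (Ideal.Quotient.mk J))))
    (fun 𝔪 _ => inferInstance) (fun 𝔪 _ => inferInstance) (fun 𝔪 _ => hloc 𝔪)
    (fun 𝔪 _ => (Je J (Localization.AtPrime (𝔪.comap (Ideal.Quotient.mk J)))).Cotangent)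
    (fun 𝔪 _ => inferInstance) (fun 𝔪 _ => inferInstance) (fun 𝔪 _ => inferInstance)
    (fun 𝔪 _ => inferInstance)
    (fun 𝔪 _ => cotMapB J (Localization.AtPrime (𝔪.comap (Ideal.Quotient.mk J))))
    (fun 𝔪 _ => hlm 𝔪) ?_ hfp
  intro 𝔪 h𝔪
  have hJle : J ≤ 𝔪.comap (Ideal.Quotient.mk J) := by
    intro x hx
    rw [Ideal.mem_comap, Ideal.Quotient.eq_zero_iff_mem.mpr hx]
    exact zero_mem _
  obtain ⟨g, hg, l₀, hl₀, hJ⟩ := h ⟨𝔪.comap (Ideal.Quotient.mk J), inferInstance⟩ hJle
  obtain ⟨h1, h2⟩ := free_cotangent_of_kregLoc J (𝔪.comap (Ideal.Quotient.mk J)).primeCompl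
    (Localization.AtPrime (𝔪.comap (Ideal.Quotient.mk J))) l₀
    (hl₀.mono (powers_le_primeCompl hg)) (hJ.mono (powers_le_primeCompl hg))
  infer_instance

theorem finite_cotangent (h : LCI.IsKoszulRegularIdeal J) :
    Module.Finite (P ⧸ J) J.Cotangent := by
  have := finitePresentation_cotangent J h
  infer_instance

end main

end Groth.Agent.Lib.Helper16.CotLoc
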