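import Mathlib
import Groth.Prelude.Def_CAlgX
import Groth.Prelude.Def_PP16
import Groth.Agent.Lib.Helper23.SymGrRegular
import Groth.Agent.Lib.Helper16.CotLoc1

/-!
# Change of rings for Sym of conormal modules; injectivity of Sym → gr localizes
-/

set_option autoImplicit false
set_option linter.unusedSectionVars false
universe u

namespace Groth.Agent.Lib.Helper16.QRegLoc

open Groth.Agent.Lib.Helper23 Groth.Agent.Lib.Helper16.CotLoc

section sigma

variable {R : Type u} [CommRing R] (J : Ideal R) (R' : Type u) [CommRing R'] [Algebra R R']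
  (ι : Type u) [Fintype ι]

/-- `R`-module structure on the symmetric power over `R'` -/
@[reducible] noncomputable def symMod : Module R (SymmetricPower R' ι (Je J R').Cotangent) :=
  Module.compHom _ (algebraMap R R')

attribute [local instance] symMod

theorem symMod_smul (r : R) (z : SymmetricPower R' ι (Je J R').Cotangent) :
    r • z = algebraMap R R' r • z := rfl

instance isScalarTower_symMod :
    IsScalarTower R R' (SymmetricPower R' ι (Je J R').Cotangent) :=
  IsScalarTower.of_algebraMap_smul (fun _ _ => rfl)

/-- change of rings for symmetric powers of conormal modules -/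
noncomputable def sigma :
    SymmetricPower R ι J.Cotangent →ₗ[R] SymmetricPower R' ι (Je J R').Cotangent :=
  SymPow.lift (((SymmetricPower.tprod R' (ι := ι) (M := (Je J R').Cotangent)).restrictScalars
      R).compLinearMap (fun _ => cotMap J R')) (by
    intro e p
    exact SymmetricPower.tprod_equiv e (fun i => cotMap J R' (p i)))

theorem sigma_tprod (p : ι → J.Cotangent) :
    sigma J R' ι (SymmetricPower.tprod R p) =
      SymmetricPower.tprod R' (fun i => cotMap J R' (p i)) := by
  rw [sigma, SymPow.lift_tprod]
  rfl

end sigma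


section square

variable {R : Type u} [CommRing R] (J : Ideal R) (R' : Type u) [CommRing R'] [Algebra R R']
  (ι : Type u) [Fintype ι]

attribute [local instance] symMod

theorem map_mem_pow (n : ℕ) {a : R} (ha : a ∈ J ^ n) : algebraMap R R' a ∈ (Je J R') ^ n := by
  rw [Je, ← Ideal.map_pow]
  exact Ideal.mem_map_of_mem _ ha

/-- compatibility of `can` with change of rings, elementwise -/
theorem exists_can_sigma (z : SymmetricPower R ι J.Cotangent) :
    ∃ (a : R) (ha : a ∈ J ^ Fintype.card ι),
      SymGr.can R J ι z = Submodule.Quotient.mk ⟨a, ha⟩ ∧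
      SymGr.can R' (Je J R') ι (sigma J R' ι z) =
        Submodule.Quotient.mk ⟨algebraMap R R' a, map_mem_pow J R' _ ha⟩ := by
  induction z using SymPow.induction_on with
  | tprod r p =>
    obtain ⟨y, rfl⟩ := SymGr.exists_rep R J ι p
    have hy : ∏ i, (y i : R) ∈ J ^ Fintype.card ι := by
      simpa using PP16.prod_mem_pow J Finset.univ (fun i => (y i : R)) (fun i _ => (y i).2)
    refine ⟨r * ∏ i, (y i : R), Ideal.mul_mem_left _ _ hy, ?_, ?_⟩
    · rw [map_smul, SymGr.can_tprod, PP16.zetaJ, ← Submodule.Quotient.mk_smul]
      rfl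
    · rw [map_smul, sigma_tprod, symMod_smul, map_smul]
      have h1 : (fun i => cotMap J R' (J.toCotangent (y i))) = fun i => (Je J R').toCotangent
          (⟨algebraMap R R' (y i), Ideal.mem_map_of_mem _ (y i).2⟩ : Je J R') := by
        funext i
        rw [cotMap_toCotangent]
      rw [h1, SymGr.can_tprod, PP16.zetaJ, ← Submodule.Quotient.mk_smul]
      congr 1
      apply Subtype.ext
      change algebraMap R R' r • ∏ i, algebraMap R R' (y i) = algebraMap R R' (r * ∏ i, (y i : R))
      rw [map_mul, map_prod, smul_eq_mul]
  | add z w hz hw =>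
    obtain ⟨a, ha, h1, h2⟩ := hz
    obtain ⟨b, hb, h1', h2'⟩ := hw
    refine ⟨a + b, Ideal.add_mem _ ha hb, ?_, ?_⟩
    · rw [map_add, h1, h1', ← Submodule.Quotient.mk_add]
      rfl
    · rw [map_add, map_add, h2, h2', ← Submodule.Quotient.mk_add]
      congr 1
      apply Subtype.ext
      change algebraMap R R' a + algebraMap R R' b = algebraMap R R' (a + b)
      rw [map_add]

end square


section locB

variable {R : Type u} [CommRing R] (J : Ideal R) (S : Submonoid R) (R' : Type u) [CommRing R']
  [Algebra R R'] [IsLocalization S R'] (ι : Type u) [Fintype ι]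

attribute [local instance] symMod

include S in
/-- every symmetric tensor over the localization comes from `R` up to a denominator -/
theorem exists_smul_eq_sigma (z' : SymmetricPower R' ι (Je J R').Cotangent) :
    ∃ (s : R) (_ : s ∈ S) (z : SymmetricPower R ι J.Cotangent), s • z' = sigma J R' ι z := by
  classical
  induction z' using SymPow.induction_on with
  | tprod r' p' =>
    have hlm := cotMap_isLocalizedModule J S R'
    choose ms hms using fun i => IsLocalizedModule.surj S (cotMap J R') (p' i)
    obtain ⟨⟨a, s₀⟩, has⟩ := IsLocalization.surj S r'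
    refine ⟨(s₀ : R) * ∏ i, ((ms i).2 : R),
      S.mul_mem s₀.2 (S.prod_mem fun i _ => (ms i).2.2), a • SymmetricPower.tprod R (fun i => (ms i).1), ?_⟩
    rw [map_smul, sigma_tprod]
    have h1 : (fun i => cotMap J R' (ms i).1) = fun i => ((ms i).2 : R) • p' i := by
      funext i
      exact (hms i).symm
    rw [h1]
    have h2 : (fun i => ((ms i).2 : R) • p' i) = fun i => algebraMap R R' ((ms i).2 : R) • p' i := by
      funext i
      rw [algebraMap_smul]
    rw [h2, MultilinearMap.map_smul_univ (SymmetricPower.tprod R')
      (fun i => algebraMap R R' ((ms i).2 : R)) p']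
    rw [symMod_smul J R' ι ((s₀ : R) * ∏ i, ((ms i).2 : R)) _, symMod_smul J R' ι a _]
    have hcoef : algebraMap R R' ((s₀ : R) * ∏ i, ((ms i).2 : R)) * r' =
        algebraMap R R' a * ∏ i, algebraMap R R' ((ms i).2 : R) := by
      have : r' * algebraMap R R' (s₀ : R) = algebraMap R R' a := has
      rw [← this, map_mul, map_prod]
      ring
    rw [smul_smul, smul_smul, hcoef]
  | add z' w' hz hw =>
    obtain ⟨s, hs, z, h1⟩ := hz
    obtain ⟨t, ht, w, h2⟩ := hw
    refine ⟨s * t, S.mul_mem hs ht, t • z + s • w, ?_⟩
    rw [map_add, map_smul, map_smul, ← h1, ← h2, smul_add, smul_smul, smul_smul, mul_comm t s]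

include S in
/-- injectivity of `Sym → gr` passes to localizations -/
theorem can_injective_localization
    (hinj : Function.Injective (SymGr.can R J ι)) :
    Function.Injective (SymGr.can R' (Je J R') ι) := by
  rw [injective_iff_map_eq_zero]
  intro z' hz'
  obtain ⟨s, hs, z, h1⟩ := exists_smul_eq_sigma J S R' ι z'
  obtain ⟨a, ha, h2, h3⟩ := exists_can_sigma J R' ι z
  rw [← h1, symMod_smul, map_smul, hz', smul_zero, eq_comm, Submodule.Quotient.mk_eq_zero,
    Submodule.mem_comap, Submodule.subtype_apply] at h3
  change algebraMap R R' a ∈ (Je J R') ^ (Fintype.card ι + 1) at h3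
  rw [Je, ← Ideal.map_pow, IsLocalization.algebraMap_mem_map_algebraMap_iff S] at h3
  obtain ⟨t, ht, hta⟩ := h3
  have h4 : SymGr.can R J ι (t • z) = 0 := by
    rw [map_smul, h2, ← Submodule.Quotient.mk_smul, Submodule.Quotient.mk_eq_zero,
      Submodule.mem_comap, Submodule.subtype_apply]
    exact hta
  have h5 : t • z = 0 := hinj (by rw [h4, map_zero])
  have h6 : (t * s) • z' = 0 := by
    rw [mul_smul, h1, ← map_smul, h5, map_zero]
  rw [symMod_smul] at h6
  obtain ⟨u, hu⟩ := IsLocalization.map_units R' (⟨t * s, S.mul_mem ht hs⟩ : S)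
  change (u : R') = algebraMap R R' (t * s) at hu
  rw [← hu] at h6
  have := congrArg (fun w => (↑u⁻¹ : R') • w) h6
  simpa [smul_smul] using this

end locB

end Groth.Agent.Lib.Helper16.QRegLoc
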