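import Mathlib
import Groth.Prelude.Def_CAlgX
import Groth.Prelude.Def_PP16
import Groth.Agent.Lib.Helper23.SymGrRegular
import Groth.Agent.Lib.Helper12.QuasiReg
import Groth.Agent.Lib.Helper16.CotLoc1
import Groth.Agent.Lib.Helper16.QRegLoc3

/-!
# Locally quasi-regular ideals: the converse (f.g., projective conormal, Sym ≅ gr ⇒ locally quasi-regular)
-/

set_option autoImplicit false
set_option linter.unusedSectionVars false
universe u

namespace Groth.Agent.Lib.Helper16.QRegLoc

open Groth.Agent.Lib.Helper23 Groth.Agent.Lib.Helper16.CotLoc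

section lemC

variable {R : Type u} [CommRing R] (J : Ideal R) (S : Submonoid R) (R' : Type u) [CommRing R']
  [Algebra R R'] [IsLocalization S R'] {c : ℕ} (x : Fin c → J)

/-- the images of the `x j` in the extended ideal -/
def xe (j : Fin c) : Je J R' := ⟨algebraMap R R' (x j), Ideal.mem_map_of_mem _ (x j).2⟩

variable (C1 : ∀ y ∈ J, ∃ s ∈ S, s * y ∈ Ideal.span (Set.range fun j => (x j : R)))

include S C1 in
theorem span_xe_eq : Ideal.span (Set.range fun j => (xe J R' x j : R')) = Je J R' := by
  apply le_antisymm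
  · rw [Ideal.span_le]
    rintro _ ⟨j, rfl⟩
    exact (xe J R' x j).2
  · show J.map (algebraMap R R') ≤ _
    rw [Ideal.map_le_iff_le_comap]
    intro y hy
    rw [Ideal.mem_comap]
    obtain ⟨s, hs, hsy⟩ := C1 y hy
    have h1 : algebraMap R R' (s * y) ∈ Ideal.span (Set.range fun j => (xe J R' x j : R')) := by
      have : (Ideal.span (Set.range fun j => (x j : R))).map (algebraMap R R') =
          Ideal.span (Set.range fun j => (xe J R' x j : R')) := by
        rw [Ideal.map_span, ← Set.range_comp]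
        rfl
      rw [← this]
      exact Ideal.mem_map_of_mem _ hsy
    obtain ⟨u, hu⟩ := IsLocalization.map_units R' (⟨s, hs⟩ : S)
    change (u : R') = algebraMap R R' s at hu
    have h2 : algebraMap R R' y = (↑u⁻¹ : R') * algebraMap R R' (s * y) := by
      rw [map_mul, ← hu, ← mul_assoc, Units.inv_mul, one_mul]
    rw [h2]
    exact Ideal.mul_mem_left _ _ h1

theorem cotangent_span_of_span {A : Type u} [CommRing A] (I : Ideal A) {m : ℕ} (f : Fin m → I)
    (hs : Ideal.span (Set.range fun i => (f i : A)) = I) :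
    Submodule.span (A ⧸ I) (Set.range fun i => I.toCotangent (f i)) = ⊤ := by
  rw [eq_top_iff]
  rintro z -
  obtain ⟨y, rfl⟩ := I.toCotangent_surjective z
  have hy : (y : A) ∈ Ideal.span (Set.range fun i => (f i : A)) := by rw [hs]; exact y.2
  obtain ⟨a, ha⟩ := Ideal.mem_span_range_iff_exists_fun.1 hy
  have : y = ∑ i, a i • f i := by
    ext
    simp [ha]
  rw [this, map_sum]
  refine Submodule.sum_mem _ fun i _ => ?_
  rw [map_smul, ← algebraMap_smul (A ⧸ I) (a i)]
  exact Submodule.smul_mem _ _ (Submodule.subset_span ⟨i, rfl⟩)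

variable (C2 : ∀ a : Fin c → R, ∑ j, a j * (x j : R) ∈ J ^ 2 → ∀ j, ∃ s ∈ S, s * a j ∈ J)

include S C2 in
theorem linearIndependent_xe :
    LinearIndependent (R' ⧸ Je J R') (fun j => (Je J R').toCotangent (xe J R' x j)) := by
  classical
  rw [Fintype.linearIndependent_iff]
  intro b hb j
  choose a' ha' using fun j => Ideal.Quotient.mk_surjective (I := Je J R') (b j)
  obtain ⟨⟨s, hs⟩, hint⟩ := IsLocalization.exist_integer_multiples_of_finite S a'
  choose a ha using hint
  -- `algebraMap (a j) = s • a' j`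
  obtain ⟨u, hu⟩ := IsLocalization.map_units R' (⟨s, hs⟩ : S)
  change (u : R') = algebraMap R R' s at hu
  have h1 := Groth.Agent.Lib.Helper12.QR.sum_smul_toCotangent (Je J R') (xe J R' x)
    (fun j => algebraMap R R' (a j))
  have h2 : ∑ i, (Ideal.Quotient.mk (Je J R') (algebraMap R R' (a i))) •
      (Je J R').toCotangent (xe J R' x i) = 0 := by
    have : ∀ i, Ideal.Quotient.mk (Je J R') (algebraMap R R' (a i)) =
        Ideal.Quotient.mk (Je J R') (algebraMap R R' s) * b i := by
      intro i
      rw [ha i, ← ha' i, ← map_mul]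
      congr 1
      change (s : R) • a' i = _
      rw [Algebra.smul_def]
    simp_rw [this, mul_smul]
    rw [← Finset.smul_sum, hb, smul_zero]
  rw [h1, Ideal.toCotangent_eq_zero] at h2
  have h3 : algebraMap R R' (∑ i, a i * (x i : R)) ∈ (Je J R') ^ 2 := by
    convert h2 using 1
    rw [map_sum]
    simp [xe, Algebra.smul_def]
  rw [Je, ← Ideal.map_pow, IsLocalization.algebraMap_mem_map_algebraMap_iff S] at h3
  obtain ⟨t, ht, hta⟩ := h3
  have h4 : ∑ i, (t * a i) * (x i : R) ∈ J ^ 2 := by
    convert hta using 1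
    rw [Finset.mul_sum]
    refine Finset.sum_congr rfl fun i _ => ?_
    ring
  obtain ⟨w, hw, hwa⟩ := C2 (fun i => t * a i) h4 j
  have h5 : algebraMap R R' (a j) ∈ Je J R' := by
    rw [Je, IsLocalization.algebraMap_mem_map_algebraMap_iff S]
    exact ⟨w * t, S.mul_mem hw ht, by rw [mul_assoc]; exact hwa⟩
  have h6 : Ideal.Quotient.mk (Je J R') (algebraMap R R' s) * b j = 0 := by
    rw [← ha' j, ← map_mul, Ideal.Quotient.eq_zero_iff_mem]
    have : algebraMap R R' s * a' j = algebraMap R R' (a j) := by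
      rw [ha j, Algebra.smul_def]
    rw [this]
    exact h5
  have h7 : IsUnit (Ideal.Quotient.mk (Je J R') (algebraMap R R' s)) := by
    rw [← hu]
    exact u.isUnit.map _
  exact (h7.mul_right_eq_zero).mp h6

end lemC


section lemC2

variable {R : Type u} [CommRing R] (J : Ideal R) (S : Submonoid R) (R' : Type u) [CommRing R']
  [Algebra R R'] [IsLocalization S R'] {c : ℕ} (x : Fin c → J)

include S in
/-- local criterion: generation and independence up to `S`, plus `Sym ≅ gr`, give a quasi-regular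
generating family in the localization -/
theorem isQuasiRegular_xe
    (C1 : ∀ y ∈ J, ∃ s ∈ S, s * y ∈ Ideal.span (Set.range fun j => (x j : R)))
    (C2 : ∀ a : Fin c → R, ∑ j, a j * (x j : R) ∈ J ^ 2 → ∀ j, ∃ s ∈ S, s * a j ∈ J)
    (hinj : ∀ (ι : Type u) [Fintype ι] [Nonempty ι], Function.Injective (SymGr.can R J ι)) :
    CAlgX.IsQuasiRegular (fun j => algebraMap R R' (x j)) ∧
      Ideal.span (Set.range fun j => algebraMap R R' (x j)) = Je J R' := by
  have hs := span_xe_eq J S R' x C1
  refine ⟨?_, hs⟩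
  exact SymGrRegular.isQuasiRegular_of_injective (Je J R') (xe J R' x)
    (linearIndependent_xe J S R' x C2) (cotangent_span_of_span (Je J R') (xe J R' x) hs) hs
    (fun ι _ _ => can_injective_localization J S R' ι (hinj ι))

end lemC2

section localBasis

variable {R : Type u} [CommRing R] (J : Ideal R)

attribute [local instance] modB

theorem finite_cotangent_of_fg (hfg : J.FG) : Module.Finite (R ⧸ J) J.Cotangent := by
  have h1 : Module.Finite R J := Module.Finite.iff_fg.mpr hfg
  have h2 : Module.Finite R J.Cotangent :=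
    Module.Finite.of_surjective J.toCotangent J.toCotangent_surjective
  exact Module.Finite.of_restrictScalars_finite R (R ⧸ J) J.Cotangent

/-- at a prime, a finitely generated ideal with projective conormal module has a family of
elements whose classes form a basis of the localized conormal module -/
theorem exists_local_basis (hfg : J.FG) (hproj : Module.Projective (R ⧸ J) J.Cotangent)
    (𝔭 : Ideal (R ⧸ J)) [𝔭.IsPrime] :
    ∃ (c : ℕ) (x : Fin c → J),
      LinearIndependent (Localization.AtPrime (𝔭.comap (Ideal.Quotient.mk J)) ⧸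
          Je J (Localization.AtPrime (𝔭.comap (Ideal.Quotient.mk J))))
        (fun j => (Je J (Localization.AtPrime (𝔭.comap (Ideal.Quotient.mk J)))).toCotangent
          (xe J (Localization.AtPrime (𝔭.comap (Ideal.Quotient.mk J))) x j)) ∧
      Submodule.span (Localization.AtPrime (𝔭.comap (Ideal.Quotient.mk J)) ⧸
          Je J (Localization.AtPrime (𝔭.comap (Ideal.Quotient.mk J))))
        (Set.range fun j => (Je J (Localization.AtPrime (𝔭.comap (Ideal.Quotient.mk J)))).toCotangent
          (xe J (Localization.AtPrime (𝔭.comap (Ideal.Quotient.mk J))) x j)) = ⊤ := by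
  classical
  have hfin := finite_cotangent_of_fg J hfg
  set RP := Localization.AtPrime (𝔭.comap (Ideal.Quotient.mk J)) with hRP
  have hloc : IsLocalization 𝔭.primeCompl (RP ⧸ Je J RP) := by
    have : IsLocalization (Algebra.algebraMapSubmonoid (R ⧸ J)
        (𝔭.comap (Ideal.Quotient.mk J)).primeCompl) (RP ⧸ Je J RP) := inferInstance
    rw [algebraMapSubmonoid_primeCompl] at this
    exact this
  have hlm : IsLocalizedModule 𝔭.primeCompl (cotMapB J RP) := by
    have := cotMapB_isLocalizedModule J (𝔭.comap (Ideal.Quotient.mk J)).primeCompl RP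
    rw [algebraMapSubmonoid_primeCompl] at this
    exact this
  have hlocal : IsLocalRing (RP ⧸ Je J RP) := IsLocalization.AtPrime.isLocalRing (RP ⧸ Je J RP) 𝔭
  have hfin' : Module.Finite (RP ⧸ Je J RP) (Je J RP).Cotangent :=
    Module.Finite.of_isLocalizedModule 𝔭.primeCompl (Rₚ := RP ⧸ Je J RP) (cotMapB J RP)
  have hflat : Module.Flat (RP ⧸ Je J RP) (Je J RP).Cotangent :=
    Module.Flat.of_isLocalizedModule (RP ⧸ Je J RP) 𝔭.primeCompl (cotMapB J RP)
  have hfree : Module.Free (RP ⧸ Je J RP) (Je J RP).Cotangent := Module.free_of_flat_of_isLocalRing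
  let β := Module.finBasis (RP ⧸ Je J RP) (Je J RP).Cotangent
  choose ms hms using fun j => IsLocalizedModule.surj 𝔭.primeCompl (cotMapB J RP) (β j)
  choose xs hxs using fun j => J.toCotangent_surjective (ms j).1
  have hunit : ∀ j, IsUnit (algebraMap (R ⧸ J) (RP ⧸ Je J RP) ((ms j).2 : R ⧸ J)) :=
    fun j => IsLocalization.map_units (RP ⧸ Je J RP) (ms j).2
  let β' := β.unitsSMul (fun j => (hunit j).unit)
  have hβ' : ∀ j, β' j = (Je J RP).toCotangent (xe J RP xs j) := by
    intro j
    rw [Module.Basis.unitsSMul_apply]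
    have h1 : cotMapB J RP (ms j).1 = (Je J RP).toCotangent (xe J RP xs j) := by
      rw [← hxs j]
      rfl
    rw [← h1, ← hms j]
    rfl
  have hfun : (fun j => (Je J RP).toCotangent (xe J RP xs j)) = β' := by
    funext j
    exact (hβ' j).symm
  refine ⟨_, xs, ?_, ?_⟩
  · rw [hfun]
    exact β'.linearIndependent
  · rw [hfun]
    exact β'.span_eq

end localBasis


section spread

variable {R : Type u} [CommRing R] (J : Ideal R)

attribute [local instance] modB

theorem le_comap_of_prime (𝔭 : Ideal (R ⧸ J)) : J ≤ 𝔭.comap (Ideal.Quotient.mk J) := by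
  intro y hy
  rw [Ideal.mem_comap, Ideal.Quotient.eq_zero_iff_mem.mpr hy]
  exact zero_mem _

/-- generation at the prime spreads out to a basic open -/
theorem exists_C1 (hfg : J.FG) (𝔭 : Ideal (R ⧸ J)) [𝔭.IsPrime] {c : ℕ} (x : Fin c → J)
    (hsp : Submodule.span (Localization.AtPrime (𝔭.comap (Ideal.Quotient.mk J)) ⧸
          Je J (Localization.AtPrime (𝔭.comap (Ideal.Quotient.mk J))))
        (Set.range fun j => (Je J (Localization.AtPrime (𝔭.comap (Ideal.Quotient.mk J)))).toCotangent
          (xe J (Localization.AtPrime (𝔭.comap (Ideal.Quotient.mk J))) x j)) = ⊤) :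
    ∃ g₀ : R, g₀ ∉ 𝔭.comap (Ideal.Quotient.mk J) ∧
      ∀ y ∈ J, g₀ * y ∈ Ideal.span (Set.range fun j => (x j : R)) := by
  classical
  set P' := 𝔭.comap (Ideal.Quotient.mk J) with hP'
  set RP := Localization.AtPrime P' with hRP
  have hJP : Je J RP ≤ Ideal.jacobson ⊥ := by
    refine le_trans ?_ (IsLocalRing.maximalIdeal_le_jacobson ⊥)
    show J.map (algebraMap R RP) ≤ _
    have hcm : (IsLocalRing.maximalIdeal RP).comap (algebraMap R RP) = P' :=
      IsLocalization.AtPrime.under_maximalIdeal RP P'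
    rw [Ideal.map_le_iff_le_comap, hcm]
    exact le_comap_of_prime J 𝔭
  have hspan := Groth.Agent.Lib.Helper12.QR.span_eq_of_cotangent_span_eq_top (Je J RP)
    (hfg.map _) hJP (xe J RP x) hsp
  have hmap : (Ideal.span (Set.range fun j => (x j : R))).map (algebraMap R RP) = Je J RP := by
    rw [← hspan, Ideal.map_span, ← Set.range_comp]
    rfl
  obtain ⟨T, hT⟩ := hfg
  have h1 : ∀ y, y ∈ T → ∃ s, s ∈ P'.primeCompl ∧
      s * y ∈ Ideal.span (Set.range fun j => (x j : R)) := by
    intro y hy
    have hyJ : y ∈ J := by rw [← hT]; exact Ideal.subset_span hy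
    have : algebraMap R RP y ∈
        (Ideal.span (Set.range fun j => (x j : R))).map (algebraMap R RP) := by
      rw [hmap]
      exact Ideal.mem_map_of_mem _ hyJ
    exact (IsLocalization.algebraMap_mem_map_algebraMap_iff P'.primeCompl RP _ _).mp this
  choose! s hs using h1
  refine ⟨∏ y ∈ T, s y, ?_, ?_⟩
  · have : ∏ y ∈ T, s y ∈ P'.primeCompl := Submonoid.prod_mem _ (fun y hy => (hs y hy).1)
    exact this
  · intro y hy
    rw [← hT] at hy
    induction hy using Submodule.span_induction with
    | mem y hy =>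
      rw [← Finset.prod_erase_mul T s hy, mul_assoc]
      exact Ideal.mul_mem_left _ _ (hs y hy).2
    | zero => rw [mul_zero]; exact zero_mem _
    | add y z _ _ hy hz => rw [mul_add]; exact Ideal.add_mem _ hy hz
    | smul a y _ hy =>
      rw [smul_eq_mul, mul_left_comm]
      exact Ideal.mul_mem_left _ _ hy

/-- independence at the prime spreads out to basic opens -/
theorem exists_C2 (hfg : J.FG) (hproj : Module.Projective (R ⧸ J) J.Cotangent)
    (𝔭 : Ideal (R ⧸ J)) [𝔭.IsPrime] {c : ℕ} (x : Fin c → J)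
    (hli : LinearIndependent (Localization.AtPrime (𝔭.comap (Ideal.Quotient.mk J)) ⧸
          Je J (Localization.AtPrime (𝔭.comap (Ideal.Quotient.mk J))))
        (fun j => (Je J (Localization.AtPrime (𝔭.comap (Ideal.Quotient.mk J)))).toCotangent
          (xe J (Localization.AtPrime (𝔭.comap (Ideal.Quotient.mk J))) x j)))
    (hsp : Submodule.span (Localization.AtPrime (𝔭.comap (Ideal.Quotient.mk J)) ⧸
          Je J (Localization.AtPrime (𝔭.comap (Ideal.Quotient.mk J))))
        (Set.range fun j => (Je J (Localization.AtPrime (𝔭.comap (Ideal.Quotient.mk J)))).toCotangent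
          (xe J (Localization.AtPrime (𝔭.comap (Ideal.Quotient.mk J))) x j)) = ⊤) :
    ∃ r : R ⧸ J, r ∉ 𝔭 ∧ ∀ g : R, r ∣ Ideal.Quotient.mk J g →
      ∀ a : Fin c → R, ∑ j, a j * (x j : R) ∈ J ^ 2 → ∀ j, ∃ k : ℕ, g ^ k * a j ∈ J := by
  classical
  have hfin := finite_cotangent_of_fg J hfg
  have hfp : Module.FinitePresentation (R ⧸ J) J.Cotangent :=
    Module.finitePresentation_of_projective _ _
  set RP := Localization.AtPrime (𝔭.comap (Ideal.Quotient.mk J)) with hRP
  have hloc : IsLocalization 𝔭.primeCompl (RP ⧸ Je J RP) := by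
    have : IsLocalization (Algebra.algebraMapSubmonoid (R ⧸ J)
        (𝔭.comap (Ideal.Quotient.mk J)).primeCompl) (RP ⧸ Je J RP) := inferInstance
    rw [algebraMapSubmonoid_primeCompl] at this
    exact this
  have hlm : IsLocalizedModule 𝔭.primeCompl (cotMapB J RP) := by
    have := cotMapB_isLocalizedModule J (𝔭.comap (Ideal.Quotient.mk J)).primeCompl RP
    rw [algebraMapSubmonoid_primeCompl] at this
    exact this
  let l : (Fin c →₀ (R ⧸ J)) →ₗ[R ⧸ J] J.Cotangent :=
    Finsupp.linearCombination (R ⧸ J) (fun j => J.toCotangent (x j))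
  let fM : (Fin c →₀ (R ⧸ J)) →ₗ[R ⧸ J] (Fin c →₀ (RP ⧸ Je J RP)) :=
    Finsupp.mapRange.linearMap (Algebra.linearMap (R ⧸ J) (RP ⧸ Je J RP))
  let L' : (Fin c →₀ (RP ⧸ Je J RP)) →ₗ[R ⧸ J] (Je J RP).Cotangent :=
    (Finsupp.linearCombination (RP ⧸ Je J RP)
      (fun j => (Je J RP).toCotangent (xe J RP x j))).restrictScalars (R ⧸ J)
  have hmap : IsLocalizedModule.map 𝔭.primeCompl fM (cotMapB J RP) l = L' := by
    apply IsLocalizedModule.linearMap_ext 𝔭.primeCompl fM (cotMapB J RP)
    rw [IsLocalizedModule.map_comp]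
    apply Finsupp.lhom_ext'
    intro j
    apply LinearMap.ext_ring
    simp only [LinearMap.coe_comp, Function.comp_apply, Finsupp.lsingle_apply, l, fM, L',
      Finsupp.linearCombination_single, one_smul, Finsupp.mapRange.linearMap_apply,
      Finsupp.mapRange_single, Algebra.linearMap_apply, map_one, LinearMap.coe_restrictScalars]
    rfl
  have hf : Function.Bijective (IsLocalizedModule.map 𝔭.primeCompl fM (cotMapB J RP) l) := by
    rw [hmap]
    constructor
    · exact hli
    · have : LinearMap.range (Finsupp.linearCombination (RP ⧸ Je J RP)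
          (fun j => (Je J RP).toCotangent (xe J RP x j))) = ⊤ := by
        rw [Finsupp.range_linearCombination, hsp]
      intro y
      obtain ⟨v, hv⟩ := (LinearMap.range_eq_top.mp this) y
      exact ⟨v, hv⟩
  obtain ⟨r, hr, H⟩ := exists_bijective_map_powers 𝔭.primeCompl fM (cotMapB J RP) l hf
  refine ⟨r, hr, fun g hdiv a ha j => ?_⟩
  have hbij := H (Ideal.Quotient.mk J g) hdiv
  set ā : Fin c →₀ (R ⧸ J) := Finsupp.equivFunOnFinite.symm (fun j => Ideal.Quotient.mk J (a j))
    with hā
  have hl : l ā = 0 := by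
    have h1 : l ā = ∑ j, Ideal.Quotient.mk J (a j) • J.toCotangent (x j) := by
      simp only [l, Finsupp.linearCombination_apply]
      have := Finsupp.sum_fintype ā (fun i b => b • J.toCotangent (x i)) (fun i => zero_smul _ _)
      rw [this]
      rfl
    rw [h1, Groth.Agent.Lib.Helper12.QR.sum_smul_toCotangent J x a, Ideal.toCotangent_eq_zero]
    convert ha using 1
    simp
  have h2 : LocalizedModule.map (Submonoid.powers (Ideal.Quotient.mk J g)) l
      (LocalizedModule.mk ā 1) = LocalizedModule.map (Submonoid.powers (Ideal.Quotient.mk J g)) l 0 := by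
    rw [LocalizedModule.map_mk, hl, LocalizedModule.zero_mk, map_zero]
  have h3 := hbij.1 h2
  rw [← LocalizedModule.zero_mk (1 : Submonoid.powers (Ideal.Quotient.mk J g)),
    LocalizedModule.mk_eq] at h3
  obtain ⟨⟨u, k, rfl⟩, hu⟩ := h3
  refine ⟨k, ?_⟩
  have h4 := congrArg (fun v : Fin c →₀ (R ⧸ J) => v j) hu
  simp only [one_smul, smul_zero, Submonoid.smul_def, Finsupp.smul_apply, Finsupp.zero_apply,
    smul_eq_mul] at h4
  rw [hā] at h4
  change Ideal.Quotient.mk J g ^ k * Ideal.Quotient.mk J (a j) = 0 at h4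
  rw [← map_pow, ← map_mul, Ideal.Quotient.eq_zero_iff_mem] at h4
  exact h4

end spread


section converse

variable {R : Type u} [CommRing R] (J : Ideal R)

/-- finitely generated, projective conormal module and `Sym ≅ gr` imply locally quasi-regular -/
theorem isLocallyQuasiRegular_of (hfg : J.FG) (hproj : Module.Projective (R ⧸ J) J.Cotangent)
    (hinj : ∀ (ι : Type u) [Fintype ι] [Nonempty ι], Function.Injective (SymGr.can R J ι)) :
    PP16.IsLocallyQuasiRegular R J := by
  intro P hP hJP
  have h𝔭 : (P.map (Ideal.Quotient.mk J)).IsPrime :=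
    Ideal.map_isPrime_of_surjective Ideal.Quotient.mk_surjective (by rw [Ideal.mk_ker]; exact hJP)
  have hcomap : (P.map (Ideal.Quotient.mk J)).comap (Ideal.Quotient.mk J) = P := by
    rw [Ideal.comap_map_of_surjective _ Ideal.Quotient.mk_surjective, ← RingHom.ker_eq_comap_bot,
      Ideal.mk_ker, sup_eq_left]
    exact hJP
  obtain ⟨c, x, hli, hsp⟩ := exists_local_basis J hfg hproj (P.map (Ideal.Quotient.mk J))
  obtain ⟨g₀, hg₀, hC1⟩ := exists_C1 J hfg (P.map (Ideal.Quotient.mk J)) x hsp
  obtain ⟨r, hr, hC2⟩ := exists_C2 J hfg hproj (P.map (Ideal.Quotient.mk J)) x hli hsp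
  obtain ⟨g₁, rfl⟩ := Ideal.Quotient.mk_surjective r
  have hg₁ : g₁ ∉ P := by
    rw [← hcomap]
    exact hr
  rw [hcomap] at hg₀
  refine ⟨g₀ * g₁, ?_, c, fun j => algebraMap R _ (x j), ?_⟩
  · intro hmem
    rcases hP.mem_or_mem hmem with h | h
    · exact hg₀ h
    · exact hg₁ h
  · refine isQuasiRegular_xe J (Submonoid.powers (g₀ * g₁)) (Localization.Away (g₀ * g₁)) x ?_ ?_ hinj
    · intro y hy
      refine ⟨g₀ * g₁, ⟨1, pow_one _⟩, ?_⟩
      rw [mul_comm g₀ g₁, mul_assoc]
      exact Ideal.mul_mem_left _ _ (hC1 y hy)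
    · intro a ha j
      obtain ⟨k, hk⟩ := hC2 (g₀ * g₁) (by rw [map_mul]; exact Dvd.intro_left _ rfl) a ha j
      exact ⟨(g₀ * g₁) ^ k, ⟨k, rfl⟩, hk⟩

end converse

end Groth.Agent.Lib.Helper16.QRegLoc
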