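import Mathlib
import Groth.Prelude.Def_CAlgX
import Groth.Prelude.Def_PP16
import Groth.Agent.Lib.Helper12.QuasiReg
import Groth.Agent.Lib.Helper16.CotLoc1
import Groth.Agent.Lib.Helper16.QRegLoc4

/-!
# Flat base change and faithfully flat descent for conormal modules; equational flatness for extended ideals
-/

set_option autoImplicit false
set_option linter.unusedSectionVars false
universe u

namespace Groth.Agent.Lib.Helper16.QRegFF

open Groth.Agent.Lib.Helper16.CotLoc Groth.Agent.Lib.Helper16.QRegLoc
open scoped TensorProduct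

section KF

variable {A B : Type u} [CommRing A] [CommRing B] [Algebra A B] [Module.Flat A B]

/-- equational criterion of flatness, in the form used for extended ideals -/
theorem exists_factor_of_flat (K : Ideal A) {c : ℕ} (x : Fin c → A) (b : Fin c → B)
    (h : ∑ j, b j * algebraMap A B (x j) ∈ K.map (algebraMap A B)) :
    ∃ (k : ℕ) (α : Fin c → Fin k → A) (β : Fin k → B),
      (∀ j, b j = ∑ l, α j l • β l) ∧ ∀ l, ∑ j, α j l * x j ∈ K := by
  classical
  change _ ∈ Submodule.span B (algebraMap A B '' (K : Set A)) at h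
  obtain ⟨t, ht, c', hc'⟩ := (Submodule.mem_span_image_iff_exists_fun B).mp h
  let f : Fin c ⊕ t → A := Sum.elim x (fun i => -(i : A))
  let y : Fin c ⊕ t → B := Sum.elim b c'
  have hrel : ∑ i, f i • y i = 0 := by
    rw [Fintype.sum_sum_type]
    simp only [f, y, Sum.elim_inl, Sum.elim_inr, neg_smul, Finset.sum_neg_distrib]
    have h1 : ∑ j, x j • b j = ∑ j, b j * algebraMap A B (x j) :=
      Finset.sum_congr rfl fun j _ => by rw [Algebra.smul_def, mul_comm]
    have h2 : ∑ i : t, (i : A) • c' i = ∑ i : t, c' i • algebraMap A B (i : A) :=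
      Finset.sum_congr rfl fun i _ => by rw [Algebra.smul_def, smul_eq_mul, mul_comm]
    rw [h1, h2, hc', add_neg_cancel]
  obtain ⟨k, a, β, h1, h2⟩ := Module.Flat.isTrivialRelation_of_sum_smul_eq_zero (R := A) (M := B)
    (f := f) (x := y) (by exact hrel)
  refine ⟨k, fun j l => a (Sum.inl j) l, β, fun j => h1 (Sum.inl j), fun l => ?_⟩
  have h3 := h2 l
  rw [Fintype.sum_sum_type] at h3
  simp only [f, Sum.elim_inl, Sum.elim_inr, neg_mul, Finset.sum_neg_distrib] at h3
  have h4 : ∑ j, a (Sum.inl j) l * x j = ∑ i : t, (i : A) * a (Sum.inr i) l := by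
    rw [← sub_eq_zero, sub_eq_add_neg, ← h3]
    congr 1
    exact Finset.sum_congr rfl fun j _ => mul_comm _ _
  rw [h4]
  exact Ideal.sum_mem _ fun i _ => Ideal.mul_mem_right _ _ (ht i.2)

end KF


section C12

variable {A B : Type u} [CommRing A] [CommRing B] [Algebra A B] [Module.Flat A B] (I : Ideal A)
  (g : A) {c : ℕ} (x : Fin c → I)

theorem C1_baseChange (C1 : ∀ y ∈ I, g * y ∈ Ideal.span (Set.range fun j => (x j : A))) :
    ∀ y' ∈ Je I B, ∃ s ∈ Submonoid.powers (algebraMap A B g),
      s * y' ∈ Ideal.span (Set.range fun j => (xe I B x j : B)) := by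
  intro y' hy'
  refine ⟨algebraMap A B g, ⟨1, pow_one _⟩, ?_⟩
  have hmap : (Ideal.span (Set.range fun j => (x j : A))).map (algebraMap A B) =
      Ideal.span (Set.range fun j => (xe I B x j : B)) := by
    rw [Ideal.map_span, ← Set.range_comp]
    rfl
  change y' ∈ Submodule.span B (algebraMap A B '' (I : Set A)) at hy'
  induction hy' using Submodule.span_induction with
  | mem z hz =>
    obtain ⟨y, hy, rfl⟩ := hz
    rw [← map_mul, ← hmap]
    exact Ideal.mem_map_of_mem _ (C1 y hy)
  | zero => rw [mul_zero]; exact zero_mem _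
  | add y z _ _ hy hz => rw [mul_add]; exact Ideal.add_mem _ hy hz
  | smul b y _ hy =>
    rw [smul_eq_mul, mul_left_comm]
    exact Ideal.mul_mem_left _ _ hy

theorem C2_baseChange
    (C2 : ∀ a : Fin c → A, ∑ j, a j * (x j : A) ∈ I ^ 2 → ∀ j, ∃ s ∈ Submonoid.powers g, s * a j ∈ I) :
    ∀ b : Fin c → B, ∑ j, b j * (xe I B x j : B) ∈ (Je I B) ^ 2 →
      ∀ j, ∃ s ∈ Submonoid.powers (algebraMap A B g), s * b j ∈ Je I B := by
  classical
  intro b hb j
  have hb' : ∑ j, b j * algebraMap A B ((x j : A)) ∈ (I ^ 2).map (algebraMap A B) := by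
    rw [Ideal.map_pow]
    exact hb
  obtain ⟨k, α, β, h1, h2⟩ := exists_factor_of_flat (I ^ 2) (fun j => (x j : A)) b hb'
  choose s hs hsα using fun l => C2 (fun j => α j l) (h2 l) j
  refine ⟨algebraMap A B (∏ l, s l), ?_, ?_⟩
  · obtain ⟨n, hn⟩ := Submonoid.prod_mem (Submonoid.powers g) (fun l (_ : l ∈ Finset.univ) => hs l)
    refine ⟨n, ?_⟩
    change algebraMap A B g ^ n = _
    rw [← map_pow]
    exact congrArg _ hn
  · rw [h1 j, Finset.mul_sum]
    refine Ideal.sum_mem _ fun l _ => ?_
    rw [Algebra.smul_def, ← mul_assoc, ← map_mul]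
    refine Ideal.mul_mem_right _ _ (Ideal.mem_map_of_mem _ ?_)
    rw [← Finset.prod_erase_mul Finset.univ s (Finset.mem_univ l), mul_assoc]
    exact Ideal.mul_mem_left _ _ (hsα l)

end C12


section cotBC

variable {A B : Type u} [CommRing A] [CommRing B] [Algebra A B] [Module.Flat A B] (I : Ideal A)

attribute [local instance] modB

/-- the base change comparison map for conormal modules -/
noncomputable def Phi :
    (B ⧸ Je I B) ⊗[A ⧸ I] I.Cotangent →ₗ[B ⧸ Je I B] (Je I B).Cotangent :=
  LinearMap.liftBaseChange (B ⧸ Je I B) (cotMapB I B)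

theorem Phi_tmul (b : B ⧸ Je I B) (m : I.Cotangent) :
    Phi (B := B) I (b ⊗ₜ m) = b • cotMapB I B m := rfl

theorem Phi_surjective : Function.Surjective (Phi (B := B) I) := by
  intro z
  obtain ⟨⟨w, hw⟩, rfl⟩ := (Je I B).toCotangent_surjective z
  change (Je I B).toCotangent ⟨w, hw⟩ ∈ LinearMap.range (Phi (B := B) I)
  have hw' : w ∈ Submodule.span B (algebraMap A B '' (I : Set A)) := hw
  induction hw' using Submodule.span_induction with
  | mem z hz =>
    obtain ⟨y, hy, rfl⟩ := hz
    refine ⟨1 ⊗ₜ I.toCotangent ⟨y, hy⟩, ?_⟩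
    rw [Phi_tmul, one_smul]
    rfl
  | zero =>
    have : (⟨0, hw⟩ : Je I B) = 0 := rfl
    rw [this, map_zero]
    exact zero_mem _
  | add y z hy hz ihy ihz =>
    have hy' : y ∈ Je I B := hy
    have hz' : z ∈ Je I B := hz
    have : (⟨y + z, hw⟩ : Je I B) = ⟨y, hy'⟩ + ⟨z, hz'⟩ := rfl
    rw [this, map_add]
    exact Submodule.add_mem _ (ihy hy') (ihz hz')
  | smul b y hy ihy =>
    have hy' : y ∈ Je I B := hy
    have : (⟨b • y, hw⟩ : Je I B) = b • ⟨y, hy'⟩ := rfl
    rw [this, map_smul]
    have h2 : b • (Je I B).toCotangent ⟨y, hy'⟩ =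
        (Ideal.Quotient.mk (Je I B) b) • (Je I B).toCotangent ⟨y, hy'⟩ := by
      rw [← Ideal.Quotient.algebraMap_eq, algebraMap_smul]
    rw [h2]
    exact Submodule.smul_mem _ _ (ihy hy')

theorem mk_smul_eq (a : A) (b : B) :
    Ideal.Quotient.mk (Je I B) (a • b) =
      (Ideal.Quotient.mk I a) • Ideal.Quotient.mk (Je I B) b := by
  rw [Algebra.smul_def, Algebra.smul_def, map_mul,
    Ideal.Quotient.algebraMap_quotient_map_quotient]

theorem Phi_injective : Function.Injective (Phi (B := B) I) := by
  classical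
  rw [injective_iff_map_eq_zero]
  intro t ht
  obtain ⟨n, bs, ms, rfl⟩ := TensorProduct.exists_sum_tmul_eq t
  choose b hb using fun k => Ideal.Quotient.mk_surjective (I := Je I B) (bs k)
  choose y hy using fun k => I.toCotangent_surjective (ms k)
  have ht' : ∑ k, Ideal.Quotient.mk (Je I B) (b k) • (Je I B).toCotangent (xe I B y k) = 0 := by
    rw [← ht, map_sum]
    refine Finset.sum_congr rfl fun k _ => ?_
    rw [Phi_tmul, ← hb k, ← hy k]
    rfl
  rw [Groth.Agent.Lib.Helper12.QR.sum_smul_toCotangent (Je I B) (xe I B y) b,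
    Ideal.toCotangent_eq_zero] at ht'
  have hmem : ∑ k, b k * algebraMap A B ((y k : A)) ∈ (I ^ 2).map (algebraMap A B) := by
    rw [Ideal.map_pow]
    convert ht' using 1
    simp [xe]
  obtain ⟨k', α, β, h1, h2⟩ := exists_factor_of_flat (I ^ 2) (fun k => (y k : A)) b hmem
  have h3 : ∀ l, ∑ k, Ideal.Quotient.mk I (α k l) • I.toCotangent (y k) = 0 := by
    intro l
    rw [Groth.Agent.Lib.Helper12.QR.sum_smul_toCotangent I y (fun k => α k l),
      Ideal.toCotangent_eq_zero]
    convert h2 l using 1
    simp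
  calc ∑ k, bs k ⊗ₜ[A ⧸ I] ms k
      = ∑ k, ∑ l, Ideal.Quotient.mk (Je I B) (β l) ⊗ₜ[A ⧸ I]
          (Ideal.Quotient.mk I (α k l) • I.toCotangent (y k)) := by
        refine Finset.sum_congr rfl fun k _ => ?_
        rw [← hb k, ← hy k, h1 k, map_sum, TensorProduct.sum_tmul]
        refine Finset.sum_congr rfl fun l _ => ?_
        rw [mk_smul_eq, TensorProduct.smul_tmul]
    _ = ∑ l, Ideal.Quotient.mk (Je I B) (β l) ⊗ₜ[A ⧸ I]
          (∑ k, Ideal.Quotient.mk I (α k l) • I.toCotangent (y k)) := by
        rw [Finset.sum_comm]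
        refine Finset.sum_congr rfl fun l _ => ?_
        rw [TensorProduct.tmul_sum]
    _ = 0 := by
        refine Finset.sum_eq_zero fun l _ => ?_
        rw [h3 l, TensorProduct.tmul_zero]

/-- flat base change of the conormal module -/
noncomputable def cotBaseChangeEquiv :
    (B ⧸ Je I B) ⊗[A ⧸ I] I.Cotangent ≃ₗ[B ⧸ Je I B] (Je I B).Cotangent :=
  LinearEquiv.ofBijective (Phi (B := B) I) ⟨Phi_injective I, Phi_surjective I⟩

end cotBC


section descent

variable {R T : Type u} [CommRing R] [CommRing T] [Algebra R T] [Module.FaithfullyFlat R T]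
  (M : Type u) [AddCommGroup M] [Module R M]

/-- finite presentation descends along faithfully flat ring maps -/
theorem finitePresentation_of_faithfullyFlat [Module.FinitePresentation T (T ⊗[R] M)] :
    Module.FinitePresentation R M := by
  have hfin : Module.Finite R M := Module.Finite.of_finite_tensorProduct_of_faithfullyFlat T
  obtain ⟨n, f, hf⟩ := Module.Finite.exists_fin' R M
  have hsurj : Function.Surjective (TensorProduct.AlgebraTensorModule.lTensor T T f) := by
    rw [TensorProduct.AlgebraTensorModule.coe_lTensor]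
    exact LinearMap.lTensor_surjective T hf
  have hker : (LinearMap.ker (TensorProduct.AlgebraTensorModule.lTensor T T f)).FG :=
    Module.FinitePresentation.fg_ker _ hsurj
  have h1 : Module.Finite T (LinearMap.ker (TensorProduct.AlgebraTensorModule.lTensor T T f)) :=
    Module.Finite.iff_fg.mpr hker
  have h2 : Module.Finite T (T ⊗[R] LinearMap.ker f) :=
    Module.Finite.equiv (LinearMap.tensorKerEquiv T T f).symm
  have h3 : Module.Finite R (LinearMap.ker f) :=
    Module.Finite.of_finite_tensorProduct_of_faithfullyFlat T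
  exact Module.finitePresentation_of_surjective f hf (Module.Finite.iff_fg.mp h3)

/-- finite projectivity descends along faithfully flat ring maps -/
theorem projective_of_faithfullyFlat [Module.Finite T (T ⊗[R] M)]
    [Module.Projective T (T ⊗[R] M)] : Module.Projective R M := by
  have h1 : Module.FinitePresentation T (T ⊗[R] M) := Module.finitePresentation_of_projective _ _
  have h2 : Module.FinitePresentation R M := finitePresentation_of_faithfullyFlat (T := T) M
  have h3 : Module.Flat T (T ⊗[R] M) := inferInstance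
  have h4 : Module.Flat R M := Module.Flat.of_flat_tensorProduct R M T
  exact Module.Flat.projective_of_finitePresentation

end descent

section projDescent

variable {A B : Type u} [CommRing A] [CommRing B] [Algebra A B] [Module.FaithfullyFlat A B]
  (I : Ideal A)

attribute [local instance] modB

theorem faithfullyFlat_quotient : Module.FaithfullyFlat (A ⧸ I) (B ⧸ Je I B) :=
  Module.FaithfullyFlat.of_linearEquiv (A ⧸ I) ((A ⧸ I) ⊗[A] B)
    (Algebra.TensorProduct.quotIdealMapEquivQuotTensor B I).toLinearEquiv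

/-- faithfully flat descent of finite projectivity of the conormal module -/
theorem projective_cotangent_of_faithfullyFlat
    (hfin : Module.Finite (B ⧸ Je I B) (Je I B).Cotangent)
    (hproj : Module.Projective (B ⧸ Je I B) (Je I B).Cotangent) :
    Module.Projective (A ⧸ I) I.Cotangent := by
  have hff := faithfullyFlat_quotient (B := B) I
  have h1 : Module.Finite (B ⧸ Je I B) ((B ⧸ Je I B) ⊗[A ⧸ I] I.Cotangent) :=
    Module.Finite.equiv (cotBaseChangeEquiv (B := B) I).symm
  have h2 : Module.Projective (B ⧸ Je I B) ((B ⧸ Je I B) ⊗[A ⧸ I] I.Cotangent) :=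
    Module.Projective.of_equiv' (cotBaseChangeEquiv (B := B) I).symm
  exact projective_of_faithfullyFlat (T := B ⧸ Je I B) I.Cotangent

end projDescent

end Groth.Agent.Lib.Helper16.QRegFF
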