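import Mathlib
import Groth.Prelude.Def_CAlgX
import Groth.Prelude.Def_PP16
import Groth.Agent.Lib.Helper23.SymGrRegular
import Groth.Agent.Lib.Helper12.QuasiReg

/-!
# Locally quasi-regular ideals: injectivity of Sym → gr by a hands-on localization argument
-/

set_option autoImplicit false
universe u

namespace Groth.Agent.Lib.Helper16.QRegLoc

open MvPolynomial Groth.Agent.Lib.Helper23 Groth.Agent.Lib.Helper23.SymGrRegular

section byhand

variable {R : Type u} [CommRing R] (J : Ideal R) (g : R) {c : ℕ} (x : Fin c → J) (ι : Type u)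
  [Fintype ι]

/-- a symmetric tensor built from linear combinations of the `x̄_j` is `Good`. -/
lemma good_tprod_of_coeffs (p : ι → J.Cotangent) (a : ι → Fin c → R)
    (ha : ∀ i, p i = ∑ j, a i j • J.toCotangent (x j)) :
    Good J x ι (SymmetricPower.tprod R p) := by
  classical
  set Q : MvPolynomial (Fin c) R := ∑ r : ι → Fin c, monomial (mon r) (∏ i, a i (r i)) with hQdef
  have hQ : Q.IsHomogeneous (Fintype.card ι) :=
    IsHomogeneous.sum _ _ _ fun r _ => isHomogeneous_monomial _ (degree_mon r)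
  refine ⟨Q, hQ, ?_, ?_⟩
  · rw [hQdef, map_sum]
    have hp : p = fun i => ∑ j, a i j • J.toCotangent (x j) := funext ha
    rw [hp, MultilinearMap.map_sum]
    refine Finset.sum_congr rfl fun r _ => ?_
    rw [Psi_monomial, Td_mon, T]
    exact (MultilinearMap.map_smul_univ (SymmetricPower.tprod R) (fun i => a i (r i))
      (fun i => J.toCotangent (x (r i)))).symm
  · set y : ι → J := fun i => ∑ j, a i j • x j with hy
    have hpy : p = fun i => J.toCotangent (y i) := by
      funext i
      rw [ha i, hy, map_sum]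
      simp
    rw [hpy, SymGr.can_tprod, PP16.zetaJ]
    congr 1
    apply Subtype.ext
    change ∏ i, (y i : R) = eval (fun j => (x j : R)) Q
    have h1 : ∀ i, (y i : R) = ∑ j, a i j * (x j : R) := by
      intro i
      simp [hy]
    simp_rw [h1]
    rw [Finset.prod_univ_sum, hQdef, map_sum]
    rw [Fintype.piFinset_univ]
    refine Finset.sum_congr rfl fun r _ => ?_
    have : monomial (mon r) (∏ i, a i (r i)) = C (∏ i, a i (r i)) * monomial (mon r) 1 := by
      rw [C_mul_monomial, mul_one]
    rw [this, map_mul, eval_C, eval_monomial_mon, Finset.prod_mul_distrib]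

variable (H1 : ∀ y ∈ J, ∃ k : ℕ, g ^ k * y ∈ Ideal.span (Set.range fun j => (x j : R)))

include H1 in
lemma exists_coeffs_pow (p : J.Cotangent) :
    ∃ (k : ℕ) (a : Fin c → R), g ^ k • p = ∑ j, a j • J.toCotangent (x j) := by
  obtain ⟨y, rfl⟩ := J.toCotangent_surjective p
  obtain ⟨k, hk⟩ := H1 y y.2
  obtain ⟨a, ha⟩ := Ideal.mem_span_range_iff_exists_fun.1 hk
  refine ⟨k, a, ?_⟩
  have : g ^ k • y = ∑ j, a j • x j := by
    apply Subtype.ext
    simp [ha]
  rw [← map_smul, this, map_sum]
  simp

include H1 in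
lemma exists_coeffs_unif (p : ι → J.Cotangent) :
    ∃ (K : ℕ) (a : ι → Fin c → R), ∀ i, g ^ K • p i = ∑ j, a i j • J.toCotangent (x j) := by
  classical
  choose k a ha using fun i => exists_coeffs_pow J g x H1 (p i)
  refine ⟨∑ i, k i, fun i j => g ^ (∑ i', k i' - k i) * a i j, fun i => ?_⟩
  have hle : k i ≤ ∑ i', k i' := Finset.single_le_sum (fun _ _ => Nat.zero_le _) (Finset.mem_univ i)
  have : g ^ (∑ i', k i') = g ^ (∑ i', k i' - k i) * g ^ k i := by
    rw [← pow_add, Nat.sub_add_cancel hle]
  rw [this, mul_smul, ha i, Finset.smul_sum]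
  refine Finset.sum_congr rfl fun j _ => ?_
  rw [mul_smul]

/-- `g`-power version of `Good`. -/
def GoodG (z : SymmetricPower R ι J.Cotangent) : Prop :=
  ∃ k : ℕ, Good J x ι (g ^ k • z)

lemma goodG_add (z w : SymmetricPower R ι J.Cotangent) (hz : GoodG J g x ι z)
    (hw : GoodG J g x ι w) : GoodG J g x ι (z + w) := by
  obtain ⟨k, hk⟩ := hz
  obtain ⟨k', hk'⟩ := hw
  refine ⟨k + k', ?_⟩
  have : g ^ (k + k') • (z + w) = g ^ k' • (g ^ k • z) + g ^ k • (g ^ k' • w) := by
    rw [smul_add, smul_smul, smul_smul, ← pow_add, ← pow_add, add_comm k' k]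
  rw [this]
  exact good_add J x ι _ _ (good_smul J x ι _ _ hk) (good_smul J x ι _ _ hk')

lemma goodG_smul (a : R) (z : SymmetricPower R ι J.Cotangent) (hz : GoodG J g x ι z) :
    GoodG J g x ι (a • z) := by
  obtain ⟨k, hk⟩ := hz
  refine ⟨k, ?_⟩
  rw [smul_comm]
  exact good_smul J x ι _ _ hk

include H1 in
lemma goodG_tprod (p : ι → J.Cotangent) : GoodG J g x ι (SymmetricPower.tprod R p) := by
  obtain ⟨K, a, ha⟩ := exists_coeffs_unif J g x ι H1 p
  refine ⟨K * Fintype.card ι, ?_⟩
  have h1 : SymmetricPower.tprod R (fun i => g ^ K • p i) =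
      g ^ (K * Fintype.card ι) • SymmetricPower.tprod R p := by
    rw [MultilinearMap.map_smul_univ (SymmetricPower.tprod R) (fun _ => g ^ K) p]
    congr 1
    rw [Finset.prod_const, Finset.card_univ, ← pow_mul]
  rw [← h1]
  exact good_tprod_of_coeffs J x ι _ a ha

include H1 in
lemma goodG_all (z : SymmetricPower R ι J.Cotangent) : GoodG J g x ι z := by
  induction z using SymPow.induction_on with
  | tprod r p => exact goodG_smul J g x ι r _ (goodG_tprod J g x ι H1 p)
  | add a b ha hb => exact goodG_add J g x ι a b ha hb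

variable (H2 : ∀ (n : ℕ) (Q : MvPolynomial (Fin c) R), Q.IsHomogeneous n →
    eval (fun j => (x j : R)) Q ∈ J ^ (n + 1) → ∀ d, ∃ k : ℕ, g ^ k * Q.coeff d ∈ J)

include H2 in
lemma exists_unif_coeff (n : ℕ) (Q : MvPolynomial (Fin c) R) (hQ : Q.IsHomogeneous n)
    (hev : eval (fun j => (x j : R)) Q ∈ J ^ (n + 1)) : ∃ m : ℕ, ∀ d, g ^ m * Q.coeff d ∈ J := by
  classical
  choose k hk using H2 n Q hQ hev
  refine ⟨∑ d ∈ Q.support, k d, fun d => ?_⟩
  by_cases hd : d ∈ Q.support
  · have hle : k d ≤ ∑ d' ∈ Q.support, k d' :=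
      Finset.single_le_sum (fun _ _ => Nat.zero_le _) hd
    have : g ^ (∑ d' ∈ Q.support, k d') = g ^ (∑ d' ∈ Q.support, k d' - k d) * g ^ k d := by
      rw [← pow_add, Nat.sub_add_cancel hle]
    rw [this, mul_assoc]
    exact Ideal.mul_mem_left _ _ (hk d)
  · rw [notMem_support_iff.mp hd, mul_zero]
    exact zero_mem _

include H1 H2 in
/-- local injectivity up to powers of `g`. -/
theorem exists_pow_smul_eq_zero [Nonempty ι] (z : SymmetricPower R ι J.Cotangent)
    (hz : SymGr.can R J ι z = 0) : ∃ k : ℕ, g ^ k • z = 0 := by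
  obtain ⟨k, Q, hQ, h1, h2⟩ := goodG_all J g x ι H1 z
  rw [map_smul, hz, smul_zero, eq_comm, Submodule.Quotient.mk_eq_zero, Submodule.mem_comap,
    Submodule.subtype_apply] at h2
  obtain ⟨m, hm⟩ := exists_unif_coeff J g x H2 (Fintype.card ι) Q hQ h2
  refine ⟨m + k, ?_⟩
  rw [pow_add, mul_smul, ← h1, ← map_smul]
  apply Psi_eq_zero J x ι
  intro d
  rw [coeff_smul, smul_eq_mul]
  exact hm d

end byhand


section derive

variable {R : Type u} [CommRing R] (J : Ideal R) (g : R) {c : ℕ} (x : Fin c → J)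

lemma H1_of (hs : Ideal.span (Set.range fun j => algebraMap R (Localization.Away g) (x j)) =
      J.map (algebraMap R (Localization.Away g))) :
    ∀ y ∈ J, ∃ k : ℕ, g ^ k * y ∈ Ideal.span (Set.range fun j => (x j : R)) := by
  intro y hy
  have h1 : algebraMap R (Localization.Away g) y ∈
      (Ideal.span (Set.range fun j => (x j : R))).map (algebraMap R (Localization.Away g)) := by
    rw [Ideal.map_span, ← Set.range_comp]
    change _ ∈ Ideal.span (Set.range fun j => algebraMap R (Localization.Away g) (x j))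
    rw [hs]
    exact Ideal.mem_map_of_mem _ hy
  obtain ⟨m, ⟨k, rfl⟩, h⟩ :=
    (IsLocalization.algebraMap_mem_map_algebraMap_iff (Submonoid.powers g) _ _ _).mp h1
  exact ⟨k, h⟩

lemma H2_of (hq : CAlgX.IsQuasiRegular (fun j => algebraMap R (Localization.Away g) (x j)))
    (hs : Ideal.span (Set.range fun j => algebraMap R (Localization.Away g) (x j)) =
      J.map (algebraMap R (Localization.Away g))) :
    ∀ (n : ℕ) (Q : MvPolynomial (Fin c) R), Q.IsHomogeneous n →
      eval (fun j => (x j : R)) Q ∈ J ^ (n + 1) → ∀ d, ∃ k : ℕ, g ^ k * Q.coeff d ∈ J := by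
  intro n Q hQ hev d
  have h0 : eval (fun j => algebraMap R (Localization.Away g) (x j))
      (map (algebraMap R (Localization.Away g)) Q) ∈
      Ideal.span (Set.range fun j => algebraMap R (Localization.Away g) (x j)) ^ (n + 1) := by
    rw [hs, ← Ideal.map_pow]
    have := MvPolynomial.map_eval (algebraMap R (Localization.Away g)) (fun j => (x j : R)) Q
    change eval ((algebraMap R (Localization.Away g)) ∘ fun j => (x j : R)) _ ∈ _
    rw [← this]
    exact Ideal.mem_map_of_mem _ hev
  have h1 := hq n (map (algebraMap R (Localization.Away g)) Q) (hQ.map _) h0 d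
  rw [hs, coeff_map, IsLocalization.algebraMap_mem_map_algebraMap_iff (Submonoid.powers g)] at h1
  obtain ⟨m, ⟨k, rfl⟩, h⟩ := h1
  exact ⟨k, h⟩

/-- a quasi-regular generating family on `D(g)` may be taken from `J`. -/
lemma exists_normalized (r : ℕ) (f : Fin r → Localization.Away g) (hq : CAlgX.IsQuasiRegular f)
    (hs : Ideal.span (Set.range f) = J.map (algebraMap R (Localization.Away g))) :
    ∃ x : Fin r → J, CAlgX.IsQuasiRegular (fun j => algebraMap R (Localization.Away g) (x j)) ∧
      Ideal.span (Set.range fun j => algebraMap R (Localization.Away g) (x j)) =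
        J.map (algebraMap R (Localization.Away g)) := by
  have hmem : ∀ j, f j ∈ J.map (algebraMap R (Localization.Away g)) := fun j => by
    rw [← hs]; exact Ideal.subset_span ⟨j, rfl⟩
  choose ys hys using fun j =>
    (IsLocalization.mem_map_algebraMap_iff (Submonoid.powers g) (Localization.Away g)).mp (hmem j)
  have hspan : Ideal.span (Set.range fun j => algebraMap R (Localization.Away g) ((ys j).1 : R)) =
      Ideal.span (Set.range f) := by
    apply le_antisymm
    · rw [Ideal.span_le]
      rintro _ ⟨j, rfl⟩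
      change algebraMap R (Localization.Away g) ((ys j).1 : R) ∈ _
      rw [← hys j]
      exact Ideal.mul_mem_right _ _ (Ideal.subset_span ⟨j, rfl⟩)
    · rw [Ideal.span_le]
      rintro _ ⟨j, rfl⟩
      obtain ⟨u, hu⟩ := IsLocalization.map_units (Localization.Away g) (ys j).2
      have : f j = algebraMap R (Localization.Away g) ((ys j).1 : R) * (↑u⁻¹ : Localization.Away g) := by
        rw [← hys j, ← hu, mul_assoc, Units.mul_inv, mul_one]
      change f j ∈ _
      rw [this]
      exact Ideal.mul_mem_right _ _ (Ideal.subset_span ⟨j, rfl⟩)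
  refine ⟨fun j => (ys j).1, ?_, hspan.trans hs⟩
  exact Groth.Agent.Lib.Helper12.QR.isQuasiRegular_of_span_eq f _ hq hspan

end derive

section global

variable {R : Type u} [CommRing R] (J : Ideal R)

/-- for a locally quasi-regular ideal the canonical maps `Sym^n(J/J²) → J^n/J^{n+1}` are injective. -/
theorem can_injective_of_isLocallyQuasiRegular (h : PP16.IsLocallyQuasiRegular R J) (ι : Type u)
    [Fintype ι] [Nonempty ι] : Function.Injective (SymGr.can R J ι) := by
  rw [injective_iff_map_eq_zero]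
  intro z hz
  set 𝔞 : Ideal R := LinearMap.ker (LinearMap.toSpanSingleton R (SymmetricPower R ι J.Cotangent) z)
    with h𝔞
  have hmem : ∀ a : R, a ∈ 𝔞 ↔ a • z = 0 := fun a => by
    rw [h𝔞, LinearMap.mem_ker, LinearMap.toSpanSingleton_apply]
  by_cases htop : 𝔞 = ⊤
  · have : (1 : R) ∈ 𝔞 := by rw [htop]; trivial
    rw [hmem, one_smul] at this
    exact this
  · exfalso
    obtain ⟨P, hP, hle⟩ := Ideal.exists_le_maximal 𝔞 htop
    have hPp : P.IsPrime := hP.isPrime
    by_cases hJ : J ≤ P
    · obtain ⟨g, hg, r, f, hq, hs⟩ := h P hJ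
      obtain ⟨x, hqx, hsx⟩ := exists_normalized J g r f hq hs
      obtain ⟨k, hk⟩ := exists_pow_smul_eq_zero J g x ι (H1_of J g x hsx) (H2_of J g x hqx hsx) z hz
      exact hg (hPp.mem_of_pow_mem k (hle ((hmem _).mpr hk)))
    · obtain ⟨g, hgJ, hgP⟩ := Set.not_subset.mp hJ
      have : g • z = 0 :=
        SymPow.smul_eq_zero_of_forall g (fun m => Ideal.Cotangent.smul_eq_zero_of_mem hgJ m) z
      exact hgP (hle ((hmem _).mpr this))

end global

end Groth.Agent.Lib.Helper16.QRegLoc
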