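import Mathlib
import Groth.Prelude.Def_CAlgX
import Groth.Prelude.Def_PP16
import Groth.Agent.Lib.Helper12.QuasiReg
import Groth.Agent.Lib.Helper16.CotLoc1

/-!
# Locally quasi-regular ideals: finite generation and projectivity of the conormal module
-/

set_option autoImplicit false
set_option linter.unusedSectionVars false
universe u

namespace Groth.Agent.Lib.Helper16.QRegLoc

open Groth.Agent.Lib.Helper16.CotLoc

section fg

variable {R : Type u} [CommRing R] (J : Ideal R)

/-- locally quasi-regular ideals are finitely generated -/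
theorem fg_of_isLocallyQuasiRegular (h : PP16.IsLocallyQuasiRegular R J) : J.FG := by
  refine Ideal.fg_of_localizationSpan
    {b : R | (J.map (algebraMap R (Localization.Away b))).FG} ?_ (fun g => g.2)
  by_contra hne
  obtain ⟨𝔪, h𝔪, hle⟩ := Ideal.exists_le_maximal _ hne
  have : 𝔪.IsPrime := h𝔪.isPrime
  by_cases hJm : J ≤ 𝔪
  · obtain ⟨g, hg, r, f, _, hs⟩ := h 𝔪 hJm
    apply hg
    apply hle
    apply Ideal.subset_span
    show (J.map (algebraMap R (Localization.Away g))).FG
    rw [← hs]
    exact Submodule.fg_span (Set.finite_range f)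
  · obtain ⟨b, hbJ, hbm⟩ := SetLike.not_le_iff_exists.mp hJm
    apply hbm
    apply hle
    apply Ideal.subset_span
    show (J.map (algebraMap R (Localization.Away b))).FG
    have : J.map (algebraMap R (Localization.Away b)) = ⊤ :=
      Ideal.eq_top_of_isUnit_mem _ (Ideal.mem_map_of_mem _ hbJ)
        (IsLocalization.Away.algebraMap_isUnit b)
    rw [this]
    exact ⟨{1}, by simp⟩

end fg

section proj

variable {P : Type u} [CommRing P] (J : Ideal P)

attribute [local instance] modB

/-- quasi-regular generators give a finite free conormal module -/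
theorem free_cotangent_of_qreg (g : P) (r : ℕ) (f : Fin r → Localization.Away g)
    (hq : CAlgX.IsQuasiRegular f)
    (hs : Ideal.span (Set.range f) = Je J (Localization.Away g)) :
    Module.Free (Localization.Away g ⧸ Je J (Localization.Away g))
        (Je J (Localization.Away g)).Cotangent ∧
      Module.Finite (Localization.Away g ⧸ Je J (Localization.Away g))
        (Je J (Localization.Away g)).Cotangent := by
  have hmem : ∀ j, f j ∈ Je J (Localization.Away g) := fun j => by
    rw [← hs]; exact Ideal.subset_span ⟨j, rfl⟩
  obtain ⟨hli, hsp⟩ := Groth.Agent.Lib.Helper12.QR.cotangent_basis_of_isQuasiRegular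
    (Je J (Localization.Away g)) (fun j => ⟨f j, hmem j⟩) hq hs
  let b := Module.Basis.mk hli (by rw [hsp])
  exact ⟨Module.Free.of_basis b, Module.Finite.of_basis b⟩

theorem span_goodQ_eq_top (h : PP16.IsLocallyQuasiRegular P J) :
    Ideal.span {b : P ⧸ J | ∃ g : P, Ideal.Quotient.mk J g = b ∧ ∃ (r : ℕ)
      (f : Fin r → Localization.Away g), CAlgX.IsQuasiRegular f ∧
        Ideal.span (Set.range f) = Je J (Localization.Away g)} = ⊤ := by
  by_contra hne
  obtain ⟨𝔪, h𝔪, hle⟩ := Ideal.exists_le_maximal _ hne
  have hp : (𝔪.comap (Ideal.Quotient.mk J)).IsPrime := Ideal.comap_isPrime _ _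
  have hJle : J ≤ 𝔪.comap (Ideal.Quotient.mk J) := by
    intro x hx
    rw [Ideal.mem_comap, Ideal.Quotient.eq_zero_iff_mem.mpr hx]
    exact zero_mem _
  obtain ⟨g, hg, r, f, hq, hs⟩ := h _ hJle
  apply hg
  change Ideal.Quotient.mk J g ∈ 𝔪
  exact hle (Ideal.subset_span ⟨g, rfl, r, f, hq, hs⟩)

theorem projective_cotangent_of_isLocallyQuasiRegular (h : PP16.IsLocallyQuasiRegular P J) :
    Module.Projective (P ⧸ J) J.Cotangent := by
  have hs := span_goodQ_eq_top J h
  set s := {b : P ⧸ J | ∃ g : P, Ideal.Quotient.mk J g = b ∧ ∃ (r : ℕ)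
      (f : Fin r → Localization.Away g), CAlgX.IsQuasiRegular f ∧
        Ideal.span (Set.range f) = Je J (Localization.Away g)} with hsdef
  have hch : ∀ b : s, ∃ g : P, Ideal.Quotient.mk J g = b.1 ∧ ∃ (r : ℕ)
      (f : Fin r → Localization.Away g), CAlgX.IsQuasiRegular f ∧
        Ideal.span (Set.range f) = Je J (Localization.Away g) := fun b => b.2
  choose g hg r f hq hsf using hch
  have hloc : ∀ b : s, IsLocalization.Away b.1
      (Localization.Away (g b) ⧸ Je J (Localization.Away (g b))) := by
    intro b
    have : IsLocalization (Algebra.algebraMapSubmonoid (P ⧸ J) (Submonoid.powers (g b)))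
        (Localization.Away (g b) ⧸ Je J (Localization.Away (g b))) := inferInstance
    rw [Algebra.algebraMapSubmonoid_powers] at this
    rw [← hg b]
    exact this
  have hlm : ∀ b : s, IsLocalizedModule (Submonoid.powers b.1)
      (cotMapB J (Localization.Away (g b))) := by
    intro b
    have := cotMapB_isLocalizedModule J (Submonoid.powers (g b)) (Localization.Away (g b))
    rw [Algebra.algebraMapSubmonoid_powers] at this
    rw [← hg b]
    exact this
  have hfree : ∀ b : s, Module.Free (Localization.Away (g b) ⧸ Je J (Localization.Away (g b)))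
        (Je J (Localization.Away (g b))).Cotangent ∧
      Module.Finite (Localization.Away (g b) ⧸ Je J (Localization.Away (g b)))
        (Je J (Localization.Away (g b))).Cotangent :=
    fun b => free_cotangent_of_qreg J (g b) (r b) (f b) (hq b) (hsf b)
  have hfp : Module.FinitePresentation (P ⧸ J) J.Cotangent := by
    refine Module.FinitePresentation.of_localizationSpan' s hs
      (Rₚ := fun b => Localization.Away (g b) ⧸ Je J (Localization.Away (g b)))
      (Mₚ := fun b => (Je J (Localization.Away (g b))).Cotangent)
      (fun b => cotMapB J (Localization.Away (g b))) ?_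
    intro b
    obtain ⟨h1, h2⟩ := hfree b
    exact Module.finitePresentation_of_projective _ _
  have hflat : Module.Flat (P ⧸ J) J.Cotangent := by
    refine Module.flat_of_isLocalized_span (P ⧸ J) J.Cotangent s hs
      (fun b => (Je J (Localization.Away (g b))).Cotangent)
      (fun b => cotMapB J (Localization.Away (g b))) ?_
    intro b
    obtain ⟨h1, h2⟩ := hfree b
    have hfl : Module.Flat (P ⧸ J) (Localization.Away (g b) ⧸ Je J (Localization.Away (g b))) :=
      IsLocalization.flat _ (Submonoid.powers b.1)
    exact Module.Flat.trans (P ⧸ J) (Localization.Away (g b) ⧸ Je J (Localization.Away (g b))) _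
  exact Module.Flat.projective_of_finitePresentation

end proj

end Groth.Agent.Lib.Helper16.QRegLoc
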