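import Mathlib
import Groth.Prelude.Def_CAlgX
import Groth.Prelude.Def_PP16
import Groth.Agent.Lib.Helper16.QRegLoc4

/-!
# Locally quasi-regular ideals: clearing denominators, elementwise criterion, local data
-/

set_option autoImplicit false
set_option linter.unusedSectionVars false
universe u

namespace Groth.Agent.Lib.Helper16.QRegLoc

open MvPolynomial Groth.Agent.Lib.Helper16.CotLoc

section clear

variable {R : Type u} [CommRing R] (S : Submonoid R) (R' : Type u) [CommRing R'] [Algebra R R']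
  [IsLocalization S R'] {c : ℕ}

include S in
/-- clearing denominators of a homogeneous polynomial -/
theorem exists_clear_denominators (n : ℕ) (P' : MvPolynomial (Fin c) R') (hP' : P'.IsHomogeneous n) :
    ∃ (s : R) (_ : s ∈ S) (Q : MvPolynomial (Fin c) R), Q.IsHomogeneous n ∧
      map (algebraMap R R') Q = algebraMap R R' s • P' := by
  classical
  obtain ⟨⟨s, hs⟩, hint⟩ := IsLocalization.exist_integer_multiples S P'.support (fun d => P'.coeff d)
  choose! a ha using hint
  refine ⟨s, hs, ∑ d ∈ P'.support, monomial d (a d), ?_, ?_⟩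
  · refine IsHomogeneous.sum _ _ _ fun d hd => isHomogeneous_monomial _ ?_
    exact hP'.degree_eq_sum_deg_support hd ▸ rfl
  · rw [map_sum]
    conv_rhs => rw [P'.as_sum, Finset.smul_sum]
    refine Finset.sum_congr rfl fun d hd => ?_
    rw [map_monomial, ha d hd, smul_monomial]
    congr 1
    change (s : R) • P'.coeff d = _
    rw [Algebra.smul_def, smul_eq_mul]

end clear


section conv

variable {R : Type u} [CommRing R] (J : Ideal R) (S : Submonoid R) (R' : Type u) [CommRing R']
  [Algebra R R'] [IsLocalization S R'] {c : ℕ} (x : Fin c → J)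

include S in
/-- elementwise generation and quasi-regularity up to `S` give a quasi-regular generating family in
the localization -/
theorem isQuasiRegular_of_H1_H2
    (H1 : ∀ y ∈ J, ∃ s ∈ S, s * y ∈ Ideal.span (Set.range fun j => (x j : R)))
    (H2 : ∀ (n : ℕ) (Q : MvPolynomial (Fin c) R), Q.IsHomogeneous n →
      eval (fun j => (x j : R)) Q ∈ J ^ (n + 1) → ∀ d, ∃ s ∈ S, s * Q.coeff d ∈ J) :
    CAlgX.IsQuasiRegular (fun j => algebraMap R R' (x j)) ∧
      Ideal.span (Set.range fun j => algebraMap R R' (x j)) = Je J R' := by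
  have hs : Ideal.span (Set.range fun j => algebraMap R R' (x j)) = Je J R' :=
    span_xe_eq J S R' x H1
  refine ⟨?_, hs⟩
  intro n P' hP' hev d
  rw [hs] at hev ⊢
  obtain ⟨s, hsS, Q, hQ, hmap⟩ := exists_clear_denominators S R' n P' hP'
  have h1 : algebraMap R R' (eval (fun j => (x j : R)) Q) ∈ (Je J R') ^ (n + 1) := by
    rw [MvPolynomial.map_eval, hmap, smul_eval]
    exact Ideal.mul_mem_left _ _ hev
  rw [Je, ← Ideal.map_pow, IsLocalization.algebraMap_mem_map_algebraMap_iff S] at h1
  obtain ⟨t, ht, hta⟩ := h1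
  have h2 : eval (fun j => (x j : R)) (C t * Q) ∈ J ^ (n + 1) := by
    rw [map_mul, eval_C]
    exact hta
  obtain ⟨w, hw, hwa⟩ := H2 n (C t * Q) (hQ.C_mul t) h2 d
  rw [coeff_C_mul, ← mul_assoc] at hwa
  have h3 : algebraMap R R' (Q.coeff d) ∈ Je J R' := by
    rw [Je, IsLocalization.algebraMap_mem_map_algebraMap_iff S]
    exact ⟨w * t, S.mul_mem hw ht, hwa⟩
  have h4 : algebraMap R R' s * P'.coeff d ∈ Je J R' := by
    have := congrArg (fun p => p.coeff d) hmap
    simp only [coeff_map, coeff_smul, smul_eq_mul] at this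
    rw [← this]
    exact h3
  obtain ⟨u, hu⟩ := IsLocalization.map_units R' (⟨s, hsS⟩ : S)
  change (u : R') = algebraMap R R' s at hu
  have h5 : P'.coeff d = (↑u⁻¹ : R') * (algebraMap R R' s * P'.coeff d) := by
    rw [← hu, ← mul_assoc, Units.inv_mul, one_mul]
  rw [h5]
  exact Ideal.mul_mem_left _ _ h4

end conv


section localData

variable {R : Type u} [CommRing R] (J : Ideal R)

/-- local generation/independence data at a prime for a finitely generated ideal with projective
conormal module -/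
theorem exists_local_data (hfg : J.FG) (hproj : Module.Projective (R ⧸ J) J.Cotangent)
    (P : Ideal R) [hP : P.IsPrime] (hJP : J ≤ P) :
    ∃ (g : R) (_ : g ∉ P) (c : ℕ) (x : Fin c → J),
      (∀ y ∈ J, g * y ∈ Ideal.span (Set.range fun j => (x j : R))) ∧
      (∀ a : Fin c → R, ∑ j, a j * (x j : R) ∈ J ^ 2 →
        ∀ j, ∃ s ∈ Submonoid.powers g, s * a j ∈ J) := by
  have h𝔭 : (P.map (Ideal.Quotient.mk J)).IsPrime :=
    Ideal.map_isPrime_of_surjective Ideal.Quotient.mk_surjective (by rw [Ideal.mk_ker]; exact hJP)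
  have hcomap : (P.map (Ideal.Quotient.mk J)).comap (Ideal.Quotient.mk J) = P := by
    rw [Ideal.comap_map_of_surjective _ Ideal.Quotient.mk_surjective, ← RingHom.ker_eq_comap_bot,
      Ideal.mk_ker, sup_eq_left]
    exact hJP
  obtain ⟨c, x, hli, hsp⟩ := exists_local_basis J hfg hproj (P.map (Ideal.Quotient.mk J))
  obtain ⟨g₀, hg₀, hC1⟩ := exists_C1 J hfg (P.map (Ideal.Quotient.mk J)) x hsp
  obtain ⟨r, hr, hC2⟩ := exists_C2 J hfg hproj (P.map (Ideal.Quotient.mk J)) x hli hsp
  obtain ⟨g₁, rfl⟩ := Ideal.Quotient.mk_surjective r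
  have hg₁ : g₁ ∉ P := by
    rw [← hcomap]
    exact hr
  rw [hcomap] at hg₀
  refine ⟨g₀ * g₁, ?_, c, x, ?_, ?_⟩
  · intro hmem
    rcases hP.mem_or_mem hmem with h | h
    · exact hg₀ h
    · exact hg₁ h
  · intro y hy
    rw [mul_comm g₀ g₁, mul_assoc]
    exact Ideal.mul_mem_left _ _ (hC1 y hy)
  · intro a ha j
    obtain ⟨k, hk⟩ := hC2 (g₀ * g₁) (by rw [map_mul]; exact Dvd.intro_left _ rfl) a ha j
    exact ⟨(g₀ * g₁) ^ k, ⟨k, rfl⟩, hk⟩

end localData

end Groth.Agent.Lib.Helper16.QRegLoc
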