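import Mathlib
import Groth.Prelude.Def_CAlgX
import Groth.Prelude.Def_PP16
import Groth.Agent.Lib.Helper16.QRegLoc1
import Groth.Agent.Lib.Helper16.QRegLoc2
import Groth.Agent.Lib.Helper16.QRegLoc5
import Groth.Agent.Lib.Helper16.QRegFF1

/-!
# Faithfully flat descent of locally quasi-regular ideals
-/

set_option autoImplicit false
set_option linter.unusedSectionVars false
universe u

namespace Groth.Agent.Lib.Helper16.QRegFF

open MvPolynomial Groth.Agent.Lib.Helper16.CotLoc Groth.Agent.Lib.Helper16.QRegLoc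

/-- faithfully flat descent of locally quasi-regular ideals -/
theorem isLocallyQuasiRegular_of_faithfullyFlat (A B : Type u) [CommRing A] [CommRing B]
    [Algebra A B] [Module.FaithfullyFlat A B] (I : Ideal A)
    (h : PP16.IsLocallyQuasiRegular B (Ideal.map (algebraMap A B) I)) :
    PP16.IsLocallyQuasiRegular A I := by
  have hfgB : (Je I B).FG := fg_of_isLocallyQuasiRegular _ h
  have hfg : I.FG := Ideal.FG.of_FG_map_of_faithfullyFlat hfgB
  have hprojB : Module.Projective (B ⧸ Je I B) (Je I B).Cotangent :=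
    projective_cotangent_of_isLocallyQuasiRegular _ h
  have hfinB : Module.Finite (B ⧸ Je I B) (Je I B).Cotangent := finite_cotangent_of_fg _ hfgB
  have hproj : Module.Projective (A ⧸ I) I.Cotangent :=
    projective_cotangent_of_faithfullyFlat I hfinB hprojB
  have hinjB : ∀ (ι : Type u) [Fintype ι] [Nonempty ι],
      Function.Injective (Groth.Agent.Lib.Helper23.SymGr.can B (Je I B) ι) :=
    fun ι _ _ => can_injective_of_isLocallyQuasiRegular _ h ι
  intro P hP hIP
  obtain ⟨g, hg, c, x, C1, C2⟩ := exists_local_data I hfg hproj P hIP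
  refine ⟨g, hg, c, fun j => algebraMap A _ (x j), ?_⟩
  obtain ⟨hqB, hsB⟩ := isQuasiRegular_xe (Je I B) (Submonoid.powers (algebraMap A B g))
    (Localization.Away (algebraMap A B g)) (xe I B x) (C1_baseChange I g x C1)
    (C2_baseChange I g x C2) hinjB
  have H2B := H2_of (Je I B) (algebraMap A B g) (xe I B x) hqB hsB
  apply isQuasiRegular_of_H1_H2 I (Submonoid.powers g) (Localization.Away g) x
  · intro y hy
    exact ⟨g, ⟨1, pow_one _⟩, C1 y hy⟩
  · intro n Q hQ hev d
    have h1 : eval (fun j => ((xe I B x j : Je I B) : B)) (map (algebraMap A B) Q) ∈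
        (Je I B) ^ (n + 1) := by
      have := MvPolynomial.map_eval (algebraMap A B) (fun j => (x j : A)) Q
      change eval ((algebraMap A B) ∘ fun j => (x j : A)) _ ∈ _
      rw [← this]
      change _ ∈ (I.map (algebraMap A B)) ^ (n + 1)
      rw [← Ideal.map_pow]
      exact Ideal.mem_map_of_mem _ hev
    obtain ⟨k, hk⟩ := H2B n (map (algebraMap A B) Q) (hQ.map _) h1 d
    rw [coeff_map, ← map_pow, ← map_mul] at hk
    have h2 : g ^ k * Q.coeff d ∈ (I.map (algebraMap A B)).comap (algebraMap A B) := hk
    rw [Ideal.comap_map_eq_self_of_faithfullyFlat] at h2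
    exact ⟨g ^ k, ⟨k, rfl⟩, h2⟩

end Groth.Agent.Lib.Helper16.QRegFF
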