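import Mathlib
import Groth.Prelude.Def_CAlgX
import Groth.Prelude.Def_PP16
import Groth.Agent.Lib.Helper16.H1Loc3
import Groth.Agent.Lib.Helper16.QRegFF2
import Groth.Agent.Helper19.RegImmBC3
import Groth.Agent.Helper19.Conormal8

/-!
# Faithfully flat descent of locally H_1-regular ideals
-/

set_option autoImplicit false
set_option linter.unusedSectionVars false
set_option linter.unusedVariables false
set_option linter.dupNamespace false
universe u

namespace Groth.Agent.Lib.Helper16.H1Loc

open MvPolynomial Groth.Agent.Lib.Helper16.CotLoc Groth.Agent.Lib.Helper16.QRegLoc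
  Groth.Agent.Lib.Helper16.QRegFF

/-- local data produced by faithfully flat descent of locally quasi-regular ideals -/
theorem exists_qreg_data (A B : Type u) [CommRing A] [CommRing B]
    [Algebra A B] [Module.FaithfullyFlat A B] (I : Ideal A)
    (h : PP16.IsLocallyQuasiRegular B (Ideal.map (algebraMap A B) I))
    (P : Ideal A) [P.IsPrime] (hIP : I ≤ P) :
    ∃ (g : A) (_ : g ∉ P) (c : ℕ) (x : Fin c → I),
      (∀ y ∈ I, g * y ∈ Ideal.span (Set.range fun j => (x j : A))) ∧
      (CAlgX.IsQuasiRegular (fun j => algebraMap A (Localization.Away g) (x j)) ∧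
        Ideal.span (Set.range fun j => algebraMap A (Localization.Away g) (x j)) =
          I.map (algebraMap A (Localization.Away g))) ∧
      (CAlgX.IsQuasiRegular (fun j => algebraMap B (Localization.Away (algebraMap A B g))
          (algebraMap A B (x j))) ∧
        Ideal.span (Set.range fun j => algebraMap B (Localization.Away (algebraMap A B g))
          (algebraMap A B (x j))) =
          (I.map (algebraMap A B)).map (algebraMap B (Localization.Away (algebraMap A B g)))) := by
  have hfgB : (Je I B).FG := fg_of_isLocallyQuasiRegular _ h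
  have hfg : I.FG := Ideal.FG.of_FG_map_of_faithfullyFlat hfgB
  have hprojB : Module.Projective (B ⧸ Je I B) (Je I B).Cotangent :=
    projective_cotangent_of_isLocallyQuasiRegular _ h
  have hfinB : Module.Finite (B ⧸ Je I B) (Je I B).Cotangent := finite_cotangent_of_fg _ hfgB
  have hproj : Module.Projective (A ⧸ I) I.Cotangent :=
    projective_cotangent_of_faithfullyFlat I hfinB hprojB
  have hinjB : ∀ (ι : Type u) [Fintype ι] [Nonempty ι],
      Function.Injective (Groth.Agent.Lib.Helper23.SymGr.can B (Je I B) ι) :=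
    fun ι _ _ => can_injective_of_isLocallyQuasiRegular _ h ι
  obtain ⟨g, hg, c, x, C1, C2⟩ := exists_local_data I hfg hproj P hIP
  obtain ⟨hqB, hsB⟩ := isQuasiRegular_xe (Je I B) (Submonoid.powers (algebraMap A B g))
    (Localization.Away (algebraMap A B g)) (xe I B x) (C1_baseChange I g x C1)
    (C2_baseChange I g x C2) hinjB
  have H2B := H2_of (Je I B) (algebraMap A B g) (xe I B x) hqB hsB
  refine ⟨g, hg, c, x, C1, ?_, ⟨hqB, hsB⟩⟩
  apply isQuasiRegular_of_H1_H2 I (Submonoid.powers g) (Localization.Away g) x
  · intro y hy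
    exact ⟨g, ⟨1, pow_one _⟩, C1 y hy⟩
  · intro n Q hQ hev d
    have h1 : eval (fun j => ((xe I B x j : Je I B) : B)) (map (algebraMap A B) Q) ∈
        (Je I B) ^ (n + 1) := by
      have := MvPolynomial.map_eval (algebraMap A B) (fun j => (x j : A)) Q
      change eval ((algebraMap A B) ∘ fun j => (x j : A)) _ ∈ _
      rw [← this]
      change _ ∈ (I.map (algebraMap A B)) ^ (n + 1)
      rw [← Ideal.map_pow]
      exact Ideal.mem_map_of_mem _ hev
    obtain ⟨k, hk⟩ := H2B n (map (algebraMap A B) Q) (hQ.map _) h1 d
    rw [coeff_map, ← map_pow, ← map_mul] at hk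
    have h2 : g ^ k * Q.coeff d ∈ (I.map (algebraMap A B)).comap (algebraMap A B) := hk
    rw [Ideal.comap_map_eq_self_of_faithfullyFlat] at h2
    exact ⟨g ^ k, ⟨k, rfl⟩, h2⟩

/-- An ideal `J` is locally generated by `H_1`-regular sequences. -/
def IsLocallyH1Regular (R : Type u) [CommRing R] (J : Ideal R) : Prop :=
  ∀ (P : Ideal R) [P.IsPrime], J ≤ P → ∃ g : R, g ∉ P ∧ ∃ (r : ℕ) (f : Fin r → Localization.Away g),
    CAlgX.IsH1Regular f ∧ Ideal.span (Set.range f) = J.map (algebraMap R (Localization.Away g))

/-- two quasi-regular generating sequences of a proper ideal have the same length -/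
theorem length_eq_of_isQuasiRegular {T : Type u} [CommRing T] (J : Ideal T) (hJ : J ≠ ⊤)
    {c c' : ℕ} (x : Fin c → T) (y : Fin c' → T) (hx : CAlgX.IsQuasiRegular x)
    (hy : CAlgX.IsQuasiRegular y) (hsx : Ideal.span (Set.range x) = J)
    (hsy : Ideal.span (Set.range y) = J) : c = c' := by
  have hxJ : ∀ i, x i ∈ J := fun i => hsx ▸ Ideal.subset_span ⟨i, rfl⟩
  have hyJ : ∀ i, y i ∈ J := fun i => hsy ▸ Ideal.subset_span ⟨i, rfl⟩
  obtain ⟨hli, hsp⟩ := Groth.Agent.Lib.Helper12.QR.cotangent_basis_of_isQuasiRegular J
    (fun i => (⟨x i, hxJ i⟩ : J)) hx hsx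
  obtain ⟨hli', hsp'⟩ := Groth.Agent.Lib.Helper12.QR.cotangent_basis_of_isQuasiRegular J
    (fun i => (⟨y i, hyJ i⟩ : J)) hy hsy
  have : Nontrivial (T ⧸ J) := Ideal.Quotient.nontrivial_iff.mpr hJ
  let b : Module.Basis (Fin c) (T ⧸ J) J.Cotangent := Module.Basis.mk hli (by rw [hsp])
  let b' : Module.Basis (Fin c') (T ⧸ J) J.Cotangent := Module.Basis.mk hli' (by rw [hsp'])
  have := Fintype.card_congr (b.indexEquiv b')
  simpa using this

/-- over a local ring, a quasi-regular generating sequence of an ideal generated by an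
`H_1`-regular sequence is `H_1`-regular -/
theorem isH1Regular_of_isQuasiRegular_of_span_eq {T : Type u} [CommRing T] [IsLocalRing T]
    {c c' : ℕ} (x : Fin c → T) (y : Fin c' → T) (hx : CAlgX.IsQuasiRegular x)
    (hy : CAlgX.IsH1Regular y) (hs : Ideal.span (Set.range x) = Ideal.span (Set.range y)) :
    CAlgX.IsH1Regular x := by
  by_cases hJ : Ideal.span (Set.range x) = ⊤
  · exact isH1Regular_of_span_eq_top x hJ
  · have hyq := Groth.Agent.Lib.Helper11.QReg.isQuasiRegular_of_isH1Regular y hy
    have hcc : c' = c := length_eq_of_isQuasiRegular _ hJ y x hyq hx hs.symm rfl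
    subst hcc
    set J := Ideal.span (Set.range x) with hJdef
    have hxJ : ∀ i, x i ∈ J := fun i => Ideal.subset_span ⟨i, rfl⟩
    have hyJ : ∀ i, y i ∈ J := fun i => hs ▸ Ideal.subset_span ⟨i, rfl⟩
    obtain ⟨hli, hsp⟩ := Groth.Agent.Lib.Helper12.QR.cotangent_basis_of_isQuasiRegular J
      (fun i => (⟨y i, hyJ i⟩ : J)) hyq hs.symm
    obtain ⟨g, hg⟩ := exists_unit_mulVec_eq' J hJ (fun i => (⟨y i, hyJ i⟩ : J))
      (fun i => (⟨x i, hxJ i⟩ : J)) hli hsp hs.symm rfl
    have := isH1Regular_mulVec_unit g y hy
    rwa [show g.val.mulVec y = x from hg] at this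

/-- **Faithfully flat descent of locally `H_1`-regular ideals.** -/
theorem isLocallyH1Regular_of_faithfullyFlat (A B : Type u) [CommRing A] [CommRing B]
    [Algebra A B] [Module.FaithfullyFlat A B] (I : Ideal A)
    (h : IsLocallyH1Regular B (Ideal.map (algebraMap A B) I)) : IsLocallyH1Regular A I := by
  have hq : PP16.IsLocallyQuasiRegular B (Ideal.map (algebraMap A B) I) := by
    intro Q _ hQ
    obtain ⟨g, hg, r, f, hf, hs⟩ := h Q hQ
    exact ⟨g, hg, r, f, Groth.Agent.Lib.Helper11.QReg.isQuasiRegular_of_isH1Regular f hf, hs⟩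
  intro P _ hIP
  obtain ⟨g, hg, c, x, C1, ⟨hqA, hsA⟩, ⟨hqB, hsB⟩⟩ := exists_qreg_data A B I hq P hIP
  refine ⟨g, hg, c, fun j => algebraMap A _ (x j), ?_, hsA⟩
  apply isH1Regular_of_h1Loc (Submonoid.powers g) (Localization.Away g) (fun j => (x j : A))
  -- upstairs
  have hup : H1Loc (fun j => algebraMap A B (x j)) (Submonoid.powers (algebraMap A B g)) := by
    apply h1Loc_powers_of_forall_prime
    intro q _ hgq
    by_cases hle : I.map (algebraMap A B) ≤ q
    · obtain ⟨b, hb, c', y, hy, hsy⟩ := h q hle
      obtain ⟨ψ1, hψ1fl, hψ1⟩ := exists_flat_away_atPrime q (algebraMap A B g) hgq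
      obtain ⟨ψ2, hψ2fl, hψ2⟩ := exists_flat_away_atPrime q b hb
      -- `x` in the local ring
      have hxT : CAlgX.IsQuasiRegular
          (fun j => algebraMap B (Localization.AtPrime q) (algebraMap A B (x j))) := by
        let _ := ψ1.toAlgebra
        have : Module.Flat (Localization.Away (algebraMap A B g)) (Localization.AtPrime q) := hψ1fl
        have h1 := Groth.Agent.Helper19.RegImmBC.isQuasiRegular_of_flat
          (B := Localization.AtPrime q) _ hqB
        have h2 : (fun j => algebraMap B (Localization.AtPrime q) (algebraMap A B (x j))) =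
            fun k => algebraMap (Localization.Away (algebraMap A B g)) (Localization.AtPrime q)
              (algebraMap B (Localization.Away (algebraMap A B g)) (algebraMap A B (x k))) := by
          funext j
          exact (hψ1 _).symm
        rw [h2]
        exact h1
      have hsxT : Ideal.span (Set.range
          fun j => algebraMap B (Localization.AtPrime q) (algebraMap A B (x j))) =
          (I.map (algebraMap A B)).map (algebraMap B (Localization.AtPrime q)) := by
        have h1 := congrArg (Ideal.map ψ1) hsB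
        rw [Ideal.map_span, Ideal.map_map, ← Set.range_comp] at h1
        have h2 : ψ1.comp (algebraMap B (Localization.Away (algebraMap A B g))) =
            algebraMap B (Localization.AtPrime q) := RingHom.ext hψ1
        rw [h2] at h1
        rw [← h1]
        congr 2
        funext j
        exact (hψ1 _).symm
      -- `y` in the local ring
      have hyT : CAlgX.IsH1Regular (fun j => ψ2 (y j)) := by
        let _ := ψ2.toAlgebra
        have : Module.Flat (Localization.Away b) (Localization.AtPrime q) := hψ2fl
        exact Groth.Agent.Helper19.OmegaAlg.isH1Regular_of_flat (R' := Localization.AtPrime q) y hy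
      have hsyT : Ideal.span (Set.range fun j => ψ2 (y j)) =
          (I.map (algebraMap A B)).map (algebraMap B (Localization.AtPrime q)) := by
        have h1 := congrArg (Ideal.map ψ2) hsy
        rw [Ideal.map_span, Ideal.map_map, ← Set.range_comp] at h1
        have h2 : ψ2.comp (algebraMap B (Localization.Away b)) =
            algebraMap B (Localization.AtPrime q) := RingHom.ext hψ2
        rw [h2] at h1
        exact h1
      have hxH : CAlgX.IsH1Regular
          (fun j => algebraMap B (Localization.AtPrime q) (algebraMap A B (x j))) :=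
        isH1Regular_of_isQuasiRegular_of_span_eq _ _ hxT hyT (hsxT.trans hsyT.symm)
      exact h1Loc_of_isH1Regular q.primeCompl (Localization.AtPrime q) _ hxH
    · -- the ideal is the unit ideal near `q`
      obtain ⟨y, hyI, hyq⟩ : ∃ y ∈ I, algebraMap A B y ∉ q := by
        by_contra hcon
        apply hle
        rw [Ideal.map_le_iff_le_comap]
        intro y hy
        by_contra hyq
        exact hcon ⟨y, hy, hyq⟩
      intro a ha
      refine ⟨algebraMap A B (g * y), ?_, ?_⟩
      · show algebraMap A B (g * y) ∉ q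
        rw [map_mul]
        intro hmem
        rcases Ideal.IsPrime.mem_or_mem inferInstance hmem with h1 | h1
        · exact hgq h1
        · exact hyq h1
      · apply smul_mem_kos_of_mem_span _ a ha
        have h1 := Ideal.mem_map_of_mem (algebraMap A B) (C1 y hyI)
        rw [Ideal.map_span, ← Set.range_comp] at h1
        exact h1
  intro a ha
  have ha' : ∑ i, algebraMap A B (a i) * algebraMap A B (x i) = 0 := by
    simp only [← map_mul, ← map_sum, ha, map_zero]
  obtain ⟨s, ⟨k, rfl⟩, hs⟩ := hup _ ha'
  refine ⟨g ^ k, ⟨k, rfl⟩, ?_⟩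
  apply mem_kos_of_faithfullyFlat (B := B)
  have h1 : (fun i => algebraMap A B ((g ^ k • a) i)) =
      (algebraMap A B g) ^ k • fun i => algebraMap A B (a i) := by
    funext i
    simp only [Pi.smul_apply, smul_eq_mul, map_mul, map_pow]
  rw [h1]
  exact hs

end Groth.Agent.Lib.Helper16.H1Loc
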