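import Mathlib.AlgebraicGeometry.Morphisms.Immersion
import Mathlib.AlgebraicGeometry.Properties
import Mathlib.AlgebraicGeometry.IdealSheaf.Functorial
import Mathlib.AlgebraicGeometry.Morphisms.ClosedImmersion

set_option autoImplicit false

namespace Groth.Agent.Lib.Helper16

open AlgebraicGeometry CategoryTheory

universe u

theorem isReduced_subscheme_vanishingIdeal {X : Scheme.{u}} (Z : TopologicalSpace.Closeds X) :
    IsReduced (Scheme.IdealSheafData.vanishingIdeal Z).subscheme := by
  set I := Scheme.IdealSheafData.vanishingIdeal Z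
  have : ∀ U, IsReduced (I.subschemeCover.openCover.X U) := by
    intro U
    change IsReduced (Spec (.of (Γ(X, U.1) ⧸ I.ideal U)))
    rw [affine_isReduced_iff]
    change _root_.IsReduced (Γ(X, U.1) ⧸ I.ideal U)
    rw [← Ideal.isRadical_iff_quotient_reduced, Scheme.IdealSheafData.vanishingIdeal_ideal]
    exact PrimeSpectrum.isRadical_vanishingIdeal _
  exact IsReduced.of_openCover _ I.subschemeCover.openCover

theorem ker_eq_vanishingIdeal_of_isReduced {W X : Scheme.{u}} [IsReduced W] (s : W ⟶ X) :
    s.ker = Scheme.IdealSheafData.vanishingIdeal ⟨closure (Set.range s), isClosed_closure⟩ := by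
  rw [← Scheme.IdealSheafData.map_bot, ← Scheme.nilradical_eq_bot,
    ← Scheme.IdealSheafData.vanishingIdeal_top, Scheme.IdealSheafData.map_vanishingIdeal]
  congr 1
  ext1
  simp

/-- two reduced closed immersions with the same range are isomorphic -/
theorem exists_iso_of_closedImmersion_reduced {Y Y' V : Scheme.{u}} (j : Y ⟶ V) (j' : Y' ⟶ V)
    [IsClosedImmersion j] [IsClosedImmersion j'] [IsReduced Y] [IsReduced Y']
    (h : Set.range j = Set.range j') : ∃ e : Y ≅ Y', e.hom ≫ j' = j := by
  have hker : j'.ker = j.ker := by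
    rw [ker_eq_vanishingIdeal_of_isReduced, ker_eq_vanishingIdeal_of_isReduced]
    congr 2
    rw [h]
  have := IsClosedImmersion.isIso_lift j' j hker
  exact ⟨asIso (IsClosedImmersion.lift j' j hker.le), by simp⟩

end Groth.Agent.Lib.Helper16
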