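import Mathlib
import Groth.Prelude.Def_CAlgX
import Groth.Prelude.Def_PP16
import Groth.Prelude.Def_RegImm
import Groth.Agent.Lib.Helper16.H1Loc4
import Groth.Agent.Lib.Helper16.KzLoc5
import Groth.Agent.Helper19.RegImmBC3

/-!
# Ring-level descent of ideals locally generated by Koszul, H_1 or quasi-regular sequences
-/

set_option autoImplicit false
set_option linter.unusedSectionVars false
set_option linter.unusedVariables false
universe u

namespace Groth.Agent.Lib.Helper16.RegDesc

open Groth.Agent.Helper19.RegImmBC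

/-- transport of generating sequences between two localizations away from `g` -/
theorem exists_seq_of_isLocalizationAway (k : RegImm.Kind) {R : Type u} [CommRing R] (g : R)
    (T T' : Type u) [CommRing T] [CommRing T'] [Algebra R T] [Algebra R T']
    [IsLocalization.Away g T] [IsLocalization.Away g T'] (J : Ideal R)
    (hJ : J.map (algebraMap R T') ≠ ⊤) (l : List T) (hl : k.Seq T l)
    (hJl : J.map (algebraMap R T) = Ideal.ofList l) :
    ∃ l' : List T', k.Seq T' l' ∧ J.map (algebraMap R T') = Ideal.ofList l' := by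
  let e : T ≃ₐ[R] T' := IsLocalization.algEquiv (Submonoid.powers g) T T'
  have hfl : (e : T →+* T').Flat := RingHom.Flat.of_bijective e.bijective
  have hmap : J.map (algebraMap R T') = Ideal.ofList (l.map (e : T →+* T')) := by
    rw [← Ideal.map_ofList, ← hJl, Ideal.map_map]
    congr 1
    ext x
    exact (e.commutes x).symm
  refine ⟨l.map (e : T →+* T'), kindFlatStable k _ hfl l hl ?_, hmap⟩
  rw [← hmap]
  exact hJ

/-- the ideal `J` is, locally around every prime containing it, generated by a sequence of
kind `k` -/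
def LocK (k : RegImm.Kind) (R : Type u) [CommRing R] (J : Ideal R) : Prop :=
  ∀ (P : Ideal R) [P.IsPrime], J ≤ P → ∃ g : R, g ∉ P ∧ ∃ l : List (Localization.Away g),
    k.Seq (Localization.Away g) l ∧ J.map (algebraMap R (Localization.Away g)) = Ideal.ofList l

lemma span_range_get {T : Type u} [CommRing T] (l : List T) :
    Ideal.span (Set.range l.get) = Ideal.ofList l := by
  unfold Ideal.ofList
  congr 1
  ext x
  simp only [Set.mem_range, Set.mem_ofPred_eq]
  exact List.mem_iff_get.symm

lemma ofList_ofFn {T : Type u} [CommRing T] {r : ℕ} (f : Fin r → T) :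
    Ideal.ofList (List.ofFn f) = Ideal.span (Set.range f) := by
  unfold Ideal.ofList
  congr 1
  ext x
  simp only [Set.mem_range, Set.mem_ofPred_eq, List.mem_ofFn]

lemma ofFn_get_cast {T : Type u} {r : ℕ} (f : Fin r → T) (i : Fin r) :
    (List.ofFn f).get (Fin.cast (List.length_ofFn (f := f)).symm i) = f i := by
  simp

section descent

variable (A B : Type u) [CommRing A] [CommRing B] [Algebra A B] [Module.FaithfullyFlat A B]

theorem locK_h1_iff {R : Type u} [CommRing R] (J : Ideal R) :
    LocK .h1 R J ↔ Groth.Agent.Lib.Helper16.H1Loc.IsLocallyH1Regular R J := by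
  constructor
  · intro h P _ hP
    obtain ⟨g, hg, l, hl, hJl⟩ := h P hP
    exact ⟨g, hg, l.length, l.get, hl, by rw [span_range_get, hJl]⟩
  · intro h P _ hP
    obtain ⟨g, hg, r, f, hf, hs⟩ := h P hP
    refine ⟨g, hg, List.ofFn f, ?_, by rw [ofList_ofFn, hs]⟩
    exact isH1Regular_reindex (List.length_ofFn (f := f)).symm f _ (ofFn_get_cast f) hf

theorem locK_quasi_iff {R : Type u} [CommRing R] (J : Ideal R) :
    LocK .quasi R J ↔ PP16.IsLocallyQuasiRegular R J := by
  constructor
  · intro h P _ hP
    obtain ⟨g, hg, l, hl, hJl⟩ := h P hP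
    exact ⟨g, hg, l.length, l.get, hl, by rw [span_range_get, hJl]⟩
  · intro h P _ hP
    obtain ⟨g, hg, r, f, hf, hs⟩ := h P hP
    refine ⟨g, hg, List.ofFn f, ?_, by rw [ofList_ofFn, hs]⟩
    exact isQuasiRegular_reindex (List.length_ofFn (f := f)).symm f _ (ofFn_get_cast f) hf

theorem locK_koszul_iff {R : Type u} [CommRing R] (J : Ideal R) :
    LocK .koszul R J ↔ LCI.IsKoszulRegularIdeal J := by
  constructor
  · intro h 𝔭 h𝔭
    obtain ⟨g, hg, l, hl, hJl⟩ := h 𝔭.asIdeal h𝔭
    exact ⟨g, hg, l, hl, hJl⟩
  · intro h P _ hP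
    obtain ⟨g, hg, l, hl, hJl⟩ := h ⟨P, inferInstance⟩ hP
    exact ⟨g, hg, l, hl, hJl⟩

/-- **faithfully flat descent** of ideals locally generated by sequences of kind `k` -/
theorem locK_of_faithfullyFlat (k : RegImm.Kind) (hk : k ≠ RegImm.Kind.regular) (I : Ideal A)
    (h : LocK k B (I.map (algebraMap A B))) : LocK k A I := by
  cases k with
  | regular => exact absurd rfl hk
  | koszul =>
    rw [locK_koszul_iff] at h ⊢
    exact Groth.Agent.Lib.Helper16.KzLoc.isKoszulRegularIdeal_of_faithfullyFlat I h
  | h1 =>
    rw [locK_h1_iff] at h ⊢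
    exact Groth.Agent.Lib.Helper16.H1Loc.isLocallyH1Regular_of_faithfullyFlat A B I h
  | quasi =>
    rw [locK_quasi_iff] at h ⊢
    exact Groth.Agent.Lib.Helper16.QRegFF.isLocallyQuasiRegular_of_faithfullyFlat A B I h

end descent

section family

variable {A : Type u} [CommRing A]

lemma map_away_ne_top {R : Type u} [CommRing R] (J P : Ideal R) [P.IsPrime] (hJP : J ≤ P) (g : R)
    (hg : g ∉ P) (T : Type u) [CommRing T] [Algebra R T] [IsLocalization.Away g T] :
    J.map (algebraMap R T) ≠ ⊤ := by
  rw [IsLocalization.map_algebraMap_ne_top_iff_disjoint (Submonoid.powers g)]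
  rw [Set.disjoint_left]
  rintro _ ⟨n, rfl⟩ hn
  exact hg (Ideal.IsPrime.mem_of_pow_mem inferInstance n (hJP hn))

/-- **descent along a finite jointly surjective family of flat algebras**, each of which either
kills the quotient or carries a global generating sequence of kind `k` -/
theorem locK_of_family (k : RegImm.Kind) (hk : k ≠ RegImm.Kind.regular) (I : Ideal A)
    {ι : Type u} [Finite ι] (B : ι → Type u) [∀ j, CommRing (B j)] [∀ j, Algebra A (B j)]
    (hfl : ∀ j, Module.Flat A (B j))
    (hsurj : ∀ p : PrimeSpectrum A, ∃ (j : ι) (q : PrimeSpectrum (B j)),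
      q.asIdeal.comap (algebraMap A (B j)) = p.asIdeal)
    (hdata : ∀ j, I.map (algebraMap A (B j)) = ⊤ ∨
      ∃ l : List (B j), k.Seq (B j) l ∧ I.map (algebraMap A (B j)) = Ideal.ofList l) :
    LocK k A I := by
  classical
  have := Fintype.ofFinite ι
  have hcomp : ∀ j, (Pi.evalRingHom B j).comp (algebraMap A (Π j, B j)) = algebraMap A (B j) :=
    fun j => RingHom.ext fun a => rfl
  have hflC : Module.Flat A (Π j, B j) :=
    Module.Flat.of_linearEquiv (DFinsupp.linearEquivFunOnFintype (R := A) (M := B)).symm
  have hffC : Module.FaithfullyFlat A (Π j, B j) := by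
    apply Module.FaithfullyFlat.of_comap_surjective
    intro p
    obtain ⟨j, q, hq⟩ := hsurj p
    refine ⟨⟨q.asIdeal.comap (Pi.evalRingHom B j), inferInstance⟩, ?_⟩
    apply PrimeSpectrum.ext
    show (q.asIdeal.comap (Pi.evalRingHom B j)).comap (algebraMap A (Π j, B j)) = p.asIdeal
    rw [Ideal.comap_comap, hcomp, hq]
  apply locK_of_faithfullyFlat A (Π j, B j) k hk I
  intro Q _ hQ
  -- an idempotent outside `Q`
  obtain ⟨j, hj⟩ : ∃ j, (Pi.single j 1 : Π j, B j) ∉ Q := by
    by_contra hcon
    have hall : ∀ j, (Pi.single j 1 : Π j, B j) ∈ Q := fun j => by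
      by_contra hj
      exact hcon ⟨j, hj⟩
    have h1 : (1 : Π j, B j) ∈ Q := by
      rw [← Finset.univ_sum_single (1 : Π j, B j)]
      exact Q.sum_mem fun j _ => hall j
    exact (Ideal.IsPrime.ne_top inferInstance) ((Ideal.eq_top_iff_one Q).mpr h1)
  let _ : Algebra (Π j, B j) (B j) := (Pi.evalRingHom B j).toAlgebra
  have hloc : IsLocalization.Away (Pi.single j 1 : Π j, B j) (B j) := by
    refine IsLocalization.away_of_isIdempotentElem ?_ (RingHom.ker_evalRingHom _ _)
      ((Pi.evalRingHom B j).surjective)
    simp [IsIdempotentElem, ← Pi.single_mul_left]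
  have hmap : (I.map (algebraMap A (Π j, B j))).map (algebraMap (Π j, B j) (B j)) =
      I.map (algebraMap A (B j)) := by
    rw [Ideal.map_map]
    congr 1
  refine ⟨Pi.single j 1, hj, ?_⟩
  rcases hdata j with htop | ⟨l, hl, hJl⟩
  · exfalso
    -- the idempotent lies in `I C ≤ Q`
    apply hj
    apply hQ
    have h1 : (1 : B j) ∈ I.map (algebraMap A (B j)) := by rw [htop]; trivial
    -- lift the membership
    have key : ∀ b ∈ I.map (algebraMap A (B j)),
        (Pi.single j b : Π j, B j) ∈ I.map (algebraMap A (Π j, B j)) := by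
      intro b hb
      induction hb using Submodule.span_induction with
      | mem x hx =>
        obtain ⟨a, ha, rfl⟩ := hx
        have h2 : (Pi.single j (algebraMap A (B j) a) : Π j, B j) =
            Pi.single j 1 * algebraMap A (Π j, B j) a := by
          funext i
          by_cases hi : i = j
          · subst hi
            simp
          · simp [Pi.single_eq_of_ne hi]
        rw [h2]
        exact Ideal.mul_mem_left _ _ (Ideal.mem_map_of_mem _ ha)
      | zero => rw [Pi.single_zero]; exact zero_mem _
      | add x y _ _ hx hy => rw [Pi.single_add]; exact add_mem hx hy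
      | smul c x _ hx =>
        have h2 : (Pi.single j (c • x) : Π j, B j) = Pi.single j c * Pi.single j x := by
          rw [smul_eq_mul, Pi.single_mul]
        rw [h2]
        exact Ideal.mul_mem_left _ _ hx
    exact key 1 h1
  · exact exists_seq_of_isLocalizationAway k (Pi.single j 1 : Π j, B j) (B j)
      (Localization.Away (Pi.single j 1 : Π j, B j)) (I.map (algebraMap A (Π j, B j)))
      (map_away_ne_top _ Q hQ _ hj _) l hl (hmap.trans hJl)

end family

end Groth.Agent.Lib.Helper16.RegDesc
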