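import Mathlib
import Groth.Prelude.Def_RegImm
import Groth.Agent.Lib.Helper16.RegDesc1
import Groth.Agent.Helper19.RegImmBC3
import Groth.Agent.Helper19.LciMor

/-!
# fpqc descent of regular immersions (kinds Koszul, H_1, quasi): scheme-level plumbing
-/

set_option autoImplicit false
set_option linter.unusedSectionVars false
set_option linter.unusedVariables false
universe u

open CategoryTheory CategoryTheory.Limits AlgebraicGeometry TopologicalSpace

namespace Groth.Agent.Lib.Helper16.RegDesc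

open Groth.Agent.Helper19.RegImmBC

variable {Z X : Scheme.{u}} (i : Z ⟶ X)

lemma le_preimage_id {U V : X.Opens} (hVU : V ≤ U) : V ≤ (𝟙 X) ⁻¹ᵁ U := hVU

/-- restriction of a chart of an immersion to a smaller affine open -/
theorem chart_restrict (U V : X.affineOpens) (hVU : V.1 ≤ U.1) [IsClosedImmersion (i ∣_ U.1)] :
    IsClosedImmersion (i ∣_ V.1) ∧
      RingHom.ker (i.app V.1).hom =
        Ideal.map (Scheme.Hom.appLE (𝟙 X) U.1 V.1 (le_preimage_id hVU)).hom (RingHom.ker (i.app U.1).hom) := by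
  have hsq : IsPullback (𝟙 Z) i i (𝟙 X) := IsPullback.id_horiz i
  exact ⟨isClosedImmersion_restrict hsq (le_preimage_id hVU),
    ker_app_baseChange hsq U V (le_preimage_id hVU)⟩

theorem flat_id_appLE (U V : X.affineOpens) (hVU : V.1 ≤ U.1) :
    (Scheme.Hom.appLE (𝟙 X) U.1 V.1 (le_preimage_id hVU)).hom.Flat :=
  HasRingHomProperty.appLE (P := @Flat) (𝟙 X) inferInstance U V (le_preimage_id hVU)

/-- a chart with a generating sequence of kind `k` restricts to smaller affine opens meeting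
the subscheme -/
theorem chart_restrict_seq (k : RegImm.Kind) (U V : X.affineOpens) (hVU : V.1 ≤ U.1)
    [IsClosedImmersion (i ∣_ U.1)] (z : Z) (hz : i z ∈ V.1) (rs : List Γ(X, U.1))
    (hrs : k.Seq Γ(X, U.1) rs) (hker : RingHom.ker (i.app U.1).hom = Ideal.ofList rs) :
    IsClosedImmersion (i ∣_ V.1) ∧ ∃ rs' : List Γ(X, V.1), k.Seq Γ(X, V.1) rs' ∧
      RingHom.ker (i.app V.1).hom = Ideal.ofList rs' := by
  obtain ⟨hcl, hk1⟩ := chart_restrict i U V hVU
  rw [hker, Ideal.map_ofList] at hk1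
  refine ⟨hcl, rs.map (Scheme.Hom.appLE (𝟙 X) U.1 V.1 (le_preimage_id hVU)).hom,
    kindFlatStable k _ (flat_id_appLE U V hVU) rs hrs ?_, hk1⟩
  rw [← hk1]
  intro htop
  have h3 : (1 : Γ(X, V.1)) ∈ RingHom.ker (i.app V.1).hom := by rw [htop]; trivial
  rw [RingHom.mem_ker, map_one] at h3
  have : Nonempty (i ⁻¹ᵁ V.1 : Z.Opens) := ⟨⟨z, hz⟩⟩
  have : Nontrivial Γ(Z, i ⁻¹ᵁ V.1) := Scheme.component_nontrivial Z (i ⁻¹ᵁ V.1)
  exact one_ne_zero h3

theorem mem_basicOpen_iff_notMem_primeIdealOf {U : X.Opens} (hU : IsAffineOpen U)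
    (x : X) (hxU : x ∈ U) (f : Γ(X, U)) :
    x ∈ X.basicOpen f ↔ f ∉ (hU.primeIdealOf ⟨x, hxU⟩).asIdeal := by
  let : Algebra Γ(X, U) (X.presheaf.stalk x) :=
    TopCat.Presheaf.algebra_section_stalk X.presheaf ⟨x, hxU⟩
  have := hU.isLocalization_stalk ⟨x, hxU⟩
  rw [Scheme.mem_basicOpen _ _ _ hxU]
  exact IsLocalization.AtPrime.isUnit_to_map_iff (X.presheaf.stalk x)
    (hU.primeIdealOf ⟨x, hxU⟩).asIdeal f

/-- from the ring-level local condition to the scheme-level one -/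
theorem regImmAt_of_locK (k : RegImm.Kind) (U : X.affineOpens) [IsClosedImmersion (i ∣_ U.1)]
    (z : Z) (hz : i z ∈ U.1) (hloc : LocK k Γ(X, U.1) (RingHom.ker (i.app U.1).hom)) :
    RegImm.IsRegularImmersionAt k i z := by
  set J := RingHom.ker (i.app U.1).hom with hJ
  set P := (U.2.primeIdealOf ⟨i z, hz⟩).asIdeal with hP
  have hJP : J ≤ P := by
    intro a ha
    by_contra haP
    have h1 : i z ∈ X.basicOpen a := (mem_basicOpen_iff_notMem_primeIdealOf U.2 (i z) hz a).mpr haP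
    have h2 : z ∈ i ⁻¹ᵁ X.basicOpen a := h1
    rw [Scheme.preimage_basicOpen, show (i.app U.1).hom a = 0 from ha, Scheme.basicOpen_zero] at h2
    exact h2
  obtain ⟨a, ha, l, hl, hJl⟩ := hloc P hJP
  let V : X.affineOpens := ⟨X.basicOpen a, U.2.basicOpen a⟩
  have hVU : V.1 ≤ U.1 := X.basicOpen_le a
  have hzV : i z ∈ V.1 := (mem_basicOpen_iff_notMem_primeIdealOf U.2 (i z) hz a).mpr ha
  obtain ⟨hcl, hk1⟩ := chart_restrict i U V hVU
  let _ : Algebra Γ(X, U.1) Γ(X, V.1) := (Scheme.Hom.appLE (𝟙 X) U.1 V.1 (le_preimage_id hVU)).hom.toAlgebra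
  have hloc' : IsLocalization.Away a Γ(X, V.1) := by
    have h0 := U.2.isLocalization_basicOpen a
    convert h0 using 1
    apply Algebra.algebra_ext
    intro r
    rw [RingHom.algebraMap_toAlgebra, RingHom.algebraMap_toAlgebra]
    simp [Scheme.Hom.appLE]
    rfl
  obtain ⟨l', hl', hJl'⟩ := exists_seq_of_isLocalizationAway k a (Localization.Away a) Γ(X, V.1) J
    (map_away_ne_top J P hJP a ha _) l hl hJl
  exact ⟨V, hzV, hcl, l', hl', hk1.trans hJl'⟩

section descent

variable {X' : Scheme.{u}} (g : X' ⟶ X)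

/-- the complement of the subscheme inside a chart is open -/
theorem isOpen_chart_diff_range (U : X.Opens) [IsClosedImmersion (i ∣_ U)] :
    IsOpen ((U : Set X) ∩ (Set.range i)ᶜ) := by
  have hrange : Set.range (i ∣_ U) = Subtype.val ⁻¹' Set.range i := by
    have h1 : Set.range (i ∣_ U) = Set.range (i ∣_ U).base := rfl
    rw [h1, morphismRestrict_base]
    exact Set.range_restrictPreimage _ _
  have hcl : IsClosed (Set.range (i ∣_ U)) := (i ∣_ U).isClosedEmbedding.isClosed_range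
  rw [hrange] at hcl
  have hop : IsOpen ((Subtype.val : U → X) ⁻¹' (Set.range i)ᶜ) := by
    rw [Set.preimage_compl]
    exact hcl.isOpen_compl
  have := U.2.isOpenEmbedding_subtypeVal.isOpenMap _ hop
  convert this using 1
  ext x
  constructor
  · rintro ⟨hxU, hx⟩
    exact ⟨⟨x, hxU⟩, hx, rfl⟩
  · rintro ⟨y, hy, rfl⟩
    exact ⟨y.2, hy⟩

/-- local data of the base change around a point over a chart -/
theorem exists_chart_data (k : RegImm.Kind) (U : X.affineOpens) [IsClosedImmersion (i ∣_ U.1)]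
    (h' : ∀ z', RegImm.IsRegularImmersionAt k (pullback.snd i g) z') (x' : X')
    (hx' : g x' ∈ U.1) :
    ∃ W : X'.affineOpens, x' ∈ W.1 ∧ W.1 ≤ g ⁻¹ᵁ U.1 ∧
      (RingHom.ker ((pullback.snd i g).app W.1).hom = ⊤ ∨
        ∃ l : List Γ(X', W.1), k.Seq Γ(X', W.1) l ∧
          RingHom.ker ((pullback.snd i g).app W.1).hom = Ideal.ofList l) := by
  by_cases hr : x' ∈ Set.range (pullback.snd i g)
  · obtain ⟨z', rfl⟩ := hr
    obtain ⟨U'', hzU'', hcl'', rs, hrs, hker⟩ := h' z'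
    have := hcl''
    obtain ⟨W, hW, hzW, hWle⟩ := exists_isAffineOpen_mem_and_subset
      (x := (pullback.snd i g) z') (U := U''.1 ⊓ g ⁻¹ᵁ U.1) ⟨hzU'', hx'⟩
    obtain ⟨-, l, hl, hkl⟩ := chart_restrict_seq (pullback.snd i g) k U'' ⟨W, hW⟩
      (hWle.trans inf_le_left) z' hzW rs hrs hker
    exact ⟨⟨W, hW⟩, hzW, hWle.trans inf_le_right, Or.inr ⟨l, hl, hkl⟩⟩
  · have hgx : g x' ∉ Set.range i := by
      rintro ⟨z, hz⟩
      obtain ⟨z', -, hz'⟩ := Scheme.Pullback.exists_preimage_pullback (f := i) (g := g) z x' hz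
      exact hr ⟨z', hz'⟩
    let O : X.Opens := ⟨(U.1 : Set X) ∩ (Set.range i)ᶜ, isOpen_chart_diff_range i U.1⟩
    have hxO : x' ∈ g ⁻¹ᵁ O := ⟨hx', hgx⟩
    obtain ⟨W, hW, hxW, hWle⟩ := exists_isAffineOpen_mem_and_subset (x := x') (U := g ⁻¹ᵁ O) hxO
    have hWU : W ≤ g ⁻¹ᵁ U.1 := fun y hy => (hWle hy).1
    refine ⟨⟨W, hW⟩, hxW, hWU, Or.inl ?_⟩
    have hbot : (pullback.snd i g) ⁻¹ᵁ W = ⊥ := by
      rw [eq_bot_iff]
      intro y hy
      have h1 : g ((pullback.snd i g) y) ∈ O := hWle hy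
      have h2 : g ((pullback.snd i g) y) = i ((pullback.fst i g) y) := by
        rw [← Scheme.Hom.comp_apply, ← pullback.condition, Scheme.Hom.comp_apply]
      exact (h1.2 ⟨_, h2.symm⟩).elim
    have hsub : Subsingleton Γ(pullback i g, (pullback.snd i g) ⁻¹ᵁ W) := by
      rw [hbot]
      infer_instance
    rw [Ideal.eq_top_iff_one, RingHom.mem_ker]
    exact Subsingleton.elim _ _

/-- **ring-level conclusion of fpqc descent**: over a chart of `i`, the ideal of the subscheme is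
locally generated by sequences of kind `k` -/
theorem locK_of_baseChange [Flat g] [Surjective g] [QuasiCompact g] (k : RegImm.Kind)
    (hk : k ≠ RegImm.Kind.regular) (U : X.affineOpens) [IsClosedImmersion (i ∣_ U.1)]
    (h' : ∀ z', RegImm.IsRegularImmersionAt k (pullback.snd i g) z') :
    LocK k Γ(X, U.1) (RingHom.ker (i.app U.1).hom) := by
  classical
  have hex := fun (x' : (g ⁻¹ᵁ U.1 : X'.Opens)) => exists_chart_data i g k U h' x'.1 x'.2
  choose W hxW hWle hdata using hex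
  have hcomp : IsCompact ((g ⁻¹ᵁ U.1 : X'.Opens) : Set X') := g.isCompact_preimage U.2.isCompact
  obtain ⟨t, ht⟩ := hcomp.elim_finite_subcover
    (fun x' : (g ⁻¹ᵁ U.1 : X'.Opens) => ((W x').1 : Set X'))
    (fun x' => (W x').1.2) (fun y hy => Set.mem_iUnion.mpr ⟨⟨y, hy⟩, hxW ⟨y, hy⟩⟩)
  let ι : Type u := {x' // x' ∈ t}
  let _ : ∀ j : ι, Algebra Γ(X, U.1) Γ(X', (W j.1).1) :=
    fun j => (g.appLE U.1 (W j.1).1 (hWle j.1)).hom.toAlgebra
  refine locK_of_family k hk _ (fun j : ι => Γ(X', (W j.1).1)) (fun j => ?_) (fun p => ?_)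
    (fun j => ?_)
  · exact HasRingHomProperty.appLE (P := @Flat) g inferInstance U (W j.1) (hWle j.1)
  · have hxU : U.2.fromSpec p ∈ U.1 := by
      have h0 : U.2.fromSpec p ∈ Set.range U.2.fromSpec := ⟨p, rfl⟩
      rw [U.2.range_fromSpec] at h0
      exact h0
    obtain ⟨x', hx'⟩ := g.surjective (U.2.fromSpec p)
    have hx'U : x' ∈ ((g ⁻¹ᵁ U.1 : X'.Opens) : Set X') := by
      show g x' ∈ U.1
      rw [hx']
      exact hxU
    obtain ⟨y, hyt, hxy⟩ := Set.mem_iUnion₂.mp (ht hx'U)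
    refine ⟨⟨y, hyt⟩, (W y).2.primeIdealOf ⟨x', hxy⟩, ?_⟩
    have h1 := IsAffineOpen.comap_primeIdealOf_appLE U.1 U.2 (W y).1 (W y).2 (hWle y) hxy
    have h2 : U.2.primeIdealOf ⟨g x', hWle y hxy⟩ = p := by
      apply U.2.fromSpec.isOpenEmbedding.injective
      rw [U.2.fromSpec_primeIdealOf]
      exact hx'
    exact congrArg PrimeSpectrum.asIdeal (h1.trans h2)
  · have hk1 := ker_app_baseChange (IsPullback.of_hasPullback i g) U (W j.1) (hWle j.1)
    have h3 : Ideal.map (algebraMap Γ(X, U.1) Γ(X', (W j.1).1)) (RingHom.ker (i.app U.1).hom) =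
        RingHom.ker ((pullback.snd i g).app (W j.1).1).hom := hk1.symm
    rw [h3]
    exact hdata j.1

/-- **fpqc descent of regular immersions** of the kinds Koszul, `H_1`, quasi -/
theorem isRegularImmersion_of_baseChange [IsImmersion i] [Flat g] [Surjective g] [QuasiCompact g]
    (k : RegImm.Kind) (hk : k ≠ RegImm.Kind.regular)
    (h : RegImm.IsRegularImmersion k (pullback.snd i g)) : RegImm.IsRegularImmersion k i := by
  refine ⟨inferInstance, fun z => ?_⟩
  obtain ⟨U, hcl, -, hzU, -⟩ := Groth.Agent.Helper19.LciMor.exists_chart i z ⊤ trivial ⊤ trivial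
  have := hcl
  exact regImmAt_of_locK i k U z hzU (locK_of_baseChange i g k hk U h.2)

end descent

end Groth.Agent.Lib.Helper16.RegDesc
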