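import Mathlib
import Groth.Prelude.Def_CAlg
import Groth.Prelude.Def_EGA4b
import Groth.Agent.Lib.Helper16.GorFlat
import Groth.Agent.Lib.Helper16.RegularGorenstein
import Groth.Agent.Lib.Helper18.FibBridge
import Groth.Agent.Lib.Helper2.Gor.GK1

/-!
# Gorenstein base change: flat maps, fibre local rings, towers (helper16)

gor_flat_abstract, gor_quot_iff, gor_atPrime_iff (B_Q Gorenstein iff A_p and B_Q/pB_Q are),
isGorensteinRing_fiber_iff, gor_fibLocRing_comp (towers), gorRing_of_ringEquiv,
gorRing_of_isRegularRing, gorRing_of_flat_of_fibLocRing, gorRing_of_flat_of_fiber.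
-/

set_option autoImplicit false
set_option linter.unusedSectionVars false
set_option linter.style.haveILetI false
universe u
open IsLocalRing TensorProduct

namespace Groth.Agent.Lib.Helper16.GorBC

open Groth.Agent.Lib.Helper16.GorFlat Groth.Agent.Lib.Helper18.CM

section abstract

variable (A B F : Type u) [CommRing A] [IsLocalRing A] [IsNoetherianRing A]
    [CommRing B] [IsLocalRing B] [IsNoetherianRing B]
    [CommRing F] [IsLocalRing F] [IsNoetherianRing F]
    [Algebra A B] [IsLocalHom (algebraMap A B)] [Module.Flat A B]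
    (π : B →+* F) (hπ : Function.Surjective π)
    (hker : RingHom.ker π = (maximalIdeal A).map (algebraMap A B))

include hπ hker in
/-- Gorenstein transfer along a flat local homomorphism, closed fibre given abstractly. -/
theorem gor_flat_abstract :
    LocCoh.IsGorensteinLocalRing B ↔
      (LocCoh.IsGorensteinLocalRing A ∧ LocCoh.IsGorensteinLocalRing F) := by
  obtain ⟨a, ha⟩ := ENat.ne_top_iff_exists.mp (depth_ne_top (R := A) A)
  obtain ⟨b, hb⟩ := ENat.ne_top_iff_exists.mp (depth_ne_top (R := F) F)
  exact gorenstein_flat_aux (a + b) A B F π hπ hker (by rw [← ha, ← hb]; push_cast; rfl)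

include hπ hker in
/-- passing to the quotient by an ideal of the base -/
theorem quot_data (I : Ideal A) (hI : I ≤ maximalIdeal A) :
    ∃ (_ : IsLocalRing (A ⧸ I)) (_ : IsLocalRing (B ⧸ I.map (algebraMap A B)))
      (_ : IsLocalHom (algebraMap (A ⧸ I) (B ⧸ I.map (algebraMap A B))))
      (π₁ : (B ⧸ I.map (algebraMap A B)) →+* F),
      Function.Surjective π₁ ∧
      RingHom.ker π₁ = (maximalIdeal (A ⧸ I)).map
        (algebraMap (A ⧸ I) (B ⧸ I.map (algebraMap A B))) := by
  have hJBle : I.map (algebraMap A B) ≤ maximalIdeal B :=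
    (Ideal.map_mono hI).trans (IsLocalRing.map_maximalIdeal_le (algebraMap A B))
  have hlA : IsLocalRing (A ⧸ I) := isLocalRing_quot_of_le _ hI
  have hlB : IsLocalRing (B ⧸ I.map (algebraMap A B)) := isLocalRing_quot_of_le _ hJBle
  have hmA : maximalIdeal (A ⧸ I) = (maximalIdeal A).map (Ideal.Quotient.mk I) :=
    (IsLocalRing.map_maximalIdeal_of_surjective _ Ideal.Quotient.mk_surjective).symm
  have hmB : maximalIdeal (B ⧸ I.map (algebraMap A B)) =
      (maximalIdeal B).map (Ideal.Quotient.mk (I.map (algebraMap A B))) :=
    (IsLocalRing.map_maximalIdeal_of_surjective _ Ideal.Quotient.mk_surjective).symm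
  have hsq : (algebraMap (A ⧸ I) (B ⧸ I.map (algebraMap A B))).comp (Ideal.Quotient.mk I) =
      (Ideal.Quotient.mk (I.map (algebraMap A B))).comp (algebraMap A B) :=
    RingHom.ext fun a => rfl
  have hmapm : (maximalIdeal (A ⧸ I)).map (algebraMap (A ⧸ I) (B ⧸ I.map (algebraMap A B))) =
      ((maximalIdeal A).map (algebraMap A B)).map
        (Ideal.Quotient.mk (I.map (algebraMap A B))) := by
    rw [hmA, Ideal.map_map, hsq, ← Ideal.map_map]
  have hloc : IsLocalHom (algebraMap (A ⧸ I) (B ⧸ I.map (algebraMap A B))) := by
    refine ((IsLocalRing.local_hom_TFAE _).out 2 0).mp ?_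
    rw [hmapm, hmB]
    exact Ideal.map_mono (IsLocalRing.map_maximalIdeal_le (algebraMap A B))
  have hle : I.map (algebraMap A B) ≤ RingHom.ker π := by
    rw [hker]
    exact Ideal.map_mono hI
  refine ⟨hlA, hlB, hloc, Ideal.Quotient.lift _ π (fun b hb => hle hb),
    Ideal.Quotient.lift_surjective_of_surjective _ _ hπ, ?_⟩
  rw [Ideal.ker_quotient_lift, hker, hmapm]

include hπ hker in
/-- Gorenstein transfer for the quotient by an ideal of the base. -/
theorem gor_quot_iff (I : Ideal A) (hI : I ≤ maximalIdeal A) :
    LocCoh.IsGorensteinLocalRing (B ⧸ I.map (algebraMap A B)) ↔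
      (LocCoh.IsGorensteinLocalRing (A ⧸ I) ∧ LocCoh.IsGorensteinLocalRing F) := by
  obtain ⟨hlA, hlB, hloc, π₁, hπ₁, hk₁⟩ := quot_data A B F π hπ hker I hI
  haveI := flat_quotient (A := A) (B := B) I
  exact gor_flat_abstract (A ⧸ I) (B ⧸ I.map (algebraMap A B)) F π₁ hπ₁ hk₁

end abstract

section atPrime

variable (A B : Type u) [CommRing A] [CommRing B] [IsNoetherianRing A] [IsNoetherianRing B]
  [Algebra A B] [Module.Flat A B] (Q : Ideal B) [Q.IsPrime]

/-- For a flat map of Noetherian rings: `B_Q` is Gorenstein iff `A_p` and the fibre local ring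
`B_Q / p B_Q` are. -/
theorem gor_atPrime_iff :
    LocCoh.IsGorensteinLocalRing (Localization.AtPrime Q) ↔
      (LocCoh.IsGorensteinLocalRing (Localization.AtPrime (Q.comap (algebraMap A B))) ∧
        LocCoh.IsGorensteinLocalRing (EGA4.FibLocRing A B Q)) := by
  have hlo : Q.LiesOver (Q.comap (algebraMap A B)) := ⟨rfl⟩
  let := Localization.AtPrime.algebraOfLiesOver (Q.comap (algebraMap A B)) Q
  have : IsLocalHom (algebraMap (Localization.AtPrime (Q.comap (algebraMap A B)))
      (Localization.AtPrime Q)) :=
    Localization.isLocalHom_localRingHom (Q.comap (algebraMap A B)) Q (algebraMap A B)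
      Ideal.LiesOver.over
  have hK : (maximalIdeal (Localization.AtPrime (Q.comap (algebraMap A B)))).map
      (algebraMap (Localization.AtPrime (Q.comap (algebraMap A B))) (Localization.AtPrime Q)) =
      (Q.comap (algebraMap A B)).map (algebraMap A (Localization.AtPrime Q)) := by
    rw [← Localization.AtPrime.map_eq_maximalIdeal, Ideal.map_map,
      ← IsScalarTower.algebraMap_eq]
  have hl := Groth.Agent.Lib.Helper18.RkFlat.isLocalRing_fibLocRing A B Q
  rw [isGorenstein_iff_of_flat (Localization.AtPrime (Q.comap (algebraMap A B)))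
    (Localization.AtPrime Q), hK]

end atPrime

section fiber

open Groth.Agent.Lib.Helper18 Groth.Agent.Lib.Helper2

variable (A B : Type u) [CommRing A] [CommRing B] [IsNoetherianRing B] [Algebra A B]

/-- Gorenstein-ness of the fibre ring `κ(p) ⊗ B` in terms of the fibre local rings. -/
theorem isGorensteinRing_fiber_iff (p : Ideal A) [p.IsPrime] :
    LocCoh.IsGorensteinRing (p.Fiber B) ↔
      ∀ (r : Ideal B) [r.IsPrime], r.comap (algebraMap A B) = p →
        LocCoh.IsGorensteinLocalRing (EGA4.FibLocRing A B r) := by
  constructor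
  · intro h r _ hr
    obtain ⟨Q, hQ, rfl⟩ := FibBridge.exists_prime_of_comap_eq p r hr
    obtain ⟨e⟩ := FibBridge.nonempty_ringEquiv p Q
    exact GK.gor_of_ringEquiv e (h.isGorensteinLocalRing_localization Q)
  · intro h
    refine { isGorensteinLocalRing_localization := ?_ }
    intro Q _
    obtain ⟨e⟩ := FibBridge.nonempty_ringEquiv p Q
    exact GK.gor_of_ringEquiv e.symm (h (FibBridge.ctr p Q) (FibBridge.ctr_comap p Q))

end fiber

section tower

variable (A B C : Type u) [CommRing A] [CommRing B] [CommRing C] [Algebra A B] [Algebra B C]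
  [Algebra A C] [IsScalarTower A B C] [IsNoetherianRing B] [IsNoetherianRing C] [Module.Flat B C]

/-- Gorenstein-ness of fibre local rings in a tower `A → B → C` with `B → C` flat. -/
theorem gor_fibLocRing_comp (r : Ideal C) [r.IsPrime] :
    LocCoh.IsGorensteinLocalRing (EGA4.FibLocRing A C r) ↔
      (LocCoh.IsGorensteinLocalRing (EGA4.FibLocRing A B (r.comap (algebraMap B C))) ∧
        LocCoh.IsGorensteinLocalRing (EGA4.FibLocRing B C r)) := by
  have hlo : r.LiesOver (r.comap (algebraMap B C)) := ⟨rfl⟩
  let := Localization.AtPrime.algebraOfLiesOver (r.comap (algebraMap B C)) r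
  have : IsLocalHom (algebraMap (Localization.AtPrime (r.comap (algebraMap B C)))
      (Localization.AtPrime r)) :=
    Localization.isLocalHom_localRingHom (r.comap (algebraMap B C)) r (algebraMap B C)
      Ideal.LiesOver.over
  have hK : (maximalIdeal (Localization.AtPrime (r.comap (algebraMap B C)))).map
      (algebraMap (Localization.AtPrime (r.comap (algebraMap B C))) (Localization.AtPrime r)) =
      (r.comap (algebraMap B C)).map (algebraMap B (Localization.AtPrime r)) := by
    rw [← Localization.AtPrime.map_eq_maximalIdeal, Ideal.map_map,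
      ← IsScalarTower.algebraMap_eq]
  have hIBle : ((r.comap (algebraMap B C)).comap (algebraMap A B)).map
      (algebraMap A (Localization.AtPrime (r.comap (algebraMap B C)))) ≤
      maximalIdeal (Localization.AtPrime (r.comap (algebraMap B C))) := by
    rw [Ideal.map_le_iff_le_comap]
    intro x hx
    rw [Ideal.mem_comap,
      IsScalarTower.algebraMap_apply A B (Localization.AtPrime (r.comap (algebraMap B C)))]
    have h3 : (maximalIdeal (Localization.AtPrime (r.comap (algebraMap B C)))).under B =
        r.comap (algebraMap B C) := Localization.AtPrime.under_maximalIdeal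
    have h4 : algebraMap A B x ∈
        (maximalIdeal (Localization.AtPrime (r.comap (algebraMap B C)))).under B := by
      rw [h3]
      exact hx
    exact h4
  have hIC : (((r.comap (algebraMap B C)).comap (algebraMap A B)).map
      (algebraMap A (Localization.AtPrime (r.comap (algebraMap B C))))).map
      (algebraMap (Localization.AtPrime (r.comap (algebraMap B C))) (Localization.AtPrime r)) =
      (r.comap (algebraMap A C)).map (algebraMap A (Localization.AtPrime r)) := by
    rw [Ideal.map_map, ← IsScalarTower.algebraMap_eq, Ideal.comap_comap,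
      ← IsScalarTower.algebraMap_eq]
  have hl := Groth.Agent.Lib.Helper18.RkFlat.isLocalRing_fibLocRing B C r
  have h := gor_quot_iff (Localization.AtPrime (r.comap (algebraMap B C)))
    (Localization.AtPrime r) (EGA4.FibLocRing B C r)
    (Ideal.Quotient.mk _) Ideal.Quotient.mk_surjective (by rw [Ideal.mk_ker, hK]) _ hIBle
  rw [hIC] at h
  exact h

end tower

section global

open Groth.Agent.Lib.Helper2

/-- Gorenstein rings are invariant under ring isomorphisms. -/
theorem gorRing_of_ringEquiv {R S : Type u} [CommRing R] [CommRing S] (e : R ≃+* S)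
    (h : LocCoh.IsGorensteinRing R) : LocCoh.IsGorensteinRing S := by
  haveI := h.toIsNoetherian
  haveI : IsNoetherianRing S := isNoetherianRing_of_ringEquiv R e
  refine { isGorensteinLocalRing_localization := ?_ }
  intro q _
  exact GK.gor_localization_of_ringEquiv e q (q.comap (e : R →+* S)) rfl
    (h.isGorensteinLocalRing_localization _)

/-- regular rings are Gorenstein -/
theorem gorRing_of_isRegularRing (R : Type u) [CommRing R] [IsRegularRing R] :
    LocCoh.IsGorensteinRing R := by
  refine { isGorensteinLocalRing_localization := ?_ }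
  intro q _
  exact Groth.Agent.Lib.Helper16.RegGor.isGorensteinLocalRing_of_isRegularLocalRing _

/-- A flat Noetherian algebra over a Gorenstein ring with Gorenstein fibre local rings is
Gorenstein. -/
theorem gorRing_of_flat_of_fibLocRing (A B : Type u) [CommRing A] [CommRing B] [Algebra A B]
    [Module.Flat A B] [IsNoetherianRing B] (hA : LocCoh.IsGorensteinRing A)
    (h : ∀ (r : Ideal B) [r.IsPrime], LocCoh.IsGorensteinLocalRing (EGA4.FibLocRing A B r)) :
    LocCoh.IsGorensteinRing B := by
  haveI := hA.toIsNoetherian
  refine { isGorensteinLocalRing_localization := ?_ }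
  intro r _
  rw [gor_atPrime_iff A B r]
  exact ⟨hA.isGorensteinLocalRing_localization _, h r⟩

/-- A flat Noetherian algebra over a Gorenstein ring with Gorenstein fibre rings is Gorenstein. -/
theorem gorRing_of_flat_of_fiber (A B : Type u) [CommRing A] [CommRing B] [Algebra A B]
    [Module.Flat A B] [IsNoetherianRing B] (hA : LocCoh.IsGorensteinRing A)
    (h : ∀ (p : Ideal A) [p.IsPrime], LocCoh.IsGorensteinRing (p.Fiber B)) :
    LocCoh.IsGorensteinRing B := by
  refine gorRing_of_flat_of_fibLocRing A B hA ?_
  intro r _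
  exact (isGorensteinRing_fiber_iff A B (r.comap (algebraMap A B))).mp (h _) r rfl

end global

end Groth.Agent.Lib.Helper16.GorBC
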