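import Mathlib
import Groth.Prelude.Def_Dual3
import Groth.Agent.S9501
import Groth.Agent.Lib.Helper16.GorBC1

/-!
# Gorenstein morphisms at a point: closed fibre rings of stalk maps (helper16)

CF f x (closed fibre ring of O_{S,f x} -> O_{X,x}), gor_fiber_stalk_iff (via S9501),
gor_closedFibre_comp, gor_CF_comp_iff, flat_of_comp_of_flat_local.
-/

set_option autoImplicit false
set_option linter.unusedSectionVars false
set_option linter.style.haveILetI false
universe u
open IsLocalRing AlgebraicGeometry CategoryTheory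

namespace Groth.Agent.Lib.Helper16.GorMor

open Groth.Agent.Lib.Helper16.GorBC Groth.Agent.Lib.Helper2

/-- the closed fibre ring of the local homomorphism `O_{S,f x} → O_{X,x}` -/
abbrev CF {X S : Scheme.{u}} (f : X ⟶ S) (x : X) : Type u :=
  X.presheaf.stalk x ⧸ Ideal.map (f.stalkMap x).hom (maximalIdeal (S.presheaf.stalk (f x)))

theorem gor_CF_congr {X S : Scheme.{u}} (f : X ⟶ S) {x x' : X} (h : x' = x) :
    LocCoh.IsGorensteinLocalRing (CF f x') ↔ LocCoh.IsGorensteinLocalRing (CF f x) := by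
  subst h
  rfl

/-- the local ring of the fibre at `x` is Gorenstein iff the closed fibre ring of the stalk map is -/
theorem gor_fiber_stalk_iff {X S : Scheme.{u}} (f : X ⟶ S) (x : X) :
    LocCoh.IsGorensteinLocalRing ((f.fiber (f x)).presheaf.stalk (f.asFiber x)) ↔
      LocCoh.IsGorensteinLocalRing (CF f x) := by
  obtain ⟨hs, hk⟩ := Groth.Agent.S9501.result f (f x) (f.asFiber x)
  rw [← gor_CF_congr f (f.fiberι_asFiber x)]
  have e : CF f ((f.fiberι (f x)) (f.asFiber x)) ≃+*
      (f.fiber (f x)).presheaf.stalk (f.asFiber x) :=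
    (Ideal.quotEquivOfEq hk.symm).trans (RingHom.quotientKerEquivOfSurjective hs)
  exact ⟨fun h => GK.gor_of_ringEquiv e.symm h, fun h => GK.gor_of_ringEquiv e h⟩

theorem gor_congr_ideal' {T : Type u} [CommRing T] {𝔞 𝔟 : Ideal T} (h : 𝔞 = 𝔟)
    (hG : LocCoh.IsGorensteinLocalRing (T ⧸ 𝔞)) : LocCoh.IsGorensteinLocalRing (T ⧸ 𝔟) := by
  subst h
  exact hG

section quot

variable (A B F : Type u) [CommRing A] [IsLocalRing A] [CommRing B] [IsLocalRing B]
    [CommRing F] [Algebra A B] [IsLocalHom (algebraMap A B)]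
    (π : B →+* F) (hπ : Function.Surjective π)
    (hker : RingHom.ker π = (maximalIdeal A).map (algebraMap A B))

include hπ hker in
/-- passing to the quotient by an ideal of the base (no Noetherian hypotheses) -/
theorem quot_data' (I : Ideal A) (hI : I ≤ maximalIdeal A) :
    ∃ (_ : IsLocalRing (A ⧸ I)) (_ : IsLocalRing (B ⧸ I.map (algebraMap A B)))
      (_ : IsLocalHom (algebraMap (A ⧸ I) (B ⧸ I.map (algebraMap A B))))
      (π₁ : (B ⧸ I.map (algebraMap A B)) →+* F),
      Function.Surjective π₁ ∧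
      RingHom.ker π₁ = (maximalIdeal (A ⧸ I)).map
        (algebraMap (A ⧸ I) (B ⧸ I.map (algebraMap A B))) := by
  have hJBle : I.map (algebraMap A B) ≤ maximalIdeal B :=
    (Ideal.map_mono hI).trans (IsLocalRing.map_maximalIdeal_le (algebraMap A B))
  have hlA : IsLocalRing (A ⧸ I) := GorFlat.isLocalRing_quot_of_le _ hI
  have hlB : IsLocalRing (B ⧸ I.map (algebraMap A B)) := GorFlat.isLocalRing_quot_of_le _ hJBle
  have hmA : maximalIdeal (A ⧸ I) = (maximalIdeal A).map (Ideal.Quotient.mk I) :=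
    (IsLocalRing.map_maximalIdeal_of_surjective _ Ideal.Quotient.mk_surjective).symm
  have hmB : maximalIdeal (B ⧸ I.map (algebraMap A B)) =
      (maximalIdeal B).map (Ideal.Quotient.mk (I.map (algebraMap A B))) :=
    (IsLocalRing.map_maximalIdeal_of_surjective _ Ideal.Quotient.mk_surjective).symm
  have hsq : (algebraMap (A ⧸ I) (B ⧸ I.map (algebraMap A B))).comp (Ideal.Quotient.mk I) =
      (Ideal.Quotient.mk (I.map (algebraMap A B))).comp (algebraMap A B) :=
    RingHom.ext fun a => rfl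
  have hmapm : (maximalIdeal (A ⧸ I)).map (algebraMap (A ⧸ I) (B ⧸ I.map (algebraMap A B))) =
      ((maximalIdeal A).map (algebraMap A B)).map
        (Ideal.Quotient.mk (I.map (algebraMap A B))) := by
    rw [hmA, Ideal.map_map, hsq, ← Ideal.map_map]
  have hloc : IsLocalHom (algebraMap (A ⧸ I) (B ⧸ I.map (algebraMap A B))) := by
    refine ((IsLocalRing.local_hom_TFAE _).out 2 0).mp ?_
    rw [hmapm, hmB]
    exact Ideal.map_mono (IsLocalRing.map_maximalIdeal_le (algebraMap A B))
  have hle : I.map (algebraMap A B) ≤ RingHom.ker π := by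
    rw [hker]
    exact Ideal.map_mono hI
  refine ⟨hlA, hlB, hloc, Ideal.Quotient.lift _ π (fun b hb => hle hb),
    Ideal.Quotient.lift_surjective_of_surjective _ _ hπ, ?_⟩
  rw [Ideal.ker_quotient_lift, hker, hmapm]

end quot

section alg

variable {A B C : Type u} [CommRing A] [CommRing B] [CommRing C] [IsLocalRing A] [IsLocalRing B]
  [IsLocalRing C] (ψ : A →+* B) (φ : B →+* C) [IsLocalHom ψ] [IsLocalHom φ]

/-- closed fibres of a composite of local homomorphisms, `φ` flat -/
theorem gor_closedFibre_comp (hφ : φ.Flat)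
    [IsNoetherianRing (B ⧸ (maximalIdeal A).map ψ)]
    [IsNoetherianRing (C ⧸ (maximalIdeal A).map (φ.comp ψ))]
    [IsNoetherianRing (C ⧸ (maximalIdeal B).map φ)] :
    LocCoh.IsGorensteinLocalRing (C ⧸ (maximalIdeal A).map (φ.comp ψ)) ↔
      (LocCoh.IsGorensteinLocalRing (B ⧸ (maximalIdeal A).map ψ) ∧
        LocCoh.IsGorensteinLocalRing (C ⧸ (maximalIdeal B).map φ)) := by
  letI := φ.toAlgebra
  haveI : Module.Flat B C := hφ
  haveI : IsLocalHom (algebraMap B C) := ‹IsLocalHom φ›
  have hIle : (maximalIdeal A).map ψ ≤ maximalIdeal B := IsLocalRing.map_maximalIdeal_le ψ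
  have hIC : ((maximalIdeal A).map ψ).map (algebraMap B C) =
      (maximalIdeal A).map (φ.comp ψ) := by
    rw [Ideal.map_map]
    rfl
  haveI hN2 : IsNoetherianRing (C ⧸ ((maximalIdeal A).map ψ).map (algebraMap B C)) := by
    rw [hIC]
    infer_instance
  obtain ⟨hlA, hlB, hloc, π₁, hπ₁, hk₁⟩ := quot_data' B C (C ⧸ (maximalIdeal B).map φ)
    (Ideal.Quotient.mk _) Ideal.Quotient.mk_surjective (by rw [Ideal.mk_ker]; rfl)
    ((maximalIdeal A).map ψ) hIle
  haveI := GorFlat.flat_quotient (A := B) (B := C) ((maximalIdeal A).map ψ)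
  haveI hlF : IsLocalRing (C ⧸ (maximalIdeal B).map φ) :=
    GorFlat.isLocalRing_quot_of_le _ (IsLocalRing.map_maximalIdeal_le φ)
  have h := gor_flat_abstract (B ⧸ (maximalIdeal A).map ψ)
    (C ⧸ ((maximalIdeal A).map ψ).map (algebraMap B C)) (C ⧸ (maximalIdeal B).map φ) π₁ hπ₁ hk₁
  rw [← h]
  exact ⟨fun hh => gor_congr_ideal' hIC.symm hh, fun hh => gor_congr_ideal' hIC hh⟩

end alg

/-- descent of flatness along a flat local homomorphism -/
theorem flat_of_comp_of_flat_local {A B C : Type u} [CommRing A] [CommRing B] [CommRing C]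
    [IsLocalRing B] [IsLocalRing C] (ψ : A →+* B) (φ : B →+* C) [IsLocalHom φ] (hφ : φ.Flat)
    (h : (φ.comp ψ).Flat) : ψ.Flat := by
  letI := ψ.toAlgebra
  letI := φ.toAlgebra
  letI : Algebra A C := (φ.comp ψ).toAlgebra
  haveI : IsScalarTower A B C := IsScalarTower.of_algebraMap_eq (fun _ => rfl)
  haveI : Module.Flat B C := hφ
  haveI : IsLocalHom (algebraMap B C) := ‹IsLocalHom φ›
  haveI : Module.FaithfullyFlat B C := Module.FaithfullyFlat.of_flat_of_isLocalHom
  haveI : Module.Flat A C := h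
  exact Groth.Agent.Lib.Helper18.FibBridge.flat_of_faithfullyFlat_comp A B C

section scheme

variable {X Y Z : Scheme.{u}} (f : X ⟶ Y) (g : Y ⟶ Z)

theorem noeth_CF_congr {x x' : X} (h : x' = x) (hN : IsNoetherianRing (CF f x')) :
    IsNoetherianRing (CF f x) := by
  subst h
  exact hN

theorem isNoetherianRing_CF (x : X) [IsLocallyNoetherian (f.fiber (f x))] :
    IsNoetherianRing (CF f x) := by
  obtain ⟨hs, hk⟩ := Groth.Agent.S9501.result f (f x) (f.asFiber x)
  apply noeth_CF_congr f (f.fiberι_asFiber x)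
  have e : CF f ((f.fiberι (f x)) (f.asFiber x)) ≃+*
      (f.fiber (f x)).presheaf.stalk (f.asFiber x) :=
    (Ideal.quotEquivOfEq hk.symm).trans (RingHom.quotientKerEquivOfSurjective hs)
  exact isNoetherianRing_of_ringEquiv _ e.symm

/-- closed fibre rings of stalk maps of a composite, `f` flat at `x` -/
theorem gor_CF_comp_iff (x : X) [IsLocallyNoetherian (f.fiber (f x))]
    [IsLocallyNoetherian (g.fiber (g (f x)))] [IsLocallyNoetherian ((f ≫ g).fiber ((f ≫ g) x))]
    (hf : (f.stalkMap x).hom.Flat) :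
    LocCoh.IsGorensteinLocalRing (CF (f ≫ g) x) ↔
      (LocCoh.IsGorensteinLocalRing (CF g (f x)) ∧ LocCoh.IsGorensteinLocalRing (CF f x)) := by
  have h1 := isNoetherianRing_CF f x
  have h2 := isNoetherianRing_CF g (f x)
  have h3 := isNoetherianRing_CF (f ≫ g) x
  have hc : ((f ≫ g).stalkMap x).hom = (f.stalkMap x).hom.comp (g.stalkMap (f x)).hom := by
    rw [Scheme.Hom.stalkMap_comp]
    rfl
  have h3' : IsNoetherianRing (X.presheaf.stalk x ⧸ Ideal.map
      ((f.stalkMap x).hom.comp (g.stalkMap (f x)).hom)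
      (maximalIdeal (Z.presheaf.stalk (g (f x))))) := by
    rw [← hc]
    exact h3
  have h := gor_closedFibre_comp (g.stalkMap (f x)).hom (f.stalkMap x).hom hf
  rw [← h]
  exact ⟨fun hh => gor_congr_ideal' (by rw [hc]; rfl) hh,
    fun hh => gor_congr_ideal' (by rw [hc]; rfl) hh⟩

end scheme

end Groth.Agent.Lib.Helper16.GorMor
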