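import Mathlib.Topology.NoetherianSpace
import Mathlib.Topology.Connected.LocallyConnected
import Mathlib.Topology.Connected.Clopen
import Mathlib.Data.List.TFAE

set_option autoImplicit false

namespace Groth.Agent.Lib.Helper16

open Topology

theorem isOpen_connectedComponent_of_noetherian {α : Type*} [TopologicalSpace α]
    [TopologicalSpace.NoetherianSpace α] (x : α) : IsOpen (connectedComponent x) := by
  have hfin := TopologicalSpace.NoetherianSpace.finite_irreducibleComponents (α := α)
  have : (connectedComponent x)ᶜ =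
      ⋃₀ {Z ∈ irreducibleComponents α | ¬ Z ⊆ connectedComponent x} := by
    ext y
    simp only [Set.mem_compl_iff, Set.mem_sUnion, Set.mem_ofPred_eq]
    constructor
    · intro hy
      refine ⟨irreducibleComponent y, ⟨irreducibleComponent_mem_irreducibleComponents y, ?_⟩,
        mem_irreducibleComponent⟩
      intro hsub
      exact hy (hsub mem_irreducibleComponent)
    · rintro ⟨Z, ⟨hZ, hZx⟩, hyZ⟩ hy
      apply hZx
      have : Z ⊆ connectedComponent y :=
        hZ.1.isPreirreducible.isPreconnected.subset_connectedComponent hyZ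
      rwa [← connectedComponent_eq hy] at this
  rw [← isClosed_compl_iff, this, Set.sUnion_eq_biUnion]
  apply Set.Finite.isClosed_biUnion (hfin.subset (fun Z hZ => hZ.1))
  intro Z hZ
  exact isClosed_of_mem_irreducibleComponents Z hZ.1

theorem locallyConnectedSpace_of_locallyNoetherian
    (X : Type*) [TopologicalSpace X]
    (hX : ∀ x : X, ∃ U ∈ nhds x, TopologicalSpace.NoetherianSpace U) :
    LocallyConnectedSpace X := by
  rw [locallyConnectedSpace_iff_connectedComponentIn_open]
  intro F hF x hx
  rw [isOpen_iff_mem_nhds]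
  intro y hy
  rw [connectedComponentIn_eq hy]
  have hyF : y ∈ F := connectedComponentIn_subset F x hy
  obtain ⟨N, hN, hNoeth⟩ := hX y
  set W : Set X := interior N ∩ F with hW
  have hWo : IsOpen W := isOpen_interior.inter hF
  have hyW : y ∈ W := ⟨mem_interior_iff_mem_nhds.mpr hN, hyF⟩
  have : TopologicalSpace.NoetherianSpace W :=
    TopologicalSpace.NoetherianSpace.of_subset (W := N) (fun z hz => interior_subset hz.1)
  have hsub : connectedComponentIn W y ⊆ connectedComponentIn F y :=
    connectedComponentIn_mono y Set.inter_subset_right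
  refine Filter.mem_of_superset ?_ hsub
  rw [connectedComponentIn_eq_image hyW]
  exact (hWo.isOpenEmbedding_subtypeVal.isOpenMap _
    (isOpen_connectedComponent_of_noetherian _)).mem_nhds ⟨⟨y, hyW⟩, mem_connectedComponent, rfl⟩

theorem finite_irreducibleComponents_meeting {X : Type*} [TopologicalSpace X] {U : Set X}
    (hU : IsOpen U) [TopologicalSpace.NoetherianSpace U] :
    {Z ∈ irreducibleComponents X | (Z ∩ U).Nonempty}.Finite := by
  have hfin := TopologicalSpace.NoetherianSpace.finite_irreducibleComponents (α := U)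
  have hne : ∀ Z : Set X, (Z ∩ U).Nonempty → ((↑) ⁻¹' Z : Set U).Nonempty := by
    rintro Z ⟨z, hz, hzU⟩
    exact ⟨⟨z, hzU⟩, hz⟩
  refine Set.Finite.of_finite_image (f := fun Z => ((↑) ⁻¹' Z : Set U)) (hfin.subset ?_) ?_
  · rintro _ ⟨Z, ⟨hZ, hZU⟩, rfl⟩
    exact preimage_mem_irreducibleComponents hZ hU.isOpenEmbedding_subtypeVal (by simpa using hZU)
  · rintro Z ⟨hZ, hZU⟩ Z' ⟨hZ', hZU'⟩ h
    simp only at h
    rw [← closure_image_preimage_of_isPreirreducible (Subtype.val : U → X)
      hU.isOpenEmbedding_subtypeVal.isOpenMap Z (hne Z hZU) hZ.1.2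
      (isClosed_of_mem_irreducibleComponents _ hZ), h,
      closure_image_preimage_of_isPreirreducible (Subtype.val : U → X)
      hU.isOpenEmbedding_subtypeVal.isOpenMap Z' (hne Z' hZU') hZ'.1.2
      (isClosed_of_mem_irreducibleComponents _ hZ')]

theorem isOpen_of_mem_irreducibleComponents_of_pairwiseDisjoint
    (X : Type*) [TopologicalSpace X]
    (hX : ∀ x : X, ∃ U ∈ nhds x, TopologicalSpace.NoetherianSpace U)
    (hd : (irreducibleComponents X).PairwiseDisjoint id) :
    ∀ Z ∈ irreducibleComponents X, IsOpen Z := by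
  intro Z hZ
  rw [isOpen_iff_mem_nhds]
  intro x hxZ
  obtain ⟨N, hN, hNoeth⟩ := hX x
  set U : Set X := interior N with hU
  have hUo : IsOpen U := isOpen_interior
  have hxU : x ∈ U := mem_interior_iff_mem_nhds.mpr hN
  have : TopologicalSpace.NoetherianSpace U :=
    TopologicalSpace.NoetherianSpace.of_subset (W := N) interior_subset
  have hfin := finite_irreducibleComponents_meeting (X := X) hUo
  set S : Set (Set X) := {Z' ∈ irreducibleComponents X | (Z' ∩ U).Nonempty} \ {Z} with hS
  have hSfin : S.Finite := hfin.sdiff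
  have hclosed : IsClosed (⋃ Z' ∈ S, Z') :=
    hSfin.isClosed_biUnion fun Z' hZ' => isClosed_of_mem_irreducibleComponents Z' hZ'.1.1
  have hopen : IsOpen (U \ ⋃ Z' ∈ S, Z') := hUo.sdiff hclosed
  have hx : x ∈ U \ ⋃ Z' ∈ S, Z' := by
    refine ⟨hxU, ?_⟩
    simp only [Set.mem_iUnion, not_exists]
    intro Z' hZ' hxZ'
    have hne : Z' ≠ Z := fun h => hZ'.2 h
    exact Set.disjoint_left.mp (hd hZ'.1.1 hZ hne) hxZ' hxZ
  refine Filter.mem_of_superset (hopen.mem_nhds hx) ?_
  rintro y ⟨hyU, hy⟩
  by_contra hyZ
  apply hy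
  simp only [Set.mem_iUnion]
  refine ⟨irreducibleComponent y, ⟨⟨irreducibleComponent_mem_irreducibleComponents y,
    ⟨y, mem_irreducibleComponent, hyU⟩⟩, ?_⟩, mem_irreducibleComponent⟩
  intro h
  rw [Set.mem_singleton_iff] at h
  exact hyZ (h ▸ mem_irreducibleComponent)

theorem irreducibleComponents_tfae_of_locallyNoetherian
    (X : Type*) [TopologicalSpace X] (hX : ∀ x : X, ∃ U ∈ nhds x, TopologicalSpace.NoetherianSpace U) :
    List.TFAE [∀ Z ∈ irreducibleComponents X, IsOpen Z,
      irreducibleComponents X = Set.range (connectedComponent : X → Set X),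
      ∀ x : X, IsIrreducible (connectedComponent x),
      (irreducibleComponents X).PairwiseDisjoint id] := by
  have key : ∀ Z ∈ irreducibleComponents X, IsOpen Z → ∀ z ∈ Z, Z = connectedComponent z := by
    intro Z hZ hZo z hz
    apply subset_antisymm
    · exact hZ.1.isPreirreducible.isPreconnected.subset_connectedComponent hz
    · exact IsClopen.connectedComponent_subset
        ⟨isClosed_of_mem_irreducibleComponents Z hZ, hZo⟩ hz
  tfae_have 1 → 2 := by
    intro h
    ext Z
    constructor
    · intro hZ
      obtain ⟨z, hz⟩ := hZ.1.nonempty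
      exact ⟨z, (key Z hZ (h Z hZ) z hz).symm⟩
    · rintro ⟨x, rfl⟩
      have h1 := irreducibleComponent_mem_irreducibleComponents x
      rw [← key _ h1 (h _ h1) x mem_irreducibleComponent]
      exact h1
  tfae_have 2 → 3 := by
    intro h x
    have : connectedComponent x ∈ irreducibleComponents X := h ▸ ⟨x, rfl⟩
    exact this.1
  tfae_have 3 → 4 := by
    intro h Z hZ Z' hZ' hne
    obtain ⟨z, hz⟩ := hZ.1.nonempty
    obtain ⟨z', hz'⟩ := hZ'.1.nonempty
    have e1 : Z = connectedComponent z := by
      apply subset_antisymm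
      · exact hZ.1.isPreirreducible.isPreconnected.subset_connectedComponent hz
      · exact hZ.2 (h z) (hZ.1.isPreirreducible.isPreconnected.subset_connectedComponent hz)
    have e2 : Z' = connectedComponent z' := by
      apply subset_antisymm
      · exact hZ'.1.isPreirreducible.isPreconnected.subset_connectedComponent hz'
      · exact hZ'.2 (h z') (hZ'.1.isPreirreducible.isPreconnected.subset_connectedComponent hz')
    change Disjoint Z Z'
    rw [e1, e2]
    apply connectedComponent_disjoint
    rw [← e1, ← e2]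
    exact hne
  tfae_have 4 → 1 := isOpen_of_mem_irreducibleComponents_of_pairwiseDisjoint X hX
  tfae_finish

end Groth.Agent.Lib.Helper16
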