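import Groth.Agent.Lib.Helper9.FlatCrit
import Mathlib.RingTheory.Regular.RegularSequence
import Mathlib.RingTheory.Flat.Stability
import Mathlib.RingTheory.Jacobson.Ideal
import Mathlib.RingTheory.Ideal.Quotient.Noetherian
import Mathlib.RingTheory.Ideal.Quotient.PowTransition

/-!
# Flatness along a regular sequence in the Jacobson radical (helper16)

* `step_flat_iff`: `B` Noetherian, `y` in the Jacobson radical and `B`-regular, `N` finite:
  `N` flat over `B` iff `y` is `N`-regular and `N/yN` is flat over `B/y`.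
* `flat_iff_of_isWeaklyRegular`, `flat_iff_of_isWeaklyRegular'`: the same along a weakly regular
  sequence `ys`, with `C = B/(ys)`.
* `flat_quotient_iff`: the version over a fixed ring `A` with `B = A/R` and `C = A/(R + (fs))`.
* `extendScalarsOfSurjective`, `tensorEquivOfSurjective`, `mem_jacobson_map`.
-/

set_option autoImplicit false
universe u v w

open TensorProduct RingTheory.Sequence

namespace Groth.Agent.Lib.Helper16.RegSeqFlat

section step

variable {B : Type u} [CommRing B] (y : B) (N : Type v) [AddCommGroup N] [Module B N]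

theorem isSMulRegular_of_flat (hy : IsSMulRegular B y) [Module.Flat B N] : IsSMulRegular N y :=
  ((TensorProduct.rid B N).isSMulRegular_congr y).mp (hy.lTensor N)

theorem rTensor_span_singleton_injective (hN : IsSMulRegular N y) :
    Function.Injective ((Ideal.span {y}).subtype.rTensor N) := by
  let φ : B →ₗ[B] ↥(Ideal.span {y}) :=
    LinearMap.toSpanSingleton B _ ⟨y, Ideal.mem_span_singleton_self y⟩
  have hφ : Function.Surjective φ := by
    rintro ⟨z, hz⟩
    obtain ⟨b, rfl⟩ := Ideal.mem_span_singleton'.mp hz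
    exact ⟨b, Subtype.ext (by simp [φ])⟩
  have hcomp : (Ideal.span {y}).subtype ∘ₗ φ = y • LinearMap.id := by
    ext
    simp [φ]
  have hreg : IsSMulRegular (B ⊗[B] N) y := ((TensorProduct.lid B N).isSMulRegular_congr y).mpr hN
  rw [injective_iff_map_eq_zero]
  intro z hz
  obtain ⟨w, rfl⟩ := LinearMap.rTensor_surjective N hφ z
  have h1 : ((Ideal.span {y}).subtype ∘ₗ φ).rTensor N w = 0 := by
    rw [LinearMap.rTensor_comp]; exact hz
  rw [hcomp, LinearMap.rTensor_smul, LinearMap.rTensor_id, LinearMap.smul_apply,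
    LinearMap.id_apply] at h1
  have : w = 0 := hreg (by simpa using h1)
  rw [this, map_zero]

variable [IsNoetherianRing B] [Module.Finite B N]

theorem step_flat_iff (hyJ : y ∈ (⊥ : Ideal B).jacobson) (hy : IsSMulRegular B y) :
    Module.Flat B N ↔ IsSMulRegular N y ∧
      Module.Flat (B ⧸ Ideal.span {y}) ((B ⧸ Ideal.span {y}) ⊗[B] N) := by
  constructor
  · intro h
    exact ⟨isSMulRegular_of_flat y N hy, inferInstance⟩
  · rintro ⟨h1, h2⟩
    refine Groth.Agent.Lib.Helper9.flat_of_rTensor_injective_of_le_jacobson (R := B) (S := B)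
      (M := N) (Ideal.span {y}) ?_ (rTensor_span_singleton_injective y N h1)
    rw [Algebra.algebraMap_self, Ideal.map_id, Ideal.span_singleton_le_iff_mem]
    exact hyJ

end step

section main

theorem mem_jacobson_map {B B' : Type*} [CommRing B] [CommRing B'] (f : B →+* B')
    (hf : Function.Surjective f) {y : B} (hy : y ∈ (⊥ : Ideal B).jacobson) :
    f y ∈ (⊥ : Ideal B').jacobson := by
  rw [Ideal.mem_jacobson_bot] at hy ⊢
  intro b'
  obtain ⟨b, rfl⟩ := hf b'
  have := (hy b).map f
  simpa using this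

/-- A linear equivalence over `B` between `C`-modules is `C`-linear when `B → C` is surjective. -/
noncomputable def extendScalarsOfSurjective {B C : Type*} [CommRing B] [CommRing C] [Algebra B C]
    (hsurj : Function.Surjective (algebraMap B C)) {P P' : Type*} [AddCommGroup P] [Module B P]
    [Module C P] [IsScalarTower B C P] [AddCommGroup P'] [Module B P'] [Module C P']
    [IsScalarTower B C P'] (e : P ≃ₗ[B] P') : P ≃ₗ[C] P' :=
  { e with
    map_smul' := by
      intro c x
      obtain ⟨b, rfl⟩ := hsurj c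
      simp only [AddHom.toFun_eq_coe, LinearMap.coe_toAddHom, LinearEquiv.coe_coe,
        algebraMap_smul, RingHom.id_apply]
      exact e.map_smul b x }

theorem flat_iff_of_bijective {B : Type u} [CommRing B] (N : Type u) [AddCommGroup N] [Module B N]
    (C : Type u) [CommRing C] [Algebra B C] (hbij : Function.Bijective (algebraMap B C)) :
    Module.Flat B N ↔ Module.Flat C (C ⊗[B] N) := by
  constructor
  · intro h; infer_instance
  · intro h
    let e : B ≃ₐ[B] C := AlgEquiv.ofBijective (Algebra.ofId B C) hbij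
    have hC : Module.Flat B C := Module.Flat.of_linearEquiv e.toLinearEquiv.symm
    have h1 : Module.Flat B (C ⊗[B] N) := Module.Flat.trans B C (C ⊗[B] N)
    exact Module.Flat.of_linearEquiv
      ((TensorProduct.lid B N).symm ≪≫ₗ LinearEquiv.rTensor N e.toLinearEquiv)

theorem ker_quotient_algebraMap {B : Type u} [CommRing B] (y : B) (ys : List B) (C : Type u)
    [CommRing C] [Algebra B C] [Algebra (B ⧸ Ideal.span {y}) C]
    [IsScalarTower B (B ⧸ Ideal.span {y}) C]
    (hker : RingHom.ker (algebraMap B C) = Ideal.ofList (y :: ys)) :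
    RingHom.ker (algebraMap (B ⧸ Ideal.span {y}) C) =
      Ideal.ofList (ys.map (algebraMap B (B ⧸ Ideal.span {y}))) := by
  have hsurj : Function.Surjective (algebraMap B (B ⧸ Ideal.span {y})) :=
    Ideal.Quotient.mk_surjective
  have h1 : (RingHom.ker (algebraMap (B ⧸ Ideal.span {y}) C)).comap
      (algebraMap B (B ⧸ Ideal.span {y})) = RingHom.ker (algebraMap B C) := by
    rw [RingHom.comap_ker, ← IsScalarTower.algebraMap_eq]
  rw [← Ideal.map_comap_of_surjective _ hsurj (RingHom.ker (algebraMap (B ⧸ Ideal.span {y}) C)),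
    h1, hker, Ideal.ofList_cons, Ideal.map_sup, Ideal.map_ofList, Ideal.Quotient.algebraMap_eq,
    Ideal.map_quotient_self, bot_sup_eq]

theorem cons_step {B : Type u} [CommRing B] [IsNoetherianRing B] (y : B) (ys : List B)
    (hyJ : y ∈ (⊥ : Ideal B).jacobson) (hy : IsSMulRegular B y)
    (N : Type u) [AddCommGroup N] [Module B N] [Module.Finite B N]
    (C : Type u) [CommRing C] [Algebra B C] [Algebra (B ⧸ Ideal.span {y}) C]
    [IsScalarTower B (B ⧸ Ideal.span {y}) C]
    (ih : Module.Flat (B ⧸ Ideal.span {y}) ((B ⧸ Ideal.span {y}) ⊗[B] N) ↔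
      Module.Flat C (C ⊗[B ⧸ Ideal.span {y}] ((B ⧸ Ideal.span {y}) ⊗[B] N)) ∧
      IsWeaklyRegular ((B ⧸ Ideal.span {y}) ⊗[B] N)
        (ys.map (algebraMap B (B ⧸ Ideal.span {y})))) :
    Module.Flat B N ↔ Module.Flat C (C ⊗[B] N) ∧ IsWeaklyRegular N (y :: ys) := by
  rw [step_flat_iff y N hyJ hy, ih, isWeaklyRegular_cons_iff,
    isWeaklyRegular_map_algebraMap_iff (B ⧸ Ideal.span {y}) ((B ⧸ Ideal.span {y}) ⊗[B] N) ys,
    ← (QuotSMulTop.equivQuotTensor y N).isWeaklyRegular_congr ys,
    Module.Flat.equiv_iff (TensorProduct.AlgebraTensorModule.cancelBaseChange B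
      (B ⧸ Ideal.span {y}) C C N)]
  tauto

theorem flat_iff_aux (n : ℕ) : ∀ (B : Type u) [CommRing B] [IsNoetherianRing B] (ys : List B),
    ys.length = n → (∀ y ∈ ys, y ∈ (⊥ : Ideal B).jacobson) → IsWeaklyRegular B ys →
    ∀ (N : Type u) [AddCommGroup N] [Module B N] [Module.Finite B N]
      (C : Type u) [CommRing C] [Algebra B C], Function.Surjective (algebraMap B C) →
      RingHom.ker (algebraMap B C) = Ideal.ofList ys →
      (Module.Flat B N ↔ Module.Flat C (C ⊗[B] N) ∧ IsWeaklyRegular N ys) := by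
  induction n with
  | zero =>
    intro B _ _ ys hlen _ _ N _ _ _ C _ _ hsurj hker
    obtain rfl : ys = [] := List.length_eq_zero_iff.mp hlen
    have hinj : Function.Injective (algebraMap B C) := by
      rw [RingHom.injective_iff_ker_eq_bot, hker, Ideal.ofList_nil]
    rw [flat_iff_of_bijective N C ⟨hinj, hsurj⟩]
    simp
  | succ n ih =>
    intro B _ _ ys hlen hJ hreg N _ _ _ C _ _ hsurj hker
    obtain ⟨y, ys', rfl⟩ : ∃ y ys', ys = y :: ys' := by
      cases ys with
      | nil => simp at hlen
      | cons y ys' => exact ⟨y, ys', rfl⟩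
    have hle : ∀ a ∈ Ideal.span {y}, algebraMap B C a = 0 := by
      intro a ha
      have : a ∈ RingHom.ker (algebraMap B C) := by
        rw [hker, Ideal.ofList_cons]
        exact Ideal.mem_sup_left ha
      exact this
    let _ : Algebra (B ⧸ Ideal.span {y}) C :=
      (Ideal.Quotient.lift (Ideal.span {y}) (algebraMap B C) hle).toAlgebra
    have htower : IsScalarTower B (B ⧸ Ideal.span {y}) C :=
      IsScalarTower.of_algebraMap_eq (fun x => rfl)
    have hreg' := (isWeaklyRegular_cons_iff B y ys').mp hreg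
    have hsurj' : Function.Surjective (algebraMap (B ⧸ Ideal.span {y}) C) := by
      intro c
      obtain ⟨b, rfl⟩ := hsurj c
      exact ⟨algebraMap B (B ⧸ Ideal.span {y}) b, (IsScalarTower.algebraMap_apply _ _ _ b).symm⟩
    have hJ' : ∀ y' ∈ ys'.map (algebraMap B (B ⧸ Ideal.span {y})),
        y' ∈ (⊥ : Ideal (B ⧸ Ideal.span {y})).jacobson := by
      intro y' hy'
      obtain ⟨z, hz, rfl⟩ := List.mem_map.mp hy'
      exact mem_jacobson_map _ Ideal.Quotient.mk_surjective (hJ z (List.mem_cons_of_mem _ hz))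
    have hregB' : IsWeaklyRegular (B ⧸ Ideal.span {y})
        (ys'.map (algebraMap B (B ⧸ Ideal.span {y}))) := by
      rw [isWeaklyRegular_map_algebraMap_iff (B ⧸ Ideal.span {y}) (B ⧸ Ideal.span {y}) ys',
        ← ((QuotSMulTop.equivQuotTensor y B).trans
          (TensorProduct.rid B (B ⧸ Ideal.span {y}))).isWeaklyRegular_congr ys']
      exact hreg'.2
    have ih' := ih (B ⧸ Ideal.span {y}) (ys'.map (algebraMap B (B ⧸ Ideal.span {y})))
      (by simpa using hlen) hJ' hregB' ((B ⧸ Ideal.span {y}) ⊗[B] N) C hsurj'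
      (ker_quotient_algebraMap y ys' C hker)
    exact cons_step y ys' (hJ y (List.mem_cons_self)) hreg'.1 N C ih'

/-- Let `B` be a Noetherian ring, `ys` a weakly regular sequence on `B` contained in the Jacobson
radical, `N` a finite `B`-module and `C = B/(ys)`. Then `N` is flat over `B` iff `C ⊗ N` is flat
over `C` and `ys` is weakly regular on `N`. -/
theorem flat_iff_of_isWeaklyRegular {B : Type u} [CommRing B] [IsNoetherianRing B] (ys : List B)
    (hJ : ∀ y ∈ ys, y ∈ (⊥ : Ideal B).jacobson) (hreg : IsWeaklyRegular B ys)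
    (N : Type u) [AddCommGroup N] [Module B N] [Module.Finite B N]
    (C : Type u) [CommRing C] [Algebra B C] (hsurj : Function.Surjective (algebraMap B C))
    (hker : RingHom.ker (algebraMap B C) = Ideal.ofList ys) :
    Module.Flat B N ↔ Module.Flat C (C ⊗[B] N) ∧ IsWeaklyRegular N ys :=
  flat_iff_aux ys.length B ys rfl hJ hreg N C hsurj hker

/-- `C ⊗[B] N ≃ N / I N` for `C = B / I`, in the flexible form of a surjection `g : N → P` with
kernel `I N`. -/
noncomputable def tensorEquivOfSurjective {B C : Type*} [CommRing B] [CommRing C] [Algebra B C]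
    (hsurj : Function.Surjective (algebraMap B C)) {N P : Type*} [AddCommGroup N] [Module B N]
    [AddCommGroup P] [Module B P] [Module C P] [IsScalarTower B C P] (g : N →ₗ[B] P)
    (hg : Function.Surjective g)
    (hker : LinearMap.ker g = RingHom.ker (algebraMap B C) • (⊤ : Submodule B N)) :
    C ⊗[B] N ≃ₗ[C] P :=
  have hsurj' : Function.Surjective (Algebra.ofId B C) := hsurj
  extendScalarsOfSurjective hsurj
    ((LinearEquiv.rTensor N (Ideal.quotientKerAlgEquivOfSurjective hsurj').toLinearEquiv.symm) ≪≫ₗ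
      TensorProduct.quotTensorEquivQuotSMul N (RingHom.ker (Algebra.ofId B C)) ≪≫ₗ
      Submodule.quotEquivOfEq _ _ hker.symm ≪≫ₗ g.quotKerEquivOfSurjective hg)

theorem flat_iff_of_isWeaklyRegular' {B : Type u} [CommRing B] [IsNoetherianRing B] (ys : List B)
    (hJ : ∀ y ∈ ys, y ∈ (⊥ : Ideal B).jacobson) (hreg : IsWeaklyRegular B ys)
    (N : Type u) [AddCommGroup N] [Module B N] [Module.Finite B N]
    (C : Type u) [CommRing C] [Algebra B C] (hsurj : Function.Surjective (algebraMap B C))
    (hker : RingHom.ker (algebraMap B C) = Ideal.ofList ys)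
    (P : Type u) [AddCommGroup P] [Module B P] [Module C P] [IsScalarTower B C P] (g : N →ₗ[B] P)
    (hg : Function.Surjective g)
    (hgker : LinearMap.ker g = RingHom.ker (algebraMap B C) • (⊤ : Submodule B N)) :
    Module.Flat B N ↔ Module.Flat C P ∧ IsWeaklyRegular N ys := by
  rw [flat_iff_of_isWeaklyRegular ys hJ hreg N C hsurj hker,
    Module.Flat.equiv_iff (tensorEquivOfSurjective hsurj g hg hgker)]

end main

section overA

/-- `A`-level form: `A` Noetherian, `R` an ideal, `fs` in the Jacobson radical and weakly regular on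
`A/R`, `Q = R + (fs)`, `N` a finite `A/R`-module, `P = N / Q N` (given by a surjection with kernel
`Q N`) as an `A/Q`-module. Then `N` is flat over `A/R` iff `P` is flat over `A/Q` and `fs` is weakly
regular on `N`. -/
theorem flat_quotient_iff {A : Type u} [CommRing A] [IsNoetherianRing A] (R : Ideal A)
    (fs : List A) (hJ : ∀ x ∈ fs, x ∈ (⊥ : Ideal A).jacobson) (hreg : IsWeaklyRegular (A ⧸ R) fs)
    (Q : Ideal A) (hQ : Q = R ⊔ Ideal.ofList fs)
    (N : Type u) [AddCommGroup N] [Module A N] [Module (A ⧸ R) N] [IsScalarTower A (A ⧸ R) N]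
    [Module.Finite A N]
    (P : Type u) [AddCommGroup P] [Module A P] [Module (A ⧸ Q) P] [IsScalarTower A (A ⧸ Q) P]
    (g : N →ₗ[A] P) (hg : Function.Surjective g)
    (hker : LinearMap.ker g = Q • (⊤ : Submodule A N)) :
    Module.Flat (A ⧸ R) N ↔ Module.Flat (A ⧸ Q) P ∧ IsWeaklyRegular N fs := by
  have hRQ : R ≤ Q := hQ ▸ le_sup_left
  let _ : Algebra (A ⧸ R) (A ⧸ Q) := (Ideal.Quotient.factor hRQ).toAlgebra
  have htower : IsScalarTower A (A ⧸ R) (A ⧸ Q) := IsScalarTower.of_algebraMap_eq (fun x => rfl)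
  let _ : Module (A ⧸ R) P := Module.compHom P (algebraMap (A ⧸ R) (A ⧸ Q))
  have hsmul : ∀ (b : A ⧸ R) (p : P), b • p = algebraMap (A ⧸ R) (A ⧸ Q) b • p := fun _ _ => rfl
  have htower2 : IsScalarTower (A ⧸ R) (A ⧸ Q) P := by
    refine ⟨fun b c p => ?_⟩
    rw [hsmul, Algebra.smul_def, mul_smul]
  have hfin : Module.Finite (A ⧸ R) N := Module.Finite.of_restrictScalars_finite A _ _
  let g' : N →ₗ[A ⧸ R] P :=
    { toFun := g
      map_add' := g.map_add
      map_smul' := by
        intro b n
        obtain ⟨a, rfl⟩ := Ideal.Quotient.mk_surjective b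
        simp only [RingHom.id_apply]
        rw [hsmul, ← Ideal.Quotient.algebraMap_eq, algebraMap_smul,
          ← IsScalarTower.algebraMap_apply, algebraMap_smul, map_smul] }
  have hg' : Function.Surjective g' := hg
  have hsurj : Function.Surjective (algebraMap (A ⧸ R) (A ⧸ Q)) :=
    Ideal.Quotient.factor_surjective hRQ
  have hkerBC : RingHom.ker (algebraMap (A ⧸ R) (A ⧸ Q)) =
      Ideal.ofList (fs.map (algebraMap A (A ⧸ R))) := by
    change RingHom.ker (Ideal.Quotient.factor hRQ) = _
    rw [Ideal.Quotient.factor_ker hRQ, hQ, Ideal.map_sup, Ideal.map_quotient_self, bot_sup_eq,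
      Ideal.map_ofList, Ideal.Quotient.algebraMap_eq]
  have hJ' : ∀ y ∈ fs.map (algebraMap A (A ⧸ R)), y ∈ (⊥ : Ideal (A ⧸ R)).jacobson := by
    intro y hy
    obtain ⟨z, hz, rfl⟩ := List.mem_map.mp hy
    exact mem_jacobson_map _ Ideal.Quotient.mk_surjective (hJ z hz)
  have hreg' : IsWeaklyRegular (A ⧸ R) (fs.map (algebraMap A (A ⧸ R))) :=
    (isWeaklyRegular_map_algebraMap_iff (A ⧸ R) (A ⧸ R) fs).mpr hreg
  have hgker' : LinearMap.ker g' =
      RingHom.ker (algebraMap (A ⧸ R) (A ⧸ Q)) • (⊤ : Submodule (A ⧸ R) N) := by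
    have h1 : (LinearMap.ker g').restrictScalars A = LinearMap.ker g := by
      ext n; rfl
    have h2 : RingHom.ker (algebraMap (A ⧸ R) (A ⧸ Q)) = Q.map (algebraMap A (A ⧸ R)) :=
      Ideal.Quotient.factor_ker hRQ
    apply Submodule.restrictScalars_injective A
    rw [h1, hker, h2, Ideal.smul_restrictScalars, Submodule.restrictScalars_top]
  rw [flat_iff_of_isWeaklyRegular' _ hJ' hreg' N (A ⧸ Q) hsurj hkerBC P g' hg' hgker',
    isWeaklyRegular_map_algebraMap_iff (A ⧸ R) N fs]

end overA

end Groth.Agent.Lib.Helper16.RegSeqFlat
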