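import Mathlib.Topology.Sober
import Mathlib.Topology.Inseparable

set_option autoImplicit false

namespace Groth.Agent.Lib.Helper16

open Topology

theorem bijOn_closure_of_range_eq_generizations {X Y : Type*} [TopologicalSpace X]
    [TopologicalSpace Y] [QuasiSober X] [T0Space Y] (f : Y → X) (hf : IsInducing f) (x : X)
    (hr : Set.range f = {y | y ⤳ x}) :
    Set.BijOn (fun z : Y => closure ({f z} : Set X))
      {z | closure ({z} : Set Y) ∈ irreducibleComponents Y}
      {Z | Z ∈ irreducibleComponents X ∧ x ∈ Z} := by
  have hfx : ∀ z, f z ⤳ x := fun z => by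
    have : f z ∈ Set.range f := ⟨z, rfl⟩
    rw [hr] at this
    exact this
  refine ⟨?_, ?_, ?_⟩
  · intro z hz
    refine ⟨⟨isIrreducible_singleton.closure, ?_⟩, (hfx z).mem_closed isClosed_closure
      (subset_closure rfl)⟩
    intro T hT hZT
    obtain ⟨t, ht⟩ := QuasiSober.sober hT.closure isClosed_closure
    have h1 : t ⤳ f z := by
      rw [specializes_iff_mem_closure, ht.def]
      exact subset_closure (hZT (subset_closure rfl))
    have h2 : t ∈ Set.range f := by
      rw [hr]
      exact h1.trans (hfx z)
    obtain ⟨t', rfl⟩ := h2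
    have h3 : t' ⤳ z := hf.specializes_iff.mp h1
    have h4 : closure {t'} ⊆ closure {z} :=
      hz.2 isIrreducible_singleton.closure h3.closure_subset
    have h5 : z ⤳ t' := by
      rw [specializes_iff_mem_closure]
      exact h4 (subset_closure rfl)
    have h6 : f z ⤳ f t' := hf.specializes_iff.mpr h5
    calc T ⊆ closure T := subset_closure
      _ = closure {f t'} := ht.def.symm
      _ ⊆ closure {f z} := h6.closure_subset
  · intro z _ z' _ h
    simp only at h
    have h1 : f z ⤳ f z' := by
      rw [specializes_iff_mem_closure, h]; exact subset_closure rfl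
    have h2 : f z' ⤳ f z := by
      rw [specializes_iff_mem_closure, ← h]; exact subset_closure rfl
    exact ((hf.specializes_iff.mp h1).antisymm (hf.specializes_iff.mp h2)).eq
  · rintro Z ⟨hZ, hxZ⟩
    obtain ⟨t, ht⟩ := QuasiSober.sober hZ.1 (isClosed_of_mem_irreducibleComponents Z hZ)
    have h1 : t ⤳ x := by
      rw [specializes_iff_mem_closure, ht.def]; exact hxZ
    have h2 : t ∈ Set.range f := by rw [hr]; exact h1
    obtain ⟨z, rfl⟩ := h2
    refine ⟨z, ⟨isIrreducible_singleton.closure, ?_⟩, ht.def⟩
    intro T hT hzT
    have h3 : closure (f '' T) ⊆ Z := by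
      apply hZ.2 (hT.image f hf.continuous.continuousOn).closure
      rw [← ht.def]
      apply closure_minimal _ isClosed_closure
      rw [Set.singleton_subset_iff]
      exact subset_closure ⟨z, hzT (subset_closure rfl), rfl⟩
    intro t' ht'
    have h4 : f z ⤳ f t' := by
      rw [specializes_iff_mem_closure, ht.def]
      exact h3 (subset_closure ⟨t', ht', rfl⟩)
    have := hf.specializes_iff.mp h4
    rw [specializes_iff_mem_closure] at this
    exact this

theorem irreducibleSpace_iff_subsingleton_genericPts {Y : Type*} [TopologicalSpace Y] [QuasiSober Y]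
    [T0Space Y] [Nonempty Y] :
    IrreducibleSpace Y ↔ {z : Y | closure ({z} : Set Y) ∈ irreducibleComponents Y}.Subsingleton := by
  constructor
  · intro h z hz z' hz'
    rw [Set.mem_ofPred_eq, irreducibleComponents_eq_singleton, Set.mem_singleton_iff] at hz hz'
    have h1 : z ⤳ z' := by rw [specializes_iff_mem_closure, hz]; trivial
    have h2 : z' ⤳ z := by rw [specializes_iff_mem_closure, hz']; trivial
    exact (h1.antisymm h2).eq
  · intro h
    obtain ⟨y⟩ := ‹Nonempty Y›
    have hy := irreducibleComponent_mem_irreducibleComponents y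
    obtain ⟨t, ht⟩ := QuasiSober.sober hy.1 (isClosed_of_mem_irreducibleComponents _ hy)
    have huniv : irreducibleComponent y = Set.univ := by
      rw [Set.eq_univ_iff_forall]
      intro w
      have hw := irreducibleComponent_mem_irreducibleComponents w
      obtain ⟨t', ht'⟩ := QuasiSober.sober hw.1 (isClosed_of_mem_irreducibleComponents _ hw)
      have : t = t' := h (by rw [Set.mem_ofPred_eq, ht.def]; exact hy)
        (by rw [Set.mem_ofPred_eq, ht'.def]; exact hw)
      rw [← ht.def, this, ht'.def]
      exact mem_irreducibleComponent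
    have : IsIrreducible (Set.univ : Set Y) := huniv ▸ hy.1
    exact { toPreirreducibleSpace := ⟨this.2⟩, toNonempty := ⟨y⟩ }

end Groth.Agent.Lib.Helper16
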