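import Mathlib
import Groth.Agent.Lib.Helper16.GorBC1

/-!
# Gorenstein base change along finitely generated field extensions (helper16)

gorRing_polynomial, gorRing_quot, gorRing_of_isLocalization; BC F K (K ⊗[F] G Gorenstein for all
Gorenstein F-algebras G): bc_of_algEquiv, bc_self, bc_trans, bc_localization, bc_polynomial, bc_quot,
bc_ratFunc, bc_adjoinRoot, bc_simple, bc_adjoin_finset, bc_of_fg.
-/

set_option autoImplicit false
set_option linter.unusedSectionVars false
set_option linter.style.haveILetI false
universe u
open IsLocalRing TensorProduct Polynomial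

namespace Groth.Agent.Lib.Helper16.GorBC

open Groth.Agent.Lib.Helper2

/-- polynomial rings over Gorenstein rings are Gorenstein -/
theorem gorRing_polynomial (G : Type u) [CommRing G] (hG : LocCoh.IsGorensteinRing G) :
    LocCoh.IsGorensteinRing G[X] := by
  haveI := hG.toIsNoetherian
  refine gorRing_of_flat_of_fiber G G[X] hG ?_
  intro p _
  have e := (polyEquivTensor G p.ResidueField).toRingEquiv
  exact gorRing_of_ringEquiv e (gorRing_of_isRegularRing _)

/-- quotient of a Gorenstein ring by a nonzerodivisor is Gorenstein -/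
theorem gorRing_quot (B : Type u) [CommRing B] (hB : LocCoh.IsGorensteinRing B) (x : B)
    (hx : x ∈ nonZeroDivisors B) (I : Ideal B) (hI : I = Ideal.span {x}) :
    LocCoh.IsGorensteinRing (B ⧸ I) := by
  haveI := hB.toIsNoetherian
  refine { isGorensteinLocalRing_localization := ?_ }
  intro q _
  exact (GK.gor_localization_quot_iff x hx I hI q (q.comap (Ideal.Quotient.mk I)) rfl).mp
    (hB.isGorensteinLocalRing_localization _)

/-- localizations of Gorenstein rings are Gorenstein -/
theorem gorRing_of_isLocalization {R : Type u} [CommRing R] (M : Submonoid R) (S : Type u)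
    [CommRing S] [Algebra R S] [IsLocalization M S] (hR : LocCoh.IsGorensteinRing R) :
    LocCoh.IsGorensteinRing S := by
  haveI := hR.toIsNoetherian
  haveI : IsNoetherianRing S := IsLocalization.isNoetherianRing M S inferInstance
  refine { isGorensteinLocalRing_localization := ?_ }
  intro P _
  haveI : IsLocalization.AtPrime (Localization.AtPrime P) (P.comap (algebraMap R S)) :=
    IsLocalization.isLocalization_isLocalization_atPrime_isLocalization M
      (Localization.AtPrime P) P
  have e := (IsLocalization.algEquiv (P.comap (algebraMap R S)).primeCompl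
    (Localization.AtPrime (P.comap (algebraMap R S))) (Localization.AtPrime P)).toRingEquiv
  exact GK.gor_of_ringEquiv e (hR.isGorensteinLocalRing_localization _)

/-- the Gorenstein base change property of an `F`-algebra `K`: `K ⊗[F] G` is Gorenstein for every
Gorenstein `F`-algebra `G`. -/
def BC (F K : Type u) [CommRing F] [CommRing K] [Algebra F K] : Prop :=
  ∀ (G : Type u) [CommRing G] [Algebra F G], LocCoh.IsGorensteinRing G →
    LocCoh.IsGorensteinRing (K ⊗[F] G)

section bc

variable (F : Type u) [CommRing F]

theorem bc_of_algEquiv {K K' : Type u} [CommRing K] [CommRing K'] [Algebra F K] [Algebra F K']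
    (e : K ≃ₐ[F] K') (h : BC F K) : BC F K' := by
  intro G _ _ hG
  exact gorRing_of_ringEquiv (Algebra.TensorProduct.congr e (AlgEquiv.refl (R := F) (A₁ := G))).toRingEquiv
    (h G hG)

theorem bc_self : BC F F := by
  intro G _ _ hG
  exact gorRing_of_ringEquiv (Algebra.TensorProduct.lid F G).symm.toRingEquiv hG

theorem bc_trans (K₁ K₂ : Type u) [CommRing K₁] [CommRing K₂] [Algebra F K₁] [Algebra K₁ K₂]
    [Algebra F K₂] [IsScalarTower F K₁ K₂] (h₁ : BC F K₁) (h₂ : BC K₁ K₂) : BC F K₂ := by
  intro G _ _ hG
  have h := h₂ (K₁ ⊗[F] G) (h₁ G hG)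
  exact gorRing_of_ringEquiv (Algebra.TensorProduct.cancelBaseChange F K₁ K₂ K₂ G).toRingEquiv h

theorem bc_localization (A K : Type u) [CommRing A] [CommRing K] [Algebra F A] [Algebra A K]
    [Algebra F K] [IsScalarTower F A K] (M : Submonoid A) [IsLocalization M K] (h : BC F A) :
    BC F K := by
  intro G _ _ hG
  letI : Algebra (A ⊗[F] G) (K ⊗[F] G) :=
    (Algebra.TensorProduct.map (IsScalarTower.toAlgHom F A K) (AlgHom.id F G)).toAlgebra
  haveI : IsScalarTower A (A ⊗[F] G) (K ⊗[F] G) :=
    .of_algebraMap_eq <| by intro; simp [RingHom.algebraMap_toAlgebra]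
  haveI := IsLocalization.tensorProduct_tensorProduct F G M K
    (by ext; simp [RingHom.algebraMap_toAlgebra])
  exact gorRing_of_isLocalization (Algebra.algebraMapSubmonoid (A ⊗[F] G) M) (K ⊗[F] G) (h G hG)

end bc

section field

variable (F : Type u) [Field F]

theorem bc_polynomial : BC F F[X] := by
  intro G _ _ hG
  have e1 := (polyEquivTensor F G).toRingEquiv
  have e2 := (Algebra.TensorProduct.comm F G F[X]).toRingEquiv
  exact gorRing_of_ringEquiv (e1.trans e2) (gorRing_polynomial G hG)

theorem bc_quot (A : Type u) [CommRing A] [Algebra F A] (h : BC F A) (f : A)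
    (hf : f ∈ nonZeroDivisors A) : BC F (A ⧸ Ideal.span {f}) := by
  intro G _ _ hG
  have e := (Algebra.TensorProduct.quotientTensorEquiv (R := F) F G A (Ideal.span {f})).toRingEquiv
  have hmap : (Ideal.span {f}).map (algebraMap A (A ⊗[F] G)) =
      Ideal.span {algebraMap A (A ⊗[F] G) f} := by
    rw [Ideal.map_span, Set.image_singleton]
  have hreg : IsSMulRegular (A ⊗[F] G) (algebraMap A (A ⊗[F] G) f) :=
    IsSMulRegular.of_flat ((isRegular_iff_mem_nonZeroDivisors.2 hf).isSMulRegular)
  have hnz : algebraMap A (A ⊗[F] G) f ∈ nonZeroDivisors (A ⊗[F] G) := by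
    rw [mem_nonZeroDivisors_iff_right]
    intro x hx
    apply hreg
    change (algebraMap A (A ⊗[F] G)) f • x = (algebraMap A (A ⊗[F] G)) f • (0 : A ⊗[F] G)
    rw [smul_zero, smul_eq_mul, mul_comm]
    exact hx
  exact gorRing_of_ringEquiv e.symm (gorRing_quot _ (h G hG) _ hnz _ hmap)

theorem bc_ratFunc : BC F (RatFunc F) :=
  bc_localization F F[X] (RatFunc F) (nonZeroDivisors F[X]) (bc_polynomial F)

theorem bc_adjoinRoot (f : F[X]) (hf : f ≠ 0) : BC F (AdjoinRoot f) :=
  bc_quot F F[X] (bc_polynomial F) f (mem_nonZeroDivisors_of_ne_zero hf)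

open IntermediateField in
theorem bc_simple {E : Type u} [Field E] [Algebra F E] (a : E) : BC F F⟮a⟯ := by
  by_cases ha : IsIntegral F a
  · exact bc_of_algEquiv F (IntermediateField.adjoinRootEquivAdjoin F ha)
      (bc_adjoinRoot F _ (minpoly.ne_zero ha))
  · have ht : Transcendental F a := fun h => ha h.isIntegral
    exact bc_of_algEquiv F (RatFunc.algEquivOfTranscendental a ht) (bc_ratFunc F)

open IntermediateField in
theorem bc_adjoin_finset {E : Type u} [Field E] [Algebra F E] (S : Finset E) :
    BC F (IntermediateField.adjoin F (S : Set E)) := by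
  refine IntermediateField.induction_on_adjoin_finset S (fun K => BC F K) ?_ ?_
  · exact bc_of_algEquiv F (IntermediateField.botEquiv F E).symm (bc_self F)
  · intro K x _ hK
    have h2 : BC K K⟮x⟯ := bc_simple K x
    have h3 : BC F K⟮x⟯ := bc_trans F K K⟮x⟯ hK h2
    exact h3

/-- **Gorenstein base change along finitely generated field extensions.** -/
theorem bc_of_fg (K : Type u) [Field K] [Algebra F K]
    (hK : ∃ s : Finset K, IntermediateField.adjoin F (s : Set K) = ⊤) : BC F K := by
  obtain ⟨s, hs⟩ := hK
  have h := bc_adjoin_finset F s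
  rw [hs] at h
  exact bc_of_algEquiv F IntermediateField.topEquiv h

end field

end Groth.Agent.Lib.Helper16.GorBC
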