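import Mathlib
import Groth.Agent.Lib.Helper16.GorBC2
import Groth.Agent.Lib.Helper2.Gor.GK3

/-!
# Base change of stable ring properties along f.g. field extensions; tensor fibres (helper16)

StableProp, PBC, pbc_of_fg, isNoetherianRing_tensor_of_fg, gorRing_fiber_tensor,
gor_tensor_atPrime_iff.
-/

set_option autoImplicit false
set_option linter.unusedSectionVars false
set_option linter.style.haveILetI false
set_option linter.unusedVariables false
universe u
open IsLocalRing TensorProduct Polynomial

namespace Groth.Agent.Lib.Helper16.GorBC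

/-- ring properties stable under isomorphism, polynomial rings, quotients by nonzerodivisors and
localization -/
structure StableProp (P : ∀ (R : Type u) [CommRing R], Prop) : Prop where
  iso : ∀ {R S : Type u} [CommRing R] [CommRing S], (R ≃+* S) → P R → P S
  poly : ∀ (R : Type u) [CommRing R], P R → P R[X]
  quot : ∀ (R : Type u) [CommRing R], P R → ∀ x ∈ nonZeroDivisors R, P (R ⧸ Ideal.span {x})
  loc : ∀ {R : Type u} [CommRing R] (M : Submonoid R) (S : Type u) [CommRing S] [Algebra R S]
    [IsLocalization M S], P R → P S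

/-- base change property for a ring property `P` -/
def PBC (P : ∀ (R : Type u) [CommRing R], Prop) (F K : Type u) [CommRing F] [CommRing K]
    [Algebra F K] : Prop :=
  ∀ (G : Type u) [CommRing G] [Algebra F G], P G → P (K ⊗[F] G)

variable {P : ∀ (R : Type u) [CommRing R], Prop} (hP : StableProp P)

section bc

variable (F : Type u) [CommRing F]

include hP in
theorem pbc_of_algEquiv {K K' : Type u} [CommRing K] [CommRing K'] [Algebra F K] [Algebra F K']
    (e : K ≃ₐ[F] K') (h : PBC P F K) : PBC P F K' := by
  intro G _ _ hG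
  exact hP.iso (Algebra.TensorProduct.congr e (AlgEquiv.refl (R := F) (A₁ := G))).toRingEquiv
    (h G hG)

include hP in
theorem pbc_self : PBC P F F := by
  intro G _ _ hG
  exact hP.iso (Algebra.TensorProduct.lid F G).symm.toRingEquiv hG

include hP in
theorem pbc_trans (K₁ K₂ : Type u) [CommRing K₁] [CommRing K₂] [Algebra F K₁] [Algebra K₁ K₂]
    [Algebra F K₂] [IsScalarTower F K₁ K₂] (h₁ : PBC P F K₁) (h₂ : PBC P K₁ K₂) : PBC P F K₂ := by
  intro G _ _ hG
  have h := h₂ (K₁ ⊗[F] G) (h₁ G hG)
  exact hP.iso (Algebra.TensorProduct.cancelBaseChange F K₁ K₂ K₂ G).toRingEquiv h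

include hP in
theorem pbc_localization (A K : Type u) [CommRing A] [CommRing K] [Algebra F A] [Algebra A K]
    [Algebra F K] [IsScalarTower F A K] (M : Submonoid A) [IsLocalization M K] (h : PBC P F A) :
    PBC P F K := by
  intro G _ _ hG
  letI : Algebra (A ⊗[F] G) (K ⊗[F] G) :=
    (Algebra.TensorProduct.map (IsScalarTower.toAlgHom F A K) (AlgHom.id F G)).toAlgebra
  haveI : IsScalarTower A (A ⊗[F] G) (K ⊗[F] G) :=
    .of_algebraMap_eq <| by intro; simp [RingHom.algebraMap_toAlgebra]
  haveI := IsLocalization.tensorProduct_tensorProduct F G M K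
    (by ext; simp [RingHom.algebraMap_toAlgebra])
  exact hP.loc (Algebra.algebraMapSubmonoid (A ⊗[F] G) M) (K ⊗[F] G) (h G hG)

end bc

section field

variable (F : Type u) [Field F]

include hP in
theorem pbc_polynomial : PBC P F F[X] := by
  intro G _ _ hG
  have e1 := (polyEquivTensor F G).toRingEquiv
  have e2 := (Algebra.TensorProduct.comm F G F[X]).toRingEquiv
  exact hP.iso (e1.trans e2) (hP.poly G hG)

include hP in
theorem pbc_quot (A : Type u) [CommRing A] [Algebra F A] (h : PBC P F A) (f : A)
    (hf : f ∈ nonZeroDivisors A) : PBC P F (A ⧸ Ideal.span {f}) := by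
  intro G _ _ hG
  have e := (Algebra.TensorProduct.quotientTensorEquiv (R := F) F G A (Ideal.span {f})).toRingEquiv
  have hmap : (Ideal.span {f}).map (algebraMap A (A ⊗[F] G)) =
      Ideal.span {algebraMap A (A ⊗[F] G) f} := by
    rw [Ideal.map_span, Set.image_singleton]
  have hreg : IsSMulRegular (A ⊗[F] G) (algebraMap A (A ⊗[F] G) f) :=
    IsSMulRegular.of_flat ((isRegular_iff_mem_nonZeroDivisors.2 hf).isSMulRegular)
  have hnz : algebraMap A (A ⊗[F] G) f ∈ nonZeroDivisors (A ⊗[F] G) := by
    rw [mem_nonZeroDivisors_iff_right]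
    intro x hx
    apply hreg
    change (algebraMap A (A ⊗[F] G)) f • x = (algebraMap A (A ⊗[F] G)) f • (0 : A ⊗[F] G)
    rw [smul_zero, smul_eq_mul, mul_comm]
    exact hx
  have h1 := hP.quot _ (h G hG) _ hnz
  rw [← hmap] at h1
  exact hP.iso e.symm h1

include hP in
theorem pbc_ratFunc : PBC P F (RatFunc F) :=
  pbc_localization hP F F[X] (RatFunc F) (nonZeroDivisors F[X]) (pbc_polynomial hP F)

include hP in
theorem pbc_adjoinRoot (f : F[X]) (hf : f ≠ 0) : PBC P F (AdjoinRoot f) :=
  pbc_quot hP F F[X] (pbc_polynomial hP F) f (mem_nonZeroDivisors_of_ne_zero hf)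

include hP in
open IntermediateField in
theorem pbc_simple {E : Type u} [Field E] [Algebra F E] (a : E) : PBC P F F⟮a⟯ := by
  by_cases ha : IsIntegral F a
  · exact pbc_of_algEquiv hP F (IntermediateField.adjoinRootEquivAdjoin F ha)
      (pbc_adjoinRoot hP F _ (minpoly.ne_zero ha))
  · have ht : Transcendental F a := fun h => ha h.isIntegral
    exact pbc_of_algEquiv hP F (RatFunc.algEquivOfTranscendental a ht) (pbc_ratFunc hP F)

include hP in
open IntermediateField in
theorem pbc_adjoin_finset {E : Type u} [Field E] [Algebra F E] (S : Finset E) :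
    PBC P F (IntermediateField.adjoin F (S : Set E)) := by
  refine IntermediateField.induction_on_adjoin_finset S (fun K => PBC P F K) ?_ ?_
  · exact pbc_of_algEquiv hP F (IntermediateField.botEquiv F E).symm (pbc_self hP F)
  · intro K x _ hK
    have h2 : PBC P K K⟮x⟯ := pbc_simple hP K x
    have h3 : PBC P F K⟮x⟯ := pbc_trans hP F K K⟮x⟯ hK h2
    exact h3

include hP in
/-- base change of a stable ring property along finitely generated field extensions -/
theorem pbc_of_fg (K : Type u) [Field K] [Algebra F K]
    (hK : ∃ s : Finset K, IntermediateField.adjoin F (s : Set K) = ⊤) : PBC P F K := by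
  obtain ⟨s, hs⟩ := hK
  have h := pbc_adjoin_finset hP F s
  rw [hs] at h
  exact pbc_of_algEquiv hP F IntermediateField.topEquiv h

end field

/-- Noetherianity is a stable property -/
theorem stableProp_noetherian : StableProp (fun (R : Type u) [CommRing R] => IsNoetherianRing R) where
  iso e h := isNoetherianRing_of_ringEquiv _ e
  poly R _ h := inferInstance
  quot R _ h x _ := inferInstance
  loc M S _ _ _ h := IsLocalization.isNoetherianRing M S h

/-- `K ⊗[F] G` is Noetherian for Noetherian `G` and a finitely generated field extension `K/F`. -/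
theorem isNoetherianRing_tensor_of_fg (F : Type u) [Field F] (K : Type u) [Field K] [Algebra F K]
    (hK : ∃ s : Finset K, IntermediateField.adjoin F (s : Set K) = ⊤)
    (G : Type u) [CommRing G] [Algebra F G] [IsNoetherianRing G] : IsNoetherianRing (K ⊗[F] G) :=
  pbc_of_fg stableProp_noetherian F K hK G inferInstance

section tensor

variable (k k' B : Type u) [Field k] [Field k'] [Algebra k k'] [CommRing B] [Algebra k B]

/-- the fibre of `B → B ⊗[k] k'` over `p` is `κ(p) ⊗[k] k'` -/
theorem gorRing_fiber_tensor (p : Ideal B) [p.IsPrime]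
    (h : LocCoh.IsGorensteinRing (p.ResidueField ⊗[k] k')) :
    LocCoh.IsGorensteinRing (p.Fiber (B ⊗[k] k')) := by
  have e := (Algebra.TensorProduct.cancelBaseChange k B p.ResidueField p.ResidueField k').toRingEquiv
  exact gorRing_of_ringEquiv e.symm h

/-- Gorenstein-ness of local rings of `B ⊗[k] k'` when the fibres `κ(p) ⊗[k] k'` are Gorenstein -/
theorem gor_tensor_atPrime_iff [IsNoetherianRing B] [IsNoetherianRing (B ⊗[k] k')]
    (q : Ideal (B ⊗[k] k')) [q.IsPrime]
    (h : LocCoh.IsGorensteinRing
      ((q.comap (algebraMap B (B ⊗[k] k'))).ResidueField ⊗[k] k')) :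
    LocCoh.IsGorensteinLocalRing (Localization.AtPrime q) ↔
      LocCoh.IsGorensteinLocalRing
        (Localization.AtPrime (q.comap (algebraMap B (B ⊗[k] k')))) := by
  rw [gor_atPrime_iff B (B ⊗[k] k') q]
  have hf := gorRing_fiber_tensor k k' B (q.comap (algebraMap B (B ⊗[k] k'))) h
  have h2 := (isGorensteinRing_fiber_iff B (B ⊗[k] k') _).mp hf q rfl
  exact ⟨fun h => h.1, fun h => ⟨h, h2⟩⟩

end tensor

end Groth.Agent.Lib.Helper16.GorBC
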