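import Groth.Agent.Lib.Helper16.LocCohLES
import Groth.Prelude.Def_DRing3

/-!
# `H^0_I(M) ≃ Γ_I(M)` and maps out of local cohomology (helper16)

* `descH I M i φ hφ` : a compatible family `φ k : E I i M k →ₗ[R] T` induces
  `(localCohomology I i).obj M →ₗ[R] T`, `descH_ι`.
* `ev1`, `H0toM : H^0_I(M) →ₗ[R] M`, `H0toM_ι`, `H0toM_injective`, `H0toM_mem`,
  `H0equiv : H^0_I(M) ≃ₗ[R] DRing.torsionSub I M`, `H0toM_naturality`.
-/

set_option autoImplicit false
universe u
open CategoryTheory Opposite Limits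

namespace Groth.Agent.Lib.Helper16.LC

variable {R : Type u} [CommRing R] (I : Ideal R) (M : ModuleCat.{u} R)

/-- Evaluate a degree-zero Ext class `R/I^k → M` at `1`. -/
noncomputable def ev1 (k : ℕ) : E I 0 M k →ₗ[R] M where
  toFun e := (Abelian.Ext.linearEquiv₀ (R := R) e).hom (1 : R ⧸ I ^ k)
  map_add' := by intro a b; simp
  map_smul' := by intro r a; simp

theorem ev1_apply (k : ℕ) (e : E I 0 M k) :
    ev1 I M k e = (Abelian.Ext.linearEquiv₀ (R := R) e).hom (1 : R ⧸ I ^ k) := rfl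

theorem ev1_mk₀ (k : ℕ) (φ : Q I k ⟶ M) :
    ev1 I M k (Abelian.Ext.mk₀ φ) = φ.hom (1 : R ⧸ I ^ k) := by
  rw [ev1_apply]
  have : Abelian.Ext.linearEquiv₀ (R := R) (Abelian.Ext.mk₀ φ) = φ := by
    apply (Abelian.Ext.linearEquiv₀ (R := R)).symm.injective
    simp
  rw [this]

theorem ev1_trans {k l : ℕ} (h : k ≤ l) (e : E I 0 M k) :
    ev1 I M l (trans I 0 M h e) = ev1 I M k e := by
  obtain ⟨φ, rfl⟩ : ∃ φ : Q I k ⟶ M, Abelian.Ext.mk₀ φ = e :=
    ⟨Abelian.Ext.linearEquiv₀ (R := R) e, Abelian.Ext.mk₀_linearEquiv₀_apply e⟩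
  rw [trans_apply, Abelian.Ext.mk₀_comp_mk₀, ev1_mk₀, ev1_mk₀]
  rfl

section desc

variable (i : ℕ) {T : ModuleCat.{u} R} (φ : ∀ k, E I i M k →ₗ[R] T)
  (hφ : ∀ (k l : ℕ) (h : k ≤ l) (e : E I i M k), φ l (trans I i M h e) = φ k e)

/-- A compatible family of linear maps out of the `Ext` groups induces a cocone. -/
noncomputable def descCocone : Cocone (DM I i M) where
  pt := T
  ι :=
    { app := fun k => ModuleCat.ofHom ((φ k.unop.unop) ∘ₗ
        (ExtBridge.oldToNew (Q I k.unop.unop) M i).toLinearMap)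
      naturality := by
        intro k l f
        rcases k with ⟨⟨k⟩⟩
        rcases l with ⟨⟨l⟩⟩
        have hkl : k ≤ l := leOfHom f.unop.unop
        have hf : f = ((homOfLE hkl).op.op : op (op k) ⟶ op (op l)) :=
          Subsingleton.elim _ _
        subst hf
        apply ModuleCat.hom_ext
        apply LinearMap.ext
        intro e'
        change φ l (ExtBridge.oldToNew (Q I l) M i
          (((DM I i M).map ((homOfLE hkl).op.op : op (op k) ⟶ op (op l))).hom e')) =
          φ k (ExtBridge.oldToNew (Q I k) M i e')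
        rw [← trans_old, hφ] }

/-- The linear map out of local cohomology induced by a compatible family. -/
noncomputable def descH : (localCohomology I i).obj M →ₗ[R] T :=
  ((isColimitCoconeM I i M).desc (descCocone I M i φ hφ)).hom

theorem descH_ι {k : ℕ} (e : E I i M k) : descH I M i φ hφ (ι I i M k e) = φ k e := by
  obtain ⟨e', rfl⟩ := (ExtBridge.oldToNew (Q I k) M i).surjective e
  rw [ι_old]
  have := (isColimitCoconeM I i M).fac (descCocone I M i φ hφ) (op (op k))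
  have h2 := LinearMap.congr_fun (congrArg ModuleCat.Hom.hom this) e'
  rw [ModuleCat.hom_comp, LinearMap.comp_apply] at h2
  exact h2

end desc

/-- The canonical map `H^0_I(M) → M`. -/
noncomputable def H0toM : (localCohomology I 0).obj M →ₗ[R] M :=
  descH I M 0 (ev1 I M) (fun _ _ h e => ev1_trans I M h e)

theorem H0toM_ι {k : ℕ} (e : E I 0 M k) : H0toM I M (ι I 0 M k e) = ev1 I M k e :=
  descH_ι I M 0 _ _ e

theorem ev1_mem_torsionSub {k : ℕ} (e : E I 0 M k) : ev1 I M k e ∈ DRing.torsionSub I M := by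
  refine ⟨k, fun a ha => ?_⟩
  rw [ev1_apply, ← map_smul]
  have : a • (1 : R ⧸ I ^ k) = 0 := by
    rw [Algebra.smul_def, mul_one]
    exact Ideal.Quotient.eq_zero_iff_mem.mpr ha
  rw [this, map_zero]

theorem H0toM_mem (x : (localCohomology I 0).obj M) : H0toM I M x ∈ DRing.torsionSub I M := by
  obtain ⟨k, e, rfl⟩ := ι_jointly_surjective I 0 M x
  rw [H0toM_ι]
  exact ev1_mem_torsionSub I M e

theorem ev1_injective (k : ℕ) : Function.Injective (ev1 I M k) := by
  rw [injective_iff_map_eq_zero]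
  intro e he
  obtain ⟨φ, rfl⟩ : ∃ φ : Q I k ⟶ M, Abelian.Ext.mk₀ φ = e :=
    ⟨Abelian.Ext.linearEquiv₀ (R := R) e, Abelian.Ext.mk₀_linearEquiv₀_apply e⟩
  rw [ev1_mk₀] at he
  have : φ = 0 := by
    apply ModuleCat.hom_ext
    apply LinearMap.ext
    intro y
    obtain ⟨r, rfl⟩ := Ideal.Quotient.mk_surjective y
    have h1 : (Ideal.Quotient.mk (I ^ k)) r = r • (1 : R ⧸ I ^ k) := by
      rw [Algebra.smul_def, mul_one]; rfl
    rw [h1, map_smul, he, smul_zero]
    rfl
  rw [this, Abelian.Ext.mk₀_zero]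

theorem H0toM_injective : Function.Injective (H0toM I M) := by
  rw [injective_iff_map_eq_zero]
  intro x hx
  obtain ⟨k, e, rfl⟩ := ι_jointly_surjective I 0 M x
  rw [H0toM_ι] at hx
  have : e = 0 := ev1_injective I M k (by rw [hx, map_zero])
  rw [this, map_zero]

theorem exists_ev1_eq {m : M} {k : ℕ} (hm : ∀ a ∈ I ^ k, a • m = 0) :
    ∃ e : E I 0 M k, ev1 I M k e = m := by
  let φ : (R ⧸ I ^ k) →ₗ[R] M := Submodule.liftQ (I ^ k) (LinearMap.toSpanSingleton R M m) (by
    intro a ha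
    rw [LinearMap.mem_ker, LinearMap.toSpanSingleton_apply]
    exact hm a ha)
  refine ⟨Abelian.Ext.mk₀ (ModuleCat.ofHom φ), ?_⟩
  rw [ev1_mk₀]
  change φ (Submodule.Quotient.mk (1 : R)) = m
  rw [Submodule.liftQ_apply, LinearMap.toSpanSingleton_apply, one_smul]

/-- `H^0_I(M) ≃ Γ_I(M)`. -/
noncomputable def H0equiv : (localCohomology I 0).obj M ≃ₗ[R] DRing.torsionSub I M :=
  LinearEquiv.ofBijective ((H0toM I M).codRestrict _ (H0toM_mem I M)) (by
    constructor
    · intro x y hxy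
      apply H0toM_injective I M
      exact congrArg Subtype.val hxy
    · rintro ⟨m, k, hm⟩
      obtain ⟨e, he⟩ := exists_ev1_eq I M hm
      refine ⟨ι I 0 M k e, ?_⟩
      apply Subtype.ext
      change H0toM I M (ι I 0 M k e) = m
      rw [H0toM_ι, he])

theorem H0equiv_apply (x : (localCohomology I 0).obj M) :
    ((H0equiv I M x : DRing.torsionSub I M) : M) = H0toM I M x := rfl

variable {M} in
theorem H0toM_naturality {N : ModuleCat.{u} R} (f : M ⟶ N) (x : (localCohomology I 0).obj M) :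
    H0toM I N (Hmap I 0 f x) = f.hom (H0toM I M x) := by
  obtain ⟨k, e, rfl⟩ := ι_jointly_surjective I 0 M x
  rw [Hmap_ι, H0toM_ι, H0toM_ι]
  obtain ⟨φ, rfl⟩ : ∃ φ : Q I k ⟶ M, Abelian.Ext.mk₀ φ = e :=
    ⟨Abelian.Ext.linearEquiv₀ (R := R) e, Abelian.Ext.mk₀_linearEquiv₀_apply e⟩
  rw [Abelian.Ext.mk₀_comp_mk₀, ev1_mk₀, ev1_mk₀]
  rfl

end Groth.Agent.Lib.Helper16.LC
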