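import Groth.Agent.Lib.Helper16.ExtBridge
import Groth.Prelude.Def_Wider
import Mathlib.Algebra.Category.ModuleCat.FilteredColimits

/-!
# Local cohomology as a direct limit of (new) `Abelian.Ext` groups (helper16)

`localCohomology I i` in Mathlib is the colimit over `k` of the OLD `Ext^i(R/I^k, -)`.  Using
`ExtBridge.oldToNew` we describe its elements via the new `Abelian.Ext`:

* `E I i M k := Abelian.Ext (R/I^k) M i`, `trans I i M (h : k ≤ l) : E k →ₗ E l`
  (precomposition with `mk₀ (quotMap I h)`, `quotMap I h : R/I^l ⟶ R/I^k`),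
* `ι I i M k : E I i M k →ₗ[R] (localCohomology I i).obj M`,
* `ι_trans`, `ι_jointly_surjective`, `ι_eq_zero_iff`, `ι_naturality`.
-/

set_option autoImplicit false
universe u
open CategoryTheory Opposite Limits

namespace Groth.Agent.Lib.Helper16.LC

open Groth.Agent.Lib.Helper16.ExtBridge

variable {R : Type u} [CommRing R] (I : Ideal R) (i : ℕ)

/-- The diagram defining local cohomology. -/
noncomputable abbrev D : (ℕᵒᵖ)ᵒᵖ ⥤ ModuleCat.{u} R ⥤ ModuleCat.{u} R :=
  localCohomology.diagram (localCohomology.idealPowersDiagram I) i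

variable (M : ModuleCat.{u} R)

/-- the evaluated diagram -/
noncomputable abbrev DM : (ℕᵒᵖ)ᵒᵖ ⥤ ModuleCat.{u} R := D I i ⋙ (evaluation _ _).obj M

/-- the evaluated colimit cocone -/
noncomputable def coconeM : Cocone (DM I i M) :=
  ((evaluation _ _).obj M).mapCocone (colimit.cocone (D I i))

/-- the evaluated colimit cocone is colimit -/
noncomputable def isColimitCoconeM : IsColimit (coconeM I i M) :=
  isColimitOfPreserves ((evaluation _ _).obj M) (colimit.isColimit (D I i))

/-- `R ⧸ I ^ k` as an object of `ModuleCat R`. -/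
noncomputable abbrev Q (k : ℕ) : ModuleCat.{u} R := ModuleCat.of R (R ⧸ I ^ k)

/-- The projection `R/I^l ⟶ R/I^k` for `k ≤ l`. -/
noncomputable def quotMap {k l : ℕ} (h : k ≤ l) : Q I l ⟶ Q I k :=
  (localCohomology.ringModIdeals (localCohomology.idealPowersDiagram I)).map (homOfLE h).op

theorem quotMap_apply {k l : ℕ} (h : k ≤ l) (r : R) :
    (quotMap I h).hom (Ideal.Quotient.mk (I ^ l) r) = Ideal.Quotient.mk (I ^ k) r := rfl

/-- The `k`-th term of the direct system: the (new) `Ext^i(R/I^k, M)`. -/
abbrev E (k : ℕ) : Type u := Abelian.Ext.{u} (Q I k) M i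

/-- Transition maps of the direct system. -/
noncomputable def trans {k l : ℕ} (h : k ≤ l) : E I i M k →ₗ[R] E I i M l where
  toFun e := (Abelian.Ext.mk₀ (quotMap I h)).comp e (zero_add i)
  map_add' := by intro a b; simp
  map_smul' := by intro r a; simp

theorem trans_apply {k l : ℕ} (h : k ≤ l) (e : E I i M k) :
    trans I i M h e = (Abelian.Ext.mk₀ (quotMap I h)).comp e (zero_add i) := rfl

/-- The canonical map from the `k`-th term to local cohomology. -/
noncomputable def ι (k : ℕ) : E I i M k →ₗ[R] ((localCohomology I i).obj M) :=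
  ((coconeM I i M).ι.app (op (op k))).hom ∘ₗ (oldToNew (Q I k) M i).symm.toLinearMap

theorem ι_trans {k l : ℕ} (h : k ≤ l) (e : E I i M k) :
    ι I i M l (trans I i M h e) = ι I i M k e := by
  obtain ⟨e', rfl⟩ := (oldToNew (Q I k) M i).surjective e
  have hnat := oldToNew_naturality_X M i (quotMap I h) e'
  rw [trans_apply, ← hnat]
  simp only [ι, LinearMap.comp_apply]
  erw [LinearEquiv.symm_apply_apply, LinearEquiv.symm_apply_apply]
  have hc := (coconeM I i M).w ((homOfLE h).op.op : op (op k) ⟶ op (op l))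
  have hc' := LinearMap.congr_fun (congrArg ModuleCat.Hom.hom hc) e'
  rw [ModuleCat.hom_comp, LinearMap.comp_apply] at hc'
  exact hc'

instance : PreservesFilteredColimitsOfSize.{0, 0} (forget (ModuleCat.{u} R)) :=
  preservesSmallestFilteredColimits_of_preservesFilteredColimits.{u, u} (forget (ModuleCat.{u} R))

theorem ι_old {k : ℕ} (e' : ((_root_.Ext R (ModuleCat.{u} R) i).obj (op (Q I k))).obj M) :
    ι I i M k (oldToNew (Q I k) M i e') = ((coconeM I i M).ι.app (op (op k))).hom e' := by
  simp only [ι, LinearMap.comp_apply]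
  erw [LinearEquiv.symm_apply_apply]
  rfl

theorem ι_jointly_surjective (x : (localCohomology I i).obj M) :
    ∃ (k : ℕ) (e : E I i M k), ι I i M k e = x := by
  obtain ⟨j, y, hy⟩ := Concrete.isColimit_exists_rep (DM I i M) (isColimitCoconeM I i M) x
  refine ⟨j.unop.unop, oldToNew (Q I j.unop.unop) M i y, ?_⟩
  rw [ι_old]
  exact hy

theorem trans_old {k l : ℕ} (h : k ≤ l)
    (e' : ((_root_.Ext R (ModuleCat.{u} R) i).obj (op (Q I k))).obj M) :
    trans I i M h (oldToNew (Q I k) M i e') =
      oldToNew (Q I l) M i (((DM I i M).map ((homOfLE h).op.op : op (op k) ⟶ op (op l))).hom e') :=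
  (oldToNew_naturality_X M i (quotMap I h) e').symm

theorem ι_eq_zero_iff {k : ℕ} (e : E I i M k) :
    ι I i M k e = 0 ↔ ∃ (l : ℕ) (h : k ≤ l), trans I i M h e = 0 := by
  constructor
  · intro h0
    obtain ⟨e', rfl⟩ := (oldToNew (Q I k) M i).surjective e
    rw [ι_old] at h0
    have h1 : ((coconeM I i M).ι.app (op (op k))).hom e' =
        ((coconeM I i M).ι.app (op (op k))).hom 0 := by rw [h0]; exact (map_zero _).symm
    obtain ⟨j, f, g, hfg⟩ := (Concrete.isColimit_rep_eq_iff_exists (DM I i M)
      (isColimitCoconeM I i M) (i := op (op k)) (j := op (op k)) e' 0).mp h1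
    have hkl : k ≤ j.unop.unop := leOfHom f.unop.unop
    refine ⟨j.unop.unop, hkl, ?_⟩
    rw [trans_old]
    have hf : f = ((homOfLE hkl).op.op : op (op k) ⟶ op (op j.unop.unop)) := Subsingleton.elim _ _
    rw [← hf]
    have : ((DM I i M).map f).hom e' = 0 := by
      have := hfg
      simp only [map_zero] at this
      exact this
    rw [this]
    exact map_zero (oldToNew (Q I (unop (unop j))) M i)
  · rintro ⟨l, h, hl⟩
    rw [← ι_trans I i M h e, hl, map_zero]

variable {M} in
theorem ι_naturality {N : ModuleCat.{u} R} (f : M ⟶ N) {k : ℕ} (e : E I i M k) :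
    ((localCohomology I i).map f).hom (ι I i M k e) =
      ι I i N k (e.comp (Abelian.Ext.mk₀ f) (add_zero i)) := by
  obtain ⟨e', rfl⟩ := (oldToNew (Q I k) M i).surjective e
  rw [← oldToNew_naturality_Y (Q I k) i f e', ι_old, ι_old]
  have hn := (colimit.ι (D I i) (op (op k))).naturality f
  have hn' := LinearMap.congr_fun (congrArg ModuleCat.Hom.hom hn) e'
  rw [ModuleCat.hom_comp, ModuleCat.hom_comp, LinearMap.comp_apply, LinearMap.comp_apply] at hn'
  exact hn'.symm

end Groth.Agent.Lib.Helper16.LC
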