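import Groth.Agent.Lib.Helper16.LocCohGrothVanish
import Groth.Agent.Lib.Helper16.LocCohH0
import Groth.Agent.S15426

/-!
# Faltings' finiteness criterion (helper16)

For a finite module `M` over a Noetherian ring: `H^i_I(M)` is finitely generated for all `i ≤ n`
iff some power of `I` kills all of them.
-/

set_option autoImplicit false
universe u
open CategoryTheory Opposite Limits

namespace Groth.Agent.Lib.Helper16.LC

open Groth.Agent.Lib.Helper16.Depth

variable {R : Type u} [CommRing R] [IsNoetherianRing R] (I : Ideal R)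

omit [IsNoetherianRing R] in
/-- A finitely generated local cohomology module is killed by a power of `I`. -/
theorem exists_pow_kills_of_finite (i : ℕ) (M : Type u) [AddCommGroup M] [Module R M]
    (hfin : Module.Finite R (LocCoh.H I i M)) :
    ∃ k : ℕ, ∀ a ∈ I ^ k, ∀ z : LocCoh.H I i M, a • z = 0 := by
  have hle : (⊤ : Submodule R (LocCoh.H I i M)) ≤ DRing.torsionSub I (LocCoh.H I i M) := by
    intro z _
    exact Groth.Agent.S15426.result R I i M z
  obtain ⟨k, hk⟩ := exists_pow_smul_eq_zero_of_fg I (LocCoh.H I i M) ⊤ hfin.fg_top hle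
  exact ⟨k, fun a ha z => hk a ha z Submodule.mem_top⟩

/-- `H^0_I(M)` is finitely generated for a finite module over a Noetherian ring. -/
theorem finite_H_zero (M : Type u) [AddCommGroup M] [Module R M] [Module.Finite R M] :
    Module.Finite R (LocCoh.H I 0 M) :=
  Module.Finite.equiv (H0equiv I (ModuleCat.of R M)).symm

/-- **Faltings**: if a power of `I` kills `H^i_I(M)` for all `i ≤ n` then these are finitely
generated. -/
theorem finite_H_of_pow_kills :
    ∀ (n : ℕ) (M : Type u) [AddCommGroup M] [Module R M] [Module.Finite R M] (c : ℕ),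
      (∀ i : ℕ, i ≤ n → ∀ a ∈ I ^ c, ∀ z : LocCoh.H I i M, a • z = 0) →
        ∀ i : ℕ, i ≤ n → Module.Finite R (LocCoh.H I i M) := by
  intro n
  induction n with
  | zero =>
    intro M _ _ _ c _ i hi
    obtain rfl : i = 0 := by omega
    exact finite_H_zero I M
  | succ n ih =>
    intro M _ _ _ c hc i hi
    rcases Nat.eq_zero_or_pos i with rfl | hpos
    · exact finite_H_zero I M
    obtain ⟨q, rfl⟩ : ∃ q, i = q + 1 := ⟨i - 1, by omega⟩
    have hq : q ≤ n := by omega
    -- reduce to `M' = M/Γ_I(M)`
    let M' := M ⧸ DRing.torsionSub I M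
    have hbij : ∀ p : ℕ, Function.Bijective
        (Hmap I (p + 1) (ModuleCat.ofHom (DRing.torsionSub I M).mkQ)) :=
      fun p => Hmap_mkQ_torsionSub_bijective I M p
    suffices hM' : Module.Finite R (LocCoh.H I (q + 1) M') from
      Module.Finite.equiv (LinearEquiv.ofBijective _ (hbij q)).symm
    -- `I^c` kills `H^i(M')` for all `i ≤ n + 1`
    have hc' : ∀ i : ℕ, i ≤ n + 1 → ∀ a ∈ I ^ c, ∀ z : LocCoh.H I i M', a • z = 0 := by
      intro i hi a ha z
      rcases Nat.eq_zero_or_pos i with rfl | hpos
      · apply H0toM_injective I (ModuleCat.of R M')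
        rw [map_zero, map_smul]
        have hmem := H0toM_mem I (ModuleCat.of R M') z
        have hbot : DRing.torsionSub I M' = ⊥ := torsionSub_quotient_torsionSub I M
        change H0toM I (ModuleCat.of R M') z ∈ DRing.torsionSub I M' at hmem
        rw [hbot, Submodule.mem_bot] at hmem
        rw [hmem, smul_zero]
      · obtain ⟨p, rfl⟩ : ∃ p, i = p + 1 := ⟨i - 1, by omega⟩
        obtain ⟨w, rfl⟩ := (hbij p).2 z
        rw [← map_smul, hc (p + 1) hi a ha w, map_zero]
    obtain ⟨x, hxI, hreg⟩ := exists_isSMulRegular_of_torsionSub_eq_bot I M'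
      (torsionSub_quotient_torsionSub I M)
    have hy : x ^ c ∈ I ^ c := Ideal.pow_mem_pow hxI c
    have hregy : IsSMulRegular M' (x ^ c) := hreg.pow c
    have hS := IsSMulRegular.smulShortComplex_shortExact (M := ModuleCat.of R M') hregy
    -- `I^(c+c)` kills `H^i(M'/yM')` for `i ≤ n`
    have hQ' : ∀ i : ℕ, i ≤ n → ∀ a ∈ I ^ (c + c),
        ∀ z : (localCohomology I i).obj ((ModuleCat.of R M').smulShortComplex (x ^ c)).X₃,
          a • z = 0 := by
      intro i hi a ha z
      rw [pow_add] at ha
      refine Submodule.mul_induction_on ha ?_ ?_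
      · intro b hb b' hb'
        rw [mul_smul]
        have h1 : δ I hS i (b' • z) = 0 := by
          rw [map_smul]
          exact hc' (i + 1) (by omega) b' hb' _
        obtain ⟨w, hw⟩ := Hmap_exact₃ I hS i (b' • z) h1
        rw [← hw, ← map_smul]
        have h2 : b • w = 0 := hc' i (by omega) b hb w
        rw [h2, map_zero]
      · intro u v hu hv
        rw [add_smul, hu, hv, add_zero]
    have hQ : ∀ i : ℕ, i ≤ n → ∀ a ∈ I ^ (c + c),
        ∀ z : LocCoh.H I i (QuotSMulTop (x ^ c) M'), a • z = 0 :=
      fun i hi a ha z => hQ' i hi a ha z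
    have hfinQ : Module.Finite R (LocCoh.H I q (QuotSMulTop (x ^ c) M')) :=
      ih (QuotSMulTop (x ^ c) M') (c + c) hQ q hq
    -- `δ` is surjective onto `H^{q+1}(M')`
    have hsurj : Function.Surjective (δ I hS q) := by
      intro z
      apply Hmap_exact₁ I hS q z
      have : Hmap I (q + 1) ((ModuleCat.of R M').smulShortComplex (x ^ c)).f z = (x ^ c) • z :=
        Hmap_smul_id I (q + 1) (ModuleCat.of R M') (x ^ c) z
      rw [this]
      exact hc' (q + 1) hi (x ^ c) hy z
    have hfinQ' : Module.Finite R
        ((localCohomology I q).obj ((ModuleCat.of R M').smulShortComplex (x ^ c)).X₃) := hfinQ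
    exact Module.Finite.of_surjective (δ I hS q) hsurj

end Groth.Agent.Lib.Helper16.LC
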