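import Groth.Agent.S15426
import Groth.Agent.Lib.Helper16.LocCohFaltings
import Groth.Agent.Lib.Helper16.RelCodim
import Mathlib.RingTheory.HopkinsLevitzki
import Mathlib.RingTheory.Ideal.KrullsHeightTheorem

/-!
# Finite length of local cohomology with support in the maximal ideal (helper16)

* `isFiniteLength_of_finite_of_pow_smul` : a finite module over a Noetherian local ring killed by a
  power of the maximal ideal has finite length.
* `isFiniteLength_H_iff_finite` : `H^i_m(M)` has finite length iff it is finite.
* `relCodim_maximalIdeal` : `c(p) = dim A/p` for `I = m`.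
-/

set_option autoImplicit false
universe u

namespace Groth.Agent.Lib.Helper16.FL

open IsLocalRing

variable {A : Type u} [CommRing A] [IsLocalRing A] [IsNoetherianRing A]

theorem isFiniteLength_of_finite_of_pow_smul (N : Type u) [AddCommGroup N] [Module A N]
    [Module.Finite A N] (k : ℕ)
    (hk : ∀ a ∈ maximalIdeal A ^ k, ∀ x : N, a • x = 0) : IsFiniteLength A N := by
  rcases Nat.eq_zero_or_pos k with rfl | hpos
  · have : Subsingleton N := by
      refine ⟨fun x y => ?_⟩
      have h1 : ∀ z : N, z = 0 := fun z => by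
        have := hk 1 (by rw [pow_zero, Ideal.one_eq_top]; exact Submodule.mem_top) z
        rwa [one_smul] at this
      rw [h1 x, h1 y]
    exact IsFiniteLength.of_subsingleton
  · have hmin : maximalIdeal A ∈ (maximalIdeal A ^ k).minimalPrimes := by
      refine ⟨⟨inferInstance, Ideal.pow_le_self hpos.ne'⟩, fun q hq _ => ?_⟩
      have := hq.1
      exact Ideal.IsPrime.le_of_pow_le hq.2
    have hart : IsArtinianRing (A ⧸ maximalIdeal A ^ k) :=
      IsLocalRing.quotient_artinian_of_mem_minimalPrimes_of_isLocalRing _ hmin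
    have htors : Module.IsTorsionBySet A N (maximalIdeal A ^ k : Ideal A) :=
      fun x a => hk a.1 a.2 x
    let modB : Module (A ⧸ maximalIdeal A ^ k) N := htors.module
    have hfin : Module.Finite (A ⧸ maximalIdeal A ^ k) N :=
      Module.Finite.of_restrictScalars_finite A (A ⧸ maximalIdeal A ^ k) N
    have hartN : IsArtinian (A ⧸ maximalIdeal A ^ k) N := inferInstance
    rw [isFiniteLength_iff_isNoetherian_isArtinian]
    refine ⟨inferInstance, ?_⟩
    exact (htors.semilinearMap.isArtinian_iff_of_bijective Function.bijective_id).mpr hartN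

theorem isFiniteLength_H_iff_finite (i : ℕ) (M : Type u) [AddCommGroup M] [Module A M] :
    IsFiniteLength A (LocCoh.H (maximalIdeal A) i M) ↔
      Module.Finite A (LocCoh.H (maximalIdeal A) i M) := by
  constructor
  · intro h
    have := (isFiniteLength_iff_isNoetherian_isArtinian.mp h).1
    infer_instance
  · intro hfin
    obtain ⟨k, hk⟩ := LC.exists_pow_kills_of_finite (maximalIdeal A) i M hfin
    exact isFiniteLength_of_finite_of_pow_smul _ k hk

omit [IsNoetherianRing A] in
theorem not_maximalIdeal_le_iff (p : PrimeSpectrum A) :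
    ¬ maximalIdeal A ≤ p.asIdeal ↔ p.asIdeal ≠ maximalIdeal A := by
  constructor
  · intro h heq
    exact h heq.ge
  · intro h hle
    exact h (le_antisymm (le_maximalIdeal p.2.ne_top) hle)

omit [IsNoetherianRing A] in
/-- `c(p) = dim A/p` when `I` is the maximal ideal. -/
theorem relCodim_maximalIdeal (p : PrimeSpectrum A) :
    ((SGA2.relCodim (maximalIdeal A) p : ℕ∞) : WithBot ℕ∞) = ringKrullDim (A ⧸ p.asIdeal) := by
  have hnt : Nontrivial (A ⧸ p.asIdeal) := Ideal.Quotient.nontrivial_iff.mpr p.2.ne_top
  have hloc : IsLocalRing (A ⧸ p.asIdeal) :=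
    IsLocalRing.of_surjective' (Ideal.Quotient.mk p.asIdeal) Ideal.Quotient.mk_surjective
  have hmax : maximalIdeal (A ⧸ p.asIdeal) =
      (maximalIdeal A).map (Ideal.Quotient.mk p.asIdeal) := by
    have hs : Function.Surjective (Ideal.Quotient.mk p.asIdeal) := Ideal.Quotient.mk_surjective
    have : IsLocalHom (Ideal.Quotient.mk p.asIdeal) := IsLocalHom.of_surjective _ hs
    rw [← IsLocalRing.maximalIdeal_comap (Ideal.Quotient.mk p.asIdeal),
      Ideal.map_comap_of_surjective _ hs]
  rw [← IsLocalRing.maximalIdeal_height_eq_ringKrullDim, hmax, RC.relCodim_eq_height]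
  congr 2
  exact congrArg _ (sup_eq_left.mpr (le_maximalIdeal p.2.ne_top))

end Groth.Agent.Lib.Helper16.FL
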