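import Groth.Agent.Lib.Helper16.DepthExt

/-!
# `Hom(X, -)` and regular sequences (helper16)

`X` an `R`-module.  For a module `N` with `Ext^i(X, N) = 0` for all `i > 0` and a weakly `N`-regular
sequence `xs` (`Claim`, `claim`):

* `Ext^i(X, N/(xs)N) = 0` for all `i > 0`;
* every map `X → N/(xs)N` lifts to `X → N`;
* a map `X → N` with image in `(xs)N` lies in `(xs) Hom(X, N)`.
-/

set_option autoImplicit false
universe u
open CategoryTheory Abelian RingTheory.Sequence
open scoped Pointwise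

namespace Groth.Agent.Lib.Helper16.ExtCov

open Groth.Agent.Lib.Helper16.Depth

variable {R : Type u} [CommRing R]

section single

variable {X N : Type u} [AddCommGroup X] [Module R X] [AddCommGroup N] [Module R N]

theorem range_le_iff_exists_smul {a : R} (hN : IsSMulRegular N a) (g : X →ₗ[R] N) :
    (∀ x : X, g x ∈ a • (⊤ : Submodule R N)) ↔ ∃ g' : X →ₗ[R] N, g = a • g' := by
  constructor
  · intro h
    let μ : N →ₗ[R] N := LinearMap.lsmul R N a
    have hμ : Function.Injective μ := hN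
    have hr : ∀ x, g x ∈ LinearMap.range μ := by
      intro x
      obtain ⟨z, -, hz⟩ := (Submodule.mem_smul_pointwise_iff_exists _ _ _).mp (h x)
      exact ⟨z, hz⟩
    refine ⟨(LinearEquiv.ofInjective μ hμ).symm.toLinearMap ∘ₗ g.codRestrict _ hr, ?_⟩
    apply LinearMap.ext
    intro x
    have h1 : μ ((LinearEquiv.ofInjective μ hμ).symm (g.codRestrict _ hr x)) = g x := by
      have := (LinearEquiv.ofInjective μ hμ).apply_symm_apply (g.codRestrict _ hr x)
      exact congrArg Subtype.val this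
    exact h1.symm
  · rintro ⟨g', rfl⟩ x
    exact Submodule.smul_mem_pointwise_smul _ a ⊤ Submodule.mem_top

theorem exact_lsmul_mkQ (a : R) :
    Function.Exact (LinearMap.lsmul R N a) (a • (⊤ : Submodule R N)).mkQ := by
  intro y
  rw [Submodule.mkQ_apply, Submodule.Quotient.mk_eq_zero, Submodule.mem_smul_pointwise_iff_exists]
  constructor
  · rintro ⟨z, -, rfl⟩
    exact ⟨z, rfl⟩
  · rintro ⟨z, rfl⟩
    exact ⟨z, Submodule.mem_top, rfl⟩

/-- one step: passing to `N/aN` for an `N`-regular element `a` -/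
theorem step (a : R) (hN : IsSMulRegular N a)
    (hv : ∀ i, 0 < i → Subsingleton (Ext.{u} (ModuleCat.of R X) (ModuleCat.of R N) i)) :
    (∀ i, 0 < i → Subsingleton
      (Ext.{u} (ModuleCat.of R X) (ModuleCat.of R (QuotSMulTop a N)) i)) ∧
    (∀ ψ : X →ₗ[R] QuotSMulTop a N, ∃ g : X →ₗ[R] N,
      (a • (⊤ : Submodule R N)).mkQ ∘ₗ g = ψ) := by
  have hS := shortExact_of_linearMaps (LinearMap.lsmul R N a) (a • (⊤ : Submodule R N)).mkQ
    hN (Submodule.mkQ_surjective _) (exact_lsmul_mkQ a)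
  refine ⟨fun i hi => ext_X₃ hS (ModuleCat.of R X) i (hv i hi) (hv (i + 1) (by omega)), ?_⟩
  intro ψ
  have hsub := hv 1 one_pos
  obtain ⟨x₂, hx₂⟩ := Ext.covariant_sequence_exact₃ (ModuleCat.of R X) hS
    (Ext.mk₀ (ModuleCat.ofHom ψ)) (zero_add 1) (hsub.elim _ _)
  obtain ⟨g, rfl⟩ := (Ext.mk₀_bijective _ _).2 x₂
  rw [Ext.mk₀_comp_mk₀] at hx₂
  have h3 := (Ext.mk₀_bijective _ _).1 hx₂
  refine ⟨g.hom, ?_⟩
  apply LinearMap.ext
  intro x
  exact congrArg (fun φ => φ.hom x) h3

end single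

section iso

theorem subsingleton_ext_of_linearEquiv {X N Q : Type u} [AddCommGroup X] [Module R X]
    [AddCommGroup N] [Module R N] [AddCommGroup Q] [Module R Q] (e : N ≃ₗ[R] Q) (i : ℕ)
    (h : Subsingleton (Ext.{u} (ModuleCat.of R X) (ModuleCat.of R N) i)) :
    Subsingleton (Ext.{u} (ModuleCat.of R X) (ModuleCat.of R Q) i) := by
  refine ⟨fun a b => ?_⟩
  suffices hz : ∀ z : Ext.{u} (ModuleCat.of R X) (ModuleCat.of R Q) i, z = 0 by rw [hz a, hz b]
  intro z
  have h1 : z = (z.comp (Ext.mk₀ e.toModuleIso.inv) (add_zero i)).comp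
      (Ext.mk₀ e.toModuleIso.hom) (add_zero i) := by
    rw [Ext.comp_assoc_of_third_deg_zero, Ext.mk₀_comp_mk₀, Iso.inv_hom_id, Ext.comp_mk₀_id]
  rw [h1, h.elim (z.comp (Ext.mk₀ e.toModuleIso.inv) (add_zero i)) 0, Ext.zero_comp]

end iso

section main

variable (X : Type u) [AddCommGroup X] [Module R X]

/-- the inductive claim -/
def Claim (xs : List R) : Prop :=
  ∀ (N : Type u) [AddCommGroup N] [Module R N], IsWeaklyRegular N xs →
    (∀ i, 0 < i → Subsingleton (Ext.{u} (ModuleCat.of R X) (ModuleCat.of R N) i)) →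
    (∀ (Q : Type u) [AddCommGroup Q] [Module R Q] (π : N →ₗ[R] Q),
      Function.Surjective π → LinearMap.ker π = Ideal.ofList xs • (⊤ : Submodule R N) →
      (∀ i, 0 < i → Subsingleton (Ext.{u} (ModuleCat.of R X) (ModuleCat.of R Q) i)) ∧
      (∀ ψ : X →ₗ[R] Q, ∃ g : X →ₗ[R] N, π ∘ₗ g = ψ)) ∧
    (∀ g : X →ₗ[R] N, (∀ x, g x ∈ Ideal.ofList xs • (⊤ : Submodule R N)) →
      g ∈ Ideal.ofList xs • (⊤ : Submodule R (X →ₗ[R] N)))

theorem claim_nil : Claim (R := R) X [] := by
  intro N _ _ _ hv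
  have hbot : Ideal.ofList ([] : List R) • (⊤ : Submodule R N) = ⊥ := by
    rw [Ideal.ofList_nil, Submodule.bot_smul]
  refine ⟨?_, ?_⟩
  · intro Q _ _ π hπ hker
    rw [hbot] at hker
    have hinj : Function.Injective π := LinearMap.ker_eq_bot.mp hker
    let e : N ≃ₗ[R] Q := LinearEquiv.ofBijective π ⟨hinj, hπ⟩
    refine ⟨fun i hi => subsingleton_ext_of_linearEquiv e i (hv i hi), ?_⟩
    intro ψ
    refine ⟨e.symm.toLinearMap ∘ₗ ψ, ?_⟩
    apply LinearMap.ext
    intro x
    exact e.apply_symm_apply (ψ x)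
  · intro g hg
    have : g = 0 := by
      apply LinearMap.ext
      intro x
      have := hg x
      rw [hbot, Submodule.mem_bot] at this
      exact this
    rw [this]
    exact Submodule.zero_mem _

theorem claim_cons (a : R) (xs : List R) (ih : Claim (R := R) X xs) : Claim (R := R) X (a :: xs) := by
  intro N _ _ hreg hv
  obtain ⟨ha, hreg'⟩ := (isWeaklyRegular_cons_iff N a xs).mp hreg
  obtain ⟨hv', hlift⟩ := step (X := X) a ha hv
  obtain ⟨ih1, ih2⟩ := ih (QuotSMulTop a N) hreg' hv'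
  let π₁ : N →ₗ[R] QuotSMulTop a N := (a • (⊤ : Submodule R N)).mkQ
  have hcons : Ideal.ofList (a :: xs) • (⊤ : Submodule R N) =
      a • (⊤ : Submodule R N) ⊔ Ideal.ofList xs • (⊤ : Submodule R N) :=
    Ideal.ofList_cons_smul a xs ⊤
  have hmap : (Ideal.ofList (a :: xs) • (⊤ : Submodule R N)).map π₁ =
      Ideal.ofList xs • (⊤ : Submodule R (QuotSMulTop a N)) := by
    rw [hcons, Submodule.map_sup, Submodule.map_smul'', Submodule.map_top, Submodule.range_mkQ]
    have : (a • (⊤ : Submodule R N)).map π₁ = ⊥ := by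
      rw [eq_bot_iff]
      rintro _ ⟨y, hy, rfl⟩
      rw [Submodule.mem_bot]
      exact (Submodule.Quotient.mk_eq_zero _).mpr hy
    rw [this, bot_sup_eq]
  refine ⟨?_, ?_⟩
  · intro Q _ _ π hπ hker
    have hle : a • (⊤ : Submodule R N) ≤ LinearMap.ker π := by
      rw [hker, hcons]
      exact le_sup_left
    let π' : QuotSMulTop a N →ₗ[R] Q := Submodule.liftQ _ π hle
    have hπ' : Function.Surjective π' := by
      intro q
      obtain ⟨y, rfl⟩ := hπ q
      exact ⟨π₁ y, rfl⟩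
    have hker' : LinearMap.ker π' = Ideal.ofList xs • (⊤ : Submodule R (QuotSMulTop a N)) := by
      rw [← hmap, ← hker]
      exact Submodule.ker_liftQ _ π hle
    obtain ⟨hQ, hψ⟩ := ih1 Q π' hπ' hker'
    refine ⟨hQ, ?_⟩
    intro ψ
    obtain ⟨g', hg'⟩ := hψ ψ
    obtain ⟨g, hg⟩ := hlift g'
    refine ⟨g, ?_⟩
    rw [← hg', ← hg]
    rfl
  · intro g hg
    -- reduce mod `a`
    have hg' : ∀ x, (π₁ ∘ₗ g) x ∈ Ideal.ofList xs • (⊤ : Submodule R (QuotSMulTop a N)) := by
      intro x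
      rw [← hmap]
      exact Submodule.mem_map_of_mem (hg x)
    have h1 := ih2 (π₁ ∘ₗ g) hg'
    -- postcomposition with `π₁` is surjective on Hom
    let L : (X →ₗ[R] N) →ₗ[R] (X →ₗ[R] QuotSMulTop a N) := LinearMap.llcomp R X N _ π₁
    have hL : Function.Surjective L := by
      intro ψ
      obtain ⟨g₀, hg₀⟩ := hlift ψ
      exact ⟨g₀, hg₀⟩
    have hLmap : (Ideal.ofList xs • (⊤ : Submodule R (X →ₗ[R] N))).map L =
        Ideal.ofList xs • (⊤ : Submodule R (X →ₗ[R] QuotSMulTop a N)) := by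
      rw [Submodule.map_smul'', Submodule.map_top, LinearMap.range_eq_top.mpr hL]
    rw [← hLmap] at h1
    obtain ⟨g₁, hg₁, hLg₁⟩ := h1
    have hdiff : ∀ x, (g - g₁) x ∈ a • (⊤ : Submodule R N) := by
      intro x
      have : π₁ ((g - g₁) x) = 0 := by
        have h2 : L g₁ = L g := hLg₁
        have h3 := congrArg (fun φ => φ x) h2
        change π₁ (g₁ x) = π₁ (g x) at h3
        rw [LinearMap.sub_apply, map_sub, h3, sub_self]
      exact (Submodule.Quotient.mk_eq_zero _).mp this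
    obtain ⟨g₂, hg₂⟩ := (range_le_iff_exists_smul ha (g - g₁)).mp hdiff
    have hgsum : g = g₁ + a • g₂ := by
      rw [← hg₂]; abel
    have hcons' : Ideal.ofList (a :: xs) • (⊤ : Submodule R (X →ₗ[R] N)) =
        a • (⊤ : Submodule R (X →ₗ[R] N)) ⊔ Ideal.ofList xs • (⊤ : Submodule R (X →ₗ[R] N)) :=
      Ideal.ofList_cons_smul a xs ⊤
    rw [hgsum, hcons']
    refine Submodule.add_mem _ (Submodule.mem_sup_right hg₁) (Submodule.mem_sup_left ?_)
    exact Submodule.smul_mem_pointwise_smul _ a ⊤ Submodule.mem_top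

theorem claim (xs : List R) : Claim (R := R) X xs := by
  induction xs with
  | nil => exact claim_nil X
  | cons a xs ih => exact claim_cons X a xs ih

end main

end Groth.Agent.Lib.Helper16.ExtCov
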