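import Groth.Agent.Lib.Helper16.CanonicalEnd
import Groth.Agent.Lib.Helper16.ExtCovRegular
import Groth.Agent.Lib.Helper16.LocCohH0
import Groth.Agent.Lib.Helper25.MatlisDual

/-!
# `R ≃ End(K)` for a canonical module of a CM local ring (helper16)

* `exists_regSeq_pow` : maximal regular sequences inside `m^t`.
* `exists_pow_le_ofList` : a maximal regular sequence generates an `m`-primary ideal.
* `dual_quot_equiv` : `Hom(K/(xs)K, E) ≃ R/(xs)`.
* `end_quot_eq_smul`, `annihilator_quot`, `annihilator_K`.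
* `bijective_homothety` : `R → End(K)` is bijective.
-/

set_option autoImplicit false
universe u
open CategoryTheory Abelian IsLocalRing TensorProduct Opposite RingTheory.Sequence
open scoped Pointwise

namespace Groth.Agent.Lib.Helper16.Canon

open Groth.Agent.Lib.Helper16.LC Groth.Agent.Lib.Helper16.Depth

section prelim

variable {R : Type u} [CommRing R] [LocCoh.IsCohenMacaulayLocalRing R] {n : ℕ}

/-- maximal regular sequences exist inside every power of the maximal ideal -/
theorem exists_regSeq_pow (hn : ringKrullDim R = n) (t : ℕ) (ht : 0 < t) :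
    ∃ xs : List R, xs.length = n ∧ IsWeaklyRegular R xs ∧ ∀ x ∈ xs, x ∈ maximalIdeal R ^ t := by
  have hne : maximalIdeal R ^ t ≠ ⊤ := by
    intro h
    have h1 : maximalIdeal R ^ t ≤ maximalIdeal R := Ideal.pow_le_self (by omega)
    rw [h] at h1
    exact (maximalIdeal.isMaximal R).ne_top (top_le_iff.mp h1)
  have hIM : maximalIdeal R ^ t • (⊤ : Submodule R R) ≠ ⊤ := by
    rw [smul_eq_mul, Ideal.mul_top]
    exact hne
  have hIM' : maximalIdeal R • (⊤ : Submodule R R) ≠ ⊤ := by
    rw [smul_eq_mul, Ideal.mul_top]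
    exact Ideal.IsMaximal.ne_top inferInstance
  rw [← HasRegSeq, hasRegSeq_iff_ext (maximalIdeal R ^ t) R hIM n]
  intro i hi
  refine subsingleton_ext_of_le_idealDepth (maximalIdeal R) R hIM' n
    (le_of_eq (depth_eq_of_CM hn).symm) (ModuleCat.of R (R ⧸ maximalIdeal R ^ t)) ?_ i hi
  exact support_Q_subset (maximalIdeal R) t

end prelim

end Groth.Agent.Lib.Helper16.Canon

namespace Groth.Agent.Lib.Helper16.Canon

open Groth.Agent.Lib.Helper16.LC Groth.Agent.Lib.Helper16.Depth

section primary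

variable {R : Type u} [CommRing R] [IsNoetherianRing R] [IsLocalRing R] {n : ℕ}

/-- a maximal regular sequence generates an `m`-primary ideal -/
theorem exists_pow_le_ofList (hn : ringKrullDim R = n) (xs : List R) (hlen : xs.length = n)
    (hreg : IsRegular R xs) : ∃ s : ℕ, maximalIdeal R ^ s ≤ Ideal.ofList xs := by
  have hdim := ringKrullDim_add_length_eq_ringKrullDim_of_isRegular xs hreg
  rw [hn, hlen] at hdim
  have hne : Ideal.ofList xs ≠ ⊤ := by
    intro h
    apply hreg.top_ne_smul
    rw [h, Submodule.top_smul]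
  have hnt : Nontrivial (R ⧸ Ideal.ofList xs) := Ideal.Quotient.nontrivial_iff.mpr hne
  have hdim0 : ringKrullDim (R ⧸ Ideal.ofList xs) = 0 := by
    obtain ⟨d, hd⟩ : ∃ d : ℕ∞, ringKrullDim (R ⧸ Ideal.ofList xs) = d :=
      ⟨_, (WithBot.coe_unbot _ (by
        intro h
        exact absurd (ringKrullDim_nonneg_of_nontrivial (R := R ⧸ Ideal.ofList xs))
          (by rw [h]; simp))).symm⟩
    rw [hd] at hdim ⊢
    have h2 : d + (n : ℕ∞) = (n : ℕ∞) := by exact_mod_cast hdim
    have h3 : d = 0 := by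
      have : d + (n : ℕ∞) = 0 + (n : ℕ∞) := by rw [h2, zero_add]
      exact (ENat.add_left_injective_of_ne_top (ENat.natCast_ne_top n)) this
    rw [h3]; rfl
  rw [← ringKrullDimZero_iff_ringKrullDim_eq_zero,
    Ideal.krullDimLE_zero_quotient_iff_forall_minimalPrimes_isMaximal] at hdim0
  have hrad : (Ideal.ofList xs).radical = maximalIdeal R := by
    rw [← Ideal.sInf_minimalPrimes]
    apply le_antisymm
    · obtain ⟨p, hp, -⟩ := Ideal.exists_minimalPrimes_le (I := Ideal.ofList xs)
        (J := maximalIdeal R) (IsLocalRing.le_maximalIdeal hne)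
      exact (sInf_le hp).trans (le_of_eq (IsLocalRing.eq_maximalIdeal (hdim0 p hp)))
    · apply le_sInf
      intro p hp
      exact le_of_eq (IsLocalRing.eq_maximalIdeal (hdim0 p hp)).symm
  obtain ⟨s, hs⟩ := Ideal.exists_radical_pow_le_of_fg (Ideal.ofList xs)
    (IsNoetherian.noetherian _)
  rw [hrad] at hs
  exact ⟨s, hs⟩

end primary

end Groth.Agent.Lib.Helper16.Canon

namespace Groth.Agent.Lib.Helper16.Canon

open Groth.Agent.Lib.Helper16.LC Groth.Agent.Lib.Helper16.Depth

section endo

variable {R : Type u} [CommRing R] [LocCoh.IsCohenMacaulayLocalRing R] {n : ℕ}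
  (hn : ringKrullDim R = n) {E : Type u} [AddCommGroup E] [Module R E]
  (f : ResidueField R →ₗ[R] E) (hf : InjHull.IsInjectiveHull f)
  {K : Type u} [AddCommGroup K] [Module R K] [Module.Finite R K]
  (eK : (K →ₗ[R] E) ≃ₗ[R] LocCoh.H (maximalIdeal R) n R)

omit [LocCoh.IsCohenMacaulayLocalRing R] in
theorem H_cast [IsNoetherianRing R] (I : Ideal R) (M : Type u) [AddCommGroup M] [Module R M]
    {a b : ℕ} (h : a = b) : Nonempty (LocCoh.H I a M ≃ₗ[R] LocCoh.H I b M) := by
  subst h
  exact ⟨LinearEquiv.refl R _⟩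

include hn f hf eK in
/-- the dual of `K/(xs)K` is `R/(xs)` for a maximal regular sequence `xs` -/
theorem dual_quot_equiv (xs : List R) (hxs : ∀ x ∈ xs, x ∈ maximalIdeal R) (hlen : xs.length = n)
    (hreg : IsRegular R xs) :
    Nonempty (((K ⧸ (Ideal.ofList xs • (⊤ : Submodule R K))) →ₗ[R] E) ≃ₗ[R]
      (R ⧸ Ideal.ofList xs)) := by
  obtain ⟨e1⟩ := quot_canonical hn f hf eK xs hxs hreg
  obtain ⟨e2⟩ := H_cast (maximalIdeal R) (R ⧸ Ideal.ofList xs)
    (show n - xs.length = 0 by omega)
  obtain ⟨s, hs⟩ := exists_pow_le_ofList hn xs hlen hreg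
  have htop : DRing.torsionSub (maximalIdeal R) (R ⧸ Ideal.ofList xs) = ⊤ := by
    rw [eq_top_iff]
    intro y _
    refine ⟨s, fun a ha => ?_⟩
    obtain ⟨r, rfl⟩ := Ideal.Quotient.mk_surjective y
    rw [Algebra.smul_def]
    change Ideal.Quotient.mk _ a * Ideal.Quotient.mk _ r = 0
    rw [← map_mul, Ideal.Quotient.eq_zero_iff_mem]
    exact Ideal.mul_mem_right _ _ (hs ha)
  let e3 := H0equiv (maximalIdeal R) (ModuleCat.of R (R ⧸ Ideal.ofList xs))
  let e4 : DRing.torsionSub (maximalIdeal R) (R ⧸ Ideal.ofList xs) ≃ₗ[R] (R ⧸ Ideal.ofList xs) :=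
    (LinearEquiv.ofEq _ _ htop).trans Submodule.topEquiv
  exact ⟨((e1.trans e2).trans e3).trans e4⟩

include hn f hf eK in
/-- every endomorphism of `K/(xs)K` is a homothety -/
theorem end_quot_eq_smul (xs : List R) (hxs : ∀ x ∈ xs, x ∈ maximalIdeal R) (hlen : xs.length = n)
    (hreg : IsRegular R xs)
    (φ : (K ⧸ (Ideal.ofList xs • (⊤ : Submodule R K))) →ₗ[R]
      (K ⧸ (Ideal.ofList xs • (⊤ : Submodule R K)))) :
    ∃ r : R, ∀ y, φ y = r • y := by
  obtain ⟨eA⟩ := dual_quot_equiv hn f hf eK xs hxs hlen hreg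
  -- the transported endomorphism of `R/(xs)`
  let Φ : (R ⧸ Ideal.ofList xs) →ₗ[R] (R ⧸ Ideal.ofList xs) :=
    eA.toLinearMap ∘ₗ (LinearMap.lcomp R E φ) ∘ₗ eA.symm.toLinearMap
  obtain ⟨r, hr⟩ := Ideal.Quotient.mk_surjective (Φ 1)
  have hΦ : ∀ z, Φ z = r • z := by
    intro z
    obtain ⟨s, rfl⟩ := Ideal.Quotient.mk_surjective z
    have h1 : (Ideal.Quotient.mk (Ideal.ofList xs) s) = s • (1 : R ⧸ Ideal.ofList xs) := by
      rw [Algebra.smul_def, mul_one]; rfl
    rw [h1, map_smul, ← hr, smul_comm]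
    congr 1
    rw [Algebra.smul_def, mul_one]; rfl
  have hdual : ∀ α : (K ⧸ (Ideal.ofList xs • (⊤ : Submodule R K))) →ₗ[R] E,
      α ∘ₗ φ = r • α := by
    intro α
    have h2 := hΦ (eA α)
    change eA ((eA.symm (eA α)) ∘ₗ φ) = r • eA α at h2
    rw [eA.symm_apply_apply, ← map_smul] at h2
    exact eA.injective h2
  refine ⟨r, fun y => ?_⟩
  by_contra hne
  have hne' : φ y - r • y ≠ 0 := sub_ne_zero.mpr hne
  obtain ⟨α, hα⟩ := Groth.Agent.Lib.Helper25.exists_hom_ne_zero f hf hne'
  apply hα
  rw [map_sub, map_smul]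
  have := congrArg (fun β => β y) (hdual α)
  change α (φ y) = r • α y at this
  rw [this, sub_self]

include hn f hf eK in
theorem annihilator_quot (xs : List R) (hxs : ∀ x ∈ xs, x ∈ maximalIdeal R) (hlen : xs.length = n)
    (hreg : IsRegular R xs) :
    Module.annihilator R (K ⧸ (Ideal.ofList xs • (⊤ : Submodule R K))) = Ideal.ofList xs := by
  obtain ⟨eA⟩ := dual_quot_equiv hn f hf eK xs hxs hlen hreg
  rw [Groth.Agent.Lib.Helper25.annihilator_dual_eq f hf, eA.annihilator_eq,
    Ideal.annihilator_quotient]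

include hn f hf eK in
theorem annihilator_K : Module.annihilator R K = ⊥ := by
  rw [eq_bot_iff]
  intro r hr
  have hall : ∀ t : ℕ, r ∈ maximalIdeal R ^ t := by
    intro t
    rcases Nat.eq_zero_or_pos t with rfl | ht
    · simp
    obtain ⟨xs, hlen, hwreg, hmem⟩ := exists_regSeq_pow hn t ht
    have hxs : ∀ x ∈ xs, x ∈ maximalIdeal R := fun x hx =>
      Ideal.pow_le_self (by omega) (hmem x hx)
    have hreg : IsRegular R xs :=
      (IsLocalRing.isRegular_iff_isWeaklyRegular_of_subset_maximalIdeal hxs).mpr hwreg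
    have h1 : r ∈ Module.annihilator R (K ⧸ (Ideal.ofList xs • (⊤ : Submodule R K))) := by
      rw [Module.mem_annihilator]
      intro y
      obtain ⟨x, rfl⟩ := Submodule.Quotient.mk_surjective _ y
      rw [← Submodule.Quotient.mk_smul, Module.mem_annihilator.mp hr x, Submodule.Quotient.mk_zero]
    rw [annihilator_quot hn f hf eK xs hxs hlen hreg] at h1
    have hle : Ideal.ofList xs ≤ maximalIdeal R ^ t := by
      rw [Ideal.ofList, Ideal.span_le]
      exact fun x hx => hmem x hx
    exact hle h1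
  have : r ∈ ⨅ t : ℕ, maximalIdeal R ^ t := by
    rw [Ideal.mem_iInf]
    exact hall
  rw [Ideal.iInf_pow_eq_bot_of_isLocalRing _ (Ideal.IsMaximal.ne_top inferInstance)] at this
  exact this

include hn f hf eK in
/-- `R → End(K)` is bijective -/
theorem bijective_homothety :
    Function.Bijective (fun r : R => r • (LinearMap.id : K →ₗ[R] K)) := by
  constructor
  · intro r s hrs
    have h0 : (r - s) • (LinearMap.id : K →ₗ[R] K) = 0 := by
      rw [sub_smul]; exact sub_eq_zero.mpr hrs
    have : r - s ∈ Module.annihilator R K := by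
      rw [Module.mem_annihilator]
      intro x
      have := congrArg (fun φ => φ x) h0
      exact this
    rw [annihilator_K hn f hf eK] at this
    exact sub_eq_zero.mp this
  · -- a maximal regular sequence
    obtain ⟨xs, hlen, hwreg, hmem⟩ := exists_regSeq_pow hn 1 one_pos
    have hxs : ∀ x ∈ xs, x ∈ maximalIdeal R := fun x hx => by
      have := hmem x hx
      rwa [pow_one] at this
    have hreg : IsRegular R xs :=
      (IsLocalRing.isRegular_iff_isWeaklyRegular_of_subset_maximalIdeal hxs).mpr hwreg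
    have hKreg : IsWeaklyRegular K xs := (isWeaklyRegular_iff hn f hf eK xs hxs).mp hwreg
    have hclaim := (ExtCov.claim K xs K hKreg (fun i hi => subsingleton_ext_K_K hn f hf eK i hi)).2
    let S : Submodule R (K →ₗ[R] K) := Submodule.span R {LinearMap.id}
    have hle : (⊤ : Submodule R (K →ₗ[R] K)) ≤
        S ⊔ maximalIdeal R • (⊤ : Submodule R (K →ₗ[R] K)) := by
      intro φ _
      have hcomap : Ideal.ofList xs • (⊤ : Submodule R K) ≤
          (Ideal.ofList xs • (⊤ : Submodule R K)).comap φ :=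
        Submodule.smul_top_le_comap_smul_top _ φ
      obtain ⟨r, hr⟩ := end_quot_eq_smul hn f hf eK xs hxs hlen hreg
        (Submodule.mapQ _ _ φ hcomap)
      let ψ : K →ₗ[R] K := φ - r • (LinearMap.id : K →ₗ[R] K)
      have hmemφ : ∀ x, ψ x ∈ Ideal.ofList xs • (⊤ : Submodule R K) := by
        intro x
        rw [← Submodule.Quotient.mk_eq_zero]
        have := hr (Submodule.Quotient.mk x)
        rw [Submodule.mapQ_apply] at this
        change Submodule.Quotient.mk (φ x - r • x) = 0
        rw [Submodule.Quotient.mk_sub, this, Submodule.Quotient.mk_smul, sub_self]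
      have h1 := hclaim ψ hmemφ
      have hIle : Ideal.ofList xs ≤ maximalIdeal R := by
        rw [Ideal.ofList, Ideal.span_le]
        exact fun x hx => hxs x hx
      have h2 : ψ ∈ maximalIdeal R • (⊤ : Submodule R (K →ₗ[R] K)) :=
        Submodule.smul_mono_left hIle h1
      have h3 : φ = r • (LinearMap.id : K →ₗ[R] K) + ψ := by
        change φ = r • (LinearMap.id : K →ₗ[R] K) + (φ - r • (LinearMap.id : K →ₗ[R] K))
        abel
      rw [h3]
      refine Submodule.add_mem _ (Submodule.mem_sup_left ?_) (Submodule.mem_sup_right h2)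
      exact Submodule.smul_mem _ r (Submodule.subset_span rfl)
    have hfg : (⊤ : Submodule R (K →ₗ[R] K)).FG := Module.Finite.fg_top
    have hS := Submodule.le_of_le_smul_of_le_jacobson_bot hfg
      (by rw [IsLocalRing.jacobson_eq_maximalIdeal _ bot_ne_top]) hle
    intro φ
    have hφ : φ ∈ S := hS Submodule.mem_top
    obtain ⟨r, hr⟩ := Submodule.mem_span_singleton.mp hφ
    exact ⟨r, hr⟩

end endo

end Groth.Agent.Lib.Helper16.Canon
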