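import Mathlib

/-!
# Rees' lemma: `Ext^n(N, M) ≃ Hom(N, M/(x)M)` for a weakly `M`-regular sequence `x` of length `n`
killing `N` (helper16)
-/

set_option autoImplicit false
universe u
open CategoryTheory Abelian RingTheory.Sequence

namespace Groth.Agent.Lib.Helper16.Rees

variable {R : Type u} [CommRing R]

/-- Postcomposition with an `Ext` class as an `R`-linear map. -/
noncomputable def postLin (X : ModuleCat.{u} R) {M N : ModuleCat.{u} R} {j : ℕ}
    (β : Ext.{u} M N j) {i n : ℕ} (h : i + j = n) :
    Ext.{u} X M i →ₗ[R] Ext.{u} X N n where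
  toFun e := e.comp β h
  map_add' := by intro a b; simp
  map_smul' := by intro r a; simp

theorem smul_ext_eq_zero {N M : ModuleCat.{u} R} {r : R} (hr : ∀ y : N, r • y = 0) {i : ℕ}
    (e : Ext.{u} N M i) : r • e = 0 := by
  have hid : r • 𝟙 N = 0 := by
    apply ModuleCat.hom_ext
    apply LinearMap.ext
    intro y
    exact hr y
  have : r • e = (Ext.mk₀ (r • 𝟙 N)).comp e (zero_add i) := by
    simp [Ext.mk₀_smul]
  rw [this, hid, Ext.mk₀_zero, Ext.zero_comp]

theorem smul_ext_eq_comp {N M : ModuleCat.{u} R} (r : R) {i : ℕ} (e : Ext.{u} N M i) :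
    e.comp (Ext.mk₀ (r • 𝟙 M)) (add_zero i) = r • e := by
  simp [Ext.mk₀_smul]

section generic

variable {S : ShortComplex (ModuleCat.{u} R)} (hS : S.ShortExact) (X : ModuleCat.{u} R)

theorem postLin_extClass_surjective (j : ℕ)
    (h0 : ∀ x₁ : Ext.{u} X S.X₁ (j + 1), x₁.comp (Ext.mk₀ S.f) (add_zero (j + 1)) = 0) :
    Function.Surjective (postLin X hS.extClass (rfl : j + 1 = j + 1)) := by
  intro x₁
  obtain ⟨x₃, hx₃⟩ := Ext.covariant_sequence_exact₁ _ hS x₁ (h0 x₁) rfl
  exact ⟨x₃, hx₃⟩

theorem postLin_extClass_injective (j : ℕ) (h : Subsingleton (Ext.{u} X S.X₂ j)) :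
    Function.Injective (postLin X hS.extClass (rfl : j + 1 = j + 1)) := by
  rw [injective_iff_map_eq_zero]
  intro x₃ hx₃
  obtain ⟨x₂, hx₂⟩ := Ext.covariant_sequence_exact₃ _ hS x₃ rfl hx₃
  rw [← hx₂, Subsingleton.elim x₂ 0, Ext.zero_comp]

end generic

/-- **Rees' lemma**. -/
theorem rees (N : Type u) [AddCommGroup N] [Module R N] (rs : List R)
    (hN : ∀ r ∈ rs, ∀ y : N, r • y = 0) :
    ∀ (M : Type u) [AddCommGroup M] [Module R M], IsWeaklyRegular M rs →
      (∀ i < rs.length, Subsingleton (Ext.{u} (ModuleCat.of R N) (ModuleCat.of R M) i)) ∧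
      Nonempty (Ext.{u} (ModuleCat.of R N) (ModuleCat.of R M) rs.length ≃ₗ[R]
        (N →ₗ[R] M ⧸ (Ideal.ofList rs • ⊤ : Submodule R M))) := by
  induction rs with
  | nil =>
    intro M _ _ _
    refine ⟨fun i hi => absurd hi (Nat.not_lt_zero i), ?_⟩
    have e1 : Ext.{u} (ModuleCat.of R N) (ModuleCat.of R M) 0 ≃ₗ[R] (N →ₗ[R] M) :=
      Ext.linearEquiv₀.trans ModuleCat.homLinearEquiv
    have hbot : (Ideal.ofList ([] : List R) • ⊤ : Submodule R M) = ⊥ := by
      rw [Ideal.ofList_nil, Submodule.bot_smul]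
    have e2 : M ≃ₗ[R] M ⧸ (Ideal.ofList ([] : List R) • ⊤ : Submodule R M) :=
      (Submodule.quotEquivOfEqBot _ hbot).symm
    exact ⟨e1.trans (LinearEquiv.congrRight e2)⟩
  | cons r rs ih =>
    intro M _ _ hreg
    rw [isWeaklyRegular_cons_iff] at hreg
    obtain ⟨hr, hrs⟩ := hreg
    have hNr : ∀ y : N, r • y = 0 := hN r (List.mem_cons_self)
    have hN' : ∀ r' ∈ rs, ∀ y : N, r' • y = 0 := fun r' hr' => hN r' (List.mem_cons_of_mem _ hr')
    obtain ⟨hvan', ⟨e'⟩⟩ := ih hN' (QuotSMulTop r M) hrs
    have hS := IsSMulRegular.smulShortComplex_shortExact (M := ModuleCat.of R M) hr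
    have h0 : ∀ (j : ℕ) (x₁ : Ext.{u} (ModuleCat.of R N)
        (ModuleCat.smulShortComplex (ModuleCat.of R M) r).X₁ (j + 1)),
        x₁.comp (Ext.mk₀ (ModuleCat.smulShortComplex (ModuleCat.of R M) r).f)
          (add_zero (j + 1)) = 0 := by
      intro j x₁
      have h1 := smul_ext_eq_comp (N := ModuleCat.of R N) (M := ModuleCat.of R M) r x₁
      have h2 := smul_ext_eq_zero (N := ModuleCat.of R N) (M := ModuleCat.of R M) hNr x₁
      rw [h2] at h1
      exact h1
    have hsurj := fun j => postLin_extClass_surjective hS (ModuleCat.of R N) j (h0 j)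
    -- vanishing below `length + 1`
    have hvan : ∀ i < (r :: rs).length,
        Subsingleton (Ext.{u} (ModuleCat.of R N) (ModuleCat.of R M) i) := by
      intro i hi
      rcases i with _ | i
      · refine ⟨fun a b => ?_⟩
        suffices hz : ∀ e : Ext.{u} (ModuleCat.of R N) (ModuleCat.of R M) 0, e = 0 by
          rw [hz a, hz b]
        intro e
        obtain ⟨φ, rfl⟩ := (Ext.mk₀_bijective _ _).2 e
        have : φ = 0 := by
          apply ModuleCat.hom_ext
          apply LinearMap.ext
          intro y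
          apply hr
          change r • φ.hom y = r • (0 : M)
          rw [← map_smul, hNr y, map_zero, smul_zero]
        rw [this, Ext.mk₀_zero]
      · have hi' : i < rs.length := by
          simp only [List.length_cons] at hi
          omega
        have h3 : Subsingleton (Ext.{u} (ModuleCat.of R N)
            (ModuleCat.smulShortComplex (ModuleCat.of R M) r).X₃ i) := hvan' i hi'
        exact (hsurj i).subsingleton
    refine ⟨hvan, ?_⟩
    -- the isomorphism in the top degree
    have h4 : Subsingleton (Ext.{u} (ModuleCat.of R N)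
        (ModuleCat.smulShortComplex (ModuleCat.of R M) r).X₂ rs.length) :=
      hvan rs.length (by simp)
    have hinj := postLin_extClass_injective hS (ModuleCat.of R N) rs.length h4
    have e1 : Ext.{u} (ModuleCat.of R N) (ModuleCat.of R (QuotSMulTop r M)) rs.length ≃ₗ[R]
        Ext.{u} (ModuleCat.of R N) (ModuleCat.of R M) (rs.length + 1) :=
      LinearEquiv.ofBijective _ ⟨hinj, hsurj rs.length⟩
    have e2 : (QuotSMulTop r M ⧸ (Ideal.ofList rs • ⊤ : Submodule R (QuotSMulTop r M))) ≃ₗ[R]
        (M ⧸ (Ideal.ofList (r :: rs) • ⊤ : Submodule R M)) :=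
      (Submodule.quotOfListConsSMulTopEquivQuotSMulTopInner M r rs).symm
    exact ⟨e1.symm.trans (e'.trans (LinearEquiv.congrRight e2))⟩

/-- If each term of a weakly `M`-regular sequence `rs` has its `k`-th power killing `N`, then
`Ext^i(N, M) = 0` for `i < rs.length` (no finiteness hypotheses). -/
theorem ext_vanish_of_pow_kills (N : Type u) [AddCommGroup N] [Module R N] (rs : List R)
    (k : ℕ) (hN : ∀ r ∈ rs, ∀ y : N, r ^ k • y = 0) :
    ∀ (M : Type u) [AddCommGroup M] [Module R M], IsWeaklyRegular M rs →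
      ∀ i < rs.length, Subsingleton (Ext.{u} (ModuleCat.of R N) (ModuleCat.of R M) i) := by
  induction rs with
  | nil =>
    intro M _ _ _ i hi
    exact absurd hi (Nat.not_lt_zero i)
  | cons r rs ih =>
    intro M _ _ hreg i hi
    rw [isWeaklyRegular_cons_iff] at hreg
    obtain ⟨hr, hrs⟩ := hreg
    have hNr : ∀ y : N, r ^ k • y = 0 := hN r (List.mem_cons_self)
    have hN' : ∀ r' ∈ rs, ∀ y : N, r' ^ k • y = 0 :=
      fun r' hr' => hN r' (List.mem_cons_of_mem _ hr')
    have hvan' := ih hN' (QuotSMulTop r M) hrs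
    have hS := IsSMulRegular.smulShortComplex_shortExact (M := ModuleCat.of R M) hr
    -- multiplication by r is injective on Ext^i(N, M)
    have hinj : ∀ e : Ext.{u} (ModuleCat.of R N) (ModuleCat.of R M) i, r • e = 0 → e = 0 := by
      intro e he
      rcases i with _ | i
      · obtain ⟨φ, rfl⟩ := (Ext.mk₀_bijective _ _).2 e
        rw [← Ext.mk₀_smul] at he
        have he' : r • φ = 0 := (Ext.mk₀_bijective _ _).1 (by rw [he, Ext.mk₀_zero])
        have : φ = 0 := by
          apply ModuleCat.hom_ext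
          apply LinearMap.ext
          intro y
          apply hr
          change r • φ.hom y = r • (0 : M)
          rw [smul_zero]
          exact LinearMap.congr_fun (congrArg ModuleCat.Hom.hom he') y
        rw [this, Ext.mk₀_zero]
      · have hi' : i < rs.length := by
          simp only [List.length_cons] at hi
          omega
        have h3 : Subsingleton (Ext.{u} (ModuleCat.of R N)
            (ModuleCat.smulShortComplex (ModuleCat.of R M) r).X₃ i) := hvan' i hi'
        have h1 := smul_ext_eq_comp (N := ModuleCat.of R N) (M := ModuleCat.of R M) r e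
        rw [he] at h1
        obtain ⟨x₃, hx₃⟩ := Ext.covariant_sequence_exact₁ _ hS e h1 rfl
        rw [← hx₃, Subsingleton.elim x₃ 0, Ext.zero_comp]
        rfl
    have hpow : ∀ (j : ℕ) (e : Ext.{u} (ModuleCat.of R N) (ModuleCat.of R M) i),
        r ^ j • e = 0 → e = 0 := by
      intro j
      induction j with
      | zero => intro e he; simpa using he
      | succ j ihj =>
        intro e he
        rw [pow_succ, mul_smul] at he
        exact hinj e (ihj _ he)
    refine ⟨fun a b => ?_⟩
    suffices hz : ∀ e : Ext.{u} (ModuleCat.of R N) (ModuleCat.of R M) i, e = 0 by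
      rw [hz a, hz b]
    intro e
    exact hpow k e (smul_ext_eq_zero (N := ModuleCat.of R N) (M := ModuleCat.of R M) hNr e)

end Groth.Agent.Lib.Helper16.Rees
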