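import Groth.Agent.Lib.Helper16.LocCohBasic
import Groth.Agent.Lib.Helper16.DepthExt

/-!
# Local cohomology and depth (helper16)

* `subsingleton_H_of_forall` : if all `Ext^i(R/I^k, M)` vanish then `H^i_I(M) = 0`.
* `subsingleton_ext_of_le_idealDepth` : Rees for arbitrary finite `N` with `Supp N ⊆ V(I)`.
* `subsingleton_H_of_lt_idealDepth` : `H^i_I(M) = 0` for `i < depth_I(M)`.
* `trans_injective_of_le_idealDepth` : the transition maps in degree `n ≤ depth` are injective.
* `nontrivial_H_of_idealDepth_eq` : `H^n_I(M) ≠ 0` for `n = depth_I(M)`.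
-/

set_option autoImplicit false
universe u
open CategoryTheory Opposite Limits

namespace Groth.Agent.Lib.Helper16.LC

open Groth.Agent.Lib.Helper16.Depth RingTheory.Sequence

section general

variable {R : Type u} [CommRing R] (I : Ideal R) (i : ℕ) (M : ModuleCat.{u} R)

theorem subsingleton_H_of_forall (h : ∀ k : ℕ, Subsingleton (E I i M k)) :
    Subsingleton ((localCohomology I i).obj M) := by
  refine ⟨fun x y => ?_⟩
  obtain ⟨k, e, rfl⟩ := ι_jointly_surjective I i M x
  obtain ⟨l, e', rfl⟩ := ι_jointly_surjective I i M y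
  rw [(h k).elim e 0, (h l).elim e' 0, map_zero, map_zero]

theorem support_Q_subset (k : ℕ) :
    Module.support R (Q I k) ⊆ PrimeSpectrum.zeroLocus (I : Set R) := by
  change Module.support R (R ⧸ I ^ k) ⊆ _
  rw [Module.support_eq_zeroLocus, Ideal.annihilator_quotient]
  intro p hp
  rw [PrimeSpectrum.mem_zeroLocus] at hp ⊢
  exact Ideal.IsPrime.le_of_pow_le (SetLike.coe_subset_coe.mp hp)

end general

section noeth

variable {R : Type u} [CommRing R] [IsNoetherianRing R] (I : Ideal R)
  (M : Type u) [AddCommGroup M] [Module R M] [Module.Finite R M]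

/-- Rees, for an arbitrary finite module `N` supported in `V(I)`. -/
theorem subsingleton_ext_of_le_idealDepth (hIM : I • (⊤ : Submodule R M) ≠ ⊤) (n : ℕ)
    (hn : (n : ℕ∞) ≤ LocCoh.idealDepth I M) (N : ModuleCat.{u} R) [Module.Finite R N]
    (hN : Module.support R N ⊆ PrimeSpectrum.zeroLocus (I : Set R)) (i : ℕ) (hi : i < n) :
    Subsingleton (Abelian.Ext.{u} N (ModuleCat.of R M) i) := by
  rw [le_idealDepth_iff] at hn
  rcases hn with hn | ⟨rs, hlen, hreg, hmem⟩
  · exact absurd hn hIM
  · have hle : Ideal.ofList rs ≤ I := by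
      rw [Ideal.ofList, Ideal.span_le]
      intro r hr
      exact hmem r hr
    have hreg' : RingTheory.Sequence.IsRegular M rs := by
      refine ⟨hreg, ?_⟩
      intro htop
      apply hIM
      exact eq_top_iff.mpr (htop.le.trans (Submodule.smul_mono_left hle))
    have hlt : I • (⊤ : Submodule R (ModuleCat.of R M)) < ⊤ := lt_top_iff_ne_top.mpr hIM
    exact ModuleCat.subsingleton_ext_of_exists_isRegular I N hN
      (ModuleCat.of R M) hlt rs hmem hreg' i (hlen ▸ hi)

theorem subsingleton_H_of_lt_idealDepth (hIM : I • (⊤ : Submodule R M) ≠ ⊤) (n : ℕ)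
    (hn : (n : ℕ∞) ≤ LocCoh.idealDepth I M) (i : ℕ) (hi : i < n) :
    Subsingleton (LocCoh.H I i M) := by
  apply subsingleton_H_of_forall
  intro k
  exact subsingleton_ext_of_le_idealDepth I M hIM n hn (Q I k) (support_Q_subset I k) i hi

omit [IsNoetherianRing R] in
theorem quotMap_surjective {k l : ℕ} (h : k ≤ l) : Function.Surjective (quotMap I h).hom := by
  intro y
  obtain ⟨r, rfl⟩ := Ideal.Quotient.mk_surjective y
  exact ⟨Ideal.Quotient.mk (I ^ l) r, rfl⟩

theorem trans_injective_of_le_idealDepth (hIM : I • (⊤ : Submodule R M) ≠ ⊤) (n : ℕ)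
    (hn : (n : ℕ∞) ≤ LocCoh.idealDepth I M) {k l : ℕ} (h : k ≤ l) :
    Function.Injective (trans I n (ModuleCat.of R M) h) := by
  rcases n with _ | n
  · have : Epi (quotMap I h) := (ModuleCat.epi_iff_surjective _).mpr (quotMap_surjective I h)
    exact Abelian.Ext.precomp_mk₀_injective_of_epi (ModuleCat.of R M) (quotMap I h)
  · rw [injective_iff_map_eq_zero]
    intro e he
    have hS := shortExact_of_linearMaps (LinearMap.ker (quotMap I h).hom).subtype
      (quotMap I h).hom (Submodule.injective_subtype _) (quotMap_surjective I h)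
      (fun y => by simp)
    obtain ⟨x₁, hx₁⟩ := Abelian.Ext.contravariant_sequence_exact₃ hS (ModuleCat.of R M) e he
      (Nat.add_comm 1 n)
    have hfin : Module.Finite R (LinearMap.ker (quotMap I h).hom) := inferInstance
    have hsub : Subsingleton (Abelian.Ext.{u} (ModuleCat.of R (LinearMap.ker (quotMap I h).hom))
        (ModuleCat.of R M) n) := by
      apply subsingleton_ext_of_le_idealDepth I M hIM (n + 1) hn _ _ n (Nat.lt_succ_self n)
      exact (Module.support_subset_of_injective _ (Submodule.injective_subtype _)).trans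
        (support_Q_subset I l)
    rw [← hx₁, hsub.elim x₁ 0, Abelian.Ext.comp_zero]

theorem nontrivial_H_of_idealDepth_eq (hIM : I • (⊤ : Submodule R M) ≠ ⊤) (n : ℕ)
    (hn : LocCoh.idealDepth I M = n) : Nontrivial (LocCoh.H I n M) := by
  have hIM' : (I ^ 1) • (⊤ : Submodule R M) ≠ ⊤ := by rwa [pow_one]
  have hn' : LocCoh.idealDepth (I ^ 1) M = n := by rwa [pow_one]
  obtain ⟨-, hnt⟩ := (idealDepth_eq_coe_iff_ext (I ^ 1) M hIM' n).mp hn'
  obtain ⟨e, he⟩ := exists_ne (0 : Abelian.Ext.{u} (ModuleCat.of R (R ⧸ I ^ 1)) (ModuleCat.of R M) n)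
  refine ⟨⟨ι I n (ModuleCat.of R M) 1 e, 0, ?_⟩⟩
  intro h0
  obtain ⟨l, hl, h1⟩ := (ι_eq_zero_iff I n (ModuleCat.of R M) e).mp h0
  apply he
  apply trans_injective_of_le_idealDepth I M hIM n hn.ge hl
  rw [h1, map_zero]

end noeth

end Groth.Agent.Lib.Helper16.LC
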