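import Groth.Agent.Lib.Helper16.GorQuot
import Groth.Agent.Lib.Helper18.CM11

/-!
# The sum of two geometrically linked ideals is Gorenstein (local form) (helper16)

* exists_regular_of_depth_pos : simultaneous prime avoidance for cyclic modules of positive depth.
* le_depth_quot_sup : depth T/(b1 + b2) >= n when b1 ∩ b2 = a and T/a, T/b1, T/b2 have depth >= n + 1.
* gor_quot_sup_of_dim_one, gor_quot_sup : T/a Gorenstein of dimension n + 1, b1 ∩ b2 = a, T/bi Cohen-Macaulay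
  of dimension n + 1 and dim T/(b1 + b2) <= n imply that T/(b1 + b2) is Gorenstein.
-/

set_option autoImplicit false
set_option linter.unusedSectionVars false
universe u
open IsLocalRing RingTheory.Sequence Pointwise

namespace Groth.Agent.Lib.Helper16.GorQuot

open Groth.Agent.Lib.Helper18.CM Groth.Agent.Lib.Helper16.Depth

section avoid

variable {T : Type u} [CommRing T] [IsLocalRing T] [IsNoetherianRing T]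

/-- Simultaneous prime avoidance: finitely many cyclic modules of positive depth admit a common
regular element in the maximal ideal. -/
theorem exists_regular_of_depth_pos (s : Finset (Ideal T))
    (h : ∀ 𝔠 ∈ s, 1 ≤ LocCoh.depth T (T ⧸ 𝔠)) :
    ∃ x ∈ maximalIdeal T, ∀ 𝔠 ∈ s, ∀ t, x * t ∈ 𝔠 → t ∈ 𝔠 := by
  by_contra hcon
  push Not at hcon
  set S : Set (Ideal T) := ⋃ 𝔠 ∈ s, associatedPrimes T (T ⧸ 𝔠) with hS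
  have hSfin : S.Finite := by
    rw [hS]
    exact Set.Finite.biUnion s.finite_toSet (fun 𝔠 _ => associatedPrimes.finite T (T ⧸ 𝔠))
  have hsub : ((maximalIdeal T : Ideal T) : Set T) ⊆ ⋃ p ∈ S, (p : Set T) := by
    intro x hx
    obtain ⟨𝔠, h𝔠, t, ht, ht'⟩ := hcon x hx
    have hnreg : ¬ IsSMulRegular (T ⧸ 𝔠) x := by
      rw [isSMulRegular_quotient_iff]
      push Not
      exact ⟨t, ht, ht'⟩
    have h1 : x ∈ ⋃ p ∈ associatedPrimes T (T ⧸ 𝔠), (p : Set T) := by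
      rw [biUnion_associatedPrimes_eq_compl_regular T (T ⧸ 𝔠)]
      exact hnreg
    obtain ⟨p, hp, hxp⟩ := Set.mem_iUnion₂.mp h1
    exact Set.mem_iUnion₂.mpr ⟨p, Set.mem_iUnion₂.mpr ⟨𝔠, h𝔠, hp⟩, hxp⟩
  have hprime : ∀ p ∈ S, p ≠ maximalIdeal T → p ≠ maximalIdeal T → p.IsPrime := by
    intro p hp _ _
    obtain ⟨𝔠, _, hp'⟩ := Set.mem_iUnion₂.mp hp
    exact IsAssociatedPrime.isPrime hp'
  obtain ⟨p, hpS, hle⟩ := (Ideal.subset_union_prime_finite hSfin (f := id) (maximalIdeal T)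
    (maximalIdeal T) hprime).mp hsub
  obtain ⟨𝔠, h𝔠, hp'⟩ := Set.mem_iUnion₂.mp hpS
  have hpp : p.IsPrime := IsAssociatedPrime.isPrime hp'
  have hpm : maximalIdeal T = p := (maximalIdeal.isMaximal T).eq_of_le hpp.ne_top hle
  have h0 : LocCoh.depth T (T ⧸ 𝔠) = 0 := by
    rw [depth_eq_zero_iff, hpm]
    exact hp'
  have h1 := h 𝔠 h𝔠
  rw [h0] at h1
  exact absurd h1 (by simp)

end avoid

section depthsum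

variable {T : Type u} [CommRing T] [IsLocalRing T] [IsNoetherianRing T]

/-- The depth lemma for `T/(𝔟₁ + 𝔟₂)` when `𝔟₁ ∩ 𝔟₂ = 𝔞`. -/
theorem le_depth_quot_sup (𝔞 𝔟₁ 𝔟₂ : Ideal T) (hinf : 𝔟₁ ⊓ 𝔟₂ = 𝔞) (n : ℕ)
    (h0 : ((n + 1 : ℕ) : ℕ∞) ≤ LocCoh.depth T (T ⧸ 𝔞))
    (h1 : ((n + 1 : ℕ) : ℕ∞) ≤ LocCoh.depth T (T ⧸ 𝔟₁))
    (h2 : ((n + 1 : ℕ) : ℕ∞) ≤ LocCoh.depth T (T ⧸ 𝔟₂)) :
    (n : ℕ∞) ≤ LocCoh.depth T (T ⧸ (𝔟₁ ⊔ 𝔟₂)) := by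
  have h𝔞1 : 𝔞 ≤ 𝔟₁ := hinf ▸ inf_le_left
  have h𝔞2 : 𝔞 ≤ 𝔟₂ := hinf ▸ inf_le_right
  let π₁ : (T ⧸ 𝔞) →ₗ[T] (T ⧸ 𝔟₁) := Submodule.mapQ 𝔞 𝔟₁ LinearMap.id (fun r hr => h𝔞1 hr)
  let π₂ : (T ⧸ 𝔞) →ₗ[T] (T ⧸ 𝔟₂) := Submodule.mapQ 𝔞 𝔟₂ LinearMap.id (fun r hr => h𝔞2 hr)
  let g' : (T ⧸ 𝔟₁) →ₗ[T] (T ⧸ (𝔟₁ ⊔ 𝔟₂)) :=
    Submodule.mapQ 𝔟₁ (𝔟₁ ⊔ 𝔟₂) LinearMap.id (fun r hr => Ideal.mem_sup_left hr)
  have hπ₁ : ∀ t : T, π₁ (Ideal.Quotient.mk 𝔞 t) = Ideal.Quotient.mk 𝔟₁ t := fun _ => rfl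
  have hπ₂ : ∀ t : T, π₂ (Ideal.Quotient.mk 𝔞 t) = Ideal.Quotient.mk 𝔟₂ t := fun _ => rfl
  have hg' : ∀ t : T, g' (Ideal.Quotient.mk 𝔟₁ t) = Ideal.Quotient.mk (𝔟₁ ⊔ 𝔟₂) t := fun _ => rfl
  have hπ₂surj : Function.Surjective π₂ := by
    intro y
    obtain ⟨t, rfl⟩ := Ideal.Quotient.mk_surjective y
    exact ⟨Ideal.Quotient.mk 𝔞 t, rfl⟩
  have hg'surj : Function.Surjective g' := by
    intro y
    obtain ⟨t, rfl⟩ := Ideal.Quotient.mk_surjective y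
    exact ⟨Ideal.Quotient.mk 𝔟₁ t, rfl⟩
  -- the kernel
  have hK : min (LocCoh.depth T (T ⧸ 𝔞)) (LocCoh.depth T (T ⧸ 𝔟₂) + 1) ≤
      LocCoh.depth T (LinearMap.ker π₂) :=
    (Groth.Agent.S0321.result T (maximalIdeal T) (LinearMap.ker π₂) (T ⧸ 𝔞) (T ⧸ 𝔟₂)
      (LinearMap.ker π₂).subtype π₂ (Submodule.injective_subtype _) hπ₂surj
      (LinearMap.exact_subtype_ker_map π₂)).2.2
  have hK' : ((n + 1 : ℕ) : ℕ∞) ≤ LocCoh.depth T (LinearMap.ker π₂) :=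
    le_trans (le_min h0 (h2.trans le_self_add)) hK
  -- the second sequence
  have hinj : Function.Injective (π₁ ∘ₗ (LinearMap.ker π₂).subtype) := by
    rw [← LinearMap.ker_eq_bot, LinearMap.ker_eq_bot']
    rintro ⟨k, hk⟩ hk1
    obtain ⟨t, rfl⟩ := Ideal.Quotient.mk_surjective k
    rw [LinearMap.mem_ker, hπ₂, Ideal.Quotient.eq_zero_iff_mem] at hk
    rw [LinearMap.comp_apply, Submodule.subtype_apply, hπ₁, Ideal.Quotient.eq_zero_iff_mem] at hk1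
    apply Subtype.ext
    change Ideal.Quotient.mk 𝔞 t = 0
    rw [Ideal.Quotient.eq_zero_iff_mem, ← hinf]
    exact ⟨hk1, hk⟩
  have hexact : Function.Exact (π₁ ∘ₗ (LinearMap.ker π₂).subtype) g' := by
    intro y
    obtain ⟨t, rfl⟩ := Ideal.Quotient.mk_surjective y
    rw [hg', Ideal.Quotient.eq_zero_iff_mem]
    constructor
    · intro ht
      obtain ⟨β₁, hβ₁, β₂, hβ₂, rfl⟩ := Submodule.mem_sup.mp ht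
      refine ⟨⟨Ideal.Quotient.mk 𝔞 β₂, ?_⟩, ?_⟩
      · rw [LinearMap.mem_ker, hπ₂, Ideal.Quotient.eq_zero_iff_mem]
        exact hβ₂
      · rw [LinearMap.comp_apply, Submodule.subtype_apply, hπ₁, Ideal.Quotient.eq]
        have : β₂ - (β₁ + β₂) = -β₁ := by ring
        rw [this]
        exact (Ideal.neg_mem_iff _).mpr hβ₁
    · rintro ⟨⟨k, hk⟩, hk1⟩
      obtain ⟨s, rfl⟩ := Ideal.Quotient.mk_surjective k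
      rw [LinearMap.mem_ker, hπ₂, Ideal.Quotient.eq_zero_iff_mem] at hk
      rw [LinearMap.comp_apply, Submodule.subtype_apply, hπ₁, Ideal.Quotient.eq] at hk1
      have : t = s - (s - t) := by ring
      rw [this]
      exact Ideal.sub_mem _ (Ideal.mem_sup_right hk) (Ideal.mem_sup_left hk1)
  have hC := depth_lemma₃ (π₁ ∘ₗ (LinearMap.ker π₂).subtype) g' hinj hg'surj hexact
  refine le_trans (le_min (le_trans ?_ h1) ?_) hC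
  · exact_mod_cast Nat.le_succ n
  · have h3 : ((n + 1 : ℕ) : ℕ∞) - 1 ≤ LocCoh.depth T (LinearMap.ker π₂) - 1 :=
      tsub_le_tsub_right hK' 1
    refine le_trans ?_ h3
    have h4 : ((n + 1 : ℕ) : ℕ∞) - 1 = n := by
      have : ((n + 1 : ℕ) : ℕ∞) - 1 = ((n + 1 - 1 : ℕ) : ℕ∞) := by
        push_cast
        rfl
      rw [this]
      simp
    rw [h4]

end depthsum

section base

variable {T : Type u} [CommRing T] [IsLocalRing T] [IsNoetherianRing T]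

theorem mem_sup_of_mul_eq (𝔞 𝔟₁ 𝔟₂ : Ideal T) (h𝔞1 : 𝔞 ≤ 𝔟₁) (h𝔞2 : 𝔞 ≤ 𝔟₂) (x : T)
    (hreg1 : ∀ t, x * t ∈ 𝔟₁ → t ∈ 𝔟₁) (hreg2 : ∀ t, x * t ∈ 𝔟₂ → t ∈ 𝔟₂)
    (t β₁ β₂ : T) (hβ₁ : β₁ ∈ 𝔟₁) (hβ₂ : β₂ ∈ 𝔟₂) (hxt : x * t = β₁ + β₂)
    (hβ₂' : β₂ ∈ 𝔞 ⊔ Ideal.span {x}) : t ∈ 𝔟₁ ⊔ 𝔟₂ := by
  obtain ⟨a, ha, y, hy, hay⟩ := Submodule.mem_sup.mp hβ₂'
  obtain ⟨s, rfl⟩ := Ideal.mem_span_singleton'.mp hy
  have hs : s ∈ 𝔟₂ := by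
    apply hreg2
    have : x * s = β₂ - a := by rw [← hay]; ring
    rw [this]
    exact Ideal.sub_mem _ hβ₂ (h𝔞2 ha)
  have hts : t - s ∈ 𝔟₁ := by
    apply hreg1
    have : x * (t - s) = β₁ + a := by
      have e : x * t = β₁ + (a + s * x) := by rw [hay]; exact hxt
      calc x * (t - s) = x * t - s * x := by ring
        _ = β₁ + a := by rw [e]; ring
    rw [this]
    exact Ideal.add_mem _ hβ₁ (h𝔞1 ha)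
  have : t = (t - s) + s := by ring
  rw [this]
  exact Ideal.add_mem _ (Ideal.mem_sup_left hts) (Ideal.mem_sup_right hs)

/-- One-dimensional case: if `T/𝔞` is Gorenstein of dimension one, `𝔟₁ ∩ 𝔟₂ = 𝔞`, a common regular
element exists and `T/(𝔟₁ + 𝔟₂)` is zero-dimensional, then `T/(𝔟₁ + 𝔟₂)` is Gorenstein. -/
theorem gor_quot_sup_of_dim_one (𝔞 𝔟₁ 𝔟₂ : Ideal T) (hinf : 𝔟₁ ⊓ 𝔟₂ = 𝔞)
    (hG : LocCoh.IsGorensteinLocalRing (T ⧸ 𝔞)) (x : T) (hx : x ∈ maximalIdeal T)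
    (hreg0 : ∀ t, x * t ∈ 𝔞 → t ∈ 𝔞) (hreg1 : ∀ t, x * t ∈ 𝔟₁ → t ∈ 𝔟₁)
    (hreg2 : ∀ t, x * t ∈ 𝔟₂ → t ∈ 𝔟₂)
    (h0 : ringKrullDim (T ⧸ (𝔞 ⊔ Ideal.span {x})) = 0)
    (htop : 𝔟₁ ⊔ 𝔟₂ ≠ ⊤) (hC0 : ringKrullDim (T ⧸ (𝔟₁ ⊔ 𝔟₂)) = 0) :
    LocCoh.IsGorensteinLocalRing (T ⧸ (𝔟₁ ⊔ 𝔟₂)) := by
  have h𝔞1 : 𝔞 ≤ 𝔟₁ := hinf ▸ inf_le_left
  have h𝔞2 : 𝔞 ≤ 𝔟₂ := hinf ▸ inf_le_right
  have h𝔞top : 𝔞 ≠ ⊤ := fun h => htop (top_le_iff.mp (h ▸ h𝔞1.trans le_sup_left))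
  have hG' := (gor_sup_iff 𝔞 h𝔞top x hx hreg0).mp hG
  have hlocB : IsLocalRing (T ⧸ (𝔞 ⊔ Ideal.span {x})) := hG'.toIsLocalRing
  have hlocC := isLocalRing_quotient (𝔟₁ ⊔ 𝔟₂) htop
  have hA := (Groth.Agent.Lib.Helper16.GorFlat.isGorenstein_iff_of_dim_zero _ h0).mp hG'
  rw [Module.length_eq_one_iff] at hA
  rw [Groth.Agent.Lib.Helper16.GorFlat.isGorenstein_iff_of_dim_zero _ hC0,
    Module.length_eq_one_iff]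
  have hnt : Nontrivial (LocCoh.torsionBy (maximalIdeal (T ⧸ (𝔟₁ ⊔ 𝔟₂))) (T ⧸ (𝔟₁ ⊔ 𝔟₂))) := by
    have hdep : LocCoh.depth (T ⧸ (𝔟₁ ⊔ 𝔟₂)) (T ⧸ (𝔟₁ ⊔ 𝔟₂)) = 0 := by
      have h1 := Groth.Agent.Lib.Helper18.CM.depth_le_supportDim (R := T ⧸ (𝔟₁ ⊔ 𝔟₂))
        (T ⧸ (𝔟₁ ⊔ 𝔟₂))
      rw [Module.supportDim_self_eq_ringKrullDim, hC0] at h1
      have h2 : LocCoh.depth (T ⧸ (𝔟₁ ⊔ 𝔟₂)) (T ⧸ (𝔟₁ ⊔ 𝔟₂)) ≤ 0 := by exact_mod_cast h1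
      exact le_antisymm h2 zero_le
    have := (Groth.Agent.Lib.Helper16.GorFlat.depth_eq_zero_iff_length_socle_ne_zero
      (T ⧸ (𝔟₁ ⊔ 𝔟₂))).mp hdep
    rwa [Ne, Module.length_eq_zero_iff, not_subsingleton_iff_nontrivial] at this
  -- socle elements of `C` decompose
  have hsoc : ∀ t : T, Ideal.Quotient.mk (𝔟₁ ⊔ 𝔟₂) t ∈
      LocCoh.torsionBy (maximalIdeal (T ⧸ (𝔟₁ ⊔ 𝔟₂))) (T ⧸ (𝔟₁ ⊔ 𝔟₂)) →
      ∀ r ∈ maximalIdeal T, r * t ∈ 𝔟₁ ⊔ 𝔟₂ := by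
    intro t ht r hr
    rw [Submodule.mem_torsionBySet_iff] at ht
    have hrC : Ideal.Quotient.mk (𝔟₁ ⊔ 𝔟₂) r ∈ maximalIdeal (T ⧸ (𝔟₁ ⊔ 𝔟₂)) :=
      (mk_mem_maximalIdeal_iff _ r).mpr hr
    have h1 := ht ⟨_, hrC⟩
    change Ideal.Quotient.mk (𝔟₁ ⊔ 𝔟₂) r • Ideal.Quotient.mk (𝔟₁ ⊔ 𝔟₂) t = 0 at h1
    rwa [smul_eq_mul, ← map_mul, Ideal.Quotient.eq_zero_iff_mem] at h1
  have key : ∀ t : T, Ideal.Quotient.mk (𝔟₁ ⊔ 𝔟₂) t ∈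
      LocCoh.torsionBy (maximalIdeal (T ⧸ (𝔟₁ ⊔ 𝔟₂))) (T ⧸ (𝔟₁ ⊔ 𝔟₂)) →
      ∀ β₁ ∈ 𝔟₁, ∀ β₂ ∈ 𝔟₂, x * t = β₁ + β₂ →
      Ideal.Quotient.mk (𝔞 ⊔ Ideal.span {x}) β₂ ∈
        LocCoh.torsionBy (maximalIdeal (T ⧸ (𝔞 ⊔ Ideal.span {x}))) (T ⧸ (𝔞 ⊔ Ideal.span {x})) := by
    intro t ht β₁ hβ₁ β₂ hβ₂ hxt
    rw [Submodule.mem_torsionBySet_iff]
    rintro ⟨a, ha⟩
    obtain ⟨r, rfl⟩ := Ideal.Quotient.mk_surjective a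
    have hr : r ∈ maximalIdeal T := (mk_mem_maximalIdeal_iff _ r).mp ha
    obtain ⟨γ₁, hγ₁, γ₂, hγ₂, hγ⟩ := Submodule.mem_sup.mp (hsoc t ht r hr)
    change Ideal.Quotient.mk (𝔞 ⊔ Ideal.span {x}) r • Ideal.Quotient.mk (𝔞 ⊔ Ideal.span {x}) β₂ = 0
    rw [smul_eq_mul, ← map_mul, Ideal.Quotient.eq_zero_iff_mem]
    have hmem : x * γ₂ - r * β₂ ∈ 𝔞 := by
      rw [← hinf]
      refine ⟨?_, Ideal.sub_mem _ (Ideal.mul_mem_left _ _ hγ₂) (Ideal.mul_mem_left _ _ hβ₂)⟩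
      have : x * γ₂ - r * β₂ = r * β₁ - x * γ₁ := by
        have e1 : r * (x * t) = r * β₁ + r * β₂ := by rw [hxt]; ring
        have e2 : x * (r * t) = x * γ₁ + x * γ₂ := by rw [← hγ]; ring
        have e3 : r * (x * t) = x * (r * t) := by ring
        rw [e1, e2] at e3
        linear_combination -e3
      rw [this]
      exact Ideal.sub_mem _ (Ideal.mul_mem_left _ _ hβ₁) (Ideal.mul_mem_left _ _ hγ₁)
    have : r * β₂ = γ₂ * x - (x * γ₂ - r * β₂) := by ring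
    rw [this]
    exact Ideal.sub_mem _ (Ideal.mem_sup_right (Ideal.mul_mem_left _ _
      (Ideal.mem_span_singleton_self x))) (Ideal.mem_sup_left hmem)
  rw [isSimpleModule_iff_toSpanSingleton_surjective]
  refine ⟨hnt, ?_⟩
  rintro ⟨c, hc⟩ hc0 ⟨c', hc'⟩
  obtain ⟨t, rfl⟩ := Ideal.Quotient.mk_surjective c
  obtain ⟨t', rfl⟩ := Ideal.Quotient.mk_surjective c'
  obtain ⟨β₁, hβ₁, β₂, hβ₂, hβ⟩ := Submodule.mem_sup.mp (hsoc t hc x hx)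
  obtain ⟨β₁', hβ₁', β₂', hβ₂', hβ'⟩ := Submodule.mem_sup.mp (hsoc t' hc' x hx)
  have hu0 : (⟨_, key t hc β₁ hβ₁ β₂ hβ₂ hβ.symm⟩ : LocCoh.torsionBy
      (maximalIdeal (T ⧸ (𝔞 ⊔ Ideal.span {x}))) (T ⧸ (𝔞 ⊔ Ideal.span {x}))) ≠ 0 := by
    intro h
    apply hc0
    have h1 : Ideal.Quotient.mk (𝔞 ⊔ Ideal.span {x}) β₂ = 0 := congrArg Subtype.val h
    rw [Ideal.Quotient.eq_zero_iff_mem] at h1
    have := mem_sup_of_mul_eq 𝔞 𝔟₁ 𝔟₂ h𝔞1 h𝔞2 x hreg1 hreg2 t β₁ β₂ hβ₁ hβ₂ hβ.symm h1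
    exact Subtype.ext (Ideal.Quotient.eq_zero_iff_mem.mpr this)
  obtain ⟨a, ha⟩ := hA.toSpanSingleton_surjective (T ⧸ (𝔞 ⊔ Ideal.span {x})) hu0
    ⟨_, key t' hc' β₁' hβ₁' β₂' hβ₂' hβ'.symm⟩
  obtain ⟨r, rfl⟩ := Ideal.Quotient.mk_surjective a
  refine ⟨Ideal.Quotient.mk (𝔟₁ ⊔ 𝔟₂) r, ?_⟩
  apply Subtype.ext
  have h1 : Ideal.Quotient.mk (𝔞 ⊔ Ideal.span {x}) r • Ideal.Quotient.mk (𝔞 ⊔ Ideal.span {x}) β₂ =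
      Ideal.Quotient.mk (𝔞 ⊔ Ideal.span {x}) β₂' := congrArg Subtype.val ha
  rw [smul_eq_mul, ← map_mul, Ideal.Quotient.eq] at h1
  change Ideal.Quotient.mk (𝔟₁ ⊔ 𝔟₂) r • Ideal.Quotient.mk (𝔟₁ ⊔ 𝔟₂) t =
    Ideal.Quotient.mk (𝔟₁ ⊔ 𝔟₂) t'
  rw [smul_eq_mul, ← map_mul, Ideal.Quotient.eq]
  refine mem_sup_of_mul_eq 𝔞 𝔟₁ 𝔟₂ h𝔞1 h𝔞2 x hreg1 hreg2 (r * t - t') (r * β₁ - β₁')
    (r * β₂ - β₂') (Ideal.sub_mem _ (Ideal.mul_mem_left _ _ hβ₁) hβ₁')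
    (Ideal.sub_mem _ (Ideal.mul_mem_left _ _ hβ₂) hβ₂') ?_ h1
  have e1 : x * t = β₁ + β₂ := hβ.symm
  have e2 : x * t' = β₁' + β₂' := hβ'.symm
  linear_combination r * e1 - e2

end base

section main

variable {T : Type u} [CommRing T] [IsLocalRing T] [IsNoetherianRing T]

theorem ringKrullDim_sup_span_add_one (𝔟 : Ideal T) (x : T) (hx : x ∈ maximalIdeal T)
    (hreg : ∀ t, x * t ∈ 𝔟 → t ∈ 𝔟) :
    ringKrullDim (T ⧸ (𝔟 ⊔ Ideal.span {x})) + 1 = ringKrullDim (T ⧸ 𝔟) := by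
  have hreg' := (isSMulRegular_quotient_iff 𝔟 x).mpr hreg
  have h1 := Module.supportDim_quotSMulTop_succ_eq_supportDim_mem_jacobson hreg'
    (mem_jacobson_annihilator (T ⧸ 𝔟) hx)
  rw [Module.supportDim_eq_of_equiv (quotSMulTopEquiv 𝔟 x),
    Module.supportDim_quotient_eq_ringKrullDim, Module.supportDim_quotient_eq_ringKrullDim] at h1
  exact h1

theorem withBot_add_one_eq {a : WithBot ℕ∞} {k : ℕ} (h : a + 1 = ((k + 1 : ℕ) : WithBot ℕ∞)) :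
    a = (k : WithBot ℕ∞) := by
  have := withBot_add_one_cancel (a := a) (d := (k : ℕ∞)) (ENat.natCast_ne_top k) (by
    rw [h]
    push_cast
    rfl)
  exact this

theorem withBot_add_one_le {a : WithBot ℕ∞} {k : ℕ} (h : a + 1 ≤ ((k + 1 : ℕ) : WithBot ℕ∞)) :
    a ≤ (k : WithBot ℕ∞) := by
  induction a using WithBot.recBotCoe with
  | bot => exact bot_le
  | coe a =>
    have h' : ((a + 1 : ℕ∞) : WithBot ℕ∞) ≤ (((k + 1 : ℕ) : ℕ∞) : WithBot ℕ∞) := h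
    rw [WithBot.coe_le_coe] at h'
    have h2 : ((a : ℕ∞) : WithBot ℕ∞) ≤ (((k : ℕ) : ℕ∞) : WithBot ℕ∞) := by
      rw [WithBot.coe_le_coe]
      have h3 : a + 1 ≤ (k : ℕ∞) + 1 := by
        refine h'.trans ?_
        push_cast
        rfl
      exact (ENat.add_le_add_iff_right (by simp)).mp h3
    exact h2

theorem depth_eq_of_cm (𝔟 : Ideal T) (hCM : LocCoh.IsCohenMacaulayModule T (T ⧸ 𝔟)) (k : ℕ)
    (hdim : ringKrullDim (T ⧸ 𝔟) = k) : LocCoh.depth T (T ⧸ 𝔟) = k := by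
  unfold LocCoh.IsCohenMacaulayModule at hCM
  rw [Module.supportDim_quotient_eq_ringKrullDim, hdim] at hCM
  exact_mod_cast hCM.symm

theorem cm_sup_span (𝔟 : Ideal T) (hCM : LocCoh.IsCohenMacaulayModule T (T ⧸ 𝔟)) (x : T)
    (hx : x ∈ maximalIdeal T) (hreg : ∀ t, x * t ∈ 𝔟 → t ∈ 𝔟) :
    LocCoh.IsCohenMacaulayModule T (T ⧸ (𝔟 ⊔ Ideal.span {x})) :=
  (isCohenMacaulayModule_congr (quotSMulTopEquiv 𝔟 x)).mp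
    (isCohenMacaulayModule_quotSMulTop (T ⧸ 𝔟) hCM hx ((isSMulRegular_quotient_iff 𝔟 x).mpr hreg))

theorem inf_sup_span (𝔞 𝔟₁ 𝔟₂ : Ideal T) (hinf : 𝔟₁ ⊓ 𝔟₂ = 𝔞) (x : T)
    (hreg : ∀ t, x * t ∈ 𝔟₁ ⊔ 𝔟₂ → t ∈ 𝔟₁ ⊔ 𝔟₂) :
    (𝔟₁ ⊔ Ideal.span {x}) ⊓ (𝔟₂ ⊔ Ideal.span {x}) = 𝔞 ⊔ Ideal.span {x} := by
  have h𝔞1 : 𝔞 ≤ 𝔟₁ := hinf ▸ inf_le_left
  have h𝔞2 : 𝔞 ≤ 𝔟₂ := hinf ▸ inf_le_right
  apply le_antisymm
  · rintro t ⟨ht1, ht2⟩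
    obtain ⟨b₁, hb₁, y₁, hy₁, h1⟩ := Submodule.mem_sup.mp ht1
    obtain ⟨b₂, hb₂, y₂, hy₂, h2⟩ := Submodule.mem_sup.mp ht2
    obtain ⟨s₁, rfl⟩ := Ideal.mem_span_singleton'.mp hy₁
    obtain ⟨s₂, rfl⟩ := Ideal.mem_span_singleton'.mp hy₂
    have h3 : x * (s₂ - s₁) ∈ 𝔟₁ ⊔ 𝔟₂ := by
      have : x * (s₂ - s₁) = b₁ - b₂ := by linear_combination h2 - h1
      rw [this]
      exact Ideal.sub_mem _ (Ideal.mem_sup_left hb₁) (Ideal.mem_sup_right hb₂)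
    obtain ⟨β₁, hβ₁, β₂, hβ₂, hβ⟩ := Submodule.mem_sup.mp (hreg _ h3)
    have h4 : b₁ - x * β₁ ∈ 𝔞 := by
      rw [← hinf]
      refine ⟨Ideal.sub_mem _ hb₁ (Ideal.mul_mem_left _ _ hβ₁), ?_⟩
      have : b₁ - x * β₁ = b₂ + x * β₂ := by linear_combination h1 - h2 - x * hβ
      rw [this]
      exact Ideal.add_mem _ hb₂ (Ideal.mul_mem_left _ _ hβ₂)
    have : t = (b₁ - x * β₁) + (β₁ + s₁) * x := by linear_combination -h1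
    rw [this]
    exact Ideal.add_mem _ (Ideal.mem_sup_left h4)
      (Ideal.mem_sup_right (Ideal.mul_mem_left _ _ (Ideal.mem_span_singleton_self x)))
  · exact le_inf (sup_le_sup_right h𝔞1 _) (sup_le_sup_right h𝔞2 _)

/-- If `T/𝔞` is Gorenstein of dimension `n + 1`, `𝔟₁ ∩ 𝔟₂ = 𝔞` with `T/𝔟ᵢ` Cohen–Macaulay of
dimension `n + 1`, and `T/(𝔟₁ + 𝔟₂)` is nonzero of dimension at most `n`, then `T/(𝔟₁ + 𝔟₂)` is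
Gorenstein. -/
theorem gor_quot_sup (n : ℕ) : ∀ (𝔞 𝔟₁ 𝔟₂ : Ideal T), 𝔟₁ ⊓ 𝔟₂ = 𝔞 →
    LocCoh.IsGorensteinLocalRing (T ⧸ 𝔞) →
    LocCoh.IsCohenMacaulayModule T (T ⧸ 𝔟₁) → LocCoh.IsCohenMacaulayModule T (T ⧸ 𝔟₂) →
    ringKrullDim (T ⧸ 𝔞) = ((n + 1 : ℕ) : WithBot ℕ∞) →
    ringKrullDim (T ⧸ 𝔟₁) = ((n + 1 : ℕ) : WithBot ℕ∞) →
    ringKrullDim (T ⧸ 𝔟₂) = ((n + 1 : ℕ) : WithBot ℕ∞) →
    𝔟₁ ⊔ 𝔟₂ ≠ ⊤ → ringKrullDim (T ⧸ (𝔟₁ ⊔ 𝔟₂)) ≤ (n : WithBot ℕ∞) →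
    LocCoh.IsGorensteinLocalRing (T ⧸ (𝔟₁ ⊔ 𝔟₂)) := by
  induction n with
  | zero =>
    intro 𝔞 𝔟₁ 𝔟₂ hinf hG hCM1 hCM2 hd0 hd1 hd2 htop hdC
    have hCM0 := cm_module_of_cm_ring 𝔞
      (Groth.Agent.Lib.Helper11.GorCM.isCohenMacaulayLocalRing_of_gorenstein (T ⧸ 𝔞))
    have hdep0 := depth_eq_of_cm 𝔞 hCM0 _ hd0
    have hdep1 := depth_eq_of_cm 𝔟₁ hCM1 _ hd1
    have hdep2 := depth_eq_of_cm 𝔟₂ hCM2 _ hd2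
    classical
    obtain ⟨x, hx, hxreg⟩ := exists_regular_of_depth_pos ({𝔞, 𝔟₁, 𝔟₂} : Finset (Ideal T)) (by
      intro 𝔠 h𝔠
      simp only [Finset.mem_insert, Finset.mem_singleton] at h𝔠
      rcases h𝔠 with rfl | rfl | rfl
      · rw [hdep0]; simp
      · rw [hdep1]; simp
      · rw [hdep2]; simp)
    have hreg0 := hxreg 𝔞 (by simp)
    have hreg1 := hxreg 𝔟₁ (by simp)
    have hreg2 := hxreg 𝔟₂ (by simp)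
    have h𝔞top : 𝔞 ≠ ⊤ := fun h => htop (top_le_iff.mp (h ▸ (hinf ▸ inf_le_left :
      𝔞 ≤ 𝔟₁).trans le_sup_left))
    have h0 : ringKrullDim (T ⧸ (𝔞 ⊔ Ideal.span {x})) = 0 := by
      have h1 := ringKrullDim_sup_span_add_one 𝔞 x hx hreg0
      rw [hd0] at h1
      have := withBot_add_one_eq h1
      simpa using this
    have hC0 : ringKrullDim (T ⧸ (𝔟₁ ⊔ 𝔟₂)) = 0 := by
      have : Nontrivial (T ⧸ (𝔟₁ ⊔ 𝔟₂)) := Ideal.Quotient.nontrivial_iff.mpr htop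
      apply le_antisymm
      · simpa using hdC
      · exact ringKrullDim_nonneg_of_nontrivial
    exact gor_quot_sup_of_dim_one 𝔞 𝔟₁ 𝔟₂ hinf hG x hx hreg0 hreg1 hreg2 h0 htop hC0
  | succ n ih =>
    intro 𝔞 𝔟₁ 𝔟₂ hinf hG hCM1 hCM2 hd0 hd1 hd2 htop hdC
    have hCM0 := cm_module_of_cm_ring 𝔞
      (Groth.Agent.Lib.Helper11.GorCM.isCohenMacaulayLocalRing_of_gorenstein (T ⧸ 𝔞))
    have hdep0 := depth_eq_of_cm 𝔞 hCM0 _ hd0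
    have hdep1 := depth_eq_of_cm 𝔟₁ hCM1 _ hd1
    have hdep2 := depth_eq_of_cm 𝔟₂ hCM2 _ hd2
    have hdepC := le_depth_quot_sup 𝔞 𝔟₁ 𝔟₂ hinf (n + 1) hdep0.ge hdep1.ge hdep2.ge
    classical
    obtain ⟨x, hx, hxreg⟩ := exists_regular_of_depth_pos
      ({𝔞, 𝔟₁, 𝔟₂, 𝔟₁ ⊔ 𝔟₂} : Finset (Ideal T)) (by
      intro 𝔠 h𝔠
      simp only [Finset.mem_insert, Finset.mem_singleton] at h𝔠
      rcases h𝔠 with rfl | rfl | rfl | rfl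
      · rw [hdep0]; simp
      · rw [hdep1]; simp
      · rw [hdep2]; simp
      · refine le_trans ?_ hdepC
        simp)
    have hreg0 := hxreg 𝔞 (by simp)
    have hreg1 := hxreg 𝔟₁ (by simp)
    have hreg2 := hxreg 𝔟₂ (by simp)
    have hregC := hxreg (𝔟₁ ⊔ 𝔟₂) (by simp)
    have h𝔞top : 𝔞 ≠ ⊤ := fun h => htop (top_le_iff.mp (h ▸ (hinf ▸ inf_le_left :
      𝔞 ≤ 𝔟₁).trans le_sup_left))
    have hsup : (𝔟₁ ⊔ Ideal.span {x}) ⊔ (𝔟₂ ⊔ Ideal.span {x}) = (𝔟₁ ⊔ 𝔟₂) ⊔ Ideal.span {x} := by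
      rw [sup_sup_sup_comm, sup_idem]
    have h1 := ih (𝔞 ⊔ Ideal.span {x}) (𝔟₁ ⊔ Ideal.span {x}) (𝔟₂ ⊔ Ideal.span {x})
      (inf_sup_span 𝔞 𝔟₁ 𝔟₂ hinf x hregC)
      ((gor_sup_iff 𝔞 h𝔞top x hx hreg0).mp hG)
      (cm_sup_span 𝔟₁ hCM1 x hx hreg1) (cm_sup_span 𝔟₂ hCM2 x hx hreg2)
      (withBot_add_one_eq ((ringKrullDim_sup_span_add_one 𝔞 x hx hreg0).trans hd0))
      (withBot_add_one_eq ((ringKrullDim_sup_span_add_one 𝔟₁ x hx hreg1).trans hd1))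
      (withBot_add_one_eq ((ringKrullDim_sup_span_add_one 𝔟₂ x hx hreg2).trans hd2))
      (by rw [hsup]; exact sup_span_ne_top _ htop x hx)
      (by
        rw [ringKrullDim_congr_ideal hsup]
        apply withBot_add_one_le
        rw [ringKrullDim_sup_span_add_one (𝔟₁ ⊔ 𝔟₂) x hx hregC]
        exact hdC)
    rw [gor_sup_iff (𝔟₁ ⊔ 𝔟₂) htop x hx hregC]
    exact gor_congr_ideal hsup h1

end main

end Groth.Agent.Lib.Helper16.GorQuot
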