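import Groth.Agent.Lib.Helper16.CanonicalRegSeq

/-!
# Endomorphisms of a canonical module (helper16)

`R` CM local of dimension `n`, `E` an injective hull of the residue field, `K` finite with
`Hom(K, E) ≃ H^n_m(R)`.

* `subsingleton_ext_of_depth` : `Ext^i(M, K) = 0` for `i > 0` and `M` finite of depth `≥ n`.
* `subsingleton_ext_K_K`, `isSMulRegular_K`.
* `lift_end` : endomorphisms of `K/aK` lift to `K` (`a` regular).
* `range_le_iff_exists_smul`.
-/

set_option autoImplicit false
universe u
open CategoryTheory Abelian IsLocalRing TensorProduct Opposite RingTheory.Sequence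
open scoped Pointwise

namespace Groth.Agent.Lib.Helper16.Canon

open Groth.Agent.Lib.Helper16.LC Groth.Agent.Lib.Helper16.Depth

variable {R : Type u} [CommRing R] [LocCoh.IsCohenMacaulayLocalRing R] {n : ℕ}
  (hn : ringKrullDim R = n) {E : Type u} [AddCommGroup E] [Module R E]
  (f : ResidueField R →ₗ[R] E) (hf : InjHull.IsInjectiveHull f)
  {K : Type u} [AddCommGroup K] [Module R K] [Module.Finite R K]
  (eK : (K →ₗ[R] E) ≃ₗ[R] LocCoh.H (maximalIdeal R) n R)

include hn f hf eK in
/-- `Ext^i(M, K) = 0` for `i > 0` and `M` a finite module of depth `≥ n` (maximal CM) -/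
theorem subsingleton_ext_of_depth (M : Type u) [AddCommGroup M] [Module R M] [Module.Finite R M]
    (hM : (n : ℕ∞) ≤ LocCoh.depth R M) (i : ℕ) (hi : 0 < i) :
    Subsingleton (Ext.{u} (ModuleCat.of R M) (ModuleCat.of R K) i) := by
  by_cases hin : i ≤ n
  · obtain ⟨e⟩ := duality hn eK hf.isInjective (hlow_of_CM hn) M (n - i) i (by omega)
    have hs : Subsingleton (LocCoh.H (maximalIdeal R) (n - i) M) := by
      by_cases hIM : maximalIdeal R • (⊤ : Submodule R M) = ⊤
      · have h2 := Submodule.eq_bot_of_le_smul_of_le_jacobson_bot (maximalIdeal R)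
          (⊤ : Submodule R M) (Module.Finite.fg_top) (le_of_eq hIM.symm)
          (by rw [IsLocalRing.jacobson_eq_maximalIdeal _ bot_ne_top])
        have hsub : Subsingleton M := by
          refine ⟨fun a b => ?_⟩
          have ha : a ∈ (⊥ : Submodule R M) := h2 ▸ Submodule.mem_top
          have hb : b ∈ (⊥ : Submodule R M) := h2 ▸ Submodule.mem_top
          rw [Submodule.mem_bot] at ha hb
          rw [ha, hb]
        exact subsingleton_H_of_subsingleton (maximalIdeal R) (n - i) M
      · exact subsingleton_H_of_lt_idealDepth (maximalIdeal R) M hIM n hM (n - i) (by omega)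
    apply subsingleton_of_dual_eq_zero f hf
    intro φ
    apply e.symm.injective
    exact hs.elim _ _
  · have := hasInjectiveDimensionLT_succ hn f hf eK
    exact HasInjectiveDimensionLT.subsingleton (ModuleCat.of R K) (n + 1) i (by omega) _

include hn f hf eK in
theorem subsingleton_ext_K_K (i : ℕ) (hi : 0 < i) :
    Subsingleton (Ext.{u} (ModuleCat.of R K) (ModuleCat.of R K) i) :=
  subsingleton_ext_of_depth hn f hf eK K (le_of_eq (depth_K hn f hf eK).symm) i hi

include hn f hf eK in
theorem isSMulRegular_K (a : R) (ha : a ∈ maximalIdeal R) (hreg : IsSMulRegular R a) :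
    IsSMulRegular K a := by
  have h1 : IsWeaklyRegular R [a] := (isWeaklyRegular_singleton_iff R a).mpr hreg
  have h2 := (isWeaklyRegular_iff hn f hf eK [a] (by simpa using ha)).mp h1
  exact (isWeaklyRegular_singleton_iff K a).mp h2

include hn f hf eK in
/-- every endomorphism of `K/aK` lifts to `K` -/
theorem lift_end (a : R) (ha : a ∈ maximalIdeal R) (hreg : IsSMulRegular R a)
    (ψ : (K ⧸ (a • (⊤ : Submodule R K))) →ₗ[R] (K ⧸ (a • (⊤ : Submodule R K)))) :
    ∃ g : K →ₗ[R] K, ∀ x : K, ψ (Submodule.Quotient.mk x) = Submodule.Quotient.mk (g x) := by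
  have hK := isSMulRegular_K hn f hf eK a ha hreg
  have hex : Function.Exact (LinearMap.lsmul R K a) (a • (⊤ : Submodule R K)).mkQ := by
    intro y
    rw [Submodule.mkQ_apply, Submodule.Quotient.mk_eq_zero, Submodule.mem_smul_pointwise_iff_exists]
    constructor
    · rintro ⟨z, -, rfl⟩
      exact ⟨z, rfl⟩
    · rintro ⟨z, rfl⟩
      exact ⟨z, Submodule.mem_top, rfl⟩
  have hS := shortExact_of_linearMaps (LinearMap.lsmul R K a) (a • (⊤ : Submodule R K)).mkQ
    hK (Submodule.mkQ_surjective _) hex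
  have hsub := subsingleton_ext_K_K hn f hf eK 1 one_pos
  obtain ⟨x₂, hx₂⟩ := Ext.covariant_sequence_exact₃ (ModuleCat.of R K) hS
    (Ext.mk₀ (ModuleCat.ofHom (ψ ∘ₗ (a • (⊤ : Submodule R K)).mkQ))) (zero_add 1)
    (hsub.elim _ _)
  obtain ⟨g, rfl⟩ := (Ext.mk₀_bijective _ _).2 x₂
  rw [Ext.mk₀_comp_mk₀] at hx₂
  have h3 := (Ext.mk₀_bijective _ _).1 hx₂
  refine ⟨g.hom, fun x => ?_⟩
  have h4 := congrArg (fun φ => φ.hom x) h3
  exact h4.symm

omit [LocCoh.IsCohenMacaulayLocalRing R] [Module.Finite R K] in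
theorem range_le_iff_exists_smul {a : R} (hK : IsSMulRegular K a) (g : K →ₗ[R] K) :
    (∀ x : K, g x ∈ a • (⊤ : Submodule R K)) ↔ ∃ g' : K →ₗ[R] K, g = a • g' := by
  constructor
  · intro h
    let μ : K →ₗ[R] K := LinearMap.lsmul R K a
    have hμ : Function.Injective μ := hK
    have hr : ∀ x, g x ∈ LinearMap.range μ := by
      intro x
      obtain ⟨z, -, hz⟩ := (Submodule.mem_smul_pointwise_iff_exists _ _ _).mp (h x)
      exact ⟨z, hz⟩
    refine ⟨(LinearEquiv.ofInjective μ hμ).symm.toLinearMap ∘ₗ g.codRestrict _ hr, ?_⟩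
    apply LinearMap.ext
    intro x
    have h1 : μ ((LinearEquiv.ofInjective μ hμ).symm (g.codRestrict _ hr x)) = g x := by
      have := (LinearEquiv.ofInjective μ hμ).apply_symm_apply (g.codRestrict _ hr x)
      exact congrArg Subtype.val this
    exact h1.symm
  · rintro ⟨g', rfl⟩ x
    exact Submodule.smul_mem_pointwise_smul _ a ⊤ Submodule.mem_top

end Groth.Agent.Lib.Helper16.Canon
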