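import Groth.Agent.Lib.Helper16.ExtRepresent
import Groth.Agent.Lib.Helper16.ReesExt
import Groth.Agent.Lib.Helper16.ExtVanish
import Groth.Agent.Lib.Helper16.DepthExt
import Groth.Agent.Lib.Helper16.FiniteLengthLC
import Groth.Agent.Lib.Helper11.GorDim
import Groth.Agent.Lib.Helper25.MatlisDual
import Groth.Agent.S15426

/-!
# Top local cohomology of a Gorenstein local ring is the injective hull of the residue field
(helper16)

* `Hyp n G` : `Ext^i(k, G) = 0` for `i < n` and `i = n + 1` (over a Noetherian local ring).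
* `length_ext_eq_mul` : under `Hyp n G`, `length Ext^n(F, G) = length F * length Ext^n(k, G)` for `F`
  of finite length.
* `exists_hull` : for a Gorenstein local ring of dimension `n`, `H^n_m(R)` is an injective hull of
  `k`.
-/

set_option autoImplicit false
universe u
open CategoryTheory Abelian IsLocalRing

namespace Groth.Agent.Lib.Helper16.GorTop

open Groth.Agent.Lib.Helper16.LC Groth.Agent.Lib.Helper16.ExtRep Groth.Agent.Lib.Helper16.Depth

section general

variable {R : Type u} [CommRing R] [IsLocalRing R]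

/-- `Ext^i(k, G) = 0` for `i < n` and for `i = n + 1`. -/
structure Hyp (n : ℕ) (G : ModuleCat.{u} R) : Prop where
  low : ∀ i < n, Subsingleton (Ext.{u} (ModuleCat.of R (ResidueField R)) G i)
  high : Subsingleton (Ext.{u} (ModuleCat.of R (ResidueField R)) G (n + 1))

variable {n : ℕ} {G : ModuleCat.{u} R}

omit [IsLocalRing R] in
/-- the short exact sequence `0 → N → M → M/N → 0` in `ModuleCat` -/
theorem shortExact_sub {M : Type u} [AddCommGroup M] [Module R M] (N : Submodule R M) :
    (ShortComplex.mk (ModuleCat.ofHom N.subtype) (ModuleCat.ofHom N.mkQ) (by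
      ext x
      exact (Submodule.Quotient.mk_eq_zero N).2 x.2)).ShortExact :=
  shortExact_of_linearMaps N.subtype N.mkQ N.subtype_injective N.mkQ_surjective
    (LinearMap.exact_subtype_mkQ N)

theorem ext_vanish_of_isFiniteLength (i : ℕ)
    (h : Subsingleton (Ext.{u} (ModuleCat.of R (ResidueField R)) G i))
    {M : Type u} [AddCommGroup M] [Module R M] (hM : IsFiniteLength R M) :
    Subsingleton (Ext.{u} (ModuleCat.of R M) G i) := by
  induction hM with
  | of_subsingleton =>
    exact subsingleton_ext_of_isZero_left (ModuleCat.isZero_of_subsingleton _) G i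
  | @of_simple_quotient M _ _ N _ hN ih =>
    obtain ⟨e⟩ := Helper25.nonempty_equiv_residueField_of_isSimpleModule (R := R) (M ⧸ N)
    have h3 : Subsingleton (Ext.{u} (ModuleCat.of R (M ⧸ N)) G i) :=
      subsingleton_ext_of_iso_left e.toModuleIso G i h
    exact ext'_X₂ (shortExact_sub N) G i ih h3

/-- `Ext^n(-, G)` is exact on modules of finite length: additivity of lengths. -/
theorem length_ext_eq_add (h : Hyp n G) {M : Type u} [AddCommGroup M] [Module R M]
    (hM : IsFiniteLength R M) (N : Submodule R M) :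
    Module.length R (Ext.{u} (ModuleCat.of R M) G n) =
      Module.length R (Ext.{u} (ModuleCat.of R (M ⧸ N)) G n) +
        Module.length R (Ext.{u} (ModuleCat.of R N) G n) := by
  have hS := shortExact_sub N
  have hN : IsFiniteLength R N := hM.of_injective N.subtype_injective
  have hQ : IsFiniteLength R (M ⧸ N) := hM.of_surjective N.mkQ_surjective
  refine Module.length_eq_add_of_exact
    (Ext.precompOfLinear (Ext.mk₀ (ModuleCat.ofHom N.mkQ)) R G (zero_add n))
    (Ext.precompOfLinear (Ext.mk₀ (ModuleCat.ofHom N.subtype)) R G (zero_add n)) ?_ ?_ ?_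
  · rw [injective_iff_map_eq_zero]
    intro e he
    change (Ext.mk₀ (ModuleCat.ofHom N.mkQ)).comp e (zero_add n) = 0 at he
    rcases n with _ | n
    · have : Epi (ModuleCat.ofHom N.mkQ) := hS.epi_g
      exact Ext.precomp_mk₀_injective_of_epi G (ModuleCat.ofHom N.mkQ) (by simpa using he)
    · obtain ⟨x₁, hx₁⟩ := Ext.contravariant_sequence_exact₃ hS G e he (add_comm 1 n)
      have := ext_vanish_of_isFiniteLength n (h.low n (Nat.lt_succ_self n)) hN
      rw [← hx₁, Subsingleton.elim x₁ 0, Ext.comp_zero]
  · intro x₁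
    have := ext_vanish_of_isFiniteLength (n + 1) h.high hQ
    obtain ⟨x₂, hx₂⟩ := Ext.contravariant_sequence_exact₁ hS G x₁ (add_comm 1 n)
      (Subsingleton.elim _ _)
    exact ⟨x₂, hx₂⟩
  · intro y
    constructor
    · intro hy
      obtain ⟨x₃, hx₃⟩ := Ext.contravariant_sequence_exact₂ hS G y hy
      exact ⟨x₃, hx₃⟩
    · rintro ⟨x₃, rfl⟩
      change (Ext.mk₀ (ModuleCat.ofHom N.subtype)).comp
        ((Ext.mk₀ (ModuleCat.ofHom N.mkQ)).comp x₃ (zero_add n)) (zero_add n) = 0
      rw [Ext.mk₀_comp_mk₀_assoc]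
      have : ModuleCat.ofHom N.subtype ≫ ModuleCat.ofHom N.mkQ = 0 :=
        (ShortComplex.mk (ModuleCat.ofHom N.subtype) (ModuleCat.ofHom N.mkQ) (by
          ext x
          exact (Submodule.Quotient.mk_eq_zero N).2 x.2)).zero
      rw [this, Ext.mk₀_zero, Ext.zero_comp]

/-- linear equivalence of `Ext` induced by an isomorphism in the first variable -/
noncomputable def extCongrLeft {X Y : ModuleCat.{u} R} (e : X ≅ Y) (G : ModuleCat.{u} R) (n : ℕ) :
    Ext.{u} Y G n ≃ₗ[R] Ext.{u} X G n :=
  LinearEquiv.ofLinearMap (Ext.precompOfLinear (Ext.mk₀ e.hom) R G (zero_add n))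
    (Ext.precompOfLinear (Ext.mk₀ e.inv) R G (zero_add n))
    (by
      apply LinearMap.ext
      intro x
      change (Ext.mk₀ e.hom).comp ((Ext.mk₀ e.inv).comp x (zero_add n)) (zero_add n) = x
      rw [Ext.mk₀_comp_mk₀_assoc, Iso.hom_inv_id, Ext.mk₀_id_comp])
    (by
      apply LinearMap.ext
      intro x
      change (Ext.mk₀ e.inv).comp ((Ext.mk₀ e.hom).comp x (zero_add n)) (zero_add n) = x
      rw [Ext.mk₀_comp_mk₀_assoc, Iso.inv_hom_id, Ext.mk₀_id_comp])

/-- multiplicativity of lengths -/
theorem length_ext_eq_mul (h : Hyp n G) {M : Type u} [AddCommGroup M] [Module R M]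
    (hM : IsFiniteLength R M) :
    Module.length R (Ext.{u} (ModuleCat.of R M) G n) =
      Module.length R M * Module.length R (Ext.{u} (ModuleCat.of R (ResidueField R)) G n) := by
  induction hM with
  | @of_subsingleton M _ _ _ =>
    have := subsingleton_ext_of_isZero_left
      (ModuleCat.isZero_of_subsingleton (ModuleCat.of R M)) G n
    rw [Module.length_eq_zero_iff.2 this, Module.length_eq_zero_iff.2 inferInstance, zero_mul]
  | @of_simple_quotient M _ _ N _ hN ih =>
    obtain ⟨e⟩ := Helper25.nonempty_equiv_residueField_of_isSimpleModule (R := R) (M ⧸ N)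
    have hM : IsFiniteLength R M := IsFiniteLength.of_simple_quotient hN
    rw [length_ext_eq_add h hM N, ih, (extCongrLeft e.toModuleIso G n).symm.length_eq,
      Module.length_eq_add_of_exact N.subtype N.mkQ
      N.subtype_injective N.mkQ_surjective (LinearMap.exact_subtype_mkQ N),
      Module.length_eq_one R (M ⧸ N), add_mul, one_mul, add_comm]

end general

section regseq

open RingTheory.Sequence

variable {R : Type u} [CommRing R] [IsLocalRing R] [IsNoetherianRing R]

/-- the quotient of a Noetherian local ring of dimension `n` by a regular sequence of length `n`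
has finite length -/
theorem isFiniteLength_quot_regular (rs : List R) (hreg : IsWeaklyRegular R rs)
    (hmem : ∀ r ∈ rs, r ∈ maximalIdeal R) (n : ℕ) (hlen : rs.length = n)
    (hn : ringKrullDim R = n) :
    IsFiniteLength R (R ⧸ Ideal.ofList rs) := by
  have hle : Ideal.ofList rs ≤ maximalIdeal R := Ideal.span_le.2 (fun r hr => hmem r hr)
  have reg : IsRegular R rs := by
    refine ⟨hreg, ?_⟩
    intro h
    have h2 : (Ideal.ofList rs • (⊤ : Submodule R R)) ≤ maximalIdeal R := by
      rw [smul_eq_mul, Ideal.mul_top]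
      exact hle
    rw [← h] at h2
    exact (IsLocalRing.maximalIdeal.isMaximal R).ne_top (top_le_iff.1 h2)
  have hdim := ringKrullDim_add_length_eq_ringKrullDim_of_isRegular rs reg
  rw [hlen, hn] at hdim
  have h0 : ringKrullDim (R ⧸ Ideal.ofList rs) ≤ 0 := by
    have h1 : ringKrullDim (R ⧸ Ideal.ofList rs) + (n : WithBot ℕ∞) ≤ 0 + (n : WithBot ℕ∞) := by
      rw [hdim, zero_add]
    refine (WithBot.add_le_add_iff_right' ?_ ?_).1 h1
    · exact WithBot.coe_ne_bot
    · intro h
      have h3 : ((n : ℕ∞) : WithBot ℕ∞) = ((⊤ : ℕ∞) : WithBot ℕ∞) := h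
      exact ENat.natCast_ne_top n (WithBot.coe_injective h3)
  have hK : Ring.KrullDimLE 0 (R ⧸ Ideal.ofList rs) := Ring.krullDimLE_iff.2 (by simpa using h0)
  have hart : IsArtinianRing (R ⧸ Ideal.ofList rs) := isArtinianRing_iff_krullDimLE_zero.2 hK
  rw [isFiniteLength_iff_isNoetherian_isArtinian]
  refine ⟨inferInstance, ?_⟩
  let e : (R ⧸ Ideal.ofList rs) →ₛₗ[Ideal.Quotient.mk (Ideal.ofList rs)]
      (R ⧸ Ideal.ofList rs) := ⟨.id _, fun _ _ => rfl⟩
  exact (e.isArtinian_iff_of_bijective Function.bijective_id).2 hart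

end regseq

section gorenstein

open RingTheory.Sequence

variable {R : Type u} [CommRing R] [LocCoh.IsGorensteinLocalRing R] {n : ℕ}

theorem depth_eq (hn : ringKrullDim R = n) : LocCoh.depth R R = n := by
  have hCM := Helper11.GorCM.isCohenMacaulayLocalRing_of_gorenstein R
  have h := hCM.supportDim_eq_depth
  rw [Module.supportDim_self_eq_ringKrullDim, hn] at h
  exact_mod_cast h.symm

theorem hyp (hn : ringKrullDim R = n) : Hyp n (ModuleCat.of R R) := by
  have hd := depth_eq hn
  refine ⟨fun i hi => ?_, ?_⟩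
  · have hlt : (i : ℕ∞) < LocCoh.idealDepth (maximalIdeal R) R := by
      change (i : ℕ∞) < LocCoh.depth R R
      rw [hd]
      exact_mod_cast hi
    exact subsingleton_ext_of_lt_idealDepth (maximalIdeal R) R i hlt
  · have := Helper11.GorCM.hasInjectiveDimensionLT_of_depth n R hd
    exact HasInjectiveDimensionLT.subsingleton _ (n + 1) (n + 1) le_rfl _

/-- `Ext^n(k, R)` has length one for a Gorenstein local ring of dimension `n`. -/
theorem length_ext_residueField (hn : ringKrullDim R = n) :
    Module.length R (Ext.{u} (ModuleCat.of R (ResidueField R)) (ModuleCat.of R R) n) = 1 := by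
  have hd := depth_eq hn
  have hle : (n : ℕ∞) ≤ LocCoh.idealDepth (maximalIdeal R) R := by
    change (n : ℕ∞) ≤ LocCoh.depth R R
    rw [hd]
  rcases (le_idealDepth_iff (maximalIdeal R) R n).1 hle with htop | ⟨rs, hlen, hreg, hmem⟩
  · exfalso
    rw [smul_eq_mul, Ideal.mul_top] at htop
    exact (IsLocalRing.maximalIdeal.isMaximal R).ne_top htop
  · have hfl := isFiniteLength_quot_regular rs hreg hmem n hlen hn
    have hle' : Ideal.ofList rs ≤ maximalIdeal R := Ideal.span_le.2 (fun r hr => hmem r hr)
    have hN : ∀ r ∈ rs, ∀ y : R ⧸ Ideal.ofList rs, r • y = 0 := by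
      intro r hr y
      obtain ⟨a, rfl⟩ := Ideal.Quotient.mk_surjective y
      change Ideal.Quotient.mk _ (r * a) = 0
      rw [Ideal.Quotient.eq_zero_iff_mem]
      exact Ideal.mul_mem_right _ _ (Ideal.subset_span hr)
    obtain ⟨_, ⟨e⟩⟩ := Rees.rees (R ⧸ Ideal.ofList rs) rs hN R hreg
    rw [hlen] at e
    have hI : (Ideal.ofList rs • ⊤ : Submodule R R) = Ideal.ofList rs := by
      rw [smul_eq_mul, Ideal.mul_top]
    have e2 := Helper25.homQuotEquivTorsion (Ideal.ofList rs)
      (R ⧸ (Ideal.ofList rs • ⊤ : Submodule R R))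
    have htop : LocCoh.torsionBy (Ideal.ofList rs) (R ⧸ (Ideal.ofList rs • ⊤ : Submodule R R))
        = ⊤ := by
      rw [eq_top_iff]
      intro y _
      rw [Submodule.mem_torsionBySet_iff]
      rintro ⟨a, ha⟩
      obtain ⟨b, rfl⟩ := Submodule.Quotient.mk_surjective _ y
      change Submodule.Quotient.mk (a • b) = 0
      rw [Submodule.Quotient.mk_eq_zero, hI]
      exact Ideal.mul_mem_right _ _ ha
    have e3 := LinearEquiv.ofTop _ htop
    have e4 := Submodule.quotEquivOfEq _ _ hI
    have hlenEq : Module.length R (Ext.{u} (ModuleCat.of R (R ⧸ Ideal.ofList rs))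
        (ModuleCat.of R R) n) = Module.length R (R ⧸ Ideal.ofList rs) :=
      (((e.trans e2).trans e3).trans e4).length_eq
    have hmul := length_ext_eq_mul (hyp hn) hfl
    rw [hlenEq] at hmul
    have hnt : Nontrivial (R ⧸ Ideal.ofList rs) :=
      Ideal.Quotient.nontrivial_iff.2 (fun h => (IsLocalRing.maximalIdeal.isMaximal R).ne_top
        (top_le_iff.1 (h ▸ hle')))
    have hpos : 0 < Module.length R (R ⧸ Ideal.ofList rs) := Module.length_pos
    have hfin : Module.length R (R ⧸ Ideal.ofList rs) ≠ ⊤ := Module.length_ne_top_iff.2 hfl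
    generalize Module.length R (R ⧸ Ideal.ofList rs) = a at hmul hpos hfin
    generalize Module.length R (Ext.{u} (ModuleCat.of R (ResidueField R)) (ModuleCat.of R R) n)
      = s at hmul ⊢
    lift a to ℕ using hfin
    cases s with
    | top =>
      exfalso
      rw [ENat.mul_top (by exact_mod_cast hpos.ne')] at hmul
      exact ENat.natCast_ne_top a hmul
    | coe s =>
      have h1 : a = a * s := by exact_mod_cast hmul
      have ha : 0 < a := by exact_mod_cast hpos
      have : s = 1 := by
        have h2 : a * 1 = a * s := by rw [mul_one]; exact h1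
        exact (Nat.eq_of_mul_eq_mul_left ha h2).symm
      rw [this]
      rfl

/-- `Ext^i(M, R) = 0` for `i ≠ n` and `length Ext^n(M, R) = length M` for `M` of finite length over a
Gorenstein local ring of dimension `n`. -/
theorem ext_finiteLength (hn : ringKrullDim R = n) {M : Type u} [AddCommGroup M] [Module R M]
    (hM : IsFiniteLength R M) :
    (∀ i : ℕ, i ≠ n → Subsingleton (Ext.{u} (ModuleCat.of R M) (ModuleCat.of R R) i)) ∧
      Module.length R (Ext.{u} (ModuleCat.of R M) (ModuleCat.of R R) n) = Module.length R M := by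
  have hH := hyp hn
  refine ⟨fun i hi => ?_, ?_⟩
  · rcases Nat.lt_or_gt_of_ne hi with hlt | hgt
    · exact ext_vanish_of_isFiniteLength i (hH.low i hlt) hM
    · have := Helper11.GorCM.hasInjectiveDimensionLT_of_depth n R (depth_eq hn)
      exact HasInjectiveDimensionLT.subsingleton _ (n + 1) i hgt _
  · rw [length_ext_eq_mul hH hM, length_ext_residueField hn, mul_one]

/-- **`H^n_m(R)` is an injective hull of `k`** for a Gorenstein local ring of dimension `n`. -/
theorem exists_hull (hn : ringKrullDim R = n) :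
    ∃ g : ResidueField R →ₗ[R] LocCoh.H (maximalIdeal R) n R, InjHull.IsInjectiveHull g := by
  have hH := hyp hn
  have hV : ExtRep.Vanish (maximalIdeal R) n (ModuleCat.of R R) := by
    intro F' _ k hk i hi
    have hfl : IsFiniteLength R F' := FL.isFiniteLength_of_finite_of_pow_smul F' k hk
    exact ext_vanish_of_isFiniteLength i (hH.low i (by omega)) hfl
  have h1 := length_ext_residueField hn
  have hsimple : IsSimpleModule R
      (Ext.{u} (ModuleCat.of R (ResidueField R)) (ModuleCat.of R R) n) :=
    Module.length_eq_one_iff.1 h1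
  obtain ⟨e1⟩ := Helper25.nonempty_equiv_residueField_of_isSimpleModule (R := R)
    (Ext.{u} (ModuleCat.of R (ResidueField R)) (ModuleCat.of R R) n)
  have hk1 : KilledBy (maximalIdeal R) 1 (ModuleCat.of R (ResidueField R)) := by
    intro a ha x
    rw [pow_one] at ha
    exact Helper25.smul_residueField_eq_zero ha x
  refine Helper25.exists_hull_of_lengths (Groth.Agent.S15426.result R (maximalIdeal R) n R) ?_
    (fun t => maximalIdeal R ^ t) (fun t => ⟨t, le_rfl⟩) (fun N => ⟨N, le_rfl⟩) ?_
  · exact ⟨(LinearEquiv.ofBijective (Φ n (ModuleCat.of R R) hk1) (Φ_bijective hV hk1)).symm.trans e1⟩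
  · intro t
    have hfl := Helper25.isFiniteLength_quotient_pow (R := R) t
    have := length_ext_eq_mul hH hfl
    rw [h1, mul_one] at this
    rw [← this]
    exact (LinearEquiv.ofBijective (Φ n (ModuleCat.of R R) (hkQ t))
      (Φ_bijective hV (hkQ t))).length_eq

end gorenstein

end Groth.Agent.Lib.Helper16.GorTop
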