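import Groth.Agent.Lib.Helper16.ExtCovRegular
import Groth.Agent.Lib.Helper16.CanonicalEnd
import Groth.Agent.Lib.Helper16.GorensteinTopLC
import Groth.Agent.Lib.Helper18.CM9
import Groth.Agent.Lib.Helper11.GorCM2

/-!
# Linkage: colon formulas over a Gorenstein local ring (helper16)

* `colon_formulas` : if `Ext^i(A/I, A) = 0` for `i > 0` and `xs` is weakly regular on `A` then
  `(0 : I) + (xs) = ((xs) : I)` and `(0 : I) ∩ (xs) = (xs) (0 : I)`.
* `subsingleton_ext_quotient_self` : the Ext-vanishing when `A` is Gorenstein local and `A/I` is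
  Cohen–Macaulay of the same dimension.
-/

set_option autoImplicit false
universe u
open CategoryTheory Abelian IsLocalRing RingTheory.Sequence

namespace Groth.Agent.Lib.Helper16.Linkage

section general

variable {A : Type u} [CommRing A] (I : Ideal A) (xs : List A)

/-- The colon formulas of linkage: if `Ext^i(A/I, A) = 0` for `i > 0` and `xs` is a weakly regular
sequence of `A`, then `(0 : I) + (xs) = ((xs) : I)` and `(0 : I) ∩ (xs) = (xs) (0 : I)`. -/
theorem colon_formulas (hreg : IsWeaklyRegular A xs)
    (hext : ∀ i, 0 < i → Subsingleton (Ext.{u} (ModuleCat.of A (A ⧸ I)) (ModuleCat.of A A) i)) :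
    Submodule.annihilator I ⊔ Ideal.ofList xs = Submodule.colon (Ideal.ofList xs) (I : Set A) ∧
      Submodule.annihilator I ⊓ Ideal.ofList xs = Ideal.ofList xs * Submodule.annihilator I := by
  have htop : Ideal.ofList xs • (⊤ : Submodule A A) = Ideal.ofList xs := by
    rw [smul_eq_mul, Ideal.mul_top]
  obtain ⟨h1, h2⟩ := ExtCov.claim (A ⧸ I) xs A hreg hext
  obtain ⟨-, hlift⟩ := h1 (A ⧸ Ideal.ofList xs) (Submodule.mkQ (Ideal.ofList xs))
    (Submodule.mkQ_surjective _) (by rw [Submodule.ker_mkQ, htop])
  have hJ : ∀ φ : (A ⧸ I) →ₗ[A] A, φ 1 ∈ Submodule.annihilator I := by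
    intro φ
    rw [Submodule.mem_annihilator]
    intro s hs
    have : (s : A) • (1 : A ⧸ I) = 0 := by
      rw [Algebra.smul_def, mul_one]
      exact Ideal.Quotient.eq_zero_iff_mem.mpr hs
    rw [smul_eq_mul, mul_comm, ← smul_eq_mul, ← map_smul, this, map_zero]
  constructor
  · apply le_antisymm
    · rw [sup_le_iff]
      constructor
      · intro a ha
        rw [Submodule.mem_colon]
        intro s hs
        rw [Submodule.mem_annihilator] at ha
        have := ha s hs
        rw [smul_eq_mul] at this ⊢
        rw [this]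
        exact Submodule.zero_mem _
      · intro a ha
        rw [Submodule.mem_colon]
        intro s _
        exact Ideal.mul_mem_right _ _ ha
    · intro a ha
      rw [Submodule.mem_colon] at ha
      let ψ : (A ⧸ I) →ₗ[A] (A ⧸ Ideal.ofList xs) :=
        Submodule.liftQ I ((Submodule.mkQ (Ideal.ofList xs)) ∘ₗ LinearMap.lsmul A A a) (by
          intro s hs
          rw [LinearMap.mem_ker, LinearMap.comp_apply, Submodule.mkQ_apply,
            Submodule.Quotient.mk_eq_zero]
          exact ha s hs)
      obtain ⟨g, hg⟩ := hlift ψ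
      have hb : g 1 ∈ Submodule.annihilator I := hJ g
      have hab : a - g 1 ∈ Ideal.ofList xs := by
        have h3 := LinearMap.congr_fun hg 1
        have h4 : ψ 1 = Submodule.Quotient.mk a := by
          show ψ (Submodule.Quotient.mk 1) = _
          rw [Submodule.liftQ_apply, LinearMap.comp_apply, Submodule.mkQ_apply]
          congr 1
          show a • (1 : A) = a
          rw [smul_eq_mul, mul_one]
        rw [h4, LinearMap.comp_apply, Submodule.mkQ_apply] at h3
        have h5 := (Submodule.Quotient.eq _).mp h3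
        have : a - g 1 = -(g 1 - a) := by ring
        rw [this]
        exact Submodule.neg_mem _ h5
      have : a = g 1 + (a - g 1) := by ring
      rw [this]
      exact Submodule.add_mem _ (Submodule.mem_sup_left hb) (Submodule.mem_sup_right hab)
  · apply le_antisymm
    · rintro b ⟨hbJ, hbx⟩
      have hbJ' := hbJ
      rw [SetLike.mem_coe, Submodule.mem_annihilator] at hbJ'
      let g : (A ⧸ I) →ₗ[A] A :=
        Submodule.liftQ I (LinearMap.toSpanSingleton A A b) (by
          intro s hs
          rw [LinearMap.mem_ker, LinearMap.toSpanSingleton_apply, smul_eq_mul, mul_comm,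
            ← smul_eq_mul]
          rw [smul_eq_mul]
          exact hbJ' s hs)
      have hgx : ∀ x, g x ∈ Ideal.ofList xs • (⊤ : Submodule A A) := by
        intro x
        rw [htop]
        obtain ⟨y, rfl⟩ := Submodule.mkQ_surjective I x
        show g (Submodule.Quotient.mk y) ∈ _
        rw [Submodule.liftQ_apply, LinearMap.toSpanSingleton_apply, smul_eq_mul]
        exact Ideal.mul_mem_left _ _ hbx
      have hg := h2 g hgx
      let ev : ((A ⧸ I) →ₗ[A] A) →ₗ[A] A := LinearMap.applyₗ (1 : A ⧸ I)
      have hev : (Ideal.ofList xs • (⊤ : Submodule A ((A ⧸ I) →ₗ[A] A))).map ev ≤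
          Ideal.ofList xs * Submodule.annihilator I := by
        rw [Submodule.map_smul'', ← smul_eq_mul]
        refine Submodule.smul_mono le_rfl ?_
        rintro _ ⟨φ, -, rfl⟩
        exact hJ φ
      have h3 : ev g ∈ Ideal.ofList xs * Submodule.annihilator I :=
        hev (Submodule.mem_map_of_mem hg)
      have h4 : ev g = b := by
        show g (Submodule.Quotient.mk 1) = b
        rw [Submodule.liftQ_apply, LinearMap.toSpanSingleton_apply, one_smul]
      rwa [h4] at h3
    · refine le_inf ?_ ?_
      · exact Ideal.mul_le_right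
      · exact Ideal.mul_le_left

end general

section gorenstein

variable {A : Type u} [CommRing A] [LocCoh.IsGorensteinLocalRing A]

/-- over a Gorenstein local ring `A`, `Ext^i(A/I, A) = 0` for `i > 0` when `A/I` is
Cohen–Macaulay of the same dimension as `A` -/
theorem subsingleton_ext_quotient_self (I : Ideal A)
    (hI : ringKrullDim (A ⧸ I) = ringKrullDim A) [LocCoh.IsCohenMacaulayLocalRing (A ⧸ I)]
    (i : ℕ) (hi : 0 < i) :
    Subsingleton (Ext.{u} (ModuleCat.of A (A ⧸ I)) (ModuleCat.of A A) i) := by
  obtain ⟨d, hn⟩ : ∃ d : ℕ, ringKrullDim A = d := by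
    have h1 : ringKrullDim A < ⊤ := ringKrullDim_lt_top
    have h2 : ringKrullDim A ≠ ⊥ := ringKrullDim_ne_bot
    induction hr : ringKrullDim A with
    | bot => exact absurd hr h2
    | coe a =>
      induction a with
      | top => rw [hr] at h1; exact absurd h1 (lt_irrefl _)
      | coe n => exact ⟨n, rfl⟩
  have hCM : LocCoh.IsCohenMacaulayLocalRing A :=
    Helper11.GorCM.isCohenMacaulayLocalRing_of_gorenstein A
  obtain ⟨g, hg⟩ := GorTop.exists_hull hn
  let eK : (A →ₗ[A] LocCoh.H (maximalIdeal A) d A) ≃ₗ[A] LocCoh.H (maximalIdeal A) d A :=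
    LinearMap.ringLmapEquivSelf A A _
  have hloc : IsLocalHom (algebraMap A (A ⧸ I)) :=
    IsLocalHom.of_surjective _ Ideal.Quotient.mk_surjective
  have hdep : LocCoh.depth A (A ⧸ I) = d := by
    rw [Helper18.CM.depth_eq_of_finite (A := A) (B := A ⧸ I) (A ⧸ I)]
    have h1 := LocCoh.IsCohenMacaulayLocalRing.supportDim_eq_depth (R := A ⧸ I)
    rw [Module.supportDim_self_eq_ringKrullDim, hI, hn] at h1
    have h2 : ((d : ℕ∞) : WithBot ℕ∞) = ((LocCoh.depth (A ⧸ I) (A ⧸ I) : ℕ∞) : WithBot ℕ∞) := by
      rw [← h1]; rfl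
    exact (WithBot.coe_injective h2).symm
  exact Canon.subsingleton_ext_of_depth hn g hg eK (A ⧸ I) (le_of_eq hdep.symm) i hi

end gorenstein

end Groth.Agent.Lib.Helper16.Linkage
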