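import Groth.Agent.Lib.Helper16.LocCohFlatGamma

set_option autoImplicit false
universe u
open CategoryTheory Opposite Limits TensorProduct

namespace Groth.Agent.Lib.Helper16.DTL

open Groth.Agent.Lib.Helper16.LC Groth.Agent.Lib.Helper16.Depth

section generic

theorem exists_equiv_of_range_eq {A : Type*} [CommRing A] {X Y N : Type*} [AddCommGroup X]
    [Module A X] [AddCommGroup Y] [Module A Y] [AddCommGroup N] [Module A N]
    (f : X →ₗ[A] N) (g : Y →ₗ[A] N) (hf : Function.Injective f) (hg : Function.Injective g)
    (h : LinearMap.range f = LinearMap.range g) :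
    ∃ e : X ≃ₗ[A] Y, ∀ x, g (e x) = f x := by
  let e : X ≃ₗ[A] Y := (LinearEquiv.ofInjective f hf).trans
    ((LinearEquiv.ofEq _ _ h).trans (LinearEquiv.ofInjective g hg).symm)
  refine ⟨e, fun x => ?_⟩
  have h1 : (LinearEquiv.ofInjective g hg) (e x) =
      (LinearEquiv.ofEq _ _ h) (LinearEquiv.ofInjective f hf x) := by
    simp [e]
  have h2 := congrArg Subtype.val h1
  exact h2

variable {R R' : Type u} [CommRing R] [CommRing R'] [Algebra R R']

/-- base change of a cokernel presentation. -/
theorem nonempty_equiv_of_coker {A B H A' B' H' : Type u} [AddCommGroup A] [Module R A]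
    [AddCommGroup B] [Module R B] [AddCommGroup H] [Module R H] [AddCommGroup A'] [Module R' A']
    [AddCommGroup B'] [Module R' B'] [AddCommGroup H'] [Module R' H']
    (u : A →ₗ[R] B) (d : B →ₗ[R] H) (hex : Function.Exact u d) (hd : Function.Surjective d)
    (u' : A' →ₗ[R'] B') (d' : B' →ₗ[R'] H') (hex' : Function.Exact u' d')
    (hd' : Function.Surjective d')
    (a : R' ⊗[R] A ≃ₗ[R'] A') (b : R' ⊗[R] B ≃ₗ[R'] B')
    (hab : ∀ z, b (u.baseChange R' z) = u' (a z)) :
    Nonempty (R' ⊗[R] H ≃ₗ[R'] H') := by
  have hex2 : Function.Exact (u.baseChange R') (d.baseChange R') := by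
    rw [LinearMap.baseChange_eq_ltensor, LinearMap.baseChange_eq_ltensor]
    exact lTensor_exact R' hex hd
  have hd2 : Function.Surjective (d.baseChange R') := by
    rw [LinearMap.baseChange_eq_ltensor]
    exact LinearMap.lTensor_surjective R' hd
  have hmap : (LinearMap.range (u.baseChange R')).map (b : R' ⊗[R] B →ₗ[R'] B') =
      LinearMap.range u' := by
    ext y
    constructor
    · rintro ⟨_, ⟨z, rfl⟩, rfl⟩
      exact ⟨a z, (hab z).symm⟩
    · rintro ⟨z, rfl⟩
      refine ⟨_, ⟨a.symm z, rfl⟩, ?_⟩
      change b (u.baseChange R' (a.symm z)) = _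
      rw [hab, LinearEquiv.apply_symm_apply]
  exact ⟨(hex2.linearEquivOfSurjective hd2).symm.trans
    ((Submodule.Quotient.equiv _ _ b hmap).trans (hex'.linearEquivOfSurjective hd'))⟩

end generic

section main

variable {R R' : Type u} [CommRing R] [CommRing R'] [Algebra R R'] [IsNoetherianRing R]
  [IsNoetherianRing R'] [Module.Flat R R']
variable (I : Ideal R)

omit [IsNoetherianRing R'] in
/-- degree zero: concrete isomorphism. -/
theorem exists_H0_baseChange_equiv (M : Type u) [AddCommGroup M] [Module R M] :
    ∃ e : R' ⊗[R] LocCoh.H I 0 M ≃ₗ[R']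
        LocCoh.H (I.map (algebraMap R R')) 0 (R' ⊗[R] M),
      ∀ z, H0toM (I.map (algebraMap R R')) (ModuleCat.of R' (R' ⊗[R] M)) (e z) =
        (H0toM I (ModuleCat.of R M)).baseChange R' z := by
  refine exists_equiv_of_range_eq _ _ ?_ (H0toM_injective _ _) ?_
  · rw [LinearMap.baseChange_eq_ltensor]
    exact Module.Flat.lTensor_preserves_injective_linearMap _ (H0toM_injective _ _)
  · have h1 : H0toM I (ModuleCat.of R M) =
        (DRing.torsionSub I M).subtype ∘ₗ (H0equiv I (ModuleCat.of R M)).toLinearMap := by
      apply LinearMap.ext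
      intro x
      rfl
    have h2 : LinearMap.range ((H0toM I (ModuleCat.of R M)).baseChange R') =
        LinearMap.range ((DRing.torsionSub I M).subtype.baseChange R') := by
      rw [h1, LinearMap.baseChange_comp, LinearMap.range_comp_of_range_eq_top]
      rw [LinearMap.range_eq_top]
      exact ((H0equiv I (ModuleCat.of R M)).baseChange R R' _ _).surjective
    rw [h2, range_baseChange_torsionSub]
    ext y
    constructor
    · intro hy
      exact ⟨(H0equiv _ (ModuleCat.of R' (R' ⊗[R] M))).symm ⟨y, hy⟩,
        congrArg Subtype.val ((H0equiv _ (ModuleCat.of R' (R' ⊗[R] M))).apply_symm_apply ⟨y, hy⟩)⟩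
    · rintro ⟨x, rfl⟩
      exact H0toM_mem _ _ x

/-- Flat base change for local cohomology. -/
theorem nonempty_H_baseChange_equiv (i : ℕ) : ∀ (M : Type u) [AddCommGroup M] [Module R M],
    Nonempty (R' ⊗[R] LocCoh.H I i M ≃ₗ[R']
      LocCoh.H (I.map (algebraMap R R')) i (R' ⊗[R] M)) := by
  induction i with
  | zero =>
    intro M _ _
    obtain ⟨e, -⟩ := exists_H0_baseChange_equiv (R' := R') I M
    exact ⟨e⟩
  | succ n ih =>
    intro M _ _
    obtain ⟨T, _, _, j, hj, hTinj⟩ := exists_injective_embedding (R := R) M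
    have hS := shortExact_of_linearMaps j (LinearMap.range j).mkQ hj
      (Submodule.mkQ_surjective _) (LinearMap.exact_map_mkQ_range j)
    have hj' : Function.Injective (j.baseChange R') := by
      rw [LinearMap.baseChange_eq_ltensor]
      exact Module.Flat.lTensor_preserves_injective_linearMap _ hj
    have hg' : Function.Surjective ((LinearMap.range j).mkQ.baseChange R') := by
      rw [LinearMap.baseChange_eq_ltensor]
      exact LinearMap.lTensor_surjective R' (Submodule.mkQ_surjective _)
    have hex' : Function.Exact (j.baseChange R') ((LinearMap.range j).mkQ.baseChange R') := by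
      rw [LinearMap.baseChange_eq_ltensor, LinearMap.baseChange_eq_ltensor]
      exact lTensor_exact R' (LinearMap.exact_map_mkQ_range j) (Submodule.mkQ_surjective _)
    have hS' := shortExact_of_linearMaps (j.baseChange R') ((LinearMap.range j).mkQ.baseChange R')
      hj' hg' hex'
    have hTobj : Injective (ModuleCat.of R T) := Module.injective_object_of_injective_module R T
    cases n with
    | zero =>
      have hT1 : Subsingleton ((localCohomology I (0 + 1)).obj (ModuleCat.of R T)) :=
        subsingleton_H_of_injective I (ModuleCat.of R T) 0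
      have hT1' : Subsingleton (LocCoh.H (I.map (algebraMap R R')) (0 + 1) (R' ⊗[R] T)) :=
        subsingleton_H_baseChange_of_flat_injective I T 0
      obtain ⟨a, ha⟩ := exists_H0_baseChange_equiv (R' := R') I T
      obtain ⟨b, hb⟩ := exists_H0_baseChange_equiv (R' := R') I (T ⧸ LinearMap.range j)
      let u : LocCoh.H I 0 T →ₗ[R] LocCoh.H I 0 (T ⧸ LinearMap.range j) :=
        Hmap I 0 (ModuleCat.ofHom (LinearMap.range j).mkQ)
      let d : LocCoh.H I 0 (T ⧸ LinearMap.range j) →ₗ[R] LocCoh.H I (0 + 1) M := δ I hS 0
      let u' : LocCoh.H (I.map (algebraMap R R')) 0 (R' ⊗[R] T) →ₗ[R']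
          LocCoh.H (I.map (algebraMap R R')) 0 (R' ⊗[R] (T ⧸ LinearMap.range j)) :=
        Hmap _ 0 (ModuleCat.ofHom ((LinearMap.range j).mkQ.baseChange R'))
      let d' : LocCoh.H (I.map (algebraMap R R')) 0 (R' ⊗[R] (T ⧸ LinearMap.range j)) →ₗ[R']
          LocCoh.H (I.map (algebraMap R R')) (0 + 1) (R' ⊗[R] M) := δ _ hS' 0
      have hex : Function.Exact u d := by
        intro z
        constructor
        · intro hz
          exact Hmap_exact₃ I hS 0 z hz
        · rintro ⟨y, rfl⟩
          exact δ_Hmap_g I hS 0 y
      have hd : Function.Surjective d := fun x => Hmap_exact₁ I hS 0 x (hT1.elim _ _)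
      have hex2 : Function.Exact u' d' := by
        intro z
        constructor
        · intro hz
          exact Hmap_exact₃ _ hS' 0 z hz
        · rintro ⟨y, rfl⟩
          exact δ_Hmap_g _ hS' 0 y
      have hd2 : Function.Surjective d' := fun x => Hmap_exact₁ _ hS' 0 x (hT1'.elim _ _)
      refine nonempty_equiv_of_coker u d hex hd u' d' hex2 hd2 a b (fun z => ?_)
      apply H0toM_injective (I.map (algebraMap R R'))
        (ModuleCat.of R' (R' ⊗[R] (T ⧸ LinearMap.range j)))
      have e1 : H0toM (I.map (algebraMap R R')) (ModuleCat.of R' (R' ⊗[R] (T ⧸ LinearMap.range j)))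
          (u' (a z)) = ((LinearMap.range j).mkQ.baseChange R')
            (H0toM (I.map (algebraMap R R')) (ModuleCat.of R' (R' ⊗[R] T)) (a z)) :=
        H0toM_naturality _ (ModuleCat.ofHom ((LinearMap.range j).mkQ.baseChange R')) (a z)
      have e2 : (H0toM I (ModuleCat.of R (T ⧸ LinearMap.range j))) ∘ₗ u =
          (LinearMap.range j).mkQ ∘ₗ (H0toM I (ModuleCat.of R T)) := by
        apply LinearMap.ext
        intro y
        exact H0toM_naturality I (ModuleCat.ofHom (LinearMap.range j).mkQ) y
      rw [e1, ha, hb, ← LinearMap.comp_apply, ← LinearMap.baseChange_comp, e2,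
        LinearMap.baseChange_comp, LinearMap.comp_apply]
    | succ m =>
      have b1 := δ_bijective_of_subsingleton I hS (m + 1)
        (subsingleton_H_of_injective I (ModuleCat.of R T) m)
        (subsingleton_H_of_injective I (ModuleCat.of R T) (m + 1))
      have b2 := δ_bijective_of_subsingleton (I.map (algebraMap R R')) hS' (m + 1)
        (subsingleton_H_baseChange_of_flat_injective I T m)
        (subsingleton_H_baseChange_of_flat_injective I T (m + 1))
      obtain ⟨e⟩ := ih (T ⧸ LinearMap.range j)
      exact ⟨((LinearEquiv.ofBijective _ b1).symm.baseChange R R' _ _).trans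
        (e.trans (LinearEquiv.ofBijective _ b2))⟩

end main

end Groth.Agent.Lib.Helper16.DTL
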