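import Groth.Agent.Lib.Helper16.LocCohNonvanishAux

set_option autoImplicit false
universe u
open CategoryTheory Opposite Limits Pointwise

namespace Groth.Agent.Lib.Helper16.LC

open Groth.Agent.Lib.Helper16.Depth IsLocalRing

section core

variable {R : Type u} [CommRing R] [IsNoetherianRing R] [IsLocalRing R]

/-- The induction hypothesis of the non-vanishing theorem. -/
def CoreHyp (R : Type u) [CommRing R] [IsNoetherianRing R] [IsLocalRing R] (n : ℕ) : Prop :=
  ∀ (q' : PrimeSpectrum R) (N : Type u) [AddCommGroup N] [Module R N] [Module.Finite R N],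
    Order.coheight q' = (n : ℕ∞) → Module.support R N = Set.Ici q' →
      Nontrivial (LocCoh.H (maximalIdeal R) n N)

/-- key step: if `z ∉ q` kills `H^n_m(M/xM)` then `x` lies in a non-maximal minimal prime of
`q + zR`. -/
theorem exists_minimalPrime_of_smul_eq_zero (n : ℕ) (hn : 1 ≤ n) (IH : CoreHyp R n)
    (q : PrimeSpectrum R) (hq : Order.coheight q = ((n + 1 : ℕ) : ℕ∞))
    (M : Type u) [AddCommGroup M] [Module R M] [Module.Finite R M]
    (hM : Module.support R M = Set.Ici q) (x : R) (hx : x ∈ maximalIdeal R)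
    (hxq : x ∉ q.asIdeal) (z : R) (hzq : z ∉ q.asIdeal)
    (hz : ∀ a : LocCoh.H (maximalIdeal R) n (M ⧸ x • (⊤ : Submodule R M)), z • a = 0) :
    ∃ p' ∈ (q.asIdeal ⊔ Ideal.span {z}).minimalPrimes, x ∈ p' ∧ p' ≠ maximalIdeal R := by
  let N := M ⧸ x • (⊤ : Submodule R M)
  have hdimN : Module.supportDim R N = (n : WithBot ℕ∞) :=
    supportDim_quotSMulTop_eq M q hM n hq x hx hxq
  obtain ⟨q', hq'N, hq'⟩ := exists_mem_support_coheight_eq N n hdimN
  have hq'N' : q' ∈ Module.support R (QuotSMulTop x M) := hq'N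
  rw [Module.support_quotSMulTop] at hq'N'
  obtain ⟨hq'M, hq'x⟩ := hq'N'
  have hqq' : q ≤ q' := by
    rw [hM] at hq'M
    exact hq'M
  have hxq' : x ∈ q'.asIdeal := by
    rw [PrimeSpectrum.mem_zeroLocus, Set.singleton_subset_iff] at hq'x
    exact hq'x
  -- `z ∈ q'`
  have hzq' : z ∈ q'.asIdeal := by
    by_contra hcon
    let N1 := N ⧸ (q'.asIdeal • ⊤ : Submodule R N)
    have hN1 : Module.support R N1 = Set.Ici q' := support_quotient_prime N q' hq'N
    have hnt : Nontrivial (LocCoh.H (maximalIdeal R) n N1) := IH q' N1 hq' hN1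
    have hS := shortExact_of_linearMaps (q'.asIdeal • ⊤ : Submodule R N).subtype
      (q'.asIdeal • ⊤ : Submodule R N).mkQ (Submodule.injective_subtype _)
      (Submodule.mkQ_surjective _) (LinearMap.exact_subtype_mkQ _)
    have hsurj := Hmap_g_surjective_of_supportDim_lt (maximalIdeal R) hS n (by
      refine lt_of_le_of_lt (Module.supportDim_le_of_injective _ (Submodule.injective_subtype _)) ?_
      rw [hdimN]
      exact_mod_cast Nat.lt_succ_self n)
    have hdimN1 : Module.supportDim R N1 = (n : WithBot ℕ∞) := by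
      rw [supportDim_quotient_prime N q' hq'N, hq']
      rfl
    have hdiv := smul_H_surjective_of_supportDim (maximalIdeal R) n z N1
      (by rw [hdimN1]; exact_mod_cast Nat.lt_succ_self n)
      (supportDim_quotSMulTop_lt N1 q' hN1.le n hq' z hcon)
    have hsub : Subsingleton (LocCoh.H (maximalIdeal R) n N1) := by
      refine ⟨fun a b => ?_⟩
      suffices hzero : ∀ c : LocCoh.H (maximalIdeal R) n N1, c = 0 by rw [hzero a, hzero b]
      intro c
      obtain ⟨c', rfl⟩ := hdiv c
      obtain ⟨a', rfl⟩ := hsurj c'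
      change z • (Hmap (maximalIdeal R) n _ a') = 0
      rw [← map_smul, hz a', map_zero]
    exact not_subsingleton _ hsub
  -- `q'` is a minimal prime of `q + zR`
  have hle : q.asIdeal ⊔ Ideal.span {z} ≤ q'.asIdeal :=
    sup_le hqq' ((Ideal.span_singleton_le_iff_mem _).mpr hzq')
  refine ⟨q'.asIdeal, ⟨⟨q'.isPrime, hle⟩, ?_⟩, hxq', ?_⟩
  · rintro p' ⟨hp'prime, hp'le⟩ hp'q'
    by_contra hcon
    let P' : PrimeSpectrum R := ⟨p', hp'prime⟩
    have h1 : q < P' := by
      refine lt_of_le_of_ne (le_sup_left.trans hp'le) ?_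
      intro heq
      apply hzq
      have : z ∈ p' := hp'le (Ideal.mem_sup_right (Ideal.mem_span_singleton_self z))
      rw [heq]
      exact this
    have h2 : P' < q' := lt_of_le_of_ne hp'q' (fun heq => hcon (by rw [← heq]))
    have h3 := Order.coheight_add_one_le h1
    have h4 := Order.coheight_add_one_le h2
    rw [hq] at h3
    rw [hq'] at h4
    have h5 : ((n : ℕ∞) + 1) + 1 ≤ ((n + 1 : ℕ) : ℕ∞) := (add_le_add_left h4 1).trans h3
    have h6 : n + 1 + 1 ≤ n + 1 := by exact_mod_cast h5
    omega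
  · intro heq
    have hmax : IsMax q' := by
      intro p hp
      have h1 : p.asIdeal ≤ maximalIdeal R := IsLocalRing.le_maximalIdeal p.isPrime.ne_top
      rw [← heq] at h1
      exact h1
    have := Order.coheight_eq_zero.mpr hmax
    rw [hq'] at this
    have : n = 0 := by exact_mod_cast this
    omega

omit [IsNoetherianRing R] in
theorem asIdeal_eq_maximalIdeal_of_coheight_eq_zero (q : PrimeSpectrum R)
    (hq : Order.coheight q = 0) : q.asIdeal = maximalIdeal R := by
  have hmax : IsMax q := Order.coheight_eq_zero.mp hq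
  apply le_antisymm (IsLocalRing.le_maximalIdeal q.isPrime.ne_top)
  have h1 : q ≤ IsLocalRing.closedPoint R := IsLocalRing.le_maximalIdeal q.isPrime.ne_top
  exact hmax h1

theorem coreHyp_zero : CoreHyp R 0 := by
  intro q M _ _ _ hq hM
  have hqm : q.asIdeal = maximalIdeal R :=
    asIdeal_eq_maximalIdeal_of_coheight_eq_zero q (by exact_mod_cast hq)
  have hsupp : Module.support R M ⊆ PrimeSpectrum.zeroLocus (maximalIdeal R : Set R) := by
    rw [hM, ← zeroLocus_eq_Ici, hqm]
  obtain ⟨k, hk⟩ := isPowerTorsion_of_support_subset (maximalIdeal R) M hsupp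
  have hnt : Nontrivial M := by
    rw [← not_subsingleton_iff_nontrivial, ← Module.support_eq_empty_iff (R := R), hM]
    exact (Set.nonempty_Ici).ne_empty
  obtain ⟨m0, hm0⟩ := exists_ne (0 : M)
  let z : LocCoh.H (maximalIdeal R) 0 M :=
    (H0equiv (maximalIdeal R) (ModuleCat.of R M)).symm ⟨m0, k, fun a ha => hk a ha m0⟩
  refine ⟨⟨z, 0, fun h0 => hm0 ?_⟩⟩
  have h1 : (H0equiv (maximalIdeal R) (ModuleCat.of R M)) z = 0 := by rw [h0, map_zero]
  have h2 : (H0equiv (maximalIdeal R) (ModuleCat.of R M)) z = ⟨m0, k, fun a ha => hk a ha m0⟩ :=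
    LinearEquiv.apply_symm_apply _ _
  rw [h2] at h1
  exact congrArg Subtype.val h1

theorem coreHyp_succ (n : ℕ) (IH : CoreHyp R n) : CoreHyp R (n + 1) := by
  classical
  intro q M _ _ _ hq hM
  by_contra hcon
  rw [not_nontrivial_iff_subsingleton] at hcon
  -- an element of `m` outside `q`
  have hqne : q.asIdeal ≠ maximalIdeal R := by
    intro heq
    have hmax : IsMax q := by
      intro p hp
      have h1 : p.asIdeal ≤ maximalIdeal R := IsLocalRing.le_maximalIdeal p.isPrime.ne_top
      rw [← heq] at h1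
      exact h1
    have := Order.coheight_eq_zero.mpr hmax
    rw [hq] at this
    have : n + 1 = 0 := by exact_mod_cast this
    omega
  obtain ⟨x0, hx0m, hx0q⟩ := SetLike.exists_of_lt
    (lt_of_le_of_ne (IsLocalRing.le_maximalIdeal q.isPrime.ne_top) hqne)
  have hdimM : Module.supportDim R M = ((n + 1 : ℕ) : WithBot ℕ∞) := by
    rw [Module.supportDim, hM, ← Order.coheight_eq_krullDim_Ici, hq]
    rfl
  have hdimM' : Module.supportDim R M < ((n + 1 + 1 : ℕ) : WithBot ℕ∞) := by
    rw [hdimM]
    exact_mod_cast Nat.lt_succ_self (n + 1)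
  have hπ := Hmap_mkQ_surjective_of_subsingleton (maximalIdeal R) n M hdimM' hcon
  rcases Nat.eq_zero_or_pos n with hn0 | hnpos
  · -- the case `dim = 1`
    subst hn0
    let N := M ⧸ x0 • (⊤ : Submodule R M)
    have hdimN : Module.supportDim R N = 0 := by
      have := supportDim_quotSMulTop_eq M q hM 0 hq x0 hx0m hx0q
      exact_mod_cast this
    have hsuppN := support_of_supportDim_eq_zero (R := R) (N := N) hdimN
    obtain ⟨k, hk⟩ := isPowerTorsion_of_support_subset (maximalIdeal R) N hsuppN.le
    have hcover : (⊤ : Submodule R M) ≤ DRing.torsionSub (maximalIdeal R) M ⊔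
        Ideal.span {x0} • (⊤ : Submodule R M) := by
      intro m' _
      let c : N := Submodule.Quotient.mk m'
      let zc : LocCoh.H (maximalIdeal R) 0 N :=
        (H0equiv (maximalIdeal R) (ModuleCat.of R N)).symm ⟨c, k, fun a ha => hk a ha c⟩
      have hzc : H0toM (maximalIdeal R) (ModuleCat.of R N) zc = c := by
        have := (H0equiv (maximalIdeal R) (ModuleCat.of R N)).apply_symm_apply
          ⟨c, k, fun a ha => hk a ha c⟩
        exact congrArg Subtype.val this
      obtain ⟨y, hy⟩ := hπ x0 zc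
      let t : M := H0toM (maximalIdeal R) (ModuleCat.of R M) y
      have ht : t ∈ DRing.torsionSub (maximalIdeal R) M := H0toM_mem _ _ y
      have htc : (Submodule.Quotient.mk t : N) = c := by
        rw [← hzc, ← hy]
        exact (H0toM_naturality (maximalIdeal R)
          (ModuleCat.ofHom (x0 • (⊤ : Submodule R M)).mkQ) y).symm
      have hdiff : m' - t ∈ x0 • (⊤ : Submodule R M) := by
        rw [← Submodule.Quotient.mk_eq_zero, Submodule.Quotient.mk_sub, htc, sub_self]
      have : m' = t + (m' - t) := by abel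
      rw [this]
      refine Submodule.add_mem_sup ht ?_
      rw [Submodule.ideal_span_singleton_smul]
      exact hdiff
    have htop : (⊤ : Submodule R M) ≤ DRing.torsionSub (maximalIdeal R) M :=
      Submodule.le_of_le_smul_of_le_jacobson_bot Module.Finite.fg_top
        (((Ideal.span_singleton_le_iff_mem _).mpr hx0m).trans
          (IsLocalRing.maximalIdeal_le_jacobson _)) hcover
    obtain ⟨k', hk'⟩ := exists_pow_smul_eq_zero_of_fg (maximalIdeal R) M ⊤
      Module.Finite.fg_top htop
    have hann : maximalIdeal R ^ k' ≤ Module.annihilator R M := by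
      intro a ha
      rw [Module.mem_annihilator]
      intro m'
      exact hk' a ha m' trivial
    have hqsupp : q ∈ Module.support R M := by
      rw [hM]
      exact Set.mem_Ici.mpr le_rfl
    have hle : maximalIdeal R ^ k' ≤ q.asIdeal :=
      hann.trans (Module.annihilator_le_of_mem_support hqsupp)
    have := Ideal.IsPrime.le_of_pow_le hle
    exact hx0q (this hx0m)
  · -- the case `dim ≥ 2`
    have hArt : IsArtinian R (LocCoh.H (maximalIdeal R) n M) :=
      isArtinian_H_maximal (maximalIdeal R) n M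
    let 𝒮 : Set (Submodule R (LocCoh.H (maximalIdeal R) n M)) :=
      {B | ∃ y ∈ maximalIdeal R, y ∉ q.asIdeal ∧ B = y • ⊤}
    obtain ⟨B0, ⟨z, hzm, hzq, rfl⟩, hmin⟩ := IsArtinian.set_has_minimal 𝒮
      ⟨x0 • ⊤, x0, hx0m, hx0q, rfl⟩
    have hzx : ∀ x ∈ maximalIdeal R, x ∉ q.asIdeal →
        (z • ⊤ : Submodule R (LocCoh.H (maximalIdeal R) n M)) ≤ x • ⊤ := by
      intro x hxm hxq
      have hmem : ((x * z) • ⊤ : Submodule R (LocCoh.H (maximalIdeal R) n M)) ∈ 𝒮 :=
        ⟨x * z, Ideal.mul_mem_left _ _ hzm, fun h => (q.isPrime.mem_or_mem h).elim hxq hzq, rfl⟩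
      have hle : ((x * z) • ⊤ : Submodule R (LocCoh.H (maximalIdeal R) n M)) ≤ z • ⊤ := by
        intro l hl
        obtain ⟨l', -, rfl⟩ := (Submodule.mem_smul_pointwise_iff_exists _ _ _).mp hl
        rw [mul_comm, mul_smul]
        exact Submodule.smul_mem_pointwise_smul _ z ⊤ trivial
      have heq := eq_of_le_of_not_lt hle (hmin _ hmem)
      rw [← heq]
      intro l hl
      obtain ⟨l', -, rfl⟩ := (Submodule.mem_smul_pointwise_iff_exists _ _ _).mp hl
      rw [mul_smul]
      exact Submodule.smul_mem_pointwise_smul _ x ⊤ trivial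
    have hkill : ∀ x ∈ maximalIdeal R, x ∉ q.asIdeal →
        ∀ a : LocCoh.H (maximalIdeal R) n (M ⧸ x • (⊤ : Submodule R M)), z • a = 0 := by
      intro x hxm hxq a
      obtain ⟨l, rfl⟩ := hπ x a
      have h1 : z • l ∈ (x • ⊤ : Submodule R (LocCoh.H (maximalIdeal R) n M)) :=
        hzx x hxm hxq (Submodule.smul_mem_pointwise_smul l z ⊤ trivial)
      obtain ⟨l', -, hl'⟩ := (Submodule.mem_smul_pointwise_iff_exists _ _ _).mp h1
      rw [← map_smul, ← hl', map_smul]
      exact smul_H_quotSMulTop_eq_zero (maximalIdeal R) n x M _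
    have hfin := Ideal.finite_minimalPrimes_of_isNoetherianRing R (q.asIdeal ⊔ Ideal.span {z})
    let s : Finset (Ideal R) :=
      insert q.asIdeal (hfin.toFinset.filter (fun p' => p' ≠ maximalIdeal R))
    have hprime : ∀ i ∈ s, i ≠ q.asIdeal → i ≠ q.asIdeal → (id i : Ideal R).IsPrime := by
      intro i hi _ _
      rcases Finset.mem_insert.mp hi with rfl | hi'
      · exact q.isPrime
      · have := (Finset.mem_filter.mp hi').1
        rw [Set.Finite.mem_toFinset] at this
        exact this.1.1
    have hsub : ((maximalIdeal R : Ideal R) : Set R) ⊆ ⋃ i ∈ (s : Set (Ideal R)), ((id i : Ideal R) : Set R) := by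
      intro x hxm
      by_cases hxq : x ∈ q.asIdeal
      · exact Set.mem_biUnion (Finset.mem_coe.mpr (Finset.mem_insert_self _ _)) hxq
      · obtain ⟨p', hp', hxp', hp'm⟩ := exists_minimalPrime_of_smul_eq_zero n hnpos IH q hq M hM x
          hxm hxq z hzq (hkill x hxm hxq)
        refine Set.mem_biUnion (Finset.mem_coe.mpr (Finset.mem_insert_of_mem ?_)) hxp'
        exact Finset.mem_filter.mpr ⟨hfin.mem_toFinset.mpr hp', hp'm⟩
    obtain ⟨i, hi, hmi⟩ := (Ideal.subset_union_prime (f := id) q.asIdeal q.asIdeal hprime).mp hsub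
    rcases Finset.mem_insert.mp hi with rfl | hi'
    · exact hx0q (hmi hx0m)
    · obtain ⟨hi1, hi2⟩ := Finset.mem_filter.mp hi'
      rw [Set.Finite.mem_toFinset] at hi1
      have : i.IsPrime := hi1.1.1
      exact hi2 (le_antisymm (IsLocalRing.le_maximalIdeal this.ne_top) hmi)

theorem coreHyp (n : ℕ) : CoreHyp R n := by
  induction n with
  | zero => exact coreHyp_zero
  | succ n ih => exact coreHyp_succ n ih

/-- **Grothendieck's non-vanishing theorem.** -/
theorem nontrivial_H_supportDim (M : Type u) [AddCommGroup M] [Module R M] [Module.Finite R M]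
    (n : ℕ) (hn : Module.supportDim R M = n) :
    Nontrivial (LocCoh.H (maximalIdeal R) n M) := by
  obtain ⟨q, hqM, hq⟩ := exists_mem_support_coheight_eq M n hn
  have hnt : Nontrivial (LocCoh.H (maximalIdeal R) n (M ⧸ (q.asIdeal • ⊤ : Submodule R M))) :=
    coreHyp n q _ hq (support_quotient_prime M q hqM)
  have hS := shortExact_of_linearMaps (q.asIdeal • ⊤ : Submodule R M).subtype
    (q.asIdeal • ⊤ : Submodule R M).mkQ (Submodule.injective_subtype _)
    (Submodule.mkQ_surjective _) (LinearMap.exact_subtype_mkQ _)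
  have hsurj := Hmap_g_surjective_of_supportDim_lt (maximalIdeal R) hS n (by
    refine lt_of_le_of_lt (Module.supportDim_le_of_injective _ (Submodule.injective_subtype _)) ?_
    rw [hn]
    exact_mod_cast Nat.lt_succ_self n)
  exact hsurj.nontrivial

end core

end Groth.Agent.Lib.Helper16.LC
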