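import Groth.Agent.Lib.Helper16.Melkersson
import Groth.Agent.Lib.Helper16.LocCohGrothVanish
import Groth.Agent.S15426

set_option autoImplicit false
universe u
open CategoryTheory Opposite Limits Pointwise

namespace Groth.Agent.Lib.Helper16.LC

open Groth.Agent.Lib.Helper16.Depth Groth.Agent.Lib.Helper16.Melk

section art

theorem isArtinian_of_smul_eq_zero {R : Type u} [CommRing R] (m : Ideal R) [m.IsMaximal]
    (N : Type u) [AddCommGroup N] [Module R N] [Module.Finite R N]
    (h : ∀ a ∈ m, ∀ n : N, a • n = 0) : IsArtinian R N := by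
  have hT : Module.IsTorsionBySet R N (m : Set R) := fun n a => h a.1 a.2 n
  let _ : Module (R ⧸ m) N := hT.module
  have : IsScalarTower R (R ⧸ m) N := hT.isScalarTower
  let _ : Field (R ⧸ m) := Ideal.Quotient.field m
  have : Module.Finite (R ⧸ m) N := Module.Finite.of_restrictScalars_finite R (R ⧸ m) N
  have : IsArtinian (R ⧸ m) N := inferInstance
  exact isArtinian_of_surjective_algebraMap (R := R ⧸ m) (S := R) Ideal.Quotient.mk_surjective

/-- A Noetherian module all of whose elements are killed by a power of a maximal ideal is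
Artinian. -/
theorem isArtinian_of_isPowerTorsion_maximal {R : Type u} [CommRing R] [IsNoetherianRing R]
    (m : Ideal R) [m.IsMaximal] (N : Type u) [AddCommGroup N] [Module R N] [Module.Finite R N]
    (h : LocCoh.IsPowerTorsion m N) : IsArtinian R N := by
  refine isArtinian_of_isPowerTorsion m (IsNoetherian.noetherian m) N h ?_
  apply isArtinian_of_smul_eq_zero m
  rintro a ha ⟨n, hn⟩
  apply Subtype.ext
  exact (Submodule.mem_torsionBySet_iff _ _).mp hn ⟨a, ha⟩

end art

section main

variable {R : Type u} [CommRing R] [IsNoetherianRing R] (m : Ideal R) [m.IsMaximal]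

/-- `H^i_m(M)` is Artinian for a maximal ideal `m` and a finite module `M`. -/
theorem isArtinian_H_maximal (i : ℕ) : ∀ (M : Type u) [AddCommGroup M] [Module R M]
    [Module.Finite R M], IsArtinian R (LocCoh.H m i M) := by
  induction i with
  | zero =>
    intro M _ _ _
    have h1 : IsArtinian R (DRing.torsionSub m M) := by
      apply isArtinian_of_isPowerTorsion_maximal m
      rintro ⟨x, n, hn⟩
      refine ⟨n, fun a ha => ?_⟩
      apply Subtype.ext
      exact hn a ha
    exact isArtinian_of_linearEquiv (H0equiv m (ModuleCat.of R M)).symm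
  | succ i ih =>
    intro M _ _ _
    -- reduce to `Γ_m(M) = 0`
    have hS := shortExact_of_linearMaps (DRing.torsionSub m M).subtype (DRing.torsionSub m M).mkQ
      (Submodule.injective_subtype _) (Submodule.mkQ_surjective _)
      (LinearMap.exact_subtype_mkQ _)
    have hΓ : Subsingleton (LocCoh.H m (i + 1) (DRing.torsionSub m M)) := by
      apply subsingleton_H_succ_of_torsion m i
      rintro ⟨x, n, hn⟩
      refine ⟨n, fun a ha => ?_⟩
      apply Subtype.ext
      exact hn a ha
    have hinj : Function.Injective
        (Hmap m (i + 1) (ModuleCat.ofHom (DRing.torsionSub m M).mkQ)) := by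
      rw [injective_iff_map_eq_zero]
      intro z hz
      obtain ⟨y, rfl⟩ := Hmap_exact₂ m hS (i + 1) z hz
      rw [hΓ.elim y 0, map_zero]
    suffices hM' : IsArtinian R (LocCoh.H m (i + 1) (M ⧸ DRing.torsionSub m M)) from
      isArtinian_of_injective _ hinj
    -- a regular element
    obtain ⟨x, hxm, hx⟩ := exists_isSMulRegular_of_torsionSub_eq_bot m
      (M ⧸ DRing.torsionSub m M) (torsionSub_quotient_torsionSub m M)
    let N := M ⧸ DRing.torsionSub m M
    have hS2 := shortExact_of_linearMaps (x • (LinearMap.id : N →ₗ[R] N))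
      (x • (⊤ : Submodule R N)).mkQ hx (Submodule.mkQ_surjective _) (by
        intro y
        rw [Submodule.mkQ_apply, Submodule.Quotient.mk_eq_zero]
        constructor
        · intro hy
          obtain ⟨z, -, rfl⟩ := (Submodule.mem_smul_pointwise_iff_exists _ _ _).mp hy
          exact ⟨z, rfl⟩
        · rintro ⟨z, rfl⟩
          exact Submodule.smul_mem_pointwise_smul z x ⊤ trivial)
    have hQ : IsArtinian R (LocCoh.H m i (N ⧸ x • (⊤ : Submodule R N))) := ih _
    have hle : Submodule.torsionBy R (LocCoh.H m (i + 1) N) x ≤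
        LinearMap.range (δ m hS2 i) := by
      intro z hz
      rw [Submodule.mem_torsionBy_iff] at hz
      have h2 : Hmap m (i + 1) (ModuleCat.ofHom (x • (LinearMap.id : N →ₗ[R] N))) z = 0 := by
        have h3 : ModuleCat.ofHom (x • (LinearMap.id : N →ₗ[R] N)) = x • 𝟙 (ModuleCat.of R N) := rfl
        rw [h3, Hmap_smul_id]
        exact hz
      exact Hmap_exact₁ m hS2 i z h2
    have hrange : IsArtinian R (LinearMap.range (δ m hS2 i)) := isArtinian_range _
    have htb : IsArtinian R (Submodule.torsionBy R (LocCoh.H m (i + 1) N) x) :=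
      isArtinian_of_le hle
    refine isArtinian_of_torsionBy x (fun z => ?_)
    obtain ⟨n, hn⟩ := Groth.Agent.S15426.result R m (i + 1) N z
    exact ⟨n, hn _ (Ideal.pow_mem_pow hxm n)⟩

end main

end Groth.Agent.Lib.Helper16.LC
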