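import Groth.Agent.Lib.Helper16.LocCohBaseRing

set_option autoImplicit false
universe u
open CategoryTheory Opposite Limits TensorProduct

namespace Groth.Agent.Lib.Helper16.DTL

open Groth.Agent.Lib.Helper16.LC Groth.Agent.Lib.Helper16.Depth

section semi

variable (R R' : Type u) [CommRing R] [CommRing R'] [Algebra R R']

/-- There is an additive isomorphism `A ≃+ B`, semilinear along `R → R'`. -/
def SemiIso (A B : Type u) [AddCommGroup A] [Module R' A] [AddCommGroup B] [Module R B] : Prop :=
  ∃ φ : A ≃+ B, ∀ (r : R) (a : A), φ (algebraMap R R' r • a) = r • φ a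

variable {R R'}
variable {A A' B B' : Type u} [AddCommGroup A] [Module R' A] [AddCommGroup A'] [Module R' A']
  [AddCommGroup B] [Module R B] [AddCommGroup B'] [Module R B']

theorem SemiIso.comp_left (e : A' ≃ₗ[R'] A) (h : SemiIso R R' A B) : SemiIso R R' A' B := by
  obtain ⟨φ, hφ⟩ := h
  refine ⟨e.toAddEquiv.trans φ, fun r a => ?_⟩
  show φ (e (algebraMap R R' r • a)) = r • φ (e a)
  rw [map_smul, hφ]

theorem SemiIso.comp_right (h : SemiIso R R' A B) (e : B ≃ₗ[R] B') : SemiIso R R' A B' := by
  obtain ⟨φ, hφ⟩ := h
  refine ⟨φ.trans e.toAddEquiv, fun r a => ?_⟩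
  show e (φ (algebraMap R R' r • a)) = r • e (φ a)
  rw [hφ, map_smul]

theorem SemiIso.quotient (ε : A ≃+ B) (hε : ∀ (r : R) (a : A), ε (algebraMap R R' r • a) = r • ε a)
    (A₀ : Submodule R' A) (B₀ : Submodule R B) (h : ∀ a, a ∈ A₀ ↔ ε a ∈ B₀) :
    SemiIso R R' (A ⧸ A₀) (B ⧸ B₀) := by
  have he : A₀.toAddSubgroup.map (ε : A →+ B) = B₀.toAddSubgroup := by
    ext b
    constructor
    · rintro ⟨a, ha, rfl⟩
      exact (h a).mp ha
    · intro hb
      refine ⟨ε.symm b, (h _).mpr ?_, ?_⟩
      · rw [AddEquiv.apply_symm_apply]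
        exact hb
      · exact ε.apply_symm_apply b
  let ψ : (A ⧸ A₀) ≃+ (B ⧸ B₀) := QuotientAddGroup.congr A₀.toAddSubgroup B₀.toAddSubgroup ε he
  refine ⟨ψ, fun r x => ?_⟩
  obtain ⟨a, rfl⟩ := Submodule.Quotient.mk_surjective _ x
  have h1 : ∀ a : A, ψ (Submodule.Quotient.mk a) = Submodule.Quotient.mk (ε a) := fun a => rfl
  rw [← Submodule.Quotient.mk_smul, h1, h1, hε, Submodule.Quotient.mk_smul]

end semi

section main

variable {R R' : Type u} [CommRing R] [CommRing R'] [Algebra R R'] [IsNoetherianRing R]
  [IsNoetherianRing R']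

theorem semiIso_H (I : Ideal R) (i : ℕ) : ∀ (M' : Type u) [AddCommGroup M'] [Module R' M']
    [Module R M'] [IsScalarTower R R' M'],
    SemiIso R R' (LocCoh.H (I.map (algebraMap R R')) i M') (LocCoh.H I i M') := by
  induction i with
  | zero =>
    intro M' _ _ _ _
    refine SemiIso.comp_left (H0equiv (I.map (algebraMap R R')) (ModuleCat.of R' M')) ?_
    refine SemiIso.comp_right ?_ (H0equiv I (ModuleCat.of R M')).symm
    refine ⟨{ toFun := fun x => ⟨x.1, (torsionSub_map_carrier (R' := R') I x.1).mp x.2⟩
              invFun := fun x => ⟨x.1, (torsionSub_map_carrier (R' := R') I x.1).mpr x.2⟩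
              left_inv := fun x => rfl
              right_inv := fun x => rfl
              map_add' := fun x y => rfl }, fun r x => ?_⟩
    exact Subtype.ext (algebraMap_smul R' r x.1)
  | succ n ih =>
    cases n with
    | zero =>
      intro M' _ _ _ _
      obtain ⟨ε, hε, hη⟩ := exists_DT_map_addEquiv (R' := R') I M'
      refine SemiIso.comp_left (cokerEquiv (I.map (algebraMap R R')) M').symm ?_
      refine SemiIso.comp_right ?_ (cokerEquiv I M')
      refine SemiIso.quotient ε hε _ _ (fun a => ?_)
      constructor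
      · rintro ⟨m, rfl⟩
        exact ⟨m, (hη m).symm⟩
      · rintro ⟨m, hm⟩
        refine ⟨m, ε.injective ?_⟩
        rw [hη, hm]
    | succ m =>
      intro M' _ _ _ _
      obtain ⟨T, _, _, j, hj, hTinj⟩ := exists_injective_embedding (R := R') M'
      let _ : Module R T := Module.compHom T (algebraMap R R')
      have : IsScalarTower R R' T := IsScalarTower.of_algebraMap_smul (fun r x => rfl)
      have hS' := shortExact_of_linearMaps j (LinearMap.range j).mkQ hj
        (Submodule.mkQ_surjective _) (LinearMap.exact_map_mkQ_range j)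
      have hS := shortExact_of_linearMaps (j.restrictScalars R)
        ((LinearMap.range j).mkQ.restrictScalars R) hj
        (Submodule.mkQ_surjective _) (LinearMap.exact_map_mkQ_range j)
      have hTobj : Injective (ModuleCat.of R' T) := Module.injective_object_of_injective_module R' T
      have b' := δ_bijective_of_subsingleton (I.map (algebraMap R R')) hS' (m + 1)
        (subsingleton_H_of_injective _ (ModuleCat.of R' T) m)
        (subsingleton_H_of_injective _ (ModuleCat.of R' T) (m + 1))
      have b := δ_bijective_of_subsingleton I hS (m + 1)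
        (subsingleton_H_restrictScalars_of_injective (R' := R') I T m)
        (subsingleton_H_restrictScalars_of_injective (R' := R') I T (m + 1))
      refine SemiIso.comp_left (LinearEquiv.ofBijective _ b').symm ?_
      refine SemiIso.comp_right ?_ (LinearEquiv.ofBijective _ b)
      exact ih (T ⧸ LinearMap.range j)

end main

end Groth.Agent.Lib.Helper16.DTL
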