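import Groth.Agent.Lib.Helper16.LocCohDepth
import Groth.Agent.Lib.Helper16.ExtVanish

/-!
# Vanishing of local cohomology below `n` versus vanishing of `Ext` (helper16)

For a Noetherian ring `A`, an ideal `J` and an arbitrary module `G`:
* `ExtVanishBelow J G n` : `Ext^i(F, G) = 0` for all `i < n` and finite `F` with `Supp F ⊆ V(J)`.
* `extVanishBelow_of_H`, `H_of_extVanishBelow` : equivalent to `H^i_J(G) = 0` for `i < n`.
* `trans_injective_of_extVanishBelow`, `subsingleton_E_of_subsingleton_H`.
-/

set_option autoImplicit false
universe u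
open CategoryTheory Opposite Limits

namespace Groth.Agent.Lib.Helper16.LC

open Groth.Agent.Lib.Helper16.Depth

variable {A : Type u} [CommRing A] [IsNoetherianRing A] (J : Ideal A) (G : ModuleCat.{u} A)

/-- The property "`Ext^i(F, G) = 0` for `i < n` and all finite `F` supported in `V(J)`". -/
def ExtVanishBelow (n : ℕ) : Prop :=
  ∀ (F : Type u) [AddCommGroup F] [Module A F], Module.Finite A F →
    Module.support A F ⊆ PrimeSpectrum.zeroLocus (J : Set A) → ∀ i : ℕ, i < n →
      Subsingleton (Abelian.Ext.{u} (ModuleCat.of A F) G i)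

theorem trans_injective_of_extVanishBelow (n : ℕ) (hvan : ExtVanishBelow J G n) {k l : ℕ}
    (h : k ≤ l) : Function.Injective (trans J n G h) := by
  rcases n with _ | n
  · have : Epi (quotMap J h) := (ModuleCat.epi_iff_surjective _).mpr (quotMap_surjective J h)
    exact Abelian.Ext.precomp_mk₀_injective_of_epi G (quotMap J h)
  · rw [injective_iff_map_eq_zero]
    intro e he
    have hS := shortExact_of_linearMaps (LinearMap.ker (quotMap J h).hom).subtype
      (quotMap J h).hom (Submodule.injective_subtype _) (quotMap_surjective J h)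
      (fun y => by simp)
    obtain ⟨x₁, hx₁⟩ := Abelian.Ext.contravariant_sequence_exact₃ hS G e he
      (Nat.add_comm 1 n)
    have hsub : Subsingleton (Abelian.Ext.{u} (ModuleCat.of A (LinearMap.ker (quotMap J h).hom))
        G n) := by
      apply hvan _ inferInstance _ n (Nat.lt_succ_self n)
      exact (Module.support_subset_of_injective _ (Submodule.injective_subtype _)).trans
        (support_Q_subset J l)
    rw [← hx₁, hsub.elim x₁ 0, Abelian.Ext.comp_zero]

theorem subsingleton_E_of_subsingleton_H (n : ℕ) (hvan : ExtVanishBelow J G n)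
    (hH : Subsingleton ((localCohomology J n).obj G)) (k : ℕ) : Subsingleton (E J n G k) := by
  refine ⟨fun a b => ?_⟩
  suffices hz : ∀ e : E J n G k, e = 0 by rw [hz a, hz b]
  intro e
  obtain ⟨l, hl, h0⟩ := (ι_eq_zero_iff J n G e).mp (hH.elim _ _)
  exact trans_injective_of_extVanishBelow J G n hvan hl (by rw [h0, map_zero])

theorem extVanishBelow_of_H (n : ℕ)
    (hH : ∀ i : ℕ, i < n → Subsingleton ((localCohomology J i).obj G)) :
    ExtVanishBelow J G n := by
  induction n with
  | zero => intro F _ _ _ _ i hi; exact absurd hi (Nat.not_lt_zero i)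
  | succ n ih =>
    have hb : ExtVanishBelow J G n := ih (fun i hi => hH i (Nat.lt_succ_of_lt hi))
    intro F _ _ hfin hsupp i hi
    rcases Nat.lt_succ_iff_lt_or_eq.mp hi with hi | rfl
    · exact hb F hfin hsupp i hi
    · have hE : ∀ k, Subsingleton (E J i G k) :=
        subsingleton_E_of_subsingleton_H J G i hb (hH i (Nat.lt_succ_self i))
      -- vanishing for `A/p`, `p ⊇ J`
      have hp : ∀ p ∈ PrimeSpectrum.zeroLocus (J : Set A),
          Subsingleton (Abelian.Ext.{u} (ModuleCat.of A (A ⧸ p.asIdeal)) G i) := by
        intro p hp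
        have hle : J ^ 1 ≤ p.asIdeal := by
          rw [pow_one]
          exact (PrimeSpectrum.mem_zeroLocus _ _).mp hp
        let g : (A ⧸ J ^ 1) →ₗ[A] (A ⧸ p.asIdeal) :=
          Submodule.mapQ (J ^ 1) p.asIdeal LinearMap.id hle
        have hg : Function.Surjective g := by
          intro y
          obtain ⟨r, rfl⟩ := Ideal.Quotient.mk_surjective y
          exact ⟨Ideal.Quotient.mk (J ^ 1) r, rfl⟩
        have hS := shortExact_of_linearMaps (LinearMap.ker g).subtype g
          (Submodule.injective_subtype _) hg (fun y => by simp)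
        have hK : Module.support A (LinearMap.ker g) ⊆ PrimeSpectrum.zeroLocus (J : Set A) :=
          (Module.support_subset_of_injective _ (Submodule.injective_subtype _)).trans
            (support_Q_subset J 1)
        rcases i with _ | m
        · exact ext'_X₃_zero hS G (hE 1)
        · exact ext'_X₃_succ hS G m (hb _ inferInstance hK m (Nat.lt_succ_self m)) (hE 1)
      have := hfin
      exact subsingleton_ext_of_forall_prime G i _ hp F hsupp

omit [IsNoetherianRing A] in
theorem H_of_extVanishBelow (n : ℕ) (hvan : ExtVanishBelow J G n) :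
    ∀ i : ℕ, i < n → Subsingleton ((localCohomology J i).obj G) := by
  intro i hi
  apply subsingleton_H_of_forall
  intro k
  exact hvan (A ⧸ J ^ k) inferInstance (support_Q_subset J k) i hi

end Groth.Agent.Lib.Helper16.LC
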