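import Groth.Agent.Lib.Helper16.LocCohGrothVanish
import Groth.Agent.Lib.Helper16.LocCohVanish

/-!
# Cohomological dimension bounds for `LocCoh.H` (helper16)

* `subsingleton_H_sup_iff_of_torsion` : on `J`-power torsion modules `H^i_{I+J}` and `H^i_I` vanish
  simultaneously.
* `cdLE_sup` : `cd(I + J) ≤ cd(I) + cd(J)`.
* `cdLE_span_singleton` : `cd((x)) ≤ 1`; `cdLE_card_generators` : `cd(I) ≤` number of generators.
* `cdLE_of_vanishing_on_ring` : `cd(I) ≤ d` iff `H^i_I(R) = 0` for `i > d`.
-/

set_option autoImplicit false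
universe u
open CategoryTheory Opposite Limits

namespace Groth.Agent.Lib.Helper16.LC

open Groth.Agent.Lib.Helper16.Depth

section general

variable {R : Type u} [CommRing R] (I : Ideal R)

variable {S : ShortComplex (ModuleCat.{u} R)} (hS : S.ShortExact) (p : ℕ)

theorem δ_bijective_of_subsingleton
    (h1 : Subsingleton ((localCohomology I p).obj S.X₂))
    (h2 : Subsingleton ((localCohomology I (p + 1)).obj S.X₂)) :
    Function.Bijective (δ I hS p) := by
  constructor
  · rw [injective_iff_map_eq_zero]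
    intro z hz
    obtain ⟨y, rfl⟩ := Hmap_exact₃ I hS p z hz
    rw [h1.elim y 0, map_zero]
  · intro x
    exact Hmap_exact₁ I hS p x (h2.elim _ _)

include hS in
/-- `H^1_I(X₁) = 0` iff `Γ_I(X₂) → Γ_I(X₃)` is surjective, when `H^1_I(X₂) = 0`. -/
theorem subsingleton_H_one_iff (h2 : Subsingleton ((localCohomology I (0 + 1)).obj S.X₂)) :
    Subsingleton ((localCohomology I (0 + 1)).obj S.X₁) ↔
      ∀ c ∈ DRing.torsionSub I S.X₃, ∃ t ∈ DRing.torsionSub I S.X₂, S.g t = c := by
  constructor
  · intro h1 c hc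
    let z : (localCohomology I 0).obj S.X₃ := (H0equiv I S.X₃).symm ⟨c, hc⟩
    have hz : H0toM I S.X₃ z = c := by
      have := (H0equiv I S.X₃).apply_symm_apply ⟨c, hc⟩
      exact congrArg Subtype.val this
    obtain ⟨y, hy⟩ := Hmap_exact₃ I hS 0 z (h1.elim _ _)
    refine ⟨H0toM I S.X₂ y, H0toM_mem I S.X₂ y, ?_⟩
    rw [← hz, ← hy, H0toM_naturality]
  · intro h
    refine ⟨fun a b => ?_⟩
    suffices hz : ∀ x : (localCohomology I (0 + 1)).obj S.X₁, x = 0 by rw [hz a, hz b]
    intro x
    obtain ⟨z, rfl⟩ := Hmap_exact₁ I hS 0 x (h2.elim _ _)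
    obtain ⟨t, ht, htc⟩ := h (H0toM I S.X₃ z) (H0toM_mem I S.X₃ z)
    let y : (localCohomology I 0).obj S.X₂ := (H0equiv I S.X₂).symm ⟨t, ht⟩
    have hy : H0toM I S.X₂ y = t := by
      have := (H0equiv I S.X₂).apply_symm_apply ⟨t, ht⟩
      exact congrArg Subtype.val this
    have hzy : z = Hmap I 0 S.g y := by
      apply H0toM_injective I
      rw [H0toM_naturality, hy, htc]
    rw [hzy]
    exact δ_Hmap_g I hS 0 y

end general

section tcl

variable {R : Type u} [CommRing R] (I J : Ideal R)

theorem torsionSub_sup_eq_of_torsion (X : Type u) [AddCommGroup X] [Module R X]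
    (hX : ∀ x : X, x ∈ DRing.torsionSub J X) :
    DRing.torsionSub (I ⊔ J) X = DRing.torsionSub I X := by
  apply le_antisymm
  · rintro x ⟨k, hk⟩
    exact ⟨k, fun a ha => hk a (Ideal.pow_right_mono le_sup_left k ha)⟩
  · rintro x ⟨k, hk⟩
    obtain ⟨l, hl⟩ := hX x
    refine ⟨k + l, fun a ha => ?_⟩
    have ha' := Ideal.sup_pow_add_le_pow_sup_pow ha
    obtain ⟨b, hb, c, hc, rfl⟩ := Submodule.mem_sup.mp ha'
    rw [add_smul, hk b hb, hl c hc, add_zero]

variable [IsNoetherianRing R]

/-- **Torsion comparison**: on `J`-power torsion modules, `H^i_{I+J}` vanishes iff `H^i_I` does. -/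
theorem subsingleton_H_sup_iff_of_torsion (i : ℕ) :
    ∀ (N : Type u) [AddCommGroup N] [Module R N], (∀ m : N, m ∈ DRing.torsionSub J N) →
      (Subsingleton (LocCoh.H (I ⊔ J) i N) ↔ Subsingleton (LocCoh.H I i N)) := by
  induction i using Nat.strong_induction_on with
  | _ i ih =>
  intro N _ _ hN
  match i, ih with
  | 0, _ =>
    rw [(H0equiv (I ⊔ J) (ModuleCat.of R N)).toEquiv.subsingleton_congr,
      (H0equiv I (ModuleCat.of R N)).toEquiv.subsingleton_congr]
    have := torsionSub_sup_eq_of_torsion I J N hN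
    change Subsingleton (DRing.torsionSub (I ⊔ J) N) ↔ Subsingleton (DRing.torsionSub I N)
    rw [this]
  | 1, _ =>
    obtain ⟨T, _, _, j, hj, hTinj, hT⟩ := exists_torsion_injective_embedding J N hN
    have hS := shortExact_of_linearMaps j (LinearMap.range j).mkQ hj
      (Submodule.mkQ_surjective _) (LinearMap.exact_map_mkQ_range j)
    have : Injective (ModuleCat.of R T) := Module.injective_object_of_injective_module R T
    have h1 := subsingleton_H_one_iff (I ⊔ J) hS (subsingleton_H_of_injective (I ⊔ J) (ModuleCat.of R T) 0)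
    have h2 := subsingleton_H_one_iff I hS (subsingleton_H_of_injective I (ModuleCat.of R T) 0)
    have e1 := torsionSub_sup_eq_of_torsion I J T hT
    have e2 := torsionSub_sup_eq_of_torsion I J (T ⧸ LinearMap.range j) (torsion_quotient J hT _)
    change Subsingleton ((localCohomology (I ⊔ J) (0 + 1)).obj (ModuleCat.of R N)) ↔
      Subsingleton ((localCohomology I (0 + 1)).obj (ModuleCat.of R N))
    rw [h1, h2]
    change (∀ c ∈ DRing.torsionSub (I ⊔ J) (T ⧸ LinearMap.range j),
        ∃ t ∈ DRing.torsionSub (I ⊔ J) T, (LinearMap.range j).mkQ t = c) ↔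
      (∀ c ∈ DRing.torsionSub I (T ⧸ LinearMap.range j),
        ∃ t ∈ DRing.torsionSub I T, (LinearMap.range j).mkQ t = c)
    rw [e1, e2]
  | (q + 2), ih =>
    obtain ⟨T, _, _, j, hj, hTinj, hT⟩ := exists_torsion_injective_embedding J N hN
    have hS := shortExact_of_linearMaps j (LinearMap.range j).mkQ hj
      (Submodule.mkQ_surjective _) (LinearMap.exact_map_mkQ_range j)
    have : Injective (ModuleCat.of R T) := Module.injective_object_of_injective_module R T
    have b1 := δ_bijective_of_subsingleton (I ⊔ J) hS (q + 1)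
      (subsingleton_H_of_injective (I ⊔ J) (ModuleCat.of R T) q)
      (subsingleton_H_of_injective (I ⊔ J) (ModuleCat.of R T) (q + 1))
    have b2 := δ_bijective_of_subsingleton I hS (q + 1)
      (subsingleton_H_of_injective I (ModuleCat.of R T) q)
      (subsingleton_H_of_injective I (ModuleCat.of R T) (q + 1))
    have := ih (q + 1) (by omega) (T ⧸ LinearMap.range j) (torsion_quotient J hT _)
    change Subsingleton ((localCohomology (I ⊔ J) (q + 1 + 1)).obj (ModuleCat.of R N)) ↔
      Subsingleton ((localCohomology I (q + 1 + 1)).obj (ModuleCat.of R N))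
    rw [← (Equiv.ofBijective _ b1).subsingleton_congr, ← (Equiv.ofBijective _ b2).subsingleton_congr]
    exact this

end tcl

section cdsup

variable {R : Type u} [CommRing R] (I J : Ideal R)

theorem subsingleton_H_X₂ {S : ShortComplex (ModuleCat.{u} R)} (hS : S.ShortExact) (p : ℕ)
    (h1 : Subsingleton ((localCohomology I p).obj S.X₁))
    (h3 : Subsingleton ((localCohomology I p).obj S.X₃)) :
    Subsingleton ((localCohomology I p).obj S.X₂) := by
  refine ⟨fun a b => ?_⟩
  suffices hz : ∀ x : (localCohomology I p).obj S.X₂, x = 0 by rw [hz a, hz b]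
  intro x
  obtain ⟨y, rfl⟩ := Hmap_exact₂ I hS p x (h3.elim _ _)
  rw [h1.elim y 0, map_zero]

theorem exists_injective_embedding (N : Type u) [AddCommGroup N] [Module R N] :
    ∃ (T : Type u) (_ : AddCommGroup T) (_ : Module R T) (j : N →ₗ[R] T),
      Function.Injective j ∧ Module.Injective R T := by
  let E : ModuleCat.{u} R := Injective.under (ModuleCat.of R N)
  let ιN : ModuleCat.of R N ⟶ E := Injective.ι (ModuleCat.of R N)
  have hι : Function.Injective ιN.hom := (ModuleCat.mono_iff_injective _).mp inferInstance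
  have hEobj : Injective (ModuleCat.of R E) :=
    (inferInstance : Injective (Injective.under (ModuleCat.of R N)))
  have hE : Module.Injective R E := Module.injective_module_of_injective_object R E
  exact ⟨E, inferInstance, inferInstance, ιN.hom, hι, hE⟩

variable [IsNoetherianRing R]

/-- If `H^j_J(G) = 0` for `j < n` then `H^j_{I+J}(G) = 0` for `j < n`. -/
theorem subsingleton_H_sup_of_lt (G : ModuleCat.{u} R) (n : ℕ)
    (hH : ∀ j : ℕ, j < n → Subsingleton ((localCohomology J j).obj G)) :
    ∀ j : ℕ, j < n → Subsingleton ((localCohomology (I ⊔ J) j).obj G) := by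
  have hvan := extVanishBelow_of_H J G n hH
  intro j hj
  apply subsingleton_H_of_forall
  intro k
  refine hvan (R ⧸ (I ⊔ J) ^ k) inferInstance ?_ j hj
  refine (support_Q_subset (I ⊔ J) k).trans ?_
  exact PrimeSpectrum.zeroLocus_anti_mono (by exact_mod_cast (le_sup_right : J ≤ I ⊔ J))

theorem subsingleton_H_sup_of_cdLE (a : ℕ) (hI : LocCoh.CdLE R I a) :
    ∀ (b : ℕ) (M : Type u) [AddCommGroup M] [Module R M],
      (∀ j : ℕ, b < j → Subsingleton (LocCoh.H J j M)) →
      ∀ i : ℕ, a + b < i → Subsingleton (LocCoh.H (I ⊔ J) i M) := by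
  intro b
  induction b with
  | zero =>
    intro M _ _ hM i hi
    have hS := shortExact_of_linearMaps (DRing.torsionSub J M).subtype (DRing.torsionSub J M).mkQ
      (Submodule.injective_subtype _) (Submodule.mkQ_surjective _)
      (LinearMap.exact_subtype_mkQ _)
    have htors : ∀ m : DRing.torsionSub J M, m ∈ DRing.torsionSub J (DRing.torsionSub J M) := by
      rintro ⟨m, n, hn⟩
      refine ⟨n, fun a ha => ?_⟩
      apply Subtype.ext
      exact hn a ha
    -- the torsion part
    have h1 : Subsingleton (LocCoh.H (I ⊔ J) i (DRing.torsionSub J M)) :=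
      (subsingleton_H_sup_iff_of_torsion I J i _ htors).mpr (hI _ i (by omega))
    -- the torsion-free part
    have h3 : Subsingleton (LocCoh.H (I ⊔ J) i (M ⧸ DRing.torsionSub J M)) := by
      refine subsingleton_H_sup_of_lt I J (ModuleCat.of R (M ⧸ DRing.torsionSub J M)) (i + 1) ?_
        i (Nat.lt_succ_self i)
      intro j _
      rcases j with _ | q
      · rw [(H0equiv J (ModuleCat.of R (M ⧸ DRing.torsionSub J M))).toEquiv.subsingleton_congr]
        change Subsingleton (DRing.torsionSub J (M ⧸ DRing.torsionSub J M))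
        rw [torsionSub_quotient_torsionSub]
        infer_instance
      · have hb := Hmap_mkQ_torsionSub_bijective J M q
        have : Subsingleton (LocCoh.H J (q + 1) M) := hM (q + 1) (by omega)
        exact (Equiv.ofBijective _ hb).symm.subsingleton
    exact subsingleton_H_X₂ (I ⊔ J) hS i h1 h3
  | succ b ih =>
    intro M _ _ hM i hi
    obtain ⟨T, _, _, j, hj, hTinj⟩ := exists_injective_embedding (R := R) M
    have hS := shortExact_of_linearMaps j (LinearMap.range j).mkQ hj
      (Submodule.mkQ_surjective _) (LinearMap.exact_map_mkQ_range j)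
    have : Injective (ModuleCat.of R T) := Module.injective_object_of_injective_module R T
    have hC : ∀ q : ℕ, b < q → Subsingleton (LocCoh.H J q (T ⧸ LinearMap.range j)) := by
      intro q hq
      obtain ⟨q', rfl⟩ : ∃ q', q = q' + 1 := ⟨q - 1, by omega⟩
      have b1 := δ_bijective_of_subsingleton J hS (q' + 1)
        (subsingleton_H_of_injective J (ModuleCat.of R T) q')
        (subsingleton_H_of_injective J (ModuleCat.of R T) (q' + 1))
      have : Subsingleton (LocCoh.H J (q' + 1 + 1) M) := hM _ (by omega)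
      exact (Equiv.ofBijective _ b1).subsingleton
    obtain ⟨i', rfl⟩ : ∃ i', i = i' + 1 + 1 := ⟨i - 2, by omega⟩
    have hC' := ih (T ⧸ LinearMap.range j) hC (i' + 1) (by omega)
    have b2 := δ_bijective_of_subsingleton (I ⊔ J) hS (i' + 1)
      (subsingleton_H_of_injective (I ⊔ J) (ModuleCat.of R T) i')
      (subsingleton_H_of_injective (I ⊔ J) (ModuleCat.of R T) (i' + 1))
    exact (Equiv.ofBijective _ b2).symm.subsingleton

/-- `cd(I + J) ≤ cd(I) + cd(J)`. -/
theorem cdLE_sup (a b : ℕ) (hI : LocCoh.CdLE R I a) (hJ : LocCoh.CdLE R J b) :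
    LocCoh.CdLE R (I ⊔ J) (a + b) := by
  intro M _ _ i hi
  exact subsingleton_H_sup_of_cdLE I J a hI b M (fun j hj => hJ M j hj) i hi

end cdsup

section principal

variable {R : Type u} [CommRing R]

theorem subsingleton_ext_of_smul_bijective {X Y : ModuleCat.{u} R} (r : R)
    (hX : ∀ x : X, r • x = 0) (hY : Function.Bijective (fun y : Y => r • y)) (i : ℕ) :
    Subsingleton (Abelian.Ext.{u} X Y i) := by
  refine ⟨fun a b => ?_⟩
  suffices hz : ∀ e : Abelian.Ext.{u} X Y i, e = 0 by rw [hz a, hz b]
  intro e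
  let φl : Y ≃ₗ[R] Y := LinearEquiv.ofBijective (LinearMap.lsmul R Y r) hY
  have hφ : ModuleCat.ofHom (φl : Y →ₗ[R] Y) = r • 𝟙 Y := by
    apply ModuleCat.hom_ext
    apply LinearMap.ext
    intro y
    rfl
  have h1 : (ModuleCat.ofHom (φl : Y →ₗ[R] Y)) ≫ (ModuleCat.ofHom (φl.symm : Y →ₗ[R] Y)) = 𝟙 Y := by
    apply ModuleCat.hom_ext
    apply LinearMap.ext
    intro y
    exact φl.symm_apply_apply y
  have hX' : r • 𝟙 X = 0 := by
    apply ModuleCat.hom_ext
    apply LinearMap.ext
    intro x
    exact hX x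
  have h2 : r • e = 0 := by
    have : r • e = (Abelian.Ext.mk₀ (r • 𝟙 X)).comp e (zero_add i) := by
      simp [Abelian.Ext.mk₀_smul]
    rw [this, hX', Abelian.Ext.mk₀_zero, Abelian.Ext.zero_comp]
  have h3 : r • e = e.comp (Abelian.Ext.mk₀ (r • 𝟙 Y)) (add_zero i) := by
    simp [Abelian.Ext.mk₀_smul]
  have : e = (e.comp (Abelian.Ext.mk₀ (r • 𝟙 Y)) (add_zero i)).comp
      (Abelian.Ext.mk₀ (ModuleCat.ofHom (φl.symm : Y →ₗ[R] Y))) (add_zero i) := by
    rw [Abelian.Ext.comp_assoc_of_third_deg_zero, Abelian.Ext.mk₀_comp_mk₀, ← hφ, h1,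
      Abelian.Ext.comp_mk₀_id]
  rw [this, ← h3, h2, Abelian.Ext.zero_comp]

theorem subsingleton_H_X₁ (I : Ideal R) {S : ShortComplex (ModuleCat.{u} R)} (hS : S.ShortExact)
    (p : ℕ) (h3 : Subsingleton ((localCohomology I p).obj S.X₃))
    (h2 : Subsingleton ((localCohomology I (p + 1)).obj S.X₂)) :
    Subsingleton ((localCohomology I (p + 1)).obj S.X₁) := by
  refine ⟨fun a b => ?_⟩
  suffices hz : ∀ x : (localCohomology I (p + 1)).obj S.X₁, x = 0 by rw [hz a, hz b]
  intro x
  obtain ⟨z, rfl⟩ := Hmap_exact₁ I hS p x (h2.elim _ _)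
  rw [h3.elim z 0, map_zero]

theorem mem_torsionSub_span_singleton {x : R} {M : Type u} [AddCommGroup M] [Module R M] {m : M}
    {k : ℕ} (h : x ^ k • m = 0) : m ∈ DRing.torsionSub (Ideal.span {x}) M := by
  refine ⟨k, fun a ha => ?_⟩
  rw [Ideal.span_singleton_pow, Ideal.mem_span_singleton] at ha
  obtain ⟨c, rfl⟩ := ha
  rw [mul_comm, mul_smul, h, smul_zero]

variable [IsNoetherianRing R]

/-- `cd((x)) ≤ 1`. -/
theorem cdLE_span_singleton (x : R) : LocCoh.CdLE R (Ideal.span {x}) 1 := by
  intro M _ _ i hi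
  obtain ⟨q, rfl⟩ : ∃ q, i = q + 1 + 1 := ⟨i - 2, by omega⟩
  let S := Submonoid.powers x
  let Mx := LocalizedModule S M
  let ℓ : M →ₗ[R] Mx := LocalizedModule.mkLinearMap S M
  -- the localized module has no local cohomology
  have hMx : ∀ p : ℕ, Subsingleton (LocCoh.H (Ideal.span {x}) p Mx) := by
    intro p
    apply subsingleton_H_of_forall
    intro k
    refine subsingleton_ext_of_smul_bijective (x ^ k) ?_ ?_ p
    · intro y
      obtain ⟨r, rfl⟩ := Ideal.Quotient.mk_surjective y
      change x ^ k • (Ideal.Quotient.mk (Ideal.span {x} ^ k) r) = 0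
      rw [Algebra.smul_def]
      have : (algebraMap R (R ⧸ Ideal.span {x} ^ k)) (x ^ k) = 0 :=
        Ideal.Quotient.eq_zero_iff_mem.mpr
          (Ideal.pow_mem_pow (Ideal.mem_span_singleton_self x) k)
      rw [this, zero_mul]
    · exact (Module.End.isUnit_iff _).mp
        (IsLocalizedModule.map_units (S := S) ℓ ⟨x ^ k, ⟨k, rfl⟩⟩)
  -- the two short exact sequences
  have hA := shortExact_of_linearMaps (LinearMap.ker ℓ).subtype ℓ.rangeRestrict
    (Submodule.injective_subtype _) ℓ.surjective_rangeRestrict (by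
      intro m
      constructor
      · intro hm
        refine ⟨⟨m, ?_⟩, rfl⟩
        rw [LinearMap.mem_ker]
        exact congrArg Subtype.val hm
      · rintro ⟨⟨m', hm'⟩, rfl⟩
        apply Subtype.ext
        exact hm')
  have hB := shortExact_of_linearMaps (LinearMap.range ℓ).subtype (LinearMap.range ℓ).mkQ
    (Submodule.injective_subtype _) (Submodule.mkQ_surjective _)
    (LinearMap.exact_subtype_mkQ _)
  have hker : ∀ m : LinearMap.ker ℓ, m ∈ DRing.torsionSub (Ideal.span {x}) (LinearMap.ker ℓ) := by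
    rintro ⟨m, hm⟩
    rw [LinearMap.mem_ker] at hm
    obtain ⟨⟨_, k, rfl⟩, hs⟩ := (IsLocalizedModule.eq_zero_iff S ℓ).mp hm
    apply mem_torsionSub_span_singleton (k := k)
    apply Subtype.ext
    exact hs
  have hcoker : ∀ c : Mx ⧸ LinearMap.range ℓ,
      c ∈ DRing.torsionSub (Ideal.span {x}) (Mx ⧸ LinearMap.range ℓ) := by
    intro c
    obtain ⟨y, rfl⟩ := Submodule.Quotient.mk_surjective _ c
    obtain ⟨⟨m, ⟨_, k, rfl⟩⟩, hy⟩ := IsLocalizedModule.surj S ℓ y
    apply mem_torsionSub_span_singleton (k := k)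
    rw [← Submodule.Quotient.mk_smul, Submodule.Quotient.mk_eq_zero]
    exact ⟨m, hy.symm⟩
  have h1 : Subsingleton (LocCoh.H (Ideal.span {x}) (q + 1 + 1) (LinearMap.ker ℓ)) :=
    subsingleton_H_succ_of_torsion _ (q + 1) _ hker
  have h2 : Subsingleton (LocCoh.H (Ideal.span {x}) (q + 1) (Mx ⧸ LinearMap.range ℓ)) :=
    subsingleton_H_succ_of_torsion _ q _ hcoker
  have h3 : Subsingleton (LocCoh.H (Ideal.span {x}) (q + 1 + 1) (LinearMap.range ℓ)) :=
    subsingleton_H_X₁ _ hB (q + 1) h2 (hMx _)
  exact subsingleton_H_X₂ _ hA (q + 1 + 1) h1 h3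

theorem cdLE_bot : LocCoh.CdLE R (⊥ : Ideal R) 0 := by
  intro M _ _ i hi
  obtain ⟨q, rfl⟩ : ∃ q, i = q + 1 := ⟨i - 1, by omega⟩
  apply subsingleton_H_succ_of_torsion
  intro m
  refine ⟨1, fun a ha => ?_⟩
  rw [pow_one, Ideal.mem_bot] at ha
  rw [ha, zero_smul]

/-- `cd(I) ≤` number of generators. -/
theorem cdLE_card_generators (s : Finset R) :
    LocCoh.CdLE R (Ideal.span (s : Set R)) s.card := by
  classical
  induction s using Finset.induction_on with
  | empty =>
    rw [Finset.coe_empty, Ideal.span_empty, Finset.card_empty]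
    exact cdLE_bot
  | insert x s hx ih =>
    rw [Finset.coe_insert, Ideal.span_insert, Finset.card_insert_of_notMem hx, add_comm]
    exact cdLE_sup _ _ 1 s.card (cdLE_span_singleton x) ih

end principal

section onring

variable {R : Type u} [CommRing R]

theorem subsingleton_H_X₃ (I : Ideal R) {S : ShortComplex (ModuleCat.{u} R)} (hS : S.ShortExact)
    (p : ℕ) (h2 : Subsingleton ((localCohomology I p).obj S.X₂))
    (h1 : Subsingleton ((localCohomology I (p + 1)).obj S.X₁)) :
    Subsingleton ((localCohomology I p).obj S.X₃) := by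
  refine ⟨fun a b => ?_⟩
  suffices hz : ∀ x : (localCohomology I p).obj S.X₃, x = 0 by rw [hz a, hz b]
  intro z
  obtain ⟨y, rfl⟩ := Hmap_exact₃ I hS p z (h1.elim _ _)
  rw [h2.elim y 0, map_zero]

theorem subsingleton_H_pi_fin (I : Ideal R) (p : ℕ) (h : Subsingleton (LocCoh.H I p R)) :
    ∀ r : ℕ, Subsingleton (LocCoh.H I p (Fin r → R)) := by
  intro r
  induction r with
  | zero => exact subsingleton_H_of_subsingleton I p _
  | succ r ih =>
    have hS := shortExact_of_linearMaps (LinearMap.single R (fun _ : Fin (r + 1) => R) 0)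
      (LinearMap.funLeft R R (Fin.succ : Fin r → Fin (r + 1)))
      (fun a b hab => Pi.single_injective (M := fun _ : Fin (r + 1) => R) 0 hab)
      (LinearMap.funLeft_surjective_of_injective R R _ (Fin.succ_injective r)) (by
        intro y
        constructor
        · intro hy
          refine ⟨y 0, ?_⟩
          funext j
          refine Fin.cases ?_ (fun j => ?_) j
          · simp
          · have := congrFun hy j
            simp only [LinearMap.funLeft_apply, Pi.zero_apply] at this
            simp [this]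
        · rintro ⟨a, rfl⟩
          funext j
          simp [LinearMap.funLeft_apply])
    exact subsingleton_H_X₂ I hS p h ih

variable [IsNoetherianRing R]

/-- `cd(I) ≤ d` as soon as `H^i_I(R) = 0` for `i > d`. -/
theorem cdLE_of_vanishing_on_ring (I : Ideal R) (d : ℕ)
    (h : ∀ i : ℕ, d < i → Subsingleton (LocCoh.H I i R)) : LocCoh.CdLE R I d := by
  classical
  obtain ⟨s, rfl⟩ : ∃ s : Finset R, Ideal.span (s : Set R) = I :=
    (IsNoetherian.noetherian I)
  have hcd := cdLE_card_generators s
  suffices H : ∀ (k i : ℕ), d < i → s.card < i + k →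
      ∀ (M : Type u) [AddCommGroup M] [Module R M],
        Subsingleton (LocCoh.H (Ideal.span (s : Set R)) i M) by
    intro M _ _ i hi
    exact H (s.card + 1) i hi (by omega) M
  intro k
  induction k with
  | zero =>
    intro i _ hi M _ _
    exact hcd M i (by omega)
  | succ k ih =>
    intro i hdi hi
    have hnext : ∀ (M : Type u) [AddCommGroup M] [Module R M],
        Subsingleton (LocCoh.H (Ideal.span (s : Set R)) (i + 1) M) :=
      ih (i + 1) (by omega) (by omega)
    have hfg : ∀ (M : Type u) [AddCommGroup M] [Module R M] [Module.Finite R M],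
        Subsingleton (LocCoh.H (Ideal.span (s : Set R)) i M) := by
      intro M _ _ _
      obtain ⟨r, π, hπ⟩ := Module.Finite.exists_fin' R M
      have hS := shortExact_of_linearMaps (LinearMap.ker π).subtype π
        (Submodule.injective_subtype _) hπ (LinearMap.exact_subtype_ker_map π)
      exact subsingleton_H_X₃ _ hS i (subsingleton_H_pi_fin _ i (h i hdi) r)
        (hnext (LinearMap.ker π))
    intro M _ _
    refine ⟨fun a b => ?_⟩
    suffices hz : ∀ z : LocCoh.H (Ideal.span (s : Set R)) i M, z = 0 by rw [hz a, hz b]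
    intro z
    obtain ⟨M', hM', y, rfl⟩ := exists_fg_Hmap_eq _ M i z
    have : Module.Finite R M' := Module.Finite.iff_fg.mpr hM'
    rw [(hfg M').elim y 0, map_zero]

end onring

end Groth.Agent.Lib.Helper16.LC
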