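import Groth.Agent.Lib.Helper16.LocCohXSeqLoc

/-!
# When the comparison maps `H^i_{a'}(M) → H^i_a(M)` are surjective / injective (helper16)

* `cmp_trans` : transitivity of the comparison maps.
* `xα_surjective_of_subsingleton`, `xα_injective_of_subsingleton` : the one-generator step.
* `cmp_surjective_of_forall`, `cmp_injective_of_forall` : induction over generators.
* `cmp_bijective_of_le_radical` : `H^i_{a'}(M) ≅ H^i_a(M)` when `a ≤ a' ≤ rad a`.
-/

set_option autoImplicit false
universe u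
open CategoryTheory Opposite Limits

namespace Groth.Agent.Lib.Helper16.LC

variable {R : Type u} [CommRing R]

theorem qLE_trans {I I' I'' : Ideal R} (h₁ : I ≤ I') (h₂ : I' ≤ I'') (k : ℕ) :
    qLE h₁ k ≫ qLE h₂ k = qLE (h₁.trans h₂) k := by
  apply ModuleCat.hom_ext
  apply LinearMap.ext
  intro y
  obtain ⟨r, rfl⟩ := Ideal.Quotient.mk_surjective y
  rfl

theorem cmp_trans {I I' I'' : Ideal R} (h₁ : I ≤ I') (h₂ : I' ≤ I'') (i : ℕ)
    (M : ModuleCat.{u} R) (x : (localCohomology I'' i).obj M) :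
    cmp h₁ i M (cmp h₂ i M x) = cmp (h₁.trans h₂) i M x := by
  obtain ⟨k, e, rfl⟩ := ι_jointly_surjective I'' i M x
  rw [cmp_ι, cmp_ι, cmp_ι]
  congr 1
  rw [← Abelian.Ext.comp_assoc_of_second_deg_zero, Abelian.Ext.mk₀_comp_mk₀, qLE_trans]

theorem cmp_surjective_trans {I I' I'' : Ideal R} (h₁ : I ≤ I') (h₂ : I' ≤ I'') (i : ℕ)
    (M : ModuleCat.{u} R) (hs₁ : Function.Surjective (cmp h₁ i M))
    (hs₂ : Function.Surjective (cmp h₂ i M)) : Function.Surjective (cmp (h₁.trans h₂) i M) := by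
  intro y
  obtain ⟨z, rfl⟩ := hs₁ y
  obtain ⟨w, rfl⟩ := hs₂ z
  exact ⟨w, (cmp_trans h₁ h₂ i M w).symm⟩

theorem cmp_injective_trans {I I' I'' : Ideal R} (h₁ : I ≤ I') (h₂ : I' ≤ I'') (i : ℕ)
    (M : ModuleCat.{u} R) (hs₁ : Function.Injective (cmp h₁ i M))
    (hs₂ : Function.Injective (cmp h₂ i M)) : Function.Injective (cmp (h₁.trans h₂) i M) := by
  intro x y hxy
  rw [← cmp_trans h₁ h₂, ← cmp_trans h₁ h₂] at hxy
  exact hs₂ (hs₁ hxy)

variable [IsNoetherianRing R] (a : Ideal R) (b : R)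

theorem xα_surjective_of_subsingleton (i : ℕ) (M : Type u) [AddCommGroup M] [Module R M]
    (h : Subsingleton (LocCoh.H a i (LocalizedModule (Submonoid.powers b) M))) :
    Function.Surjective (xα a b i M) := by
  intro y
  exact x_exact a b i M y (h.elim _ _)

theorem xα_injective_of_subsingleton (i : ℕ) (M : Type u) [AddCommGroup M] [Module R M]
    (h : ∀ j : ℕ, j + 1 = i →
      Subsingleton (LocCoh.H a j (LocalizedModule (Submonoid.powers b) M))) :
    Function.Injective (xα a b i M) := by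
  cases i with
  | zero => exact xα_zero_injective a b M
  | succ j =>
    have hsub := h j rfl
    obtain ⟨e⟩ := x_coker_ker a b j M
    have hker : Subsingleton (LinearMap.ker (xα a b (j + 1) M)) :=
      e.symm.toEquiv.subsingleton
    rw [← LinearMap.ker_eq_bot]
    exact Submodule.eq_bot_iff _ |>.mpr fun x hx =>
      congrArg Subtype.val (hker.elim ⟨x, hx⟩ 0)

/-- Induction over generators: surjectivity of `H^i_{a'}(M) → H^i_a(M)`. -/
theorem cmp_surjective_of_forall (i : ℕ) (M : Type u) [AddCommGroup M] [Module R M]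
    (a a' : Ideal R) (h : a ≤ a')
    (hv : ∀ (c : Ideal R) (b : R), a ≤ c → c ≤ a' → b ∈ a' →
      Subsingleton (LocCoh.H c i (LocalizedModule (Submonoid.powers b) M))) :
    Function.Surjective (cmp h i (ModuleCat.of R M)) := by
  have key : ∀ (J : Ideal R) (hJ : J.FG) (a : Ideal R),
      (∀ (c : Ideal R) (b : R), a ≤ c → c ≤ a ⊔ J → b ∈ a ⊔ J →
        Subsingleton (LocCoh.H c i (LocalizedModule (Submonoid.powers b) M))) →
      Function.Surjective (cmp (le_sup_left : a ≤ a ⊔ J) i (ModuleCat.of R M)) := by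
    intro J hJ
    induction J, hJ using Submodule.fg_induction with
    | singleton b =>
      intro a hv
      exact xα_surjective_of_subsingleton a b i M
        (hv a b le_rfl le_sup_left (Ideal.mem_sup_right (Ideal.mem_span_singleton_self b)))
    | sup J₁ J₂ hJ₁ hJ₂ ih₁ ih₂ =>
      intro a hv
      have e : a ⊔ J₁ ⊔ J₂ = a ⊔ (J₁ ⊔ J₂) := sup_assoc _ _ _
      have h1 := ih₁ a (fun c b hac hc hb =>
        hv c b hac (hc.trans (sup_le_sup_left le_sup_left a))
          ((sup_le_sup_left le_sup_left a : a ⊔ J₁ ≤ a ⊔ (J₁ ⊔ J₂)) hb))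
      have h2 := ih₂ (a ⊔ J₁) (fun c b hac hc hb =>
        hv c b (le_sup_left.trans hac) (hc.trans e.le) (e.le hb))
      have h3 := cmp_surjective_trans (le_sup_left : a ≤ a ⊔ J₁)
        (le_sup_left : a ⊔ J₁ ≤ a ⊔ J₁ ⊔ J₂) i (ModuleCat.of R M) h1 h2
      revert h3
      generalize (le_sup_left : a ≤ a ⊔ J₁).trans (le_sup_left : a ⊔ J₁ ≤ a ⊔ J₁ ⊔ J₂) = hh
      revert hh
      rw [e]
      intro hh h3
      exact h3
  have e : a ⊔ a' = a' := sup_eq_right.mpr h
  have h1 := key a' (IsNoetherian.noetherian a') a (fun c b hac hc hb =>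
    hv c b hac (hc.trans e.le) (e.le hb))
  revert h1
  generalize (le_sup_left : a ≤ a ⊔ a') = hh
  revert hh
  rw [e]
  intro hh h1
  exact h1

/-- Induction over generators: injectivity of `H^i_{a'}(M) → H^i_a(M)`. -/
theorem cmp_injective_of_forall (i : ℕ) (M : Type u) [AddCommGroup M] [Module R M]
    (a a' : Ideal R) (h : a ≤ a')
    (hv : ∀ (c : Ideal R) (b : R), a ≤ c → c ≤ a' → b ∈ a' → ∀ j : ℕ, j + 1 = i →
      Subsingleton (LocCoh.H c j (LocalizedModule (Submonoid.powers b) M))) :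
    Function.Injective (cmp h i (ModuleCat.of R M)) := by
  have key : ∀ (J : Ideal R) (hJ : J.FG) (a : Ideal R),
      (∀ (c : Ideal R) (b : R), a ≤ c → c ≤ a ⊔ J → b ∈ a ⊔ J → ∀ j : ℕ, j + 1 = i →
        Subsingleton (LocCoh.H c j (LocalizedModule (Submonoid.powers b) M))) →
      Function.Injective (cmp (le_sup_left : a ≤ a ⊔ J) i (ModuleCat.of R M)) := by
    intro J hJ
    induction J, hJ using Submodule.fg_induction with
    | singleton b =>
      intro a hv
      exact xα_injective_of_subsingleton a b i M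
        (hv a b le_rfl le_sup_left (Ideal.mem_sup_right (Ideal.mem_span_singleton_self b)))
    | sup J₁ J₂ hJ₁ hJ₂ ih₁ ih₂ =>
      intro a hv
      have e : a ⊔ J₁ ⊔ J₂ = a ⊔ (J₁ ⊔ J₂) := sup_assoc _ _ _
      have h1 := ih₁ a (fun c b hac hc hb =>
        hv c b hac (hc.trans (sup_le_sup_left le_sup_left a))
          ((sup_le_sup_left le_sup_left a : a ⊔ J₁ ≤ a ⊔ (J₁ ⊔ J₂)) hb))
      have h2 := ih₂ (a ⊔ J₁) (fun c b hac hc hb =>
        hv c b (le_sup_left.trans hac) (hc.trans e.le) (e.le hb))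
      have h3 := cmp_injective_trans (le_sup_left : a ≤ a ⊔ J₁)
        (le_sup_left : a ⊔ J₁ ≤ a ⊔ J₁ ⊔ J₂) i (ModuleCat.of R M) h1 h2
      revert h3
      generalize (le_sup_left : a ≤ a ⊔ J₁).trans (le_sup_left : a ⊔ J₁ ≤ a ⊔ J₁ ⊔ J₂) = hh
      revert hh
      rw [e]
      intro hh h3
      exact h3
  have e : a ⊔ a' = a' := sup_eq_right.mpr h
  have h1 := key a' (IsNoetherian.noetherian a') a (fun c b hac hc hb =>
    hv c b hac (hc.trans e.le) (e.le hb))
  revert h1
  generalize (le_sup_left : a ≤ a ⊔ a') = hh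
  revert hh
  rw [e]
  intro hh h1
  exact h1

omit [IsNoetherianRing R] in
/-- If a power of `b` lies in `c` then `H^j_c(M_b) = 0`. -/
theorem subsingleton_H_localizedModule_of_mem_radical (c : Ideal R) (b : R)
    (hb : b ∈ c.radical) (M : Type u) [AddCommGroup M] [Module R M] (j : ℕ) :
    Subsingleton (LocCoh.H c j (LocalizedModule (Submonoid.powers b) M)) := by
  obtain ⟨m, hm⟩ := hb
  refine subsingleton_H_of_mem_of_smul_bijective c (b ^ m) hm _ (fun k => ?_) j
  rw [← pow_mul]
  exact smul_pow_bijective_localizedModule b M (m * k)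

/-- `H^i_{a'}(M) → H^i_a(M)` is bijective when `a ≤ a' ≤ rad a`. -/
theorem cmp_bijective_of_le_radical (i : ℕ) (M : Type u) [AddCommGroup M] [Module R M]
    (a a' : Ideal R) (h : a ≤ a') (hrad : a' ≤ a.radical) :
    Function.Bijective (cmp h i (ModuleCat.of R M)) := by
  have hv : ∀ (c : Ideal R) (b : R), a ≤ c → c ≤ a' → b ∈ a' → ∀ j : ℕ,
      Subsingleton (LocCoh.H c j (LocalizedModule (Submonoid.powers b) M)) :=
    fun c b hac _ hb j => subsingleton_H_localizedModule_of_mem_radical c b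
      (Ideal.radical_mono hac (hrad hb)) M j
  exact ⟨cmp_injective_of_forall i M a a' h (fun c b hac hc hb j _ => hv c b hac hc hb j),
    cmp_surjective_of_forall i M a a' h (fun c b hac hc hb => hv c b hac hc hb i)⟩

theorem subsingleton_H_of_le_radical (i : ℕ) (M : Type u) [AddCommGroup M] [Module R M]
    (a a' : Ideal R) (h : a ≤ a') (hrad : a' ≤ a.radical)
    (hsub : Subsingleton (LocCoh.H a' i M)) : Subsingleton (LocCoh.H a i M) := by
  have hb := cmp_bijective_of_le_radical i M a a' h hrad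
  exact (Equiv.ofBijective _ hb).symm.subsingleton

end Groth.Agent.Lib.Helper16.LC
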