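import Groth.Agent.Lib.Helper16.LocCohFlatBaseChange
import Groth.Agent.Lib.Helper16.LocCohIndepBase
import Mathlib.RingTheory.LocalProperties.Submodule
import Mathlib.RingTheory.Localization.BaseChange

set_option autoImplicit false
universe u
open CategoryTheory Opposite Limits TensorProduct

namespace Groth.Agent.Lib.Helper16.DTL

open Groth.Agent.Lib.Helper16.LC Groth.Agent.Lib.Helper16.Depth

section loc

/-- functoriality of `H` in linear equivalences. -/
noncomputable def HcongrEquiv {A : Type u} [CommRing A] (I : Ideal A) (i : ℕ) {X Y : Type u}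
    [AddCommGroup X] [Module A X] [AddCommGroup Y] [Module A Y] (e : X ≃ₗ[A] Y) :
    LocCoh.H I i X ≃ₗ[A] LocCoh.H I i Y :=
  ((localCohomology I i).mapIso e.toModuleIso).toLinearEquiv

variable {R : Type u} [CommRing R] [IsNoetherianRing R] (I : Ideal R) (S : Submonoid R)
  (M : Type u) [AddCommGroup M] [Module R M]

theorem nonempty_localized_H_equiv (i : ℕ) :
    Nonempty (LocalizedModule S (LocCoh.H I i M) ≃ₗ[Localization S]
      LocCoh.H (Ideal.map (algebraMap R (Localization S)) I) i (LocalizedModule S M)) := by
  have : IsNoetherianRing (Localization S) := IsLocalization.isNoetherianRing S _ inferInstance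
  have : Module.Flat R (Localization S) := IsLocalization.flat _ S
  obtain ⟨e⟩ := nonempty_H_baseChange_equiv (R' := Localization S) I i M
  exact ⟨(LocalizedModule.equivTensorProduct S (LocCoh.H I i M)).trans
    (e.trans (HcongrEquiv _ i (LocalizedModule.equivTensorProduct S M).symm))⟩

end loc

end Groth.Agent.Lib.Helper16.DTL

namespace Groth.Agent.Lib.Helper16.DTL

open Groth.Agent.Lib.Helper16.LC Groth.Agent.Lib.Helper16.Depth

section cd

variable {A B : Type u} [CommRing A] [CommRing B] [Algebra A B] [IsNoetherianRing A]
  [IsNoetherianRing B]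

theorem cdLE_map (I : Ideal A) (d : ℕ) (h : LocCoh.CdLE A I d) :
    LocCoh.CdLE B (I.map (algebraMap A B)) d := by
  intro N _ _ i hi
  let _ : Module A N := Module.compHom N (algebraMap A B)
  have : IsScalarTower A B N := IsScalarTower.of_algebraMap_smul (fun r x => rfl)
  obtain ⟨φ, -⟩ := semiIso_H (R' := B) I i N
  have := h N i hi
  exact φ.toEquiv.subsingleton

theorem cdLE_of_map_of_faithfullyFlat (I : Ideal A) (d : ℕ) [Module.FaithfullyFlat A B]
    (h : LocCoh.CdLE B (I.map (algebraMap A B)) d) : LocCoh.CdLE A I d := by
  intro M _ _ i hi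
  obtain ⟨e⟩ := nonempty_H_baseChange_equiv (R' := B) I i M
  have := h (B ⊗[A] M) i hi
  have h2 : Subsingleton (B ⊗[A] LocCoh.H I i M) := e.toEquiv.subsingleton
  exact (Module.FaithfullyFlat.subsingleton_tensorProduct_iff_right A B).mp h2

theorem cdLE_iff_localizations (I : Ideal A) (d : ℕ) :
    LocCoh.CdLE A I d ↔ ∀ (p : Ideal A) [p.IsPrime],
      LocCoh.CdLE (Localization.AtPrime p) (I.map (algebraMap A (Localization.AtPrime p))) d := by
  constructor
  · intro h p _
    have : IsNoetherianRing (Localization.AtPrime p) :=
      IsLocalization.isNoetherianRing p.primeCompl _ inferInstance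
    exact cdLE_map I d h
  · intro h M _ _ i hi
    refine Module.subsingleton_of_localization_maximal (R := A)
      (fun P _ => LocalizedModule P.primeCompl (LocCoh.H I i M))
      (fun P _ => LocalizedModule.mkLinearMap P.primeCompl (LocCoh.H I i M)) ?_
    intro P hP
    obtain ⟨e⟩ := nonempty_localized_H_equiv I P.primeCompl M i
    have := h P (LocalizedModule P.primeCompl M) i hi
    exact e.toEquiv.subsingleton

end cd

end Groth.Agent.Lib.Helper16.DTL
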