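import Mathlib.CategoryTheory.Abelian.Ext
import Mathlib.CategoryTheory.Abelian.Projective.Ext
import Mathlib.Algebra.Homology.DerivedCategory.Ext.Linear
import Mathlib.Algebra.Homology.ShortComplex.ModuleCat
import Mathlib.Algebra.Category.ModuleCat.Ext.HasExt

/-!
# Bridge between Mathlib's old `Ext` functor (left derived functors of `linearYoneda`, used by
`localCohomology`) and the new `CategoryTheory.Abelian.Ext` (morphisms in the derived category).

For a projective resolution `P` of `X : ModuleCat R`: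
* `homCx P Y` : the cochain complex `Hom(P, Y)`.
* `cyclesToExt P Y n : (homCx P Y).cycles n →ₗ[R] Abelian.Ext X Y n` (via `ProjectiveResolution.extMk`).
* `homologyIsoExt P Y n : (homCx P Y).homology n ≅ ModuleCat.of R (Abelian.Ext X Y n)`.
* `bridge P Y n : ((Ext R (ModuleCat R) n).obj (op X)).obj Y ≅ ModuleCat.of R (Abelian.Ext X Y n)`.
-/

set_option autoImplicit false
universe w v u
open CategoryTheory CochainComplex HomComplex Opposite

namespace Groth.Agent.Lib.Helper16.ExtBridge

section general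
variable {C : Type u} [Category.{v} C] [Abelian C] [HasExt.{w} C]
  {X Y : C} (P : ProjectiveResolution X)

theorem extMk_zero_eq_zero_iff (f : P.complex.X 0 ⟶ Y) (hf : P.complex.d 1 0 ≫ f = 0) :
    P.extMk f 1 rfl hf = 0 ↔ f = 0 := by
  constructor
  · intro h
    rw [← P.extEquivCohomologyClass.apply_eq_iff_eq, ProjectiveResolution.extEquivCohomologyClass_extMk,
      ProjectiveResolution.extEquivCohomologyClass_zero, CohomologyClass.mk_eq_zero_iff] at h
    rw [Cocycle.toSingleMk_mem_coboundaries_iff _ _ _ _ _ 1 (by simp)] at h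
    obtain ⟨g, hg⟩ := h
    have hz : Limits.IsZero (P.cochainComplex.X 1) :=
      CochainComplex.isZero_of_isStrictlyLE _ 0 _ (by simp)
    rw [hz.eq_of_src g 0, Limits.comp_zero] at hg
    rw [← cancel_epi (P.cochainComplexXIso (-(0 : ℕ)) 0 rfl).hom, ← hg, Limits.comp_zero]
  · rintro rfl
    exact P.extMk_zero 1 rfl

end general

section cx

variable {R : Type u} [CommRing R] (K : CochainComplex (ModuleCat.{u} R) ℕ) (n : ℕ)

theorem iCycles_injective : Function.Injective (K.iCycles n).hom :=
  (ModuleCat.mono_iff_injective _).mp inferInstance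

theorem homologyπ_surjective : Function.Surjective (K.homologyπ n).hom :=
  (ModuleCat.epi_iff_surjective _).mp inferInstance

theorem d_iCycles_apply (z : K.cycles n) (j : ℕ) : (K.d n j).hom ((K.iCycles n).hom z) = 0 := by
  have h := K.iCycles_d n j
  exact LinearMap.congr_fun (congrArg ModuleCat.Hom.hom h) z

theorem exists_cycle (f : K.X n) (hf : (K.d n (n + 1)).hom f = 0) :
    ∃ z : K.cycles n, (K.iCycles n).hom z = f := by
  let k : ModuleCat.of R R ⟶ K.X n := ModuleCat.ofHom (LinearMap.toSpanSingleton R _ f)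
  have hk : k ≫ K.d n (n + 1) = 0 := by
    ext
    simp [k, hf]
  refine ⟨(K.liftCycles k (n + 1) (by simp) hk).hom (1 : R), ?_⟩
  have h := K.liftCycles_i k (n + 1) (by simp) hk
  have h1 := LinearMap.congr_fun (congrArg ModuleCat.Hom.hom h) (1 : R)
  rw [ModuleCat.hom_comp, LinearMap.comp_apply] at h1
  rw [h1]
  simp [k]

theorem toCycles_apply (i : ℕ) (y : K.X i) :
    (K.iCycles n).hom ((K.toCycles i n).hom y) = (K.d i n).hom y := by
  have h := K.toCycles_i i n
  exact LinearMap.congr_fun (congrArg ModuleCat.Hom.hom h) y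

theorem homologyπ_eq_zero_iff (i : ℕ) (hi : (ComplexShape.up ℕ).prev n = i) (z : K.cycles n) :
    (K.homologyπ n).hom z = 0 ↔ ∃ y : K.X i, (K.toCycles i n).hom y = z := by
  let S : ShortComplex (ModuleCat.{u} R) :=
    ShortComplex.mk (K.toCycles i n) (K.homologyπ n) (K.toCycles_comp_homologyπ i n)
  have hS : S.Exact := S.exact_of_g_is_cokernel (K.homologyIsCokernel i n hi)
  constructor
  · intro h
    exact (ShortComplex.moduleCat_exact_iff S).mp hS z h
  · rintro ⟨y, rfl⟩
    exact S.moduleCat_zero_apply y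

end cx

section bridge

variable {R : Type u} [CommRing R]
variable {X : ModuleCat.{u} R} (P : ProjectiveResolution X) (Y : ModuleCat.{u} R) (n : ℕ)

theorem smul_extMk (r : R) (f : P.complex.X n ⟶ Y) (hf : P.complex.d (n + 1) n ≫ f = 0) :
    r • P.extMk f (n + 1) rfl hf =
      P.extMk (r • f) (n + 1) rfl (by rw [Linear.comp_smul, hf, smul_zero]) := by
  rw [Abelian.Ext.smul_eq_comp_mk₀, ProjectiveResolution.extMk_comp_mk₀]
  congr 1

/-- The cochain complex `Hom(P, Y)`. -/
noncomputable abbrev homCx : CochainComplex (ModuleCat.{u} R) ℕ := P.complex.linearYonedaObj R Y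

theorem homCx_d_apply (i j : ℕ) (f : P.complex.X i ⟶ Y) :
    ((homCx P Y).d i j).hom f = P.complex.d j i ≫ f := rfl

theorem cocycle_cond (z : (homCx P Y).cycles n) :
    P.complex.d (n + 1) n ≫ (((homCx P Y).iCycles n).hom z : P.complex.X n ⟶ Y) = 0 :=
  d_iCycles_apply (homCx P Y) n z (n + 1)

/-- The linear map from cycles to the (new) `Ext` group. -/
noncomputable def cyclesToExt :
    (homCx P Y).cycles n →ₗ[R] Abelian.Ext.{u} X Y n where
  toFun z := P.extMk (((homCx P Y).iCycles n).hom z) (n + 1) rfl (cocycle_cond P Y n z)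
  map_add' := by
    intro a b
    rw [ProjectiveResolution.add_extMk]
    congr 1
    exact map_add _ a b
  map_smul' := by
    intro r a
    rw [RingHom.id_apply, smul_extMk]
    congr 1
    exact map_smul _ r a

theorem cyclesToExt_apply (z : (homCx P Y).cycles n) :
    cyclesToExt P Y n z =
      P.extMk (((homCx P Y).iCycles n).hom z) (n + 1) rfl (cocycle_cond P Y n z) := rfl

theorem cyclesToExt_surjective : Function.Surjective (cyclesToExt P Y n) := by
  intro α
  obtain ⟨f, hf, rfl⟩ := P.extMk_surjective α (n + 1) rfl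
  obtain ⟨z, hz⟩ := exists_cycle (homCx P Y) n f hf
  refine ⟨z, ?_⟩
  rw [cyclesToExt_apply]
  congr 1

theorem cyclesToExt_eq_zero_iff (z : (homCx P Y).cycles n) :
    cyclesToExt P Y n z = 0 ↔ ((homCx P Y).homologyπ n).hom z = 0 := by
  rw [homologyπ_eq_zero_iff (homCx P Y) n _ rfl, cyclesToExt_apply]
  rcases n with _ | p
  · rw [extMk_zero_eq_zero_iff]
    have hprev : (ComplexShape.up ℕ).prev 0 = 0 := CochainComplex.prev_nat_zero
    rw [hprev]
    have hd : (homCx P Y).d 0 0 = 0 := (homCx P Y).shape _ _ (by simp)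
    constructor
    · intro h
      refine ⟨0, ?_⟩
      apply iCycles_injective (homCx P Y) 0
      rw [map_zero, map_zero]
      exact h.symm
    · rintro ⟨y, rfl⟩
      rw [toCycles_apply, hd]
      rfl
  · have hprev : (ComplexShape.up ℕ).prev (p + 1) = p := CochainComplex.prev_nat_succ p
    rw [hprev]
    rw [P.extMk_eq_zero_iff _ (p + 1 + 1) rfl _ p rfl]
    constructor
    · rintro ⟨g, hg⟩
      refine ⟨g, ?_⟩
      apply iCycles_injective (homCx P Y) (p + 1)
      rw [toCycles_apply]
      exact hg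
    · rintro ⟨g, rfl⟩
      refine ⟨g, ?_⟩
      rw [toCycles_apply]
      rfl


/-- The morphism `H^n(Hom(P,Y)) ⟶ Ext^n(X,Y)` (new Ext). -/
noncomputable def homologyToExt :
    (homCx P Y).homology n ⟶ ModuleCat.of R (Abelian.Ext.{u} X Y n) :=
  ((homCx P Y).sc n).descHomology (ModuleCat.ofHom (cyclesToExt P Y n)) (by
    apply ModuleCat.hom_ext
    apply LinearMap.ext
    intro y
    have h1 : (cyclesToExt P Y n) (((homCx P Y).toCycles _ n).hom y) = 0 := by
      rw [cyclesToExt_eq_zero_iff]
      exact LinearMap.congr_fun (congrArg ModuleCat.Hom.hom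
        ((homCx P Y).toCycles_comp_homologyπ _ n)) y
    exact h1)

theorem homologyToExt_π (z : (homCx P Y).cycles n) :
    (homologyToExt P Y n).hom (((homCx P Y).homologyπ n).hom z) = cyclesToExt P Y n z := by
  have h := ((homCx P Y).sc n).π_descHomology (ModuleCat.ofHom (cyclesToExt P Y n)) (by
    apply ModuleCat.hom_ext
    apply LinearMap.ext
    intro y
    have h1 : (cyclesToExt P Y n) (((homCx P Y).toCycles _ n).hom y) = 0 := by
      rw [cyclesToExt_eq_zero_iff]
      exact LinearMap.congr_fun (congrArg ModuleCat.Hom.hom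
        ((homCx P Y).toCycles_comp_homologyπ _ n)) y
    exact h1)
  exact LinearMap.congr_fun (congrArg ModuleCat.Hom.hom h) z

theorem homologyToExt_bijective : Function.Bijective (homologyToExt P Y n).hom := by
  constructor
  · rw [← LinearMap.ker_eq_bot, LinearMap.ker_eq_bot']
    intro x hx
    obtain ⟨z, rfl⟩ := homologyπ_surjective (homCx P Y) n x
    rw [homologyToExt_π, cyclesToExt_eq_zero_iff] at hx
    exact hx
  · intro α
    obtain ⟨z, rfl⟩ := cyclesToExt_surjective P Y n α
    exact ⟨_, homologyToExt_π P Y n z⟩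

/-- `H^n(Hom(P,Y)) ≅ Ext^n(X,Y)`. -/
noncomputable def homologyIsoExt :
    (homCx P Y).homology n ≅ ModuleCat.of R (Abelian.Ext.{u} X Y n) :=
  (LinearEquiv.ofBijective (homologyToExt P Y n).hom (homologyToExt_bijective P Y n)).toModuleIso

/-- The bridge: old `Ext` is isomorphic to the new `Ext`. -/
noncomputable def bridge :
    ((_root_.Ext R (ModuleCat.{u} R) n).obj (Opposite.op X)).obj Y ≅
      ModuleCat.of R (Abelian.Ext.{u} X Y n) :=
  P.isoExt n Y ≪≫ homologyIsoExt P Y n

end bridge


/-- the functor `Hom(-,Y)ᵒᵖ` -/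
noncomputable abbrev FY {R : Type u} [CommRing R] (Y : ModuleCat.{u} R) :
    ModuleCat.{u} R ⥤ (ModuleCat.{u} R)ᵒᵖ := ((linearYoneda R (ModuleCat.{u} R)).obj Y).rightOp

theorem homologyUnop_naturality {V : Type*} [Category V] [Abelian V] {ι : Type*} {c : ComplexShape ι}
    {K K' : HomologicalComplex Vᵒᵖ c} (Φ : K' ⟶ K) (i : ι) :
    HomologicalComplex.homologyMap ((HomologicalComplex.unopFunctor _ _).map Φ.op) i ≫
        (K'.homologyUnop i).hom =
      (K.homologyUnop i).hom ≫ (HomologicalComplex.homologyMap Φ i).unop := by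
  have h := HomologicalComplex.homologyOp_hom_naturality
    ((HomologicalComplex.unopFunctor _ _).map Φ.op) i
  have h2 := congrArg Quiver.Hom.unop h
  simp only [unop_comp] at h2
  exact h2.symm

theorem cat_aux1 {D : Type*} [Category D] {B B' E E' : D} (u : E ≅ B) (u' : E' ≅ B')
    (M : E ⟶ E') (N : B ⟶ B') (h : M ≫ u'.hom = u.hom ≫ N) : N ≫ u'.inv = u.inv ≫ M := by
  rw [Iso.comp_inv_eq, Category.assoc, Iso.eq_inv_comp]
  exact h.symm

theorem cat_aux2 {D : Type*} [Category D] {A A' B B' E E' : D} (L : A ⟶ A') (a : A ⟶ B)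
    (a' : A' ⟶ B') (H : B ⟶ B') (u : B ⟶ E) (u' : B' ⟶ E') (M : E ⟶ E')
    (e1 : L ≫ a' = a ≫ H) (e2 : H ≫ u' = u ≫ M) : L ≫ (a' ≫ u') = (a ≫ u) ≫ M := by
  rw [← Category.assoc, e1, Category.assoc, e2, Category.assoc]


section natX

variable {R : Type u} [CommRing R]
variable {X X' : ModuleCat.{u} R} (P : ProjectiveResolution X) (P' : ProjectiveResolution X')
  (Y : ModuleCat.{u} R) (n : ℕ) (g : X' ⟶ X) (φ : ProjectiveResolution.Hom P' P g)

/-- The map of cochain complexes `Hom(P,Y) ⟶ Hom(P',Y)` induced by a chain map `P' ⟶ P`. -/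
noncomputable def homCxMap (a : P'.complex ⟶ P.complex) : homCx P Y ⟶ homCx P' Y :=
  (HomologicalComplex.unopFunctor _ _).map (((FY Y).mapHomologicalComplex _).map a).op

theorem homCxMap_f_apply (a : P'.complex ⟶ P.complex) (i : ℕ) (f : P.complex.X i ⟶ Y) :
    ((homCxMap P P' Y a).f i).hom f = a.f i ≫ f := rfl

theorem oldExt_map_app :
    ((_root_.Ext R (ModuleCat.{u} R) n).map g.op).app Y = (((FY Y).leftDerived n).map g).unop := rfl

theorem isoExt_hom :
    (P.isoExt n Y).hom = (P.isoLeftDerivedObj (FY Y) n).inv.unop ≫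
      (HomologicalComplex.homologyUnop _ n).inv := rfl

theorem isoExt_naturality_X :
    ((_root_.Ext R (ModuleCat.{u} R) n).map g.op).app Y ≫ (P'.isoExt n Y).hom =
      (P.isoExt n Y).hom ≫ HomologicalComplex.homologyMap (homCxMap P P' Y φ.hom) n := by
  have e1 := ProjectiveResolution.isoLeftDerivedObj_inv_naturality g P' P φ.hom
      φ.hom_f_zero_comp_π_f_zero (FY Y) n
  have e1' := congrArg Quiver.Hom.unop e1
  rw [unop_comp, unop_comp] at e1'
  have e2 := homologyUnop_naturality (((FY Y).mapHomologicalComplex _).map φ.hom) n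
  have e2' := cat_aux1 _ _ _ _ e2
  exact cat_aux2 _ _ _ _ _ _ _ e1' e2'

theorem homologyToExt_naturality_X (x : (homCx P Y).homology n) :
    (homologyToExt P' Y n).hom
        ((HomologicalComplex.homologyMap (homCxMap P P' Y φ.hom) n).hom x) =
      (Abelian.Ext.mk₀ g).comp ((homologyToExt P Y n).hom x) (zero_add n) := by
  obtain ⟨z, rfl⟩ := homologyπ_surjective (homCx P Y) n x
  have h1 := HomologicalComplex.homologyπ_naturality (homCxMap P P' Y φ.hom) n
  have h1' := LinearMap.congr_fun (congrArg ModuleCat.Hom.hom h1) z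
  rw [ModuleCat.hom_comp, ModuleCat.hom_comp, LinearMap.comp_apply, LinearMap.comp_apply] at h1'
  rw [h1', homologyToExt_π, homologyToExt_π, cyclesToExt_apply, cyclesToExt_apply,
    ProjectiveResolution.mk₀_comp_extMk _ _ _ _ φ]
  congr 1
  have h2 := HomologicalComplex.cyclesMap_i (homCxMap P P' Y φ.hom) n
  have h2' := LinearMap.congr_fun (congrArg ModuleCat.Hom.hom h2) z
  rw [ModuleCat.hom_comp, ModuleCat.hom_comp, LinearMap.comp_apply, LinearMap.comp_apply] at h2'
  rw [h2']
  rfl

include φ in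
theorem bridge_naturality_X (e : ((_root_.Ext R (ModuleCat.{u} R) n).obj (op X)).obj Y) :
    (bridge P' Y n).hom.hom ((((_root_.Ext R (ModuleCat.{u} R) n).map g.op).app Y).hom e) =
      (Abelian.Ext.mk₀ g).comp ((bridge P Y n).hom.hom e) (zero_add n) := by
  have h := isoExt_naturality_X P P' Y n g φ
  have h' := LinearMap.congr_fun (congrArg ModuleCat.Hom.hom h) e
  rw [ModuleCat.hom_comp, ModuleCat.hom_comp, LinearMap.comp_apply, LinearMap.comp_apply] at h'
  change (homologyToExt P' Y n).hom ((P'.isoExt n Y).hom.hom _) = _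
  rw [h']
  exact homologyToExt_naturality_X P P' Y n g φ _

end natX


section natY

variable {R : Type u} [CommRing R]
variable {X : ModuleCat.{u} R} (P : ProjectiveResolution X)
  {Y Y' : ModuleCat.{u} R} (n : ℕ) (h : Y ⟶ Y')

/-- the natural transformation `Hom(-,Y')ᵒᵖ ⟶ Hom(-,Y)ᵒᵖ` induced by `h : Y ⟶ Y'` -/
noncomputable abbrev αY : FY Y' ⟶ FY Y := NatTrans.rightOp ((linearYoneda R (ModuleCat.{u} R)).map h)

/-- The map of cochain complexes `Hom(P,Y) ⟶ Hom(P,Y')` induced by `h : Y ⟶ Y'`. -/
noncomputable def homCxMapY : homCx P Y ⟶ homCx P Y' :=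
  (HomologicalComplex.unopFunctor _ _).map
    ((NatTrans.mapHomologicalComplex (αY h) _).app P.complex).op

theorem homCxMapY_f_apply (i : ℕ) (f : P.complex.X i ⟶ Y) :
    ((homCxMapY P h).f i).hom f = f ≫ h := rfl

theorem oldExt_obj_map :
    ((_root_.Ext R (ModuleCat.{u} R) n).obj (op X)).map h =
      ((NatTrans.leftDerived (αY h) n).app X).unop := rfl

theorem isoExt_naturality_Y :
    ((_root_.Ext R (ModuleCat.{u} R) n).obj (op X)).map h ≫ (P.isoExt n Y').hom =
      (P.isoExt n Y).hom ≫ HomologicalComplex.homologyMap (homCxMapY P h) n := by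
  have e1 : (P.isoLeftDerivedObj (FY Y') n).inv ≫ (NatTrans.leftDerived (αY h) n).app X =
      (HomologicalComplex.homologyFunctor _ _ n).map
        ((NatTrans.mapHomologicalComplex (αY h) _).app P.complex) ≫
      (P.isoLeftDerivedObj (FY Y) n).inv := by
    rw [ProjectiveResolution.leftDerived_app_eq (αY h) P n, Iso.inv_hom_id_assoc]
  have e1' := congrArg Quiver.Hom.unop e1
  rw [unop_comp, unop_comp] at e1'
  have e2 := homologyUnop_naturality ((NatTrans.mapHomologicalComplex (αY h) _).app P.complex) n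
  have e2' := cat_aux1 _ _ _ _ e2
  exact cat_aux2 _ _ _ _ _ _ _ e1' e2'

theorem homologyToExt_naturality_Y (x : (homCx P Y).homology n) :
    (homologyToExt P Y' n).hom
        ((HomologicalComplex.homologyMap (homCxMapY P h) n).hom x) =
      ((homologyToExt P Y n).hom x).comp (Abelian.Ext.mk₀ h) (add_zero n) := by
  obtain ⟨z, rfl⟩ := homologyπ_surjective (homCx P Y) n x
  have h1 := HomologicalComplex.homologyπ_naturality (homCxMapY P h) n
  have h1' := LinearMap.congr_fun (congrArg ModuleCat.Hom.hom h1) z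
  rw [ModuleCat.hom_comp, ModuleCat.hom_comp, LinearMap.comp_apply, LinearMap.comp_apply] at h1'
  rw [h1', homologyToExt_π, homologyToExt_π, cyclesToExt_apply, cyclesToExt_apply,
    ProjectiveResolution.extMk_comp_mk₀]
  congr 1
  have h2 := HomologicalComplex.cyclesMap_i (homCxMapY P h) n
  have h2' := LinearMap.congr_fun (congrArg ModuleCat.Hom.hom h2) z
  rw [ModuleCat.hom_comp, ModuleCat.hom_comp, LinearMap.comp_apply, LinearMap.comp_apply] at h2'
  rw [h2']
  rfl

theorem bridge_naturality_Y (e : ((_root_.Ext R (ModuleCat.{u} R) n).obj (op X)).obj Y) :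
    (bridge P Y' n).hom.hom ((((_root_.Ext R (ModuleCat.{u} R) n).obj (op X)).map h).hom e) =
      ((bridge P Y n).hom.hom e).comp (Abelian.Ext.mk₀ h) (add_zero n) := by
  have h0 := isoExt_naturality_Y P n h
  have h' := LinearMap.congr_fun (congrArg ModuleCat.Hom.hom h0) e
  rw [ModuleCat.hom_comp, ModuleCat.hom_comp, LinearMap.comp_apply, LinearMap.comp_apply] at h'
  change (homologyToExt P Y' n).hom ((P.isoExt n Y').hom.hom _) = _
  rw [h']
  exact homologyToExt_naturality_Y P n h _

end natY


section canonical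

variable {R : Type u} [CommRing R]

/-- The canonical `R`-linear equivalence between the old `Ext` module and the new `Ext` group. -/
noncomputable def oldToNew (X Y : ModuleCat.{u} R) (n : ℕ) :
    ((_root_.Ext R (ModuleCat.{u} R) n).obj (op X)).obj Y ≃ₗ[R] Abelian.Ext.{u} X Y n :=
  (bridge (projectiveResolution X) Y n).toLinearEquiv

theorem oldToNew_naturality_X {X X' : ModuleCat.{u} R} (Y : ModuleCat.{u} R) (n : ℕ) (g : X' ⟶ X)
    (e : ((_root_.Ext R (ModuleCat.{u} R) n).obj (op X)).obj Y) :
    oldToNew X' Y n ((((_root_.Ext R (ModuleCat.{u} R) n).map g.op).app Y).hom e) =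
      (Abelian.Ext.mk₀ g).comp (oldToNew X Y n e) (zero_add n) :=
  bridge_naturality_X (projectiveResolution X) (projectiveResolution X') Y n g
    ⟨ProjectiveResolution.lift g _ _, by
      simpa using ProjectiveResolution.lift_commutes_zero g _ _⟩ e

theorem oldToNew_naturality_Y (X : ModuleCat.{u} R) {Y Y' : ModuleCat.{u} R} (n : ℕ) (h : Y ⟶ Y')
    (e : ((_root_.Ext R (ModuleCat.{u} R) n).obj (op X)).obj Y) :
    oldToNew X Y' n ((((_root_.Ext R (ModuleCat.{u} R) n).obj (op X)).map h).hom e) =
      (oldToNew X Y n e).comp (Abelian.Ext.mk₀ h) (add_zero n) :=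
  bridge_naturality_Y (projectiveResolution X) n h e

end canonical

end Groth.Agent.Lib.Helper16.ExtBridge
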