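import Groth.Agent.Lib.Helper16.CanonicalCM
import Groth.Agent.Lib.Helper16.LocCohNonvanish
import Groth.Agent.Lib.Helper16.Depth
import Groth.Agent.Lib.Helper18.HomDim
import Groth.Agent.Lib.Helper18.CM2
import Groth.Agent.Lib.Helper25.Matlis

/-!
# Injective dimension and depth of a canonical module over a CM local ring (helper16)

`R` CM local of dimension `n`, `E` an injective hull of the residue field, `K` finite with
`Hom(K, E) ≃ H^n_m(R)`.

* `subsingleton_of_dual_eq_zero` : `E` cogenerates.
* `subsingleton_ext_succ`, `hasInjectiveDimensionLT_succ` : `injdim K ≤ n`.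
* `subsingleton_ext_quotient_maximalIdeal_of_lt`, `nontrivial_ext_quotient_maximalIdeal` :
  `Ext^i(k, K) = 0` for `i < n` and `≠ 0` for `i = n`.
* `not_hasInjectiveDimensionLT`, `nontrivial_K`, `depth_K`, `supportDim_K`,
  `isCohenMacaulayModule_K`.
-/

set_option autoImplicit false
universe u
open CategoryTheory Abelian IsLocalRing TensorProduct Opposite

namespace Groth.Agent.Lib.Helper16.Canon

open Groth.Agent.Lib.Helper16.LC Groth.Agent.Lib.Helper16.Depth

section cogen

variable {R : Type u} [CommRing R] [IsLocalRing R] {E : Type u} [AddCommGroup E] [Module R E]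
  (f : ResidueField R →ₗ[R] E) (hf : InjHull.IsInjectiveHull f)

include f hf in
/-- a module all of whose functionals to `E` vanish is trivial -/
theorem subsingleton_of_dual_eq_zero {X : Type u} [AddCommGroup X] [Module R X]
    (h : ∀ φ : X →ₗ[R] E, φ = 0) : Subsingleton X := by
  refine ⟨fun a b => ?_⟩
  suffices hz : ∀ z : X, z = 0 by rw [hz a, hz b]
  intro z
  by_contra hne
  obtain ⟨φ, hφ⟩ := Groth.Agent.Lib.Helper25.exists_hom_ne_zero f hf hne
  apply hφ
  rw [h φ]
  rfl

end cogen

variable {R : Type u} [CommRing R] [LocCoh.IsCohenMacaulayLocalRing R] {n : ℕ}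
  (hn : ringKrullDim R = n) {E : Type u} [AddCommGroup E] [Module R E]
  (f : ResidueField R →ₗ[R] E) (hf : InjHull.IsInjectiveHull f)
  {K : Type u} [AddCommGroup K] [Module R K] [Module.Finite R K]
  (eK : (K →ₗ[R] E) ≃ₗ[R] LocCoh.H (maximalIdeal R) n R)

include hn f hf eK in
theorem subsingleton_ext_succ (M : Type u) [AddCommGroup M] [Module R M] [Module.Finite R M] :
    Subsingleton (Ext.{u} (ModuleCat.of R M) (ModuleCat.of R K) (n + 1)) :=
  subsingleton_of_dual_eq_zero f hf
    (dual_ext_succ hn eK hf.isInjective (hlow_of_CM hn) M)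

include hn f hf eK in
theorem hasInjectiveDimensionLT_succ : HasInjectiveDimensionLT (ModuleCat.of R K) (n + 1) :=
  Groth.Agent.Lib.Helper18.hasInjectiveDimensionLT_of_ext_cyclic R n _
    (fun I => subsingleton_ext_succ hn f hf eK (R ⧸ I))

omit [LocCoh.IsCohenMacaulayLocalRing R] in
theorem supportDim_quotient_maximalIdeal [IsLocalRing R] :
    Module.supportDim R (R ⧸ maximalIdeal R) = 0 := by
  rw [Module.supportDim_quotient_eq_ringKrullDim]
  exact ringKrullDim_eq_zero_of_isField
    ((Ideal.Quotient.maximal_ideal_iff_isField_quotient _).mp inferInstance)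

include hn f hf eK in
theorem subsingleton_ext_quotient_maximalIdeal_of_lt (i : ℕ) (hi : i < n) :
    Subsingleton (Ext.{u} (ModuleCat.of R (R ⧸ maximalIdeal R)) (ModuleCat.of R K) i) := by
  obtain ⟨e⟩ := duality hn eK hf.isInjective (hlow_of_CM hn) (R ⧸ maximalIdeal R) (n - i) i
    (by omega)
  have hs : Subsingleton (LocCoh.H (maximalIdeal R) (n - i) (R ⧸ maximalIdeal R)) := by
    refine subsingleton_H_of_supportDim_lt (maximalIdeal R) _ 1 ?_ (n - i) (by omega)
    rw [supportDim_quotient_maximalIdeal]
    exact_mod_cast zero_lt_one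
  apply subsingleton_of_dual_eq_zero f hf
  intro φ
  apply e.symm.injective
  exact hs.elim _ _

include hn f hf eK in
theorem nontrivial_ext_quotient_maximalIdeal :
    Nontrivial (Ext.{u} (ModuleCat.of R (R ⧸ maximalIdeal R)) (ModuleCat.of R K) n) := by
  obtain ⟨e⟩ := duality hn eK hf.isInjective (hlow_of_CM hn) (R ⧸ maximalIdeal R) 0 n
    (by omega)
  have hnt : Nontrivial (LocCoh.H (maximalIdeal R) 0 (R ⧸ maximalIdeal R)) :=
    nontrivial_H_supportDim _ 0 (by rw [supportDim_quotient_maximalIdeal]; rfl)
  by_contra hcon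
  rw [not_nontrivial_iff_subsingleton] at hcon
  have : Subsingleton (LocCoh.H (maximalIdeal R) 0 (R ⧸ maximalIdeal R)) := by
    refine ⟨fun a b => e.injective ?_⟩
    apply LinearMap.ext
    intro x
    rw [hcon.elim x 0, map_zero, map_zero]
  exact not_subsingleton _ this

include hn f hf eK in
theorem not_hasInjectiveDimensionLT : ¬ HasInjectiveDimensionLT (ModuleCat.of R K) n := by
  intro h
  have hnt := nontrivial_ext_quotient_maximalIdeal hn f hf eK
  have := HasInjectiveDimensionLT.subsingleton (ModuleCat.of R K) n n le_rfl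
    (ModuleCat.of R (R ⧸ maximalIdeal R))
  exact not_subsingleton _ this

omit [Module.Finite R K] in
include hn eK in
theorem nontrivial_K : Nontrivial K := by
  have hnt : Nontrivial (LocCoh.H (maximalIdeal R) n R) :=
    nontrivial_H_supportDim R n (by rw [Module.supportDim_self_eq_ringKrullDim, hn])
  by_contra hcon
  rw [not_nontrivial_iff_subsingleton] at hcon
  have : Subsingleton (LocCoh.H (maximalIdeal R) n R) := by
    refine ⟨fun a b => eK.symm.injective ?_⟩
    apply LinearMap.ext
    intro x
    rw [hcon.elim x 0, map_zero, map_zero]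
  exact not_subsingleton _ this

include hn f hf eK in
theorem depth_K : LocCoh.depth R K = n := by
  have := nontrivial_K hn eK
  have hIM : maximalIdeal R • (⊤ : Submodule R K) ≠ ⊤ := by
    intro h
    have h2 := Submodule.eq_bot_of_le_smul_of_le_jacobson_bot (maximalIdeal R) (⊤ : Submodule R K)
      (Module.Finite.fg_top) (le_of_eq h.symm) (by rw [IsLocalRing.jacobson_eq_maximalIdeal _ bot_ne_top])
    exact top_ne_bot h2
  exact (idealDepth_eq_coe_iff_ext (maximalIdeal R) K hIM n).mpr
    ⟨fun i hi => subsingleton_ext_quotient_maximalIdeal_of_lt hn f hf eK i hi,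
      nontrivial_ext_quotient_maximalIdeal hn f hf eK⟩

include hn f hf eK in
theorem supportDim_K : Module.supportDim R K = n := by
  have := nontrivial_K hn eK
  apply le_antisymm
  · rw [← hn]; exact Module.supportDim_le_ringKrullDim R K
  · have h := Groth.Agent.Lib.Helper18.CM.depth_le_supportDim (R := R) K
    rw [depth_K hn f hf eK] at h
    exact h

include hn f hf eK in
theorem isCohenMacaulayModule_K : LocCoh.IsCohenMacaulayModule R K := by
  change Module.supportDim R K = _
  rw [supportDim_K hn f hf eK, depth_K hn f hf eK]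
  rfl

end Groth.Agent.Lib.Helper16.Canon
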