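import Groth.Agent.Lib.Helper16.LocCohPrincipal
import Mathlib.RingTheory.Filtration

set_option autoImplicit false
universe u
open CategoryTheory Opposite Limits

namespace Groth.Agent.Lib.Helper16.LC

open Groth.Agent.Lib.Helper16.Depth

section artinrees

variable {R : Type u} [CommRing R] [IsNoetherianRing R]

/-- Artin–Rees consequence: `a^k ⊓ b^k ≤ (a*b)^n` for `k` large. -/
theorem exists_pow_inf_pow_le_mul_pow (a b : Ideal R) (n : ℕ) :
    ∃ k : ℕ, a ^ k ⊓ b ^ k ≤ (a * b) ^ n := by
  obtain ⟨c, hc⟩ := Ideal.exists_pow_inf_eq_pow_smul (M := R) b (a ^ n : Ideal R)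
  refine ⟨n + c, ?_⟩
  have h1 := hc (n + c) (Nat.le_add_left c n)
  rw [Nat.add_sub_cancel] at h1
  have h2 : ∀ m : ℕ, (b ^ m • (⊤ : Submodule R R) : Submodule R R) = b ^ m := by
    intro m
    rw [Ideal.smul_top_eq_map]
    simp
  rw [h2, h2] at h1
  intro x hx
  have hx' : x ∈ b ^ (n + c) ⊓ a ^ n :=
    ⟨hx.2, Ideal.pow_le_pow_right (Nat.le_add_right n c) hx.1⟩
  rw [h1] at hx'
  rw [mul_pow, mul_comm]
  have h3 : b ^ n • (b ^ c ⊓ a ^ n : Submodule R R) ≤ b ^ n * a ^ n := by
    rw [← smul_eq_mul]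
    exact Submodule.smul_mono le_rfl inf_le_right
  exact h3 hx'

/-- For an injective module over a Noetherian ring, `Γ_{ab}(E) = Γ_a(E) + Γ_b(E)`. -/
theorem torsionSub_mul_le_sup_of_injective (a b : Ideal R) (E : Type u) [AddCommGroup E]
    [Module R E] [Module.Injective R E] :
    DRing.torsionSub (a * b) E ≤ DRing.torsionSub a E ⊔ DRing.torsionSub b E := by
  rintro x ⟨n, hn⟩
  obtain ⟨k, hk⟩ := exists_pow_inf_pow_le_mul_pow a b n
  -- the map `R/(a^k ⊓ b^k) → E`, `r ↦ r • x`
  let f : (R ⧸ (a ^ k ⊓ b ^ k)) →ₗ[R] E :=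
    Submodule.liftQ _ (LinearMap.toSpanSingleton R E x) (by
      intro r hr
      rw [LinearMap.mem_ker, LinearMap.toSpanSingleton_apply]
      exact hn r (hk hr))
  -- the diagonal embedding
  let g : (R ⧸ (a ^ k ⊓ b ^ k)) →ₗ[R] (R ⧸ a ^ k) × (R ⧸ b ^ k) :=
    LinearMap.prod (Submodule.mapQ _ _ LinearMap.id inf_le_left)
      (Submodule.mapQ _ _ LinearMap.id inf_le_right)
  have hg : Function.Injective g := by
    rw [injective_iff_map_eq_zero]
    intro y hy
    obtain ⟨r, rfl⟩ := Submodule.Quotient.mk_surjective _ y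
    have h1 : Submodule.Quotient.mk (p := a ^ k) r = 0 := congrArg Prod.fst hy
    have h2 : Submodule.Quotient.mk (p := b ^ k) r = 0 := congrArg Prod.snd hy
    rw [Submodule.Quotient.mk_eq_zero] at h1 h2 ⊢
    exact ⟨h1, h2⟩
  obtain ⟨φ, hφ⟩ := Module.Injective.extension_property R E _ _ g hg f
  have hx : x = φ (1, 0) + φ (0, 1) := by
    have h1 : f (Submodule.Quotient.mk 1) = x := by
      change (1 : R) • x = x
      rw [one_smul]
    have h2 : g (Submodule.Quotient.mk 1) = (1, 1) := rfl
    rw [← map_add, Prod.mk_add_mk, add_zero, zero_add, ← h2, ← LinearMap.comp_apply, hφ, h1]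
  rw [hx]
  refine Submodule.add_mem_sup ⟨k, fun r hr => ?_⟩ ⟨k, fun r hr => ?_⟩
  · rw [← map_smul, Prod.smul_mk, smul_zero]
    have : r • (1 : R ⧸ a ^ k) = 0 := by
      rw [Algebra.smul_def, mul_one]
      exact Ideal.Quotient.eq_zero_iff_mem.mpr hr
    rw [this]
    exact map_zero φ
  · rw [← map_smul, Prod.smul_mk, smul_zero]
    have : r • (1 : R ⧸ b ^ k) = 0 := by
      rw [Algebra.smul_def, mul_one]
      exact Ideal.Quotient.eq_zero_iff_mem.mpr hr
    rw [this]
    exact map_zero φ

end artinrees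

section mvv

variable {R : Type u} [CommRing R]

theorem torsionSub_anti {a b : Ideal R} (h : a ≤ b) (M : Type u) [AddCommGroup M] [Module R M] :
    DRing.torsionSub b M ≤ DRing.torsionSub a M := by
  rintro x ⟨n, hn⟩
  exact ⟨n, fun r hr => hn r (Ideal.pow_right_mono h n hr)⟩

theorem torsionSub_sup_eq_inf (a b : Ideal R) (M : Type u) [AddCommGroup M] [Module R M] :
    DRing.torsionSub (a ⊔ b) M = DRing.torsionSub a M ⊓ DRing.torsionSub b M := by
  apply le_antisymm
  · exact le_inf (torsionSub_anti le_sup_left M) (torsionSub_anti le_sup_right M)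
  · rintro x ⟨⟨k, hk⟩, ⟨l, hl⟩⟩
    refine ⟨k + l, fun r hr => ?_⟩
    have hr' := Ideal.sup_pow_add_le_pow_sup_pow hr
    obtain ⟨s, hs, t, ht, rfl⟩ := Submodule.mem_sup.mp hr'
    rw [add_smul, hk s hs, hl t ht, add_zero]

variable [IsNoetherianRing R]

/-- Mayer–Vietoris vanishing: if `H^{i+1}_{ab}(M) = 0`, `H^{i+2}_a(M) = 0` and `H^{i+2}_b(M) = 0`
then `H^{i+2}_{a+b}(M) = 0`. -/
theorem subsingleton_H_sup_of_mul (a b : Ideal R) :
    ∀ (i : ℕ) (M : Type u) [AddCommGroup M] [Module R M],
      Subsingleton (LocCoh.H (a * b) (i + 1) M) → Subsingleton (LocCoh.H a (i + 1 + 1) M) →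
      Subsingleton (LocCoh.H b (i + 1 + 1) M) → Subsingleton (LocCoh.H (a ⊔ b) (i + 1 + 1) M) := by
  intro i
  induction i with
  | zero =>
    intro M _ _ hab ha hb
    obtain ⟨T, _, _, j, hj, hTinj⟩ := exists_injective_embedding (R := R) M
    have hS := shortExact_of_linearMaps j (LinearMap.range j).mkQ hj
      (Submodule.mkQ_surjective _) (LinearMap.exact_map_mkQ_range j)
    have : Injective (ModuleCat.of R T) := Module.injective_object_of_injective_module R T
    let C := T ⧸ LinearMap.range j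
    obtain ⟨T', _, _, j', hj', hTinj'⟩ := exists_injective_embedding (R := R) C
    have hS' := shortExact_of_linearMaps j' (LinearMap.range j').mkQ hj'
      (Submodule.mkQ_surjective _) (LinearMap.exact_map_mkQ_range j')
    have : Injective (ModuleCat.of R T') := Module.injective_object_of_injective_module R T'
    -- δ-isomorphisms `H^1_K(C) ≅ H^2_K(M)`
    have hδ : ∀ K : Ideal R, Function.Bijective (δ K hS (0 + 1)) := fun K =>
      δ_bijective_of_subsingleton K hS (0 + 1)
        (subsingleton_H_of_injective K (ModuleCat.of R T) 0)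
        (subsingleton_H_of_injective K (ModuleCat.of R T) 1)
    have haC : Subsingleton ((localCohomology a (0 + 1)).obj (ModuleCat.of R C)) :=
      @Function.Injective.subsingleton _ _ _ (hδ a).1 ha
    have hbC : Subsingleton ((localCohomology b (0 + 1)).obj (ModuleCat.of R C)) :=
      @Function.Injective.subsingleton _ _ _ (hδ b).1 hb
    suffices hC : Subsingleton ((localCohomology (a ⊔ b) (0 + 1)).obj (ModuleCat.of R C)) from
      (Equiv.ofBijective _ (hδ (a ⊔ b))).symm.subsingleton
    -- translate to surjectivity statements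
    have h1 := (subsingleton_H_one_iff (a * b) hS
      (subsingleton_H_of_injective (a * b) (ModuleCat.of R T) 0)).mp hab
    have h2 := (subsingleton_H_one_iff a hS'
      (subsingleton_H_of_injective a (ModuleCat.of R T') 0)).mp haC
    have h3 := (subsingleton_H_one_iff b hS'
      (subsingleton_H_of_injective b (ModuleCat.of R T') 0)).mp hbC
    rw [subsingleton_H_one_iff (a ⊔ b) hS'
      (subsingleton_H_of_injective (a ⊔ b) (ModuleCat.of R T') 0)]
    change ∀ c ∈ DRing.torsionSub (a * b) C, ∃ t ∈ DRing.torsionSub (a * b) T,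
      (LinearMap.range j).mkQ t = c at h1
    change ∀ c ∈ DRing.torsionSub a (T' ⧸ LinearMap.range j'), ∃ t ∈ DRing.torsionSub a T',
      (LinearMap.range j').mkQ t = c at h2
    change ∀ c ∈ DRing.torsionSub b (T' ⧸ LinearMap.range j'), ∃ t ∈ DRing.torsionSub b T',
      (LinearMap.range j').mkQ t = c at h3
    change ∀ c ∈ DRing.torsionSub (a ⊔ b) (T' ⧸ LinearMap.range j'),
      ∃ t ∈ DRing.torsionSub (a ⊔ b) T', (LinearMap.range j').mkQ t = c
    intro z hz
    rw [torsionSub_sup_eq_inf] at hz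
    obtain ⟨u, hu, huz⟩ := h2 z hz.1
    obtain ⟨v, hv, hvz⟩ := h3 z hz.2
    -- `u - v` comes from `c ∈ C`
    have huv : u - v ∈ LinearMap.range j' := by
      rw [← Submodule.Quotient.mk_eq_zero, Submodule.Quotient.mk_sub]
      change (LinearMap.range j').mkQ u - (LinearMap.range j').mkQ v = 0
      rw [huz, hvz, sub_self]
    obtain ⟨c, hc⟩ := huv
    have hcab : c ∈ DRing.torsionSub (a * b) C := by
      have h4 : u - v ∈ DRing.torsionSub (a * b) T' :=
        Submodule.sub_mem _ (torsionSub_anti Ideal.mul_le_left T' hu)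
          (torsionSub_anti Ideal.mul_le_right T' hv)
      obtain ⟨n, hn⟩ := h4
      refine ⟨n, fun r hr => ?_⟩
      apply hj'
      rw [map_smul, hc, hn r hr, map_zero]
    obtain ⟨w, hw, hwc⟩ := h1 c hcab
    have := torsionSub_mul_le_sup_of_injective a b T hw
    obtain ⟨wa, hwa, wb, hwb, rfl⟩ := Submodule.mem_sup.mp this
    refine ⟨u - j' ((LinearMap.range j).mkQ wa), ?_, ?_⟩
    · rw [torsionSub_sup_eq_inf]
      constructor
      · exact Submodule.sub_mem _ hu
          (DRing.map_mem_torsionSub a (j' ∘ₗ (LinearMap.range j).mkQ) hwa)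
      · have h5 : u - j' ((LinearMap.range j).mkQ wa) = v + j' ((LinearMap.range j).mkQ wb) := by
          have h6 : j' ((LinearMap.range j).mkQ (wa + wb)) = u - v := by rw [hwc, hc]
          rw [map_add, map_add] at h6
          rw [sub_eq_iff_eq_add, add_assoc, add_comm (j' _) (j' _), h6]
          abel
        rw [h5]
        exact Submodule.add_mem _ hv
          (DRing.map_mem_torsionSub b (j' ∘ₗ (LinearMap.range j).mkQ) hwb)
    · rw [map_sub, huz]
      have : (LinearMap.range j').mkQ (j' ((LinearMap.range j).mkQ wa)) = 0 := by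
        rw [Submodule.mkQ_apply, Submodule.Quotient.mk_eq_zero]
        exact ⟨_, rfl⟩
      rw [this, sub_zero]
  | succ i ih =>
    intro M _ _ hab ha hb
    obtain ⟨T, _, _, j, hj, hTinj⟩ := exists_injective_embedding (R := R) M
    have hS := shortExact_of_linearMaps j (LinearMap.range j).mkQ hj
      (Submodule.mkQ_surjective _) (LinearMap.exact_map_mkQ_range j)
    have : Injective (ModuleCat.of R T) := Module.injective_object_of_injective_module R T
    have hδ : ∀ (K : Ideal R) (q : ℕ), Function.Bijective (δ K hS (q + 1)) := fun K q =>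
      δ_bijective_of_subsingleton K hS (q + 1)
        (subsingleton_H_of_injective K (ModuleCat.of R T) q)
        (subsingleton_H_of_injective K (ModuleCat.of R T) (q + 1))
    have habC : Subsingleton (LocCoh.H (a * b) (i + 1) (T ⧸ LinearMap.range j)) :=
      @Function.Injective.subsingleton _ _ _ (hδ (a * b) i).1 hab
    have haC : Subsingleton (LocCoh.H a (i + 1 + 1) (T ⧸ LinearMap.range j)) :=
      @Function.Injective.subsingleton _ _ _ (hδ a (i + 1)).1 ha
    have hbC : Subsingleton (LocCoh.H b (i + 1 + 1) (T ⧸ LinearMap.range j)) :=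
      @Function.Injective.subsingleton _ _ _ (hδ b (i + 1)).1 hb
    have := ih (T ⧸ LinearMap.range j) habC haC hbC
    exact (Equiv.ofBijective _ (hδ (a ⊔ b) (i + 1))).symm.subsingleton

/-- Acyclicity from vanishing of `H^1` on a family of ideals. -/
theorem subsingleton_H_of_family (M : Type u) [AddCommGroup M] [Module R M] (C : Set (Ideal R))
    (hsum : ∀ a ∈ C, ∀ b ∈ C, a ⊔ b ∈ C) (hmul : ∀ a ∈ C, ∀ b ∈ C, a * b ∈ C)
    (hzero : (⊥ : Ideal R) ∈ C)
    (hgen : ∀ c ∈ C, ∃ s : Finset R, (∀ x ∈ s, Ideal.span {x} ∈ C) ∧ Ideal.span (s : Set R) = c)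
    (hone : ∀ c ∈ C, Subsingleton (LocCoh.H c 1 M)) :
    ∀ (i : ℕ) (c : Ideal R), c ∈ C → Subsingleton (LocCoh.H c (i + 1) M) := by
  classical
  intro i
  induction i with
  | zero => exact hone
  | succ i ih =>
    intro c hc
    obtain ⟨s, hs, rfl⟩ := hgen c hc
    suffices H : ∀ s' : Finset R, (∀ x ∈ s', Ideal.span {x} ∈ C) →
        Ideal.span (s' : Set R) ∈ C ∧ Subsingleton (LocCoh.H (Ideal.span (s' : Set R)) (i + 1 + 1) M)
      from (H s hs).2
    intro s'
    induction s' using Finset.induction_on with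
    | empty =>
      intro _
      rw [Finset.coe_empty, Ideal.span_empty]
      exact ⟨hzero, cdLE_bot M (i + 1 + 1) (by omega)⟩
    | insert x s' hx ih' =>
      intro hs'
      have hxC : Ideal.span {x} ∈ C := hs' x (Finset.mem_insert_self x s')
      obtain ⟨h1, h2⟩ := ih' (fun y hy => hs' y (Finset.mem_insert_of_mem hy))
      rw [Finset.coe_insert, Ideal.span_insert]
      refine ⟨hsum _ hxC _ h1, ?_⟩
      exact subsingleton_H_sup_of_mul (Ideal.span {x}) (Ideal.span (s' : Set R)) i M
        (ih _ (hmul _ hxC _ h1)) (cdLE_span_singleton x M (i + 1 + 1) (by omega)) h2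

end mvv

end Groth.Agent.Lib.Helper16.LC
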