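import Groth.Agent.Lib.Helper16.LocCohCd

set_option autoImplicit false
universe u
open CategoryTheory Opposite Limits

namespace Groth.Agent.Lib.Helper16.LC

open Groth.Agent.Lib.Helper16.Depth

section general

variable {R : Type u} [CommRing R] (I : Ideal R)
variable {S : ShortComplex (ModuleCat.{u} R)} (hS : S.ShortExact) (p : ℕ)

include hS in
theorem Hmap_g_bijective_of_subsingleton
    (h1 : Subsingleton ((localCohomology I p).obj S.X₁))
    (h2 : Subsingleton ((localCohomology I (p + 1)).obj S.X₁)) :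
    Function.Bijective (Hmap I p S.g) := by
  constructor
  · rw [injective_iff_map_eq_zero]
    intro x hx
    obtain ⟨y, rfl⟩ := Hmap_exact₂ I hS p x hx
    rw [h1.elim y 0, map_zero]
  · intro z
    exact Hmap_exact₃ I hS p z (h2.elim _ _)

include hS in
theorem Hmap_f_bijective_of_subsingleton
    (h1 : Subsingleton ((localCohomology I p).obj S.X₃))
    (h2 : Subsingleton ((localCohomology I (p + 1)).obj S.X₃)) :
    Function.Bijective (Hmap I (p + 1) S.f) := by
  constructor
  · rw [injective_iff_map_eq_zero]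
    intro x hx
    obtain ⟨z, rfl⟩ := Hmap_exact₁ I hS p x hx
    rw [h1.elim z 0, map_zero]
  · intro x
    exact Hmap_exact₂ I hS (p + 1) x (h2.elim _ _)

end general

section principal

variable {R : Type u} [CommRing R] [IsNoetherianRing R]

omit [IsNoetherianRing R] in
theorem subsingleton_H_localizedModule_powers (x : R) (M : Type u) [AddCommGroup M] [Module R M]
    (p : ℕ) :
    Subsingleton (LocCoh.H (Ideal.span {x}) p (LocalizedModule (Submonoid.powers x) M)) := by
  apply subsingleton_H_of_forall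
  intro k
  refine subsingleton_ext_of_smul_bijective (x ^ k) ?_ ?_ p
  · intro y
    obtain ⟨r, rfl⟩ := Ideal.Quotient.mk_surjective y
    change x ^ k • (Ideal.Quotient.mk (Ideal.span {x} ^ k) r) = 0
    rw [Algebra.smul_def]
    have : (algebraMap R (R ⧸ Ideal.span {x} ^ k)) (x ^ k) = 0 :=
      Ideal.Quotient.eq_zero_iff_mem.mpr
        (Ideal.pow_mem_pow (Ideal.mem_span_singleton_self x) k)
    rw [this, zero_mul]
  · exact (Module.End.isUnit_iff _).mp
      (IsLocalizedModule.map_units (S := Submonoid.powers x)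
        (LocalizedModule.mkLinearMap (Submonoid.powers x) M) ⟨x ^ k, ⟨k, rfl⟩⟩)

/-- `H^1_{(a)}(M) ≅ coker (M → M_a)`. -/
theorem nonempty_coker_equiv_H_one (a : R) (M : Type u) [AddCommGroup M] [Module R M] :
    Nonempty ((LocalizedModule (Submonoid.powers a) M ⧸
      LinearMap.range (LocalizedModule.mkLinearMap (Submonoid.powers a) M)) ≃ₗ[R]
        LocCoh.H (Ideal.span {a}) 1 M) := by
  let S := Submonoid.powers a
  let Mx := LocalizedModule S M
  let ℓ : M →ₗ[R] Mx := LocalizedModule.mkLinearMap S M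
  have hMx := subsingleton_H_localizedModule_powers a M
  have hA := shortExact_of_linearMaps (LinearMap.ker ℓ).subtype ℓ.rangeRestrict
    (Submodule.injective_subtype _) ℓ.surjective_rangeRestrict (by
      intro m
      constructor
      · intro hm
        refine ⟨⟨m, ?_⟩, rfl⟩
        rw [LinearMap.mem_ker]
        exact congrArg Subtype.val hm
      · rintro ⟨⟨m', hm'⟩, rfl⟩
        apply Subtype.ext
        exact hm')
  have hB := shortExact_of_linearMaps (LinearMap.range ℓ).subtype (LinearMap.range ℓ).mkQ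
    (Submodule.injective_subtype _) (Submodule.mkQ_surjective _)
    (LinearMap.exact_subtype_mkQ _)
  have hker : ∀ m : LinearMap.ker ℓ, m ∈ DRing.torsionSub (Ideal.span {a}) (LinearMap.ker ℓ) := by
    rintro ⟨m, hm⟩
    rw [LinearMap.mem_ker] at hm
    obtain ⟨⟨_, k, rfl⟩, hs⟩ := (IsLocalizedModule.eq_zero_iff S ℓ).mp hm
    apply mem_torsionSub_span_singleton (k := k)
    apply Subtype.ext
    exact hs
  have hcoker : ∀ c : Mx ⧸ LinearMap.range ℓ,
      c ∈ DRing.torsionSub (Ideal.span {a}) (Mx ⧸ LinearMap.range ℓ) := by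
    intro c
    obtain ⟨y, rfl⟩ := Submodule.Quotient.mk_surjective _ c
    obtain ⟨⟨m, ⟨_, k, rfl⟩⟩, hy⟩ := IsLocalizedModule.surj S ℓ y
    apply mem_torsionSub_span_singleton (k := k)
    rw [← Submodule.Quotient.mk_smul, Submodule.Quotient.mk_eq_zero]
    exact ⟨m, hy.symm⟩
  have htop : DRing.torsionSub (Ideal.span {a}) (Mx ⧸ LinearMap.range ℓ) = ⊤ :=
    eq_top_iff.mpr (fun c _ => hcoker c)
  let e1 : (Mx ⧸ LinearMap.range ℓ) ≃ₗ[R]
      DRing.torsionSub (Ideal.span {a}) (Mx ⧸ LinearMap.range ℓ) :=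
    (LinearEquiv.ofTop _ htop).symm
  let e2 := H0equiv (Ideal.span {a}) (ModuleCat.of R (Mx ⧸ LinearMap.range ℓ))
  let e3 := LinearEquiv.ofBijective (δ (Ideal.span {a}) hB 0)
    (δ_bijective_of_subsingleton (Ideal.span {a}) hB 0 (hMx 0) (hMx 1))
  let e4 := LinearEquiv.ofBijective (Hmap (Ideal.span {a}) (0 + 1) (ModuleCat.ofHom ℓ.rangeRestrict))
    (Hmap_g_bijective_of_subsingleton (Ideal.span {a}) hA (0 + 1)
      (subsingleton_H_succ_of_torsion _ 0 _ hker)
      (subsingleton_H_succ_of_torsion _ 1 _ hker))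
  exact ⟨e1.trans (e2.symm.trans (e3.trans e4.symm))⟩

end principal

end Groth.Agent.Lib.Helper16.LC
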