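import Groth.Prelude.Def_DRing3
import Mathlib.RingTheory.Filtration
import Mathlib.Algebra.Module.Injective

/-!
# `Γ_I(E)` is injective for `E` injective over a Noetherian ring (helper16)

* `exists_pow_smul_eq_zero_of_fg` : a finitely generated submodule of `Γ_I(E)` is killed by a power of `I`.
* `baer_torsionSub`, `injective_torsionSub`.
-/

set_option autoImplicit false
universe u

namespace Groth.Agent.Lib.Helper16.LC

section torsionInjective

variable {R : Type u} [CommRing R] (I : Ideal R) (E : Type u) [AddCommGroup E] [Module R E]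

theorem exists_pow_smul_eq_zero_of_fg (N : Submodule R E) (hN : N.FG)
    (hle : N ≤ DRing.torsionSub I E) : ∃ n : ℕ, ∀ a ∈ I ^ n, ∀ x ∈ N, a • x = 0 := by
  revert hle
  refine Submodule.fg_induction
    (motive := fun N _ => N ≤ DRing.torsionSub I E → ∃ n : ℕ, ∀ a ∈ I ^ n, ∀ x ∈ N, a • x = 0)
    ?_ ?_ N hN
  · intro x hx
    obtain ⟨n, hn⟩ := hx (Submodule.mem_span_singleton_self x)
    refine ⟨n, fun a ha y hy => ?_⟩
    obtain ⟨r, rfl⟩ := Submodule.mem_span_singleton.mp hy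
    rw [smul_comm, hn a ha, smul_zero]
  · intro N₁ N₂ _ _ h₁ h₂ hle
    obtain ⟨n₁, hn₁⟩ := h₁ (le_sup_left.trans hle)
    obtain ⟨n₂, hn₂⟩ := h₂ (le_sup_right.trans hle)
    refine ⟨max n₁ n₂, fun a ha y hy => ?_⟩
    obtain ⟨y₁, hy₁, y₂, hy₂, rfl⟩ := Submodule.mem_sup.mp hy
    rw [smul_add, hn₁ a (Ideal.pow_le_pow_right (le_max_left _ _) ha) y₁ hy₁,
      hn₂ a (Ideal.pow_le_pow_right (le_max_right _ _) ha) y₂ hy₂, add_zero]

variable [IsNoetherianRing R]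

theorem baer_torsionSub (hE : Module.Injective R E) : Module.Baer R (DRing.torsionSub I E) := by
  intro 𝔟 g
  -- Step 1: a uniform power of `I` kills the image of `g`
  let g₀ : 𝔟 →ₗ[R] E := (DRing.torsionSub I E).subtype ∘ₗ g
  have hfg : (LinearMap.range g₀).FG := by
    rw [LinearMap.range_eq_map]
    exact Submodule.FG.map _ ((Submodule.fg_top _).mpr (IsNoetherian.noetherian 𝔟))
  have hle : LinearMap.range g₀ ≤ DRing.torsionSub I E := by
    rintro _ ⟨b, rfl⟩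
    exact (g b).2
  obtain ⟨n, hn⟩ := exists_pow_smul_eq_zero_of_fg I E _ hfg hle
  -- Step 2: Artin–Rees
  obtain ⟨k, hk⟩ := Ideal.exists_pow_inf_eq_pow_smul I (𝔟 : Submodule R R)
  have hAR : I ^ (n + k) ⊓ 𝔟 ≤ I ^ n • 𝔟 := by
    have h1 := hk (n + k) (Nat.le_add_left k n)
    simp only [smul_eq_mul, Ideal.mul_top, Nat.add_sub_cancel] at h1
    rw [h1]
    exact Submodule.smul_mono le_rfl inf_le_right
  have hzero : ∀ b (hb : b ∈ 𝔟), b ∈ I ^ (n + k) → g₀ ⟨b, hb⟩ = 0 := by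
    intro b hb hbI
    have hmem : b ∈ I ^ n • 𝔟 := hAR ⟨hbI, hb⟩
    have key : b ∈ 𝔟 ∧ ∀ hb' : b ∈ 𝔟, g₀ ⟨b, hb'⟩ = 0 := by
      refine Submodule.smul_induction_on hmem ?_ ?_
      · intro a ha b' hb'
        refine ⟨𝔟.smul_mem a hb', fun hb'' => ?_⟩
        have : (⟨a • b', hb''⟩ : 𝔟) = a • ⟨b', hb'⟩ := rfl
        rw [this, map_smul]
        exact hn a ha _ ⟨⟨b', hb'⟩, rfl⟩
      · rintro x y ⟨hx, hx'⟩ ⟨hy, hy'⟩
        refine ⟨𝔟.add_mem hx hy, fun hxy => ?_⟩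
        have : (⟨x + y, hxy⟩ : 𝔟) = ⟨x, hx⟩ + ⟨y, hy⟩ := rfl
        rw [this, map_add, hx' hx, hy' hy, add_zero]
    exact key.2 hb
  -- Step 3: extend along `𝔟/(𝔟 ∩ I^m) ↪ R/I^m`
  let m := n + k
  let K : Submodule R 𝔟 := Submodule.comap 𝔟.subtype (I ^ m)
  let f : (𝔟 ⧸ K) →ₗ[R] (R ⧸ I ^ m) := Submodule.mapQ K (I ^ m) 𝔟.subtype le_rfl
  have hf : Function.Injective f := by
    rw [injective_iff_map_eq_zero]
    intro x hx
    obtain ⟨b, rfl⟩ := Submodule.Quotient.mk_surjective K x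
    rw [Submodule.Quotient.mk_eq_zero]
    have h1 : f (Submodule.Quotient.mk b) = Submodule.Quotient.mk (b : R) := rfl
    rw [h1, Submodule.Quotient.mk_eq_zero] at hx
    exact hx
  let gq : (𝔟 ⧸ K) →ₗ[R] E := Submodule.liftQ K g₀ (by
    rintro ⟨b, hb⟩ hbK
    exact hzero b hb hbK)
  obtain ⟨h, hh⟩ := hE.out f hf gq
  have hmemΓ : ∀ r : R, (h ∘ₗ (I ^ m).mkQ) r ∈ DRing.torsionSub I E := by
    intro r
    refine ⟨m, fun a ha => ?_⟩
    rw [LinearMap.comp_apply, ← map_smul, ← map_smul]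
    have : a • r ∈ I ^ m := Ideal.mul_mem_right r _ ha
    rw [Submodule.mkQ_apply, (Submodule.Quotient.mk_eq_zero (I ^ m)).mpr this, map_zero]
  refine ⟨(h ∘ₗ (I ^ m).mkQ).codRestrict (DRing.torsionSub I E) hmemΓ, fun b hb => ?_⟩
  apply Subtype.ext
  change h ((I ^ m).mkQ b) = (g ⟨b, hb⟩ : E)
  have h1 := hh (K.mkQ ⟨b, hb⟩)
  exact h1

theorem injective_torsionSub (hE : Module.Injective R E) :
    Module.Injective R (DRing.torsionSub I E) :=
  (baer_torsionSub I E hE).injective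

end torsionInjective

end Groth.Agent.Lib.Helper16.LC
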