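import Groth.Agent.Lib.Helper16.LocCohCompare
import Groth.Agent.Lib.Helper16.LocCohLocalize
import Groth.Agent.Lib.Helper16.LocCohPrincipal
import Groth.Agent.Lib.Helper16.LocCohMV
import Groth.Agent.Lib.Helper16.TorsionInjective

/-!
# Base facts for the sequence `H^i_{a+Rb}(M) → H^i_a(M) → H^i_a(M_b)` (helper16)

* `subsingleton_H_of_mem_of_smul_bijective` : `H^p_c(N) = 0` if some `b ∈ c` acts bijectively on `N`.
* `exists_pow_smul_sub_eq_zero_of_injective` : an injective module over a Noetherian ring is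
  divisible by `b^s` modulo `b`-torsion.
* `xα`, `xβ` : the two maps; `xβ_xα`, `x_exact_zero`, `xβ_zero_surjective_of_injective`,
  `subsingleton_H_localizedModule_of_injective`.
-/

set_option autoImplicit false
universe u
open CategoryTheory Opposite Limits

namespace Groth.Agent.Lib.Helper16.LC

open Groth.Agent.Lib.Helper16.Depth

section general

variable {R : Type u} [CommRing R]

theorem subsingleton_H_of_mem_of_smul_bijective (c : Ideal R) (b : R) (hb : b ∈ c) (N : Type u)
    [AddCommGroup N] [Module R N]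
    (hN : ∀ k : ℕ, Function.Bijective (fun y : N => b ^ k • y)) (p : ℕ) :
    Subsingleton (LocCoh.H c p N) := by
  apply subsingleton_H_of_forall
  intro k
  refine subsingleton_ext_of_smul_bijective (b ^ k) ?_ (hN k) p
  intro y
  obtain ⟨r, rfl⟩ := Ideal.Quotient.mk_surjective y
  change b ^ k • (Ideal.Quotient.mk (c ^ k) r) = 0
  rw [Algebra.smul_def]
  have : (algebraMap R (R ⧸ c ^ k)) (b ^ k) = 0 :=
    Ideal.Quotient.eq_zero_iff_mem.mpr (Ideal.pow_mem_pow hb k)
  rw [this, zero_mul]

theorem smul_pow_bijective_localizedModule (b : R) (M : Type u) [AddCommGroup M] [Module R M]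
    (k : ℕ) : Function.Bijective (fun y : LocalizedModule (Submonoid.powers b) M => b ^ k • y) :=
  (Module.End.isUnit_iff _).mp
    (IsLocalizedModule.map_units (S := Submonoid.powers b)
      (LocalizedModule.mkLinearMap (Submonoid.powers b) M) ⟨b ^ k, ⟨k, rfl⟩⟩)

variable [IsNoetherianRing R]

/-- An injective module over a Noetherian ring is divisible by `b^s` modulo `b`-torsion. -/
theorem exists_pow_smul_sub_eq_zero_of_injective (b : R) (E : Type u) [AddCommGroup E]
    [Module R E] [Module.Injective R E] (e : E) (s : ℕ) :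
    ∃ (w : E) (t : ℕ), b ^ t • (b ^ s • w - e) = 0 := by
  let f : ℕ →o Submodule R R :=
    ⟨fun n => LinearMap.ker (LinearMap.lsmul R R (b ^ n)), by
      intro n m hnm r hr
      rw [LinearMap.mem_ker, LinearMap.lsmul_apply] at hr ⊢
      obtain ⟨d, rfl⟩ := Nat.exists_eq_add_of_le hnm
      rw [pow_add, mul_comm, mul_smul, hr, smul_zero]⟩
  obtain ⟨N, hN⟩ := monotone_stabilizes_iff_noetherian.mpr (inferInstance : IsNoetherian R R) f
  have hNs : f N = f (N + s) := hN (N + s) (Nat.le_add_right N s)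
  let K : Submodule R R := f (N + s)
  let μ : (R ⧸ K) →ₗ[R] R := K.liftQ (LinearMap.lsmul R R (b ^ (N + s))) le_rfl
  have hμ : Function.Injective μ := by
    rw [← LinearMap.ker_eq_bot]
    exact Submodule.ker_liftQ_eq_bot _ _ _ le_rfl
  let φ₀ : R →ₗ[R] E := (LinearMap.toSpanSingleton R E e).comp (LinearMap.lsmul R R (b ^ N))
  have hφ₀ : K ≤ LinearMap.ker φ₀ := by
    intro r hr
    have hr' : r ∈ f N := by rw [hNs]; exact hr
    have hr'' : b ^ N • r = 0 := hr'
    rw [LinearMap.mem_ker, LinearMap.comp_apply, LinearMap.lsmul_apply, hr'', map_zero]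
  let φ : (R ⧸ K) →ₗ[R] E := K.liftQ φ₀ hφ₀
  obtain ⟨g, hg⟩ := Module.Injective.extension_property R E (R ⧸ K) R μ hμ φ
  refine ⟨g 1, N, ?_⟩
  have h1 : g (μ (Submodule.Quotient.mk 1)) = φ (Submodule.Quotient.mk 1) := by
    rw [← hg]
    rfl
  have h2 : μ (Submodule.Quotient.mk 1) = b ^ (N + s) • (1 : R) := rfl
  have h3 : φ (Submodule.Quotient.mk 1) = (b ^ N • (1 : R)) • e := rfl
  rw [h2, h3, map_smul] at h1
  rw [smul_sub, smul_smul, ← pow_add, h1, smul_assoc, one_smul, sub_self]

end general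

section xseq

variable {R : Type u} [CommRing R] (a : Ideal R) (b : R)

/-- The localization map `M → M_b` as a morphism of `ModuleCat R`. -/
noncomputable abbrev xℓ (M : Type u) [AddCommGroup M] [Module R M] :
    ModuleCat.of R M ⟶ ModuleCat.of R (LocalizedModule (Submonoid.powers b) M) :=
  ModuleCat.ofHom (LocalizedModule.mkLinearMap (Submonoid.powers b) M)

/-- The comparison map `H^i_{a+Rb}(M) → H^i_a(M)`. -/
noncomputable abbrev xα (i : ℕ) (M : Type u) [AddCommGroup M] [Module R M] :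
    LocCoh.H (a ⊔ Ideal.span {b}) i M →ₗ[R] LocCoh.H a i M :=
  cmp (le_sup_left : a ≤ a ⊔ Ideal.span {b}) i (ModuleCat.of R M)

/-- The map `H^i_a(M) → H^i_a(M_b)`. -/
noncomputable abbrev xβ (i : ℕ) (M : Type u) [AddCommGroup M] [Module R M] :
    LocCoh.H a i M →ₗ[R] LocCoh.H a i (LocalizedModule (Submonoid.powers b) M) :=
  Hmap a i (xℓ b M)

theorem subsingleton_H_sup_span_localizedModule (M : Type u) [AddCommGroup M] [Module R M]
    (p : ℕ) :
    Subsingleton (LocCoh.H (a ⊔ Ideal.span {b}) p (LocalizedModule (Submonoid.powers b) M)) :=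
  subsingleton_H_of_mem_of_smul_bijective _ b
    (Ideal.mem_sup_right (Ideal.mem_span_singleton_self b)) _
    (smul_pow_bijective_localizedModule b M) p

theorem xβ_xα (i : ℕ) (M : Type u) [AddCommGroup M] [Module R M]
    (t : LocCoh.H (a ⊔ Ideal.span {b}) i M) : xβ a b i M (xα a b i M t) = 0 := by
  have h1 := cmp_Hmap (le_sup_left : a ≤ a ⊔ Ideal.span {b}) i (xℓ b M) t
  have h2 := subsingleton_H_sup_span_localizedModule a b M i
  rw [h2.elim (Hmap (a ⊔ Ideal.span {b}) i (xℓ b M) t) 0, map_zero] at h1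
  exact h1.symm

theorem xα_zero_injective (M : Type u) [AddCommGroup M] [Module R M] :
    Function.Injective (xα a b 0 M) :=
  cmp_zero_injective _ _

theorem x_exact_zero (M : Type u) [AddCommGroup M] [Module R M] (u : LocCoh.H a 0 M)
    (hu : xβ a b 0 M u = 0) : ∃ t, xα a b 0 M t = u := by
  have h1 := H0toM_naturality a (xℓ b M) u
  rw [hu, map_zero] at h1
  have h2 : LocalizedModule.mkLinearMap (Submonoid.powers b) M
      (H0toM a (ModuleCat.of R M) u) = 0 := h1.symm
  obtain ⟨⟨_, n, rfl⟩, hn⟩ := (IsLocalizedModule.eq_zero_iff (Submonoid.powers b)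
    (LocalizedModule.mkLinearMap (Submonoid.powers b) M)).mp h2
  have hb : H0toM a (ModuleCat.of R M) u ∈ DRing.torsionSub (Ideal.span {b}) M :=
    mem_torsionSub_span_singleton (k := n) hn
  have ha : H0toM a (ModuleCat.of R M) u ∈ DRing.torsionSub a M := H0toM_mem a _ u
  have hc : H0toM a (ModuleCat.of R M) u ∈ DRing.torsionSub (a ⊔ Ideal.span {b}) M := by
    rw [torsionSub_sup_eq_inf]
    exact ⟨ha, hb⟩
  refine ⟨(H0equiv (a ⊔ Ideal.span {b}) (ModuleCat.of R M)).symm ⟨_, hc⟩, ?_⟩
  apply H0toM_injective a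
  rw [H0toM_cmp, ← H0equiv_apply, LinearEquiv.apply_symm_apply]

variable [IsNoetherianRing R]

theorem exists_pow_smul_mem_torsionSub (J : Type u) [AddCommGroup J] [Module R J] (e : J)
    (k : ℕ) (h : ∀ x ∈ a ^ k, ∃ n : ℕ, b ^ n • x • e = 0) :
    ∃ n : ℕ, ∀ x ∈ a ^ k, x • b ^ n • e = 0 := by
  let f : ℕ →o Submodule R R :=
    ⟨fun n => LinearMap.ker (LinearMap.toSpanSingleton R J (b ^ n • e)), by
      intro n m hnm r hr
      rw [LinearMap.mem_ker, LinearMap.toSpanSingleton_apply] at hr ⊢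
      obtain ⟨d, rfl⟩ := Nat.exists_eq_add_of_le hnm
      rw [pow_add, mul_comm, mul_smul, smul_comm, hr, smul_zero]⟩
  obtain ⟨N, hN⟩ := monotone_stabilizes_iff_noetherian.mpr (inferInstance : IsNoetherian R R) f
  refine ⟨N, fun x hx => ?_⟩
  obtain ⟨n, hn⟩ := h x hx
  have hxn : x ∈ f (max n N) := by
    change x ∈ LinearMap.ker (LinearMap.toSpanSingleton R J (b ^ (max n N) • e))
    rw [LinearMap.mem_ker, LinearMap.toSpanSingleton_apply]
    obtain ⟨d, hd⟩ := Nat.exists_eq_add_of_le (le_max_left n N)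
    rw [hd, pow_add, mul_comm, mul_smul, smul_comm x, smul_comm x, hn, smul_zero]
  rw [← hN (max n N) (le_max_right n N)] at hxn
  change x ∈ LinearMap.ker (LinearMap.toSpanSingleton R J (b ^ N • e)) at hxn
  rwa [LinearMap.mem_ker, LinearMap.toSpanSingleton_apply] at hxn

theorem xβ_zero_surjective_of_injective (J : Type u) [AddCommGroup J] [Module R J]
    [hJ : Module.Injective R J] : Function.Surjective (xβ a b 0 J) := by
  intro v
  let S := Submonoid.powers b
  let ℓ := LocalizedModule.mkLinearMap S J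
  set m' := H0toM a (ModuleCat.of R (LocalizedModule S J)) v with hm'
  obtain ⟨k, hk⟩ : m' ∈ DRing.torsionSub a (LocalizedModule S J) := H0toM_mem a _ v
  obtain ⟨⟨e, ⟨_, s, rfl⟩⟩, he⟩ := IsLocalizedModule.surj S ℓ m'
  have he' : b ^ s • m' = ℓ e := he
  -- a power of `b` moves `e` into the torsion submodule
  have h1 : ∀ x ∈ a ^ k, ∃ n : ℕ, b ^ n • x • e = 0 := by
    intro x hx
    have : ℓ (x • e) = 0 := by
      rw [map_smul, ← he', smul_comm, hk x hx, smul_zero]
    obtain ⟨⟨_, n, rfl⟩, hn⟩ := (IsLocalizedModule.eq_zero_iff S ℓ).mp this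
    exact ⟨n, hn⟩
  obtain ⟨n, hn⟩ := exists_pow_smul_mem_torsionSub a b J e k h1
  have hmem : b ^ n • e ∈ DRing.torsionSub a J := ⟨k, hn⟩
  have hEinj : Module.Injective R (DRing.torsionSub a J) := injective_torsionSub a J hJ
  obtain ⟨w, t, hw⟩ := exists_pow_smul_sub_eq_zero_of_injective b (DRing.torsionSub a J)
    ⟨b ^ n • e, hmem⟩ (n + s)
  have hw' : b ^ t • (b ^ (n + s) • (w : J) - b ^ n • e) = 0 := congrArg Subtype.val hw
  -- `ℓ w = m'`
  have h2 : ℓ (b ^ (n + s) • (w : J) - b ^ n • e) = 0 :=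
    (IsLocalizedModule.eq_zero_iff S ℓ).mpr ⟨⟨b ^ t, ⟨t, rfl⟩⟩, hw'⟩
  have h3 : b ^ (n + s) • ℓ (w : J) = b ^ (n + s) • m' := by
    rw [map_sub, sub_eq_zero, map_smul, map_smul] at h2
    rw [h2, ← he', smul_smul, ← pow_add]
  have h4 : ℓ (w : J) = m' := (smul_pow_bijective_localizedModule b J (n + s)).1 h3
  refine ⟨(H0equiv a (ModuleCat.of R J)).symm w, ?_⟩
  apply H0toM_injective a
  rw [H0toM_naturality, ← H0equiv_apply, LinearEquiv.apply_symm_apply]
  exact h4

theorem subsingleton_H_localizedModule_of_injective (J : Type u) [AddCommGroup J] [Module R J]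
    [hJ : Module.Injective R J] (i : ℕ) :
    Subsingleton (LocCoh.H a (i + 1) (LocalizedModule (Submonoid.powers b) J)) := by
  have hobj : Injective (ModuleCat.of R J) := Module.injective_object_of_injective_module R J
  have h1 : Subsingleton (LocCoh.H a (i + 1) J) :=
    subsingleton_H_of_injective a (ModuleCat.of R J) i
  have hnoe : IsNoetherianRing (Localization (Submonoid.powers b)) :=
    IsLocalization.isNoetherianRing (Submonoid.powers b) _ inferInstance
  obtain ⟨e⟩ := DTL.nonempty_localized_H_equiv a (Submonoid.powers b) J (i + 1)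
  obtain ⟨φ, -⟩ := DTL.semiIso_H (R' := Localization (Submonoid.powers b)) a (i + 1)
    (LocalizedModule (Submonoid.powers b) J)
  have h2 : Subsingleton (LocCoh.H (Ideal.map (algebraMap R (Localization (Submonoid.powers b))) a)
      (i + 1) (LocalizedModule (Submonoid.powers b) J)) := e.symm.toEquiv.subsingleton
  exact φ.symm.toEquiv.subsingleton

end xseq

end Groth.Agent.Lib.Helper16.LC
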