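import Groth.Agent.Lib.Helper18.MCMFree
import Groth.Agent.Lib.Helper18.CM2
import Groth.Agent.S0321

/-!
# The Auslander–Buchsbaum inequality over a regular local ring (helper16)

For a finite module `N` over a regular local ring `A` of dimension `d`:
`d ≤ t + depth N → pd N ≤ t`, and `d + 1 ≤ t + depth N → pd N < t`.
-/

set_option autoImplicit false
universe u

open IsLocalRing CategoryTheory

namespace Groth.Agent.Lib.Helper16.PDR

open Groth.Agent.Lib.Helper18.CM

theorem hasProjectiveDimensionLT_succ_of_le_depth (A : Type u) [CommRing A] [IsRegularLocalRing A]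
    (d : ℕ) (hd : ringKrullDim A = d) :
    ∀ (t : ℕ) (N : Type u) [AddCommGroup N] [Module A N] [Module.Finite A N],
      (d : ℕ∞) ≤ (t : ℕ∞) + LocCoh.depth A N →
      HasProjectiveDimensionLT (ModuleCat.of A N) (t + 1) := by
  intro t
  induction t with
  | zero =>
    intro N _ _ _ h
    rw [Nat.cast_zero, zero_add] at h
    have hfree : Module.Free A N := by
      apply free_of_le_depth A N
      rw [hd]
      exact_mod_cast h
    have hproj : Projective (ModuleCat.of A N) :=
      (IsProjective.iff_projective _).mp (inferInstance : Module.Projective A N)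
    infer_instance
  | succ t ih =>
    intro N _ _ _ h
    obtain ⟨n, π, hπ⟩ := Module.Finite.exists_fin' A N
    have hS := LinearMap.shortExact_shortComplexKer hπ
    have hproj : Projective (π.shortComplexKer).X₂ := by
      rw [← IsProjective.iff_projective]
      change Module.Projective A (Fin n → A)
      infer_instance
    have hdl := (Groth.Agent.S0321.result A (maximalIdeal A) (LinearMap.ker π) (Fin n → A) N
      (LinearMap.ker π).subtype π (LinearMap.ker π).injective_subtype hπ
      (LinearMap.exact_subtype_ker_map π)).2.2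
    have hF : (d : ℕ∞) ≤ LocCoh.depth A (Fin n → A) := by
      have := ringKrullDim_le_depth_of_free A (Fin n → A)
      rw [hd] at this
      exact_mod_cast this
    have hK : (d : ℕ∞) ≤ (t : ℕ∞) + LocCoh.depth A (LinearMap.ker π) := by
      change min (LocCoh.depth A (Fin n → A)) (LocCoh.depth A N + 1) ≤
        LocCoh.depth A (LinearMap.ker π) at hdl
      rcases min_le_iff.mp hdl with h1 | h1
      · exact (hF.trans h1).trans le_add_self
      · calc (d : ℕ∞) ≤ ((t + 1 : ℕ) : ℕ∞) + LocCoh.depth A N := h
          _ = (t : ℕ∞) + (LocCoh.depth A N + 1) := by push_cast; rw [add_assoc, add_comm 1]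
          _ ≤ (t : ℕ∞) + LocCoh.depth A (LinearMap.ker π) := add_le_add le_rfl h1
    have hKpd := ih (LinearMap.ker π) hK
    exact (hS.hasProjectiveDimensionLT_X₃_iff t hproj).mpr hKpd

theorem hasProjectiveDimensionLT_of_le_depth (A : Type u) [CommRing A] [IsRegularLocalRing A]
    (d : ℕ) (hd : ringKrullDim A = d) (t : ℕ) (N : Type u) [AddCommGroup N] [Module A N]
    [Module.Finite A N] (h : ((d + 1 : ℕ) : ℕ∞) ≤ (t : ℕ∞) + LocCoh.depth A N) :
    HasProjectiveDimensionLT (ModuleCat.of A N) t := by
  cases t with
  | zero =>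
    rw [Nat.cast_zero, zero_add] at h
    have hsub : Subsingleton N := by
      by_contra hns
      rw [not_subsingleton_iff_nontrivial] at hns
      have h1 := depth_le_supportDim (R := A) N
      have h2 := Module.supportDim_le_ringKrullDim A N
      rw [hd] at h2
      have h3 : ((LocCoh.depth A N : ℕ∞) : WithBot ℕ∞) ≤ ((d : ℕ∞) : WithBot ℕ∞) := h1.trans h2
      have h4 : LocCoh.depth A N ≤ (d : ℕ∞) := by exact_mod_cast h3
      have h5 : ((d + 1 : ℕ) : ℕ∞) ≤ (d : ℕ∞) := h.trans h4
      have h6 : d + 1 ≤ d := by exact_mod_cast h5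
      omega
    have hz : Limits.IsZero (ModuleCat.of A N) := ModuleCat.isZero_of_subsingleton _
    exact hz.hasProjectiveDimensionLT_zero
  | succ t =>
    apply hasProjectiveDimensionLT_succ_of_le_depth A d hd t N
    have h' : (d : ℕ∞) + 1 ≤ ((t : ℕ∞) + LocCoh.depth A N) + 1 := by
      calc (d : ℕ∞) + 1 = ((d + 1 : ℕ) : ℕ∞) := by push_cast; rfl
        _ ≤ ((t + 1 : ℕ) : ℕ∞) + LocCoh.depth A N := h
        _ = ((t : ℕ∞) + LocCoh.depth A N) + 1 := by push_cast; rw [add_assoc, add_comm 1, add_assoc]
    exact (ENat.add_le_add_iff_right ENat.one_ne_top).mp h'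

end Groth.Agent.Lib.Helper16.PDR
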