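import Groth.Agent.S12907
import Groth.Agent.S12908
import Groth.Agent.Lib.Helper16.PDRegular
import Groth.Agent.Lib.Helper16.CMLocalRing
import Groth.Agent.Lib.Helper16.RegularGorenstein
import Groth.Agent.Lib.Helper16.LocCohIndepBase
import Groth.Agent.Lib.Helper16.LocCohDepth
import Groth.Agent.Lib.Helper11.GorCM2
import Groth.Agent.Lib.Helper18.CM2

/-!
# Hilbert–Burch for Cohen–Macaulay quotients of codimension two of regular local rings (helper16)

`depth_eq_of_surjective`, `hb_aux`, `exists_hilbertBurch`.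
-/

set_option autoImplicit false
universe u
open CategoryTheory IsLocalRing Matrix

namespace Groth.Agent.Lib.Helper16.HB

open Groth.Agent.Lib.Helper16.LC Groth.Agent.Lib.Helper16.DTL

section depth

variable {A B : Type u} [CommRing A] [CommRing B] [IsLocalRing A] [IsLocalRing B]
  [IsNoetherianRing A] [IsNoetherianRing B] [Algebra A B]

/-- depth does not depend on the base ring along a surjection -/
theorem depth_eq_of_surjective (h : Function.Surjective (algebraMap A B)) (N : Type u)
    [AddCommGroup N] [Module B N] [Module A N] [IsScalarTower A B N] [Module.Finite B N]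
    [Nontrivial N] : LocCoh.depth A N = LocCoh.depth B N := by
  have hfinB : Module.Finite A B := Module.Finite.of_surjective (Algebra.linearMap A B) h
  have hfinA : Module.Finite A N := Module.Finite.trans B N
  have hmap : (maximalIdeal A).map (algebraMap A B) = maximalIdeal B :=
    IsLocalRing.map_maximalIdeal_of_surjective (algebraMap A B) h
  obtain ⟨c, hc⟩ := ENat.ne_top_iff_exists.mp
    (Groth.Agent.Lib.Helper18.CM.depth_ne_top (R := A) N)
  obtain ⟨c', hc'⟩ := ENat.ne_top_iff_exists.mp
    (Groth.Agent.Lib.Helper18.CM.depth_ne_top (R := B) N)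
  have hIA := Groth.Agent.Lib.Helper18.CM.maximalIdeal_smul_top_ne_top (R := A) N
  have hIB := Groth.Agent.Lib.Helper18.CM.maximalIdeal_smul_top_ne_top (R := B) N
  have hsemi : ∀ i, SemiIso A B (LocCoh.H (maximalIdeal B) i N) (LocCoh.H (maximalIdeal A) i N) := by
    intro i
    have := semiIso_H (R := A) (R' := B) (maximalIdeal A) i N
    rwa [hmap] at this
  have htrans : ∀ i, Subsingleton (LocCoh.H (maximalIdeal B) i N) ↔
      Subsingleton (LocCoh.H (maximalIdeal A) i N) := by
    intro i
    obtain ⟨φ, -⟩ := hsemi i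
    exact φ.toEquiv.subsingleton_congr
  rw [← hc, ← hc']
  congr 1
  by_contra hne
  rcases Nat.lt_or_gt_of_ne hne with hlt | hlt
  · -- c < c'
    have h1 := subsingleton_H_of_lt_idealDepth (maximalIdeal B) N hIB c' (le_of_eq hc') c hlt
    have h2 := nontrivial_H_of_idealDepth_eq (maximalIdeal A) N hIA c hc.symm
    exact not_subsingleton _ ((htrans c).mp h1)
  · have h1 := subsingleton_H_of_lt_idealDepth (maximalIdeal A) N hIA c (le_of_eq hc) c' hlt
    have h2 := nontrivial_H_of_idealDepth_eq (maximalIdeal B) N hIB c' hc'.symm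
    exact not_subsingleton _ ((htrans c').mpr h1)

end depth

section hbaux

variable {A : Type u} [CommRing A] [IsLocalRing A] [IsNoetherianRing A] (I : Ideal A)

theorem hb_aux (hht : I.height = 2) (n m : ℕ) (hn : n = I.spanFinrank)
    (Ψ : Matrix (Fin n) (Fin m) A) (π : (Fin n → A) →ₗ[A] A)
    (hΨinj : LinearMap.ker Ψ.mulVecLin = ⊥) (hex : LinearMap.ker π = LinearMap.range Ψ.mulVecLin)
    (hrange : LinearMap.range π = I) :
    ∃ (r : ℕ) (φ : Matrix (Fin (r + 1)) (Fin r) A),
      Ideal.span (Set.range (fun i : Fin (r + 1) =>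
        (-1 : A) ^ (i : ℕ) * (φ.submatrix i.succAbove id).det)) = I ∧
      I.spanFinrank = r + 1 ∧
      Function.Injective φ.mulVecLin ∧
      LinearMap.range φ.mulVecLin =
        LinearMap.ker (Fintype.linearCombination A (fun i : Fin (r + 1) =>
          (-1 : A) ^ (i : ℕ) * (φ.submatrix i.succAbove id).det)) := by
  classical
  have hI0 : I ≠ ⊥ := by
    rintro rfl
    rw [Ideal.height_bot] at hht
    exact absurd hht (by norm_num)
  have hrne : LinearMap.range π ≠ ⊥ := by rw [hrange]; exact hI0
  obtain ⟨hnm, ⟨a, ha, haI⟩, hdepth2⟩ := Groth.Agent.S12907.result m n Ψ π hΨinj hex hrne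
  rw [hrange] at haI
  -- a is a unit
  have haunit : IsUnit a := by
    by_contra hna
    have hle : I ≤ Ideal.span {a} := by
      rw [haI]
      exact Ideal.mul_le_inf.trans inf_le_left
    have h1 := Ideal.height_mono hle
    have h2 := Ideal.height_span_singleton_le_one hna
    rw [hht] at h1
    have := le_trans h1 h2
    norm_num at this
  subst hnm
  have h8 := Groth.Agent.S12908.result m Ψ hdepth2 1 (one_mem _)
  simp only [one_mul] at h8
  obtain ⟨-, hker, hrange'⟩ := h8
  refine ⟨m, Ψ, ?_, hn.symm, LinearMap.ker_eq_bot.mp hΨinj, hker.symm⟩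
  have h9 := Fintype.range_linearCombination A
    (fun i : Fin (m + 1) => (-1 : A) ^ (i : ℕ) * (Ψ.submatrix i.succAbove id).det)
  change _ = Ideal.span _ at h9
  rw [← h9, hrange', Ideal.span_singleton_one, Ideal.top_mul, haI,
    Ideal.span_singleton_eq_top.mpr haunit, Ideal.top_mul]


end hbaux

section hb

variable (A : Type u) [CommRing A] [IsRegularLocalRing A] (I : Ideal A)
  [hCM : LocCoh.IsCohenMacaulayLocalRing (A ⧸ I)]

theorem exists_hilbertBurch (hcodim : ringKrullDim (A ⧸ I) + 2 = ringKrullDim A) :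
    ∃ (r : ℕ) (φ : Matrix (Fin (r + 1)) (Fin r) A),
      Ideal.span (Set.range (fun i : Fin (r + 1) =>
        (-1 : A) ^ (i : ℕ) * (φ.submatrix i.succAbove id).det)) = I ∧
      I.spanFinrank = r + 1 ∧
      Function.Injective φ.mulVecLin ∧
      LinearMap.range φ.mulVecLin =
        LinearMap.ker (Fintype.linearCombination A (fun i : Fin (r + 1) =>
          (-1 : A) ^ (i : ℕ) * (φ.submatrix i.succAbove id).det)) := by
  classical
  have hGor : LocCoh.IsGorensteinLocalRing A :=
    Groth.Agent.Lib.Helper16.RegGor.isGorensteinLocalRing_of_isRegularLocalRing A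
  have hCMA : LocCoh.IsCohenMacaulayLocalRing A :=
    Groth.Agent.Lib.Helper11.GorCM.isCohenMacaulayLocalRing_of_gorenstein A
  have hlocB : IsLocalRing (A ⧸ I) := hCM.toIsLocalRing
  have hIne : I ≠ ⊤ := by
    intro h
    have : Subsingleton (A ⧸ I) := Ideal.Quotient.subsingleton_iff.mpr h
    exact not_subsingleton (A ⧸ I) this
  obtain ⟨h2, d', hht, hd', hd⟩ := Groth.Agent.Lib.Helper16.CMLocalRing.exists_nat_dim I hIne
  have hh2 : h2 = 2 := by
    rw [hd', hd] at hcodim
    have : d' + 2 = h2 + d' := by exact_mod_cast hcodim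
    omega
  subst hh2
  -- depth of A/I
  have hdepthB : LocCoh.depth (A ⧸ I) (A ⧸ I) = d' := by
    have h1 := hCM.supportDim_eq_depth
    rw [Module.supportDim_self_eq_ringKrullDim, hd'] at h1
    have h3 : ((d' : ℕ∞) : WithBot ℕ∞) = ((LocCoh.depth (A ⧸ I) (A ⧸ I) : ℕ∞) : WithBot ℕ∞) := by
      exact_mod_cast h1
    exact (WithBot.coe_inj.mp h3).symm
  have hdepthA : LocCoh.depth A (A ⧸ I) = d' := by
    rw [depth_eq_of_surjective (A := A) (B := A ⧸ I) Ideal.Quotient.mk_surjective (A ⧸ I), hdepthB]
  have hpd3 : HasProjectiveDimensionLT (ModuleCat.of A (A ⧸ I)) (2 + 1) :=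
    Groth.Agent.Lib.Helper16.PDR.hasProjectiveDimensionLT_succ_of_le_depth A (2 + d') hd 2 (A ⧸ I)
      (by rw [hdepthA]; push_cast; exact le_rfl)
  -- pd I < 2
  have hS1 := Groth.Agent.Lib.Helper16.Depth.shortExact_of_linearMaps I.subtype
    (Submodule.mkQ I) (Submodule.injective_subtype _) (Submodule.mkQ_surjective _)
    (by rw [LinearMap.exact_iff, Submodule.ker_mkQ, Submodule.range_subtype])
  have hpdI : HasProjectiveDimensionLT (ModuleCat.of A I) 2 := by
    have hA : HasProjectiveDimensionLT (ModuleCat.of A A) 2 := by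
      have : Projective (ModuleCat.of A A) := by
        rw [← IsProjective.iff_projective]
        infer_instance
      exact hasProjectiveDimensionLT_of_ge _ 1 2 (by omega)
    exact hS1.hasProjectiveDimensionLT_X₁ 2 hA hpd3
  -- generators
  obtain ⟨s, hscard, hsspan⟩ :=
    Submodule.FG.exists_span_finset_card_eq_spanFinrank (IsNoetherian.noetherian I)
  obtain ⟨n, hn⟩ : ∃ n : ℕ, n = I.spanFinrank := ⟨_, rfl⟩
  rw [← hn] at hscard
  let es := s.equivFinOfCardEq hscard
  let g : Fin n → A := fun i => (es.symm i : A)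
  have hrange_g : Set.range g = (s : Set A) := by
    ext x
    constructor
    · rintro ⟨i, rfl⟩
      exact (es.symm i).2
    · intro hx
      exact ⟨es ⟨x, hx⟩, by simp [g]⟩
  let π : (Fin n → A) →ₗ[A] A := Fintype.linearCombination A g
  have hrange : LinearMap.range π = I := by
    rw [Fintype.range_linearCombination, hrange_g]
    exact hsspan
  let K : Submodule A (Fin n → A) := LinearMap.ker π
  let π' : (Fin n → A) →ₗ[A] I := π.codRestrict I (fun v => by rw [← hrange]; exact ⟨v, rfl⟩)
  have hπ'surj : Function.Surjective π' := by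
    rintro ⟨x, hx⟩
    rw [← hrange] at hx
    obtain ⟨v, hv⟩ := hx
    exact ⟨v, Subtype.ext hv⟩
  have hS2 := Groth.Agent.Lib.Helper16.Depth.shortExact_of_linearMaps K.subtype π'
    (Submodule.injective_subtype _) hπ'surj
    (by
      rw [LinearMap.exact_iff, Submodule.range_subtype]
      ext v
      simp only [LinearMap.mem_ker, K, π']
      constructor
      · intro h; exact congrArg Subtype.val h
      · intro h; exact Subtype.ext h)
  have hpdK : HasProjectiveDimensionLT (ModuleCat.of A K) 1 := by
    have hAn : HasProjectiveDimensionLT (ModuleCat.of A (Fin n → A)) 1 := by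
      have : Projective (ModuleCat.of A (Fin n → A)) := by
        rw [← IsProjective.iff_projective]
        infer_instance
      infer_instance
    exact hS2.hasProjectiveDimensionLT_X₁ 1 hAn hpdI
  rw [← projective_iff_hasProjectiveDimensionLT_one, ← IsProjective.iff_projective] at hpdK
  have : Module.Projective A K := hpdK
  have : Module.Free A K := Module.free_of_flat_of_isLocalRing
  let m := Module.finrank A K
  let b := Module.finBasis A K
  let Ψ : Matrix (Fin n) (Fin m) A :=
    LinearMap.toMatrix' (K.subtype ∘ₗ b.equivFun.symm.toLinearMap)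
  have hΨ : ∀ w, Ψ *ᵥ w = (b.equivFun.symm w : Fin n → A) := by
    intro w
    rw [LinearMap.toMatrix'_mulVec]
    rfl
  have hΨinj : LinearMap.ker Ψ.mulVecLin = ⊥ := by
    rw [LinearMap.ker_eq_bot]
    intro w w' hww'
    rw [Matrix.mulVecLin_apply, Matrix.mulVecLin_apply, hΨ, hΨ] at hww'
    exact b.equivFun.symm.injective (Subtype.ext hww')
  have hex : LinearMap.ker π = LinearMap.range Ψ.mulVecLin := by
    ext v
    constructor
    · intro hv
      refine ⟨b.equivFun ⟨v, hv⟩, ?_⟩
      rw [Matrix.mulVecLin_apply, hΨ, LinearEquiv.symm_apply_apply]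
    · rintro ⟨w, rfl⟩
      rw [Matrix.mulVecLin_apply, hΨ]
      exact (b.equivFun.symm w).2
  exact hb_aux I hht n m hn Ψ π hΨinj hex hrange

end hb

end Groth.Agent.Lib.Helper16.HB
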