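import Groth.Agent.Lib.Helper16.DepthLocalize

/-!
# Transport of depths along localizations and surjections (helper16)

* `depth_eq_of_surjective_algHom` : model independence of `depth M_p` along a surjection `R_p → B`.
* `depth_localization_localization'` : `depth ((S⁻¹M)_P) = depth M_{P ∩ R}` for any submonoid `S`.
* `height_map_le_of_localization` : `ht ((a+p)/p) ≤ ht ((aS⁻¹R + P)/P)` for `p = P ∩ R`.
-/

set_option autoImplicit false
universe u

open IsLocalRing

namespace Groth.Agent.Lib.Helper16.Depth

open Groth.Agent.Lib.Helper18.CM

section model

variable {R : Type u} [CommRing R] [IsNoetherianRing R] (p : Ideal R) [p.IsPrime]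
  (M : Type u) [AddCommGroup M] [Module R M] [Module.Finite R M]

/-- The depth of a localization of `M` at `p`, computed over a quotient `B` of `R_p` acting on a
model `T` of `M_p`. -/
theorem depth_eq_of_surjective_algHom
    (B : Type u) [CommRing B] [Algebra R B] [IsLocalRing B]
    (σ : Localization.AtPrime p →ₐ[R] B) (hσ : Function.Surjective σ)
    (T : Type u) [AddCommGroup T] [Module R T] [Module B T] [IsScalarTower R B T]
    (g : M →ₗ[R] T) [IsLocalizedModule p.primeCompl g] :
    LocCoh.depth B T =
      LocCoh.depth (Localization.AtPrime p) (LocalizedModule p.primeCompl M) := by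
  let algRpB : Algebra (Localization.AtPrime p) B := σ.toRingHom.toAlgebra
  let modRpT : Module (Localization.AtPrime p) T :=
    Module.compHom T (algebraMap (Localization.AtPrime p) B)
  have tower1 : IsScalarTower (Localization.AtPrime p) B T :=
    IsScalarTower.of_algebraMap_smul fun r x => rfl
  have tower2 : IsScalarTower R (Localization.AtPrime p) T := by
    refine IsScalarTower.of_algebraMap_smul fun r x => ?_
    change σ (algebraMap R (Localization.AtPrime p) r) • x = r • x
    rw [σ.commutes, algebraMap_smul]
  let e : LocalizedModule p.primeCompl M ≃ₗ[R] T := IsLocalizedModule.iso p.primeCompl g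
  let e' : LocalizedModule p.primeCompl M ≃ₗ[Localization.AtPrime p] T :=
    LinearEquiv.extendScalarsOfIsLocalization p.primeCompl (Localization.AtPrime p) e
  have hfin : Module.Finite (Localization.AtPrime p) T := Module.Finite.equiv e'
  have hloc : IsLocalHom (algebraMap (Localization.AtPrime p) B) := by
    change IsLocalHom σ.toRingHom
    exact IsLocalHom.of_surjective _ hσ
  have hnoeB : IsNoetherianRing B := isNoetherianRing_of_surjective _ _ σ.toRingHom hσ
  rw [← depth_eq_of_finite (A := Localization.AtPrime p) (B := B) T, ← depth_congr e']

end model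

section double

variable {R : Type u} [CommRing R] [IsNoetherianRing R] (S : Submonoid R)
  (M : Type u) [AddCommGroup M] [Module R M] [Module.Finite R M]

omit [IsNoetherianRing R] [Module.Finite R M] in
/-- The composite `M → S⁻¹M → (S⁻¹M)_P` is a localization of `M` at the contraction of `P`. -/
theorem isLocalizedModule_comp_mkLinearMap' (P : Ideal (Localization S)) [P.IsPrime] :
    IsLocalizedModule (P.comap (algebraMap R (Localization S))).primeCompl
      ((LocalizedModule.mkLinearMap P.primeCompl
          (LocalizedModule S M)).restrictScalars R ∘ₗ
        LocalizedModule.mkLinearMap S M) := by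
  have h₁ : IsBaseChange (Localization S) (LocalizedModule.mkLinearMap S M) :=
    (isLocalizedModule_iff_isBaseChange S _ _).mp inferInstance
  have h₂ : IsBaseChange (Localization.AtPrime P)
      (LocalizedModule.mkLinearMap P.primeCompl (LocalizedModule S M)) :=
    (isLocalizedModule_iff_isBaseChange P.primeCompl _ _).mp inferInstance
  have h₃ := IsBaseChange.comp h₁ h₂
  exact (isLocalizedModule_iff_isBaseChange
    (P.comap (algebraMap R (Localization S))).primeCompl (Localization.AtPrime P) _).mpr h₃

/-- `depth ((S⁻¹M)_P) = depth M_{P ∩ R}`. -/
theorem depth_localization_localization' (P : Ideal (Localization S)) [P.IsPrime] :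
    LocCoh.depth (Localization.AtPrime P)
        (LocalizedModule P.primeCompl (LocalizedModule S M)) =
      LocCoh.depth (Localization.AtPrime (P.comap (algebraMap R (Localization S))))
        (LocalizedModule (P.comap (algebraMap R (Localization S))).primeCompl M) := by
  have := isLocalizedModule_comp_mkLinearMap' S M P
  exact depth_eq_of_isLocalizedModule (P.comap (algebraMap R (Localization S))) M
    (Localization.AtPrime P) _
    ((LocalizedModule.mkLinearMap P.primeCompl
          (LocalizedModule S M)).restrictScalars R ∘ₗ
        LocalizedModule.mkLinearMap S M)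

omit [IsNoetherianRing R] in
/-- `ht ((a + p)/p) ≤ ht ((a S⁻¹R + p S⁻¹R)/p S⁻¹R)`. -/
theorem height_map_le_of_localization_map (a p : Ideal R) :
    ((a ⊔ p).map (Ideal.Quotient.mk p)).height ≤
      ((a.map (algebraMap R (Localization S)) ⊔ p.map (algebraMap R (Localization S))).map
        (Ideal.Quotient.mk (p.map (algebraMap R (Localization S))))).height := by
  rw [← IsLocalization.height_under (Algebra.algebraMapSubmonoid (R ⧸ p) S)
    ((a.map (algebraMap R (Localization S)) ⊔ p.map (algebraMap R (Localization S))).map
        (Ideal.Quotient.mk (p.map (algebraMap R (Localization S)))))]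
  refine Ideal.height_mono ?_
  rw [Ideal.map_le_iff_le_comap]
  intro x hx
  rw [Ideal.mem_comap, Ideal.mem_comap]
  change Ideal.Quotient.mk (p.map (algebraMap R (Localization S)))
    (algebraMap R (Localization S) x) ∈ _
  refine Ideal.mem_map_of_mem _ ?_
  rw [← Ideal.map_sup]
  exact Ideal.mem_map_of_mem _ hx

omit [IsNoetherianRing R] in
/-- `ht ((a + p)/p) ≤ ht ((a S⁻¹R + P)/P)` for `p = P ∩ R`. -/
theorem height_map_le_of_localization (a : Ideal R) (P : Ideal (Localization S)) [P.IsPrime] :
    ((a ⊔ P.comap (algebraMap R (Localization S))).map
        (Ideal.Quotient.mk (P.comap (algebraMap R (Localization S))))).height ≤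
      ((a.map (algebraMap R (Localization S)) ⊔ P).map (Ideal.Quotient.mk P)).height := by
  have h := height_map_le_of_localization_map S a (P.comap (algebraMap R (Localization S)))
  rwa [IsLocalization.map_under S (Localization S) P] at h

end double

end Groth.Agent.Lib.Helper16.Depth
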