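import Groth.Agent.Lib.Helper16.GorArt
import Groth.Agent.Lib.Helper16.GorFlat

/-!
# Zero-dimensional Gorenstein local rings: self-duality (helper16)

* nonempty_equiv_hull : an Artinian local ring with simple socle is isomorphic to the injective hull of its residue field.
* exists_mul_ne_zero_of_notMem : in a zero-dimensional Gorenstein local ring, Ann(Ann J) = J (elementwise form).
-/

set_option autoImplicit false
universe u
open CategoryTheory Abelian IsLocalRing

namespace Groth.Agent.Lib.Helper16.GorArt

open Groth.Agent.Lib.Helper25 InjHull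

variable (R : Type u) [CommRing R] [IsLocalRing R] [IsNoetherianRing R]

/-- An Artinian local ring with simple socle is isomorphic to the injective hull of its residue
field. -/
theorem nonempty_equiv_hull [IsArtinianRing R]
    (h : Module.length R (LocCoh.torsionBy (maximalIdeal R) R) = 1)
    {E : Type u} [AddCommGroup E] [Module R E] (f : ResidueField R →ₗ[R] E)
    (hf : IsInjectiveHull f) : Nonempty (R ≃ₗ[R] E) := by
  have hpt : LocCoh.IsPowerTorsion (maximalIdeal R) R := isPowerTorsion_of_isArtinian
  have hfin := finite_socle_of_isArtinian (R := R) (M := R)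
  have hrank : Module.finrank (R ⧸ maximalIdeal R) (LocCoh.torsionBy (maximalIdeal R) R) = 1 := by
    have h1 := length_eq_finrank_quotient (R := R) (LocCoh.torsionBy (maximalIdeal R) R)
    rw [h] at h1
    exact_mod_cast h1.symm
  obtain ⟨g, hg⟩ := exists_injective_to_pi_of_isPowerTorsion f hf hpt 1 hrank
  have hflR : IsFiniteLength R R :=
    isFiniteLength_iff_isNoetherian_isArtinian.mpr ⟨inferInstance, inferInstance⟩
  have hlenE : Module.length R E = Module.length R R := by
    rw [← length_hom_eq_length f hf hflR, (LinearMap.ringLmapEquivSelf R R E).length_eq]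
  have hlen1 : Module.length R (Fin 1 → E) = Module.length R R := by
    rw [Module.length_pi, hlenE]; simp
  have hne : Module.length R R ≠ ⊤ := Module.length_ne_top_iff.mpr hflR
  have hsurj : Function.Surjective g := by
    have hadd := Module.length_eq_add_of_exact g (LinearMap.range g).mkQ hg
      (Submodule.mkQ_surjective _) (LinearMap.exact_map_mkQ_range g)
    rw [hlen1] at hadd
    have h0 : Module.length R ((Fin 1 → E) ⧸ LinearMap.range g) = 0 := by
      have : Module.length R R + 0 = Module.length R R +
          Module.length R ((Fin 1 → E) ⧸ LinearMap.range g) := by rw [add_zero]; exact hadd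
      exact (ENat.add_right_injective_of_ne_top hne this).symm
    rw [Module.length_eq_zero_iff, Submodule.Quotient.subsingleton_iff,
      LinearMap.range_eq_top] at h0
    exact h0
  exact ⟨(LinearEquiv.ofBijective g ⟨hg, hsurj⟩).trans (LinearEquiv.funUnique (Fin 1) R E)⟩

/-- In a zero-dimensional Gorenstein local ring, every element outside an ideal `J` is detected by
an element of the annihilator of `J`. -/
theorem exists_mul_ne_zero_of_notMem (hG : LocCoh.IsGorensteinLocalRing R)
    (hdim : ringKrullDim R = 0) (J : Ideal R) {b : R} (hb : b ∉ J) :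
    ∃ y : R, (∀ t ∈ J, y * t = 0) ∧ y * b ≠ 0 := by
  have hart : IsArtinianRing R := GorFlat.isArtinianRing_of_ringKrullDim_eq_zero R hdim
  obtain ⟨E, _, _, f, hf⟩ := exists_isInjectiveHull (R := R) (ResidueField R)
  obtain ⟨e⟩ := nonempty_equiv_hull R (length_socle_eq_one_of_isGorenstein R hG hdim) f hf
  have hne : (Ideal.Quotient.mk J b) ≠ 0 := by
    rwa [Ne, Ideal.Quotient.eq_zero_iff_mem]
  obtain ⟨φ, hφ⟩ := exists_hom_ne_zero f hf (M := R ⧸ J) hne
  let ψ : (R ⧸ J) →ₗ[R] R := e.symm.toLinearMap ∘ₗ φ
  have hψ : ψ (Ideal.Quotient.mk J b) ≠ 0 := by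
    change e.symm (φ _) ≠ 0
    rw [Ne, LinearEquiv.map_eq_zero_iff]
    exact hφ
  have key : ∀ t : R, ψ (Ideal.Quotient.mk J 1) * t = ψ (Ideal.Quotient.mk J t) := by
    intro t
    have h1 : Ideal.Quotient.mk J t = t • Ideal.Quotient.mk J 1 := by
      change _ = Ideal.Quotient.mk J (t * 1)
      rw [mul_one]
    rw [h1, map_smul, smul_eq_mul, mul_comm]
  refine ⟨ψ (Ideal.Quotient.mk J 1), fun t ht => ?_, ?_⟩
  · rw [key, Ideal.Quotient.eq_zero_iff_mem.mpr ht, map_zero]
  · rw [key]
    exact hψ

end Groth.Agent.Lib.Helper16.GorArt
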