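import Groth.Agent.Lib.Helper16.Liaison2

/-!
# Liaison III: ideal quotients by Gorenstein ideals are unmixed (helper16)

* le_colon, colon_eq_top_iff, associatedPrimes_colon_subset : Ass(R/(c : I)) is contained in Ass(R/c).
* height_eq_of_mem_minimalPrimes : minimal primes of a homogeneous Gorenstein ideal c all have height ht c.
* colon_unmixed : c : I is unmixed of height ht c when I is not contained in c.
-/

set_option autoImplicit false
universe u
open IsLocalRing MvPolynomial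

namespace Groth.Agent.Lib.Helper16.Liaison

section colon

variable {R : Type u} [CommRing R] [IsNoetherianRing R] (𝔠 I : Ideal R)

omit [IsNoetherianRing R] in
theorem le_colon : 𝔠 ≤ 𝔠.colon (I : Set R) := by
  intro r hr
  rw [Submodule.mem_colon]
  intro s _
  exact 𝔠.mul_mem_right s hr

omit [IsNoetherianRing R] in
theorem colon_eq_top_iff : 𝔠.colon (I : Set R) = ⊤ ↔ I ≤ 𝔠 := by
  rw [Ideal.eq_top_iff_one, Submodule.mem_colon]
  constructor
  · intro h s hs
    simpa using h s hs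
  · intro h s hs
    simpa using h hs

/-- `Ass(R/(𝔠 : I)) ⊆ Ass(R/𝔠)`. -/
theorem associatedPrimes_colon_subset :
    associatedPrimes R (R ⧸ 𝔠.colon (I : Set R)) ⊆ associatedPrimes R (R ⧸ 𝔠) := by
  intro Q hQ
  rw [AssociatedPrimes.mem_iff, isAssociatedPrime_iff] at hQ ⊢
  obtain ⟨hQp, y, hy⟩ := hQ
  obtain ⟨x, rfl⟩ := Ideal.Quotient.mk_surjective y
  have hmem : ∀ r : R, r ∈ Q ↔ ∀ s ∈ I, r * x * s ∈ 𝔠 := by
    intro r
    rw [hy, Submodule.mem_colon_singleton, Submodule.mem_bot]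
    change Ideal.Quotient.mk (𝔠.colon (I : Set R)) (r * x) = 0 ↔ _
    rw [Ideal.Quotient.eq_zero_iff_mem, Submodule.mem_colon]
    rfl
  obtain ⟨gens, hgens⟩ := (IsNoetherian.noetherian I : I.FG)
  let J : R → Ideal R := fun t => 𝔠.colon ({x * t} : Set R)
  have hJmem : ∀ t r : R, r ∈ J t ↔ r * (x * t) ∈ 𝔠 := by
    intro t r
    change r ∈ 𝔠.colon ({x * t} : Set R) ↔ _
    rw [Submodule.mem_colon_singleton]
    rfl
  have hQJ : ∀ t ∈ I, Q ≤ J t := by
    intro t ht r hr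
    rw [hJmem, ← mul_assoc]
    exact (hmem r).mp hr t ht
  have hinf : gens.inf J ≤ Q := by
    intro r hr
    rw [hmem]
    intro s hs
    rw [← hgens] at hs
    refine Submodule.span_induction ?_ ?_ ?_ ?_ hs
    · intro t ht
      have h1 : r ∈ J t := (Finset.inf_le (f := J) ht) hr
      rw [hJmem, ← mul_assoc] at h1
      exact h1
    · rw [mul_zero]
      exact 𝔠.zero_mem
    · intro a b _ _ ha hb
      rw [mul_add]
      exact 𝔠.add_mem ha hb
    · intro a b _ hb
      rw [smul_eq_mul, mul_left_comm]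
      exact 𝔠.mul_mem_left a hb
  obtain ⟨t, htg, htQ⟩ := (Ideal.IsPrime.inf_le' hQp).mp hinf
  have htI : t ∈ I := hgens ▸ Submodule.subset_span htg
  refine ⟨hQp, Ideal.Quotient.mk 𝔠 (x * t), ?_⟩
  ext r
  rw [Submodule.mem_colon_singleton, Submodule.mem_bot]
  change _ ↔ Ideal.Quotient.mk 𝔠 (r * (x * t)) = 0
  rw [Ideal.Quotient.eq_zero_iff_mem, ← hJmem]
  exact ⟨fun h => hQJ t htI h, fun h => htQ h⟩

end colon

section poly

variable {K : Type u} [Field K] {N : ℕ}

/-- For a homogeneous ideal `𝔠` of the polynomial ring with Gorenstein quotient, all minimal primes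
of `𝔠` have height `ht 𝔠`. -/
theorem height_eq_of_mem_minimalPrimes (𝔠 : Ideal (MvPolynomial (Fin N) K))
    (h𝔠 : 𝔠.IsHomogeneous (GrSyz.stdGr K (Fin N)))
    [hG : LocCoh.IsGorensteinRing (MvPolynomial (Fin N) K ⧸ 𝔠)]
    {P : Ideal (MvPolynomial (Fin N) K)} (hP : P ∈ 𝔠.minimalPrimes) : P.height = 𝔠.height := by
  have h𝔠top : 𝔠 ≠ ⊤ := fun h => hP.1.1.ne_top (top_le_iff.mp (h ▸ hP.1.2))
  have h𝔠m : 𝔠 ≤ irr K N := le_irr_of_isHomogeneous h𝔠 h𝔠top
  have hmprime : ((irr K N).map (Ideal.Quotient.mk 𝔠)).IsPrime :=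
    Ideal.map_isPrime_of_surjective Ideal.Quotient.mk_surjective (by rwa [Ideal.mk_ker])
  have key : ∀ Q ∈ 𝔠.minimalPrimes, Q.height = P.height := by
    intro Q hQ
    have h1 := height_add_eq_of_mem_minimalPrimes K (MvPolynomial (Fin N) K) 𝔠 (irr K N) hQ
      (le_irr_of_mem_minimalPrimes h𝔠 hQ)
    have h2 := height_add_eq_of_mem_minimalPrimes K (MvPolynomial (Fin N) K) 𝔠 (irr K N) hP
      (le_irr_of_mem_minimalPrimes h𝔠 hP)
    have hGloc := hG.isGorensteinLocalRing_localization ((irr K N).map (Ideal.Quotient.mk 𝔠))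
    obtain ⟨d, hd⟩ := Groth.Agent.Lib.Helper18.SerreReg.exists_ringKrullDim_eq_nat
      (Localization.AtPrime ((irr K N).map (Ideal.Quotient.mk 𝔠)))
    rw [hd] at h1 h2
    rw [← h2] at h1
    have h3 : ((Q.height + d : ℕ∞) : WithBot ℕ∞) = ((P.height + d : ℕ∞) : WithBot ℕ∞) := by
      push_cast
      exact h1
    have h4 : Q.height + (d : ℕ∞) = P.height + d := by exact_mod_cast h3
    exact ENat.add_left_injective_of_ne_top (ENat.natCast_ne_top d) h4
  rw [𝔠.height_eq_inf_minimalPrimes]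
  apply le_antisymm
  · exact le_iInf₂ fun Q hQ => (key Q hQ).ge
  · exact iInf₂_le P hP

/-- The ideal quotient `𝔠 : I` by an ideal not contained in `𝔠` is unmixed of height `ht 𝔠`. -/
theorem colon_unmixed (𝔠 I : Ideal (MvPolynomial (Fin N) K))
    (h𝔠 : 𝔠.IsHomogeneous (GrSyz.stdGr K (Fin N)))
    [hG : LocCoh.IsGorensteinRing (MvPolynomial (Fin N) K ⧸ 𝔠)] (hI𝔠 : ¬ I ≤ 𝔠) :
    (𝔠.colon (I : Set (MvPolynomial (Fin N) K))).height = 𝔠.height ∧
      ∀ p ∈ associatedPrimes (MvPolynomial (Fin N) K)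
        (MvPolynomial (Fin N) K ⧸ 𝔠.colon (I : Set (MvPolynomial (Fin N) K))),
        p.height = 𝔠.height := by
  have hass : ∀ p ∈ associatedPrimes (MvPolynomial (Fin N) K)
      (MvPolynomial (Fin N) K ⧸ 𝔠.colon (I : Set (MvPolynomial (Fin N) K))),
      p.height = 𝔠.height := by
    intro p hp
    exact height_eq_of_mem_minimalPrimes 𝔠 h𝔠
      (mem_minimalPrimes_of_mem_associatedPrimes 𝔠 (associatedPrimes_colon_subset 𝔠 I hp))
  refine ⟨le_antisymm ?_ (Ideal.height_mono (le_colon 𝔠 I)), hass⟩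
  have hne : 𝔠.colon (I : Set (MvPolynomial (Fin N) K)) ≠ ⊤ := by
    rw [Ne, colon_eq_top_iff]
    exact hI𝔠
  have hnt : Nontrivial (MvPolynomial (Fin N) K ⧸ 𝔠.colon (I : Set (MvPolynomial (Fin N) K))) :=
    Ideal.Quotient.nontrivial_iff.mpr hne
  obtain ⟨p, hp⟩ := associatedPrimes.nonempty (MvPolynomial (Fin N) K)
    (MvPolynomial (Fin N) K ⧸ 𝔠.colon (I : Set (MvPolynomial (Fin N) K)))
  rw [← hass p hp]
  apply Ideal.height_mono
  have := Groth.Agent.Lib.Helper18.CM.annihilator_le_of_mem_associatedPrimes _ hp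
  rwa [Ideal.annihilator_quotient] at this

end poly

end Groth.Agent.Lib.Helper16.Liaison
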