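import Groth.Agent.Lib.Helper16.Liaison5
import Groth.Agent.Lib.Helper16.GorLinkSum

/-!
# Liaison VIII: the sum of geometrically linked ideals (helper16)

* succ_le_height_of_sup_le, height_eq_of_mem_minimalPrimes_inf.
* cm_quot_map, gor_quot_map : R_Q/bR_Q is Cohen-Macaulay / Gorenstein when R/b is.
* gor_localization_quot_sup : local form at a prime Q containing I1 + I2.
* sum_linked_gorenstein : I1 + I2 is Gorenstein of height c + 1.
-/

set_option autoImplicit false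
set_option linter.unusedSectionVars false
universe u
open IsLocalRing MvPolynomial

namespace Groth.Agent.Lib.Helper16.Liaison

section general

variable {R : Type u} [CommRing R]

/-- A prime containing two equidimensional ideals of height `c` without common components has
height at least `c + 1`. -/
theorem succ_le_height_of_sup_le (I₁ I₂ : Ideal R) (c : ℕ)
    (h1 : ∀ P ∈ I₁.minimalPrimes, P.height = c) (h2 : ∀ P ∈ I₂.minimalPrimes, P.height = c)
    (hdisj : Disjoint I₁.minimalPrimes I₂.minimalPrimes) (Q : Ideal R) [hQ : Q.IsPrime]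
    (hle : I₁ ⊔ I₂ ≤ Q) : ((c : ℕ∞) + 1) ≤ Q.height := by
  obtain ⟨P₁, hP₁, hP₁Q⟩ := Ideal.exists_minimalPrimes_le (le_sup_left.trans hle)
  obtain ⟨P₂, hP₂, hP₂Q⟩ := Ideal.exists_minimalPrimes_le (le_sup_right.trans hle)
  have hp1 : P₁.IsPrime := hP₁.1.1
  have hp2 : P₂.IsPrime := hP₂.1.1
  by_cases heq : P₁ = Q
  · subst heq
    have hne : P₂ ≠ P₁ := by
      rintro rfl
      exact (Set.disjoint_left.mp hdisj hP₁) hP₂
    have hlt : P₂ < P₁ := lt_of_le_of_ne hP₂Q hne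
    have h3 := Ideal.height_add_one_le_of_lt_of_isPrime hlt
    rw [h2 P₂ hP₂] at h3
    exact h3
  · have hlt : P₁ < Q := lt_of_le_of_ne hP₁Q heq
    have h3 := Ideal.height_add_one_le_of_lt_of_isPrime hlt
    rw [h1 P₁ hP₁] at h3
    exact h3

theorem height_eq_of_mem_minimalPrimes_inf (I₁ I₂ : Ideal R) (c : ℕ∞)
    (h1 : ∀ P ∈ I₁.minimalPrimes, P.height = c) (h2 : ∀ P ∈ I₂.minimalPrimes, P.height = c)
    {P : Ideal R} (hP : P ∈ (I₁ ⊓ I₂).minimalPrimes) : P.height = c := by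
  have hPp : P.IsPrime := hP.1.1
  rcases (Ideal.IsPrime.inf_le hPp).mp hP.1.2 with h | h
  · exact h1 P ⟨⟨hPp, h⟩, fun Q hQ hQP => hP.2 ⟨hQ.1, inf_le_left.trans hQ.2⟩ hQP⟩
  · exact h2 P ⟨⟨hPp, h⟩, fun Q hQ hQP => hP.2 ⟨hQ.1, inf_le_right.trans hQ.2⟩ hQP⟩

section quotmap

variable [IsNoetherianRing R] (𝔟 : Ideal R) (Q : Ideal R) [Q.IsPrime]

theorem cm_quot_map [hCM : LocCoh.IsCohenMacaulayRing (R ⧸ 𝔟)] (h𝔟Q : 𝔟 ≤ Q) :
    LocCoh.IsCohenMacaulayLocalRing
      (Localization.AtPrime Q ⧸ 𝔟.map (algebraMap R (Localization.AtPrime Q))) := by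
  have hq : (Q.map (Ideal.Quotient.mk 𝔟)).IsPrime :=
    Ideal.map_isPrime_of_surjective Ideal.Quotient.mk_surjective (by rwa [Ideal.mk_ker])
  have hcomap : Q = (Q.map (Ideal.Quotient.mk 𝔟)).comap (Ideal.Quotient.mk 𝔟) := by
    rw [Ideal.comap_map_of_surjective _ Ideal.Quotient.mk_surjective, ← RingHom.ker_eq_comap_bot,
      Ideal.mk_ker, sup_eq_left.mpr h𝔟Q]
  exact cm_of_ringEquiv (locQuotEquiv 𝔟 (Q.map (Ideal.Quotient.mk 𝔟)) Q hcomap)
    (hCM.isCohenMacaulayLocalRing_localization (Q.map (Ideal.Quotient.mk 𝔟)))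

theorem gor_quot_map [hG : LocCoh.IsGorensteinRing (R ⧸ 𝔟)] (h𝔟Q : 𝔟 ≤ Q) :
    LocCoh.IsGorensteinLocalRing
      (Localization.AtPrime Q ⧸ 𝔟.map (algebraMap R (Localization.AtPrime Q))) := by
  have hq : (Q.map (Ideal.Quotient.mk 𝔟)).IsPrime :=
    Ideal.map_isPrime_of_surjective Ideal.Quotient.mk_surjective (by rwa [Ideal.mk_ker])
  have hcomap : Q = (Q.map (Ideal.Quotient.mk 𝔟)).comap (Ideal.Quotient.mk 𝔟) := by
    rw [Ideal.comap_map_of_surjective _ Ideal.Quotient.mk_surjective, ← RingHom.ker_eq_comap_bot,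
      Ideal.mk_ker, sup_eq_left.mpr h𝔟Q]
  exact Groth.Agent.Lib.Helper2.GK.gor_of_ringEquiv
    (locQuotEquiv 𝔟 (Q.map (Ideal.Quotient.mk 𝔟)) Q hcomap)
    (hG.isGorensteinLocalRing_localization (Q.map (Ideal.Quotient.mk 𝔟)))

end quotmap

section linksum

open Groth.Agent.Lib.Helper18.CM

variable [IsRegularRing R]

/-- The localization of `R/(I₁ + I₂)` at a prime `Q`, for geometrically linked `I₁`, `I₂`. -/
theorem gor_localization_quot_sup (I₁ I₂ : Ideal R) (c : ℕ)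
    (h1 : ∀ P ∈ I₁.minimalPrimes, P.height = c) (h2 : ∀ P ∈ I₂.minimalPrimes, P.height = c)
    (hdisj : Disjoint I₁.minimalPrimes I₂.minimalPrimes)
    [hCM1 : LocCoh.IsCohenMacaulayRing (R ⧸ I₁)] [hCM2 : LocCoh.IsCohenMacaulayRing (R ⧸ I₂)]
    [hG : LocCoh.IsGorensteinRing (R ⧸ (I₁ ⊓ I₂))]
    (Q : Ideal R) [hQ : Q.IsPrime] (hle : I₁ ⊔ I₂ ≤ Q) :
    LocCoh.IsGorensteinLocalRing
        (Localization.AtPrime Q ⧸ (I₁ ⊔ I₂).map (algebraMap R (Localization.AtPrime Q))) ∧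
      ∃ n : ℕ, Q.height = ((c + 1 + n : ℕ) : ℕ∞) ∧
        (n : ℕ∞) ≤ LocCoh.depth (Localization.AtPrime Q)
          (Localization.AtPrime Q ⧸ (I₁ ⊔ I₂).map (algebraMap R (Localization.AtPrime Q))) := by
  have hI₁Q : I₁ ≤ Q := le_sup_left.trans hle
  have hI₂Q : I₂ ≤ Q := le_sup_right.trans hle
  have hinfQ : I₁ ⊓ I₂ ≤ Q := inf_le_left.trans hI₁Q
  have hGT := RegGor.isGorensteinLocalRing_of_isRegularLocalRing (Localization.AtPrime Q)
  have hCMT : LocCoh.IsCohenMacaulayLocalRing (Localization.AtPrime Q) :=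
    Groth.Agent.Lib.Helper11.GorCM.isCohenMacaulayLocalRing_of_gorenstein _
  -- the height of `Q`
  have hhtQ := succ_le_height_of_sup_le I₁ I₂ c h1 h2 hdisj Q hle
  obtain ⟨k, hk⟩ := ENat.ne_top_iff_exists.mp (Ideal.height_ne_top (I := Q) hQ.ne_top)
  have hck : c + 1 ≤ k := by
    rw [← hk] at hhtQ
    exact_mod_cast hhtQ
  obtain ⟨n, rfl⟩ : ∃ n, k = c + 1 + n := ⟨k - (c + 1), by omega⟩
  have hdimT : ringKrullDim (Localization.AtPrime Q) = ((c + 1 + n : ℕ) : WithBot ℕ∞) := by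
    rw [IsLocalization.AtPrime.ringKrullDim_eq_height Q (Localization.AtPrime Q), ← hk]
    rfl
  -- dimensions of the quotients
  have hdim : ∀ 𝔟 : Ideal R, 𝔟 ≤ Q → (∀ P ∈ 𝔟.minimalPrimes, P.height = c) →
      ringKrullDim (Localization.AtPrime Q ⧸ 𝔟.map (algebraMap R (Localization.AtPrime Q))) =
        ((n + 1 : ℕ) : WithBot ℕ∞) := by
    intro 𝔟 h𝔟Q h𝔟
    have h3 := add_ringKrullDim_quot_map Q hCMT 𝔟 h𝔟Q c h𝔟
    have hloc := GorQuot.isLocalRing_quotient _ (map_ne_top_of_le Q 𝔟 h𝔟Q)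
    obtain ⟨a, ha⟩ := Groth.Agent.Lib.Helper18.SerreReg.exists_ringKrullDim_eq_nat
      (Localization.AtPrime Q ⧸ 𝔟.map (algebraMap R (Localization.AtPrime Q)))
    rw [ha, hdimT] at h3
    rw [ha]
    have h4 : c + a = c + 1 + n := by exact_mod_cast h3
    have h5 : a = n + 1 := by omega
    rw [h5]
  have hd0 := hdim (I₁ ⊓ I₂) hinfQ
    (fun P hP => height_eq_of_mem_minimalPrimes_inf I₁ I₂ c h1 h2 hP)
  have hd1 := hdim I₁ hI₁Q h1
  have hd2 := hdim I₂ hI₂Q h2
  have hinf : I₁.map (algebraMap R (Localization.AtPrime Q)) ⊓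
      I₂.map (algebraMap R (Localization.AtPrime Q)) =
      (I₁ ⊓ I₂).map (algebraMap R (Localization.AtPrime Q)) :=
    (IsLocalization.map_inf Q.primeCompl (Localization.AtPrime Q) I₁ I₂).symm
  have hG0 := gor_quot_map (I₁ ⊓ I₂) Q hinfQ
  have hC1 := GorQuot.cm_module_of_cm_ring _ (cm_quot_map I₁ Q hI₁Q)
  have hC2 := GorQuot.cm_module_of_cm_ring _ (cm_quot_map I₂ Q hI₂Q)
  have hsup : (I₁ ⊔ I₂).map (algebraMap R (Localization.AtPrime Q)) =
      I₁.map (algebraMap R (Localization.AtPrime Q)) ⊔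
        I₂.map (algebraMap R (Localization.AtPrime Q)) := Ideal.map_sup _ _ _
  have htop := map_ne_top_of_le Q (I₁ ⊔ I₂) hle
  -- the dimension of `T/(I₁ + I₂)T`
  have hdC : ringKrullDim (Localization.AtPrime Q ⧸
      (I₁ ⊔ I₂).map (algebraMap R (Localization.AtPrime Q))) ≤ (n : WithBot ℕ∞) := by
    have h3 := CMHt.height_add_ringKrullDim_quotient (Localization.AtPrime Q)
      hCMT.supportDim_eq_depth _ htop
    have hht : ((c : ℕ∞) + 1) ≤
        ((I₁ ⊔ I₂).map (algebraMap R (Localization.AtPrime Q))).height := by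
      rw [← IsLocalization.height_under Q.primeCompl, Ideal.height_eq_inf_minimalPrimes]
      refine le_iInf₂ fun P hP => ?_
      have hPp : P.IsPrime := hP.1.1
      exact succ_le_height_of_sup_le I₁ I₂ c h1 h2 hdisj P
        (Ideal.le_comap_map.trans hP.1.2)
    have hloc := GorQuot.isLocalRing_quotient _ htop
    obtain ⟨a, ha⟩ := Groth.Agent.Lib.Helper18.SerreReg.exists_ringKrullDim_eq_nat
      (Localization.AtPrime Q ⧸ (I₁ ⊔ I₂).map (algebraMap R (Localization.AtPrime Q)))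
    obtain ⟨b, hb⟩ := ENat.ne_top_iff_exists.mp (Ideal.height_ne_top
      (I := (I₁ ⊔ I₂).map (algebraMap R (Localization.AtPrime Q))) htop)
    rw [ha, hdimT, ← hb] at h3
    rw [← hb] at hht
    rw [ha]
    have h4 : b + a = c + 1 + n := by exact_mod_cast h3
    have h5 : c + 1 ≤ b := by exact_mod_cast hht
    have h6 : a ≤ n := by omega
    exact_mod_cast h6
  refine ⟨?_, n, hk.symm, ?_⟩
  · refine GorQuot.gor_congr_ideal hsup.symm ?_
    exact GorQuot.gor_quot_sup n _ _ _ hinf hG0 hC1 hC2 hd0 hd1 hd2 (hsup ▸ htop)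
      (by rw [← GorQuot.ringKrullDim_congr_ideal hsup]; exact hdC)
  · have hdep0 := GorQuot.depth_eq_of_cm _ (GorQuot.cm_module_of_cm_ring _
      (Groth.Agent.Lib.Helper11.GorCM.isCohenMacaulayLocalRing_of_gorenstein _)) _ hd0
    have hdep1 := GorQuot.depth_eq_of_cm _ hC1 _ hd1
    have hdep2 := GorQuot.depth_eq_of_cm _ hC2 _ hd2
    have := GorQuot.le_depth_quot_sup _ _ _ hinf n hdep0.ge hdep1.ge hdep2.ge
    rw [hsup]
    exact this

end linksum

end general

theorem ringKrullDim_eq_zero_of_isArtinianRing' (A : Type u) [CommRing A] [Nontrivial A]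
    [IsNoetherianRing A] [IsArtinianRing A] : ringKrullDim A = 0 := by
  rw [← ringKrullDimZero_iff_ringKrullDim_eq_zero, ← isArtinianRing_iff_krullDimLE_zero]
  infer_instance

section poly

open Groth.Agent.Lib.Helper18.CM

variable {K : Type u} [Field K] {N : ℕ}

/-- The sum of two geometrically linked arithmetically Cohen–Macaulay ideals whose intersection is
Gorenstein is Gorenstein of codimension one more. -/
theorem sum_linked_gorenstein (c : ℕ) (I₁ I₂ : Ideal (MvPolynomial (Fin N) K))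
    (hI₁ : I₁.IsHomogeneous (GrSyz.stdGr K (Fin N))) (hI₂ : I₂.IsHomogeneous (GrSyz.stdGr K (Fin N)))
    [LocCoh.IsCohenMacaulayRing (MvPolynomial (Fin N) K ⧸ I₁)]
    [LocCoh.IsCohenMacaulayRing (MvPolynomial (Fin N) K ⧸ I₂)]
    (h₁ : I₁.height = c) (h₂ : I₂.height = c) (hdisj : Disjoint I₁.minimalPrimes I₂.minimalPrimes)
    [LocCoh.IsGorensteinRing (MvPolynomial (Fin N) K ⧸ (I₁ ⊓ I₂))] :
    (I₁ ⊔ I₂).height = c + 1 ∧
      LocCoh.IsGorensteinRing (MvPolynomial (Fin N) K ⧸ (I₁ ⊔ I₂)) := by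
  have hm1 : ∀ P ∈ I₁.minimalPrimes, P.height = c := fun P hP =>
    (height_eq_of_mem_minimalPrimes_cm I₁ hI₁ hP).trans h₁
  have hm2 : ∀ P ∈ I₂.minimalPrimes, P.height = c := fun P hP =>
    (height_eq_of_mem_minimalPrimes_cm I₂ hI₂ hP).trans h₂
  have htop1 : I₁ ≠ ⊤ := by
    rintro rfl
    rw [Ideal.height_top] at h₁
    exact ENat.top_ne_natCast c h₁
  have htop2 : I₂ ≠ ⊤ := by
    rintro rfl
    rw [Ideal.height_top] at h₂
    exact ENat.top_ne_natCast c h₂
  have hle : I₁ ⊔ I₂ ≤ irr K N :=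
    sup_le (le_irr_of_isHomogeneous hI₁ htop1) (le_irr_of_isHomogeneous hI₂ htop2)
  have htop : I₁ ⊔ I₂ ≠ ⊤ := fun h => (irr_isMaximal K N).ne_top (top_le_iff.mp (h ▸ hle))
  refine ⟨?_, ?_⟩
  · apply le_antisymm
    · obtain ⟨Q, hQ⟩ := Ideal.nonempty_minimalPrimes htop
      have hQp : Q.IsPrime := hQ.1.1
      obtain ⟨-, n, hn, hdep⟩ := gor_localization_quot_sup I₁ I₂ c hm1 hm2 hdisj Q hQ.1.2
      have hmin : maximalIdeal (Localization.AtPrime Q) ∈
          ((I₁ ⊔ I₂).map (algebraMap _ (Localization.AtPrime Q))).minimalPrimes := by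
        rw [IsLocalization.minimalPrimes_map Q.primeCompl (Localization.AtPrime Q) (I₁ ⊔ I₂),
          Set.mem_preimage]
        rw [IsLocalization.AtPrime.under_maximalIdeal (Localization.AtPrime Q) Q]
        exact hQ
      have hart := IsLocalRing.quotient_artinian_of_mem_minimalPrimes_of_isLocalRing _ hmin
      have hnt : Nontrivial (Localization.AtPrime Q ⧸
          (I₁ ⊔ I₂).map (algebraMap _ (Localization.AtPrime Q))) :=
        Ideal.Quotient.nontrivial_iff.mpr (map_ne_top_of_le Q _ hQ.1.2)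
      have h0 : ringKrullDim (Localization.AtPrime Q ⧸
          (I₁ ⊔ I₂).map (algebraMap _ (Localization.AtPrime Q))) = 0 := by
        exact ringKrullDim_eq_zero_of_isArtinianRing' (Localization.AtPrime Q ⧸
          (I₁ ⊔ I₂).map (algebraMap _ (Localization.AtPrime Q)))
      have h3 := depth_le_supportDim (R := Localization.AtPrime Q) (Localization.AtPrime Q ⧸
          (I₁ ⊔ I₂).map (algebraMap _ (Localization.AtPrime Q)))
      rw [Module.supportDim_quotient_eq_ringKrullDim, h0] at h3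
      have h4 : LocCoh.depth (Localization.AtPrime Q) (Localization.AtPrime Q ⧸
          (I₁ ⊔ I₂).map (algebraMap _ (Localization.AtPrime Q))) ≤ 0 := by exact_mod_cast h3
      have h5 : (n : ℕ∞) ≤ 0 := hdep.trans h4
      have h6 : n = 0 := by
        have : n ≤ 0 := by exact_mod_cast h5
        omega
      subst h6
      rw [Ideal.height_eq_inf_minimalPrimes]
      refine (iInf₂_le Q hQ).trans ?_
      rw [hn]
      push_cast
      rfl
    · rw [Ideal.height_eq_inf_minimalPrimes]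
      refine le_iInf₂ fun P hP => ?_
      have hPp : P.IsPrime := hP.1.1
      exact succ_le_height_of_sup_le I₁ I₂ c hm1 hm2 hdisj P hP.1.2
  · refine { isGorensteinLocalRing_localization := fun q hq => ?_ }
    have hQ : (q.comap (Ideal.Quotient.mk (I₁ ⊔ I₂))).IsPrime := Ideal.comap_isPrime _ _
    have hleQ : I₁ ⊔ I₂ ≤ q.comap (Ideal.Quotient.mk (I₁ ⊔ I₂)) := by
      intro x hx
      rw [Ideal.mem_comap, Ideal.Quotient.eq_zero_iff_mem.mpr hx]
      exact zero_mem _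
    exact Groth.Agent.Lib.Helper2.GK.gor_of_ringEquiv (locQuotEquiv _ q _ rfl).symm
      (gor_localization_quot_sup I₁ I₂ c hm1 hm2 hdisj _ hleQ).1

end poly

end Groth.Agent.Lib.Helper16.Liaison
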