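import Groth.Agent.Lib.Helper16.Liaison1
import Groth.Agent.Lib.Helper16.Catenary
import Groth.Agent.Lib.Helper16.DepthLocalize
import Groth.Agent.Lib.Helper18.CMCat
import Groth.Agent.Lib.Helper7.DimFT
import Groth.Prelude.Def_GrSyz

/-!
# Liaison II: heights of minimal primes of homogeneous Gorenstein ideals (helper16)

* irr, le_irr_of_isHomogeneous, le_irr_of_mem_minimalPrimes : proper homogeneous ideals (and minimal primes of homogeneous ideals) of the standard graded polynomial ring lie in the irrelevant maximal ideal.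
* height_map_mk_eq_ringKrullDim_of_isMaximal : ht(m/p) = dim A/p for f.g. algebras over a field.
* height_add_eq_of_mem_minimalPrimes : ht P + dim (R/c)_m = dim R for minimal primes P of c inside m, when R/c is Gorenstein.
-/

set_option autoImplicit false
universe u
open IsLocalRing MvPolynomial

namespace Groth.Agent.Lib.Helper16.Liaison

section graded

variable (K : Type u) [Field K] (N : ℕ)

/-- the irrelevant maximal ideal of the polynomial ring -/
noncomputable def irr : Ideal (MvPolynomial (Fin N) K) :=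
  RingHom.ker (constantCoeff (R := K) (σ := Fin N))

instance irr_isMaximal : (irr K N).IsMaximal :=
  RingHom.ker_isMaximal_of_surjective _ (fun a => ⟨C a, constantCoeff_C _ a⟩)

variable {K N}

theorem le_irr_of_isHomogeneous {J : Ideal (MvPolynomial (Fin N) K)}
    (hJ : J.IsHomogeneous (GrSyz.stdGr K (Fin N))) (hJtop : J ≠ ⊤) : J ≤ irr K N := by
  intro f hf
  have h0 : weightedHomogeneousComponent (fun _ : Fin N => (1 : ℤ)) 0 f ∈ J :=
    weightedHomogeneousComponent_mem_of_mem K (fun _ : Fin N => (1 : ℤ)) hJ hf 0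
  have h1 : weightedHomogeneousComponent (fun _ : Fin N => (1 : ℤ)) 0 f = C (coeff 0 f) := by
    ext d
    rw [coeff_weightedHomogeneousComponent, coeff_C]
    by_cases hd : d = 0
    · subst hd
      simp
    · have hw : Finsupp.weight (fun _ : Fin N => (1 : ℤ)) d ≠ 0 := by
        intro h
        apply hd
        rw [Finsupp.weight_apply, Finsupp.sum] at h
        have h2 : ∀ i ∈ d.support, d i • (1 : ℤ) = 0 := by
          apply (Finset.sum_eq_zero_iff_of_nonneg ?_).mp h
          intro i _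
          positivity
        ext i
        by_cases hi : i ∈ d.support
        · have := h2 i hi
          simpa using this
        · simpa using hi
      rw [if_neg hw, if_neg (Ne.symm hd)]
  rw [h1] at h0
  change constantCoeff f = 0
  by_contra hne
  apply hJtop
  rw [Ideal.eq_top_iff_one]
  have : (C (coeff 0 f)⁻¹ : MvPolynomial (Fin N) K) * C (coeff 0 f) = 1 := by
    rw [← C_mul, inv_mul_cancel₀ (show coeff 0 f ≠ 0 from hne), C_1]
  rw [← this]
  exact J.mul_mem_left _ h0

theorem le_irr_of_mem_minimalPrimes {𝔠 P : Ideal (MvPolynomial (Fin N) K)}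
    (h𝔠 : 𝔠.IsHomogeneous (GrSyz.stdGr K (Fin N))) (hP : P ∈ 𝔠.minimalPrimes) :
    P ≤ irr K N := by
  have hPp := hP.1.1
  have hcore : ((P.homogeneousCore (GrSyz.stdGr K (Fin N))).toIdeal).IsPrime :=
    Ideal.IsPrime.homogeneousCore hPp
  have hle : (P.homogeneousCore (GrSyz.stdGr K (Fin N))).toIdeal ≤ P :=
    Ideal.toIdeal_homogeneousCore_le _ P
  have h𝔠core : 𝔠 ≤ (P.homogeneousCore (GrSyz.stdGr K (Fin N))).toIdeal := by
    rw [← h𝔠.toIdeal_homogeneousCore_eq_self]
    exact Ideal.homogeneousCore_mono _ hP.1.2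
  have hPle : P ≤ (P.homogeneousCore (GrSyz.stdGr K (Fin N))).toIdeal :=
    hP.2 ⟨hcore, h𝔠core⟩ hle
  exact hPle.trans (le_irr_of_isHomogeneous (HomogeneousIdeal.isHomogeneous _) hcore.ne_top)

end graded

section height

variable (K : Type u) [Field K] (A : Type u) [CommRing A] [Algebra K A] [Algebra.FiniteType K A]

include K in
/-- For a maximal ideal `m ⊇ p₀` of a finitely generated algebra over a field:
`ht (m/p₀) = dim A/p₀`. -/
theorem height_map_mk_eq_ringKrullDim_of_isMaximal (p₀ m : Ideal A) [p₀.IsPrime]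
    [hm : m.IsMaximal] (h : p₀ ≤ m) :
    ((m.map (Ideal.Quotient.mk p₀)).height : WithBot ℕ∞) = ringKrullDim (A ⧸ p₀) := by
  have : Algebra.FiniteType K (A ⧸ p₀) :=
    Algebra.FiniteType.of_surjective (Ideal.Quotient.mkₐ K p₀) (Ideal.Quotient.mkₐ_surjective K p₀)
  have hsurj : Function.Surjective (Ideal.Quotient.mk p₀) := Ideal.Quotient.mk_surjective
  have hker : RingHom.ker (Ideal.Quotient.mk p₀) ≤ m := by rw [Ideal.mk_ker]; exact h
  have hmprime : (m.map (Ideal.Quotient.mk p₀)).IsPrime :=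
    Ideal.map_isPrime_of_surjective hsurj hker
  have hmmax : (m.map (Ideal.Quotient.mk p₀)).IsMaximal :=
    (Ideal.map_eq_top_or_isMaximal_of_surjective _ hsurj hm).resolve_left hmprime.ne_top
  exact Groth.Agent.Lib.Helper7.DimFT.height_eq_ringKrullDim_of_isMaximal K (A ⧸ p₀) _

variable (R : Type u) [CommRing R] [IsDomain R] [IsRegularRing R] [Algebra K R]
  [Algebra.FiniteType K R]

include K in
/-- In a regular domain of finite type over a field, if `R/𝔠` is Gorenstein then every minimal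
prime `P` of `𝔠` inside a maximal ideal `m` satisfies `ht P + dim (R/𝔠)_m = dim R`. -/
theorem height_add_eq_of_mem_minimalPrimes (𝔠 : Ideal R) [hG : LocCoh.IsGorensteinRing (R ⧸ 𝔠)]
    (m : Ideal R) [hm : m.IsMaximal] {P : Ideal R} (hP : P ∈ 𝔠.minimalPrimes) (hPm : P ≤ m)
    [hmprime : (m.map (Ideal.Quotient.mk 𝔠)).IsPrime] :
    ((P.height : ℕ∞) : WithBot ℕ∞) +
      ringKrullDim (Localization.AtPrime (m.map (Ideal.Quotient.mk 𝔠))) = ringKrullDim R := by
  have hPp : P.IsPrime := hP.1.1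
  have h𝔠P : 𝔠 ≤ P := hP.1.2
  have hsurj : Function.Surjective (Ideal.Quotient.mk 𝔠) := Ideal.Quotient.mk_surjective
  have : Algebra.FiniteType K (R ⧸ 𝔠) :=
    Algebra.FiniteType.of_surjective (Ideal.Quotient.mkₐ K 𝔠) (Ideal.Quotient.mkₐ_surjective K 𝔠)
  have hnoe : IsNoetherianRing R := inferInstance
  -- the images in `A = R/𝔠`
  have hpprime : (P.map (Ideal.Quotient.mk 𝔠)).IsPrime :=
    Ideal.map_isPrime_of_surjective hsurj (by rwa [Ideal.mk_ker])
  have hmbmax : (m.map (Ideal.Quotient.mk 𝔠)).IsMaximal :=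
    (Ideal.map_eq_top_or_isMaximal_of_surjective _ hsurj hm).resolve_left hmprime.ne_top
  have hpmb : P.map (Ideal.Quotient.mk 𝔠) ≤ m.map (Ideal.Quotient.mk 𝔠) := Ideal.map_mono hPm
  have hpmin : P.map (Ideal.Quotient.mk 𝔠) ∈ minimalPrimes (R ⧸ 𝔠) := by
    have h1 := Ideal.minimalPrimes_map_of_surjective hsurj 𝔠
    rw [Ideal.mk_ker, sup_idem, Ideal.map_quotient_self] at h1
    change P.map (Ideal.Quotient.mk 𝔠) ∈ (⊥ : Ideal (R ⧸ 𝔠)).minimalPrimes
    rw [h1]
    exact ⟨P, hP, rfl⟩
  -- dimension of `R/P`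
  have e1 : ringKrullDim (R ⧸ P) = ringKrullDim ((R ⧸ 𝔠) ⧸ P.map (Ideal.Quotient.mk 𝔠)) :=
    (ringKrullDim_eq_of_ringEquiv (DoubleQuot.quotQuotEquivQuotOfLE h𝔠P)).symm
  have e2 := height_map_mk_eq_ringKrullDim_of_isMaximal K (R ⧸ 𝔠) (P.map (Ideal.Quotient.mk 𝔠))
    (m.map (Ideal.Quotient.mk 𝔠)) hpmb
  have e3 := Depth.ringKrullDim_localization_quotient_map (P.map (Ideal.Quotient.mk 𝔠))
    (m.map (Ideal.Quotient.mk 𝔠)) hpmb
  -- equidimensionality of the Cohen–Macaulay local ring `A_m̄`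
  have hGloc := hG.isGorensteinLocalRing_localization (m.map (Ideal.Quotient.mk 𝔠))
  have hCM := Groth.Agent.Lib.Helper11.GorCM.isCohenMacaulayLocalRing_of_gorenstein
    (Localization.AtPrime (m.map (Ideal.Quotient.mk 𝔠)))
  have hminloc : (P.map (Ideal.Quotient.mk 𝔠)).map
      (algebraMap (R ⧸ 𝔠) (Localization.AtPrime (m.map (Ideal.Quotient.mk 𝔠)))) ∈
      minimalPrimes (Localization.AtPrime (m.map (Ideal.Quotient.mk 𝔠))) := by
    have h2 := IsLocalization.minimalPrimes_map (m.map (Ideal.Quotient.mk 𝔠)).primeCompl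
      (Localization.AtPrime (m.map (Ideal.Quotient.mk 𝔠))) (⊥ : Ideal (R ⧸ 𝔠))
    rw [Ideal.map_bot] at h2
    change _ ∈ (⊥ : Ideal (Localization.AtPrime (m.map (Ideal.Quotient.mk 𝔠)))).minimalPrimes
    rw [h2, Set.mem_preimage]
    have hdisj : Disjoint ((m.map (Ideal.Quotient.mk 𝔠)).primeCompl : Set (R ⧸ 𝔠))
        (P.map (Ideal.Quotient.mk 𝔠) : Set (R ⧸ 𝔠)) := by
      rw [Set.disjoint_left]
      intro x hx hx0
      exact hx (hpmb hx0)
    have h3 := IsLocalization.under_map_of_isPrime_disjoint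
      (m.map (Ideal.Quotient.mk 𝔠)).primeCompl
      (Localization.AtPrime (m.map (Ideal.Quotient.mk 𝔠))) hpprime hdisj
    rw [h3]
    exact hpmin
  have e4 := Groth.Agent.Lib.Helper18.CMCat.isEquidim_of_CM
    (Localization.AtPrime (m.map (Ideal.Quotient.mk 𝔠))) hCM.supportDim_eq_depth _ hminloc
  -- the height formula in `R`
  have e5 := Cat.height_eq_height_map_add R P m hPm
  have e6 := height_map_mk_eq_ringKrullDim_of_isMaximal K R P m hPm
  have e7 := Groth.Agent.Lib.Helper7.DimFT.height_eq_ringKrullDim_of_isMaximal K R m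
  rw [← e7, e5, ← e4, e3, e2, ← e1, ← e6]
  push_cast
  rw [add_comm]

end height

end Groth.Agent.Lib.Helper16.Liaison
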