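import Groth.Agent.Lib.Helper16.ReesExt
import Groth.Agent.Lib.Helper16.ExtVanish

/-!
# `Ext` out of the quotient by a regular sequence (helper16)

For a weakly `B`-regular sequence `xs` and a module `M` with `Ext^i(B, M) = 0` for `i > q`:
`Ext^i(B/(xs)B, M) = 0` for `i > q + |xs|` and
`Ext^{q+|xs|}(B/(xs)B, M) ≃ Ext^q(B, M)/(xs)Ext^q(B, M)`.
In particular `Ext^p(A/(xs), M) ≃ M/(xs)M` for a weakly `A`-regular sequence of length `p`.
-/

set_option autoImplicit false
universe u
open CategoryTheory Abelian RingTheory.Sequence Pointwise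

namespace Groth.Agent.Lib.Helper16.ExtRegQuot

open Groth.Agent.Lib.Helper16.Depth Groth.Agent.Lib.Helper16.Rees

variable {R : Type u} [CommRing R]

/-- linear equivalence of `Ext` induced by an isomorphism in the first variable -/
noncomputable def extCongrLeft {X Y : ModuleCat.{u} R} (e : X ≅ Y) (G : ModuleCat.{u} R) (n : ℕ) :
    Ext.{u} Y G n ≃ₗ[R] Ext.{u} X G n :=
  LinearEquiv.ofLinearMap (Ext.precompOfLinear (Ext.mk₀ e.hom) R G (zero_add n))
    (Ext.precompOfLinear (Ext.mk₀ e.inv) R G (zero_add n))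
    (by
      apply LinearMap.ext
      intro x
      change (Ext.mk₀ e.hom).comp ((Ext.mk₀ e.inv).comp x (zero_add n)) (zero_add n) = x
      rw [Ext.mk₀_comp_mk₀_assoc, Iso.hom_inv_id, Ext.mk₀_id_comp])
    (by
      apply LinearMap.ext
      intro x
      change (Ext.mk₀ e.inv).comp ((Ext.mk₀ e.hom).comp x (zero_add n)) (zero_add n) = x
      rw [Ext.mk₀_comp_mk₀_assoc, Iso.inv_hom_id, Ext.mk₀_id_comp])

/-- a linear equivalence induces an equivalence of the quotients by `I • ⊤` -/
noncomputable def quotSMulTopCongr {N N' : Type u} [AddCommGroup N] [Module R N]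
    [AddCommGroup N'] [Module R N'] (e : N ≃ₗ[R] N') (I : Ideal R) :
    (N ⧸ (I • ⊤ : Submodule R N)) ≃ₗ[R] (N' ⧸ (I • ⊤ : Submodule R N')) :=
  Submodule.Quotient.equiv _ _ e (by
    rw [Submodule.map_smul'', Submodule.map_top, LinearEquiv.range])

/-- precomposition with `x • 𝟙` is multiplication by `x` -/
theorem smul_id_comp {N M : ModuleCat.{u} R} (r : R) {i : ℕ} (e : Ext.{u} N M i) :
    (Ext.mk₀ (r • 𝟙 N)).comp e (zero_add i) = r • e := by
  simp [Ext.mk₀_smul]

section step

variable {B : Type u} [AddCommGroup B] [Module R B] {x : R} (hx : IsSMulRegular B x)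
  (M : ModuleCat.{u} R) (q : ℕ)
  (hq : ∀ i, q < i → Subsingleton (Ext.{u} (ModuleCat.of R B) M i))

include hx hq

theorem step_vanish (i : ℕ) (hi : q + 1 < i) :
    Subsingleton (Ext.{u} (ModuleCat.of R (QuotSMulTop x B)) M i) := by
  have hS := IsSMulRegular.smulShortComplex_shortExact (M := ModuleCat.of R B) hx
  obtain ⟨j, rfl⟩ : ∃ j, i = j + 1 := ⟨i - 1, by omega⟩
  exact ext'_X₃_succ hS M j (hq j (by omega)) (hq (j + 1) (by omega))

theorem step_equiv :
    Nonempty (Ext.{u} (ModuleCat.of R (QuotSMulTop x B)) M (q + 1) ≃ₗ[R]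
      QuotSMulTop x (Ext.{u} (ModuleCat.of R B) M q)) := by
  have hS := IsSMulRegular.smulShortComplex_shortExact (M := ModuleCat.of R B) hx
  let δ : Ext.{u} (ModuleCat.of R B) M q →ₗ[R]
      Ext.{u} (ModuleCat.of R (QuotSMulTop x B)) M (q + 1) :=
    Ext.precompOfLinear hS.extClass R M (add_comm 1 q)
  have hsurj : Function.Surjective δ := by
    intro x₃
    have : Subsingleton (Ext.{u} ((ModuleCat.of R B).smulShortComplex x).X₂ M (q + 1)) :=
      hq (q + 1) (Nat.lt_succ_self q)
    obtain ⟨x₁, hx₁⟩ := Ext.contravariant_sequence_exact₃ hS M x₃ (Subsingleton.elim _ _)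
      (add_comm 1 q)
    exact ⟨x₁, hx₁⟩
  have hker : LinearMap.ker δ = (x • ⊤ : Submodule R (Ext.{u} (ModuleCat.of R B) M q)) := by
    ext e
    rw [LinearMap.mem_ker, Submodule.mem_smul_pointwise_iff_exists]
    constructor
    · intro he
      obtain ⟨x₂, hx₂⟩ := Ext.contravariant_sequence_exact₁ hS M e (add_comm 1 q) he
      refine ⟨x₂, Submodule.mem_top, ?_⟩
      rw [← hx₂]
      exact (smul_id_comp x x₂).symm
    · rintro ⟨x₂, -, rfl⟩
      change hS.extClass.comp (x • x₂) (add_comm 1 q) = 0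
      rw [← smul_id_comp x x₂]
      exact hS.extClass_comp_assoc x₂
  exact ⟨(LinearMap.quotKerEquivOfSurjective δ hsurj).symm.trans
    (Submodule.quotEquivOfEq _ _ hker)⟩

end step

/-- the main induction -/
theorem main (M : ModuleCat.{u} R) (xs : List R) :
    ∀ (B : Type u) [AddCommGroup B] [Module R B] (q : ℕ), IsWeaklyRegular B xs →
      (∀ i, q < i → Subsingleton (Ext.{u} (ModuleCat.of R B) M i)) →
      (∀ i, q + xs.length < i → Subsingleton
        (Ext.{u} (ModuleCat.of R (B ⧸ (Ideal.ofList xs • ⊤ : Submodule R B))) M i)) ∧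
      Nonempty (Ext.{u} (ModuleCat.of R (B ⧸ (Ideal.ofList xs • ⊤ : Submodule R B))) M
          (q + xs.length) ≃ₗ[R]
        (Ext.{u} (ModuleCat.of R B) M q ⧸
          (Ideal.ofList xs • ⊤ : Submodule R (Ext.{u} (ModuleCat.of R B) M q)))) := by
  induction xs with
  | nil =>
    intro B _ _ q _ hq
    have hbot : (Ideal.ofList ([] : List R) • ⊤ : Submodule R B) = ⊥ := by
      rw [Ideal.ofList_nil, Submodule.bot_smul]
    let eB : (B ⧸ (Ideal.ofList ([] : List R) • ⊤ : Submodule R B)) ≃ₗ[R] B :=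
      Submodule.quotEquivOfEqBot _ hbot
    refine ⟨fun i hi => ?_, ?_⟩
    · have := hq i (by simpa using hi)
      exact (extCongrLeft eB.toModuleIso M i).symm.toEquiv.subsingleton
    · have hbot' : (Ideal.ofList ([] : List R) • ⊤ :
          Submodule R (Ext.{u} (ModuleCat.of R B) M q)) = ⊥ := by
        rw [Ideal.ofList_nil, Submodule.bot_smul]
      exact ⟨(extCongrLeft eB.toModuleIso M q).symm.trans
        (Submodule.quotEquivOfEqBot _ hbot').symm⟩
  | cons x xs ih =>
    intro B _ _ q hreg hq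
    rw [isWeaklyRegular_cons_iff] at hreg
    obtain ⟨hx, hxs⟩ := hreg
    obtain ⟨e1⟩ := step_equiv hx M q hq
    obtain ⟨hv, ⟨e2⟩⟩ := ih (QuotSMulTop x B) (q + 1) hxs (step_vanish hx M q hq)
    let eB := Submodule.quotOfListConsSMulTopEquivQuotSMulTopInner B x xs
    have hlen : q + (x :: xs).length = q + 1 + xs.length := by
      simp only [List.length_cons]
      omega
    refine ⟨fun i hi => ?_, ?_⟩
    · have := hv i (by rw [← hlen]; exact hi)
      exact (extCongrLeft eB.toModuleIso M i).symm.toEquiv.subsingleton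
    · rw [hlen]
      let eE := Submodule.quotOfListConsSMulTopEquivQuotSMulTopInner
        (Ext.{u} (ModuleCat.of R B) M q) x xs
      exact ⟨(extCongrLeft eB.toModuleIso M (q + 1 + xs.length)).symm.trans
        (e2.trans ((quotSMulTopCongr e1 (Ideal.ofList xs)).trans eE.symm))⟩

/-- `Ext^p(A/(xs), M) ≃ M/(xs)M` for a weakly `A`-regular sequence `xs` of length `p`. -/
theorem ext_quot_regular (xs : List R) (hreg : IsWeaklyRegular R xs) (M : Type u)
    [AddCommGroup M] [Module R M] :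
    (∀ i, xs.length < i → Subsingleton
      (Ext.{u} (ModuleCat.of R (R ⧸ Ideal.ofList xs)) (ModuleCat.of R M) i)) ∧
    Nonempty (Ext.{u} (ModuleCat.of R (R ⧸ Ideal.ofList xs)) (ModuleCat.of R M) xs.length ≃ₗ[R]
      (M ⧸ (Ideal.ofList xs • ⊤ : Submodule R M))) := by
  have hq : ∀ i, 0 < i → Subsingleton (Ext.{u} (ModuleCat.of R R) (ModuleCat.of R M) i) := by
    intro i hi
    obtain ⟨j, rfl⟩ : ∃ j, i = j + 1 := ⟨i - 1, by omega⟩
    have : Projective (ModuleCat.of R R) := inferInstance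
    exact Ext.subsingleton_of_projective _ _ _
  obtain ⟨hv, ⟨e⟩⟩ := main (ModuleCat.of R M) xs R 0 hreg hq
  have hI : (Ideal.ofList xs • ⊤ : Submodule R R) = Ideal.ofList xs := by
    rw [smul_eq_mul, Ideal.mul_top]
  let eA : (R ⧸ Ideal.ofList xs) ≃ₗ[R] (R ⧸ (Ideal.ofList xs • ⊤ : Submodule R R)) :=
    Submodule.quotEquivOfEq _ _ hI.symm
  let e0 : Ext.{u} (ModuleCat.of R R) (ModuleCat.of R M) 0 ≃ₗ[R] M :=
    (Ext.linearEquiv₀.trans ModuleCat.homLinearEquiv).trans (LinearMap.ringLmapEquivSelf R R M)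
  refine ⟨fun i hi => ?_, ?_⟩
  · have := hv i (by simpa using hi)
    exact (extCongrLeft eA.toModuleIso (ModuleCat.of R M) i).symm.toEquiv.subsingleton
  · rw [zero_add] at e
    exact ⟨(extCongrLeft eA.toModuleIso (ModuleCat.of R M) xs.length).symm.trans
      (e.trans (quotSMulTopCongr e0 (Ideal.ofList xs)))⟩

end Groth.Agent.Lib.Helper16.ExtRegQuot
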