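import Mathlib
import Groth.Agent.Lib.Helper16.CIInv1

/-!
# Tuples with only Koszul relations in a Noetherian local ring are regular sequences (helper16)
-/

set_option autoImplicit false
set_option linter.unusedSectionVars false

universe u v w

open Submodule IsLocalRing RingTheory.Sequence

namespace Groth.Agent.Lib.Helper16.GorLCI

open Groth.Agent.Lib.Helper16.CIInv

variable {T : Type u} [CommRing T]

section Peel

variable {c : ℕ} (l' : Fin (c + 1) → T)

/-- the initial segment -/
def ini : Fin c → T := fun i => l' i.castSucc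

/-- the parametrization of the relations that the Koszul relations of `l'` satisfy -/
noncomputable def Phi : (↥(kosz (ini l')) × (Fin c → T)) →ₗ[T] (Fin (c + 1) → T) where
  toFun p := Fin.snoc (α := fun _ => T) ((p.1 : Fin c → T) - l' (Fin.last c) • p.2) (lc (ini l') p.2)
  map_add' p q := by
    funext k
    refine Fin.lastCases ?_ (fun k => ?_) k
    · simp [Fin.snoc_last]
    · simp only [Fin.snoc_castSucc, Pi.add_apply, Prod.fst_add, Prod.snd_add, Submodule.coe_add,
        Pi.sub_apply, Pi.smul_apply, smul_eq_mul]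
      ring
  map_smul' r p := by
    funext k
    refine Fin.lastCases ?_ (fun k => ?_) k
    · simp [Fin.snoc_last]
    · simp only [Fin.snoc_castSucc, Pi.smul_apply, Prod.smul_fst, Prod.smul_snd, Submodule.coe_smul,
        Pi.sub_apply, smul_eq_mul, RingHom.id_apply]
      ring

theorem Phi_last (p : ↥(kosz (ini l')) × (Fin c → T)) :
    Phi l' p (Fin.last c) = lc (ini l') p.2 := by
  simp [Phi, Fin.snoc_last]

theorem Phi_castSucc (p : ↥(kosz (ini l')) × (Fin c → T)) (k : Fin c) :
    Phi l' p k.castSucc = (p.1 : Fin c → T) k - l' (Fin.last c) * p.2 k := by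
  simp [Phi, Fin.snoc_castSucc]

theorem kosz_le_range_Phi : kosz l' ≤ LinearMap.range (Phi l') := by
  rw [kosz, Submodule.span_le]
  rintro _ ⟨⟨p, q⟩, rfl⟩
  refine Fin.lastCases ?_ (fun i => ?_) p
  · refine Fin.lastCases ?_ (fun j => ?_) q
    · refine ⟨0, ?_⟩
      rw [map_zero]
      simp [gen]
    · refine ⟨(0, -Pi.single j (1 : T)), ?_⟩
      funext k
      refine Fin.lastCases ?_ (fun k => ?_) k
      · rw [Phi_last]
        simp [gen, lc_single, ini, Pi.single_apply, Fin.castSucc_ne_last, (Fin.castSucc_ne_last _).symm]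
      · rw [Phi_castSucc]
        simp [gen, Pi.single_apply, Fin.castSucc_inj, Fin.castSucc_ne_last, (Fin.castSucc_ne_last _).symm]
  · refine Fin.lastCases ?_ (fun j => ?_) q
    · refine ⟨(0, Pi.single i (1 : T)), ?_⟩
      funext k
      refine Fin.lastCases ?_ (fun k => ?_) k
      · rw [Phi_last]
        simp [gen, lc_single, ini, Pi.single_apply, Fin.castSucc_ne_last, (Fin.castSucc_ne_last _).symm]
      · rw [Phi_castSucc]
        simp [gen, Pi.single_apply, Fin.castSucc_inj, Fin.castSucc_ne_last, (Fin.castSucc_ne_last _).symm]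
    · refine ⟨(⟨gen (ini l') (i, j), Submodule.subset_span ⟨(i, j), rfl⟩⟩, 0), ?_⟩
      funext k
      refine Fin.lastCases ?_ (fun k => ?_) k
      · rw [Phi_last]
        simp [gen, Pi.single_apply, Fin.castSucc_ne_last, (Fin.castSucc_ne_last _).symm]
      · rw [Phi_castSucc]
        simp [gen, ini, Pi.single_apply, Fin.castSucc_inj]


theorem lc_snoc (r' : Fin c → T) (a : T) :
    lc l' (Fin.snoc (α := fun _ => T) r' a) = lc (ini l') r' + a * l' (Fin.last c) := by
  rw [lc_apply, lc_apply, Fin.sum_univ_castSucc]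
  simp [Fin.snoc_castSucc, Fin.snoc_last, ini]

theorem mem_of_last_mul_mem (hH : LinearMap.ker (lc l') ≤ kosz l') (a : T)
    (ha : l' (Fin.last c) * a ∈ Ideal.span (Set.range (ini l'))) :
    a ∈ Ideal.span (Set.range (ini l')) := by
  rw [← range_lc] at ha ⊢
  obtain ⟨b, hb⟩ := ha
  have hw : Fin.snoc (α := fun _ => T) b (-a) ∈ LinearMap.ker (lc l') := by
    rw [LinearMap.mem_ker, lc_snoc, hb]
    ring
  obtain ⟨⟨k, b'⟩, hkb⟩ := kosz_le_range_Phi l' (hH hw)
  have h1 := congrFun hkb (Fin.last c)
  rw [Phi_last, Fin.snoc_last] at h1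
  refine ⟨-b', ?_⟩
  rw [map_neg, h1, neg_neg]

theorem isSMulRegular_last (hH : LinearMap.ker (lc l') ≤ kosz l') :
    IsSMulRegular (T ⧸ (Ideal.ofList (List.ofFn (ini l')) • ⊤ : Submodule T T)) (l' (Fin.last c)) := by
  have hI : Ideal.ofList (List.ofFn (ini l')) = Ideal.span (Set.range (ini l')) := by
    rw [Ideal.ofList]
    congr 1
    ext b
    simp [List.mem_ofFn]
  have hmem : ∀ a : T, a ∈ (Ideal.ofList (List.ofFn (ini l')) • ⊤ : Submodule T T) ↔
      a ∈ Ideal.span (Set.range (ini l')) := by
    intro a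
    rw [hI, Ideal.smul_top_eq_map, Algebra.algebraMap_self, Ideal.map_id]
    rfl
  intro x y hxy
  obtain ⟨a, rfl⟩ := Submodule.Quotient.mk_surjective _ x
  obtain ⟨b, rfl⟩ := Submodule.Quotient.mk_surjective _ y
  simp only [← Submodule.Quotient.mk_smul] at hxy
  rw [Submodule.Quotient.eq, hmem] at hxy ⊢
  apply mem_of_last_mul_mem l' hH
  have : l' (Fin.last c) * (a - b) = l' (Fin.last c) • a - l' (Fin.last c) • b := by
    simp [mul_sub]
  rw [this]
  exact hxy

variable [IsLocalRing T] [IsNoetherianRing T]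

theorem ker_lc_ini_le (hlast : l' (Fin.last c) ∈ maximalIdeal T)
    (hH : LinearMap.ker (lc l') ≤ kosz l') : LinearMap.ker (lc (ini l')) ≤ kosz (ini l') := by
  refine Submodule.le_of_le_smul_of_le_jacobson_bot (I := maximalIdeal T)
    (IsNoetherian.noetherian _) (IsLocalRing.maximalIdeal_le_jacobson ⊥) ?_
  intro r' hr'
  rw [LinearMap.mem_ker] at hr'
  have hw : Fin.snoc (α := fun _ => T) r' 0 ∈ LinearMap.ker (lc l') := by
    rw [LinearMap.mem_ker, lc_snoc, hr', zero_mul, add_zero]
  obtain ⟨⟨k, b⟩, hkb⟩ := kosz_le_range_Phi l' (hH hw)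
  have h1 := congrFun hkb (Fin.last c)
  rw [Phi_last, Fin.snoc_last] at h1
  have h2 : r' = (k : Fin c → T) - l' (Fin.last c) • b := by
    funext i
    have := congrFun hkb i.castSucc
    rw [Phi_castSucc, Fin.snoc_castSucc] at this
    rw [← this]
    rfl
  rw [h2, sub_eq_add_neg]
  exact Submodule.add_mem_sup k.2
    (neg_mem (Submodule.smul_mem_smul hlast (LinearMap.mem_ker.mpr h1)))

end Peel

/-- In a Noetherian local ring, a tuple in the maximal ideal all of whose relations are Koszul
relations is a (weakly) regular sequence. -/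
theorem isWeaklyRegular_of_ker_lc_le_kosz [IsLocalRing T] [IsNoetherianRing T] :
    ∀ (c : ℕ) (l' : Fin c → T), (∀ j, l' j ∈ maximalIdeal T) →
      LinearMap.ker (lc l') ≤ kosz l' → IsWeaklyRegular T (List.ofFn l') := by
  intro c
  induction c with
  | zero =>
    intro l' _ _
    rw [List.ofFn_zero]
    exact IsWeaklyRegular.nil T T
  | succ c ih =>
    intro l' hmem hH
    rw [List.ofFn_succ', List.concat_eq_append, isWeaklyRegular_append_iff,
      isWeaklyRegular_singleton_iff]
    refine ⟨ih (ini l') (fun j => hmem _) (ker_lc_ini_le l' (hmem _) hH), ?_⟩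
    exact isSMulRegular_last l' hH

end Groth.Agent.Lib.Helper16.GorLCI
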