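import Mathlib
import Groth.Agent.Lib.Helper16.GorLCI1
import Groth.Agent.Lib.Helper16.CIInv3
import Groth.Agent.Lib.Helper1.KoszulET2
import Groth.Agent.Lib.Helper16.GorQuot
import Groth.Agent.Lib.Helper16.GorBC2

/-!
# Quotients of Gorenstein rings by Koszul-regular ideals; polynomial rings (helper16)
-/

set_option autoImplicit false
set_option linter.unusedSectionVars false

universe u v w

open Submodule IsLocalRing RingTheory.Sequence

namespace Groth.Agent.Lib.Helper16.GorLCI

open Groth.Agent.Lib.Helper16.CIInv

/-- pushing forward along any ring homomorphism preserves Koszul relations -/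
theorem Fmap_mem_kosz {B A : Type u} [CommRing B] [CommRing A] (f : B →+* A) {ι : Type v}
    [Fintype ι] [DecidableEq ι] (ξ : ι → B) (w : ι → B) (hw : w ∈ kosz ξ) :
    Fmap f w ∈ kosz (fun i => f (ξ i)) := by
  rw [kosz] at hw
  induction hw using Submodule.span_induction with
  | mem w hw =>
    obtain ⟨p, rfl⟩ := hw
    rw [Fmap_gen]
    exact Submodule.subset_span ⟨p, rfl⟩
  | zero => rw [map_zero]; exact Submodule.zero_mem _
  | add x y _ _ hx hy => rw [map_add]; exact Submodule.add_mem _ hx hy
  | smul r x _ hx => rw [map_smulₛₗ]; exact Submodule.smul_mem _ _ hx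

section Loc

variable {P : Type u} [CommRing P] (p : Ideal P) [p.IsPrime] {c : ℕ} (l' : Fin c → P)

/-- relations of the images in a localization come from relations up to units -/
theorem ker_lc_le_kosz_localization (g : P) (hg : g ∉ p)
    (h3 : ∀ w : Fin c → P, ∑ j, w j * l' j = 0 →
      ∃ N : ℕ, g ^ N • w ∈ Groth.Agent.Lib.Helper1.KoszulLow.kosz l') :
    LinearMap.ker (lc (fun j => algebraMap P (Localization.AtPrime p) (l' j))) ≤
      kosz (fun j => algebraMap P (Localization.AtPrime p) (l' j)) := by
  intro w hw
  rw [LinearMap.mem_ker, lc_apply] at hw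
  obtain ⟨s, hs⟩ := IsLocalization.exist_integer_multiples_of_finite p.primeCompl w
  choose wt hwt using hs
  have h1 : algebraMap P (Localization.AtPrime p) (∑ j, wt j * l' j) = 0 := by
    rw [map_sum]
    simp only [map_mul, hwt]
    rw [← Finset.sum_congr rfl (fun j _ => (smul_mul_assoc (s : P) (w j) _).symm), ← Finset.smul_sum,
      hw, smul_zero]
  obtain ⟨t, ht⟩ := (IsLocalization.map_eq_zero_iff p.primeCompl _ _).mp h1
  have h2 : ∑ j, ((t : P) • wt) j * l' j = 0 := by
    rw [← ht, Finset.mul_sum]
    refine Finset.sum_congr rfl fun j _ => ?_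
    simp [mul_assoc]
  obtain ⟨N, hN⟩ := h3 _ h2
  have hle : Groth.Agent.Lib.Helper1.KoszulLow.kosz l' ≤ kosz l' := by
    unfold Groth.Agent.Lib.Helper1.KoszulLow.kosz kosz
    apply Submodule.span_mono
    rintro y ⟨i, j, rfl⟩
    exact ⟨(i, j), rfl⟩
  have h4 := Fmap_mem_kosz (algebraMap P (Localization.AtPrime p)) l' _ (hle hN)
  set u : Localization.AtPrime p := algebraMap P _ (g ^ N * t * s) with hu
  have hunit : IsUnit u := by
    apply IsLocalization.map_units (Localization.AtPrime p) (⟨g ^ N * t * s, ?_⟩ : p.primeCompl)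
    exact Submonoid.mul_mem _ (Submonoid.mul_mem _ (Submonoid.pow_mem _ hg N) t.2) s.2
  have h5 : Fmap (algebraMap P (Localization.AtPrime p)) (g ^ N • (t : P) • wt) = u • w := by
    funext j
    simp only [Fmap_apply, Pi.smul_apply, smul_eq_mul, map_mul, hwt, hu]
    rw [Algebra.smul_def]
    ring
  rw [h5] at h4
  have := Submodule.smul_mem _ (↑hunit.unit⁻¹ : Localization.AtPrime p) h4
  rwa [smul_smul, IsUnit.val_inv_mul, one_smul] at this

end Loc


section Main

variable {P : Type u} [CommRing P] [IsNoetherianRing P]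

/-- the local ring of a quotient at a prime is the quotient of the local ring -/
theorem gor_localization_quot (I : Ideal P) (q : Ideal (P ⧸ I)) [q.IsPrime]
    (p : Ideal P) [p.IsPrime] (hp : p = q.comap (Ideal.Quotient.mk I))
    (h : LocCoh.IsGorensteinLocalRing
      (Localization.AtPrime p ⧸ I.map (algebraMap P (Localization.AtPrime p)))) :
    LocCoh.IsGorensteinLocalRing (Localization.AtPrime q) := by
  have hsub : Algebra.algebraMapSubmonoid (P ⧸ I) p.primeCompl = q.primeCompl := by
    ext c
    constructor
    · rintro ⟨b, hb, rfl⟩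
      intro hc
      apply hb
      rw [hp]
      exact hc
    · intro hc
      obtain ⟨b, rfl⟩ := Ideal.Quotient.mk_surjective c
      refine ⟨b, ?_, rfl⟩
      intro hb
      apply hc
      rw [hp] at hb
      exact hb
  have hloc : IsLocalization q.primeCompl
      (Localization.AtPrime p ⧸ I.map (algebraMap P (Localization.AtPrime p))) := by
    rw [← hsub]
    infer_instance
  let e2 : Localization.AtPrime q ≃+*
      (Localization.AtPrime p ⧸ I.map (algebraMap P (Localization.AtPrime p))) :=
    (IsLocalization.algEquiv q.primeCompl (Localization.AtPrime q)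
      (Localization.AtPrime p ⧸ I.map (algebraMap P (Localization.AtPrime p)))).toRingEquiv
  exact Groth.Agent.Lib.Helper2.GK.gor_of_ringEquiv e2.symm h

/-- the quotient of a Gorenstein ring by a Koszul-regular ideal is Gorenstein -/
theorem gorRing_quot_of_isKoszulRegularIdeal (hP : LocCoh.IsGorensteinRing P) (I : Ideal P)
    (hI : LCI.IsKoszulRegularIdeal I) : LocCoh.IsGorensteinRing (P ⧸ I) := by
  refine { isGorensteinLocalRing_localization := ?_ }
  intro q _
  set p : Ideal P := q.comap (Ideal.Quotient.mk I) with hp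
  have hIp : I ≤ p := by
    intro x hx
    rw [hp, Ideal.mem_comap, Ideal.Quotient.eq_zero_iff_mem.mpr hx]
    exact zero_mem _
  obtain ⟨g, hg, l, hl, hIl⟩ := hI ⟨p, inferInstance⟩ hIp
  obtain ⟨c, l', h1, h2, h3⟩ :=
    Groth.Agent.Lib.Helper1.KoszulLow.exists_global_data g (Localization.Away g) I l hl hIl
  set T := Localization.AtPrime p with hT
  set lam : Fin c → T := fun j => algebraMap P T (l' j) with hlam
  have hmem : ∀ j, lam j ∈ maximalIdeal T := by
    intro j
    rw [← Localization.AtPrime.map_eq_maximalIdeal]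
    exact Ideal.mem_map_of_mem _ (hIp (h1 j))
  have hH := ker_lc_le_kosz_localization p l' g hg h3
  have hreg := isWeaklyRegular_of_ker_lc_le_kosz c lam hmem hH
  have hofList : Ideal.ofList (List.ofFn lam) = Ideal.span (Set.range lam) := by
    rw [Ideal.ofList]
    congr 1
    ext b
    simp [List.mem_ofFn]
  have hspan : Ideal.ofList (List.ofFn lam) = I.map (algebraMap P T) := by
    rw [hofList]
    apply le_antisymm
    · rw [Ideal.span_le]
      rintro _ ⟨j, rfl⟩
      exact Ideal.mem_map_of_mem _ (h1 j)
    · rw [Ideal.map_le_iff_le_comap]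
      intro x hx
      obtain ⟨M, hM⟩ := h2 x hx
      rw [Ideal.mem_comap]
      have h4 : algebraMap P T (g ^ M * x) ∈ Ideal.span (Set.range lam) := by
        have : Set.range lam = algebraMap P T '' Set.range l' := by
          rw [← Set.range_comp]; rfl
        rw [this, ← Ideal.map_span]
        exact Ideal.mem_map_of_mem _ hM
      rw [map_mul] at h4
      have hunit : IsUnit (algebraMap P T (g ^ M)) :=
        IsLocalization.map_units T (⟨g ^ M, Submonoid.pow_mem _ hg M⟩ : p.primeCompl)
      exact (Ideal.unit_mul_mem_iff_mem _ hunit).mp h4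
  have hGT : LocCoh.IsGorensteinLocalRing T := hP.isGorensteinLocalRing_localization p
  have hG1 := Groth.Agent.Lib.Helper16.GorQuot.gor_quot_ofList hGT (List.ofFn lam)
    (by
      intro x hx
      obtain ⟨j, rfl⟩ := (List.mem_ofFn' lam x).mp hx
      exact hmem j) hreg
  have hG2 := Groth.Agent.Lib.Helper16.GorQuot.gor_congr_ideal hspan hG1
  exact gor_localization_quot I q p hp hG2

/-- polynomial rings in finitely many variables over a Gorenstein ring are Gorenstein -/
theorem gorRing_mvPolynomial (A : Type u) [CommRing A] (hA : LocCoh.IsGorensteinRing A) :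
    ∀ n : ℕ, LocCoh.IsGorensteinRing (MvPolynomial (Fin n) A) := by
  intro n
  induction n with
  | zero =>
    exact Groth.Agent.Lib.Helper16.GorBC.gorRing_of_ringEquiv
      (MvPolynomial.isEmptyAlgEquiv A (Fin 0)).symm.toRingEquiv hA
  | succ n ih =>
    exact Groth.Agent.Lib.Helper16.GorBC.gorRing_of_ringEquiv
      (MvPolynomial.finSuccEquiv A n).symm.toRingEquiv
      (Groth.Agent.Lib.Helper16.GorBC.gorRing_polynomial _ ih)

end Main

end Groth.Agent.Lib.Helper16.GorLCI
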