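import Groth.Agent.Lib.Helper16.LocCohNonvanish
import Groth.Agent.Lib.Helper16.LocCohLocalize
import Mathlib.RingTheory.Ideal.MinimalPrime.Localization
import Mathlib.RingTheory.Ideal.Height

set_option autoImplicit false
universe u
open CategoryTheory Opposite Limits Pointwise TensorProduct

namespace Groth.Agent.Lib.Helper16.LC

open Groth.Agent.Lib.Helper16.Depth Groth.Agent.Lib.Helper16.DTL IsLocalRing

section cor

/-- radical invariance. -/
noncomputable def HequivOfRadical {A : Type u} [CommRing A] [IsNoetherianRing A] {J K : Ideal A}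
    (h : J.radical = K.radical) (i : ℕ) (X : Type u) [AddCommGroup X] [Module A X] :
    LocCoh.H J i X ≃ₗ[A] LocCoh.H K i X :=
  ((localCohomology.isoOfSameRadical h i).app (ModuleCat.of A X)).toLinearEquiv

variable {R : Type u} [CommRing R] [IsNoetherianRing R]

/-- `H^h_I(R) ≠ 0` for `h = ht I`. -/
theorem nontrivial_H_height (I : Ideal R) (h : ℕ) (hh : I.height = h) :
    Nontrivial (LocCoh.H I h R) := by
  obtain ⟨p, hp, hIp, hph⟩ := Ideal.exists_isPrime_height_eq hh
  have hmin : p ∈ I.minimalPrimes := Ideal.mem_minimalPrimes_of_height_le hIp (by rw [hph, hh])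
  have : IsNoetherianRing (Localization.AtPrime p) :=
    IsLocalization.isNoetherianRing p.primeCompl _ inferInstance
  have : Module.Flat R (Localization.AtPrime p) := IsLocalization.flat _ p.primeCompl
  have hdim : ringKrullDim (Localization.AtPrime p) = h := by
    rw [IsLocalization.AtPrime.ringKrullDim_eq_height p (Localization.AtPrime p), hph]
    rfl
  have hrad : (I.map (algebraMap R (Localization.AtPrime p))).radical =
      (maximalIdeal (Localization.AtPrime p)).radical := by
    rw [IsLocalization.AtPrime.radical_map_of_mem_minimalPrimes (Localization.AtPrime p) p I hmin,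
      IsLocalization.AtPrime.map_eq_maximalIdeal p (Localization.AtPrime p),
      (maximalIdeal.isMaximal _).isPrime.radical]
  have h1 : Nontrivial (LocCoh.H (maximalIdeal (Localization.AtPrime p)) h
      (Localization.AtPrime p)) :=
    nontrivial_H_supportDim (Localization.AtPrime p) h (by
      rw [Module.supportDim_self_eq_ringKrullDim, hdim])
  have h2 : Nontrivial (LocCoh.H (I.map (algebraMap R (Localization.AtPrime p))) h
      (Localization.AtPrime p)) :=
    (HequivOfRadical hrad h (Localization.AtPrime p)).toEquiv.nontrivial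
  obtain ⟨e⟩ := nonempty_H_baseChange_equiv (R' := Localization.AtPrime p) I h R
  have e2 := HcongrEquiv (I.map (algebraMap R (Localization.AtPrime p))) h
    (TensorProduct.AlgebraTensorModule.rid R (Localization.AtPrime p) (Localization.AtPrime p))
  have h3 : Nontrivial ((Localization.AtPrime p) ⊗[R] LocCoh.H I h R) :=
    (e.trans e2).toEquiv.nontrivial
  by_contra hcon
  rw [not_nontrivial_iff_subsingleton] at hcon
  have : Subsingleton ((Localization.AtPrime p) ⊗[R] LocCoh.H I h R) := inferInstance
  exact not_subsingleton _ this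

end cor

section locring

variable {R : Type u} [CommRing R] [IsNoetherianRing R] [IsLocalRing R]

omit [IsNoetherianRing R] in
theorem exists_mem_maximalIdeal_notMem (q : PrimeSpectrum R) (n : ℕ) (hn : 0 < n)
    (hq : Order.coheight q = (n : ℕ∞)) : ∃ x ∈ maximalIdeal R, x ∉ q.asIdeal := by
  have hqne : q.asIdeal ≠ maximalIdeal R := by
    intro heq
    have hmax : IsMax q := by
      intro p hp
      have h1 : p.asIdeal ≤ maximalIdeal R := IsLocalRing.le_maximalIdeal p.isPrime.ne_top
      rw [← heq] at h1
      exact h1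
    have := Order.coheight_eq_zero.mpr hmax
    rw [hq] at this
    have : n = 0 := by exact_mod_cast this
    omega
  exact SetLike.exists_of_lt
    (lt_of_le_of_ne (IsLocalRing.le_maximalIdeal q.isPrime.ne_top) hqne)

/-- `H^n_m(M)` is not finitely generated for `n = dim M > 0`. -/
theorem not_finite_H_supportDim (M : Type u) [AddCommGroup M] [Module R M] [Module.Finite R M]
    (n : ℕ) (hn0 : 0 < n) (hn : Module.supportDim R M = n) :
    ¬ Module.Finite R (LocCoh.H (maximalIdeal R) n M) := by
  intro hfin
  obtain ⟨q, hqM, hq⟩ := exists_mem_support_coheight_eq M n hn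
  have hsupp := support_quotient_prime M q hqM
  have hnt : Nontrivial (LocCoh.H (maximalIdeal R) n (M ⧸ (q.asIdeal • ⊤ : Submodule R M))) :=
    coreHyp n q _ hq hsupp
  have hS := shortExact_of_linearMaps (q.asIdeal • ⊤ : Submodule R M).subtype
    (q.asIdeal • ⊤ : Submodule R M).mkQ (Submodule.injective_subtype _)
    (Submodule.mkQ_surjective _) (LinearMap.exact_subtype_mkQ _)
  have hsurj := Hmap_g_surjective_of_supportDim_lt (maximalIdeal R) hS n (by
    refine lt_of_le_of_lt (Module.supportDim_le_of_injective _ (Submodule.injective_subtype _)) ?_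
    rw [hn]
    exact_mod_cast Nat.lt_succ_self n)
  have hfin1 : Module.Finite R
      (LocCoh.H (maximalIdeal R) n (M ⧸ (q.asIdeal • ⊤ : Submodule R M))) :=
    Module.Finite.of_surjective _ hsurj
  obtain ⟨x, hxm, hxq⟩ := exists_mem_maximalIdeal_notMem q n hn0 hq
  have hdim1 : Module.supportDim R (M ⧸ (q.asIdeal • ⊤ : Submodule R M)) = (n : WithBot ℕ∞) := by
    rw [supportDim_quotient_prime M q hqM, hq]
    rfl
  have hdiv := smul_H_surjective_of_supportDim (maximalIdeal R) n x
    (M ⧸ (q.asIdeal • ⊤ : Submodule R M))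
    (by rw [hdim1]; exact_mod_cast Nat.lt_succ_self n)
    (supportDim_quotSMulTop_lt _ q hsupp.le n hq x hxq)
  have hne := Submodule.top_ne_ideal_smul_of_le_jacobson_annihilator (R := R)
    (M := LocCoh.H (maximalIdeal R) n (M ⧸ (q.asIdeal • ⊤ : Submodule R M)))
    (I := Ideal.span {x})
    (((Ideal.span_singleton_le_iff_mem _).mpr hxm).trans (IsLocalRing.maximalIdeal_le_jacobson _))
  apply hne
  symm
  rw [eq_top_iff]
  intro y _
  obtain ⟨y', rfl⟩ := hdiv y
  exact Submodule.smul_mem_smul (Ideal.mem_span_singleton_self x) trivial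

/-- no cohomological dimension bound below `dim R/p` when `√(p + I) = m`. -/
theorem not_cdLE_of_prime (I : Ideal R) (p : Ideal R) [p.IsPrime]
    (hpI : (p ⊔ I).radical = maximalIdeal R) (d : ℕ) (hd : ringKrullDim (R ⧸ p) = d)
    (hd1 : 1 ≤ d) : ¬ LocCoh.CdLE R I (d - 1) := by
  intro hcd
  have h1 : Subsingleton (LocCoh.H I d (R ⧸ p)) := hcd (R ⧸ p) d (by omega)
  obtain ⟨φ, -⟩ := semiIso_H (R' := R ⧸ p) I d (R ⧸ p)
  have h2 : Subsingleton (LocCoh.H (I.map (algebraMap R (R ⧸ p))) d (R ⧸ p)) :=
    φ.toEquiv.subsingleton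
  have hloc : IsLocalRing (R ⧸ p) :=
    IsLocalRing.of_surjective' (Ideal.Quotient.mk p) Ideal.Quotient.mk_surjective
  have hrad : (I.map (algebraMap R (R ⧸ p))).radical = (maximalIdeal (R ⧸ p)).radical := by
    apply Ideal.comap_injective_of_surjective (Ideal.Quotient.mk p) Ideal.Quotient.mk_surjective
    have e1 : Ideal.comap (Ideal.Quotient.mk p) (I.map (algebraMap R (R ⧸ p))).radical =
        maximalIdeal R := by
      rw [Ideal.comap_radical]
      have : Ideal.comap (Ideal.Quotient.mk p) (I.map (algebraMap R (R ⧸ p))) = I ⊔ p := by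
        have := Ideal.comap_map_of_surjective (Ideal.Quotient.mk p) Ideal.Quotient.mk_surjective I
        rw [← RingHom.ker_eq_comap_bot, Ideal.mk_ker] at this
        exact this
      rw [this, sup_comm, hpI]
    have e2 : Ideal.comap (Ideal.Quotient.mk p) (maximalIdeal (R ⧸ p)).radical =
        maximalIdeal R := by
      rw [(maximalIdeal.isMaximal _).isPrime.radical]
      have hmax : (Ideal.comap (Ideal.Quotient.mk p) (maximalIdeal (R ⧸ p))).IsMaximal :=
        Ideal.comap_isMaximal_of_surjective _ Ideal.Quotient.mk_surjective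
      exact IsLocalRing.eq_maximalIdeal hmax
    rw [e1, e2]
  have h3 : Subsingleton (LocCoh.H (maximalIdeal (R ⧸ p)) d (R ⧸ p)) :=
    (HequivOfRadical hrad d (R ⧸ p)).symm.toEquiv.subsingleton
  have h4 : Nontrivial (LocCoh.H (maximalIdeal (R ⧸ p)) d (R ⧸ p)) :=
    nontrivial_H_supportDim (R ⧸ p) d (by rw [Module.supportDim_self_eq_ringKrullDim, hd])
  exact not_subsingleton _ h3

end locring

end Groth.Agent.Lib.Helper16.LC
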