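import Groth.Agent.Lib.Helper16.PDChange
import Groth.Agent.Lib.Helper16.RegularDim
import Groth.Agent.Lib.Helper18.PD
import Groth.Agent.Lib.Helper4.RegularGlobalDim

/-!
# Applications of the Auslander–Buchsbaum formula (helper16)

* `depth_localizedModule_eq_zero`, `hasProjectiveDimensionLT_localizedModule`.
* `height_le_of_mem_associatedPrimes`: `ht p ≤ pd M` for `p ∈ Ass M` over a regular local ring.
* `hasProjectiveDimensionLT_of_subsingleton_ext_self`, `hasProjectiveDimensionLT_iff_ext_self`:
  for a finite module of finite projective dimension over a Noetherian ring,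
  `pd M ≤ q ↔ Ext^i(M, A) = 0` for all `i > q`.
-/

set_option autoImplicit false
universe u

open CategoryTheory IsLocalRing CategoryTheory.Abelian

namespace Groth.Agent.Lib.Helper16.ABApps

open Groth.Agent.Lib.Helper16.Depth Groth.Agent.Lib.Helper16.AusBuch
open Groth.Agent.Lib.Helper16.PDChange Groth.Agent.Lib.Helper16.PDR
open Groth.Agent.Lib.Helper18.CM Groth.Agent.Lib.Helper18.PD
open Groth.Agent.Lib.Helper16.NormalFlat

section assoc

variable (R : Type u) [CommRing R] [IsNoetherianRing R] (M : Type u) [AddCommGroup M]
  [Module R M] [Module.Finite R M]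

/-- at an associated prime, the localized module is nonzero of depth zero -/
theorem depth_localizedModule_eq_zero (p : Ideal R) (hp : p ∈ associatedPrimes R M)
    [p.IsPrime] :
    Nontrivial (LocalizedModule p.primeCompl M) ∧
      LocCoh.depth (Localization.AtPrime p) (LocalizedModule p.primeCompl M) = 0 := by
  obtain ⟨-, z, hz⟩ := (isAssociatedPrime_iff (M := M)).mp hp
  have hmem : ∀ a : R, a ∈ p ↔ a • z = 0 := by
    intro a
    rw [hz, Submodule.mem_colon_singleton, Submodule.mem_bot]
  have hz0 : (LocalizedModule.mk z 1 : LocalizedModule p.primeCompl M) ≠ 0 := by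
    intro h0
    rw [← LocalizedModule.zero_mk 1, LocalizedModule.mk_eq] at h0
    obtain ⟨t, ht⟩ := h0
    simp only [one_smul, Submonoid.smul_def, smul_zero] at ht
    exact t.2 ((hmem _).mpr ht)
  refine ⟨⟨⟨_, 0, hz0⟩⟩, ?_⟩
  rw [depth_eq_zero_iff_exists_socle]
  refine ⟨LocalizedModule.mk z 1, hz0, ?_⟩
  intro a ha
  obtain ⟨b, s, rfl⟩ := IsLocalization.exists_mk'_eq p.primeCompl a
  rw [IsLocalization.AtPrime.mk'_mem_maximal_iff (Localization.AtPrime p) p] at ha
  have h1 : IsLocalization.mk' (Localization.AtPrime p) b s •
      (LocalizedModule.mk z 1 : LocalizedModule p.primeCompl M) =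
      LocalizedModule.mk (b • z) s := by
    rw [← Localization.mk_eq_mk', LocalizedModule.mk_smul_mk, mul_one]
  rw [h1, (hmem b).mp ha, LocalizedModule.zero_mk]

omit [IsNoetherianRing R] [Module.Finite R M] in
theorem hasProjectiveDimensionLT_localizedModule (p : Ideal R) [p.IsPrime] (n : ℕ)
    (hpd : HasProjectiveDimensionLT (ModuleCat.of R M) (n + 1)) :
    HasProjectiveDimensionLT
      (ModuleCat.of (Localization.AtPrime p) (LocalizedModule p.primeCompl M)) (n + 1) := by
  have h1 := hasProjectiveDimensionLT_baseChange R (Localization.AtPrime p) n M hpd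
  let e : TensorProduct R (Localization.AtPrime p) M ≃ₗ[Localization.AtPrime p]
      LocalizedModule p.primeCompl M :=
    (IsLocalizedModule.isBaseChange p.primeCompl (Localization.AtPrime p)
      (LocalizedModule.mkLinearMap p.primeCompl M)).equiv
  exact hasProjectiveDimensionLT_of_iso e.toModuleIso (n + 1)

end assoc

section regular

/-- `ht p ≤ pd M` for an associated prime `p` of a finite module over a regular local ring -/
theorem height_le_of_mem_associatedPrimes (B : Type u) [CommRing B] [IsRegularLocalRing B]
    (M : Type u) [AddCommGroup M] [Module B M] [Module.Finite B M] (p : Ideal B)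
    (hp : p ∈ associatedPrimes B M) (n : ℕ)
    (hn : HasProjectiveDimensionLE (ModuleCat.of B M) n) : p.height ≤ n := by
  have hprime : p.IsPrime := hp.isPrime
  have hreg : IsRegularLocalRing (Localization.AtPrime p) :=
    Groth.Agent.Lib.Helper18.SerreReg.isRegularLocalRing_localization_atPrime B p
  obtain ⟨hnt, hd0⟩ := depth_localizedModule_eq_zero B M p hp
  have hpd := hasProjectiveDimensionLT_localizedModule B M p n hn
  have hnz : ¬ Limits.IsZero
      (ModuleCat.of (Localization.AtPrime p) (LocalizedModule p.primeCompl M)) := fun hz =>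
    not_subsingleton _ (ModuleCat.subsingleton_of_isZero hz)
  have hfin : projectiveDimension
      (ModuleCat.of (Localization.AtPrime p) (LocalizedModule p.primeCompl M)) ≠ ⊤ := by
    rw [projectiveDimension_ne_top_iff]
    exact ⟨n, hpd⟩
  obtain ⟨e, he⟩ := exists_nat_pd _ hfin hnz
  have hen : e ≤ n := by
    have h1 : projectiveDimension
        (ModuleCat.of (Localization.AtPrime p) (LocalizedModule p.primeCompl M)) ≤ n :=
      (projectiveDimension_le_iff _ n).mpr hpd
    rw [he] at h1
    exact_mod_cast h1
  have hab := auslander_buchsbaum (R := Localization.AtPrime p)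
    (LocalizedModule p.primeCompl M) e he
  rw [hd0, add_zero] at hab
  have hCM := isCohenMacaulayModule_self_of_isRegularLocalRing (Localization.AtPrime p)
  unfold LocCoh.IsCohenMacaulayModule at hCM
  rw [Module.supportDim_self_eq_ringKrullDim,
    IsLocalization.AtPrime.ringKrullDim_eq_height p (Localization.AtPrime p), hab] at hCM
  have h2 : p.height = (e : ℕ∞) := by exact_mod_cast hCM
  rw [h2]
  exact_mod_cast hen

end regular

section extself

variable (A : Type u) [CommRing A] [IsNoetherianRing A] (M : Type u) [AddCommGroup M]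
  [Module A M] [Module.Finite A M]

/-- if `pd M ≤ e` and `Ext^e(M, A) = 0` then `pd M < e` -/
theorem hasProjectiveDimensionLT_of_subsingleton_ext_self (e : ℕ)
    (h1 : HasProjectiveDimensionLT (ModuleCat.of A M) (e + 1))
    (h2 : Subsingleton (Ext.{u} (ModuleCat.of A M) (ModuleCat.of A A) e)) :
    HasProjectiveDimensionLT (ModuleCat.of A M) e := by
  apply ModuleCat.hasProjectiveDimensionLT_of_forall_finite
  intro L hL
  obtain ⟨b, π, hπ⟩ := Module.Finite.exists_fin' A L
  have hS := LinearMap.shortExact_shortComplexKer hπ
  exact ext_X₃ hS (ModuleCat.of A M) e (subsingleton_ext_pi e h2 b)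
    (HasProjectiveDimensionLT.subsingleton (ModuleCat.of A M) (e + 1) (e + 1) le_rfl _)

/-- `pd M ≤ q` iff `Ext^i(M, A) = 0` for `i > q`, for `M` of finite projective dimension -/
theorem hasProjectiveDimensionLT_iff_ext_self (d : ℕ)
    (hd : HasProjectiveDimensionLT (ModuleCat.of A M) (d + 1)) (q : ℕ) :
    HasProjectiveDimensionLT (ModuleCat.of A M) (q + 1) ↔
      ∀ i : ℕ, q < i → Subsingleton (Ext.{u} (ModuleCat.of A M) (ModuleCat.of A A) i) := by
  constructor
  · intro h i hi
    exact HasProjectiveDimensionLT.subsingleton (ModuleCat.of A M) (q + 1) i hi _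
  · intro h
    -- downward induction from d
    have key : ∀ j : ℕ, HasProjectiveDimensionLT (ModuleCat.of A M) (d + 1 - j) ∨
        HasProjectiveDimensionLT (ModuleCat.of A M) (q + 1) := by
      intro j
      induction j with
      | zero => exact Or.inl hd
      | succ j ih =>
        rcases ih with ih | ih
        · by_cases hq : d + 1 - j ≤ q + 1
          · exact Or.inr (hasProjectiveDimensionLT_of_ge _ _ _ hq)
          · push Not at hq
            obtain ⟨e, he⟩ : ∃ e, d + 1 - j = e + 1 := ⟨d - j, by omega⟩
            rw [he] at ih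
            have : d + 1 - (j + 1) = e := by omega
            rw [this]
            exact Or.inl (hasProjectiveDimensionLT_of_subsingleton_ext_self A M e ih
              (h e (by omega)))
        · exact Or.inr ih
    rcases key (d + 1) with h0 | h0
    · rw [Nat.sub_self] at h0
      exact hasProjectiveDimensionLT_of_ge _ 0 _ (Nat.zero_le _)
    · exact h0

end extself

end Groth.Agent.Lib.Helper16.ABApps
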