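import Groth.Agent.Lib.Helper16.NormalFlat
import Groth.Agent.Lib.Helper18.SerreReg

/-!
# The Auslander–Buchsbaum formula (helper16)

For a nonzero finite module `M` of finite projective dimension `e` over a Noetherian local ring
`R`: `depth R = e + depth M`.

* `V R N i` : `Ext^i(k, N) = 0`; `V_congr`, `V_pi_iff`.
* `smul_ext_eq_zero`, `comp_eq_zero_of_mem_smul_top`, `mem_smul_top_hom`: a matrix with entries in
  the maximal ideal induces zero on `Ext(k, -)`.
* `depth_eq_iff`, `exists_depth`.
* `ab_aux`, `auslander_buchsbaum`.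
-/

set_option autoImplicit false
universe u

open CategoryTheory IsLocalRing CategoryTheory.Abelian

namespace Groth.Agent.Lib.Helper16.AusBuch

open Groth.Agent.Lib.Helper16.Depth Groth.Agent.Lib.Helper16.NormalFlat
open Groth.Agent.Lib.Helper18.CM Groth.Agent.Lib.Helper18.SerreReg

variable (R : Type u) [CommRing R] [IsLocalRing R]

/-- `V N i`: `Ext^i(k, N) = 0`. -/
abbrev V (N : Type u) [AddCommGroup N] [Module R N] (i : ℕ) : Prop :=
  Subsingleton (Ext.{u} (ModuleCat.of R (R ⧸ maximalIdeal R)) (ModuleCat.of R N) i)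

variable {R}

theorem V_congr {N N' : Type u} [AddCommGroup N] [Module R N] [AddCommGroup N'] [Module R N']
    (e : N ≃ₗ[R] N') (i : ℕ) : V R N i ↔ V R N' i := by
  constructor
  · intro h
    exact subsingleton_ext_of_retract e.symm.toLinearMap e.toLinearMap (by ext; simp) i h
  · intro h
    exact subsingleton_ext_of_retract e.toLinearMap e.symm.toLinearMap (by ext; simp) i h

theorem V_pi_iff (b : ℕ) (hb : 0 < b) (i : ℕ) : V R (Fin b → R) i ↔ V R R i := by
  constructor
  · intro h
    refine subsingleton_ext_of_retract (LinearMap.single R (fun _ : Fin b => R) ⟨0, hb⟩)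
      (LinearMap.proj ⟨0, hb⟩) ?_ i h
    ext
    simp
  · intro h
    exact subsingleton_ext_pi i h b

/-- elements of the maximal ideal kill `Ext(k, -)` -/
theorem smul_ext_eq_zero {N : Type u} [AddCommGroup N] [Module R N] (r : R)
    (hr : r ∈ maximalIdeal R) (i : ℕ)
    (e : Ext.{u} (ModuleCat.of R (R ⧸ maximalIdeal R)) (ModuleCat.of R N) i) : r • e = 0 := by
  have hid : r • 𝟙 (ModuleCat.of R (R ⧸ maximalIdeal R)) = 0 := by
    apply ModuleCat.hom_ext
    apply LinearMap.ext
    intro y
    obtain ⟨x, rfl⟩ := Ideal.Quotient.mk_surjective y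
    change r • (Ideal.Quotient.mk _ x) = 0
    rw [Algebra.smul_def]
    have : (algebraMap R (R ⧸ maximalIdeal R)) r = 0 := Ideal.Quotient.eq_zero_iff_mem.mpr hr
    rw [this, zero_mul]
  have : r • e = (Ext.mk₀ (r • 𝟙 (ModuleCat.of R (R ⧸ maximalIdeal R)))).comp e (zero_add i) := by
    simp [Ext.mk₀_smul]
  rw [this, hid, Ext.mk₀_zero, Ext.zero_comp]

/-- a linear map in `m • Hom(N, N')` induces zero on `Ext(k, -)` -/
theorem comp_eq_zero_of_mem_smul_top {N N' : Type u} [AddCommGroup N] [Module R N]
    [AddCommGroup N'] [Module R N'] (ψ : N →ₗ[R] N')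
    (hψ : ψ ∈ maximalIdeal R • (⊤ : Submodule R (N →ₗ[R] N'))) (i : ℕ)
    (e : Ext.{u} (ModuleCat.of R (R ⧸ maximalIdeal R)) (ModuleCat.of R N) i) :
    e.comp (Ext.mk₀ (ModuleCat.ofHom ψ)) (add_zero i) = 0 := by
  induction hψ using Submodule.smul_induction_on' with
  | smul r hr g _ =>
    have h1 : ModuleCat.ofHom (r • g) = r • ModuleCat.ofHom g := rfl
    rw [h1, Ext.mk₀_smul, Ext.comp_smul]
    exact smul_ext_eq_zero r hr i _
  | add x _ y _ hx hy =>
    have h1 : ModuleCat.ofHom (x + y) = ModuleCat.ofHom x + ModuleCat.ofHom y := rfl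
    rw [h1, Ext.mk₀_add, Ext.comp_add, hx, hy, add_zero]

/-- a map out of a finite free module with image in `m N'` lies in `m • Hom` -/
theorem mem_smul_top_hom {a : ℕ} {N' : Type u} [AddCommGroup N'] [Module R N']
    (ψ : (Fin a → R) →ₗ[R] N')
    (hψ : ∀ v, ψ v ∈ maximalIdeal R • (⊤ : Submodule R N')) :
    ψ ∈ maximalIdeal R • (⊤ : Submodule R ((Fin a → R) →ₗ[R] N')) := by
  classical
  have h1 : ψ = ∑ l : Fin a, (LinearMap.toSpanSingleton R N' (ψ (Pi.single l 1))) ∘ₗ
      (LinearMap.proj l) := by
    apply LinearMap.pi_ext'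
    intro l
    ext
    simp [LinearMap.toSpanSingleton_apply, Finset.sum_apply, Pi.single_apply]
  rw [h1]
  refine Submodule.sum_mem _ fun l _ => ?_
  -- the linear map n' ↦ toSpanSingleton n' ∘ proj l
  let T : N' →ₗ[R] ((Fin a → R) →ₗ[R] N') :=
    { toFun := fun n' => (LinearMap.toSpanSingleton R N' n') ∘ₗ (LinearMap.proj l)
      map_add' := fun x y => by ext; simp [LinearMap.toSpanSingleton_apply]
      map_smul' := fun r x => by
        apply LinearMap.ext
        intro v
        simp only [LinearMap.comp_apply, LinearMap.toSpanSingleton_apply, LinearMap.proj_apply,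
          RingHom.id_apply, LinearMap.smul_apply]
        rw [smul_comm] }
  have h2 : ∀ n' ∈ maximalIdeal R • (⊤ : Submodule R N'),
      T n' ∈ maximalIdeal R • (⊤ : Submodule R ((Fin a → R) →ₗ[R] N')) := by
    intro n' hn'
    induction hn' using Submodule.smul_induction_on' with
    | smul r hr g _ =>
      rw [map_smul]
      exact Submodule.smul_mem_smul hr trivial
    | add x _ y _ hx hy =>
      rw [map_add]
      exact Submodule.add_mem _ hx hy
  exact h2 _ (hψ _)

variable [IsNoetherianRing R]

theorem depth_eq_iff (N : Type u) [AddCommGroup N] [Module R N] [Module.Finite R N]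
    [Nontrivial N] (c : ℕ) :
    LocCoh.depth R N = c ↔ ((∀ i, i < c → V R N i) ∧ ¬ V R N c) := by
  unfold LocCoh.depth
  rw [idealDepth_eq_coe_iff_ext (maximalIdeal R) N (maximalIdeal_smul_top_ne_top N) c,
    not_subsingleton_iff_nontrivial]

theorem exists_depth (N : Type u) [AddCommGroup N] [Module R N] [Module.Finite R N]
    [Nontrivial N] : ∃ c : ℕ, ((∀ i, i < c → V R N i) ∧ ¬ V R N c) := by
  obtain ⟨c, hc⟩ := ENat.ne_top_iff_exists.mp (depth_ne_top (R := R) N)
  exact ⟨c, (depth_eq_iff N c).mp hc.symm⟩

omit [IsNoetherianRing R] in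
/-- a finite free module -/
theorem exists_equiv_pi_of_projective (N : Type u) [AddCommGroup N] [Module R N]
    [Module.Finite R N] [Nontrivial N] [Module.Projective R N] :
    ∃ (a : ℕ), 0 < a ∧ Nonempty (N ≃ₗ[R] (Fin a → R)) := by
  have : Module.Free R N := Module.free_of_flat_of_isLocalRing
  refine ⟨Module.finrank R N, (Module.finrank_pos_iff_of_free (R := R) (M := N)).mpr inferInstance,
    ⟨(Module.finBasis R N).equivFun⟩⟩

theorem ab_aux (e : ℕ) : ∀ (M : Type u) [AddCommGroup M] [Module R M] [Module.Finite R M]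
    [Nontrivial M], HasProjectiveDimensionLT (ModuleCat.of R M) (e + 1) →
    ¬ HasProjectiveDimensionLT (ModuleCat.of R M) e →
    ∃ c : ℕ, ((∀ i, i < c → V R M i) ∧ ¬ V R M c) ∧
      ((∀ i, i < e + c → V R R i) ∧ ¬ V R R (e + c)) := by
  induction e with
  | zero =>
    intro M _ _ _ _ h _
    rw [zero_add, ← projective_iff_hasProjectiveDimensionLT_one, ← IsProjective.iff_projective]
      at h
    have : Module.Projective R M := h
    obtain ⟨b, hb, ⟨φ⟩⟩ := exists_equiv_pi_of_projective (R := R) M
    obtain ⟨d, hd1, hd2⟩ := exists_depth (R := R) R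
    refine ⟨d, ⟨fun i hi => ?_, ?_⟩, ⟨fun i hi => ?_, ?_⟩⟩
    · rw [V_congr φ, V_pi_iff b hb]; exact hd1 i hi
    · rw [V_congr φ, V_pi_iff b hb]; exact hd2
    · exact hd1 i (by omega)
    · rw [zero_add]; exact hd2
  | succ e ih =>
    intro M _ _ _ _ h hnot
    obtain ⟨b, π, hπ, hker⟩ := exists_minimal_cover R M
    have hb : 0 < b := by
      rcases Nat.eq_zero_or_pos b with rfl | hb
      · exfalso
        have : Subsingleton M := hπ.subsingleton
        exact not_subsingleton M this
      · exact hb
    have hS := LinearMap.shortExact_shortComplexKer hπ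
    have hproj : Projective (π.shortComplexKer).X₂ := by
      rw [← IsProjective.iff_projective]
      change Module.Projective R (Fin b → R)
      infer_instance
    have hK : HasProjectiveDimensionLT (ModuleCat.of R (LinearMap.ker π)) (e + 1) :=
      (hS.hasProjectiveDimensionLT_X₃_iff e hproj).mp h
    have hKnot : ¬ HasProjectiveDimensionLT (ModuleCat.of R (LinearMap.ker π)) e := by
      intro hcon
      rcases Nat.eq_zero_or_pos e with rfl | he
      · -- K = 0, so M is free
        have hz : Limits.IsZero (ModuleCat.of R (LinearMap.ker π)) :=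
          isZero_of_hasProjectiveDimensionLT_zero _
        have hsub : Subsingleton (LinearMap.ker π) := ModuleCat.subsingleton_of_isZero hz
        have hinj : Function.Injective π := by
          rw [← LinearMap.ker_eq_bot]
          exact Submodule.eq_bot_of_subsingleton
        have hfree : Module.Free R M := Module.Free.of_equiv (LinearEquiv.ofBijective π ⟨hinj, hπ⟩)
        apply hnot
        rw [zero_add, ← projective_iff_hasProjectiveDimensionLT_one,
          ← IsProjective.iff_projective]
        change Module.Projective R M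
        infer_instance
      · obtain ⟨e', rfl⟩ := Nat.exists_eq_succ_of_ne_zero he.ne'
        exact hnot ((hS.hasProjectiveDimensionLT_X₃_iff e' hproj).mpr hcon)
    have hKnt : Nontrivial (LinearMap.ker π) := by
      by_contra hcon
      rw [not_nontrivial_iff_subsingleton] at hcon
      have hz : Limits.IsZero (ModuleCat.of R (LinearMap.ker π)) :=
        ModuleCat.isZero_of_subsingleton _
      have := hz.hasProjectiveDimensionLT_zero
      exact hKnot (hasProjectiveDimensionLT_of_ge _ 0 e (Nat.zero_le e))
    obtain ⟨cK, ⟨hK1, hK2⟩, ⟨hR1, hR2⟩⟩ := ih (LinearMap.ker π) hK hKnot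
    have hF : ∀ i, V R (Fin b → R) i ↔ V R R i := fun i => V_pi_iff b hb i
    rcases Nat.eq_zero_or_pos e with rfl | he
    · -- pd M = 1
      rw [zero_add] at hR1 hR2
      have hcK : 0 < cK := by
        rcases Nat.eq_zero_or_pos cK with rfl | h0
        · exfalso
          have hd0 : LocCoh.depth R R = 0 := by
            rw [← Nat.cast_zero, depth_eq_iff R 0]
            exact ⟨hR1, hR2⟩
          have := free_of_depth_eq_zero R hd0 1 M h
          apply hnot
          rw [zero_add, ← projective_iff_hasProjectiveDimensionLT_one,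
            ← IsProjective.iff_projective]
          change Module.Projective R M
          infer_instance
        · exact h0
      have hKproj : Module.Projective R (LinearMap.ker π) := by
        rw [zero_add, ← projective_iff_hasProjectiveDimensionLT_one,
          ← IsProjective.iff_projective] at hK
        exact hK
      obtain ⟨a, ha, ⟨φ⟩⟩ := exists_equiv_pi_of_projective (R := R) (LinearMap.ker π)
      refine ⟨cK - 1, ⟨fun i hi => ?_, ?_⟩, ⟨fun i hi => ?_, ?_⟩⟩
      · exact ext_X₃ hS _ i ((hF i).mpr (hR1 i (by omega))) (hK1 (i + 1) (by omega))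
      · intro hVM
        apply hK2
        refine ⟨fun x y => ?_⟩
        suffices hz : ∀ x : Ext.{u} (ModuleCat.of R (R ⧸ maximalIdeal R))
            (ModuleCat.of R (LinearMap.ker π)) cK, x = 0 by rw [hz x, hz y]
        intro x
        have hzero : x.comp (Ext.mk₀ (π.shortComplexKer).f) (add_zero cK) = 0 := by
          let ψ : (Fin a → R) →ₗ[R] (Fin b → R) := (LinearMap.ker π).subtype ∘ₗ φ.symm.toLinearMap
          have hψ : ψ ∈ maximalIdeal R • (⊤ : Submodule R ((Fin a → R) →ₗ[R] (Fin b → R))) :=
            mem_smul_top_hom ψ (fun v => hker (φ.symm v).2)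
          have h1 := comp_eq_zero_of_mem_smul_top ψ hψ cK
            (x.comp (Ext.mk₀ (ModuleCat.ofHom φ.toLinearMap)) (add_zero cK))
          rw [Ext.comp_assoc_of_third_deg_zero, Ext.mk₀_comp_mk₀] at h1
          have h2 : ModuleCat.ofHom φ.toLinearMap ≫ ModuleCat.ofHom ψ = (π.shortComplexKer).f := by
            apply ModuleCat.hom_ext
            apply LinearMap.ext
            intro v
            simp [ψ]
          rw [h2] at h1
          exact h1
        obtain ⟨x₃, hx₃⟩ := Ext.covariant_sequence_exact₁ _ hS x hzero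
          (show (cK - 1) + 1 = cK by omega)
        rw [← hx₃, hVM.elim x₃ 0, Ext.zero_comp]
      · exact hR1 i (by omega)
      · have : 0 + 1 + (cK - 1) = cK := by omega
        rw [this]; exact hR2
    · -- pd M ≥ 2
      have hV0 : V R R 0 := hR1 0 (by omega)
      have hVK0 : V R (LinearMap.ker π) 0 := ext_X₁_zero hS _ ((hF 0).mpr hV0)
      have hcK : 0 < cK := by
        rcases Nat.eq_zero_or_pos cK with rfl | h0
        · exact absurd hVK0 hK2
        · exact h0
      refine ⟨cK - 1, ⟨fun i hi => ?_, ?_⟩, ⟨fun i hi => ?_, ?_⟩⟩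
      · exact ext_X₃ hS _ i ((hF i).mpr (hR1 i (by omega))) (hK1 (i + 1) (by omega))
      · intro hVM
        apply hK2
        have h1 : V R (Fin b → R) cK := (hF cK).mpr (hR1 cK (by omega))
        have := ext_X₁_succ hS (ModuleCat.of R (R ⧸ maximalIdeal R)) (cK - 1) hVM
          (by rw [show cK - 1 + 1 = cK by omega]; exact h1)
        rw [show cK - 1 + 1 = cK by omega] at this
        exact this
      · exact hR1 i (by omega)
      · have : e + 1 + (cK - 1) = e + cK := by omega
        rw [this]; exact hR2


/-- **Auslander–Buchsbaum formula**. -/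
theorem auslander_buchsbaum (M : Type u) [AddCommGroup M] [Module R M] [Module.Finite R M]
    [Nontrivial M] (e : ℕ) (he : projectiveDimension (ModuleCat.of R M) = e) :
    LocCoh.depth R R = e + LocCoh.depth R M := by
  have h1 : HasProjectiveDimensionLT (ModuleCat.of R M) (e + 1) := by
    rw [← projectiveDimension_lt_iff, he]
    exact_mod_cast Nat.lt_succ_self e
  have h2 : ¬ HasProjectiveDimensionLT (ModuleCat.of R M) e := by
    rw [← projectiveDimension_ge_iff, he]
  obtain ⟨c, hM, hR⟩ := ab_aux e M h1 h2
  rw [(depth_eq_iff M c).mpr hM, (depth_eq_iff R (e + c)).mpr hR]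
  push_cast
  rfl

end Groth.Agent.Lib.Helper16.AusBuch
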