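import Mathlib
import Groth.Prelude.Def_SheafNL

/-!
# Functoriality of H^{-1}(NL(P) ⊗ S') in the presentation P
-/

set_option autoImplicit false
set_option linter.unusedSectionVars false
universe u

open TensorProduct

namespace Groth.Agent.Lib.Helper16.BcH1

section same

variable {R S : Type u} [CommRing R] [CommRing S] [Algebra R S]
variable (S' : Type u) [CommRing S'] [Algebra S S']
variable {P Q T : Algebra.Extension.{u} R S}

theorem baseChange_comm (φ : P.Hom Q) :
    (Q.cotangentComplex.baseChange S') ∘ₗ (Algebra.Extension.Cotangent.map φ).baseChange S' =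
      (Algebra.Extension.CotangentSpace.map φ).baseChange S' ∘ₗ
        P.cotangentComplex.baseChange S' := by
  rw [← LinearMap.baseChange_comp, ← LinearMap.baseChange_comp]
  congr 1
  ext x
  exact (Algebra.Extension.CotangentSpace.map_cotangentComplex φ x).symm

/-- the map induced on `H^{-1}(NL(P) ⊗ S')` by a morphism of extensions of the same ring -/
noncomputable def bcH1Hom (φ : P.Hom Q) : NLCx.bcH1 P S' →ₗ[S'] NLCx.bcH1 Q S' :=
  ((Algebra.Extension.Cotangent.map φ).baseChange S').restrict
    (p := NLCx.bcH1 P S') (q := NLCx.bcH1 Q S') (fun x hx => by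
      simp only [NLCx.bcH1, LinearMap.mem_ker] at hx ⊢
      have := congr($(baseChange_comm S' φ) x)
      simp only [LinearMap.coe_comp, Function.comp_apply, hx, map_zero] at this
      exact this)

theorem bcH1Hom_val (φ : P.Hom Q) (x : NLCx.bcH1 P S') :
    (bcH1Hom S' φ x).1 = (Algebra.Extension.Cotangent.map φ).baseChange S' x.1 := rfl

theorem baseChange_sub (φ ψ : P.Hom Q) (z : S' ⊗[S] P.Cotangent) :
    (Algebra.Extension.Cotangent.map φ).baseChange S' z =
      (Algebra.Extension.Cotangent.map ψ).baseChange S' z +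
        (φ.sub ψ).baseChange S' (P.cotangentComplex.baseChange S' z) := by
  have h := Algebra.Extension.Cotangent.map_sub_map φ ψ
  have h2 : Algebra.Extension.Cotangent.map φ =
      Algebra.Extension.Cotangent.map ψ + (φ.sub ψ) ∘ₗ P.cotangentComplex := by
    rw [← h]; abel
  rw [h2, LinearMap.baseChange_add, LinearMap.baseChange_comp]
  rfl

theorem bcH1Hom_eq (φ ψ : P.Hom Q) : bcH1Hom S' φ = bcH1Hom S' ψ := by
  refine LinearMap.ext fun x => Subtype.ext ?_
  rw [bcH1Hom_val, bcH1Hom_val, baseChange_sub S' φ ψ]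
  have hx : (P.cotangentComplex.baseChange S') x.1 = 0 := x.2
  rw [hx, map_zero, add_zero]

theorem bcH1Hom_id : bcH1Hom S' (Algebra.Extension.Hom.id P) = LinearMap.id := by
  refine LinearMap.ext fun x => Subtype.ext ?_
  rw [bcH1Hom_val, Algebra.Extension.Cotangent.map_id, LinearMap.baseChange_id]
  rfl

theorem bcH1Hom_comp (φ : P.Hom Q) (ψ : Q.Hom T) :
    bcH1Hom S' (ψ.comp φ) = bcH1Hom S' ψ ∘ₗ bcH1Hom S' φ := by
  refine LinearMap.ext fun x => Subtype.ext ?_
  rw [bcH1Hom_val, Algebra.Extension.Cotangent.map_comp]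
  show _ = (Algebra.Extension.Cotangent.map ψ).baseChange S'
    ((Algebra.Extension.Cotangent.map φ).baseChange S' x.1)
  rw [← LinearMap.comp_apply, ← LinearMap.baseChange_comp]
  rfl

/-- maps both ways between extensions give an isomorphism on `H^{-1}(NL ⊗ S')` -/
noncomputable def bcH1Equiv (φ : P.Hom Q) (ψ : Q.Hom P) : NLCx.bcH1 P S' ≃ₗ[S'] NLCx.bcH1 Q S' where
  __ := bcH1Hom S' φ
  invFun := bcH1Hom S' ψ
  left_inv x := by
    show (bcH1Hom S' ψ ∘ₗ bcH1Hom S' φ) x = x
    rw [← bcH1Hom_comp, bcH1Hom_eq S' _ (Algebra.Extension.Hom.id P), bcH1Hom_id]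
    rfl
  right_inv x := by
    show (bcH1Hom S' φ ∘ₗ bcH1Hom S' ψ) x = x
    rw [← bcH1Hom_comp, bcH1Hom_eq S' _ (Algebra.Extension.Hom.id Q), bcH1Hom_id]
    rfl

theorem bcH1Equiv_apply (φ : P.Hom Q) (ψ : Q.Hom P) (x : NLCx.bcH1 P S') :
    bcH1Equiv S' φ ψ x = bcH1Hom S' φ x := rfl

end same

section square

variable {R S R' S' : Type u} [CommRing R] [CommRing S] [CommRing R']
    [CommRing S'] [Algebra R S] [Algebra R' S'] [Algebra R R'] [Algebra S S'] [Algebra R S']
    [IsScalarTower R R' S'] [IsScalarTower R S S']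
    {P Q : Algebra.Extension.{u} R S} {P' P'' : Algebra.Extension.{u} R' S'}

theorem bcH1Map_val (f : P.Hom P') (x : NLCx.bcH1 P S') :
    (NLCx.bcH1Map f x).1 = LinearMap.liftBaseChange S' (Algebra.Extension.Cotangent.map f) x.1 := rfl

theorem bcH1Map_comp_hom (f : Q.Hom P') (φ : P.Hom Q) (x : NLCx.bcH1 P S') :
    NLCx.bcH1Map (f.comp φ) x = NLCx.bcH1Map f (bcH1Hom S' φ x) := by
  apply Subtype.ext
  rw [bcH1Map_val, bcH1Map_val, bcH1Hom_val]
  have : LinearMap.liftBaseChange S' (Algebra.Extension.Cotangent.map (f.comp φ)) =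
      LinearMap.liftBaseChange S' (Algebra.Extension.Cotangent.map f) ∘ₗ
        (Algebra.Extension.Cotangent.map φ).baseChange S' := by
    refine LinearMap.ext fun z => ?_
    induction z using TensorProduct.induction_on with
    | zero => simp
    | tmul s y =>
      simp only [LinearMap.liftBaseChange_tmul, LinearMap.coe_comp, Function.comp_apply,
        LinearMap.baseChange_tmul]
      rw [Algebra.Extension.Cotangent.map_comp]
      rfl
    | add a b ha hb => simp only [map_add, ha, hb]
  rw [this]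
  rfl

end square

end Groth.Agent.Lib.Helper16.BcH1
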