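import Mathlib
import Groth.Prelude.Def_LCI2
import Groth.Agent.Lib.Helper16.CotLoc1

/-!
# Conormal module of an extension with Koszul-regular kernel is finite projective
-/

set_option autoImplicit false
set_option linter.unusedSectionVars false
universe u

open Algebra

namespace Groth.Agent.Lib.Helper16.CotLoc

variable {A B : Type u} [CommRing A] [CommRing B] [Algebra A B] (Q : Extension.{u} A B)

theorem finite_extension_cotangent (h : LCI.IsKoszulRegularIdeal Q.ker) :
    Module.Finite B Q.Cotangent :=
  Extension.Cotangent.finite (Groth.Agent.Lib.Helper16.KzLoc.fg_of_isKoszulRegularIdeal _ h)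

attribute [local instance] RingHomInvPair.of_ringEquiv RingHomInvPair.of_ringEquiv_symm in
theorem projective_extension_cotangent (h : LCI.IsKoszulRegularIdeal Q.ker) :
    Module.Projective B Q.Cotangent := by
  have hproj := projective_cotangent Q.ker h
  let e : (Q.Ring ⧸ Q.ker) ≃+* B :=
    RingHom.quotientKerEquivOfSurjective Q.algebraMap_surjective
  let e₂ : Q.ker.Cotangent ≃ₛₗ[(e : (Q.Ring ⧸ Q.ker) →+* B)] Q.Cotangent :=
    { toFun := Extension.Cotangent.of
      invFun := Extension.Cotangent.val
      left_inv := fun _ => rfl
      right_inv := fun _ => rfl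
      map_add' := fun _ _ => rfl
      map_smul' := by
        intro r x
        obtain ⟨p, rfl⟩ := Ideal.Quotient.mk_surjective r
        apply Extension.Cotangent.ext
        have h1 : (e : (Q.Ring ⧸ Q.ker) →+* B) (Ideal.Quotient.mk Q.ker p) =
            algebraMap Q.Ring B p := rfl
        rw [h1, algebraMap_smul, Extension.Cotangent.val_smul', Extension.Cotangent.val_of,
          Extension.Cotangent.val_of, ← Ideal.Quotient.algebraMap_eq, algebraMap_smul] }
  exact Module.Projective.of_equiv e₂

end Groth.Agent.Lib.Helper16.CotLoc
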