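import Groth.Agent.Lib.Helper18.CM7
import Groth.Agent.Lib.Helper18.SerreNormal
import Groth.Agent.Lib.Helper11.GorCM2

/-!
# Liaison I: unmixedness of Gorenstein quotients and geometric linkage (helper16)

* hasSk_of_isGorensteinRing : a Gorenstein ring satisfies (S_k).
* mem_minimalPrimes_of_mem_associatedPrimes : if R/c is Gorenstein, Ass(R/c) consists of minimal primes of c.
* exists_associatedPrime_of_notMem, mem_associatedPrimes_of_mem_minimalPrimes.
* inf_eq_of_linked : directly linked ideals without common associated primes meet in c.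
-/

set_option autoImplicit false
universe u
open IsLocalRing

namespace Groth.Agent.Lib.Helper16.Liaison

section unmixed

/-- A Gorenstein ring satisfies `(S_k)` for all `k`. -/
theorem hasSk_of_isGorensteinRing (A : Type u) [CommRing A] [hG : LocCoh.IsGorensteinRing A]
    (k : ℕ) : LocCoh.HasSk k A A := by
  rw [Groth.Agent.Lib.Helper18.Serre.hasSk_self_iff]
  intro p hp
  have := hG.isGorensteinLocalRing_localization p
  have hCM := Groth.Agent.Lib.Helper11.GorCM.isCohenMacaulayLocalRing_of_gorenstein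
    (Localization.AtPrime p)
  have h := hCM.supportDim_eq_depth
  rw [Module.supportDim_self_eq_ringKrullDim,
    IsLocalization.AtPrime.ringKrullDim_eq_height p (Localization.AtPrime p)] at h
  rw [← h]
  exact min_le_right _ _

variable {R : Type u} [CommRing R] [IsNoetherianRing R] (𝔠 : Ideal R)

/-- If `R/𝔠` is Gorenstein, every associated prime of `R/𝔠` is minimal over `𝔠`. -/
theorem mem_minimalPrimes_of_mem_associatedPrimes [hG : LocCoh.IsGorensteinRing (R ⧸ 𝔠)]
    {P : Ideal R} (hP : P ∈ associatedPrimes R (R ⧸ 𝔠)) : P ∈ 𝔠.minimalPrimes := by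
  rw [AssociatedPrimes.mem_iff, isAssociatedPrime_iff] at hP
  obtain ⟨hPp, y, hy⟩ := hP
  obtain ⟨x, rfl⟩ := Ideal.Quotient.mk_surjective y
  have hmem : ∀ r : R, r ∈ P ↔ r * x ∈ 𝔠 := by
    intro r
    rw [hy, Submodule.mem_colon_singleton, Submodule.mem_bot]
    change Ideal.Quotient.mk 𝔠 (r * x) = 0 ↔ _
    rw [Ideal.Quotient.eq_zero_iff_mem]
  have hcP : 𝔠 ≤ P := fun r hr => (hmem r).mpr (𝔠.mul_mem_right x hr)
  have hprime : (P.map (Ideal.Quotient.mk 𝔠)).IsPrime :=
    Ideal.map_isPrime_of_surjective Ideal.Quotient.mk_surjective (by rwa [Ideal.mk_ker])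
  have hcomap : (P.map (Ideal.Quotient.mk 𝔠)).comap (Ideal.Quotient.mk 𝔠) = P := by
    rw [Ideal.comap_map_of_surjective _ Ideal.Quotient.mk_surjective, ← RingHom.ker_eq_comap_bot,
      Ideal.mk_ker]
    exact sup_eq_left.mpr hcP
  have hass : P.map (Ideal.Quotient.mk 𝔠) ∈ associatedPrimes (R ⧸ 𝔠) (R ⧸ 𝔠) := by
    rw [AssociatedPrimes.mem_iff, isAssociatedPrime_iff]
    refine ⟨hprime, Ideal.Quotient.mk 𝔠 x, ?_⟩
    ext a
    obtain ⟨r, rfl⟩ := Ideal.Quotient.mk_surjective a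
    rw [Submodule.mem_colon_singleton, Submodule.mem_bot, smul_eq_mul, ← map_mul,
      Ideal.Quotient.eq_zero_iff_mem, ← hmem, ← hcomap, Ideal.mem_comap, hcomap]
  have hS1 := hasSk_of_isGorensteinRing (R ⧸ 𝔠) 1
  have hmin := (Groth.Agent.Lib.Helper18.CM.noEmbeddedPrimes_iff_S1 (R := R ⧸ 𝔠)
    (M := R ⧸ 𝔠)).mpr hS1 _ hass
  rw [Module.annihilator_eq_bot.mpr inferInstance] at hmin
  rw [Ideal.minimalPrimes_eq_comap]
  exact ⟨_, hmin, hcomap⟩

/-- Elements outside `𝔠` have annihilator (mod `𝔠`) inside an associated prime of `R/𝔠`. -/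
theorem exists_associatedPrime_of_notMem {x : R} (hx : x ∉ 𝔠) :
    ∃ P ∈ associatedPrimes R (R ⧸ 𝔠), ∀ r : R, r * x ∈ 𝔠 → r ∈ P := by
  have hne : Ideal.Quotient.mk 𝔠 x ≠ 0 := by
    rwa [Ne, Ideal.Quotient.eq_zero_iff_mem]
  obtain ⟨P, hP, hle⟩ := exists_le_isAssociatedPrime_of_isNoetherianRing R
    (Ideal.Quotient.mk 𝔠 x) hne
  refine ⟨P, hP, fun r hr => hle ?_⟩
  rw [Submodule.mem_colon_singleton, Submodule.mem_bot]
  change Ideal.Quotient.mk 𝔠 (r * x) = 0
  rwa [Ideal.Quotient.eq_zero_iff_mem]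

/-- A prime minimal over `𝔠` and containing `I ⊇ 𝔠` is an associated prime of `R/I`. -/
theorem mem_associatedPrimes_of_mem_minimalPrimes {P I : Ideal R} (hP : P ∈ 𝔠.minimalPrimes)
    (hcI : 𝔠 ≤ I) (hIP : I ≤ P) : P ∈ associatedPrimes R (R ⧸ I) := by
  apply Module.associatedPrimes.minimalPrimes_annihilator_subset_associatedPrimes R (R ⧸ I)
  rw [Ideal.annihilator_quotient]
  exact ⟨⟨hP.1.1, hIP⟩, fun Q hQ hQP => hP.2 ⟨hQ.1, hcI.trans hQ.2⟩ hQP⟩

/-- **Geometric linkage**: directly linked ideals without common components meet in `𝔠`. -/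
theorem inf_eq_of_linked (hU : ∀ P ∈ associatedPrimes R (R ⧸ 𝔠), P ∈ 𝔠.minimalPrimes)
    (I J : Ideal R) (hIJ : 𝔠.colon (I : Set R) = J) (hJI : 𝔠.colon (J : Set R) = I)
    (hdisj : Disjoint (associatedPrimes R (R ⧸ I)) (associatedPrimes R (R ⧸ J))) :
    I ⊓ J = 𝔠 := by
  have hcI : 𝔠 ≤ I := by
    rw [← hJI]
    intro r hr
    rw [Submodule.mem_colon]
    intro s _
    exact 𝔠.mul_mem_right s hr
  have hcJ : 𝔠 ≤ J := by
    rw [← hIJ]
    intro r hr
    rw [Submodule.mem_colon]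
    intro s _
    exact 𝔠.mul_mem_right s hr
  refine le_antisymm ?_ (le_inf hcI hcJ)
  intro x hx
  by_contra hxc
  obtain ⟨P, hP, hle⟩ := exists_associatedPrime_of_notMem 𝔠 hxc
  have hPmin := hU P hP
  have hIP : I ≤ P := by
    intro s hs
    apply hle
    have hxJ : x ∈ 𝔠.colon (I : Set R) := hIJ ▸ hx.2
    rw [Submodule.mem_colon] at hxJ
    have := hxJ s hs
    rwa [smul_eq_mul, mul_comm] at this
  have hJP : J ≤ P := by
    intro s hs
    apply hle
    have hxI : x ∈ 𝔠.colon (J : Set R) := hJI ▸ hx.1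
    rw [Submodule.mem_colon] at hxI
    have := hxI s hs
    rwa [smul_eq_mul, mul_comm] at this
  exact Set.disjoint_left.mp hdisj
    (mem_associatedPrimes_of_mem_minimalPrimes 𝔠 hPmin hcI hIP)
    (mem_associatedPrimes_of_mem_minimalPrimes 𝔠 hPmin hcJ hJP)

end unmixed

end Groth.Agent.Lib.Helper16.Liaison
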