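import Mathlib
import Groth.Prelude.Def_LCI2
import Groth.Agent.Lib.Helper16.CotLoc2
import Groth.Agent.S1827
import Groth.Agent.Lib.Helper16.Liaison1
import Groth.Agent.Lib.Helper16.GorBC1
import Groth.Agent.Lib.Helper18.CM7

/-!
# H1 of the naive cotangent complex of a generically smooth lci algebra over a field vanishes
-/

set_option autoImplicit false
set_option linter.unusedSectionVars false
universe u

open Algebra

namespace Groth.Agent.Lib.Helper16.H1LCI

open Groth.Agent.Lib.Helper16.CotLoc

variable {A B : Type u} [CommRing A] [CommRing B] [Algebra A B]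

/-- an lci ring map has a finite family of generators with Koszul-regular kernel -/
theorem exists_generators (h : LCI.IsLCI A B) :
    ∃ (n : ℕ) (G : Generators A B (Fin n)), LCI.IsKoszulRegularIdeal G.toExtension.ker := by
  obtain ⟨-, n, f, hsurj, hK⟩ := h
  have hae : (MvPolynomial.aeval (R := A) (fun i => f (MvPolynomial.X i))) = f := by
    apply MvPolynomial.algHom_ext
    intro i
    simp
  let G : Generators A B (Fin n) :=
    Generators.ofSurjective (fun i => f (MvPolynomial.X i)) (by rw [hae]; exact hsurj)
  have hker : G.toExtension.ker = RingHom.ker f.toRingHom := by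
    have h1 : G.toExtension.ker = G.ker := rfl
    rw [h1, Generators.ker_eq_ker_aeval_val]
    change RingHom.ker (MvPolynomial.aeval (R := A) fun i => f (MvPolynomial.X i)) = _
    rw [hae]
    rfl
  exact ⟨n, G, by rw [hker]; exact hK⟩

/-- elements of a finite projective module over a Noetherian ring without embedded primes that
vanish at all minimal primes are zero -/
theorem eq_zero_of_forall_minimalPrimes [IsNoetherianRing B]
    (hemb : ∀ p ∈ associatedPrimes B B, p ∈ minimalPrimes B)
    (N : Type u) [AddCommGroup N] [Module B N] [Module.Finite B N] [Module.Projective B N]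
    (y : N) (hy : ∀ p ∈ minimalPrimes B, ∃ s : B, s ∉ p ∧ s • y = 0) : y = 0 := by
  obtain ⟨m, f', g', -, hg', -⟩ := Module.Finite.exists_comp_eq_id_of_projective B N
  apply hg'
  rw [map_zero]
  funext i
  by_contra hne
  obtain ⟨p, hp, hle⟩ := exists_le_isAssociatedPrime_of_isNoetherianRing B (g' y i) hne
  obtain ⟨s, hs, hsy⟩ := hy p (hemb p hp)
  apply hs
  apply hle
  rw [Submodule.mem_colon_singleton, Submodule.mem_bot]
  have := congrArg (fun z => g' z i) hsy
  simpa using this

/-- **S16713**: the first homology of the naive cotangent complex of a generically smooth lci algebra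
over a field vanishes -/
theorem subsingleton_h1Cotangent (k : Type u) [Field k] (A : Type u) [CommRing A] [Algebra k A]
    (hlci : LCI.IsLCI k A)
    (hgs : ∀ (p : Ideal A) [p.IsPrime], p ∈ minimalPrimes A →
      Algebra.FormallySmooth k (Localization.AtPrime p)) :
    Subsingleton (Algebra.H1Cotangent k A) := by
  have hft := hlci.1
  have : IsNoetherianRing A := Algebra.FiniteType.isNoetherianRing k A
  have hG : LocCoh.IsGorensteinRing A :=
    Groth.Agent.S1827.result k A (Groth.Agent.Lib.Helper16.GorBC.gorRing_of_isRegularRing k) hlci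
  have hS1 : LocCoh.HasSk 1 A A := Groth.Agent.Lib.Helper16.Liaison.hasSk_of_isGorensteinRing A 1
  have hemb0 := (Groth.Agent.Lib.Helper18.CM.noEmbeddedPrimes_iff_S1 (R := A) (M := A)).mpr hS1
  have hemb : ∀ p ∈ associatedPrimes A A, p ∈ minimalPrimes A := by
    intro p hp
    have := hemb0 p hp
    have hann : Module.annihilator A A = ⊥ := by
      rw [eq_bot_iff]
      intro x hx
      have := Module.mem_annihilator.mp hx 1
      simpa using this
    rwa [hann] at this
  obtain ⟨n, G, hK⟩ := exists_generators hlci
  have := finite_extension_cotangent G.toExtension hK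
  have := projective_extension_cotangent G.toExtension hK
  refine ⟨fun x y => ?_⟩
  suffices h0 : ∀ x : Algebra.H1Cotangent k A, x = 0 by rw [h0 x, h0 y]
  intro x
  apply G.equivH1Cotangent.symm.injective
  rw [map_zero]
  apply Subtype.ext
  apply eq_zero_of_forall_minimalPrimes hemb G.toExtension.Cotangent
  intro p hp
  have hpp : p.IsPrime := hp.1.1
  have hsm := hgs p hp
  have hsub : Subsingleton (Algebra.H1Cotangent k (Localization.AtPrime p)) :=
    Algebra.FormallySmooth.subsingleton_h1Cotangent
  have hloc : IsLocalizedModule p.primeCompl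
      (Algebra.H1Cotangent.map k k A (Localization.AtPrime p)) :=
    Algebra.H1Cotangent.isLocalizedModule k (Localization.AtPrime p) p.primeCompl
  obtain ⟨c, hc⟩ := IsLocalizedModule.exists_of_eq (S := p.primeCompl)
    (f := Algebra.H1Cotangent.map k k A (Localization.AtPrime p)) (x₁ := x) (x₂ := 0)
    (Subsingleton.elim _ _)
  refine ⟨c.1, c.2, ?_⟩
  rw [smul_zero] at hc
  have h2 : (c : A) • x = 0 := hc
  have h3 := congrArg (fun z => (G.equivH1Cotangent.symm z).1) h2
  simpa using h3

end Groth.Agent.Lib.Helper16.H1LCI
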