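import Mathlib
import Groth.Prelude.Def_SheafNL

/-!
# Same-variables morphism of presentations for index types in universe zero
(after Groth.Agent.S7221, which treats index types in the ambient universe)
-/

set_option autoImplicit false
set_option linter.unusedSectionVars false
universe u

open TensorProduct

namespace Groth.Agent.Lib.Helper16.SameVars

section square
variable {R S R' S' : Type u} [CommRing R] [CommRing S] [CommRing R']
    [CommRing S'] [Algebra R S] [Algebra R' S'] [Algebra R R'] [Algebra S S'] [Algebra R S']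
    [IsScalarTower R R' S'] [IsScalarTower R S S']
    {ι : Type} (G : Algebra.Generators R S ι) (G' : Algebra.Generators R' S' ι)
    (h : ∀ i, G'.val i = algebraMap S S' (G.val i))

/-- same-variables morphism of presentations, index type in universe zero -/
noncomputable def svHom : G.Hom G' where
  val i := MvPolynomial.X i
  aeval_val i := by simp [h]

theorem toAlgHom_eq (p : MvPolynomial ι R) :
    (svHom G G' h).toExtensionHom.toAlgHom p =
      MvPolynomial.map (algebraMap R R') p := by
  show MvPolynomial.aeval (fun i => (MvPolynomial.X i : MvPolynomial ι R')) p = _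
  induction p using MvPolynomial.induction_on with
  | C a => simp [MvPolynomial.algebraMap_eq, IsScalarTower.algebraMap_apply R R' (MvPolynomial ι R')]
  | add p q hp hq => simp [hp, hq]
  | mul_X p i hp => simp [hp]

include h in
theorem aeval_map (p : MvPolynomial ι R) :
    MvPolynomial.aeval G'.val (MvPolynomial.map (algebraMap R R') p) =
      algebraMap S S' (MvPolynomial.aeval G.val p) := by
  induction p using MvPolynomial.induction_on with
  | C a =>
    simp only [MvPolynomial.map_C, MvPolynomial.aeval_C]
    rw [← IsScalarTower.algebraMap_apply, ← IsScalarTower.algebraMap_apply]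
  | add p q hp hq => simp [hp, hq]
  | mul_X p i hp => simp [hp, h]

theorem mem_ker_iff {R S : Type u} [CommRing R] [CommRing S] [Algebra R S] {ι : Type}
    (G : Algebra.Generators R S ι) (p : G.toExtension.Ring) :
    p ∈ G.toExtension.ker ↔ MvPolynomial.aeval G.val (show MvPolynomial ι R from p) = 0 := by
  show algebraMap G.toExtension.Ring S p = 0 ↔ _
  rw [← Algebra.Generators.algebraMap_apply]
  rfl

include h in
theorem ker_le_map [Algebra.IsPushout R R' S S'] :
    RingHom.ker (MvPolynomial.aeval (R := R') G'.val) ≤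
      Ideal.map (MvPolynomial.map (σ := ι) (algebraMap R R'))
        (RingHom.ker (MvPolynomial.aeval (R := R) G.val)) := by
  obtain ⟨I, hI⟩ : ∃ I, I = RingHom.ker (MvPolynomial.aeval (R := R) G.val) := ⟨_, rfl⟩
  obtain ⟨J, hJ⟩ : ∃ J, J = Ideal.map (MvPolynomial.map (σ := ι) (algebraMap R R')) I := ⟨_, rfl⟩
  rw [← hI, ← hJ]
  let φ : MvPolynomial ι R →ₐ[R] MvPolynomial ι R' := MvPolynomial.mapAlgHom (Algebra.ofId R R')
  have hφ : ∀ p, φ p = MvPolynomial.map (algebraMap R R') p := fun p => rfl
  let g0 : MvPolynomial ι R →ₐ[R] (MvPolynomial ι R' ⧸ J) := (Ideal.Quotient.mkₐ R J).comp φ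
  have hg0 : ∀ a ∈ RingHom.ker (MvPolynomial.aeval (R := R) G.val), g0 a = 0 := by
    intro a ha
    show Ideal.Quotient.mk J (φ a) = 0
    rw [Ideal.Quotient.eq_zero_iff_mem, hJ, hφ]
    exact Ideal.mem_map_of_mem _ (hI ▸ ha)
  let gS : S →ₐ[R] (MvPolynomial ι R' ⧸ J) :=
    (Ideal.Quotient.liftₐ _ g0 hg0).comp
      (Ideal.quotientKerAlgEquivOfSurjective G.aeval_val_surjective).symm.toAlgHom
  have hgS : ∀ p, gS (MvPolynomial.aeval G.val p) = Ideal.Quotient.mk J (φ p) := by
    intro p
    have : (Ideal.quotientKerAlgEquivOfSurjective G.aeval_val_surjective).symm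
        (MvPolynomial.aeval G.val p) = Ideal.Quotient.mk _ p := by
      rw [AlgEquiv.symm_apply_eq]
      rfl
    show (Ideal.Quotient.liftₐ _ g0 hg0) ((Ideal.quotientKerAlgEquivOfSurjective
      G.aeval_val_surjective).symm (MvPolynomial.aeval G.val p)) = _
    rw [this]
    rfl
  let gR' : R' →ₐ[R] (MvPolynomial ι R' ⧸ J) := IsScalarTower.toAlgHom R R' _
  let ψ : S' →ₐ[R] (MvPolynomial ι R' ⧸ J) :=
    Algebra.pushoutDesc S' gR' gS (fun x y => mul_comm _ _)
  have hψ : ∀ p' : MvPolynomial ι R', ψ (MvPolynomial.aeval G'.val p') = Ideal.Quotient.mk J p' := by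
    intro p'
    induction p' using MvPolynomial.induction_on with
    | C a =>
      rw [MvPolynomial.aeval_C, Algebra.pushoutDesc_left]
      rfl
    | add p q hp hq => rw [map_add, map_add, hp, hq, map_add]
    | mul_X p i hp =>
      rw [map_mul, map_mul, hp, MvPolynomial.aeval_X, h i, Algebra.pushoutDesc_right, map_mul]
      congr 1
      have := hgS (MvPolynomial.X i)
      rw [MvPolynomial.aeval_X] at this
      rw [this, hφ, MvPolynomial.map_X]
  intro p' hp'
  rw [RingHom.mem_ker] at hp'
  have := hψ p'
  rw [hp', map_zero] at this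
  exact Ideal.Quotient.eq_zero_iff_mem.mp this.symm

theorem beta_bijective :
    Function.Bijective (LinearMap.liftBaseChange S' (Algebra.Extension.CotangentSpace.map
      (svHom G G' h).toExtensionHom)) := by
  classical
  have hb : ∀ i, Algebra.Extension.CotangentSpace.map
      (svHom G G' h).toExtensionHom (G.cotangentSpaceBasis i) =
      G'.cotangentSpaceBasis i := by
    intro i
    apply G'.cotangentSpaceBasis.repr.injective
    ext j
    rw [Algebra.Generators.repr_CotangentSpaceMap]
    simp [svHom, MvPolynomial.pderiv_X, Pi.single_apply, Finsupp.single_apply]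
  have heq : (LinearMap.liftBaseChange S' (Algebra.Extension.CotangentSpace.map
      (svHom G G' h).toExtensionHom)) =
      ((G.cotangentSpaceBasis.baseChange S').equiv G'.cotangentSpaceBasis (Equiv.refl ι)).toLinearMap := by
    apply (G.cotangentSpaceBasis.baseChange S').ext
    intro i
    rw [LinearEquiv.coe_coe, Module.Basis.equiv_apply, Module.Basis.baseChange_apply,
      LinearMap.liftBaseChange_tmul, one_smul, hb i]
    rfl
  rw [heq]
  exact LinearEquiv.bijective _

include h in
theorem alpha_surjective [Algebra.IsPushout R R' S S'] :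
    Function.Surjective (LinearMap.liftBaseChange S' (Algebra.Extension.Cotangent.map
      (svHom G G' h).toExtensionHom)) := by
  obtain ⟨α, hα⟩ : ∃ α, α = (LinearMap.liftBaseChange S' (Algebra.Extension.Cotangent.map
      (svHom G G' h).toExtensionHom)) := ⟨_, rfl⟩
  rw [← hα]
  -- the P'-submodule of elements of I' whose class is in the range
  let T : Submodule G'.toExtension.Ring G'.toExtension.Ring :=
    Submodule.map (Submodule.subtype G'.toExtension.ker)
      (Submodule.comap (Algebra.Extension.Cotangent.mk (P := G'.toExtension))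
        ((LinearMap.range α).restrictScalars G'.toExtension.Ring))
  have hT : Ideal.map (MvPolynomial.map (σ := ι) (algebraMap R R'))
      (RingHom.ker (MvPolynomial.aeval (R := R) G.val)) ≤ T := by
    rw [Ideal.map]
    apply Ideal.span_le.mpr
    rintro _ ⟨q, hq, rfl⟩
    have hqI : (show G.toExtension.Ring from q) ∈ G.toExtension.ker := by
      rw [mem_ker_iff]; exact hq
    have hq' : (show G'.toExtension.Ring from MvPolynomial.map (algebraMap R R') q) ∈
        G'.toExtension.ker := by
      rw [mem_ker_iff]
      show MvPolynomial.aeval G'.val (MvPolynomial.map (algebraMap R R') q) = 0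
      rw [aeval_map G G' h, (show MvPolynomial.aeval G.val q = 0 from hq), map_zero]
    refine ⟨⟨_, hq'⟩, ?_, rfl⟩
    show Algebra.Extension.Cotangent.mk ⟨_, hq'⟩ ∈ LinearMap.range α
    refine ⟨(1 : S') ⊗ₜ[S] Algebra.Extension.Cotangent.mk ⟨q, hqI⟩, ?_⟩
    rw [hα, LinearMap.liftBaseChange_tmul, one_smul, Algebra.Extension.Cotangent.map_mk]
    congr 1
    apply Subtype.ext
    exact toAlgHom_eq G G' h q
  intro y
  obtain ⟨⟨p', hp'⟩, rfl⟩ := Algebra.Extension.Cotangent.mk_surjective y
  have h1 : (show MvPolynomial ι R' from p') ∈ RingHom.ker (MvPolynomial.aeval (R := R') G'.val) :=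
    (mem_ker_iff G' p').mp hp'
  obtain ⟨⟨y, hy⟩, hy2, hy3⟩ := hT (ker_le_map G G' h h1)
  have : (⟨y, hy⟩ : G'.toExtension.ker) = ⟨p', hp'⟩ := Subtype.ext hy3
  rw [this] at hy2
  exact hy2

end square

end Groth.Agent.Lib.Helper16.SameVars
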