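import Mathlib
import Groth.Prelude.Def_SheafNL
import Groth.Agent.Lib.Helper16.BcH1
import Groth.Agent.Lib.Helper16.SameVars
import Groth.Agent.Lib.Helper16.CotLoc2
import Groth.Agent.Lib.Helper16.H1LCI
import Groth.Agent.S7221
import Groth.Agent.S9269

/-!
# Kernel of the base change map on H^{-1}(NL) for finite presentations with Koszul-regular kernels
-/

set_option autoImplicit false
set_option linter.unusedSectionVars false
universe u

open TensorProduct

namespace Groth.Agent.Lib.Helper16.BcH1Fin

open Groth.Agent.Lib.Helper16.BcH1 Groth.Agent.Lib.Helper16.SameVars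

theorem ker_finite_projective {R M N : Type*} [CommRing R] [AddCommGroup M] [Module R M]
    [AddCommGroup N] [Module R N] [Module.Finite R M] [Module.Projective R M]
    [Module.Projective R N] (f : M →ₗ[R] N) (hf : Function.Surjective f) :
    Module.Finite R (LinearMap.ker f) ∧ Module.Projective R (LinearMap.ker f) := by
  obtain ⟨σ, hσ⟩ := Module.projective_lifting_property f LinearMap.id hf
  have hσ' : ∀ y, f (σ y) = y := fun y => congr($hσ y)
  let π : M →ₗ[R] LinearMap.ker f :=
    (LinearMap.id - σ ∘ₗ f).codRestrict (LinearMap.ker f) (by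
      intro x
      rw [LinearMap.mem_ker]
      simp only [LinearMap.sub_apply, LinearMap.id_coe, id_eq, LinearMap.coe_comp,
        Function.comp_apply, map_sub, hσ', sub_self])
  have hπ : π ∘ₗ (LinearMap.ker f).subtype = LinearMap.id := by
    refine LinearMap.ext fun x => Subtype.ext ?_
    show (x : M) - σ (f x) = x
    rw [(LinearMap.mem_ker.mp x.2), map_zero, sub_zero]
  refine ⟨?_, Module.Projective.of_split _ π hπ⟩
  refine Module.Finite.of_surjective π ?_
  intro y
  exact ⟨y.1, congr($hπ y)⟩

section square
variable {R S R' S' : Type u} [CommRing R] [CommRing S] [CommRing R']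
    [CommRing S'] [Algebra R S] [Algebra R' S'] [Algebra R R'] [Algebra S S'] [Algebra R S']
    [IsScalarTower R R' S'] [IsScalarTower R S S']

theorem ker_bcH1Map_eq {P : Algebra.Extension.{u} R S} {P' : Algebra.Extension.{u} R' S'}
    (f : P.Hom P') :
    LinearMap.ker (NLCx.bcH1Map f) = Submodule.comap (NLCx.bcH1 P S').subtype
      (LinearMap.ker (LinearMap.liftBaseChange S' (Algebra.Extension.Cotangent.map f))) := by
  ext x
  rw [LinearMap.mem_ker, Submodule.mem_comap, LinearMap.mem_ker, Submodule.subtype_apply,
    ← Groth.Agent.S7221.bcH1Map_val]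
  constructor
  · intro hx; rw [hx]; rfl
  · intro hx; exact Subtype.ext hx

theorem ker_lift_le {P : Algebra.Extension.{u} R S} {P' : Algebra.Extension.{u} R' S'}
    (f : P.Hom P')
    (hβ : Function.Injective (LinearMap.liftBaseChange S' (Algebra.Extension.CotangentSpace.map f))) :
    LinearMap.ker (LinearMap.liftBaseChange S' (Algebra.Extension.Cotangent.map f)) ≤
      NLCx.bcH1 P S' := by
  intro x hx
  rw [LinearMap.mem_ker] at hx
  show x ∈ LinearMap.ker (P.cotangentComplex.baseChange S')
  rw [LinearMap.mem_ker]
  apply hβ
  have := congr($(Groth.Agent.S7221.comm_sq f) x)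
  simp only [LinearMap.coe_comp, Function.comp_apply] at this
  rw [← this, hx, map_zero, map_zero]

variable {ι : Type} (G : Algebra.Generators R S ι) (G' : Algebra.Generators R' S' ι)
    (h : ∀ i, G'.val i = algebraMap S S' (G.val i))

include h in
theorem finite_projective_ker_svHom [Algebra.IsPushout R R' S S']
    (hG : LCI.IsKoszulRegularIdeal G.toExtension.ker)
    (hG' : LCI.IsKoszulRegularIdeal G'.toExtension.ker) :
    Module.Finite S' (LinearMap.ker (NLCx.bcH1Map (svHom G G' h).toExtensionHom)) ∧
      Module.Projective S' (LinearMap.ker (NLCx.bcH1Map (svHom G G' h).toExtensionHom)) := by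
  have := Groth.Agent.Lib.Helper16.CotLoc.finite_extension_cotangent G.toExtension hG
  have := Groth.Agent.Lib.Helper16.CotLoc.projective_extension_cotangent G.toExtension hG
  have := Groth.Agent.Lib.Helper16.CotLoc.projective_extension_cotangent G'.toExtension hG'
  obtain ⟨h1, h2⟩ := ker_finite_projective _ (alpha_surjective G G' h)
  rw [ker_bcH1Map_eq]
  let e := Submodule.comapSubtypeEquivOfLe
    (ker_lift_le (svHom G G' h).toExtensionHom (beta_bijective G G' h).1)
  exact ⟨Module.Finite.equiv e.symm, Module.Projective.of_equiv e.symm⟩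

end square

end Groth.Agent.Lib.Helper16.BcH1Fin
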