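import Mathlib

/-!
# Base change of the conormal module when the quotient is flat over the base
-/

set_option autoImplicit false
set_option linter.unusedSectionVars false
universe u
open TensorProduct

namespace Groth.Agent.Lib.Helper16.CotBC

variable (R : Type*) {S : Type*} [CommRing R] [CommRing S] [Algebra R S]
variable (T : Type*) [CommRing T] [Algebra R T] (I : Ideal S)

/-- the quotient map `S/I² → S/I` as an `R`-linear map -/
noncomputable def sqToQuot : (S ⧸ I ^ 2) →ₗ[R] S ⧸ I :=
  (Ideal.Quotient.factorₐ R (show I ^ 2 ≤ I from Ideal.pow_le_self two_ne_zero)).toLinearMap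

theorem sqToQuot_mk (x : S) : sqToQuot R I (Ideal.Quotient.mk (I ^ 2) x) = Ideal.Quotient.mk I x :=
  rfl

theorem sqToQuot_surjective : Function.Surjective (sqToQuot R I) := by
  intro y
  obtain ⟨x, rfl⟩ := Ideal.Quotient.mk_surjective y
  exact ⟨Ideal.Quotient.mk (I ^ 2) x, rfl⟩

theorem exact_cotangent_sqToQuot :
    Function.Exact (I.cotangentToQuotientSquare.restrictScalars R) (sqToQuot R I) := by
  intro y
  obtain ⟨x, rfl⟩ := Ideal.Quotient.mk_surjective y
  rw [sqToQuot_mk, Ideal.Quotient.eq_zero_iff_mem]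
  have h1 : (Ideal.Quotient.mk (I ^ 2) x ∈ Set.range (I.cotangentToQuotientSquare.restrictScalars R)) ↔
      Ideal.Quotient.mk (I ^ 2) x ∈ LinearMap.range I.cotangentToQuotientSquare := Iff.rfl
  rw [h1, Ideal.range_cotangentToQuotientSquare, Submodule.restrictScalars_mem,
    Ideal.mk_mem_cotangentIdeal]

set_option backward.isDefEq.respectTransparency.types false in
set_option backward.defeqAttrib.useBackward true in
/-- If `S ⧸ I` is `R`-flat, the canonical map `tensorCotangentHom R T I` is injective (for any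
`R`-algebra `T`). -/
theorem tensorCotangentHom_injective_of_flat_quotient [Module.Flat R (S ⧸ I)] :
    Function.Injective (I.tensorCotangentHom R T) := by
  let a : S →+* T ⊗[R] S := Algebra.TensorProduct.includeRight.toRingHom
  let f : (I.map a).Cotangent →ₗ[T] T ⊗[R] S ⧸ (I.map a) ^ 2 :=
    (Ideal.cotangentToQuotientSquare _).restrictScalars T
  suffices h : Function.Injective (f ∘ₗ Ideal.tensorCotangentHom R T I) from .of_comp h
  let g : T ⊗[R] I.Cotangent →ₗ[T] T ⊗[R] (S ⧸ I ^ 2) :=
    AlgebraTensorModule.lTensor T T I.cotangentToQuotientSquare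
  let hₐ : T ⊗[R] (S ⧸ I ^ 2) ≃ₐ[T] T ⊗[R] S ⧸ (I.map a) ^ 2 :=
    (Algebra.TensorProduct.tensorQuotientEquiv _ _ _ _).trans
      (Ideal.quotientEquivAlgOfEq T (Ideal.map_pow _ _ _))
  have : f ∘ₗ Ideal.tensorCotangentHom R T I = hₐ.toLinearMap ∘ₗ g := by
    ext x
    obtain ⟨x, rfl⟩ := I.toCotangent_surjective x
    dsimp [f, g, hₐ]
    rw [Ideal.tensorCotangentHom_tmul, one_smul, Ideal.toCotangent_to_quotient_square]
    simp
  rw [this, LinearMap.coe_comp]
  apply hₐ.injective.comp
  exact LinearMap.lTensor_injective_of_exact_of_flat (sqToQuot R I) (sqToQuot_surjective R I)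
    (I.cotangentToQuotientSquare.restrictScalars R) I.cotangentToQuotientSquare_injective
    (exact_cotangent_sqToQuot R I) T

end Groth.Agent.Lib.Helper16.CotBC
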