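import Mathlib
import Groth.Agent.Lib.Helper16.CotBC1

/-!
# Base change of the conormal module of an extension when the target is flat over the base
-/

set_option autoImplicit false
set_option linter.unusedSectionVars false
universe u
open TensorProduct Algebra

namespace Groth.Agent.Lib.Helper16.CotBC

variable {R S : Type*} [CommRing R] [CommRing S] [Algebra R S]
variable (P : Extension.{u} R S) (T : Type*) [CommRing T] [Algebra R T]

theorem flat_quotient_ker [Module.Flat R S] : Module.Flat R (P.Ring ⧸ P.ker) :=
  Module.Flat.of_linearEquiv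
    (Ideal.quotientKerAlgEquivOfSurjective
      (f := IsScalarTower.toAlgHom R P.Ring S) P.algebraMap_surjective).toLinearEquiv

set_option backward.isDefEq.respectTransparency.types false in
/-- If `S` is flat over `R`, there is a `T`-linear isomorphism
`T ⊗[R] P.Cotangent ≃ₗ[T] (P.baseChange).Cotangent` for every `R`-algebra `T`. -/
noncomputable def tensorCotangentOfFlat' [Module.Flat R S] :
    T ⊗[R] P.Cotangent ≃ₗ[T] (P.baseChange (T := T)).Cotangent :=
  haveI := flat_quotient_ker P
  AlgebraTensorModule.congr (.refl T T) (P.cotangentEquivCotangentKer.restrictScalars R) ≪≫ₗ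
    (LinearEquiv.ofBijective (P.ker.tensorCotangentHom R T)
      ⟨tensorCotangentHom_injective_of_flat_quotient R T P.ker,
        P.ker.tensorCotangentHom_surjective R T⟩) ≪≫ₗ
    (Ideal.Cotangent.equivOfEq _ _ (P.ker_baseChange T).symm).restrictScalars T ≪≫ₗ
    (P.baseChange (T := T)).cotangentEquivCotangentKer.symm.restrictScalars T

set_option backward.isDefEq.respectTransparency.types false in
attribute [local instance] Algebra.TensorProduct.rightAlgebra in
theorem tensorCotangentOfFlat'_tmul [Module.Flat R S] (t : T) (x : P.Cotangent) :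
    tensorCotangentOfFlat' P T (t ⊗ₜ x) = t • Extension.Cotangent.map (P.toBaseChange T) x := by
  obtain ⟨x, rfl⟩ := Extension.Cotangent.mk_surjective x
  simp only [tensorCotangentOfFlat', LinearEquiv.trans_apply, AlgebraTensorModule.congr_tmul,
    LinearEquiv.refl_apply, LinearEquiv.restrictScalars_apply,
    Extension.cotangentEquivCotangentKer_apply,
    Extension.Cotangent.val_mk, LinearEquiv.ofBijective_apply, Ideal.tensorCotangentHom_tmul,
    map_smul, Extension.Cotangent.map_mk,
    Extension.Hom.toAlgHom_apply, Ideal.Cotangent.equivOfEq_toCotangent]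
  rfl

section flat

attribute [local instance] Algebra.TensorProduct.rightAlgebra

/-- the comparison map `(T ⊗ S) ⊗[S] P.Cotangent → (P.baseChange).Cotangent` -/
noncomputable def bcCot : (T ⊗[R] S) ⊗[S] P.Cotangent →ₗ[T ⊗[R] S]
    (P.baseChange (T := T)).Cotangent :=
  LinearMap.liftBaseChange (T ⊗[R] S) (Extension.Cotangent.map (P.toBaseChange T))

theorem bcCot_comp [Module.Flat R S] (z : T ⊗[R] P.Cotangent) :
    bcCot P T ((Algebra.IsPushout.cancelBaseChange R T S (T ⊗[R] S) P.Cotangent).symm z) =
      tensorCotangentOfFlat' P T z := by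
  induction z using TensorProduct.induction_on with
  | zero => simp
  | add a b ha hb => simp only [map_add, ha, hb]
  | tmul t x =>
    rw [Algebra.IsPushout.cancelBaseChange_symm_tmul, tensorCotangentOfFlat'_tmul, bcCot,
      LinearMap.liftBaseChange_tmul, algebraMap_smul]

theorem bcCot_bijective [Module.Flat R S] : Function.Bijective (bcCot P T) := by
  have h : (bcCot P T : _ → _) = (tensorCotangentOfFlat' P T) ∘
      (Algebra.IsPushout.cancelBaseChange R T S (T ⊗[R] S) P.Cotangent) := by
    funext z
    obtain ⟨w, rfl⟩ := (Algebra.IsPushout.cancelBaseChange R T S (T ⊗[R] S) P.Cotangent).symm.surjective z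
    rw [bcCot_comp, Function.comp_apply, LinearEquiv.apply_symm_apply]
  rw [h]
  exact (tensorCotangentOfFlat' P T).bijective.comp
    (Algebra.IsPushout.cancelBaseChange R T S (T ⊗[R] S) P.Cotangent).bijective

/-- flatness of the conormal module is preserved by base change, when `S` is `R`-flat -/
theorem flat_cotangent_baseChange [Module.Flat R S] [Module.Flat S P.Cotangent] :
    Module.Flat (T ⊗[R] S) (P.baseChange (T := T)).Cotangent :=
  Module.Flat.of_linearEquiv (LinearEquiv.ofBijective (bcCot P T) (bcCot_bijective P T)).symm

end flat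

end Groth.Agent.Lib.Helper16.CotBC
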