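import Mathlib
import Groth.Prelude.Def_SheafNL
import Groth.Agent.Lib.Helper16.CotBC2
import Groth.Agent.S7221

/-!
# Base change of the naive cotangent complex for presentations on the same variables: degree -1 is bijective under flatness
-/

set_option autoImplicit false
set_option linter.unusedSectionVars false
universe u
open TensorProduct Algebra

namespace Groth.Agent.Lib.Helper16.BcNL

open Groth.Agent.Lib.Helper16.CotBC

variable {R S R' S' : Type u} [CommRing R] [CommRing S] [CommRing R']
    [CommRing S'] [Algebra R S] [Algebra R' S'] [Algebra R R'] [Algebra S S'] [Algebra R S']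
    [IsScalarTower R R' S'] [IsScalarTower R S S']
    {ι : Type u} (G : Algebra.Generators R S ι) (G' : Algebra.Generators R' S' ι)
    (h : ∀ i, G'.val i = algebraMap S S' (G.val i))

set_option backward.isDefEq.respectTransparency false in
/-- the identification of the base-changed polynomial ring -/
noncomputable def eQ : (G.toExtension.baseChange (T := R')).Ring ≃ₐ[R'] G'.toExtension.Ring :=
  MvPolynomial.algebraTensorAlgEquiv R R'

set_option backward.isDefEq.respectTransparency false in
theorem eQ_tmul (a : R') (p : G.toExtension.Ring) :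
    eQ G G' (a ⊗ₜ[R] p) = a • (NLCx.sameVarsHom G G' h).toExtensionHom.toAlgHom p := by
  rw [Groth.Agent.S7221.toAlgHom_eq]
  exact MvPolynomial.algebraTensorAlgEquiv_tmul (R := R) (A := R') a p

set_option backward.isDefEq.respectTransparency false in
include h in
theorem comm_eQ [Algebra.IsPushout R R' S S'] (y : (G.toExtension.baseChange (T := R')).Ring) :
    algebraMap G'.toExtension.Ring S' (eQ G G' y) =
      Algebra.IsPushout.equiv R R' S S'
        (algebraMap (G.toExtension.baseChange (T := R')).Ring (R' ⊗[R] S) y) := by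
  induction y using TensorProduct.induction_on with
  | zero => rw [map_zero, map_zero, map_zero, map_zero]
  | add a b ha hb => rw [map_add, map_add, map_add, map_add, ha, hb]
  | tmul a p =>
    have h1 : algebraMap (G.toExtension.baseChange (T := R')).Ring (R' ⊗[R] S) (a ⊗ₜ[R] p) =
        a ⊗ₜ[R] (algebraMap G.toExtension.Ring S p) := rfl
    rw [h1, eQ_tmul G G' h, Algebra.IsPushout.equiv_tmul, Algebra.smul_def, map_mul]
    congr 1
    · rw [← IsScalarTower.algebraMap_apply]
    · exact (NLCx.sameVarsHom G G' h).toExtensionHom.algebraMap_toRingHom p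

include h in
theorem mem_ker_iff_eQ [Algebra.IsPushout R R' S S']
    (y : (G.toExtension.baseChange (T := R')).Ring) :
    y ∈ (G.toExtension.baseChange (T := R')).ker ↔ eQ G G' y ∈ G'.toExtension.ker := by
  rw [RingHom.mem_ker, RingHom.mem_ker, comm_eQ G G' h]
  exact (EmbeddingLike.map_eq_zero_iff (f := Algebra.IsPushout.equiv R R' S S')).symm

include h in
theorem ker_eq_map_eQ [Algebra.IsPushout R R' S S'] :
    G'.toExtension.ker = (G.toExtension.baseChange (T := R')).ker.map
      ((eQ G G' : _ ≃ₐ[R'] _) : _ →+* _) := by
  ext z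
  constructor
  · intro hz
    obtain ⟨y, rfl⟩ := (eQ G G').surjective z
    exact Ideal.mem_map_of_mem _ ((mem_ker_iff_eQ G G' h y).2 hz)
  · intro hz
    refine Ideal.map_le_iff_le_comap.2 ?_ hz
    intro y hy
    exact (mem_ker_iff_eQ G G' h y).1 hy

include h in
theorem mem_sq_of_eQ_mem_sq [Algebra.IsPushout R R' S S']
    (y : (G.toExtension.baseChange (T := R')).Ring) (hy : eQ G G' y ∈ G'.toExtension.ker ^ 2) :
    y ∈ (G.toExtension.baseChange (T := R')).ker ^ 2 := by
  rw [ker_eq_map_eQ G G' h, ← Ideal.map_pow] at hy
  obtain ⟨j, hj, hjy⟩ := (Ideal.mem_map_iff_of_surjective _ (eQ G G').surjective).1 hy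
  have : j = y := (eQ G G').injective hjy
  rw [← this]
  exact hj

/-- the map on conormal modules induced by `eQ` -/
noncomputable def nu [Algebra.IsPushout R R' S S'] :
    (G.toExtension.baseChange (T := R')).ker.Cotangent →ₗ[R'] G'.toExtension.ker.Cotangent :=
  Ideal.mapCotangent _ _ (eQ G G').toAlgHom (fun y hy => (mem_ker_iff_eQ G G' h y).1 hy)

theorem nu_injective [Algebra.IsPushout R R' S S'] : Function.Injective (nu G G' h) := by
  intro u v huv
  obtain ⟨x, rfl⟩ := Ideal.toCotangent_surjective _ u
  obtain ⟨x', rfl⟩ := Ideal.toCotangent_surjective _ v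
  rw [nu, Ideal.mapCotangent_toCotangent, Ideal.mapCotangent_toCotangent, Ideal.toCotangent_eq]
    at huv
  rw [Ideal.toCotangent_eq]
  apply mem_sq_of_eQ_mem_sq G G' h
  rw [map_sub]
  exact huv

/-- the `R'`-linear comparison map `R' ⊗[R] I/I² → I'/I'²` -/
noncomputable def gamma :
    R' ⊗[R] G.toExtension.Cotangent →ₗ[R'] G'.toExtension.Cotangent :=
  LinearMap.liftBaseChange R'
    ((Extension.Cotangent.map (NLCx.sameVarsHom G G' h).toExtensionHom).restrictScalars R)

theorem gamma_tmul (t : R') (x : G.toExtension.Cotangent) :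
    gamma G G' h (t ⊗ₜ[R] x) =
      t • Extension.Cotangent.map (NLCx.sameVarsHom G G' h).toExtensionHom x := by
  rw [gamma, LinearMap.liftBaseChange_tmul]
  rfl

section
attribute [local instance] Algebra.TensorProduct.rightAlgebra

set_option backward.isDefEq.respectTransparency false in
theorem gamma_eq [Algebra.IsPushout R R' S S']
    (θ : R' ⊗[R] G.toExtension.Cotangent →ₗ[R'] (G.toExtension.baseChange (T := R')).Cotangent)
    (hθ : ∀ (t : R') (x : G.toExtension.Cotangent), θ (t ⊗ₜ[R] x) =
      t • Extension.Cotangent.map (G.toExtension.toBaseChange R') x)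
    (z : R' ⊗[R] G.toExtension.Cotangent) :
    (gamma G G' h z).val = nu G G' h (θ z).val := by
  induction z using TensorProduct.induction_on with
  | zero => simp
  | add a b ha hb => simp only [map_add, Extension.Cotangent.val_add, ha, hb]
  | tmul t x =>
    obtain ⟨x, rfl⟩ := Extension.Cotangent.mk_surjective x
    rw [gamma_tmul, hθ, Extension.Cotangent.val_smul'', Extension.Cotangent.val_smul'', map_smul,
      Extension.Cotangent.map_mk, Extension.Cotangent.map_mk, Extension.Cotangent.val_mk,
      Extension.Cotangent.val_mk, nu, Ideal.mapCotangent_toCotangent]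
    congr 2
    apply Subtype.ext
    change (NLCx.sameVarsHom G G' h).toExtensionHom.toAlgHom x.1 = eQ G G' ((1 : R') ⊗ₜ[R] x.1)
    rw [eQ_tmul G G' h, one_smul]

theorem gamma_injective [Algebra.IsPushout R R' S S']
    (θ : R' ⊗[R] G.toExtension.Cotangent ≃ₗ[R'] (G.toExtension.baseChange (T := R')).Cotangent)
    (hθ : ∀ (t : R') (x : G.toExtension.Cotangent), θ (t ⊗ₜ[R] x) =
      t • Extension.Cotangent.map (G.toExtension.toBaseChange R') x) :
    Function.Injective (gamma G G' h) := by
  rw [injective_iff_map_eq_zero]
  intro z hz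
  have h1 := gamma_eq G G' h θ.toLinearMap hθ z
  rw [hz, Extension.Cotangent.val_zero] at h1
  have h2 : (θ z).val = 0 := nu_injective G G' h ((map_zero (nu G G' h)).symm ▸ h1.symm)
  have h3 : θ z = 0 := Extension.Cotangent.ext h2
  exact θ.injective (by rw [h3, map_zero])

end

/-- the comparison map in degree `-1` -/
noncomputable abbrev alpha : S' ⊗[S] G.toExtension.Cotangent →ₗ[S'] G'.toExtension.Cotangent :=
  LinearMap.liftBaseChange S'
    (Extension.Cotangent.map (NLCx.sameVarsHom G G' h).toExtensionHom)

theorem alpha_cancel [Algebra.IsPushout R R' S S'] (z : R' ⊗[R] G.toExtension.Cotangent) :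
    alpha G G' h ((Algebra.IsPushout.cancelBaseChange R R' S S' G.toExtension.Cotangent).symm z) =
      gamma G G' h z := by
  induction z using TensorProduct.induction_on with
  | zero => simp
  | add a b ha hb => simp only [map_add, ha, hb]
  | tmul t x =>
    rw [Algebra.IsPushout.cancelBaseChange_symm_tmul, gamma_tmul, LinearMap.liftBaseChange_tmul,
      algebraMap_smul]

theorem alpha_injective_of_gamma [Algebra.IsPushout R R' S S']
    (hg : Function.Injective (gamma G G' h)) : Function.Injective (alpha G G' h) := by
  intro u v huv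
  obtain ⟨z, rfl⟩ :=
    (Algebra.IsPushout.cancelBaseChange R R' S S' G.toExtension.Cotangent).symm.surjective u
  obtain ⟨w, rfl⟩ :=
    (Algebra.IsPushout.cancelBaseChange R R' S S' G.toExtension.Cotangent).symm.surjective v
  rw [alpha_cancel, alpha_cancel] at huv
  rw [hg huv]

/-- degree `-1` comparison is bijective when `S` is flat over `R` -/
theorem alpha_bijective_of_flat [Algebra.IsPushout R R' S S'] [Module.Flat R S] :
    Function.Bijective (alpha G G' h) :=
  ⟨alpha_injective_of_gamma G G' h (gamma_injective G G' h (tensorCotangentOfFlat' G.toExtension R')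
    (tensorCotangentOfFlat'_tmul G.toExtension R')),
    Groth.Agent.S7221.alpha_surjective G G' h⟩

/-- degree `-1` comparison is bijective when `R'` is flat over `R` -/
theorem alpha_bijective_of_flat' [Algebra.IsPushout R R' S S'] [Module.Flat R R'] :
    Function.Bijective (alpha G G' h) :=
  ⟨alpha_injective_of_gamma G G' h (gamma_injective G G' h
    (Extension.tensorCotangentOfFlat G.toExtension R')
    (Extension.tensorCotangentOfFlat_tmul G.toExtension R')),
    Groth.Agent.S7221.alpha_surjective G G' h⟩

end Groth.Agent.Lib.Helper16.BcNL
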