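import Mathlib

/-!
# Morphisms and homotopies of two-term complexes (HomologicalComplex.double)
-/

set_option autoImplicit false
set_option linter.unusedSectionVars false
universe u

open CategoryTheory CategoryTheory.Limits HomologicalComplex

namespace Groth.Agent.Lib.Helper16.DoubleHtpy

variable {C : Type*} [Category C] [Preadditive C] [HasZeroObject C]
  {ι : Type*} {c : ComplexShape ι} {i₀ i₁ : ι} (hrel : c.Rel i₀ i₁) (hne : i₀ ≠ i₁)
  {X₀ X₁ Y₀ Y₁ : C} (f : X₀ ⟶ X₁) (g : Y₀ ⟶ Y₁)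

/-- the morphism of two-term complexes induced by a commutative square -/
noncomputable def doubleMap (α₀ : X₀ ⟶ Y₀) (α₁ : X₁ ⟶ Y₁) (comm : α₀ ≫ g = f ≫ α₁) :
    double f hrel ⟶ double g hrel :=
  mkHomFromDouble hrel hne (α₀ ≫ (doubleXIso₀ g hrel).inv) (α₁ ≫ (doubleXIso₁ g hrel hne).inv)
    (by rw [double_d g hrel hne, Category.assoc, Iso.inv_hom_id_assoc, ← Category.assoc, comm,
      Category.assoc])
    (fun k _ => by rw [double_d_eq_zero₀ g hrel _ _ hne.symm, comp_zero])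

@[simp]
theorem doubleMap_f₀ (α₀ : X₀ ⟶ Y₀) (α₁ : X₁ ⟶ Y₁) (comm : α₀ ≫ g = f ≫ α₁) :
    (doubleMap hrel hne f g α₀ α₁ comm).f i₀ =
      (doubleXIso₀ f hrel).hom ≫ α₀ ≫ (doubleXIso₀ g hrel).inv :=
  mkHomFromDouble_f₀ _ _ _ _ _ _

@[simp]
theorem doubleMap_f₁ (α₀ : X₀ ⟶ Y₀) (α₁ : X₁ ⟶ Y₁) (comm : α₀ ≫ g = f ≫ α₁) :
    (doubleMap hrel hne f g α₀ α₁ comm).f i₁ =
      (doubleXIso₁ f hrel hne).hom ≫ α₁ ≫ (doubleXIso₁ g hrel hne).inv :=
  mkHomFromDouble_f₁ _ _ _ _ _ _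

open scoped Classical in
/-- a homotopy between maps of two-term complexes -/
noncomputable def doubleHomotopy (φ ψ : double f hrel ⟶ double g hrel) (h : X₁ ⟶ Y₀)
    (h₀ : φ.f i₀ = (doubleXIso₀ f hrel).hom ≫ f ≫ h ≫ (doubleXIso₀ g hrel).inv + ψ.f i₀)
    (h₁ : φ.f i₁ =
      (doubleXIso₁ f hrel hne).hom ≫ h ≫ g ≫ (doubleXIso₁ g hrel hne).inv + ψ.f i₁) :
    Homotopy φ ψ where
  hom i j :=
    if hij : i = i₁ ∧ j = i₀ then
      eqToHom (by rw [hij.1]) ≫ (doubleXIso₁ f hrel hne).hom ≫ h ≫ (doubleXIso₀ g hrel).inv ≫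
        eqToHom (by rw [hij.2])
    else 0
  zero i j hij := by
    rw [dif_neg]
    rintro ⟨rfl, rfl⟩
    exact hij hrel
  comm i := by
    by_cases hi₀ : i = i₀
    · subst hi₀
      rw [dNext_eq _ hrel, prevD, AddMonoidHom.mk'_apply]
      dsimp only
      rw [dif_pos ⟨rfl, rfl⟩, dif_neg (fun hh => hne hh.1), zero_comp, add_zero, h₀,
        double_d f hrel hne]
      simp
    · by_cases hi₁ : i = i₁
      · subst hi₁
        rw [prevD_eq _ hrel, dNext, AddMonoidHom.mk'_apply]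
        dsimp only
        rw [double_d_eq_zero₀ f hrel _ _ hi₀, zero_comp, zero_add, dif_pos ⟨rfl, rfl⟩, h₁,
          double_d g hrel hne]
        simp
      · exact (isZero_double_X f hrel i hi₀ hi₁).eq_of_src _ _

end Groth.Agent.Lib.Helper16.DoubleHtpy
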