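import Mathlib
import Groth.Prelude.Def_LCI2
import Groth.Agent.Lib.Helper16.DoubleHtpy

/-!
# Independence of the two-term naive cotangent complex of the presentation, in D(B)
-/

set_option autoImplicit false
set_option linter.unusedSectionVars false
universe u

open CategoryTheory CategoryTheory.Limits HomologicalComplex Algebra

attribute [local instance] HasDerivedCategory.standard

namespace Groth.Agent.Lib.Helper16.NLInv

open Groth.Agent.Lib.Helper16.DoubleHtpy

variable {A B : Type u} [CommRing A] [CommRing B] [Algebra A B]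

theorem rel : (ComplexShape.up ℤ).Rel (-1) 0 := by simp

theorem ne : (-1 : ℤ) ≠ 0 := by norm_num

/-- the two-term cotangent complex of an extension -/
noncomputable abbrev NLd (Q : Extension.{u} A B) : DRing.Cx B :=
  HomologicalComplex.double (ModuleCat.ofHom Q.cotangentComplex) rel

variable {Q₁ Q₂ : Extension.{u} A B}

/-- the chain map induced by a morphism of extensions -/
noncomputable def NLdMap (φ : Q₁.Hom Q₂) : NLd Q₁ ⟶ NLd Q₂ :=
  doubleMap rel ne _ _ (ModuleCat.ofHom (Extension.Cotangent.map φ))
    (ModuleCat.ofHom (Extension.CotangentSpace.map φ)) (by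
      ext x
      exact (Extension.CotangentSpace.map_cotangentComplex φ x).symm)

/-- two morphisms of extensions induce homotopic maps -/
noncomputable def NLdHomotopy (φ ψ : Q₁.Hom Q₂) : Homotopy (NLdMap φ) (NLdMap ψ) :=
  doubleHomotopy rel ne _ _ _ _ (ModuleCat.ofHom (φ.sub ψ))
    (by
      have key : ModuleCat.ofHom (Extension.Cotangent.map φ) =
          ModuleCat.ofHom Q₁.cotangentComplex ≫ ModuleCat.ofHom (φ.sub ψ) +
            ModuleCat.ofHom (Extension.Cotangent.map ψ) := by
        ext x
        have := DFunLike.congr_fun (Extension.Cotangent.map_sub_map φ ψ) x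
        rw [LinearMap.sub_apply, sub_eq_iff_eq_add] at this
        exact this
      unfold NLdMap
      rw [doubleMap_f₀, doubleMap_f₀, key]
      simp only [Preadditive.add_comp, Preadditive.comp_add, Category.assoc])
    (by
      have key : ModuleCat.ofHom (Extension.CotangentSpace.map φ) =
          ModuleCat.ofHom (φ.sub ψ) ≫ ModuleCat.ofHom Q₂.cotangentComplex +
            ModuleCat.ofHom (Extension.CotangentSpace.map ψ) := by
        apply ModuleCat.hom_ext
        apply LinearMap.ext
        intro x
        have := DFunLike.congr_fun (Extension.CotangentSpace.map_sub_map φ ψ) x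
        rw [LinearMap.sub_apply, sub_eq_iff_eq_add] at this
        exact this
      unfold NLdMap
      rw [doubleMap_f₁, doubleMap_f₁, key]
      simp only [Preadditive.add_comp, Preadditive.comp_add, Category.assoc])

theorem NLdMap_id (Q : Extension.{u} A B) : NLdMap (Extension.Hom.id Q) = 𝟙 (NLd Q) := by
  apply from_double_hom_ext
  · unfold NLdMap
    rw [doubleMap_f₀, Extension.Cotangent.map_id]
    simp
  · unfold NLdMap
    rw [doubleMap_f₁, Extension.CotangentSpace.map_id]
    simp

theorem NLdMap_comp {Q₃ : Extension.{u} A B} (φ : Q₁.Hom Q₂) (ψ : Q₂.Hom Q₃) :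
    NLdMap (ψ.comp φ) = NLdMap φ ≫ NLdMap ψ := by
  apply from_double_hom_ext
  · unfold NLdMap
    rw [HomologicalComplex.comp_f, doubleMap_f₀, doubleMap_f₀, doubleMap_f₀,
      Extension.Cotangent.map_comp]
    simp
  · unfold NLdMap
    rw [HomologicalComplex.comp_f, doubleMap_f₁, doubleMap_f₁, doubleMap_f₁,
      Extension.CotangentSpace.map_comp]
    simp

/-- the naive cotangent complexes of two extensions with morphisms in both directions are
isomorphic in the derived category -/
noncomputable def NLdIso (φ : Q₁.Hom Q₂) (ψ : Q₂.Hom Q₁) :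
    DRing.toD (NLd Q₁) ≅ DRing.toD (NLd Q₂) where
  hom := DerivedCategory.Q.map (NLdMap φ)
  inv := DerivedCategory.Q.map (NLdMap ψ)
  hom_inv_id := by
    rw [← CategoryTheory.Functor.map_comp, ← NLdMap_comp,
      DerivedCategory.Q_map_eq_of_homotopy _ (NLdHomotopy (ψ.comp φ) (Extension.Hom.id Q₁)),
      NLdMap_id, CategoryTheory.Functor.map_id]
  inv_hom_id := by
    rw [← CategoryTheory.Functor.map_comp, ← NLdMap_comp,
      DerivedCategory.Q_map_eq_of_homotopy _ (NLdHomotopy (φ.comp ψ) (Extension.Hom.id Q₂)),
      NLdMap_id, CategoryTheory.Functor.map_id]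

end Groth.Agent.Lib.Helper16.NLInv
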