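import Mathlib
import Groth.Prelude.Def_SheafNL
import Groth.Agent.Lib.Helper16.DoubleHtpy
import Groth.Agent.Lib.Helper16.NLInv
import Groth.Agent.S7221

/-!
# Base change map of naive cotangent complexes: homotopy between the maps induced by two morphisms of extensions
-/

set_option autoImplicit false
set_option linter.unusedSectionVars false
universe u
open TensorProduct Algebra CategoryTheory HomologicalComplex

namespace Groth.Agent.Lib.Helper16.BcNL

open Groth.Agent.Lib.Helper16.DoubleHtpy Groth.Agent.Lib.Helper16.NLInv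

variable {R S R' S' : Type u} [CommRing R] [CommRing S] [CommRing R']
    [CommRing S'] [Algebra R S] [Algebra R' S'] [Algebra R R'] [Algebra S S'] [Algebra R S']
    [IsScalarTower R R' S'] [IsScalarTower R S S']
    {P : Algebra.Extension.{u} R S} {P' : Algebra.Extension.{u} R' S'}

/-- degree `-1` component -/
noncomputable abbrev aMap (f : P.Hom P') : S' ⊗[S] P.Cotangent →ₗ[S'] P'.Cotangent :=
  LinearMap.liftBaseChange S' (Extension.Cotangent.map f)

/-- degree `0` component -/
noncomputable abbrev bMap (f : P.Hom P') : S' ⊗[S] P.CotangentSpace →ₗ[S'] P'.CotangentSpace :=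
  LinearMap.liftBaseChange S' (Extension.CotangentSpace.map f)

theorem bcMap_f₀ (f : P.Hom P') :
    (NLCx.bcMap (S' := S') f).f (-1) =
      (doubleXIso₀ (ModuleCat.ofHom (P.cotangentComplex.baseChange S')) rel).hom ≫
        ModuleCat.ofHom (aMap f) ≫ (doubleXIso₀ (ModuleCat.ofHom P'.cotangentComplex) rel).inv :=
  mkHomFromDouble_f₀ _ _ _ _ _ _

theorem bcMap_f₁ (f : P.Hom P') :
    (NLCx.bcMap (S' := S') f).f 0 =
      (doubleXIso₁ (ModuleCat.ofHom (P.cotangentComplex.baseChange S')) rel ne).hom ≫
        ModuleCat.ofHom (bMap f) ≫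
          (doubleXIso₁ (ModuleCat.ofHom P'.cotangentComplex) rel ne).inv :=
  mkHomFromDouble_f₁ _ _ _ _ _ _

/-- the homotopy operator -/
noncomputable abbrev hMap (f g : P.Hom P') : S' ⊗[S] P.CotangentSpace →ₗ[S'] P'.Cotangent :=
  LinearMap.liftBaseChange S' (f.sub g)

theorem aMap_sub (f g : P.Hom P') :
    ModuleCat.ofHom (aMap (S' := S') f) =
      ModuleCat.ofHom (P.cotangentComplex.baseChange S') ≫ ModuleCat.ofHom (hMap f g) +
        ModuleCat.ofHom (aMap g) := by
  apply ModuleCat.hom_ext
  apply LinearMap.ext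
  intro z
  have := Groth.Agent.S7221.lift_sub f g z
  rw [add_comm] at this
  exact this

theorem bMap_sub (f g : P.Hom P') :
    ModuleCat.ofHom (bMap (S' := S') f) =
      ModuleCat.ofHom (hMap f g) ≫ ModuleCat.ofHom P'.cotangentComplex +
        ModuleCat.ofHom (bMap g) := by
  apply ModuleCat.hom_ext
  apply LinearMap.ext
  intro z
  induction z using TensorProduct.induction_on with
  | zero => simp
  | add a b ha hb =>
    rw [map_add, map_add, ha, hb]
  | tmul s y =>
    have key := DFunLike.congr_fun (Extension.CotangentSpace.map_sub_map f g) y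
    rw [LinearMap.sub_apply, sub_eq_iff_eq_add] at key
    change bMap f (s ⊗ₜ y) = P'.cotangentComplex (hMap f g (s ⊗ₜ y)) + bMap g (s ⊗ₜ y)
    rw [LinearMap.liftBaseChange_tmul, LinearMap.liftBaseChange_tmul,
      LinearMap.liftBaseChange_tmul, key, smul_add, map_smul]
    rfl

/-- any two morphisms of extensions over the square induce homotopic base change maps -/
noncomputable def bcMapHomotopy (f g : P.Hom P') :
    Homotopy (NLCx.bcMap (S' := S') f) (NLCx.bcMap g) :=
  doubleHomotopy rel ne (ModuleCat.ofHom (P.cotangentComplex.baseChange S'))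
    (ModuleCat.ofHom P'.cotangentComplex) (NLCx.bcMap f) (NLCx.bcMap g)
    (ModuleCat.ofHom (hMap f g))
    (by
      rw [bcMap_f₀, bcMap_f₀, aMap_sub f g]
      simp only [Preadditive.add_comp, Preadditive.comp_add, Category.assoc])
    (by
      rw [bcMap_f₁, bcMap_f₁, bMap_sub f g]
      simp only [Preadditive.add_comp, Preadditive.comp_add, Category.assoc])

end Groth.Agent.Lib.Helper16.BcNL
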