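import Mathlib
import Groth.Prelude.Def_SheafNL
import Groth.Agent.Lib.Helper16.BcNL1
import Groth.Agent.Lib.Helper16.BcNL2

/-!
# Base change map of naive cotangent complexes: composition, isomorphism and quasi-isomorphism criteria
-/

set_option autoImplicit false
set_option linter.unusedSectionVars false
universe u
open TensorProduct Algebra CategoryTheory CategoryTheory.Limits HomologicalComplex

attribute [local instance] HasDerivedCategory.standard

namespace Groth.Agent.Lib.Helper16.BcNL

open Groth.Agent.Lib.Helper16.DoubleHtpy Groth.Agent.Lib.Helper16.NLInv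

variable {R S R' S' : Type u} [CommRing R] [CommRing S] [CommRing R']
    [CommRing S'] [Algebra R S] [Algebra R' S'] [Algebra R R'] [Algebra S S'] [Algebra R S']
    [IsScalarTower R R' S'] [IsScalarTower R S S']
    {P : Algebra.Extension.{u} R S} {P' P'' : Algebra.Extension.{u} R' S'}

theorem aMap_comp (f : P.Hom P') (g : P'.Hom P'') :
    aMap (S' := S') (g.comp f) = (Extension.Cotangent.map g) ∘ₗ aMap f := by
  refine LinearMap.ext fun z => ?_
  induction z using TensorProduct.induction_on with
  | zero => simp
  | tmul s y =>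
    simp only [LinearMap.liftBaseChange_tmul, LinearMap.coe_comp, Function.comp_apply, map_smul]
    rw [Algebra.Extension.Cotangent.map_comp]
    rfl
  | add a b ha hb => simp only [map_add, ha, hb]

theorem bMap_comp (f : P.Hom P') (g : P'.Hom P'') :
    bMap (S' := S') (g.comp f) = (Extension.CotangentSpace.map g) ∘ₗ bMap f := by
  refine LinearMap.ext fun z => ?_
  induction z using TensorProduct.induction_on with
  | zero => simp
  | tmul s y =>
    simp only [LinearMap.liftBaseChange_tmul, LinearMap.coe_comp, Function.comp_apply, map_smul]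
    rw [Algebra.Extension.CotangentSpace.map_comp]
    rfl
  | add a b ha hb => simp only [map_add, ha, hb]

/-- the base-changed two-term complex, as a `double` -/
noncomputable abbrev bcD {R S : Type u} [CommRing R] [CommRing S] [Algebra R S]
    (P : Algebra.Extension.{u} R S) (S' : Type u) [CommRing S'] [Algebra S S'] : DRing.Cx S' :=
  HomologicalComplex.double (ModuleCat.ofHom (P.cotangentComplex.baseChange S')) rel

theorem bc_comm (f : P.Hom P') :
    ModuleCat.ofHom (aMap (S' := S') f) ≫ ModuleCat.ofHom P'.cotangentComplex =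
      ModuleCat.ofHom (P.cotangentComplex.baseChange S') ≫ ModuleCat.ofHom (bMap f) := by
  apply ModuleCat.hom_ext
  apply LinearMap.ext
  intro z
  induction z using TensorProduct.induction_on with
  | zero => simp
  | add a b ha hb => rw [map_add, map_add, ha, hb]
  | tmul s y =>
    change P'.cotangentComplex (aMap f (s ⊗ₜ y)) = bMap f (P.cotangentComplex.baseChange S' (s ⊗ₜ y))
    rw [LinearMap.baseChange_tmul, LinearMap.liftBaseChange_tmul, LinearMap.liftBaseChange_tmul,
      map_smul, Algebra.Extension.CotangentSpace.map_cotangentComplex]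

/-- `NLCx.bcMap` in `double` form -/
noncomputable def bcMapD (f : P.Hom P') : bcD P S' ⟶ NLd P' :=
  doubleMap rel ne _ _ (ModuleCat.ofHom (aMap f)) (ModuleCat.ofHom (bMap f)) (bc_comm f)

theorem bcMap_eq (f : P.Hom P') : NLCx.bcMap (S' := S') f = bcMapD f := rfl

theorem bcMapD_comp (f : P.Hom P') (g : P'.Hom P'') :
    bcMapD (S' := S') (g.comp f) = bcMapD f ≫ NLdMap g := by
  apply from_double_hom_ext
  · unfold NLdMap bcMapD
    rw [HomologicalComplex.comp_f, doubleMap_f₀, doubleMap_f₀, doubleMap_f₀, aMap_comp,
      ModuleCat.ofHom_comp]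
    simp
  · unfold NLdMap bcMapD
    rw [HomologicalComplex.comp_f, doubleMap_f₁, doubleMap_f₁, doubleMap_f₁, bMap_comp,
      ModuleCat.ofHom_comp]
    simp

theorem isIso_bcMapD (f : P.Hom P') (ha : Function.Bijective (aMap (S' := S') f))
    (hb : Function.Bijective (bMap (S' := S') f)) : IsIso (bcMapD (S' := S') f) := by
  have h0 : IsIso (ModuleCat.ofHom (aMap (S' := S') f)) :=
    (ConcreteCategory.isIso_iff_bijective _).mpr ha
  have h1 : IsIso (ModuleCat.ofHom (bMap (S' := S') f)) :=
    (ConcreteCategory.isIso_iff_bijective _).mpr hb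
  have : ∀ n, IsIso ((bcMapD (S' := S') f).f n) := by
    intro n
    by_cases hn0 : n = -1
    · subst hn0
      unfold bcMapD
      rw [doubleMap_f₀]
      infer_instance
    · by_cases hn1 : n = 0
      · subst hn1
        unfold bcMapD
        rw [doubleMap_f₁]
        infer_instance
      · exact ⟨⟨0, (isZero_double_X _ rel n hn0 hn1).eq_of_src _ _,
          (isZero_double_X _ rel n hn0 hn1).eq_of_src _ _⟩⟩
  exact HomologicalComplex.Hom.isIso_of_components _

/-- homotopy in `double` form -/
noncomputable def bcMapDHomotopy (f g : P.Hom P') :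
    Homotopy (bcMapD (S' := S') f) (bcMapD g) :=
  bcMapHomotopy f g

theorem quasiIso_NLdMap {A B : Type u} [CommRing A] [CommRing B] [Algebra A B]
    {Q₁ Q₂ : Extension.{u} A B} (φ : Q₁.Hom Q₂) (ψ : Q₂.Hom Q₁) : QuasiIso (NLdMap φ) := by
  rw [← DerivedCategory.isIso_Q_map_iff_quasiIso]
  exact (NLdIso φ ψ).isIso_hom

/-- main criterion: if `s : P → P'` induces isomorphisms on both terms and `P'`, `P''` are
mutually comparable, then any `d : P → P''` induces a quasi-isomorphism -/
theorem quasiIso_bcMapD (s : P.Hom P') (ha : Function.Bijective (aMap (S' := S') s))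
    (hb : Function.Bijective (bMap (S' := S') s)) (k : P'.Hom P'') (k' : P''.Hom P')
    (d : P.Hom P'') : QuasiIso (bcMapD (S' := S') d) := by
  rw [← DerivedCategory.isIso_Q_map_iff_quasiIso,
    DerivedCategory.Q_map_eq_of_homotopy _ (bcMapDHomotopy d (k.comp s)), bcMapD_comp,
    Functor.map_comp]
  have := isIso_bcMapD s ha hb
  have := quasiIso_NLdMap k k'
  rw [← DerivedCategory.isIso_Q_map_iff_quasiIso] at this
  infer_instance

end Groth.Agent.Lib.Helper16.BcNL
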