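import Mathlib
import Groth.Prelude.Def_SheafNL
import Groth.Agent.Lib.Helper16.BcNL3

/-!
# Base change map of naive cotangent complexes: homotopy equivalence, bcMapSelf is a quasi-isomorphism under flatness
-/

set_option autoImplicit false
set_option linter.unusedSectionVars false
universe u
open TensorProduct Algebra CategoryTheory CategoryTheory.Limits HomologicalComplex

attribute [local instance] HasDerivedCategory.standard

namespace Groth.Agent.Lib.Helper16.BcNL

open Groth.Agent.Lib.Helper16.DoubleHtpy Groth.Agent.Lib.Helper16.NLInv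

variable {R S R' S' : Type u} [CommRing R] [CommRing S] [CommRing R']
    [CommRing S'] [Algebra R S] [Algebra R' S'] [Algebra R R'] [Algebra S S'] [Algebra R S']
    [IsScalarTower R R' S'] [IsScalarTower R S S']
    {P : Algebra.Extension.{u} R S} {P' P'' : Algebra.Extension.{u} R' S'}

/-- if `s : P → P'` induces an isomorphism of complexes and `P'`, `P''` are mutually comparable,
then any `d : P → P''` induces a homotopy equivalence -/
noncomputable def homotopyEquivBcMapD (s : P.Hom P') [IsIso (bcMapD (S' := S') s)]
    (k : P'.Hom P'') (k' : P''.Hom P') (d : P.Hom P'') :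
    HomotopyEquiv (bcD P S') (NLd P'') where
  hom := bcMapD d
  inv := NLdMap k' ≫ inv (bcMapD (S' := S') s)
  homotopyHomInvId := by
    have h1 : Homotopy (bcMapD (S' := S') d ≫ NLdMap k') (bcMapD s) :=
      (Homotopy.ofEq (bcMapD_comp d k').symm).trans (bcMapDHomotopy (k'.comp d) s)
    have h2 := h1.compRight (inv (bcMapD (S' := S') s))
    refine (Homotopy.ofEq ?_).trans (h2.trans (Homotopy.ofEq ?_))
    · rw [Category.assoc]
    · rw [IsIso.hom_inv_id]
  homotopyInvHomId := by
    have h1 : Homotopy (bcMapD (S' := S') d) (bcMapD s ≫ NLdMap k) :=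
      (bcMapDHomotopy d (k.comp s)).trans (Homotopy.ofEq (bcMapD_comp s k))
    have h2 := h1.compLeft (NLdMap k' ≫ inv (bcMapD (S' := S') s))
    have h3 : Homotopy (NLdMap k' ≫ NLdMap k) (𝟙 (NLd P'')) :=
      (Homotopy.ofEq (NLdMap_comp k' k).symm).trans
        ((NLdHomotopy (k.comp k') (Extension.Hom.id P'')).trans (Homotopy.ofEq (NLdMap_id P'')))
    refine h2.trans ((Homotopy.ofEq ?_).trans h3)
    rw [Category.assoc, IsIso.inv_hom_id_assoc]

@[simp]
theorem homotopyEquivBcMapD_hom (s : P.Hom P') [IsIso (bcMapD (S' := S') s)]
    (k : P'.Hom P'') (k' : P''.Hom P') (d : P.Hom P'') :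
    (homotopyEquivBcMapD s k k' d).hom = bcMapD d := rfl

section main

variable (R S R' S')

/-- the presentation of `S'` over `R'` on the elements of `S` -/
noncomputable def genS [Algebra.IsPushout R R' S S'] : Algebra.Generators R' S' S :=
  Algebra.Generators.ofSurjective (fun s : S => algebraMap S S' s)
    (Groth.Agent.S7221.aeval_algebraMap_surjective R S R' S')

theorem genS_val [Algebra.IsPushout R R' S S'] (s : S) :
    (genS R S R' S').val s = algebraMap S S' ((Algebra.Generators.self R S).val s) := rfl

/-- flat base change of the source: `bcMapSelf` is a quasi-isomorphism -/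
theorem quasiIso_bcMapSelf_of_flat [Algebra.IsPushout R R' S S'] [Module.Flat R S] :
    QuasiIso (NLCx.bcMapSelf R S R' S') := by
  have h1 := genS_val R S R' S'
  exact quasiIso_bcMapD (S' := S')
    (NLCx.sameVarsHom (Algebra.Generators.self R S) (genS R S R' S') h1).toExtensionHom
    (alpha_bijective_of_flat _ _ h1) (Groth.Agent.S7221.beta_bijective _ _ h1)
    ((genS R S R' S').defaultHom (Algebra.Generators.self R' S')).toExtensionHom
    ((Algebra.Generators.self R' S').defaultHom (genS R S R' S')).toExtensionHom
    ((Algebra.Generators.self R S).defaultHom (Algebra.Generators.self R' S')).toExtensionHom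

/-- flat base change: `bcMapSelf` is a quasi-isomorphism -/
theorem quasiIso_bcMapSelf_of_flat' [Algebra.IsPushout R R' S S'] [Module.Flat R R'] :
    QuasiIso (NLCx.bcMapSelf R S R' S') := by
  have h1 := genS_val R S R' S'
  exact quasiIso_bcMapD (S' := S')
    (NLCx.sameVarsHom (Algebra.Generators.self R S) (genS R S R' S') h1).toExtensionHom
    (alpha_bijective_of_flat' _ _ h1) (Groth.Agent.S7221.beta_bijective _ _ h1)
    ((genS R S R' S').defaultHom (Algebra.Generators.self R' S')).toExtensionHom
    ((Algebra.Generators.self R' S').defaultHom (genS R S R' S')).toExtensionHom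
    ((Algebra.Generators.self R S).defaultHom (Algebra.Generators.self R' S')).toExtensionHom

end main

end Groth.Agent.Lib.Helper16.BcNL
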