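import Mathlib
import Groth.Agent.Lib.Helper16.CotBC1

/-!
# Conormal module of an extension: projectivity over the target vs over the quotient
-/

set_option autoImplicit false
set_option linter.unusedSectionVars false
universe u
open TensorProduct Algebra

namespace Groth.Agent.Lib.Helper16.CotBC

variable {R S : Type*} [CommRing R] [CommRing S] [Algebra R S]
variable (P : Extension.{u} R S)

/-- the ring isomorphism `S ≃ P.Ring ⧸ P.ker` -/
noncomputable def quotEquiv : (P.Ring ⧸ P.ker) ≃+* S :=
  RingHom.quotientKerEquivOfSurjective P.algebraMap_surjective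

theorem quotEquiv_mk (p : P.Ring) : quotEquiv P (Ideal.Quotient.mk _ p) = algebraMap P.Ring S p :=
  rfl

theorem quotEquiv_symm_algebraMap (p : P.Ring) :
    (quotEquiv P).symm (algebraMap P.Ring S p) = Ideal.Quotient.mk _ p := by
  rw [RingEquiv.symm_apply_eq, quotEquiv_mk]

attribute [local instance] RingHomInvPair.of_ringEquiv RingHomInvPair.of_ringEquiv_symm

/-- the identity as a semilinear equivalence -/
noncomputable def cotSemi :
    P.Cotangent ≃ₛₗ[((quotEquiv P).symm : S →+* P.Ring ⧸ P.ker)] P.ker.Cotangent where
  toFun := Extension.Cotangent.val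
  invFun := Extension.Cotangent.of
  map_add' x y := by simp
  map_smul' s x := by
    obtain ⟨p, rfl⟩ := P.algebraMap_surjective s
    rw [algebraMap_smul, Extension.Cotangent.val_smul']
    change _ = (quotEquiv P).symm (algebraMap P.Ring S p) • _
    rw [quotEquiv_symm_algebraMap, ← Ideal.Quotient.algebraMap_eq, algebraMap_smul]
  left_inv x := rfl
  right_inv x := rfl

theorem projective_ker_cotangent [Module.Projective S P.Cotangent] :
    Module.Projective (P.Ring ⧸ P.ker) P.ker.Cotangent :=
  Module.Projective.of_equiv (cotSemi P)

end Groth.Agent.Lib.Helper16.CotBC
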