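import Mathlib
import Groth.Agent.Lib.Helper18.SerreReg
import Groth.Agent.Lib.Helper18.PD

/-!
# Vasconcelos' theorem (helper16)

An ideal `I` of finite projective dimension in a Noetherian ring whose conormal module `I/I²` is
projective over `R/I` is locally generated by a regular sequence.

* `free_and_finrank_of_exact`, `rank_const`: over a Noetherian local ring, the rank of a finite
  module of finite projective dimension at primes where it is free does not depend on the prime.
* `not_le_associatedPrime`, `exists_nzd`: a nonzero ideal of finite projective dimension in a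
  Noetherian local ring contains a nonzerodivisor outside `m I`.
* `QR`: `x` generates `I` and is independent modulo `I²`; `QR.quotient`, `QR.retract`,
  `QR.pd_quotient`: passage to `R/(y)`.
* `local_theorem`: the local form.
* `exists_local_basis`, `exists_local_QR_data`, `QR_localization`: from projectivity of the conormal
  module to `QR` in the localization.
* `isWeaklyRegular_of_forall₂_unit`, `spread`: unit multiples and spreading out from `R_p` to `R_g`.
* `vasconcelos`: the final statement.
-/

set_option autoImplicit false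
universe u

open CategoryTheory IsLocalRing Pointwise RingTheory.Sequence

namespace Groth.Agent.Lib.Helper16.Vasc

section split

theorem free_and_finrank_of_exact {S : Type u} [CommRing S] [IsLocalRing S]
    {A B C : Type u} [AddCommGroup A] [Module S A] [AddCommGroup B] [Module S B]
    [AddCommGroup C] [Module S C] [Module.Finite S B] [Module.Free S B] [Module.Free S C]
    (f : A →ₗ[S] B) (g : B →ₗ[S] C) (hf : Function.Injective f) (hg : Function.Surjective g)
    (hfg : Function.Exact f g) :
    Module.Free S A ∧ Module.finrank S B = Module.finrank S A + Module.finrank S C := by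
  obtain ⟨s, hs⟩ := Module.projective_lifting_property g LinearMap.id hg
  have hs' : ∀ c, g (s c) = c := fun c => by
    have := LinearMap.congr_fun hs c
    simpa using this
  have hinj : Function.Injective (f.coprod s) := by
    rw [← LinearMap.ker_eq_bot, LinearMap.ker_eq_bot']
    rintro ⟨a, c⟩ h
    rw [LinearMap.coprod_apply] at h
    have h1 := congrArg g h
    rw [map_add, hfg.apply_apply_eq_zero, zero_add, hs' c, map_zero] at h1
    subst h1
    rw [map_zero, add_zero] at h
    have : a = 0 := hf (by rw [h, map_zero])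
    rw [this]; rfl
  have hsurj : Function.Surjective (f.coprod s) := by
    intro b
    have hk : g (b - s (g b)) = 0 := by rw [map_sub, hs', sub_self]
    obtain ⟨a, ha⟩ := (hfg _).mp hk
    refine ⟨(a, g b), ?_⟩
    rw [LinearMap.coprod_apply, ha]; abel
  let e : (A × C) ≃ₗ[S] B := LinearEquiv.ofBijective (f.coprod s) ⟨hinj, hsurj⟩
  have hfinAC : Module.Finite S (A × C) := Module.Finite.equiv e.symm
  have hfinA : Module.Finite S A :=
    Module.Finite.of_surjective (LinearMap.fst S A C) LinearMap.fst_surjective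
  have hfinC : Module.Finite S C :=
    Module.Finite.of_surjective (LinearMap.snd S A C) LinearMap.snd_surjective
  have hprojA : Module.Projective S A := by
    refine Module.Projective.of_split f ((LinearMap.fst S A C) ∘ₗ e.symm.toLinearMap) ?_
    ext a
    have : e.symm (f a) = (a, 0) := by
      rw [LinearEquiv.symm_apply_eq]
      change f a = (f.coprod s) (a, 0)
      rw [LinearMap.coprod_apply, map_zero, add_zero]
    simp [this]
  have hfreeA : Module.Free S A := Module.free_of_flat_of_isLocalRing
  refine ⟨hfreeA, ?_⟩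
  rw [← LinearEquiv.finrank_eq e, Module.finrank_prod]

end split


section rank

variable (R : Type u) [CommRing R]

theorem finrank_localizedModule_of_basis {ι : Type*} [Fintype ι] (p : Ideal R) [p.IsPrime]
    {M : Type u} [AddCommGroup M] [Module R M] (b : Module.Basis ι R M) :
    Module.Free (Localization.AtPrime p) (LocalizedModule p.primeCompl M) ∧
    Module.finrank (Localization.AtPrime p) (LocalizedModule p.primeCompl M) = Fintype.card ι := by
  let b' := b.ofIsLocalizedModule (Localization.AtPrime p) p.primeCompl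
    (LocalizedModule.mkLinearMap p.primeCompl M)
  exact ⟨Module.Free.of_basis b', Module.finrank_eq_card_basis b'⟩

/-- localizing a short exact sequence at a prime -/
theorem localized_exact (p : Ideal R) [p.IsPrime] {K F M : Type u} [AddCommGroup K] [Module R K]
    [AddCommGroup F] [Module R F] [AddCommGroup M] [Module R M]
    (f : K →ₗ[R] F) (g : F →ₗ[R] M) (hf : Function.Injective f) (hg : Function.Surjective g)
    (hfg : Function.Exact f g) :
    ∃ (f' : LocalizedModule p.primeCompl K →ₗ[Localization.AtPrime p]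
        LocalizedModule p.primeCompl F)
      (g' : LocalizedModule p.primeCompl F →ₗ[Localization.AtPrime p]
        LocalizedModule p.primeCompl M),
      Function.Injective f' ∧ Function.Surjective g' ∧ Function.Exact f' g' := by
  refine ⟨(LocalizedModule.map p.primeCompl f).extendScalarsOfIsLocalization p.primeCompl _,
    (LocalizedModule.map p.primeCompl g).extendScalarsOfIsLocalization p.primeCompl _, ?_, ?_, ?_⟩
  · exact IsLocalizedModule.map_injective p.primeCompl _ _ f hf
  · exact IsLocalizedModule.map_surjective p.primeCompl _ _ g hg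
  · exact LocalizedModule.map_exact p.primeCompl f g hfg

variable [IsLocalRing R] [IsNoetherianRing R]

open Groth.Agent.Lib.Helper18.SerreReg in
theorem rank_const (n : ℕ) :
    ∀ (M : Type u) [AddCommGroup M] [Module R M] [Module.Finite R M],
      HasProjectiveDimensionLT (ModuleCat.of R M) (n + 1) →
      ∀ (p q : Ideal R) [p.IsPrime] [q.IsPrime],
        Module.Free (Localization.AtPrime p) (LocalizedModule p.primeCompl M) →
        Module.Free (Localization.AtPrime q) (LocalizedModule q.primeCompl M) →
        Module.finrank (Localization.AtPrime p) (LocalizedModule p.primeCompl M) =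
          Module.finrank (Localization.AtPrime q) (LocalizedModule q.primeCompl M) := by
  induction n with
  | zero =>
    intro M _ _ _ h p q _ _ _ _
    rw [zero_add, ← projective_iff_hasProjectiveDimensionLT_one, ← IsProjective.iff_projective]
      at h
    have : Module.Projective R M := h
    have : Module.Free R M := Module.free_of_flat_of_isLocalRing
    let b := Module.Free.chooseBasis R M
    rw [(finrank_localizedModule_of_basis R p b).2, (finrank_localizedModule_of_basis R q b).2]
  | succ n ih =>
    intro M _ _ _ h p q _ _ hp hq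
    obtain ⟨d, π, hπ, -⟩ := exists_minimal_cover R M
    have hS := LinearMap.shortExact_shortComplexKer hπ
    have hproj : Projective (π.shortComplexKer).X₂ := by
      rw [← IsProjective.iff_projective]
      change Module.Projective R (Fin d → R)
      infer_instance
    have hK : HasProjectiveDimensionLT (ModuleCat.of R (LinearMap.ker π)) (n + 1) :=
      (hS.hasProjectiveDimensionLT_X₃_iff n hproj).mp h
    have key : ∀ (P : Ideal R) [P.IsPrime],
        Module.Free (Localization.AtPrime P) (LocalizedModule P.primeCompl M) →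
        Module.Free (Localization.AtPrime P) (LocalizedModule P.primeCompl (LinearMap.ker π)) ∧
          d = Module.finrank (Localization.AtPrime P)
              (LocalizedModule P.primeCompl (LinearMap.ker π)) +
            Module.finrank (Localization.AtPrime P) (LocalizedModule P.primeCompl M) := by
      intro P _ hP
      obtain ⟨f', g', hf', hg', hfg'⟩ := localized_exact R P (LinearMap.ker π).subtype π
        (LinearMap.ker π).injective_subtype hπ (LinearMap.exact_subtype_ker_map π)
      obtain ⟨hFfree, hFrank⟩ := finrank_localizedModule_of_basis R P (Pi.basisFun R (Fin d))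
      obtain ⟨h1, h2⟩ := free_and_finrank_of_exact f' g' hf' hg' hfg'
      refine ⟨h1, ?_⟩
      rw [← h2, hFrank, Fintype.card_fin]
    obtain ⟨hKp, hdp⟩ := key p hp
    obtain ⟨hKq, hdq⟩ := key q hq
    have := ih (LinearMap.ker π) hK p q hKp hKq
    omega

end rank


section rank
variable (R : Type u) [CommRing R] [IsLocalRing R] [IsNoetherianRing R]
end rank

section nzd

open Groth.Agent.Lib.Helper18.SerreReg Groth.Agent.Lib.Helper18.CM Groth.Agent.Lib.Helper18.PD

/-- the localization of a Noetherian ring at an associated prime has depth zero -/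
theorem depth_localization_eq_zero (R : Type u) [CommRing R] [IsNoetherianRing R] (P : Ideal R)
    (hP : P ∈ associatedPrimes R R) [P.IsPrime] :
    LocCoh.depth (Localization.AtPrime P) (Localization.AtPrime P) = 0 := by
  obtain ⟨-, z, hz⟩ := (isAssociatedPrime_iff (M := R)).mp hP
  have hmem : ∀ a : R, a ∈ P ↔ a * z = 0 := by
    intro a
    rw [hz, Submodule.mem_colon_singleton, Submodule.mem_bot, smul_eq_mul]
  rw [depth_eq_zero_iff_exists_socle]
  refine ⟨algebraMap R _ z, ?_, ?_⟩
  · intro h0
    rw [IsLocalization.map_eq_zero_iff P.primeCompl] at h0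
    obtain ⟨t, ht⟩ := h0
    exact t.2 ((hmem _).mpr ht)
  · intro a ha
    obtain ⟨b, s, rfl⟩ := IsLocalization.exists_mk'_eq P.primeCompl a
    rw [IsLocalization.AtPrime.mk'_mem_maximal_iff (Localization.AtPrime P) P] at ha
    rw [smul_eq_mul, IsLocalization.mk'_eq_mul_mk'_one, mul_right_comm, ← map_mul,
      (hmem b).mp ha, map_zero, zero_mul]

theorem free_localizedModule_of_pd (R : Type u) [CommRing R] [IsNoetherianRing R] (P : Ideal R)
    (hP : P ∈ associatedPrimes R R) [P.IsPrime] (M : Type u) [AddCommGroup M] [Module R M]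
    [Module.Finite R M] (n : ℕ) (hpd : HasProjectiveDimensionLT (ModuleCat.of R M) (n + 1)) :
    Module.Free (Localization.AtPrime P) (LocalizedModule P.primeCompl M) := by
  have h1 := hasProjectiveDimensionLT_baseChange R (Localization.AtPrime P) n M hpd
  let e : TensorProduct R (Localization.AtPrime P) M ≃ₗ[Localization.AtPrime P]
      LocalizedModule P.primeCompl M :=
    (IsLocalizedModule.isBaseChange P.primeCompl (Localization.AtPrime P)
      (LocalizedModule.mkLinearMap P.primeCompl M)).equiv
  have h2 : HasProjectiveDimensionLT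
      (ModuleCat.of (Localization.AtPrime P) (LocalizedModule P.primeCompl M)) (n + 1) :=
    hasProjectiveDimensionLT_of_iso e.toModuleIso (n + 1)
  exact free_of_depth_eq_zero (Localization.AtPrime P) (depth_localization_eq_zero R P hP) n _ h2

theorem not_le_associatedPrime (R : Type u) [CommRing R] [IsLocalRing R] [IsNoetherianRing R]
    (I : Ideal R) (hI : I ≠ ⊥) (n : ℕ)
    (hpd : HasProjectiveDimensionLT (ModuleCat.of R I) (n + 1)) (P : Ideal R)
    (hP : P ∈ associatedPrimes R R) : ¬ I ≤ P := by
  intro hIP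
  have hPprime : P.IsPrime := hP.isPrime
  -- a prime where `I` does not vanish
  obtain ⟨x, hxI, hx0⟩ := Submodule.exists_mem_ne_zero_of_ne_bot hI
  obtain ⟨Q, hQ, hxQ⟩ := exists_le_isAssociatedPrime_of_isNoetherianRing R x hx0
  have hQprime : Q.IsPrime := hQ.isPrime
  have hfP := free_localizedModule_of_pd R P hP I n hpd
  have hfQ := free_localizedModule_of_pd R Q hQ I n hpd
  have hrank := rank_const R n I hpd P Q hfP hfQ
  -- rank at `Q` is positive
  have hQpos : 0 < Module.finrank (Localization.AtPrime Q) (LocalizedModule Q.primeCompl I) := by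
    rw [Module.finrank_pos_iff_of_free]
    refine ⟨⟨LocalizedModule.mk ⟨x, hxI⟩ 1, 0, ?_⟩⟩
    intro h0
    rw [← LocalizedModule.zero_mk 1, LocalizedModule.mk_eq] at h0
    obtain ⟨t, ht⟩ := h0
    rw [smul_zero] at ht
    have ht' : (t : R) * x = 0 := by
      have := congrArg Subtype.val ht
      simpa [Submonoid.smul_def] using this
    apply t.2
    apply hxQ
    rw [Submodule.mem_colon_singleton, Submodule.mem_bot, smul_eq_mul]
    exact ht'
  -- rank at `P` is zero
  have hPzero : Module.finrank (Localization.AtPrime P) (LocalizedModule P.primeCompl I) = 0 := by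
    obtain ⟨-, z, hz⟩ := (isAssociatedPrime_iff (M := R)).mp hP
    have hmem : ∀ a : R, a ∈ P ↔ a * z = 0 := by
      intro a
      rw [hz, Submodule.mem_colon_singleton, Submodule.mem_bot, smul_eq_mul]
    let b := Module.Free.chooseBasis (Localization.AtPrime P) (LocalizedModule P.primeCompl I)
    rw [Module.finrank_eq_card_basis b, Fintype.card_eq_zero_iff]
    refine ⟨fun i => ?_⟩
    have hz0 : algebraMap R (Localization.AtPrime P) z ≠ 0 := by
      intro h0
      rw [IsLocalization.map_eq_zero_iff P.primeCompl] at h0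
      obtain ⟨t, ht⟩ := h0
      exact t.2 ((hmem _).mpr ht)
    apply hz0
    have hkill : algebraMap R (Localization.AtPrime P) z • b i = 0 := by
      induction b i using LocalizedModule.induction_on with
      | h a s =>
        rw [algebraMap_smul, LocalizedModule.smul'_mk]
        have : z • a = 0 := by
          apply Subtype.ext
          rw [Submodule.coe_smul, smul_eq_mul, mul_comm]
          exact (hmem _).mp (hIP a.2)
        rw [this, LocalizedModule.zero_mk]
    have := congrArg (fun v => b.repr v i) hkill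
    simp only [map_smul, Module.Basis.repr_self, Finsupp.smul_single, smul_eq_mul, mul_one,
      Finsupp.single_eq_same, map_zero, Finsupp.coe_zero, Pi.zero_apply] at this
    exact this
  omega

end nzd


theorem exists_nzd (R : Type u) [CommRing R] [IsLocalRing R] [IsNoetherianRing R]
    (I : Ideal R) (hI : I ≠ ⊥) (n : ℕ)
    (hpd : HasProjectiveDimensionLT (ModuleCat.of R I) (n + 1)) :
    ∃ y ∈ I, y ∈ nonZeroDivisors R ∧ y ∉ maximalIdeal R * I := by
  classical
  by_contra hcon
  push Not at hcon
  let s : Finset (Ideal R) := insert (maximalIdeal R * I) (associatedPrimes.finite R R).toFinset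
  have hsub : (I : Set R) ⊆ ⋃ i ∈ (↑s : Set (Ideal R)), ((id i : Ideal R) : Set R) := by
    intro y hy
    by_cases hy' : y ∈ nonZeroDivisors R
    · have := hcon y hy hy'
      simp only [Set.mem_iUnion]
      exact ⟨maximalIdeal R * I, by simp [s], this⟩
    · have h1 : y ∈ (nonZeroDivisors R : Set R)ᶜ := hy'
      rw [← biUnion_associatedPrimes_eq_compl_nonZeroDivisors] at h1
      simp only [Set.mem_iUnion] at h1 ⊢
      obtain ⟨P, hP, hyP⟩ := h1
      exact ⟨P, by simp [s, hP], hyP⟩
  rw [Ideal.subset_union_prime (maximalIdeal R * I) (maximalIdeal R * I)] at hsub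
  · obtain ⟨J, hJs, hIJ⟩ := hsub
    simp only [s, Finset.mem_insert, Set.Finite.mem_toFinset] at hJs
    rcases hJs with rfl | hJ
    · apply hI
      refine Submodule.eq_bot_of_le_smul_of_le_jacobson_bot (maximalIdeal R) I
        (IsNoetherian.noetherian I) ?_ (IsLocalRing.maximalIdeal_le_jacobson _)
      exact hIJ
    · exact not_le_associatedPrime R I hI n hpd J hJ hIJ
  · intro J hJs hJ1 _
    simp only [s, Finset.mem_insert, Set.Finite.mem_toFinset] at hJs
    rcases hJs with rfl | hJ
    · exact absurd rfl hJ1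
    · exact hJ.isPrime


section QR

variable {R : Type u} [CommRing R]

/-- `x` generates `I` and its classes are linearly independent in `I/I²` over `R/I` -/
def QR (I : Ideal R) {r : ℕ} (x : Fin r → R) : Prop :=
  Ideal.span (Set.range x) = I ∧ ∀ a : Fin r → R, ∑ i, a i * x i ∈ I ^ 2 → ∀ i, a i ∈ I

theorem QR.mem {I : Ideal R} {r : ℕ} {x : Fin r → R} (h : QR I x) (i : Fin r) : x i ∈ I := by
  rw [← h.1]
  exact Ideal.subset_span ⟨i, rfl⟩

theorem exists_unit_coeff [IsLocalRing R] {I : Ideal R} {r : ℕ} {x : Fin r → R} (h : QR I x)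
    {y : R} (hy : y ∈ I) (hy' : y ∉ maximalIdeal R * I) :
    ∃ c : Fin r → R, ∑ i, c i * x i = y ∧ ∃ k, IsUnit (c k) := by
  rw [← h.1] at hy
  obtain ⟨c, hc⟩ := (Ideal.mem_span_range_iff_exists_fun).mp hy
  refine ⟨c, hc, ?_⟩
  by_contra hcon
  push Not at hcon
  apply hy'
  rw [← hc]
  refine Ideal.sum_mem _ fun i _ => Ideal.mul_mem_mul ?_ (h.mem i)
  exact (IsLocalRing.mem_maximalIdeal _).mpr (hcon i)

theorem QR.quotient {I : Ideal R} {r : ℕ} {x : Fin (r + 1) → R} (h : QR I x)
    {y : R} (c : Fin (r + 1) → R) (hc : ∑ i, c i * x i = y) (k : Fin (r + 1))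
    (hk : IsUnit (c k)) :
    QR (I.map (Ideal.Quotient.mk (Ideal.span {y})))
      (fun j => Ideal.Quotient.mk (Ideal.span {y}) (x (k.succAbove j))) := by
  set mk := Ideal.Quotient.mk (Ideal.span {y}) with hmk
  have hmky : mk y = 0 := Ideal.Quotient.eq_zero_iff_mem.mpr (Ideal.mem_span_singleton_self y)
  constructor
  · apply le_antisymm
    · rw [Ideal.span_le]
      rintro _ ⟨j, rfl⟩
      exact Ideal.mem_map_of_mem _ (h.mem _)
    · rw [← h.1, Ideal.map_span, Ideal.span_le]
      rintro _ ⟨_, ⟨i, rfl⟩, rfl⟩
      by_cases hik : i = k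
      · subst hik
        obtain ⟨u, hu⟩ := hk.exists_left_inv
        have h1 : mk (c i) * mk (x i) =
            - ∑ j, mk (c (i.succAbove j)) * mk (x (i.succAbove j)) := by
          have h2 := congrArg mk hc
          rw [hmky, map_sum, Fin.sum_univ_succAbove _ i] at h2
          simp only [map_mul] at h2
          rw [eq_neg_iff_add_eq_zero]
          exact h2
        have h3 : mk (x i) = mk u * (mk (c i) * mk (x i)) := by
          rw [← mul_assoc, ← map_mul, hu, map_one, one_mul]
        rw [SetLike.mem_coe, h3, h1]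
        refine Ideal.mul_mem_left _ _ (Ideal.neg_mem_iff _ |>.mpr ?_)
        refine Ideal.sum_mem _ fun j _ => Ideal.mul_mem_left _ _ ?_
        exact Ideal.subset_span ⟨j, rfl⟩
      · obtain ⟨j, rfl⟩ := Fin.exists_succAbove_eq hik
        exact Ideal.subset_span ⟨j, rfl⟩
  · intro a' ha' j
    have hsurj : Function.Surjective mk := Ideal.Quotient.mk_surjective
    choose a ha using fun j => hsurj (a' j)
    rw [← Ideal.map_pow] at ha'
    obtain ⟨w, hw, hw'⟩ := (Ideal.mem_map_iff_of_surjective mk hsurj).mp ha'
    have h1 : ∑ j, a j * x (k.succAbove j) - w ∈ Ideal.span {y} := by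
      rw [← Ideal.Quotient.eq_zero_iff_mem, map_sub, hw', map_sum, sub_eq_zero]
      refine Finset.sum_congr rfl fun j _ => ?_
      rw [map_mul, ha]
    obtain ⟨b, hb⟩ := Ideal.mem_span_singleton'.mp h1
    let A : Fin (r + 1) → R := fun i => Fin.insertNth (α := fun _ => R) k (0 : R) a i - b * c i
    have hA : ∑ i, A i * x i = w := by
      have e1 : ∑ i, A i * x i = ∑ i, (Fin.insertNth (α := fun _ => R) k (0 : R) a i * x i) - b * ∑ i, c i * x i := by
        rw [Finset.mul_sum, ← Finset.sum_sub_distrib]
        refine Finset.sum_congr rfl fun i _ => ?_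
        simp only [A]; ring
      rw [e1, hc, hb, Fin.sum_univ_succAbove _ k]
      simp only [Fin.insertNth_apply_same, Fin.insertNth_apply_succAbove, zero_mul, zero_add]
      ring
    have hAI := h.2 A (by rw [hA]; exact hw)
    have hbI : b ∈ I := by
      have := hAI k
      simp only [A, Fin.insertNth_apply_same, zero_sub] at this
      obtain ⟨u, hu⟩ := hk.exists_left_inv
      have h2 : b = - u * (-(b * c k)) := by
        rw [neg_mul_neg, mul_comm b, ← mul_assoc, hu, one_mul]
      rw [h2]
      exact Ideal.mul_mem_left _ _ this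
    have haI : a j ∈ I := by
      have := hAI (k.succAbove j)
      simp only [A, Fin.insertNth_apply_succAbove] at this
      have h2 : a j = (a j - b * c (k.succAbove j)) + b * c (k.succAbove j) := by ring
      rw [h2]
      exact Ideal.add_mem _ this (Ideal.mul_mem_right _ _ hbI)
    rw [← ha j]
    exact Ideal.mem_map_of_mem _ haI

end QR


section QR

variable {R : Type u} [CommRing R]

open Groth.Agent.Lib.Helper18.SerreReg in
theorem QR.retract {I : Ideal R} {r : ℕ} {x : Fin r → R} (h : QR I x)
    {y : R} (c : Fin r → R) (hc : ∑ i, c i * x i = y) (k : Fin r)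
    (hk : IsUnit (c k)) :
    ∃ (s : I.map (Ideal.Quotient.mk (Ideal.span {y})) →ₗ[R ⧸ Ideal.span {y}] QuotSMulTop y I)
      (p : QuotSMulTop y I →ₗ[R ⧸ Ideal.span {y}] I.map (Ideal.Quotient.mk (Ideal.span {y}))),
      p ∘ₗ s = LinearMap.id := by
  classical
  have hyI : y ∈ I := by
    rw [← hc]; exact Ideal.sum_mem _ fun i _ => Ideal.mul_mem_left _ _ (h.mem i)
  let q : I →ₗ[R] QuotSMulTop y I := Submodule.mkQ _
  have hq_surj : Function.Surjective q := Submodule.mkQ_surjective _
  let yI : I := ⟨y, hyI⟩
  have hyQ : ∀ w : QuotSMulTop y I, y • w = 0 := by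
    intro w
    obtain ⟨z, rfl⟩ := hq_surj w
    rw [← map_smul]
    exact (Submodule.Quotient.mk_eq_zero _).mpr (Submodule.smul_mem_pointwise_smul _ _ _ trivial)
  have hmky : Ideal.Quotient.mk (Ideal.span {y}) y = 0 :=
    Ideal.Quotient.eq_zero_iff_mem.mpr (Ideal.mem_span_singleton_self y)
  -- the projection
  let p₀ : I →ₗ[R] I.map (Ideal.Quotient.mk (Ideal.span {y})) :=
    { toFun := fun z => ⟨Ideal.Quotient.mk _ z.1, Ideal.mem_map_of_mem _ z.2⟩
      map_add' := fun a b => by
        apply Subtype.ext
        simp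
      map_smul' := fun a b => by
        apply Subtype.ext
        simp [Algebra.smul_def] }
  have hp₀y : p₀ yI = 0 := by
    apply Subtype.ext
    exact hmky
  have hp₀ker : y • (⊤ : Submodule R I) ≤ LinearMap.ker p₀ := by
    intro z hz
    obtain ⟨w, -, rfl⟩ := (Submodule.mem_smul_pointwise_iff_exists _ _ _).mp hz
    rw [LinearMap.mem_ker, map_smul]
    apply Subtype.ext
    rw [Submodule.coe_smul_of_tower, Algebra.smul_def]
    change Ideal.Quotient.mk _ y * _ = _
    rw [hmky, zero_mul]; rfl
  let p : QuotSMulTop y I →ₗ[R] I.map (Ideal.Quotient.mk (Ideal.span {y})) :=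
    Submodule.liftQ _ p₀ hp₀ker
  have hpq : ∀ z, p (q z) = p₀ z := fun z => Submodule.liftQ_apply _ _ _
  have hp_surj : Function.Surjective p := by
    rintro ⟨w, hw⟩
    obtain ⟨z, hz, rfl⟩ :=
      (Ideal.mem_map_iff_of_surjective _ Ideal.Quotient.mk_surjective).mp hw
    exact ⟨q ⟨z, hz⟩, by rw [hpq]; rfl⟩
  -- coordinates
  let v : Fin r → I := fun i => ⟨x i, h.mem i⟩
  let Φ : (Fin r → R) →ₗ[R] I := Fintype.linearCombination R v
  have hΦval : ∀ a, ((Φ a : I) : R) = ∑ i, a i * x i := by
    intro a
    simp only [Φ, Fintype.linearCombination_apply]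
    rw [Submodule.coe_sum]
    refine Finset.sum_congr rfl fun i _ => ?_
    simp [v]
  have hΦ : Function.Surjective Φ := by
    rintro ⟨z, hz⟩
    rw [← h.1] at hz
    obtain ⟨a, ha⟩ := (Ideal.mem_span_range_iff_exists_fun).mp hz
    exact ⟨a, Subtype.ext (by rw [hΦval, ha])⟩
  let χ : (Fin r → R) →ₗ[R] R ⧸ I := (Submodule.mkQ I) ∘ₗ LinearMap.proj k
  have hker : LinearMap.ker Φ ≤ LinearMap.ker χ := by
    intro a ha
    rw [LinearMap.mem_ker] at ha ⊢
    have h1 : ∑ i, a i * x i = 0 := by rw [← hΦval, ha]; rfl
    have h2 := h.2 a (by rw [h1]; exact Ideal.zero_mem _) k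
    exact (Submodule.Quotient.mk_eq_zero _).mpr h2
  let ψ : I →ₗ[R] R ⧸ I :=
    (LinearMap.ker Φ).liftQ χ hker ∘ₗ (Φ.quotKerEquivOfSurjective hΦ).symm.toLinearMap
  have hψ : ∀ a, ψ (Φ a) = Ideal.Quotient.mk I (a k) := by
    intro a
    have : (Φ.quotKerEquivOfSurjective hΦ).symm (Φ a) = Submodule.Quotient.mk a := by
      rw [LinearEquiv.symm_apply_eq]; rfl
    simp only [ψ, LinearMap.comp_apply, LinearEquiv.coe_coe, this]
    rfl
  -- the correction term
  obtain ⟨u, hu⟩ := hk.exists_left_inv
  let ρ : R ⧸ I →ₗ[R] QuotSMulTop y I :=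
    Submodule.liftQ I (LinearMap.toSpanSingleton R (QuotSMulTop y I) (u • q yI)) (by
      intro a ha
      rw [LinearMap.mem_ker, LinearMap.toSpanSingleton_apply, smul_comm, ← map_smul]
      have : a • yI = y • (⟨a, ha⟩ : I) := by
        apply Subtype.ext
        simp [yI, mul_comm]
      rw [this, map_smul, hyQ, smul_zero])
  have hρ : ∀ a : R, ρ (Ideal.Quotient.mk I a) = a • (u • q yI) := fun a => by
    change ρ (Submodule.Quotient.mk a) = _
    simp only [ρ, Submodule.liftQ_apply, LinearMap.toSpanSingleton_apply]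
  let θ : I →ₗ[R] QuotSMulTop y I := q - ρ ∘ₗ ψ
  have hθy : θ yI = 0 := by
    have hy1 : yI = Φ c := Subtype.ext (by rw [hΦval, hc])
    simp only [θ, LinearMap.sub_apply, LinearMap.comp_apply]
    rw [hy1, hψ, hρ, ← hy1, smul_smul, mul_comm, hu, one_smul, sub_self]
  have hθker : y • (⊤ : Submodule R I) ≤ LinearMap.ker θ := by
    intro z hz
    obtain ⟨w, -, rfl⟩ := (Submodule.mem_smul_pointwise_iff_exists _ _ _).mp hz
    rw [LinearMap.mem_ker, map_smul, hyQ]
  let φ : QuotSMulTop y I →ₗ[R] QuotSMulTop y I := Submodule.liftQ _ θ hθker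
  have hφq : ∀ z, φ (q z) = θ z := fun z => Submodule.liftQ_apply _ _ _
  have hpρ : ∀ w, p (ρ w) = 0 := by
    intro w
    obtain ⟨a, rfl⟩ := Ideal.Quotient.mk_surjective w
    rw [hρ, map_smul, map_smul, hpq, hp₀y, smul_zero, smul_zero]
  have hpφ : ∀ w, p (φ w) = p w := by
    intro w
    obtain ⟨z, rfl⟩ := hq_surj w
    rw [hφq]
    simp only [θ, LinearMap.sub_apply, LinearMap.comp_apply, map_sub, hpρ, sub_zero]
  have hkerp : LinearMap.ker p ≤ LinearMap.ker φ := by
    intro w hw
    obtain ⟨z, rfl⟩ := hq_surj w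
    rw [LinearMap.mem_ker, hpq] at hw
    have h1 : Ideal.Quotient.mk (Ideal.span {y}) z.1 = 0 := congrArg Subtype.val hw
    rw [Ideal.Quotient.eq_zero_iff_mem] at h1
    obtain ⟨b, hb⟩ := Ideal.mem_span_singleton'.mp h1
    have h2 : z = b • yI := Subtype.ext (by simp [yI, hb])
    rw [LinearMap.mem_ker, hφq, h2, map_smul, hθy, smul_zero]
  let s : I.map (Ideal.Quotient.mk (Ideal.span {y})) →ₗ[R] QuotSMulTop y I :=
    (LinearMap.ker p).liftQ φ hkerp ∘ₗ (p.quotKerEquivOfSurjective hp_surj).symm.toLinearMap
  have hsp : ∀ w, s (p w) = φ w := by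
    intro w
    have : (p.quotKerEquivOfSurjective hp_surj).symm (p w) = Submodule.Quotient.mk w := by
      rw [LinearEquiv.symm_apply_eq]; rfl
    simp only [s, LinearMap.comp_apply, LinearEquiv.coe_coe, this]
    rfl
  have hps : ∀ w, p (s w) = w := by
    intro w
    obtain ⟨z, rfl⟩ := hp_surj w
    rw [hsp, hpφ]
  have hsurj : Function.Surjective (algebraMap R (R ⧸ Ideal.span {y})) :=
    Ideal.Quotient.mk_surjective
  refine ⟨LinearMap.extendScalarsOfSurjective hsurj s,
    LinearMap.extendScalarsOfSurjective hsurj p, ?_⟩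
  ext w
  exact congrArg Subtype.val (hps w)

end QR


section QR

variable {R : Type u} [CommRing R]

open Groth.Agent.Lib.Helper18.SerreReg in
theorem QR.pd_quotient {I : Ideal R} {r : ℕ} {x : Fin r → R} (h : QR I x)
    {y : R} (hy : IsSMulRegular R y) (c : Fin r → R) (hc : ∑ i, c i * x i = y) (k : Fin r)
    (hk : IsUnit (c k)) (n : ℕ)
    (hpd : HasProjectiveDimensionLT (ModuleCat.of R I) (n + 1)) :
    HasProjectiveDimensionLT (ModuleCat.of (R ⧸ Ideal.span {y})
      (I.map (Ideal.Quotient.mk (Ideal.span {y})))) (n + 1) := by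
  obtain ⟨s, p, hps⟩ := h.retract c hc k hk
  have hyI : IsSMulRegular I y := hy.submodule I y
  have h1 := hasProjectiveDimensionLT_quotSMulTop R y hy n I hyI hpd
  let ret : Retract (ModuleCat.of (R ⧸ Ideal.span {y}) (I.map (Ideal.Quotient.mk (Ideal.span {y}))))
      (ModuleCat.of (R ⧸ Ideal.span {y}) (QuotSMulTop y I)) :=
    { i := ModuleCat.ofHom s
      r := ModuleCat.ofHom p
      retract := by rw [← ModuleCat.ofHom_comp, hps]; rfl }
  exact ret.hasProjectiveDimensionLT (n + 1)

end QR

section local_theorem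

open RingTheory.Sequence in
/-- Vasconcelos: over a Noetherian local ring, an ideal of finite projective dimension whose
conormal module is free is generated by a regular sequence. -/
theorem local_theorem (n : ℕ) : ∀ (r : ℕ) (R : Type u) [CommRing R] [IsLocalRing R]
    [IsNoetherianRing R] (I : Ideal R) (_ : I ≤ maximalIdeal R) (x : Fin r → R) (_ : QR I x)
    (_ : HasProjectiveDimensionLT (ModuleCat.of R I) (n + 1)),
    ∃ rs : List R, IsWeaklyRegular R rs ∧ Ideal.ofList rs = I := by
  intro r
  induction r with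
  | zero =>
    intro R _ _ _ I _ x hx _
    refine ⟨[], IsWeaklyRegular.nil R R, ?_⟩
    rw [Ideal.ofList_nil, ← hx.1]
    simp
  | succ r ih =>
    intro R _ _ _ I hIm x hx hpd
    by_cases hI : I = ⊥
    · refine ⟨[], IsWeaklyRegular.nil R R, ?_⟩
      rw [Ideal.ofList_nil, hI]
    obtain ⟨y, hyI, hynzd, hymI⟩ := exists_nzd R I hI n hpd
    obtain ⟨c, hc, k, hk⟩ := exists_unit_coeff hx hyI hymI
    have hyreg : IsSMulRegular R y := by
      rw [isSMulRegular_iff_right_eq_zero_of_smul]
      intro a ha
      rw [smul_eq_mul, mul_comm] at ha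
      exact (mem_nonZeroDivisors_iff_right.mp hynzd) a ha
    have hym : y ∈ maximalIdeal R := hIm hyI
    have hne : Ideal.span {y} ≠ ⊤ := by
      intro h
      have : (1 : R) ∈ Ideal.span {y} := by rw [h]; trivial
      have h2 : Ideal.span {y} ≤ maximalIdeal R := by
        rw [Ideal.span_le]; simpa using hym
      exact (Ideal.ne_top_iff_one _).mp (maximalIdeal.isMaximal R).ne_top (h2 this)
    have : Nontrivial (R ⧸ Ideal.span {y}) := Ideal.Quotient.nontrivial_iff.mpr hne
    have hloc : IsLocalRing (R ⧸ Ideal.span {y}) :=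
      IsLocalRing.of_surjective' (Ideal.Quotient.mk (Ideal.span {y})) Ideal.Quotient.mk_surjective
    have hI'm : I.map (Ideal.Quotient.mk (Ideal.span {y})) ≤ maximalIdeal (R ⧸ Ideal.span {y}) := by
      rw [Ideal.map_le_iff_le_comap]
      intro z hz
      rw [Ideal.mem_comap]
      have : IsLocalHom (Ideal.Quotient.mk (Ideal.span {y})) :=
        IsLocalHom.of_surjective _ Ideal.Quotient.mk_surjective
      exact (IsLocalRing.mem_maximalIdeal _).mpr
        (fun hu => (IsLocalRing.mem_maximalIdeal _).mp (hIm hz) (isUnit_of_map_unit _ _ hu))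
    obtain ⟨rs', hrs', hrsI'⟩ := ih (R ⧸ Ideal.span {y}) _ hI'm _ (hx.quotient c hc k hk)
      (hx.pd_quotient hyreg c hc k hk n hpd)
    have hsurj : Function.Surjective (Ideal.Quotient.mk (Ideal.span {y})) :=
      Ideal.Quotient.mk_surjective
    obtain ⟨rs₀, hrs₀⟩ : ∃ rs₀ : List R, rs₀.map (Ideal.Quotient.mk (Ideal.span {y})) = rs' :=
      ⟨rs'.map (Function.surjInv hsurj), by
        rw [List.map_map]
        conv_rhs => rw [← List.map_id rs']
        refine List.map_congr_left fun a _ => ?_
        simp [Function.surjInv_eq hsurj a]⟩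
    refine ⟨y :: rs₀, ?_, ?_⟩
    · rw [isWeaklyRegular_cons_iff]
      refine ⟨hyreg, ?_⟩
      have e : QuotSMulTop y R ≃ₗ[R] R ⧸ Ideal.span {y} :=
        Submodule.quotEquivOfEq _ _ (by
          rw [← Submodule.ideal_span_singleton_smul y ⊤, smul_eq_mul, Ideal.mul_top])
      rw [e.isWeaklyRegular_congr]
      have h3 : IsWeaklyRegular (R ⧸ Ideal.span {y})
          (rs₀.map (algebraMap R (R ⧸ Ideal.span {y}))) := by
        rw [Ideal.Quotient.algebraMap_eq, hrs₀]; exact hrs'
      exact (isWeaklyRegular_map_algebraMap_iff (R ⧸ Ideal.span {y}) (R ⧸ Ideal.span {y}) rs₀).mp h3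
    · rw [Ideal.ofList_cons]
      have h4 : (Ideal.ofList rs₀).map (Ideal.Quotient.mk (Ideal.span {y})) =
          I.map (Ideal.Quotient.mk (Ideal.span {y})) := by
        rw [Ideal.map_ofList, hrs₀, hrsI']
      have h5 := congrArg (Ideal.comap (Ideal.Quotient.mk (Ideal.span {y}))) h4
      rw [Ideal.comap_map_of_surjective _ hsurj, Ideal.comap_map_of_surjective _ hsurj,
        ← RingHom.ker_eq_comap_bot, Ideal.mk_ker] at h5
      have h6 : Ideal.span {y} ≤ I := by rw [Ideal.span_le]; simpa using hyI
      rw [sup_comm, h5, sup_eq_left.mpr h6]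

end local_theorem


section localbasis

/-- a finite projective module has, near each prime, a "basis" made of global elements -/
theorem exists_local_basis (A : Type u) [CommRing A] (q : Ideal A) [q.IsPrime]
    (M : Type u) [AddCommGroup M] [Module A M] [Module.Finite A M] [Module.Projective A M] :
    ∃ (d : ℕ) (m : Fin d → M),
      (∀ z : M, ∃ t : A, t ∉ q ∧ ∃ a : Fin d → A, t • z = ∑ i, a i • m i) ∧
      (∀ a : Fin d → A, ∑ i, a i • m i = 0 → ∀ i, ∃ t : A, t ∉ q ∧ t * a i = 0) := by
  classical
  let S := q.primeCompl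
  let Aq := Localization.AtPrime q
  let Mq := LocalizedModule S M
  have hfree : Module.Free Aq Mq := Module.free_of_flat_of_isLocalRing
  let b₀ : Module.Basis (Fin (Module.finrank Aq Mq)) Aq Mq := Module.finBasis Aq Mq
  have hex : ∀ i, ∃ (m : M) (s : S), b₀ i = LocalizedModule.mk m s := by
    intro i
    induction b₀ i using LocalizedModule.induction_on with
    | h m s => exact ⟨m, s, rfl⟩
  choose m s hms using hex
  have hunit : ∀ i, IsUnit (algebraMap A Aq (s i)) := fun i =>
    IsLocalization.map_units Aq (s i)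
  let b := b₀.isUnitSMul hunit
  have hb : ∀ i, b i = LocalizedModule.mk (m i) 1 := by
    intro i
    rw [Module.Basis.isUnitSMul_apply, hms, algebraMap_smul, LocalizedModule.smul'_mk]
    rw [LocalizedModule.mk_eq]
    refine ⟨1, ?_⟩
    simp [Submonoid.smul_def]
  have hsum : ∀ a : Fin (Module.finrank Aq Mq) → A,
      ∑ i, algebraMap A Aq (a i) • b i = LocalizedModule.mk (∑ i, a i • m i) 1 := by
    intro a
    have h1 : ∀ i, algebraMap A Aq (a i) • b i = LocalizedModule.mkLinearMap S M (a i • m i) := by
      intro i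
      rw [hb, algebraMap_smul, LocalizedModule.smul'_mk]; rfl
    simp_rw [h1]
    rw [← map_sum]; rfl
  refine ⟨_, m, ?_, ?_⟩
  · intro z
    obtain ⟨t, ht⟩ := IsLocalization.exist_integer_multiples S (Finset.univ)
      (fun i => b.repr (LocalizedModule.mk z 1) i)
    choose a ha using fun i => ht i (Finset.mem_univ i)
    have h1 : LocalizedModule.mk ((t : A) • z) (1 : S) = LocalizedModule.mk (∑ i, a i • m i) 1 := by
      rw [← hsum]
      have h2 : LocalizedModule.mk ((t : A) • z) (1 : S) =
          (t : A) • (LocalizedModule.mk z (1 : S) : Mq) := by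
        rw [LocalizedModule.smul'_mk]
      rw [h2]
      conv_lhs => rw [← b.sum_repr (LocalizedModule.mk z 1), Finset.smul_sum]
      refine Finset.sum_congr rfl fun i _ => ?_
      rw [ha i, smul_assoc]
    rw [LocalizedModule.mk_eq] at h1
    obtain ⟨u, hu⟩ := h1
    simp only [one_smul] at hu
    refine ⟨(u : A) * (t : A), ?_, fun i => (u : A) * a i, ?_⟩
    · exact (S.mul_mem u.2 t.2)
    · rw [mul_smul]
      have : (u : A) • (t : A) • z = u • ((t : A) • z) := rfl
      rw [this, hu, Submonoid.smul_def, Finset.smul_sum]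
      refine Finset.sum_congr rfl fun i _ => ?_
      rw [mul_smul]
  · intro a ha i
    have h1 := hsum a
    rw [ha, LocalizedModule.zero_mk] at h1
    have h2 : algebraMap A Aq (a i) = 0 := by
      have := congrArg (fun v => b.repr v i) h1
      simp only [map_sum, map_smul, Module.Basis.repr_self, Finsupp.smul_single, smul_eq_mul,
        mul_one, Finsupp.coe_finsetSum, Finset.sum_apply, Finsupp.single_apply, map_zero,
        Finsupp.coe_zero, Pi.zero_apply, Finset.sum_ite_eq', Finset.mem_univ, if_true] at this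
      exact this
    rw [IsLocalization.map_eq_zero_iff S] at h2
    obtain ⟨t, ht⟩ := h2
    exact ⟨t, t.2, ht⟩

end localbasis


section cot

theorem finite_cotangent (R : Type u) [CommRing R] [IsNoetherianRing R] (I : Ideal R) :
    Module.Finite (R ⧸ I) I.Cotangent := by
  have h1 : Module.Finite R I.Cotangent :=
    Module.Finite.of_surjective I.toCotangent I.toCotangent_surjective
  exact Module.Finite.of_restrictScalars_finite R (R ⧸ I) I.Cotangent

theorem exists_local_QR_data (R : Type u) [CommRing R] [IsNoetherianRing R] (I : Ideal R)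
    [Module.Projective (R ⧸ I) I.Cotangent] (p : Ideal R) [p.IsPrime] (hIp : I ≤ p) :
    ∃ (d : ℕ) (x : Fin d → R), (∀ i, x i ∈ I) ∧
      (∀ z ∈ I, ∃ t, t ∉ p ∧ ∃ a : Fin d → R, t * z - ∑ i, a i * x i ∈ I ^ 2) ∧
      (∀ a : Fin d → R, ∑ i, a i * x i ∈ I ^ 2 → ∀ i, ∃ t, t ∉ p ∧ t * a i ∈ I) := by
  classical
  have hsurj : Function.Surjective (Ideal.Quotient.mk I) := Ideal.Quotient.mk_surjective
  have hq : (p.map (Ideal.Quotient.mk I)).IsPrime :=
    Ideal.map_isPrime_of_surjective hsurj (by rw [Ideal.mk_ker]; exact hIp)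
  have hfin := finite_cotangent R I
  obtain ⟨d, m, h1, h2⟩ := exists_local_basis (R ⧸ I) (p.map (Ideal.Quotient.mk I)) I.Cotangent
  choose x hx using fun i => I.toCotangent_surjective (m i)
  have hnotmem : ∀ t₀ : R, Ideal.Quotient.mk I t₀ ∉ p.map (Ideal.Quotient.mk I) → t₀ ∉ p :=
    fun t₀ h ht => h (Ideal.mem_map_of_mem _ ht)
  have hsmul : ∀ (a : R) (w : I.Cotangent), (Ideal.Quotient.mk I a) • w = a • w := by
    intro a w
    rw [← Ideal.Quotient.algebraMap_eq, algebraMap_smul]
  have hsum : ∀ a : Fin d → R, ∑ i, (Ideal.Quotient.mk I (a i)) • m i =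
      I.toCotangent (∑ i, a i • x i) := by
    intro a
    rw [map_sum]
    refine Finset.sum_congr rfl fun i _ => ?_
    rw [hsmul, map_smul, hx]
  have hval : ∀ a : Fin d → R, ((∑ i, a i • x i : I) : R) = ∑ i, a i * (x i : R) := by
    intro a
    rw [Submodule.coe_sum]
    refine Finset.sum_congr rfl fun i _ => ?_
    simp
  refine ⟨d, fun i => (x i : R), fun i => (x i).2, ?_, ?_⟩
  · intro z hz
    obtain ⟨t, ht, a', ha'⟩ := h1 (I.toCotangent ⟨z, hz⟩)
    obtain ⟨t₀, rfl⟩ := hsurj t
    choose a ha using fun i => hsurj (a' i)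
    refine ⟨t₀, hnotmem t₀ ht, a, ?_⟩
    have h3 : I.toCotangent (t₀ • ⟨z, hz⟩) = I.toCotangent (∑ i, a i • x i) := by
      rw [← hsum, map_smul, ← hsmul, ha']
      refine Finset.sum_congr rfl fun i _ => ?_
      rw [ha]
    rw [Ideal.toCotangent_eq, hval] at h3
    simpa using h3
  · intro a ha i
    have h3 : ∑ i, (Ideal.Quotient.mk I (a i)) • m i = 0 := by
      rw [hsum, Ideal.toCotangent_eq_zero, hval]
      exact ha
    obtain ⟨t, ht, hta⟩ := h2 _ h3 i
    obtain ⟨t₀, rfl⟩ := hsurj t
    refine ⟨t₀, hnotmem t₀ ht, ?_⟩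
    rw [← map_mul, Ideal.Quotient.eq_zero_iff_mem] at hta
    exact hta

end cot


section QR
variable {R : Type u} [CommRing R]
end QR

section cot

theorem QR_localization (R : Type u) [CommRing R] [IsNoetherianRing R] (I : Ideal R)
    (p : Ideal R) [p.IsPrime] (hIp : I ≤ p) {d : ℕ} (x : Fin d → R) (hxI : ∀ i, x i ∈ I)
    (h1 : ∀ z ∈ I, ∃ t, t ∉ p ∧ ∃ a : Fin d → R, t * z - ∑ i, a i * x i ∈ I ^ 2)
    (h2 : ∀ a : Fin d → R, ∑ i, a i * x i ∈ I ^ 2 → ∀ i, ∃ t, t ∉ p ∧ t * a i ∈ I) :
    QR (I.map (algebraMap R (Localization.AtPrime p)))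
      (fun i => algebraMap R (Localization.AtPrime p) (x i)) := by
  classical
  set S := Localization.AtPrime p with hS
  set f := algebraMap R S with hf
  have hunit : ∀ t : R, t ∉ p → IsUnit (f t) := fun t ht =>
    IsLocalization.map_units S (⟨t, ht⟩ : p.primeCompl)
  have hISm : I.map f ≤ maximalIdeal S := by
    rw [← Localization.AtPrime.map_eq_maximalIdeal]
    exact Ideal.map_mono hIp
  have hsq : (I ^ 2).map f = I.map f * I.map f := by rw [Ideal.map_pow, sq]
  constructor
  · apply le_antisymm
    · rw [Ideal.span_le]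
      rintro _ ⟨i, rfl⟩
      exact Ideal.mem_map_of_mem _ (hxI i)
    · refine Submodule.le_of_le_smul_of_le_jacobson_bot (I := maximalIdeal S)
        (IsNoetherian.noetherian _) (IsLocalRing.maximalIdeal_le_jacobson _) ?_
      change I.map f ≤ _
      rw [Ideal.map_le_iff_le_comap]
      intro z hz
      rw [Ideal.mem_comap]
      obtain ⟨t, ht, a, hta⟩ := h1 z hz
      obtain ⟨u, hu⟩ := (hunit t ht).exists_left_inv
      have h3 : f z = u * (∑ i, f (a i) * f (x i)) + u * f (t * z - ∑ i, a i * x i) := by
        rw [map_sub, map_mul, map_sum]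
        simp only [map_mul]
        rw [mul_sub, ← mul_assoc, hu, one_mul]; ring
      rw [h3]
      refine Submodule.add_mem_sup ?_ ?_
      · refine Ideal.mul_mem_left _ _ (Ideal.sum_mem _ fun i _ => Ideal.mul_mem_left _ _ ?_)
        exact Ideal.subset_span ⟨i, rfl⟩
      · rw [smul_eq_mul]
        refine Ideal.mul_mem_left _ _ ?_
        have h4 : f (t * z - ∑ i, a i * x i) ∈ (I ^ 2).map f := Ideal.mem_map_of_mem _ hta
        rw [hsq] at h4
        exact Ideal.mul_mono_left hISm h4
  · intro α hα i
    obtain ⟨t, ht⟩ := IsLocalization.exist_integer_multiples p.primeCompl Finset.univ α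
    choose a ha using fun i => ht i (Finset.mem_univ i)
    have ha' : ∀ i, f (a i) = f t * α i := by
      intro i
      rw [hf, ha i, Algebra.smul_def]
    have h3 : f (∑ i, a i * x i) ∈ (I ^ 2).map f := by
      have : f (∑ i, a i * x i) = f t * ∑ i, α i * f (x i) := by
        rw [map_sum, Finset.mul_sum]
        refine Finset.sum_congr rfl fun i _ => ?_
        rw [map_mul, ha']; ring
      rw [this, Ideal.map_pow]
      exact Ideal.mul_mem_left _ _ hα
    rw [IsLocalization.mem_map_algebraMap_iff p.primeCompl S] at h3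
    obtain ⟨⟨w, s⟩, hws⟩ := h3
    rw [← map_mul, IsLocalization.eq_iff_exists p.primeCompl S] at hws
    obtain ⟨s', hs'⟩ := hws
    have h4 : ∑ i, ((s' : R) * (s : R) * a i) * x i ∈ I ^ 2 := by
      have : ∑ i, ((s' : R) * (s : R) * a i) * x i = (s' : R) * ((∑ i, a i * x i) * (s : R)) := by
        rw [Finset.sum_mul, Finset.mul_sum]
        refine Finset.sum_congr rfl fun i _ => ?_
        ring
      rw [this, hs']
      exact Ideal.mul_mem_left _ _ w.2
    obtain ⟨t', ht', hta⟩ := h2 _ h4 i
    have h5 : f (t' * ((s' : R) * (s : R))) * (f t * α i) ∈ I.map f := by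
      rw [← ha', ← map_mul]
      have : t' * ((s' : R) * (s : R)) * a i = t' * ((s' : R) * (s : R) * a i) := by ring
      rw [this]
      exact Ideal.mem_map_of_mem _ hta
    have hu1 : IsUnit (f (t' * ((s' : R) * (s : R)))) :=
      hunit _ (fun h => (p.primeCompl.mul_mem ht' (p.primeCompl.mul_mem s'.2 s.2)) h)
    rw [Ideal.unit_mul_mem_iff_mem _ hu1, Ideal.unit_mul_mem_iff_mem _ (hunit t t.2)] at h5
    exact h5

end cot


section units

variable {S : Type u} [CommRing S]

/-- multiplying the members of a weakly regular sequence by units -/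
theorem isWeaklyRegular_of_forall₂_unit {rs rs' : List S}
    (h : List.Forall₂ (fun a b => ∃ u : S, IsUnit u ∧ b = u * a) rs rs') :
    ∀ (M : Type u) [AddCommGroup M] [Module S M], IsWeaklyRegular M rs → IsWeaklyRegular M rs' := by
  induction h with
  | nil => intro M _ _ _; exact IsWeaklyRegular.nil S M
  | cons hab _ ih =>
    rename_i a b l₁ l₂ _
    intro M _ _ hreg
    obtain ⟨u, hu, rfl⟩ := hab
    rw [isWeaklyRegular_cons_iff] at hreg ⊢
    refine ⟨(hu.isSMulRegular M).mul hreg.1, ?_⟩
    have heq : (u * a) • (⊤ : Submodule S M) = a • ⊤ := by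
      rw [← Submodule.ideal_span_singleton_smul, ← Submodule.ideal_span_singleton_smul,
        Ideal.span_singleton_mul_left_unit hu]
    let e : QuotSMulTop (u * a) M ≃ₗ[S] QuotSMulTop a M := Submodule.quotEquivOfEq _ _ heq
    rw [e.isWeaklyRegular_congr]
    exact ih _ hreg.2

theorem ofList_eq_of_forall₂_unit {rs rs' : List S}
    (h : List.Forall₂ (fun a b => ∃ u : S, IsUnit u ∧ b = u * a) rs rs') :
    Ideal.ofList rs = Ideal.ofList rs' := by
  induction h with
  | nil => rfl
  | cons hab _ ih =>
    obtain ⟨u, hu, rfl⟩ := hab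
    rw [Ideal.ofList_cons, Ideal.ofList_cons, ih, Ideal.span_singleton_mul_left_unit hu]

end units

section spread

variable (R : Type u) [CommRing R]

theorem isWeaklyRegular_map_iff (T : Type u) [CommRing T] [Algebra R T] (ws : List R) :
    IsWeaklyRegular T (ws.map (algebraMap R T)) ↔
      ∀ i (h : i < ws.length), ∀ a : T,
        algebraMap R T ws[i] * a ∈ (Ideal.ofList (ws.take i)).map (algebraMap R T) →
          a ∈ (Ideal.ofList (ws.take i)).map (algebraMap R T) := by
  rw [isWeaklyRegular_iff]
  have key : ∀ i (h : i < ws.length),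
      (IsSMulRegular (T ⧸ (Ideal.ofList ((ws.map (algebraMap R T)).take i) • ⊤ : Submodule T T))
        ((ws.map (algebraMap R T))[i]'(by simpa using h)) ↔
      ∀ a : T, algebraMap R T ws[i] * a ∈ (Ideal.ofList (ws.take i)).map (algebraMap R T) →
          a ∈ (Ideal.ofList (ws.take i)).map (algebraMap R T)) := by
    intro i h
    rw [isSMulRegular_quotient_iff_mem_of_smul_mem]
    have e1 : (Ideal.ofList ((ws.map (algebraMap R T)).take i) • ⊤ : Submodule T T) =
        (Ideal.ofList (ws.take i)).map (algebraMap R T) := by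
      rw [smul_eq_mul, Ideal.mul_top, Ideal.map_ofList, List.map_take]
    rw [e1]
    simp only [List.getElem_map, smul_eq_mul]
  constructor
  · intro H i h
    exact (key i h).mp (H i (by simpa using h))
  · intro H i h
    have h' : i < ws.length := by simpa using h
    exact (key i h').mpr (H i h')

variable [IsNoetherianRing R] (p : Ideal R) [p.IsPrime]

theorem exists_mul_mem_of_map_le (J₁ J₂ : Ideal R)
    (h : J₁.map (algebraMap R (Localization.AtPrime p)) ≤
      J₂.map (algebraMap R (Localization.AtPrime p))) :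
    ∃ g, g ∉ p ∧ ∀ a ∈ J₁, g * a ∈ J₂ := by
  classical
  obtain ⟨F, hF⟩ := (IsNoetherian.noetherian J₁ : J₁.FG)
  have hFmem : ∀ a ∈ F, ∃ s, s ∉ p ∧ s * a ∈ J₂ := by
    intro a ha
    have haJ : a ∈ J₁ := by rw [← hF]; exact Submodule.subset_span ha
    have h1 := h (Ideal.mem_map_of_mem _ haJ)
    rw [IsLocalization.mem_map_algebraMap_iff p.primeCompl] at h1
    obtain ⟨⟨j, s⟩, hjs⟩ := h1
    rw [← map_mul, IsLocalization.eq_iff_exists p.primeCompl] at hjs
    obtain ⟨s', hs'⟩ := hjs
    refine ⟨s' * s, p.primeCompl.mul_mem s'.2 s.2, ?_⟩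
    have : (s' : R) * (s : R) * a = s' * (a * s) := by ring
    rw [this, hs']
    exact Ideal.mul_mem_left _ _ j.2
  have main : ∀ F : Finset R, (∀ a ∈ F, ∃ s, s ∉ p ∧ s * a ∈ J₂) →
      ∃ g, g ∉ p ∧ ∀ a ∈ Ideal.span (F : Set R), g * a ∈ J₂ := by
    intro F
    induction F using Finset.induction_on with
    | empty =>
      intro _
      refine ⟨1, (Ideal.ne_top_iff_one p).mp (Ideal.IsPrime.ne_top ‹_›), ?_⟩
      intro a ha
      simp only [Finset.coe_empty, Ideal.span_empty, Ideal.mem_bot] at ha
      rw [ha, mul_zero]; exact Ideal.zero_mem _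
    | insert b F hb ih =>
      intro hall
      obtain ⟨g', hg', hg'F⟩ := ih (fun a ha => hall a (Finset.mem_insert_of_mem ha))
      obtain ⟨s, hs, hsb⟩ := hall b (Finset.mem_insert_self b F)
      refine ⟨g' * s, p.primeCompl.mul_mem hg' hs, ?_⟩
      intro a ha
      rw [Finset.coe_insert, Ideal.mem_span_insert] at ha
      obtain ⟨c, z, hz, rfl⟩ := ha
      have : g' * s * (c * b + z) = g' * c * (s * b) + s * (g' * z) := by ring
      rw [this]
      exact Ideal.add_mem _ (Ideal.mul_mem_left _ _ hsb) (Ideal.mul_mem_left _ _ (hg'F z hz))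
  obtain ⟨g, hg, hgF⟩ := main F hFmem
  refine ⟨g, hg, fun a ha => hgF a ?_⟩
  have : Ideal.span (F : Set R) = J₁ := hF
  rw [this]; exact ha

omit [IsNoetherianRing R] in
theorem map_le_of_mul_mem (M : Submonoid R) (T : Type u) [CommRing T] [Algebra R T]
    [IsLocalization M T] (J₁ J₂ : Ideal R) (g : R) (hg : IsUnit (algebraMap R T g))
    (h : ∀ a ∈ J₁, g * a ∈ J₂) :
    J₁.map (algebraMap R T) ≤ J₂.map (algebraMap R T) := by
  rw [Ideal.map_le_iff_le_comap]
  intro a ha
  rw [Ideal.mem_comap, ← Ideal.unit_mul_mem_iff_mem _ hg, ← map_mul]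
  exact Ideal.mem_map_of_mem _ (h a ha)

omit [IsNoetherianRing R] in
theorem cond_of_mul_mem (M : Submonoid R) (T : Type u) [CommRing T] [Algebra R T]
    [IsLocalization M T] (J : Ideal R) (w g : R) (hg : IsUnit (algebraMap R T g))
    (h : ∀ a, w * a ∈ J → g * a ∈ J) (a : T)
    (ha : algebraMap R T w * a ∈ J.map (algebraMap R T)) : a ∈ J.map (algebraMap R T) := by
  obtain ⟨a₀, s, rfl⟩ := IsLocalization.exists_mk'_eq M a
  have hs : IsUnit (algebraMap R T s) := IsLocalization.map_units T s
  have h1 : algebraMap R T (w * a₀) ∈ J.map (algebraMap R T) := by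
    have : algebraMap R T (w * a₀) =
        algebraMap R T s * (algebraMap R T w * IsLocalization.mk' T a₀ s) := by
      rw [map_mul, mul_left_comm, IsLocalization.mk'_spec']
    rw [this]
    exact Ideal.mul_mem_left _ _ ha
  rw [IsLocalization.mem_map_algebraMap_iff M] at h1
  obtain ⟨⟨j, s₁⟩, hj⟩ := h1
  rw [← map_mul, IsLocalization.eq_iff_exists M] at hj
  obtain ⟨s₂, hs₂⟩ := hj
  have h2 : w * ((s₂ : R) * (s₁ : R) * a₀) ∈ J := by
    have : w * ((s₂ : R) * (s₁ : R) * a₀) = s₂ * (w * a₀ * s₁) := by ring
    rw [this, hs₂]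
    exact Ideal.mul_mem_left _ _ j.2
  have h3 := h _ h2
  have h4 : algebraMap R T (g * ((s₂ : R) * (s₁ : R))) * algebraMap R T a₀ ∈
      J.map (algebraMap R T) := by
    rw [← map_mul]
    have : g * ((s₂ : R) * (s₁ : R)) * a₀ = g * ((s₂ : R) * (s₁ : R) * a₀) := by ring
    rw [this]
    exact Ideal.mem_map_of_mem _ h3
  have hu : IsUnit (algebraMap R T (g * ((s₂ : R) * (s₁ : R)))) := by
    rw [map_mul, map_mul]
    exact hg.mul ((IsLocalization.map_units T s₂).mul (IsLocalization.map_units T s₁))
  rw [Ideal.unit_mul_mem_iff_mem _ hu] at h4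
  rw [IsLocalization.mk'_eq_mul_mk'_one]
  exact Ideal.mul_mem_right _ _ h4

end spread


section spread

variable (R : Type u) [CommRing R]

variable [IsNoetherianRing R] (p : Ideal R) [p.IsPrime]

theorem spread (I : Ideal R) (ws : List R)
    (hreg : IsWeaklyRegular (Localization.AtPrime p)
      (ws.map (algebraMap R (Localization.AtPrime p))))
    (hgen : Ideal.ofList (ws.map (algebraMap R (Localization.AtPrime p))) =
      I.map (algebraMap R (Localization.AtPrime p))) :
    ∃ g, g ∉ p ∧
      IsWeaklyRegular (Localization.Away g) (ws.map (algebraMap R (Localization.Away g))) ∧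
      Ideal.ofList (ws.map (algebraMap R (Localization.Away g))) =
        I.map (algebraMap R (Localization.Away g)) := by
  classical
  rw [← Ideal.map_ofList] at hgen
  obtain ⟨g₁, hg₁, hg₁'⟩ := exists_mul_mem_of_map_le R p I (Ideal.ofList ws) hgen.ge
  obtain ⟨g₂, hg₂, hg₂'⟩ := exists_mul_mem_of_map_le R p (Ideal.ofList ws) I hgen.le
  rw [isWeaklyRegular_map_iff] at hreg
  have hex : ∀ i : Fin ws.length, ∃ g, g ∉ p ∧ ∀ a, ws[i] * a ∈ Ideal.ofList (ws.take i) →
      g * a ∈ Ideal.ofList (ws.take i) := by
    intro i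
    obtain ⟨g, hg, hg'⟩ := exists_mul_mem_of_map_le R p
      ((Ideal.ofList (ws.take i)).colon {ws[i]}) (Ideal.ofList (ws.take i)) (by
        rw [Ideal.map_le_iff_le_comap]
        intro a ha
        rw [Submodule.mem_colon_singleton, smul_eq_mul] at ha
        rw [Ideal.mem_comap]
        apply hreg i i.2
        rw [← map_mul, mul_comm]
        exact Ideal.mem_map_of_mem _ ha)
    refine ⟨g, hg, fun a ha => hg' a ?_⟩
    rw [Submodule.mem_colon_singleton, smul_eq_mul, mul_comm]
    exact ha
  choose G hG hG' using hex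
  refine ⟨g₁ * g₂ * ∏ i, G i, ?_, ?_, ?_⟩
  · intro hmem
    rcases (Ideal.IsPrime.mem_or_mem ‹_› hmem) with h | h
    · rcases (Ideal.IsPrime.mem_or_mem ‹_› h) with h | h
      · exact hg₁ h
      · exact hg₂ h
    · rw [Ideal.IsPrime.prod_mem_iff] at h
      obtain ⟨i, -, hi⟩ := h
      exact hG i hi
  · set g := g₁ * g₂ * ∏ i, G i with hgdef
    have hgu : IsUnit (algebraMap R (Localization.Away g) g) :=
      IsLocalization.Away.algebraMap_isUnit g
    rw [isWeaklyRegular_map_iff]
    intro i h a ha
    have hdvd : G ⟨i, h⟩ ∣ g :=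
      Dvd.dvd.mul_left (Finset.dvd_prod_of_mem G (Finset.mem_univ _)) _
    have hu : IsUnit (algebraMap R (Localization.Away g) (G ⟨i, h⟩)) :=
      isUnit_of_dvd_unit (map_dvd _ hdvd) hgu
    exact cond_of_mul_mem R (Submonoid.powers g) (Localization.Away g) _ ws[i] (G ⟨i, h⟩) hu
      (hG' ⟨i, h⟩) a ha
  · set g := g₁ * g₂ * ∏ i, G i with hgdef
    have hgu : IsUnit (algebraMap R (Localization.Away g) g) :=
      IsLocalization.Away.algebraMap_isUnit g
    have hu₁ : IsUnit (algebraMap R (Localization.Away g) g₁) :=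
      isUnit_of_dvd_unit (map_dvd _ (Dvd.dvd.mul_right (Dvd.intro _ rfl) _)) hgu
    have hu₂ : IsUnit (algebraMap R (Localization.Away g) g₂) :=
      isUnit_of_dvd_unit (map_dvd _ (Dvd.dvd.mul_right (Dvd.intro_left _ rfl) _)) hgu
    rw [← Ideal.map_ofList]
    apply le_antisymm
    · exact map_le_of_mul_mem R (Submonoid.powers g) (Localization.Away g) _ _ g₂ hu₂ hg₂'
    · exact map_le_of_mul_mem R (Submonoid.powers g) (Localization.Away g) _ _ g₁ hu₁ hg₁'

end spread


section final

open Groth.Agent.Lib.Helper18.PD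

theorem pd_map_localization (R : Type u) [CommRing R] (p : Ideal R) [p.IsPrime] (I : Ideal R)
    (n : ℕ) (hpd : HasProjectiveDimensionLT (ModuleCat.of R I) (n + 1)) :
    HasProjectiveDimensionLT (ModuleCat.of (Localization.AtPrime p)
      (I.map (algebraMap R (Localization.AtPrime p)))) (n + 1) := by
  set S := Localization.AtPrime p
  have h1 := hasProjectiveDimensionLT_baseChange R S n I hpd
  let e1 : TensorProduct R S I ≃ₗ[S]
      (Submodule.localized' S p.primeCompl (Algebra.linearMap R S) I) :=
    (IsLocalizedModule.isBaseChange p.primeCompl S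
      (Submodule.toLocalized' S p.primeCompl (Algebra.linearMap R S) I)).equiv
  have heq : Submodule.localized' S p.primeCompl (Algebra.linearMap R S) I =
      I.map (algebraMap R S) := by
    rw [Submodule.localized'_eq_span]
    rfl
  let e2 : (Submodule.localized' S p.primeCompl (Algebra.linearMap R S) I) ≃ₗ[S]
      (I.map (algebraMap R S)) := LinearEquiv.ofEq _ _ heq
  exact hasProjectiveDimensionLT_of_iso (e1.trans e2).toModuleIso (n + 1)

end final


section main

/-- **Vasconcelos' theorem** (global form with spreading out): an ideal of finite projective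
dimension in a Noetherian ring whose conormal module is projective is, near every prime containing
it, generated by a regular sequence. -/
theorem vasconcelos {R : Type u} [CommRing R] [IsNoetherianRing R] (I : Ideal R) (n : ℕ)
    (hpd : HasProjectiveDimensionLT (ModuleCat.of R I) n)
    [Module.Projective (R ⧸ I) I.Cotangent] (p : Ideal R) [p.IsPrime] (hIp : I ≤ p) :
    ∃ g : R, g ∉ p ∧ ∃ rs : List (Localization.Away g),
      RingTheory.Sequence.IsRegular (Localization.Away g) rs ∧
        Ideal.ofList rs = I.map (algebraMap R (Localization.Away g)) := by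
  classical
  have hpd' : HasProjectiveDimensionLT (ModuleCat.of R I) (n + 1) :=
    hasProjectiveDimensionLT_of_ge _ n (n + 1) (Nat.le_succ n)
  obtain ⟨d, x, hxI, h1, h2⟩ := exists_local_QR_data R I p hIp
  have hQR := QR_localization R I p hIp x hxI h1 h2
  have hISm : I.map (algebraMap R (Localization.AtPrime p)) ≤
      maximalIdeal (Localization.AtPrime p) := by
    rw [← Localization.AtPrime.map_eq_maximalIdeal]; exact Ideal.map_mono hIp
  have hpdS := pd_map_localization R p I n hpd'
  obtain ⟨ys, hys, hysI⟩ := local_theorem n d (Localization.AtPrime p)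
    (I.map (algebraMap R (Localization.AtPrime p))) hISm _ hQR hpdS
  have hex : ∀ y : Localization.AtPrime p, ∃ w : R, ∃ u : Localization.AtPrime p,
      IsUnit u ∧ algebraMap R (Localization.AtPrime p) w = u * y := by
    intro y
    obtain ⟨w, s, rfl⟩ := IsLocalization.exists_mk'_eq p.primeCompl y
    exact ⟨w, algebraMap R _ s, IsLocalization.map_units _ s,
      (IsLocalization.mk'_spec' _ w s).symm⟩
  choose W hW using hex
  have hforall : List.Forall₂ (fun a b => ∃ u : Localization.AtPrime p, IsUnit u ∧ b = u * a) ys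
      ((ys.map W).map (algebraMap R (Localization.AtPrime p))) := by
    rw [List.map_map, List.forall₂_map_right_iff, List.forall₂_same]
    intro y _
    exact hW y
  have hreg := isWeaklyRegular_of_forall₂_unit hforall (Localization.AtPrime p) hys
  have hgen : Ideal.ofList ((ys.map W).map (algebraMap R (Localization.AtPrime p))) =
      I.map (algebraMap R (Localization.AtPrime p)) := by
    rw [← ofList_eq_of_forall₂_unit hforall, hysI]
  obtain ⟨g, hg, hgreg, hggen⟩ := spread R p I (ys.map W) hreg hgen
  refine ⟨g, hg, (ys.map W).map (algebraMap R (Localization.Away g)), ⟨hgreg, ?_⟩, hggen⟩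
  rw [hggen, smul_eq_mul, Ideal.mul_top]
  intro htop
  have hle : I.map (algebraMap R (Localization.Away g)) ≤
      p.map (algebraMap R (Localization.Away g)) := Ideal.map_mono hIp
  have hne : p.map (algebraMap R (Localization.Away g)) ≠ ⊤ := by
    rw [IsLocalization.map_algebraMap_ne_top_iff_disjoint (Submonoid.powers g)]
    exact (Ideal.disjoint_powers_iff_notMem_of_isPrime g).mpr hg
  exact hne (top_le_iff.mp (htop ▸ hle))

end main

end Groth.Agent.Lib.Helper16.Vasc
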