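import Mathlib
import Groth.Agent.Lib.Helper16.CotBC2
import Groth.Agent.Lib.Helper16.CotBC3
import Groth.Agent.Lib.Helper16.Vasconcelos
import Groth.Agent.Lib.Helper16.KzComp4
import Groth.Agent.Lib.Helper13.RegGlDim

/-!
# Extensions over a field with flat conormal module have Koszul-regular kernel (Vasconcelos)
-/

set_option autoImplicit false
set_option linter.unusedSectionVars false
universe u
open TensorProduct Algebra CategoryTheory

namespace Groth.Agent.Lib.Helper16.CotBC

/-- in a Noetherian regular ring of finite dimension, an ideal with projective conormal module is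
Koszul-regular (Vasconcelos) -/
theorem isKoszulRegularIdeal_of_projective_cotangent {R' : Type u} [CommRing R']
    [IsNoetherianRing R']
    (hreg : ∀ p : PrimeSpectrum R', IsRegularLocalRing (Localization.AtPrime p.asIdeal))
    (d : ℕ) (hd : ringKrullDim R' ≤ d) (I : Ideal R')
    [Module.Projective (R' ⧸ I) I.Cotangent] : LCI.IsKoszulRegularIdeal I := by
  have hpd := Groth.Agent.Lib.Helper13.RP.hasProjectiveDimensionLT_of_regular_of_finite R' hreg d
    hd I
  intro 𝔭 h𝔭
  have : 𝔭.asIdeal.IsPrime := 𝔭.2
  obtain ⟨g, hg, rs, hrs, hof⟩ :=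
    Groth.Agent.Lib.Helper16.Vasc.vasconcelos I (d + 1) hpd 𝔭.asIdeal h𝔭
  refine ⟨g, hg, rs, Groth.Agent.Lib.Helper16.KzComp.kreg_of_isWeaklyRegular rs
    hrs.toIsWeaklyRegular, ?_⟩
  rw [← hof]

/-- an extension of an algebra over a field by a polynomial ring in finitely many variables, with
flat conormal module, has Koszul-regular kernel -/
theorem isKoszulRegularIdeal_ker_of_flat_cotangent (k : Type u) [Field k] {S : Type u} [CommRing S]
    [Algebra k S] (P' : Extension.{u} k S) (n : ℕ) (e : P'.Ring ≃+* MvPolynomial (Fin n) k)
    [Module.Flat S P'.Cotangent] : LCI.IsKoszulRegularIdeal P'.ker := by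
  have hreg' : IsRegularRing P'.Ring := IsRegularRing.of_ringEquiv e.symm
  have hN : IsNoetherianRing P'.Ring := inferInstance
  have hNS : IsNoetherianRing S :=
    isNoetherianRing_of_surjective P'.Ring S (algebraMap P'.Ring S) P'.algebraMap_surjective
  have hfin : Module.Finite S P'.Cotangent :=
    Extension.Cotangent.finite ((isNoetherianRing_iff_ideal_fg P'.Ring).1 hN P'.ker)
  have hfp : Module.FinitePresentation S P'.Cotangent := Module.finitePresentation_of_finite S _
  have hproj : Module.Projective S P'.Cotangent := Module.Flat.projective_of_finitePresentation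
  have := projective_ker_cotangent P'
  have hd : ringKrullDim P'.Ring ≤ n := by
    rw [ringKrullDim_eq_of_ringEquiv e, MvPolynomial.ringKrullDim_of_isNoetherianRing,
      ringKrullDim_eq_zero_of_field]
    simp
  exact isKoszulRegularIdeal_of_projective_cotangent
    (fun p => IsRegularRing.isRegularLocalRing_localization p.asIdeal) n hd P'.ker

end Groth.Agent.Lib.Helper16.CotBC
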