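import Mathlib
import Groth.Prelude.Def_LCI2
import Groth.Agent.Lib.Helper16.CotLoc2
import Groth.Agent.Lib.Helper16.NLInv

/-!
# NL of an lci ring map is perfect of tor-amplitude [-1,0]
-/

set_option autoImplicit false
set_option linter.unusedSectionVars false
universe u

open CategoryTheory CategoryTheory.Limits HomologicalComplex Algebra

attribute [local instance] HasDerivedCategory.standard

namespace Groth.Agent.Lib.Helper16.NLPerf

open Groth.Agent.Lib.Helper16.NLInv Groth.Agent.Lib.Helper16.CotLoc

variable {A B : Type u} [CommRing A] [CommRing B] [Algebra A B]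

/-- a finite presentation with Koszul-regular kernel, as an extension, together with the
comparison with the canonical presentation -/
theorem exists_model (h : LCI.IsLCI A B) :
    ∃ Q₂ : Extension.{u} A B, LCI.IsKoszulRegularIdeal Q₂.ker ∧
      Module.Finite B Q₂.CotangentSpace ∧ Module.Free B Q₂.CotangentSpace ∧
      Nonempty (DRing.toD (NLd (Generators.self A B).toExtension) ≅ DRing.toD (NLd Q₂)) := by
  obtain ⟨-, n, f, hsurj, hK⟩ := h
  have hae : (MvPolynomial.aeval (R := A) (fun i => f (MvPolynomial.X i))) = f := by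
    apply MvPolynomial.algHom_ext
    intro i
    simp
  let G : Generators A B (Fin n) :=
    Generators.ofSurjective (fun i => f (MvPolynomial.X i)) (by rw [hae]; exact hsurj)
  have hker : G.toExtension.ker = RingHom.ker f.toRingHom := by
    have h1 : G.toExtension.ker = G.ker := rfl
    rw [h1, Generators.ker_eq_ker_aeval_val]
    change RingHom.ker (MvPolynomial.aeval (R := A) fun i => f (MvPolynomial.X i)) = _
    rw [hae]
    rfl
  refine ⟨G.toExtension, ?_, ?_, ?_, ?_⟩
  · rw [hker]
    exact hK
  · exact Module.Finite.of_basis G.cotangentSpaceBasis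
  · exact Module.Free.of_basis G.cotangentSpaceBasis
  · exact ⟨NLdIso (Extension.defaultHom (P := G.toExtension))
      (G.defaultHom (Generators.self A B)).toExtensionHom⟩

theorem vanishesOutside (Q : Extension.{u} A B) : DRing.VanishesOutside (NLd Q) (-1) 0 := by
  intro i hi
  exact isZero_double_X _ _ i (by omega) (by omega)

theorem termwise (Q : Extension.{u} A B) (P : ModuleCat.{u} B → Prop)
    (hiso : ∀ M N : ModuleCat.{u} B, (M ≅ N) → P M → P N)
    (h0 : P (ModuleCat.of B Q.Cotangent)) (h1 : P (ModuleCat.of B Q.CotangentSpace))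
    (hz : ∀ M : ModuleCat.{u} B, IsZero M → P M) : ∀ i : ℤ, P ((NLd Q).X i) := by
  intro i
  by_cases hi0 : i = -1
  · subst hi0
    exact hiso _ _ (doubleXIso₀ (ModuleCat.ofHom Q.cotangentComplex) rel).symm h0
  · by_cases hi1 : i = 0
    · subst hi1
      exact hiso _ _ (doubleXIso₁ (ModuleCat.ofHom Q.cotangentComplex) rel ne).symm h1
    · exact hz _ (isZero_double_X _ _ i hi0 hi1)

theorem termwiseFiniteProjective (Q : Extension.{u} A B) [Module.Finite B Q.Cotangent]
    [Module.Projective B Q.Cotangent] [Module.Finite B Q.CotangentSpace]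
    [Module.Free B Q.CotangentSpace] : DRing.TermwiseFiniteProjective (NLd Q) := by
  refine termwise Q (fun M => Module.Finite B M ∧ Module.Projective B M) ?_ ⟨inferInstance,
    inferInstance⟩ ⟨inferInstance, inferInstance⟩ ?_
  · rintro M N e ⟨h1, h2⟩
    exact ⟨Module.Finite.equiv e.toLinearEquiv, Module.Projective.of_equiv' e.toLinearEquiv⟩
  · intro M hM
    have : Subsingleton M := ModuleCat.subsingleton_of_isZero hM
    exact ⟨inferInstance, inferInstance⟩

theorem termwiseFlat (Q : Extension.{u} A B)
    [Module.Projective B Q.Cotangent] [Module.Free B Q.CotangentSpace] :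
    DRing.TermwiseFlat (NLd Q) := by
  refine termwise Q (fun M => Module.Flat B M) ?_ inferInstance inferInstance ?_
  · rintro M N e h1
    exact Module.Flat.of_linearEquiv e.toLinearEquiv.symm
  · intro M hM
    have : Subsingleton M := ModuleCat.subsingleton_of_isZero hM
    infer_instance

/-- **S7072** -/
theorem nl_isPerfect_and_torAmplitude (h : LCI.IsLCI A B) :
    DRing.IsPerfect B (LCI.NL A B) ∧ DRing.HasTorAmplitudeIn B (-1) 0 (LCI.NL A B) := by
  obtain ⟨Q₂, hK, hfin, hfree, ⟨e⟩⟩ := exists_model h
  have := finite_extension_cotangent Q₂ hK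
  have := projective_extension_cotangent Q₂ hK
  exact ⟨⟨NLd Q₂, -1, 0, vanishesOutside Q₂, termwiseFiniteProjective Q₂, ⟨e.symm⟩⟩,
    ⟨NLd Q₂, vanishesOutside Q₂, termwiseFlat Q₂, ⟨e.symm⟩⟩⟩

end Groth.Agent.Lib.Helper16.NLPerf
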