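import Mathlib
import Groth.Agent.Lib.Helper13.TorBridge1
import Groth.Agent.Lib.Helper13.DRingTor4

/-!
# A two-term complex with flat degree-0 term and tor-amplitude in [-1,0] has flat degree -1 term
-/

set_option autoImplicit false
set_option linter.unusedSectionVars false
universe u
open CategoryTheory CategoryTheory.Limits HomologicalComplex

namespace Groth.Agent.Lib.Helper16.TorAmpFlat

attribute [local instance] HasDerivedCategory.standard

variable {R : Type u} [CommRing R]

theorem rel : (ComplexShape.up ℤ).Rel (-1) 0 := by simp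

theorem ne : (-1 : ℤ) ≠ 0 := by norm_num

variable {M F : ModuleCat.{u} R} (d : M ⟶ F)

/-- inclusion of the degree-0 term -/
noncomputable def incl :
    (single (ModuleCat.{u} R) (ComplexShape.up ℤ) 0).obj F ⟶ double d rel :=
  mkHomFromSingle ((doubleXIso₁ d rel ne).inv) (by
    intro k _
    rw [double_d_eq_zero₀ d rel 0 k (by norm_num), comp_zero])

/-- projection to the degree `-1` term -/
noncomputable def proj :
    double d rel ⟶ (single (ModuleCat.{u} R) (ComplexShape.up ℤ) (-1)).obj M :=
  mkHomToSingle ((doubleXIso₀ d rel).hom) (by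
    intro i _
    rw [double_d_eq_zero₁ d rel i (-1) (by norm_num), zero_comp])

theorem incl_proj : incl d ≫ proj d = 0 := by
  apply HomologicalComplex.hom_ext
  intro i
  by_cases hi : i = 0
  · subst hi
    exact (isZero_single_obj_X (ComplexShape.up ℤ) (-1) M 0 (by norm_num)).eq_of_tgt _ _
  · exact (isZero_single_obj_X (ComplexShape.up ℤ) 0 F i hi).eq_of_src _ _

/-- the short complex of complexes -/
noncomputable abbrev sc : ShortComplex (CochainComplex (ModuleCat.{u} R) ℤ) :=
  ShortComplex.mk (incl d) (proj d) (incl_proj d)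

theorem sc_shortExact : (sc d).ShortExact := by
  apply shortExact_of_degreewise_shortExact
  intro i
  by_cases hi0 : i = 0
  · subst hi0
    have hz : IsZero (((sc d).map (eval _ _ 0)).X₃) :=
      isZero_single_obj_X (ComplexShape.up ℤ) (-1) M 0 (show (0 : ℤ) ≠ -1 by norm_num)
    have hiso : IsIso ((sc d).map (eval _ _ 0)).f := by
      change IsIso ((incl d).f 0)
      rw [incl, mkHomFromSingle_f]
      infer_instance
    have hg : ((sc d).map (eval _ _ 0)).g = 0 := hz.eq_of_tgt _ _
    exact { mono_f := inferInstance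
            epi_g := ⟨fun h k _ => hz.eq_of_src h k⟩
            exact := (ShortComplex.exact_iff_epi _ hg).2 inferInstance }
  · by_cases hi1 : i = -1
    · subst hi1
      have hz : IsZero (((sc d).map (eval _ _ (-1))).X₁) :=
        isZero_single_obj_X (ComplexShape.up ℤ) 0 F (-1) (show (-1 : ℤ) ≠ 0 by norm_num)
      have hiso : IsIso ((sc d).map (eval _ _ (-1))).g := by
        change IsIso ((proj d).f (-1))
        rw [proj, mkHomToSingle_f]
        infer_instance
      have hf : ((sc d).map (eval _ _ (-1))).f = 0 := hz.eq_of_src _ _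
      exact { mono_f := ⟨fun h k _ => hz.eq_of_tgt h k⟩
              epi_g := inferInstance
              exact := (ShortComplex.exact_iff_mono _ hf).2 inferInstance }
    · have hz₁ : IsZero (((sc d).map (eval _ _ i)).X₁) :=
        isZero_single_obj_X (ComplexShape.up ℤ) 0 F i hi0
      have hz₂ : IsZero (((sc d).map (eval _ _ i)).X₂) :=
        isZero_double_X d rel i hi1 hi0
      have hz₃ : IsZero (((sc d).map (eval _ _ i)).X₃) :=
        isZero_single_obj_X (ComplexShape.up ℤ) (-1) M i hi1
      exact { mono_f := ⟨fun h k _ => hz₁.eq_of_tgt h k⟩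
              epi_g := ⟨fun h k _ => hz₃.eq_of_src h k⟩
              exact := ShortComplex.exact_of_isZero_X₂ _ hz₂ }

open DerivedCategory Groth.Agent.Lib.Helper13.DR Groth.Agent.Lib.Helper13.TB

theorem hasTorAmplitudeIn_single (F : ModuleCat.{u} R) [Module.Flat R F] (n : ℤ) :
    DRing.HasTorAmplitudeIn R n n
      (Q.obj ((single (ModuleCat.{u} R) (ComplexShape.up ℤ) n).obj F)) := by
  refine ⟨(single _ _ n).obj F, ?_, ?_, ⟨Iso.refl _⟩⟩
  · intro i hi
    exact isZero_single_obj_X _ _ _ _ (by lia)
  · intro i
    by_cases hi : i = n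
    · subst hi
      exact Module.Flat.of_linearEquiv (singleObjXSelf (ComplexShape.up ℤ) i F).toLinearEquiv
    · have := ModuleCat.subsingleton_of_isZero
        (isZero_single_obj_X (ComplexShape.up ℤ) n F i hi)
      infer_instance

/-- a module whose degree-0 complex has tor-amplitude in `[0, b]` is flat -/
theorem flat_of_hasTorAmplitudeIn (M : Type u) [AddCommGroup M] [Module R M] (b : ℤ)
    (h : DRing.HasTorAmplitudeIn R 0 b (Dual.inD R M)) : Module.Flat R M := by
  rw [← hasTorDimLE_zero_iff_flat]
  intro N _ _ p hp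
  let P := projectiveResolution (ModuleCat.of R M)
  have h0 := tensor_vanishing_of_hasTorAmplitudeIn h P.cochainComplex 0
    (isZero_cochainComplex_X P) (flat_cochainComplex_X P) (cochainComplexIso P)
    (ModuleCat.of R N) (-(p : ℤ)) (Or.inl (by lia))
  obtain ⟨e⟩ := nonempty_tor_iso_homology_cochain P (ModuleCat.of R N) p _ rfl
  exact ModuleCat.subsingleton_of_isZero (h0.of_iso e)

/-- if the two-term complex `M → F` with `F` flat has tor-amplitude in `[-1, 0]`, then `M` is
flat -/
theorem flat_of_hasTorAmplitudeIn_double [Module.Flat R F]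
    (h : DRing.HasTorAmplitudeIn R (-1) 0 (Q.obj (double d rel))) : Module.Flat R M := by
  have hT := triangleOfSES_distinguished (sc_shortExact d)
  have h3 : DRing.HasTorAmplitudeIn R (-1) 0
      (Q.obj ((single (ModuleCat.{u} R) (ComplexShape.up ℤ) (-1)).obj M)) :=
    hasTorAmplitudeIn_obj₃ _ hT (hasTorAmplitudeIn_single F 0) h (-1) 0 (by norm_num) le_rfl
      (by norm_num) le_rfl
  have h4 := hasTorAmplitudeIn_shift h3 (-1)
  let e1 : Q.obj ((single (ModuleCat.{u} R) (ComplexShape.up ℤ) (-1)).obj M) ≅
      (DerivedCategory.singleFunctor (ModuleCat.{u} R) (-1)).obj M :=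
    ((DerivedCategory.singleFunctorIsoCompQ (ModuleCat.{u} R) (-1)).app M).symm
  let e2 : ((DerivedCategory.singleFunctor (ModuleCat.{u} R) (-1)).obj M)⟦(-1 : ℤ)⟧ ≅
      (DerivedCategory.singleFunctor (ModuleCat.{u} R) 0).obj M :=
    ((DerivedCategory.singleFunctors (ModuleCat.{u} R)).shiftIso (-1) 0 (-1) (by norm_num)).app M
  have h5 : DRing.HasTorAmplitudeIn R 0 1 (Dual.inD R M) := by
    have := hasTorAmplitudeIn_of_iso
      ((CategoryTheory.shiftFunctor (DerivedCategory (ModuleCat.{u} R)) (-1 : ℤ)).mapIso e1 ≪≫ e2) h4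
    simpa using this
  exact flat_of_hasTorAmplitudeIn M 1 h5

end Groth.Agent.Lib.Helper16.TorAmpFlat
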