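import Mathlib
import Groth.Agent.Lib.Helper16.CotBC4
import Groth.Agent.Lib.Helper16.TorAmpFlat
import Groth.Agent.Lib.Helper16.NLPerf
import Groth.Agent.Lib.Helper16.SyntLCI2
import Groth.Agent.Lib.Helper16.SyntDesc8

/-!
# Flat finitely presented algebras with NL of tor-amplitude [-1,0] are local complete intersections
-/

set_option autoImplicit false
set_option linter.unusedSectionVars false
universe u
open TensorProduct Algebra CategoryTheory

namespace Groth.Agent.Lib.Helper16.CotBC

attribute [local instance] HasDerivedCategory.standard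

open Groth.Agent.Lib.Helper16.NLInv

variable {A B : Type u} [CommRing A] [CommRing B] [Algebra A B]

/-- tor-amplitude in `[-1,0]` of the naive cotangent complex forces the conormal module of any
extension with flat cotangent space to be flat -/
theorem flat_cotangent_of_torAmplitude (Q : Extension.{u} A B) [Module.Flat B Q.CotangentSpace]
    (φ : (Generators.self A B).toExtension.Hom Q) (ψ : Q.Hom (Generators.self A B).toExtension)
    (h : DRing.HasTorAmplitudeIn B (-1) 0 (LCI.NL A B)) : Module.Flat B Q.Cotangent := by
  have hQ : DRing.HasTorAmplitudeIn B (-1) 0 (DRing.toD (NLd Q)) :=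
    Groth.Agent.Lib.Helper13.DR.hasTorAmplitudeIn_of_iso (NLdIso φ ψ) h
  exact Groth.Agent.Lib.Helper16.TorAmpFlat.flat_of_hasTorAmplitudeIn_double
    (M := ModuleCat.of B Q.Cotangent) (F := ModuleCat.of B Q.CotangentSpace)
    (ModuleCat.ofHom Q.cotangentComplex) hQ

/-- the base change to a field of a flat algebra with a finite presentation whose conormal module
is flat is a local complete intersection -/
theorem isLCI_baseChange_of_flat_cotangent (k : Type u) [Field k] [Algebra A k] [Module.Flat A B]
    [Algebra.FiniteType A B] (n : ℕ) (G : Generators A B (Fin n))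
    [Module.Flat B G.toExtension.Cotangent] : LCI.IsLCI k (k ⊗[A] B) := by
  let Q := G.toExtension
  let Qk : Extension.{u} k (k ⊗[A] B) := Q.baseChange (T := k)
  have hfl : Module.Flat (k ⊗[A] B) Qk.Cotangent := flat_cotangent_baseChange Q k
  let E : Qk.Ring ≃ₐ[k] MvPolynomial (Fin n) k := MvPolynomial.algebraTensorAlgEquiv A k
  have hK : LCI.IsKoszulRegularIdeal Qk.ker :=
    isKoszulRegularIdeal_ker_of_flat_cotangent k Qk n E.toRingEquiv
  let α : Qk.Ring →ₐ[k] k ⊗[A] B := IsScalarTower.toAlgHom k Qk.Ring (k ⊗[A] B)
  refine ⟨inferInstance, n, α.comp E.symm.toAlgHom,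
    Qk.algebraMap_surjective.comp E.symm.surjective, ?_⟩
  have hker : RingHom.ker (α.comp E.symm.toAlgHom).toRingHom =
      Qk.ker.comap (E.symm.toRingEquiv : _ →+* _) := by
    ext x
    simp [RingHom.mem_ker, α]
  rw [hker, Groth.Agent.Lib.Helper16.KzComp.isKoszulRegularIdeal_comap_ringEquiv_iff]
  exact hK

/-- **S2234, hard direction**: a flat finitely presented algebra whose naive cotangent complex has
tor-amplitude in `[-1,0]` is a local complete intersection. -/
theorem isLCI_of_torAmplitude [Module.Flat A B] [Algebra.FinitePresentation A B]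
    (h : DRing.HasTorAmplitudeIn B (-1) 0 (LCI.NL A B)) : LCI.IsLCI A B := by
  obtain ⟨n, f, hsurj⟩ := Algebra.FiniteType.iff_quotient_mvPolynomial''.mp
    (inferInstance : Algebra.FiniteType A B)
  have hae : (MvPolynomial.aeval (R := A) (fun i => f (MvPolynomial.X i))) = f := by
    apply MvPolynomial.algHom_ext
    intro i
    simp
  let G : Generators A B (Fin n) :=
    Generators.ofSurjective (fun i => f (MvPolynomial.X i)) (by rw [hae]; exact hsurj)
  have hfree : Module.Free B G.toExtension.CotangentSpace :=
    Module.Free.of_basis G.cotangentSpaceBasis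
  have hflat : Module.Flat B G.toExtension.Cotangent :=
    flat_cotangent_of_torAmplitude G.toExtension (Extension.defaultHom (P := G.toExtension))
      (G.defaultHom (Generators.self A B)).toExtensionHom h
  have hsynt : Synt.IsSyntomic A B := by
    refine ⟨inferInstance, inferInstance, fun p => ?_⟩
    have hp : p.asIdeal.IsPrime := p.2
    exact Groth.Agent.Lib.Helper16.SyntLCI.isLCIOver_of_isLCI _ _
      (isLCI_baseChange_of_flat_cotangent p.asIdeal.ResidueField n G)
  exact Groth.Agent.Lib.Helper16.SyntLCI.isLCI_of_locally_relGCI A B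
    (fun q _ => Groth.Agent.Lib.Helper16.SyntDesc.locStr A B q hsynt)

end Groth.Agent.Lib.Helper16.CotBC
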