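import Mathlib
import Groth.Agent.Lib.Helper16.DoubleHtpy

/-!
# Isomorphisms of two-term complexes; a functor applied to a two-term complex
-/

set_option autoImplicit false
set_option linter.unusedSectionVars false
universe u

open CategoryTheory CategoryTheory.Limits HomologicalComplex

namespace Groth.Agent.Lib.Helper16.DoubleHtpy

variable {C : Type*} [Category C] [Preadditive C] [HasZeroObject C]
  {ι : Type*} {c : ComplexShape ι} {i₀ i₁ : ι} (hrel : c.Rel i₀ i₁) (hne : i₀ ≠ i₁)
  {X₀ X₁ Y₀ Y₁ : C} (f : X₀ ⟶ X₁) (g : Y₀ ⟶ Y₁)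

theorem isIso_doubleMap (α₀ : X₀ ⟶ Y₀) (α₁ : X₁ ⟶ Y₁) (comm : α₀ ≫ g = f ≫ α₁)
    [IsIso α₀] [IsIso α₁] : IsIso (doubleMap hrel hne f g α₀ α₁ comm) := by
  have : ∀ n, IsIso ((doubleMap hrel hne f g α₀ α₁ comm).f n) := by
    intro n
    by_cases hn0 : n = i₀
    · subst hn0
      rw [doubleMap_f₀]
      infer_instance
    · by_cases hn1 : n = i₁
      · subst hn1
        rw [doubleMap_f₁]
        infer_instance
      · exact ⟨⟨0, (isZero_double_X _ hrel n hn0 hn1).eq_of_src _ _,
          (isZero_double_X _ hrel n hn0 hn1).eq_of_src _ _⟩⟩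
  exact HomologicalComplex.Hom.isIso_of_components _

variable {D : Type*} [Category D] [Preadditive D] [HasZeroObject D]
  (F : C ⥤ D) [F.PreservesZeroMorphisms]

/-- a functor applied to a two-term complex -/
noncomputable def mapDoubleHom :
    double (F.map f) hrel ⟶ (F.mapHomologicalComplex c).obj (double f hrel) :=
  mkHomFromDouble hrel hne (F.map (doubleXIso₀ f hrel).inv) (F.map (doubleXIso₁ f hrel hne).inv)
    (by
      rw [Functor.mapHomologicalComplex_obj_d, double_d f hrel hne]
      exact (F.map_comp _ _).symm.trans ((congrArg F.map (by simp)).trans (F.map_comp _ _)))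
    (fun k _ => by
      rw [Functor.mapHomologicalComplex_obj_d, double_d_eq_zero₀ f hrel _ _ hne.symm, F.map_zero]
      exact comp_zero)

instance isIso_mapDoubleHom : IsIso (mapDoubleHom hrel hne f F) := by
  have : ∀ n, IsIso ((mapDoubleHom hrel hne f F).f n) := by
    intro n
    by_cases hn0 : n = i₀
    · subst hn0
      unfold mapDoubleHom
      rw [mkHomFromDouble_f₀]
      exact IsIso.comp_isIso' inferInstance (Functor.map_isIso F _)
    · by_cases hn1 : n = i₁
      · subst hn1
        unfold mapDoubleHom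
        rw [mkHomFromDouble_f₁]
        exact IsIso.comp_isIso' inferInstance (Functor.map_isIso F _)
      · exact ⟨⟨0, (isZero_double_X _ hrel n hn0 hn1).eq_of_src _ _,
          (F.map_isZero (isZero_double_X _ hrel n hn0 hn1)).eq_of_src _ _⟩⟩
  exact HomologicalComplex.Hom.isIso_of_components _

end Groth.Agent.Lib.Helper16.DoubleHtpy
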