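import Mathlib
import Groth.Prelude.Def_SheafNL
import Groth.Agent.Lib.Helper16.BcNL4
import Groth.Agent.Lib.Helper16.DoubleMap
import Groth.Agent.Lib.Helper16.CotBC5
import Groth.Agent.Lib.Helper13.FibreGlDim2
import Groth.Agent.Lib.Helper13.DRingLocalSplit
import Groth.Agent.S6901

/-!
# Derived base change of the naive cotangent complex along a flat cocartesian square
-/

set_option autoImplicit false
set_option linter.unusedSectionVars false
universe u
open TensorProduct Algebra CategoryTheory CategoryTheory.Limits HomologicalComplex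

attribute [local instance] HasDerivedCategory.standard

namespace Groth.Agent.Lib.Helper16.BcNL

open Groth.Agent.Lib.Helper16.DoubleHtpy Groth.Agent.Lib.Helper16.NLInv
open Groth.Agent.Lib.Helper13.DR

section ext

variable {R S : Type u} [CommRing R] [CommRing S] [Algebra R S] (P : Extension.{u} R S)
  (S' : Type u) [CommRing S'] [Algebra S S']

theorem ext_comm :
    (extendScalarsIso S' (ModuleCat.of S P.Cotangent)).hom ≫
        ModuleCat.ofHom (P.cotangentComplex.baseChange S') =
      (ModuleCat.extendScalars.{u, u, u} (algebraMap S S')).map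
          (ModuleCat.ofHom P.cotangentComplex) ≫
        (extendScalarsIso S' (ModuleCat.of S P.CotangentSpace)).hom := by
  apply ModuleCat.hom_ext
  apply LinearMap.ext
  intro z
  exact (extendScalarsEquiv_naturality S' (ModuleCat.ofHom P.cotangentComplex) z).symm

theorem nonempty_extNLdIso :
    Nonempty ((DTen.extCx (algebraMap S S')).obj (NLd P) ≅ bcD P S') := by
  have h1 := isIso_mapDoubleHom rel ne (ModuleCat.ofHom P.cotangentComplex)
    (ModuleCat.extendScalars.{u, u, u} (algebraMap S S'))
  have h2 := isIso_doubleMap rel ne _ _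
    (extendScalarsIso S' (ModuleCat.of S P.Cotangent)).hom
    (extendScalarsIso S' (ModuleCat.of S P.CotangentSpace)).hom (ext_comm P S')
  exact ⟨(asIso (mapDoubleHom rel ne (ModuleCat.ofHom P.cotangentComplex)
    (ModuleCat.extendScalars.{u, u, u} (algebraMap S S')))).symm ≪≫ asIso (doubleMap rel ne _ _
    (extendScalarsIso S' (ModuleCat.of S P.Cotangent)).hom
    (extendScalarsIso S' (ModuleCat.of S P.CotangentSpace)).hom (ext_comm P S'))⟩

theorem kflat_NLd [Module.Flat S P.Cotangent] [Module.Flat S P.CotangentSpace] :
    Groth.Agent.Lib.Helper13.HT.KFlat (NLd P) := by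
  refine Groth.Agent.S6901.result S (NLd P) 0 ?_ ?_
  · intro i hi
    exact isZero_double_X _ rel i (by omega) (by omega)
  · intro i
    by_cases hn0 : i = -1
    · subst hn0
      exact Module.Flat.of_linearEquiv
        (doubleXIso₀ (ModuleCat.ofHom P.cotangentComplex) rel).toLinearEquiv
    · by_cases hn1 : i = 0
      · subst hn1
        exact Module.Flat.of_linearEquiv
          (doubleXIso₁ (ModuleCat.ofHom P.cotangentComplex) rel ne).toLinearEquiv
      · have := ModuleCat.subsingleton_of_isZero (isZero_double_X
          (ModuleCat.ofHom P.cotangentComplex) rel i hn0 hn1)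
        infer_instance

end ext

section main

variable (A B A' B' : Type u) [CommRing A] [CommRing B]
    [CommRing A'] [CommRing B'] [Algebra A B] [Algebra A' B'] [Algebra A A'] [Algebra B B']
    [Algebra A B'] [IsScalarTower A A' B'] [IsScalarTower A B B']

theorem nonempty_LBaseChange_NL_iso [Algebra.IsPushout A A' B B'] [Module.Flat A B]
    (h : DRing.HasTorAmplitudeIn B (-1) 0 (LCI.NL A B))
    [DRing.HasLBaseChange (algebraMap B B')] :
    Nonempty ((DRing.LBaseChange (algebraMap B B')).obj (LCI.NL A B) ≅ LCI.NL A' B') := by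
  have hfree : Module.Free B (Generators.self A B).toExtension.CotangentSpace :=
    Module.Free.of_basis (Generators.self A B).cotangentSpaceBasis
  have hflat : Module.Flat B (Generators.self A B).toExtension.Cotangent :=
    Groth.Agent.Lib.Helper16.CotBC.flat_cotangent_of_torAmplitude (Generators.self A B).toExtension
      (Extension.Hom.id _) (Extension.Hom.id _) h
  have hK := kflat_NLd (Generators.self A B).toExtension
  obtain ⟨e1⟩ := Groth.Agent.Lib.Helper13.FG.nonempty_LBaseChange_iso_of_kflat (algebraMap B B')
    (NLd (Generators.self A B).toExtension) hK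
  obtain ⟨e2⟩ := nonempty_extNLdIso (Generators.self A B).toExtension B'
  have hq : QuasiIso (NLCx.bcMapSelf A B A' B') := quasiIso_bcMapSelf_of_flat A B A' B'
  have hq' : IsIso (DerivedCategory.Q.map (NLCx.bcMapSelf A B A' B')) := by
    rw [DerivedCategory.isIso_Q_map_iff_quasiIso]
    exact hq
  exact ⟨e1 ≪≫ DerivedCategory.Q.mapIso e2 ≪≫
    @asIso _ _ _ _ (DerivedCategory.Q.map (NLCx.bcMapSelf A B A' B')) hq'⟩

end main

end Groth.Agent.Lib.Helper16.BcNL
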