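import Mathlib
import Groth.Prelude.Def_CAlg
import Groth.Agent.Lib.Helper18.CM4
import Groth.Agent.Lib.Helper18.FlatDepth
import Groth.Agent.Lib.Helper16.CMHeightFormula

/-!
# Weak unmixedness: complete-intersection ideals have no embedded component at a big CM prime (helper16)

`CIAss.not_mem_associatedPrimes`: `m` prime of Noetherian `S` with `S_m` Cohen–Macaulay, `J ≤ m`
generated by `r` elements, `r ≤ ht J`, `r < ht m` ⟹ `m ∉ Ass (S ⧸ J)`.
-/

set_option autoImplicit false
universe u
open IsLocalRing

namespace Groth.Agent.Lib.Helper16.CIAss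

open Groth.Agent.Lib.Helper18.CM Groth.Agent.Lib.Helper16.CMHt

variable {S : Type u} [CommRing S] [IsNoetherianRing S]

/-- **Unmixedness, weak form.** Let `m` be a prime of a Noetherian ring `S` whose localization is
Cohen–Macaulay, and let `J ≤ m` be generated by `r` elements with `r ≤ ht J` and `r < ht m`.
Then `m` is not an associated prime of `S ⧸ J`. -/
theorem not_mem_associatedPrimes (m : Ideal S) [hm : m.IsPrime]
    (hCM : LocCoh.IsCohenMacaulayModule (Localization.AtPrime m) (Localization.AtPrime m))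
    (r : ℕ) (f : Fin r → S) (hfm : ∀ i, f i ∈ m)
    (hJ : (r : ℕ∞) ≤ (Ideal.span (Set.range f)).height) (hrm : (r : ℕ∞) < m.height) :
    m ∉ associatedPrimes S (S ⧸ Ideal.span (Set.range f)) := by
  intro hass
  set J := Ideal.span (Set.range f) with hJdef
  set A := Localization.AtPrime m with hA
  let xs : List A := List.ofFn (fun i => algebraMap S A (f i))
  have hlen : xs.length = r := List.length_ofFn
  have hofList : Ideal.ofList xs = J.map (algebraMap S A) := by
    rw [hJdef, Ideal.map_span, Ideal.ofList]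
    congr 1
    ext x
    simp only [xs, List.mem_ofFn, Set.mem_ofPred_eq, Set.mem_image, Set.mem_range]
    constructor
    · rintro ⟨i, rfl⟩; exact ⟨f i, ⟨i, rfl⟩, rfl⟩
    · rintro ⟨_, ⟨i, rfl⟩, rfl⟩; exact ⟨i, rfl⟩
  have hxs : ∀ x ∈ xs, x ∈ maximalIdeal A := by
    intro x hx
    simp only [xs, List.mem_ofFn] at hx
    obtain ⟨i, rfl⟩ := hx
    exact (IsLocalization.AtPrime.to_map_mem_maximal_iff A m (f i)).mpr (hfm i)
  have hJm : J ≤ m := by
    rw [hJdef, Ideal.span_le]; rintro _ ⟨i, rfl⟩; exact hfm i
  have hne : Ideal.ofList xs ≠ ⊤ := by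
    intro h
    have : Ideal.ofList xs ≤ maximalIdeal A := by
      rw [Ideal.ofList, Ideal.span_le]; exact fun x hx => hxs x hx
    rw [h] at this
    exact (maximalIdeal.isMaximal A).ne_top (top_le_iff.mp this)
  have hht : (r : ℕ∞) ≤ (Ideal.ofList xs).height := by
    rw [hofList, ← IsLocalization.height_under m.primeCompl (J.map (algebraMap S A))]
    exact hJ.trans (Ideal.height_mono Ideal.le_comap_map)
  have hform := height_add_ringKrullDim_quotient A hCM (Ideal.ofList xs) hne
  have hdimA : ringKrullDim A = ((m.height : ℕ∞) : WithBot ℕ∞) :=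
    IsLocalization.AtPrime.ringKrullDim_eq_height m A
  -- the quotient module
  let e : (A ⧸ (Ideal.ofList xs • ⊤ : Submodule A A)) ≃ₗ[A] (A ⧸ Ideal.ofList xs) :=
    Submodule.quotEquivOfEq _ _ (by simp)
  have hsd : Module.supportDim A (A ⧸ (Ideal.ofList xs • ⊤ : Submodule A A)) =
      ringKrullDim (A ⧸ Ideal.ofList xs) := by
    rw [Module.supportDim_eq_of_equiv e, Module.supportDim_quotient_eq_ringKrullDim]
  obtain ⟨hiff, hcm⟩ := isWeaklyRegular_iff_supportDim_and_isCohenMacaulayModule xs hxs A hCM
  have hge := supportDim_le_quot_ofList_add_length xs hxs A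
  have heq : Module.supportDim A (A ⧸ (Ideal.ofList xs • ⊤ : Submodule A A)) + xs.length =
      Module.supportDim A A := by
    apply le_antisymm _ hge
    rw [hsd, Module.supportDim_self_eq_ringKrullDim, ← hform, hlen, add_comm]
    have h4 : ((r : ℕ∞) : WithBot ℕ∞) ≤ (((Ideal.ofList xs).height : ℕ∞) : WithBot ℕ∞) := by
      exact_mod_cast hht
    exact add_le_add h4 le_rfl
  have hcmq := hcm (hiff.mpr heq)
  -- depth zero from the associated prime
  have hd0 : LocCoh.depth A (A ⧸ (Ideal.ofList xs • ⊤ : Submodule A A)) = 0 := by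
    rw [depth_eq_zero_iff_exists_socle]
    obtain ⟨-, z, hz⟩ := (isAssociatedPrime_iff (M := S ⧸ J)).mp hass
    obtain ⟨y, rfl⟩ := Ideal.Quotient.mk_surjective z
    have hmem : ∀ a : S, a ∈ m ↔ a * y ∈ J := by
      intro a
      rw [hz, Submodule.mem_colon_singleton, Submodule.mem_bot]
      change Submodule.Quotient.mk (a • y) = 0 ↔ _
      rw [Submodule.Quotient.mk_eq_zero]
      rfl
    refine ⟨Submodule.Quotient.mk (algebraMap S A y), ?_, ?_⟩
    · intro h0
      rw [Submodule.Quotient.mk_eq_zero] at h0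
      have h1 : algebraMap S A y ∈ J.map (algebraMap S A) := by
        rw [← hofList]; simpa using h0
      rw [IsLocalization.algebraMap_mem_map_algebraMap_iff m.primeCompl] at h1
      obtain ⟨t, ht, hty⟩ := h1
      exact ht ((hmem t).mpr hty)
    · intro a ha
      obtain ⟨b, s, rfl⟩ := IsLocalization.exists_mk'_eq m.primeCompl a
      rw [IsLocalization.AtPrime.mk'_mem_maximal_iff A m] at ha
      change Submodule.Quotient.mk (IsLocalization.mk' A b s • algebraMap S A y) = 0
      rw [Submodule.Quotient.mk_eq_zero]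
      have h2 : IsLocalization.mk' A b s • algebraMap S A y = IsLocalization.mk' A (b * y) s := by
        rw [smul_eq_mul, mul_comm, IsLocalization.mul_mk'_eq_mk'_of_mul, mul_comm]
      rw [h2]
      have h3 : IsLocalization.mk' A (b * y) s ∈ J.map (algebraMap S A) := by
        rw [IsLocalization.mk'_mem_map_algebraMap_iff m.primeCompl]
        exact ⟨1, m.primeCompl.one_mem, by simpa using (hmem b).mp ha⟩
      rw [← hofList] at h3
      simpa using h3
  -- conclude
  unfold LocCoh.IsCohenMacaulayModule at hcmq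
  rw [hd0] at hcmq
  rw [hcmq, Module.supportDim_self_eq_ringKrullDim, hdimA, hlen] at heq
  have : ((r : ℕ∞) : WithBot ℕ∞) = ((m.height : ℕ∞) : WithBot ℕ∞) := by
    simpa using heq
  have h' : (r : ℕ∞) = m.height := by exact_mod_cast this
  exact (ne_of_lt hrm) h'

end Groth.Agent.Lib.Helper16.CIAss
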