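import Mathlib
import Groth.Agent.S0321
import Groth.Agent.Lib.Helper18.FamCyc3
import Groth.Agent.Lib.Helper18.CM2
import Groth.Agent.Lib.Helper11.DepthLoc

/-!
# Cohen-Macaulayness of A/(I ∩ J) at a maximal ideal (helper16)

* idealDepth_eq_of_isMaximal, idealDepth_quotient_eq : m-depth of A/X is the depth of the local ring (A/X)_m for m maximal.
* diag, diff, exact_diag_diff : the sequence 0 → A/(I ∩ J) → A/I × A/J → A/(I + J) → 0.
* min_le_idealDepth_prod.
* cm_inf : if (A/I)_m, (A/J)_m have depth ≥ e, (A/(I+J))_m has depth ≥ e - 1 and dim (A/(I ∩ J))_m ≤ e then (A/(I ∩ J))_m is Cohen-Macaulay of dimension e.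
-/

set_option autoImplicit false
universe v

namespace Groth.Agent.Lib.Helper16.CMInf

variable {A : Type v} [CommRing A]

section ses

variable (I J : Ideal A)

/-- `A/(I ∩ J) → A/I × A/J`. -/
noncomputable def diag : (A ⧸ (I ⊓ J)) →ₗ[A] (A ⧸ I) × (A ⧸ J) :=
  (Submodule.mapQ (I ⊓ J) I LinearMap.id (by
    intro x hx
    exact (Submodule.mem_inf.mp hx).1)).prod
  (Submodule.mapQ (I ⊓ J) J LinearMap.id (by
    intro x hx
    exact (Submodule.mem_inf.mp hx).2))

/-- `A/I × A/J → A/(I + J)`, the difference. -/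
noncomputable def diff : (A ⧸ I) × (A ⧸ J) →ₗ[A] (A ⧸ (I ⊔ J)) :=
  (Submodule.mapQ I (I ⊔ J) LinearMap.id (by
    intro x hx
    exact Ideal.mem_sup_left hx)).coprod
  (-(Submodule.mapQ J (I ⊔ J) LinearMap.id (by
    intro x hx
    exact Ideal.mem_sup_right hx)))

theorem diag_mk (x : A) :
    diag I J (Ideal.Quotient.mk (I ⊓ J) x) = (Ideal.Quotient.mk I x, Ideal.Quotient.mk J x) := rfl

theorem diff_mk (x y : A) :
    diff I J (Ideal.Quotient.mk I x, Ideal.Quotient.mk J y) =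
      Ideal.Quotient.mk (I ⊔ J) x - Ideal.Quotient.mk (I ⊔ J) y := by
  unfold diff
  rw [LinearMap.coprod_apply, LinearMap.neg_apply, ← sub_eq_add_neg]
  rfl

theorem diag_injective : Function.Injective (diag I J) := by
  rw [← LinearMap.ker_eq_bot, LinearMap.ker_eq_bot']
  intro z hz
  obtain ⟨x, rfl⟩ := Ideal.Quotient.mk_surjective z
  rw [diag_mk, Prod.mk_eq_zero, Ideal.Quotient.eq_zero_iff_mem, Ideal.Quotient.eq_zero_iff_mem] at hz
  rw [Ideal.Quotient.eq_zero_iff_mem]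
  exact ⟨hz.1, hz.2⟩

theorem diff_surjective : Function.Surjective (diff I J) := by
  intro z
  obtain ⟨x, rfl⟩ := Ideal.Quotient.mk_surjective z
  refine ⟨(Ideal.Quotient.mk I x, Ideal.Quotient.mk J 0), ?_⟩
  rw [diff_mk, map_zero, sub_zero]

theorem exact_diag_diff : Function.Exact (diag I J) (diff I J) := by
  intro w
  obtain ⟨a, b⟩ := w
  obtain ⟨x, rfl⟩ := Ideal.Quotient.mk_surjective a
  obtain ⟨y, rfl⟩ := Ideal.Quotient.mk_surjective b
  constructor
  · intro h
    rw [diff_mk, ← map_sub, Ideal.Quotient.eq_zero_iff_mem, Submodule.mem_sup] at h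
    obtain ⟨i, hi, j, hj, hij⟩ := h
    refine ⟨Ideal.Quotient.mk (I ⊓ J) (x - i), ?_⟩
    rw [diag_mk, Prod.mk.injEq]
    constructor
    · rw [Ideal.Quotient.eq]
      have : x - i - x = -i := by ring
      rw [this]
      exact I.neg_mem hi
    · rw [Ideal.Quotient.eq]
      have : x - i - y = j := by linear_combination -hij
      rw [this]
      exact hj
  · rintro ⟨z, hz⟩
    obtain ⟨t, rfl⟩ := Ideal.Quotient.mk_surjective z
    rw [diag_mk, Prod.mk.injEq] at hz
    rw [← hz.1, ← hz.2, diff_mk, sub_self]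

end ses

variable [IsNoetherianRing A]

/-- for a maximal ideal, the ideal-depth equals the depth of the localization. -/
theorem idealDepth_eq_of_isMaximal (m : Ideal A) [hm : m.IsMaximal] (M : Type v)
    [AddCommGroup M] [Module A M] [Module.Finite A M] :
    LocCoh.idealDepth m M =
      LocCoh.depth (Localization.AtPrime m) (LocalizedModule m.primeCompl M) := by
  rw [Groth.Agent.Lib.Helper11.DepthLoc.idealDepth_eq_iInf]
  apply le_antisymm
  · exact iInf₂_le (⟨m, hm.isPrime⟩ : PrimeSpectrum A) le_rfl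
  · refine le_iInf₂ fun p hp => ?_
    obtain ⟨p, hpp⟩ := p
    have hmp : m = p := hm.eq_of_le hpp.ne_top hp
    subst hmp
    exact le_rfl

/-- the `m`-depth of `A/X` is the depth of the local ring `(A/X)_{m/X}`. -/
theorem idealDepth_quotient_eq (m : Ideal A) [hm : m.IsMaximal] (X : Ideal A) (hXm : X ≤ m)
    [hX : (m.map (Ideal.Quotient.mk X)).IsPrime] :
    LocCoh.idealDepth m (A ⧸ X) =
      LocCoh.depth (Localization.AtPrime (m.map (Ideal.Quotient.mk X)))
        (Localization.AtPrime (m.map (Ideal.Quotient.mk X))) := by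
  have : m.IsPrime := hm.isPrime
  rw [idealDepth_eq_of_isMaximal m (A ⧸ X),
    Groth.Agent.Lib.Helper18.FamCyc.depth_localizedModule_quotient X m hXm]


/-- depth of a product is at least the minimum. -/
theorem min_le_idealDepth_prod (m : Ideal A) (N₁ N₂ : Type v) [AddCommGroup N₁] [Module A N₁]
    [Module.Finite A N₁] [AddCommGroup N₂] [Module A N₂] [Module.Finite A N₂] :
    min (LocCoh.idealDepth m N₁) (LocCoh.idealDepth m N₂) ≤ LocCoh.idealDepth m (N₁ × N₂) := by
  refine (Groth.Agent.S0321.result A m N₁ (N₁ × N₂) N₂ (LinearMap.inl A N₁ N₂)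
    (LinearMap.snd A N₁ N₂) LinearMap.inl_injective LinearMap.snd_surjective ?_).1
  intro w
  constructor
  · intro h
    refine ⟨w.1, ?_⟩
    ext
    · rfl
    · exact h.symm
  · rintro ⟨z, rfl⟩
    rfl

/-- **Local form**: if `(A/I)_m`, `(A/J)_m` have depth `≥ e`, `(A/(I+J))_m` has depth `≥ e - 1`
and `dim (A/(I ∩ J))_m ≤ e` then `(A/(I ∩ J))_m` is Cohen–Macaulay of dimension `e`. -/
theorem cm_inf (m : Ideal A) [hm : m.IsMaximal] (I J : Ideal A) (hIm : I ≤ m) (hJm : J ≤ m)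
    (e : ℕ) (he : 1 ≤ e)
    [hI' : (m.map (Ideal.Quotient.mk I)).IsPrime] [hJ' : (m.map (Ideal.Quotient.mk J)).IsPrime]
    [hIJ' : (m.map (Ideal.Quotient.mk (I ⊔ J))).IsPrime]
    [hinf : (m.map (Ideal.Quotient.mk (I ⊓ J))).IsPrime]
    (hdI : (e : ℕ∞) ≤ LocCoh.depth (Localization.AtPrime (m.map (Ideal.Quotient.mk I)))
      (Localization.AtPrime (m.map (Ideal.Quotient.mk I))))
    (hdJ : (e : ℕ∞) ≤ LocCoh.depth (Localization.AtPrime (m.map (Ideal.Quotient.mk J)))
      (Localization.AtPrime (m.map (Ideal.Quotient.mk J))))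
    (hdIJ : ((e - 1 : ℕ) : ℕ∞) ≤
      LocCoh.depth (Localization.AtPrime (m.map (Ideal.Quotient.mk (I ⊔ J))))
        (Localization.AtPrime (m.map (Ideal.Quotient.mk (I ⊔ J)))))
    (hdim : ringKrullDim (Localization.AtPrime (m.map (Ideal.Quotient.mk (I ⊓ J)))) ≤
      (e : WithBot ℕ∞)) :
    LocCoh.IsCohenMacaulayLocalRing (Localization.AtPrime (m.map (Ideal.Quotient.mk (I ⊓ J)))) ∧
      ringKrullDim (Localization.AtPrime (m.map (Ideal.Quotient.mk (I ⊓ J)))) =
        (e : WithBot ℕ∞) := by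
  have hIJm : I ⊔ J ≤ m := sup_le hIm hJm
  have hinfm : I ⊓ J ≤ m := inf_le_left.trans hIm
  rw [← idealDepth_quotient_eq m I hIm] at hdI
  rw [← idealDepth_quotient_eq m J hJm] at hdJ
  rw [← idealDepth_quotient_eq m (I ⊔ J) hIJm] at hdIJ
  have h1 := min_le_idealDepth_prod m (A ⧸ I) (A ⧸ J)
  have h2 := (Groth.Agent.S0321.result A m (A ⧸ (I ⊓ J)) ((A ⧸ I) × (A ⧸ J)) (A ⧸ (I ⊔ J))
    (diag I J) (diff I J) (diag_injective I J) (diff_surjective I J) (exact_diag_diff I J)).2.2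
  have h3 : (e : ℕ∞) ≤ LocCoh.idealDepth m (A ⧸ (I ⊓ J)) := by
    refine le_trans (le_min ((le_min hdI hdJ).trans h1) ?_) h2
    have h4 : ((e - 1 : ℕ) : ℕ∞) + 1 ≤ LocCoh.idealDepth m (A ⧸ (I ⊔ J)) + 1 := by gcongr
    have h5 : ((e - 1 : ℕ) : ℕ∞) + 1 = (e : ℕ∞) := by
      have : e - 1 + 1 = e := by omega
      exact_mod_cast this
    rwa [h5] at h4
  rw [idealDepth_quotient_eq m (I ⊓ J) hinfm] at h3
  have h6 := Groth.Agent.Lib.Helper18.CM.depth_le_supportDim
    (R := Localization.AtPrime (m.map (Ideal.Quotient.mk (I ⊓ J))))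
    (Localization.AtPrime (m.map (Ideal.Quotient.mk (I ⊓ J))))
  rw [Module.supportDim_self_eq_ringKrullDim] at h6
  have h7 : ((e : ℕ∞) : WithBot ℕ∞) ≤ ((LocCoh.depth
      (Localization.AtPrime (m.map (Ideal.Quotient.mk (I ⊓ J))))
      (Localization.AtPrime (m.map (Ideal.Quotient.mk (I ⊓ J)))) : ℕ∞) : WithBot ℕ∞) :=
    WithBot.coe_le_coe.mpr h3
  have hdimeq : ringKrullDim (Localization.AtPrime (m.map (Ideal.Quotient.mk (I ⊓ J)))) =
      (e : WithBot ℕ∞) := le_antisymm hdim (h7.trans h6)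
  refine ⟨{ supportDim_eq_depth := ?_ }, hdimeq⟩
  rw [Module.supportDim_self_eq_ringKrullDim]
  apply le_antisymm
  · rw [hdimeq]
    exact h7
  · exact h6

end Groth.Agent.Lib.Helper16.CMInf
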