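import Groth.Agent.Lib.Helper16.DTBasic

/-!
# The exact sequence `M → D_I(M) → H^1_I(M) → 0` (helper16)

* `descDT` : maps out of the ideal transform from compatible families.
* `conn` : connecting map `Hom(X₁, M) → Ext^1(X₃, M)`; `SP I k : 0 → I^k → R → R/I^k → 0`.
* `θ : D_I(M) → H^1_I(M)`, `θ_surjective`, `ker_θ`, `cokerEquiv`.
* `subsingleton_H_succ_of_regular`, `toDT_bijective_of_regular`.
-/

set_option autoImplicit false
universe u
open CategoryTheory Opposite Limits

namespace Groth.Agent.Lib.Helper16.DTL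

open Groth.Agent.Lib.Helper16.LC Groth.Agent.Lib.Helper16.Depth

variable {R : Type u} [CommRing R] (I : Ideal R) (M : ModuleCat.{u} R)

section desc

variable {T : ModuleCat.{u} R} (φ : ∀ k, (P I k ⟶ M) →ₗ[R] T)
  (hφ : ∀ (k l : ℕ) (h : k ≤ l) (f : P I k ⟶ M), φ l (incl I h ≫ f) = φ k f)

/-- A compatible family of linear maps out of the `Hom(I^k, M)` induces a cocone. -/
noncomputable def descCoconeT : Cocone (TDM I M) where
  pt := T
  ι :=
    { app := fun k => ModuleCat.ofHom (φ k.unop.unop)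
      naturality := by
        intro k l f
        rcases k with ⟨⟨k⟩⟩
        rcases l with ⟨⟨l⟩⟩
        have hkl : k ≤ l := leOfHom f.unop.unop
        have hf : f = ((homOfLE hkl).op.op : op (op k) ⟶ op (op l)) :=
          Subsingleton.elim _ _
        subst hf
        apply ModuleCat.hom_ext
        apply LinearMap.ext
        intro g
        exact hφ k l hkl g }

/-- The linear map out of the ideal transform induced by a compatible family. -/
noncomputable def descDT : (LocCoh.idealTransform I).obj M →ₗ[R] T :=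
  ((isColimitCoconeT I M).desc (descCoconeT I M φ hφ)).hom

theorem descDT_κ {k : ℕ} (f : P I k ⟶ M) : descDT I M φ hφ (κ I M k f) = φ k f := by
  have := (isColimitCoconeT I M).fac (descCoconeT I M φ hφ) (op (op k))
  have h2 := LinearMap.congr_fun (congrArg ModuleCat.Hom.hom this) f
  rw [ModuleCat.hom_comp, LinearMap.comp_apply] at h2
  exact h2

end desc

section seq

/-- The short complex `0 → I^k → R → R/I^k → 0`. -/
noncomputable def SP (k : ℕ) : ShortComplex (ModuleCat.{u} R) :=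
  ModuleCat.shortComplexOfCompEqZero (I ^ k).subtype (I ^ k).mkQ
    (LinearMap.exact_subtype_mkQ (I ^ k)).linearMap_comp_eq_zero

theorem SP_shortExact (k : ℕ) : (SP I k).ShortExact :=
  shortExact_of_linearMaps (I ^ k).subtype (I ^ k).mkQ (Submodule.injective_subtype _)
    (Submodule.mkQ_surjective _) (LinearMap.exact_subtype_mkQ _)

/-- The map of short complexes induced by `I^l ≤ I^k`. -/
noncomputable def SPmap {k l : ℕ} (h : k ≤ l) : SP I l ⟶ SP I k where
  τ₁ := incl I h
  τ₂ := 𝟙 _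
  τ₃ := quotMap I h
  comm₁₂ := by
    apply ModuleCat.hom_ext
    apply LinearMap.ext
    intro x
    rfl
  comm₂₃ := by
    apply ModuleCat.hom_ext
    apply LinearMap.ext
    intro x
    rfl

/-- The connecting map `Hom(X₁, M) → Ext^1(X₃, M)` of a short exact sequence. -/
noncomputable def conn {S : ShortComplex (ModuleCat.{u} R)} (hS : S.ShortExact)
    (M : ModuleCat.{u} R) : (S.X₁ ⟶ M) →ₗ[R] Abelian.Ext.{u} S.X₃ M 1 where
  toFun f := hS.extClass.comp (Abelian.Ext.mk₀ f) (add_zero 1)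
  map_add' := by intro a b; simp [Abelian.Ext.mk₀_add]
  map_smul' := by intro r a; simp [Abelian.Ext.mk₀_smul]

theorem conn_apply {S : ShortComplex (ModuleCat.{u} R)} (hS : S.ShortExact)
    (M : ModuleCat.{u} R) (f : S.X₁ ⟶ M) :
    conn hS M f = hS.extClass.comp (Abelian.Ext.mk₀ f) (add_zero 1) := rfl

theorem conn_naturality {S₁ S₂ : ShortComplex (ModuleCat.{u} R)} (h₁ : S₁.ShortExact)
    (h₂ : S₂.ShortExact) (φ : S₁ ⟶ S₂) (M : ModuleCat.{u} R) (f : S₂.X₁ ⟶ M) :
    conn h₁ M (φ.τ₁ ≫ f) = (Abelian.Ext.mk₀ φ.τ₃).comp (conn h₂ M f) (zero_add 1) := by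
  rw [conn_apply, conn_apply, ← Abelian.Ext.mk₀_comp_mk₀,
    ← Abelian.Ext.comp_assoc_of_third_deg_zero,
    ShortComplex.ShortExact.extClass_naturality h₁ h₂ φ,
    Abelian.Ext.comp_assoc_of_third_deg_zero]

theorem conn_f_comp {S : ShortComplex (ModuleCat.{u} R)} (hS : S.ShortExact)
    (M : ModuleCat.{u} R) (g : S.X₂ ⟶ M) : conn hS M (S.f ≫ g) = 0 := by
  rw [conn_apply, ← Abelian.Ext.mk₀_comp_mk₀]
  exact hS.extClass_comp_assoc _

theorem conn_eq_zero_iff {S : ShortComplex (ModuleCat.{u} R)} (hS : S.ShortExact)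
    (M : ModuleCat.{u} R) (f : S.X₁ ⟶ M) : conn hS M f = 0 ↔ ∃ g : S.X₂ ⟶ M, S.f ≫ g = f := by
  constructor
  · intro h
    obtain ⟨x₂, hx₂⟩ := Abelian.Ext.contravariant_sequence_exact₁ hS M (Abelian.Ext.mk₀ f)
      (add_zero 1) h
    obtain ⟨g, rfl⟩ := (Abelian.Ext.mk₀_bijective.{u} _ _).2 x₂
    rw [Abelian.Ext.mk₀_comp_mk₀] at hx₂
    exact ⟨g, (Abelian.Ext.mk₀_bijective.{u} _ _).1 hx₂⟩
  · rintro ⟨g, rfl⟩
    exact conn_f_comp hS M g

theorem conn_surjective_of_projective {S : ShortComplex (ModuleCat.{u} R)} (hS : S.ShortExact)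
    [Projective S.X₂] (M : ModuleCat.{u} R) : Function.Surjective (conn hS M) := by
  intro e
  obtain ⟨x₁, hx₁⟩ := Abelian.Ext.contravariant_sequence_exact₃ hS M e
    (Abelian.Ext.eq_zero_of_projective _) (add_zero 1)
  obtain ⟨f, rfl⟩ := (Abelian.Ext.mk₀_bijective.{u} _ _).2 x₁
  exact ⟨f, hx₁⟩

/-- The connecting map `Hom(I^k, M) → Ext^1(R/I^k, M)`. -/
noncomputable def θk (k : ℕ) : (P I k ⟶ M) →ₗ[R] E I 1 M k :=
  conn (SP_shortExact I k) M

theorem θk_incl {k l : ℕ} (h : k ≤ l) (f : P I k ⟶ M) :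
    θk I M l (incl I h ≫ f) = trans I 1 M h (θk I M k f) :=
  conn_naturality (SP_shortExact I l) (SP_shortExact I k) (SPmap I h) M f

/-- The canonical map `θ : D_I(M) → H^1_I(M)`. -/
noncomputable def θ : (LocCoh.idealTransform I).obj M →ₗ[R] (localCohomology I 1).obj M :=
  descDT I M (fun k => (ι I 1 M k).comp (θk I M k)) (by
    intro k l h f
    simp only [LinearMap.comp_apply]
    rw [θk_incl, ι_trans])

theorem θ_κ {k : ℕ} (f : P I k ⟶ M) : θ I M (κ I M k f) = ι I 1 M k (θk I M k f) :=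
  descDT_κ I M _ _ f

theorem projective_self : Projective (ModuleCat.of R R) :=
  (IsProjective.iff_projective _).mp inferInstance

theorem θk_surjective (k : ℕ) : Function.Surjective (θk I M k) := by
  have : Projective (SP I k).X₂ := projective_self
  exact conn_surjective_of_projective (SP_shortExact I k) M

theorem θk_eq_zero_iff (k : ℕ) (f : P I k ⟶ M) :
    θk I M k f = 0 ↔ ∃ m : M, f = smulMor I M k m := by
  have h := conn_eq_zero_iff (SP_shortExact I k) M f
  constructor
  · intro h0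
    obtain ⟨g, hg⟩ : ∃ g : ModuleCat.of R R ⟶ M,
      ModuleCat.ofHom (I ^ k).subtype ≫ g = f := h.mp h0
    refine ⟨g.hom (1 : R), ?_⟩
    rw [← hg]
    apply ModuleCat.hom_ext
    apply LinearMap.ext
    intro (r : ↥(I ^ k))
    change g.hom (r : R) = (r : R) • g.hom (1 : R)
    rw [← map_smul, smul_eq_mul, mul_one]
  · rintro ⟨m, rfl⟩
    exact h.mpr ⟨ModuleCat.ofHom (LinearMap.toSpanSingleton R M m), rfl⟩

theorem θ_surjective : Function.Surjective (θ I M) := by
  intro x
  obtain ⟨k, e, rfl⟩ := ι_jointly_surjective I 1 M x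
  obtain ⟨f, rfl⟩ := θk_surjective I M k e
  exact ⟨κ I M k f, θ_κ I M f⟩

end seq

section exactness

variable (N : Type u) [AddCommGroup N] [Module R N]

theorem θ_toDT (m : N) : θ I (ModuleCat.of R N) (LocCoh.toDT I N m) = 0 := by
  rw [toDT_eq I N m 0, θ_κ, (θk_eq_zero_iff I (ModuleCat.of R N) 0 _).mpr ⟨m, rfl⟩, map_zero]

/-- Exactness of `M → D_I(M) → H^1_I(M)`. -/
theorem ker_θ : LinearMap.ker (θ I (ModuleCat.of R N)) = LinearMap.range (LocCoh.toDT I N) := by
  apply le_antisymm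
  · intro x hx
    rw [LinearMap.mem_ker] at hx
    obtain ⟨k, f, rfl⟩ := κ_jointly_surjective I (ModuleCat.of R N) x
    rw [θ_κ, ι_eq_zero_iff] at hx
    obtain ⟨l, h, hl⟩ := hx
    rw [← θk_incl, θk_eq_zero_iff] at hl
    obtain ⟨m, hm⟩ := hl
    refine ⟨m, ?_⟩
    rw [toDT_eq I N m l, ← hm, κ_incl]
  · rintro _ ⟨m, rfl⟩
    exact θ_toDT I N m

/-- `coker η_M ≅ H^1_I(M)`. -/
noncomputable def cokerEquiv :
    (LocCoh.DT I N ⧸ LinearMap.range (LocCoh.toDT I N)) ≃ₗ[R] LocCoh.H I 1 N :=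
  (Submodule.quotEquivOfEq _ _ (ker_θ I N).symm).trans
    ((θ I (ModuleCat.of R N)).quotKerEquivOfSurjective (θ_surjective I (ModuleCat.of R N)))

end exactness

section regular

variable (N : Type u) [AddCommGroup N] [Module R N]

theorem torsionSub_eq_bot_of_regular {x : R} (hx : x ∈ I) (hreg : IsSMulRegular N x) :
    DRing.torsionSub I N = ⊥ := by
  rw [eq_bot_iff]
  rintro m ⟨n, hn⟩
  rw [Submodule.mem_bot]
  have h1 : x ^ n • m = 0 := hn _ (Ideal.pow_mem_pow hx n)
  exact (hreg.pow n) (by change x ^ n • m = x ^ n • (0 : N); rw [h1, smul_zero])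

/-- If `x ∈ I` is `N`-regular and `H^q_I(N/xN) = 0` then `H^{q+1}_I(N) = 0`. -/
theorem subsingleton_H_succ_of_regular {x : R} (hxI : x ∈ I) (hreg : IsSMulRegular N x) (q : ℕ)
    (hQ : Subsingleton (LocCoh.H I q (QuotSMulTop x N))) :
    Subsingleton (LocCoh.H I (q + 1) N) := by
  have hS := IsSMulRegular.smulShortComplex_shortExact (M := ModuleCat.of R N) hreg
  have hinj : ∀ z : LocCoh.H I (q + 1) N, x • z = 0 → z = 0 := by
    intro z hz
    rw [← Hmap_smul_id] at hz
    obtain ⟨w, rfl⟩ := Hmap_exact₁ I hS q z hz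
    have hQ' : Subsingleton ((localCohomology I q).obj
        ((ModuleCat.of R N).smulShortComplex x).X₃) := hQ
    rw [hQ'.elim w 0]
    exact map_zero _
  refine ⟨fun a b => ?_⟩
  suffices hz : ∀ z : LocCoh.H I (q + 1) N, z = 0 by rw [hz a, hz b]
  intro z
  have htor : ∃ k : ℕ, x ^ k • z = 0 := by
    obtain ⟨k, e, rfl⟩ := ι_jointly_surjective I (q + 1) (ModuleCat.of R N) z
    refine ⟨k, ?_⟩
    rw [← map_smul]
    have hid : x ^ k • 𝟙 (Q I k) = 0 := by
      apply ModuleCat.hom_ext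
      apply LinearMap.ext
      intro y
      obtain ⟨r, rfl⟩ := Ideal.Quotient.mk_surjective y
      change x ^ k • (Ideal.Quotient.mk (I ^ k) r) = 0
      rw [Algebra.smul_def]
      have : (algebraMap R (R ⧸ I ^ k)) (x ^ k) = 0 :=
        Ideal.Quotient.eq_zero_iff_mem.mpr (Ideal.pow_mem_pow hxI k)
      rw [this, zero_mul]
    have : x ^ k • e = (Abelian.Ext.mk₀ (x ^ k • 𝟙 (Q I k))).comp e (zero_add (q + 1)) := by
      simp [Abelian.Ext.mk₀_smul]
    rw [this, hid, Abelian.Ext.mk₀_zero, Abelian.Ext.zero_comp, map_zero]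
  obtain ⟨k, hk⟩ := htor
  induction k with
  | zero => simpa using hk
  | succ k ihk =>
    apply ihk
    apply hinj
    rw [← mul_smul, ← pow_succ']
    exact hk

/-- `η_M` is bijective if `I` contains an `M`-regular sequence of length two. -/
theorem toDT_bijective_of_regular {x y : R} (hx : x ∈ I) (hy : y ∈ I)
    (hreg : IsSMulRegular N x) (hreg' : IsSMulRegular (QuotSMulTop x N) y) :
    Function.Bijective (LocCoh.toDT I N) := by
  have h0 : Subsingleton (LocCoh.H I 0 (QuotSMulTop x N)) := by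
    rw [(H0equiv I (ModuleCat.of R (QuotSMulTop x N))).toEquiv.subsingleton_congr]
    change Subsingleton (DRing.torsionSub I (QuotSMulTop x N))
    rw [torsionSub_eq_bot_of_regular I _ hy hreg']
    infer_instance
  have h1 : Subsingleton (LocCoh.H I (0 + 1) N) :=
    subsingleton_H_succ_of_regular I N hx hreg 0 h0
  constructor
  · rw [← LinearMap.ker_eq_bot, ker_toDT, torsionSub_eq_bot_of_regular I N hx hreg]
  · rw [← LinearMap.range_eq_top, ← ker_θ, LinearMap.ker_eq_top]
    apply LinearMap.ext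
    intro z
    exact h1.elim _ _

end regular

end Groth.Agent.Lib.Helper16.DTL
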