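import Groth.Agent.Lib.Helper16.LocCohLocalize
import Groth.Agent.Lib.Helper16.LocCohDepth

set_option autoImplicit false
universe u
open CategoryTheory Opposite Limits TensorProduct

namespace Groth.Agent.Lib.Helper16.DTL

open Groth.Agent.Lib.Helper16.LC Groth.Agent.Lib.Helper16.Depth

section ann

variable {R : Type u} [CommRing R] [IsNoetherianRing R]

omit [IsNoetherianRing R] in
/-- If `b ⊆ √ann(X)` and `b ⊄ p` then `X_p = 0`. -/
theorem subsingleton_localizedModule_of_le_radical_annihilator (b : Ideal R) (X : Type u)
    [AddCommGroup X] [Module R X] (p : Ideal R) [p.IsPrime] (hb : ¬ b ≤ p)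
    (h : b ≤ (Module.annihilator R X).radical) :
    Subsingleton (LocalizedModule p.primeCompl X) := by
  obtain ⟨s, hsb, hsp⟩ := Set.not_subset.mp hb
  obtain ⟨k, hk⟩ := h hsb
  refine ⟨fun x y => ?_⟩
  suffices hz : ∀ z : LocalizedModule p.primeCompl X, z = 0 by rw [hz x, hz y]
  intro z
  induction z using LocalizedModule.induction_on with
  | h m u =>
    rw [← LocalizedModule.zero_mk u, LocalizedModule.mk_eq]
    refine ⟨⟨s ^ k, ?_⟩, ?_⟩
    · exact Submonoid.pow_mem _ hsp k
    · rw [smul_zero, smul_zero]
      change s ^ k • (u : R) • m = 0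
      rw [smul_comm, Module.mem_annihilator.mp hk, smul_zero]

theorem not_le_radical_annihilator_H_idealDepth (a b : Ideal R) (M : Type u) [AddCommGroup M]
    [Module R M] [Module.Finite R M] (p : PrimeSpectrum R) (hsupp : p ∈ Module.support R M)
    (ha : a ≤ p.asIdeal) (hb : ¬ b ≤ p.asIdeal) (t : ℕ)
    (ht : LocCoh.idealDepth (a.map (algebraMap R (Localization.AtPrime p.asIdeal)))
      (LocalizedModule p.asIdeal.primeCompl M) = t) :
    ¬ b ≤ (Module.annihilator R (LocCoh.H a t M)).radical := by
  intro h
  have h1 := subsingleton_localizedModule_of_le_radical_annihilator b (LocCoh.H a t M) p.asIdeal hb h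
  obtain ⟨e⟩ := nonempty_localized_H_equiv a p.asIdeal.primeCompl M t
  have h2 : Subsingleton (LocCoh.H (a.map (algebraMap R (Localization.AtPrime p.asIdeal))) t
      (LocalizedModule p.asIdeal.primeCompl M)) := e.symm.toEquiv.subsingleton
  have : IsNoetherianRing (Localization.AtPrime p.asIdeal) :=
    IsLocalization.isNoetherianRing p.asIdeal.primeCompl _ inferInstance
  have hnt : Nontrivial (LocalizedModule p.asIdeal.primeCompl M) :=
    Module.mem_support_iff.mp hsupp
  have hle : a.map (algebraMap R (Localization.AtPrime p.asIdeal)) ≤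
      IsLocalRing.maximalIdeal (Localization.AtPrime p.asIdeal) := by
    rw [Ideal.map_le_iff_le_comap]
    have := IsLocalization.AtPrime.under_maximalIdeal (Localization.AtPrime p.asIdeal) p.asIdeal
    rw [Ideal.under_def] at this
    rw [this]
    exact ha
  have hIM : (a.map (algebraMap R (Localization.AtPrime p.asIdeal))) •
      (⊤ : Submodule (Localization.AtPrime p.asIdeal) (LocalizedModule p.asIdeal.primeCompl M)) ≠ ⊤ :=
    (Submodule.top_ne_ideal_smul_of_le_jacobson_annihilator
      (hle.trans (IsLocalRing.maximalIdeal_le_jacobson _))).symm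
  have h3 := nontrivial_H_of_idealDepth_eq _ (LocalizedModule p.asIdeal.primeCompl M) hIM t ht
  exact not_subsingleton _ h2

end ann

end Groth.Agent.Lib.Helper16.DTL
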