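import Groth.Agent.Lib.Helper16.LocCohFaltings
import Mathlib.RingTheory.Ideal.AssociatedPrime.Finiteness
import Mathlib.Algebra.Module.LocalizedModule.Exact
import Mathlib.RingTheory.Localization.Finiteness

/-!
# Faltings' local-global principle for finiteness of local cohomology (helper16)
-/

set_option autoImplicit false
universe u
open CategoryTheory Opposite Limits

namespace Groth.Agent.Lib.Helper16.LC

open Groth.Agent.Lib.Helper16.Depth

section tower

variable {R : Type u} [CommRing R] (I : Ideal R)

/-- A module finite over an `R`-algebra `A` all of whose elements are `I`-power torsion is killed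
by a power of `I`. -/
theorem exists_pow_kills_of_finite_tower (A : Type u) [CommRing A] [Algebra R A] (N : Type u)
    [AddCommGroup N] [Module R N] [Module A N] [IsScalarTower R A N] [Module.Finite A N]
    (h : LocCoh.IsPowerTorsion I N) : ∃ k : ℕ, ∀ a ∈ I ^ k, ∀ z : N, a • z = 0 := by
  classical
  obtain ⟨s, hs⟩ := (Module.Finite.fg_top : (⊤ : Submodule A N).FG)
  have hex : ∃ k : ℕ, ∀ g ∈ s, ∀ a ∈ I ^ k, a • g = 0 := by
    clear hs
    induction s using Finset.induction_on with
    | empty => exact ⟨0, fun g hg => absurd hg (Finset.notMem_empty g)⟩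
    | insert g s _ ih =>
      obtain ⟨k, hk⟩ := ih
      obtain ⟨l, hl⟩ := h g
      refine ⟨k + l, fun g' hg' a ha => ?_⟩
      rcases Finset.mem_insert.mp hg' with rfl | hg'
      · exact hl a (Ideal.pow_le_pow_right (Nat.le_add_left l k) ha)
      · exact hk g' hg' a (Ideal.pow_le_pow_right (Nat.le_add_right k l) ha)
  obtain ⟨k, hk⟩ := hex
  refine ⟨k, fun a ha z => ?_⟩
  have hz : z ∈ Submodule.span A (s : Set N) := by rw [hs]; exact Submodule.mem_top
  induction hz using Submodule.span_induction with
  | mem g hg => exact hk g hg a ha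
  | zero => exact smul_zero a
  | add x y _ _ hx hy => rw [smul_add, hx, hy, add_zero]
  | smul r x _ hx => rw [smul_comm, hx, smul_zero]

/-- Localizations of power-torsion modules are power torsion. -/
theorem isPowerTorsion_localizedModule (S : Submonoid R) (N : Type u) [AddCommGroup N]
    [Module R N] (h : LocCoh.IsPowerTorsion I N) :
    LocCoh.IsPowerTorsion I (LocalizedModule S N) := by
  intro z
  induction z using LocalizedModule.induction_on with
  | h m s =>
    obtain ⟨k, hk⟩ := h m
    refine ⟨k, fun a ha => ?_⟩
    rw [LocalizedModule.smul'_mk, hk a ha, LocalizedModule.zero_mk]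

end tower

section ass

variable {R : Type u} [CommRing R] [IsNoetherianRing R] (I : Ideal R)

/-- For an `I`-power torsion module `N` and `x ∈ I`, every associated prime of `N` is an
associated prime of the kernel of multiplication by `x`. -/
theorem associatedPrimes_subset_ker_smul (N : Type u) [AddCommGroup N] [Module R N]
    (h : LocCoh.IsPowerTorsion I N) (x : R) (hx : x ∈ I) :
    associatedPrimes R N ⊆ associatedPrimes R (LinearMap.ker (LinearMap.lsmul R N x)) := by
  intro p hp
  obtain ⟨hprime, z, hz⟩ := isAssociatedPrime_iff.mp hp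
  obtain ⟨k, hk⟩ := h z
  have hIk : I ^ k ≤ p := by
    intro a ha
    rw [hz, Submodule.mem_colon_singleton, Submodule.mem_bot]
    exact hk a ha
  have hIp : I ≤ p := hprime.le_of_pow_le hIk
  have hxz : x • z = 0 := by
    have := hIp hx
    rw [hz, Submodule.mem_colon_singleton, Submodule.mem_bot] at this
    exact this
  have hzK : z ∈ LinearMap.ker (LinearMap.lsmul R N x) := by
    rw [LinearMap.mem_ker]
    exact hxz
  refine isAssociatedPrime_iff.mpr ⟨hprime, ⟨z, hzK⟩, ?_⟩
  rw [hz]
  ext r
  rw [Submodule.mem_colon_singleton, Submodule.mem_colon_singleton, Submodule.mem_bot,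
    Submodule.mem_bot]
  constructor
  · intro hr
    apply Subtype.ext
    exact hr
  · intro hr
    exact congrArg Subtype.val hr

/-- Local-to-global annihilation: if `N` has finitely many associated primes and, for each of
them, the localization of `N` is killed by a power of `I`, then `N` is killed by a power of `I`. -/
theorem exists_pow_kills_of_local (N : Type u) [AddCommGroup N] [Module R N]
    (hfin : (associatedPrimes R N).Finite)
    (hloc : ∀ (p : Ideal R) [p.IsPrime], p ∈ associatedPrimes R N →
      ∃ t : ℕ, ∀ a ∈ I ^ t, ∀ w : LocalizedModule p.primeCompl N, a • w = 0) :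
    ∃ u : ℕ, ∀ a ∈ I ^ u, ∀ z : N, a • z = 0 := by
  -- uniform exponent
  have hunif : ∃ u : ℕ, ∀ (p : Ideal R) [p.IsPrime], p ∈ associatedPrimes R N →
      ∀ a ∈ I ^ u, ∀ w : LocalizedModule p.primeCompl N, a • w = 0 := by
    have hgen : ∀ T : Set (Ideal R), T.Finite → T ⊆ associatedPrimes R N →
        ∃ u : ℕ, ∀ (p : Ideal R) [p.IsPrime], p ∈ T →
          ∀ a ∈ I ^ u, ∀ w : LocalizedModule p.primeCompl N, a • w = 0 := by
      intro T hT
      induction T, hT using Set.Finite.induction_on with
      | empty => intro _; exact ⟨0, fun p _ hp => absurd hp (Set.notMem_empty p)⟩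
      | insert _ _ ih =>
        rename_i q T' _ _
        intro hsub
        obtain ⟨u, hu⟩ := ih ((Set.subset_insert q T').trans hsub)
        have hqprime : q.IsPrime := (hsub (Set.mem_insert q T')).isPrime
        obtain ⟨t, ht⟩ := hloc q (hsub (Set.mem_insert q T'))
        refine ⟨u + t, fun p _ hp a ha w => ?_⟩
        rcases Set.mem_insert_iff.mp hp with rfl | hp
        · exact ht a (Ideal.pow_le_pow_right (Nat.le_add_left t u) ha) w
        · exact hu p hp a (Ideal.pow_le_pow_right (Nat.le_add_right u t) ha) w
    obtain ⟨u, hu⟩ := hgen _ hfin subset_rfl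
    exact ⟨u, fun p _ hp => hu p hp⟩
  obtain ⟨u, hu⟩ := hunif
  refine ⟨u, ?_⟩
  let K : Submodule R N := (I ^ u) • (⊤ : Submodule R N)
  have hK : Subsingleton K := by
    by_contra hnon
    rw [not_subsingleton_iff_nontrivial] at hnon
    obtain ⟨p, hp⟩ := associatedPrimes.nonempty R K
    have hpN : p ∈ associatedPrimes R N :=
      associatedPrimes.subset_of_injective (f := K.subtype) (Submodule.injective_subtype K) hp
    obtain ⟨hprime, w, hw⟩ := isAssociatedPrime_iff.mp hp
    have hzero : LocalizedModule.mkLinearMap p.primeCompl N (w : N) = 0 := by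
      have hmem : (w : N) ∈ K := w.2
      refine Submodule.smul_induction_on hmem ?_ ?_
      · intro a ha z _
        rw [map_smul]
        exact hu p hpN a ha _
      · intro y y' hy hy'
        rw [map_add, hy, hy', add_zero]
    obtain ⟨s, hs⟩ := (IsLocalizedModule.eq_zero_iff p.primeCompl
      (LocalizedModule.mkLinearMap p.primeCompl N)).mp hzero
    have hsp : (s : R) ∈ p := by
      have h1 : (s : R) ∈ (⊥ : Submodule R K).colon {w} := by
        rw [Submodule.mem_colon_singleton, Submodule.mem_bot]
        apply Subtype.ext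
        exact hs
      exact hw ▸ h1
    exact s.2 hsp
  intro a ha z
  have hmem : a • z ∈ K := Submodule.smul_mem_smul ha Submodule.mem_top
  have := hK.elim ⟨a • z, hmem⟩ 0
  exact congrArg Subtype.val this

end ass

section main

variable {R : Type u} [CommRing R] [IsNoetherianRing R] (I : Ideal R)

omit [IsNoetherianRing R] in
/-- Uniform exponent killing finitely many finitely generated local cohomology modules. -/
theorem exists_pow_kills_of_forall_finite (M : Type u) [AddCommGroup M] [Module R M] (n : ℕ)
    (hfin : ∀ i : ℕ, i ≤ n → Module.Finite R (LocCoh.H I i M)) :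
    ∃ K : ℕ, ∀ i : ℕ, i ≤ n → ∀ a ∈ I ^ K, ∀ z : LocCoh.H I i M, a • z = 0 := by
  have hex : ∀ i : ℕ, i ≤ n → ∃ k : ℕ, ∀ a ∈ I ^ k, ∀ z : LocCoh.H I i M, a • z = 0 :=
    fun i hi => exists_pow_kills_of_finite I i M (hfin i hi)
  clear hfin
  induction n with
  | zero =>
    obtain ⟨k, hk⟩ := hex 0 le_rfl
    refine ⟨k, fun i hi => ?_⟩
    obtain rfl : i = 0 := by omega
    exact hk
  | succ n ih =>
    obtain ⟨K, hK⟩ := ih (fun i hi => hex i (by omega))
    obtain ⟨k, hk⟩ := hex (n + 1) le_rfl
    refine ⟨K + k, fun i hi a ha z => ?_⟩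
    rcases Nat.lt_or_ge i (n + 1) with h | h
    · exact hK i (by omega) a (Ideal.pow_le_pow_right (Nat.le_add_right K k) ha) z
    · obtain rfl : i = n + 1 := by omega
      exact hk a (Ideal.pow_le_pow_right (Nat.le_add_left k K) ha) z

/-- Middle term of an exact sequence of modules over a Noetherian ring with finite outer terms
is finite. -/
theorem finite_of_exact_noetherian {A : Type u} [CommRing A] [IsNoetherianRing A]
    {X Y Z : Type u} [AddCommGroup X] [AddCommGroup Y] [AddCommGroup Z] [Module A X]
    [Module A Y] [Module A Z] (f : X →ₗ[A] Y) (g : Y →ₗ[A] Z) (h : Function.Exact f g)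
    [Module.Finite A X] [Module.Finite A Z] : Module.Finite A Y := by
  have hex : Function.Exact f g.rangeRestrict := by
    intro y
    rw [← h y]
    constructor
    · intro hy
      exact congrArg Subtype.val hy
    · intro hy
      apply Subtype.ext
      exact hy
  exact Module.Finite.of_exact hex g.surjective_rangeRestrict

omit [IsNoetherianRing R] in
/-- The long exact sequence of local cohomology for multiplication by a regular element, with
all types in `LocCoh.H` form. -/
theorem exists_les_of_isSMulRegular (M' : Type u) [AddCommGroup M'] [Module R M'] (x : R)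
    (hreg : IsSMulRegular M' x) (i : ℕ) :
    ∃ (g : LocCoh.H I i M' →ₗ[R] LocCoh.H I i (QuotSMulTop x M'))
      (d : LocCoh.H I i (QuotSMulTop x M') →ₗ[R] LocCoh.H I (i + 1) M'),
      Function.Exact (LinearMap.lsmul R (LocCoh.H I i M') x) g ∧ Function.Exact g d ∧
        Function.Exact d (LinearMap.lsmul R (LocCoh.H I (i + 1) M') x) := by
  have hS := IsSMulRegular.smulShortComplex_shortExact (M := ModuleCat.of R M') hreg
  refine ⟨Hmap I i ((ModuleCat.of R M').smulShortComplex x).g, δ I hS i, ?_, ?_, ?_⟩
  · intro z
    constructor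
    · intro hz
      obtain ⟨y, hy⟩ := Hmap_exact₂ I hS i z hz
      refine ⟨y, ?_⟩
      rw [← hy]
      exact (Hmap_smul_id I i (ModuleCat.of R M') x y).symm
    · rintro ⟨y, rfl⟩
      have h1 := Hmap_g_f I (S := (ModuleCat.of R M').smulShortComplex x) i y
      have h2 : Hmap I i ((ModuleCat.of R M').smulShortComplex x).f y = x • y :=
        Hmap_smul_id I i (ModuleCat.of R M') x y
      rw [h2] at h1
      exact h1
  · intro z
    constructor
    · intro hz
      exact Hmap_exact₃ I hS i z hz
    · rintro ⟨y, rfl⟩
      exact δ_Hmap_g I hS i y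
  · intro z
    constructor
    · intro hz
      apply Hmap_exact₁ I hS i z
      have h2 : Hmap I (i + 1) ((ModuleCat.of R M').smulShortComplex x).f z = x • z :=
        Hmap_smul_id I (i + 1) (ModuleCat.of R M') x z
      rw [h2]
      exact hz
    · rintro ⟨w, rfl⟩
      have h1 := Hmap_f_δ I hS i w
      have h2 : Hmap I (i + 1) ((ModuleCat.of R M').smulShortComplex x).f (δ I hS i w) =
          x • (δ I hS i w) := Hmap_smul_id I (i + 1) (ModuleCat.of R M') x _
      rw [h2] at h1
      exact h1

/-- **Faltings' local-global principle**: if the localizations of `H^i_I(M)` (`i ≤ n`) at all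
primes are finitely generated then so are the `H^i_I(M)`. -/
theorem finite_H_of_locally_finite :
    ∀ (n : ℕ) (M : Type u) [AddCommGroup M] [Module R M] [Module.Finite R M],
      (∀ (p : Ideal R) [p.IsPrime], ∀ i : ℕ, i ≤ n →
        Module.Finite (Localization.AtPrime p) (LocalizedModule p.primeCompl (LocCoh.H I i M))) →
        ∀ i : ℕ, i ≤ n → Module.Finite R (LocCoh.H I i M) := by
  intro n
  induction n with
  | zero =>
    intro M _ _ _ _ i hi
    obtain rfl : i = 0 := by omega
    exact finite_H_zero I M
  | succ n ih =>
    intro M _ _ _ hloc i hi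
    have hlow : ∀ i : ℕ, i ≤ n → Module.Finite R (LocCoh.H I i M) :=
      ih M (fun p _ i hi => hloc p i (by omega))
    rcases Nat.lt_or_ge i (n + 1) with hlt | hge
    · exact hlow i (by omega)
    obtain rfl : i = n + 1 := by omega
    -- reduce to `M' = M/Γ_I(M)`
    let M' := M ⧸ DRing.torsionSub I M
    have hbij : ∀ p : ℕ, Function.Bijective
        (Hmap I (p + 1) (ModuleCat.ofHom (DRing.torsionSub I M).mkQ)) :=
      fun p => Hmap_mkQ_torsionSub_bijective I M p
    suffices hM' : Module.Finite R (LocCoh.H I (n + 1) M') from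
      Module.Finite.equiv (LinearEquiv.ofBijective _ (hbij n)).symm
    -- the local hypothesis for `M'`
    have hloc' : ∀ (p : Ideal R) [p.IsPrime], ∀ i : ℕ, i ≤ n + 1 →
        Module.Finite (Localization.AtPrime p)
          (LocalizedModule p.primeCompl (LocCoh.H I i M')) := by
      intro p _ i hi
      rcases Nat.eq_zero_or_pos i with rfl | hpos
      · have := finite_H_zero I M'
        infer_instance
      · obtain ⟨q, rfl⟩ : ∃ q, i = q + 1 := ⟨i - 1, by omega⟩
        have := hloc p (q + 1) hi
        exact Module.Finite.of_surjective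
          (LocalizedModule.map p.primeCompl
            (Hmap I (q + 1) (ModuleCat.ofHom (DRing.torsionSub I M).mkQ)))
          (LocalizedModule.map_surjective _ _ (hbij q).2)
    have hlow' : ∀ i : ℕ, i ≤ n → Module.Finite R (LocCoh.H I i M') :=
      ih M' (fun p _ i hi => hloc' p i (by omega))
    obtain ⟨x, hxI, hreg⟩ := exists_isSMulRegular_of_torsionSub_eq_bot I M'
      (torsionSub_quotient_torsionSub I M)
    -- `H^i(M'/xM')` is locally finite for `i ≤ n`
    have hlocQ : ∀ (p : Ideal R) [p.IsPrime], ∀ i : ℕ, i ≤ n →
        Module.Finite (Localization.AtPrime p)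
          (LocalizedModule p.primeCompl (LocCoh.H I i (QuotSMulTop x M'))) := by
      intro p _ i hi
      have h1 := hloc' p i (by omega)
      have h2 := hloc' p (i + 1) (by omega)
      obtain ⟨g, d, _, hex, _⟩ := exists_les_of_isSMulRegular I M' x hreg i
      have hexloc := LocalizedModule.map_exact p.primeCompl _ _ hex
      exact finite_of_exact_noetherian
        (LocalizedModule.map p.primeCompl g) (LocalizedModule.map p.primeCompl d) hexloc
    have hfinQ : Module.Finite R (LocCoh.H I n (QuotSMulTop x M')) :=
      ih (QuotSMulTop x M') hlocQ n le_rfl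
    -- the kernel of multiplication by `x` on `H^{n+1}(M')` is finitely generated
    obtain ⟨g, d, _, _, hexd⟩ := exists_les_of_isSMulRegular I M' x hreg n
    have hker : LinearMap.ker (LinearMap.lsmul R (LocCoh.H I (n + 1) M') x) =
        LinearMap.range d := (LinearMap.exact_iff.mp hexd)
    have hkerfin : Module.Finite R
        (LinearMap.ker (LinearMap.lsmul R (LocCoh.H I (n + 1) M') x)) := by
      rw [hker]
      exact Module.Finite.range _
    have htors : LocCoh.IsPowerTorsion I (LocCoh.H I (n + 1) M') :=
      Groth.Agent.S15426.result R I (n + 1) M'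
    have hAssFin : (associatedPrimes R (LocCoh.H I (n + 1) M')).Finite :=
      (associatedPrimes.finite R _).subset
        (associatedPrimes_subset_ker_smul I _ htors x hxI)
    obtain ⟨u, hu⟩ := exists_pow_kills_of_local I (LocCoh.H I (n + 1) M') hAssFin (by
      intro p _ _
      have := hloc' p (n + 1) le_rfl
      exact exists_pow_kills_of_finite_tower I (Localization.AtPrime p) _
        (isPowerTorsion_localizedModule I p.primeCompl _ htors))
    obtain ⟨K, hK⟩ := exists_pow_kills_of_forall_finite I M' n hlow'
    refine finite_H_of_pow_kills I (n + 1) M' (K + u) ?_ (n + 1) le_rfl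
    intro i hi a ha z
    rcases Nat.lt_or_ge i (n + 1) with hlt | hge
    · exact hK i (by omega) a (Ideal.pow_le_pow_right (Nat.le_add_right K u) ha) z
    · obtain rfl : i = n + 1 := by omega
      exact hu a (Ideal.pow_le_pow_right (Nat.le_add_left u K) ha) z

end main

end Groth.Agent.Lib.Helper16.LC
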