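import Groth.Agent.Lib.Helper16.FinDim
import Groth.Agent.Lib.Helper16.LocCohAnn
import Groth.Agent.Lib.Helper16.LocCohFaltingsLocal
import Groth.Agent.Lib.Helper16.DepthLocalize

/-!
# Tools for `f_a^b(M) ≤ λ_a^b(M)` (helper16), part 1
-/

set_option autoImplicit false
universe u
open CategoryTheory Opposite Limits IsLocalRing

namespace Groth.Agent.Lib.Helper16.LC

open Groth.Agent.Lib.Helper16.Depth Groth.Agent.Lib.Helper18.CM

section basic

variable {R : Type u} [CommRing R]

theorem finDimRel_le_of_not_le (a b : Ideal R) (M : Type u) [AddCommGroup M] [Module R M] (i : ℕ)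
    (h : ¬ b ≤ (Module.annihilator R (LocCoh.H a i M)).radical) :
    LocCoh.finDimRel a b M ≤ (i : ℕ∞) := by
  unfold LocCoh.finDimRel
  exact iInf₂_le i h

theorem finDimRel_le_natCast_iff (a b : Ideal R) (M : Type u) [AddCommGroup M] [Module R M]
    (k : ℕ) :
    LocCoh.finDimRel a b M ≤ (k : ℕ∞) ↔
      ∃ i : ℕ, i ≤ k ∧ ¬ b ≤ (Module.annihilator R (LocCoh.H a i M)).radical := by
  constructor
  · intro h
    by_contra hcon
    have hall : ∀ i : ℕ, i ≤ k → b ≤ (Module.annihilator R (LocCoh.H a i M)).radical := by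
      intro i hi
      by_contra hb
      exact hcon ⟨i, hi, hb⟩
    have hge : ((k + 1 : ℕ) : ℕ∞) ≤ LocCoh.finDimRel a b M := by
      unfold LocCoh.finDimRel
      refine le_iInf₂ fun i hi => ?_
      have : k < i := by
        by_contra hle
        exact hi (hall i (by omega))
      exact_mod_cast this
    have : ((k + 1 : ℕ) : ℕ∞) ≤ (k : ℕ∞) := hge.trans h
    have h2 : k + 1 ≤ k := by exact_mod_cast this
    omega
  · rintro ⟨i, hi, hb⟩
    exact (finDimRel_le_of_not_le a b M i hb).trans (by exact_mod_cast hi)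

/-- Monotonicity principle for `finDimRel`. -/
theorem finDimRel_le_finDimRel_of_imp {R' : Type u} [CommRing R'] (a b : Ideal R) (M : Type u)
    [AddCommGroup M] [Module R M] (a' b' : Ideal R') (M' : Type u) [AddCommGroup M']
    [Module R' M']
    (h : ∀ i : ℕ, b ≤ (Module.annihilator R (LocCoh.H a i M)).radical →
      b' ≤ (Module.annihilator R' (LocCoh.H a' i M')).radical) :
    LocCoh.finDimRel a b M ≤ LocCoh.finDimRel a' b' M' := by
  unfold LocCoh.finDimRel
  exact le_iInf₂ fun i hi => iInf₂_le i (fun hb => hi (h i hb))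

end basic

section localize

variable {R : Type u} [CommRing R] [IsNoetherianRing R]

/-- `f_a^b(M) ≤ f_{aS⁻¹R}^{bS⁻¹R}(S⁻¹M)`. -/
theorem finDimRel_le_localization (a b : Ideal R) (M : Type u) [AddCommGroup M] [Module R M]
    (S : Submonoid R) :
    LocCoh.finDimRel a b M ≤ LocCoh.finDimRel (a.map (algebraMap R (Localization S)))
      (b.map (algebraMap R (Localization S))) (LocalizedModule S M) := by
  apply finDimRel_le_finDimRel_of_imp
  intro i hb
  rw [Ideal.map_le_iff_le_comap]
  intro β hβ
  obtain ⟨n, hn⟩ := hb hβ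
  refine ⟨n, ?_⟩
  rw [Module.mem_annihilator]
  intro u
  obtain ⟨e⟩ := Groth.Agent.Lib.Helper16.DTL.nonempty_localized_H_equiv a S M i
  obtain ⟨v, rfl⟩ := e.surjective u
  rw [← map_smul]
  have hv : (algebraMap R (Localization S) β) ^ n • v = 0 := by
    induction v using LocalizedModule.induction_on with
    | h m s =>
      rw [← map_pow, algebraMap_smul, LocalizedModule.smul'_mk,
        Module.mem_annihilator.mp hn m, LocalizedModule.zero_mk]
  rw [hv, map_zero]

/-- The case `a ⊆ p`: `f_a^b(M) ≤ depth M_p` when `b ⊄ p` and `M_p ≠ 0`. -/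
theorem finDimRel_le_depth_of_le (a b : Ideal R) (M : Type u) [AddCommGroup M] [Module R M]
    [Module.Finite R M] (p : Ideal R) [p.IsPrime] (ha : a ≤ p) (hb : ¬ b ≤ p)
    [hnt : Nontrivial (LocalizedModule p.primeCompl M)] :
    LocCoh.finDimRel a b M ≤
      LocCoh.depth (Localization.AtPrime p) (LocalizedModule p.primeCompl M) := by
  have hnoeth : IsNoetherianRing (Localization.AtPrime p) :=
    IsLocalization.isNoetherianRing p.primeCompl _ inferInstance
  have hle : a.map (algebraMap R (Localization.AtPrime p)) ≤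
      maximalIdeal (Localization.AtPrime p) := by
    rw [Ideal.map_le_iff_le_comap]
    have := IsLocalization.AtPrime.under_maximalIdeal (Localization.AtPrime p) p
    rw [Ideal.under_def] at this
    rw [this]
    exact ha
  have hne : a.map (algebraMap R (Localization.AtPrime p)) ≠ ⊤ := by
    intro h
    rw [h] at hle
    exact (maximalIdeal.isMaximal _).ne_top (top_le_iff.mp hle)
  have h1 := idealDepth_le_depth (LocalizedModule p.primeCompl M)
    (a.map (algebraMap R (Localization.AtPrime p))) hne
  obtain ⟨g, hg⟩ := ENat.ne_top_iff_exists.mp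
    (idealDepth_ne_top (LocalizedModule p.primeCompl M)
      (a.map (algebraMap R (Localization.AtPrime p))) hne)
  have hsupp : (⟨p, inferInstance⟩ : PrimeSpectrum R) ∈ Module.support R M :=
    Module.mem_support_iff.mpr hnt
  have h2 := Groth.Agent.Lib.Helper16.DTL.not_le_radical_annihilator_H_idealDepth a b M
    ⟨p, inferInstance⟩ hsupp ha hb g hg.symm
  exact (finDimRel_le_of_not_le a b M g h2).trans (hg ▸ h1)

end localize

end Groth.Agent.Lib.Helper16.LC
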