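import Groth.Agent.Lib.Helper16.LocCohH0
import Groth.Agent.Lib.Helper16.LocCohDepth
import Groth.Agent.Lib.Helper16.TorsionInjective
import Mathlib.Algebra.Category.ModuleCat.EnoughInjectives
import Mathlib.Algebra.Category.ModuleCat.Injective
import Mathlib.Algebra.Homology.DerivedCategory.Ext.EnoughInjectives

/-!
# Local cohomology of torsion and injective modules (helper16)

* `subsingleton_H_of_injective` : `H^{p+1}_I(T) = 0` for `T` injective.
* `H0toM_surjective_of_torsion`.
* `exists_torsion_injective_embedding` : an `I`-power torsion module over a Noetherian ring embeds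
  into an injective `I`-power torsion module.
* `subsingleton_H_succ_of_torsion` : `H^{p+1}_I(N) = 0` for `N` `I`-power torsion (Noetherian).
-/

set_option autoImplicit false
universe u
open CategoryTheory Opposite Limits

namespace Groth.Agent.Lib.Helper16.LC

open Groth.Agent.Lib.Helper16.Depth

variable {R : Type u} [CommRing R] (I : Ideal R)

theorem subsingleton_H_of_injective (T : ModuleCat.{u} R) [Injective T] (p : ℕ) :
    Subsingleton ((localCohomology I (p + 1)).obj T) := by
  apply subsingleton_H_of_forall
  intro k
  exact Abelian.Ext.subsingleton_of_injective _ _ _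

/-- If `M` is `I`-power torsion, `H0toM` is surjective. -/
theorem H0toM_surjective_of_torsion (M : ModuleCat.{u} R)
    (hM : ∀ m : M, m ∈ DRing.torsionSub I M) : Function.Surjective (H0toM I M) := by
  intro m
  obtain ⟨k, hk⟩ := hM m
  obtain ⟨e, he⟩ := exists_ev1_eq I M hk
  exact ⟨ι I 0 M k e, by rw [H0toM_ι, he]⟩

variable [IsNoetherianRing R]

theorem exists_torsion_injective_embedding (N : Type u) [AddCommGroup N] [Module R N]
    (hN : ∀ m : N, m ∈ DRing.torsionSub I N) :
    ∃ (T : Type u) (_ : AddCommGroup T) (_ : Module R T) (j : N →ₗ[R] T),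
      Function.Injective j ∧ Module.Injective R T ∧ (∀ t : T, t ∈ DRing.torsionSub I T) := by
  let E : ModuleCat.{u} R := Injective.under (ModuleCat.of R N)
  let ιN : ModuleCat.of R N ⟶ E := Injective.ι (ModuleCat.of R N)
  have hι : Function.Injective ιN.hom := (ModuleCat.mono_iff_injective _).mp inferInstance
  have hEobj : Injective (ModuleCat.of R E) :=
    (inferInstance : Injective (Injective.under (ModuleCat.of R N)))
  have hE : Module.Injective R E := Module.injective_module_of_injective_object R E
  refine ⟨DRing.torsionSub I E, inferInstance, inferInstance,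
    ιN.hom.codRestrict _ (fun m => DRing.map_mem_torsionSub I ιN.hom (hN m)), ?_,
    injective_torsionSub I E hE, ?_⟩
  · intro a b hab
    apply hι
    exact congrArg Subtype.val hab
  · rintro ⟨t, n, hn⟩
    refine ⟨n, fun a ha => ?_⟩
    apply Subtype.ext
    exact hn a ha

omit [IsNoetherianRing R] in
theorem torsion_quotient {T : Type u} [AddCommGroup T] [Module R T]
    (hT : ∀ t : T, t ∈ DRing.torsionSub I T) (K : Submodule R T) :
    ∀ c : T ⧸ K, c ∈ DRing.torsionSub I (T ⧸ K) := by
  intro c
  obtain ⟨t, rfl⟩ := Submodule.Quotient.mk_surjective K c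
  exact DRing.map_mem_torsionSub I K.mkQ (hT t)

theorem subsingleton_H_succ_of_torsion (p : ℕ) :
    ∀ (N : Type u) [AddCommGroup N] [Module R N], (∀ m : N, m ∈ DRing.torsionSub I N) →
      Subsingleton (LocCoh.H I (p + 1) N) := by
  induction p with
  | zero =>
    intro N _ _ hN
    obtain ⟨T, _, _, j, hj, hTinj, hT⟩ := exists_torsion_injective_embedding I N hN
    have hS := shortExact_of_linearMaps j (LinearMap.range j).mkQ hj
      (Submodule.mkQ_surjective _) (LinearMap.exact_map_mkQ_range j)
    have : Injective (ModuleCat.of R T) := Module.injective_object_of_injective_module R T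
    have hHT : Subsingleton ((localCohomology I (0 + 1)).obj (ModuleCat.of R T)) :=
      subsingleton_H_of_injective I (ModuleCat.of R T) 0
    refine ⟨fun x y => ?_⟩
    suffices hz : ∀ x : LocCoh.H I (0 + 1) N, x = 0 by rw [hz x, hz y]
    intro x
    obtain ⟨z, rfl⟩ := Hmap_exact₁ I hS 0 x (Subsingleton.elim _ _)
    -- lift z along H^0(T) → H^0(T/N)
    obtain ⟨y, hy⟩ := H0toM_surjective_of_torsion I (ModuleCat.of R T) hT
      ((Submodule.mkQ_surjective _ (H0toM I _ z)).choose)
    have hzy : z = Hmap I 0 (ModuleCat.ofHom (LinearMap.range j).mkQ) y := by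
      apply H0toM_injective I
      rw [H0toM_naturality, hy]
      exact ((Submodule.mkQ_surjective _ (H0toM I _ z)).choose_spec).symm
    rw [hzy]
    exact δ_Hmap_g I hS 0 y
  | succ p ih =>
    intro N _ _ hN
    obtain ⟨T, _, _, j, hj, hTinj, hT⟩ := exists_torsion_injective_embedding I N hN
    have hS := shortExact_of_linearMaps j (LinearMap.range j).mkQ hj
      (Submodule.mkQ_surjective _) (LinearMap.exact_map_mkQ_range j)
    have : Injective (ModuleCat.of R T) := Module.injective_object_of_injective_module R T
    have hHT : Subsingleton ((localCohomology I (p + 1 + 1)).obj (ModuleCat.of R T)) :=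
      subsingleton_H_of_injective I (ModuleCat.of R T) (p + 1)
    have hC : Subsingleton (LocCoh.H I (p + 1) (T ⧸ LinearMap.range j)) :=
      ih (T ⧸ LinearMap.range j) (torsion_quotient I hT _)
    refine ⟨fun x y => ?_⟩
    suffices hz : ∀ x : LocCoh.H I (p + 1 + 1) N, x = 0 by rw [hz x, hz y]
    intro x
    obtain ⟨z, rfl⟩ := Hmap_exact₁ I hS (p + 1) x (Subsingleton.elim _ _)
    rw [hC.elim z 0, map_zero]

end Groth.Agent.Lib.Helper16.LC
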