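import Groth.Agent.Lib.Helper16.GorOver2
import Groth.Agent.Lib.Helper16.ExtRegularQuot
import Groth.Agent.Lib.Helper16.FiniteLengthLC

/-!
# Length of Ext^1(N, W) for finite length N and a module W of injective dimension one (helper16)
-/

set_option autoImplicit false
universe u
open CategoryTheory Abelian IsLocalRing

namespace Groth.Agent.Lib.Helper16.CanId

open Groth.Agent.Lib.Helper16 Groth.Agent.Lib

section lesLength

variable {R : Type u} [CommRing R] {S : ShortComplex (ModuleCat.{u} R)} (hS : S.ShortExact)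
  (Y : ModuleCat.{u} R)

/-- restriction along `S.g` -/
noncomputable abbrev resG (S : ShortComplex (ModuleCat.{u} R)) (Y : ModuleCat.{u} R) (n : ℕ) :
    Ext.{u} S.X₃ Y n →ₗ[R] Ext.{u} S.X₂ Y n :=
  Ext.precompOfLinear (Ext.mk₀ S.g) R Y (zero_add n)

include hS in
theorem length_ext_ses (n : ℕ) (h0 : Subsingleton (Ext.{u} S.X₁ Y n))
    (h2 : Subsingleton (Ext.{u} S.X₃ Y (n + 1 + 1))) :
    Module.length R (Ext.{u} S.X₂ Y (n + 1)) =
      Module.length R (Ext.{u} S.X₃ Y (n + 1)) + Module.length R (Ext.{u} S.X₁ Y (n + 1)) := by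
  refine Module.length_eq_add_of_exact (resG S Y (n + 1)) (ExtBC.resMap S Y (n + 1)) ?_ ?_ ?_
  · rw [← LinearMap.ker_eq_bot, LinearMap.ker_eq_bot']
    intro x₃ hx₃
    obtain ⟨x₁, hx₁⟩ := Ext.contravariant_sequence_exact₃ hS Y x₃ hx₃ (add_comm 1 n)
    rw [← hx₁, Subsingleton.elim x₁ 0, Ext.comp_zero]
  · intro x₁
    have h : hS.extClass.comp x₁ (add_comm 1 (n + 1)) = 0 := Subsingleton.elim _ _
    obtain ⟨x₂, hx₂⟩ := Ext.contravariant_sequence_exact₁ hS Y x₁ (add_comm 1 (n + 1)) h
    exact ⟨x₂, hx₂⟩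
  · intro x₂
    constructor
    · intro h
      obtain ⟨x₃, hx₃⟩ := Ext.contravariant_sequence_exact₂ hS Y x₂ h
      exact ⟨x₃, hx₃⟩
    · rintro ⟨x₃, rfl⟩
      change (Ext.mk₀ S.f).comp ((Ext.mk₀ S.g).comp x₃ (zero_add _)) (zero_add _) = 0
      simp only [Ext.mk₀_comp_mk₀_assoc, ShortComplex.zero, Ext.mk₀_zero, Ext.zero_comp]

theorem subsingleton_ext_of_subsingleton (X : Type u) [AddCommGroup X] [Module R X]
    [Subsingleton X] (n : ℕ) : Subsingleton (Ext.{u} (ModuleCat.of R X) Y n) := by
  have h0 : (𝟙 (ModuleCat.of R X)) = 0 := by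
    apply ModuleCat.hom_ext
    apply LinearMap.ext
    intro x
    exact Subsingleton.elim _ _
  have key : ∀ x : Ext.{u} (ModuleCat.of R X) Y n, x = 0 := by
    intro x
    rw [← Ext.mk₀_id_comp x, h0, Ext.mk₀_zero, Ext.zero_comp]
  exact ⟨fun a b => by rw [key a, key b]⟩

end lesLength

section lengthDuality

variable {R : Type u} [CommRing R] [IsLocalRing R] [IsNoetherianRing R]
  (W : Type u) [AddCommGroup W] [Module R W]

/-- the hypotheses on a "canonical" module `W` in dimension one that the length formula needs -/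
structure Hyp : Prop where
  ext2 : ∀ X : ModuleCat.{u} R, Subsingleton (Ext.{u} X (ModuleCat.of R W) 2)
  hom0 : ∀ (N : Type u) [AddCommGroup N] [Module R N], IsFiniteLength R N →
    Subsingleton (N →ₗ[R] W)

variable {W}

theorem Hyp.ext0 (h : Hyp (R := R) W) (N : Type u) [AddCommGroup N] [Module R N]
    (hN : IsFiniteLength R N) :
    Subsingleton (Ext.{u} (ModuleCat.of R N) (ModuleCat.of R W) 0) := by
  have := h.hom0 N hN
  exact (HilbLen.ext0LinearEquiv (ModuleCat.of R N) (ModuleCat.of R W)).toEquiv.subsingleton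

/-- `ℓ(Ext¹(N, W)) = r · ℓ(N)` with `r = ℓ(Ext¹(k, W))` -/
theorem length_ext_one_eq_mul (h : Hyp (R := R) W) :
    ∀ (N : Type u) [AddCommGroup N] [Module R N], IsFiniteLength R N →
      Module.length R (Ext.{u} (ModuleCat.of R N) (ModuleCat.of R W) 1) =
        Module.length R (Ext.{u} (ModuleCat.of R (ResidueField R)) (ModuleCat.of R W) 1) *
          Module.length R N := by
  intro N _ _ hN
  induction hN with
  | of_subsingleton =>
    rename_i M _ _ _
    have := subsingleton_ext_of_subsingleton (R := R) (ModuleCat.of R W) M 1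
    rw [Module.length_eq_zero_iff.2 this,
      (Module.length_eq_zero_iff (R := R) (M := M)).2 inferInstance, mul_zero]
  | @of_simple_quotient M _ _ N' _ hN' ih =>
    obtain ⟨e⟩ := Helper25.nonempty_equiv_residueField_of_isSimpleModule (R := R) (M ⧸ N')
    have hS := Depth.shortExact_of_linearMaps N'.subtype N'.mkQ (Submodule.subtype_injective N')
      (Submodule.mkQ_surjective N') (LinearMap.exact_subtype_mkQ N')
    set S := ModuleCat.shortComplexOfCompEqZero N'.subtype N'.mkQ
      (LinearMap.exact_subtype_mkQ N').linearMap_comp_eq_zero with hSdef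
    have h0 : Subsingleton (Ext.{u} S.X₁ (ModuleCat.of R W) 0) := h.ext0 N' hN'
    have h2 : Subsingleton (Ext.{u} S.X₃ (ModuleCat.of R W) (0 + 1 + 1)) := h.ext2 _
    have hles := length_ext_ses hS (ModuleCat.of R W) 0 h0 h2
    have he : Module.length R (Ext.{u} S.X₃ (ModuleCat.of R W) (0 + 1)) =
        Module.length R (Ext.{u} (ModuleCat.of R (ResidueField R)) (ModuleCat.of R W) 1) :=
      (ExtRegQuot.extCongrLeft e.toModuleIso (ModuleCat.of R W) 1).length_eq.symm
    have hlen : Module.length R M = Module.length R N' + Module.length R (M ⧸ N') :=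
      Module.length_eq_add_of_exact N'.subtype N'.mkQ (Submodule.subtype_injective N')
        (Submodule.mkQ_surjective N') (LinearMap.exact_subtype_mkQ N')
    have h1 : Module.length R (M ⧸ N') = 1 := by
      rw [e.length_eq]
      exact Module.length_eq_one R (ResidueField R)
    have hles' : Module.length R (Ext.{u} (ModuleCat.of R M) (ModuleCat.of R W) 1) =
        Module.length R (Ext.{u} S.X₃ (ModuleCat.of R W) (0 + 1)) +
          Module.length R (Ext.{u} (ModuleCat.of R N') (ModuleCat.of R W) 1) := hles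
    rw [hles', he, ih, hlen, h1, mul_add, mul_one, add_comm]

end lengthDuality

end Groth.Agent.Lib.Helper16.CanId
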