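import Groth.Agent.Lib.Helper16.CanId1

/-!
# Length duality for Ext^1(-, W): normalisation r = 1, cokernels of restriction, relative lengths (helper16)
-/

set_option autoImplicit false
universe u
open CategoryTheory Abelian IsLocalRing

namespace Groth.Agent.Lib.Helper16.CanId

open Groth.Agent.Lib.Helper16 Groth.Agent.Lib

section rOne

variable {R : Type u} [CommRing R] [IsLocalRing R] [IsNoetherianRing R]
  {W : Type u} [AddCommGroup W] [Module R W]

theorem length_ext_one_residueField (h : Hyp (R := R) W) (x : R) (hxR : IsSMulRegular R x)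
    (hfl : IsFiniteLength R (QuotSMulTop x R)) (hne : Nontrivial (QuotSMulTop x R))
    (hW : Module.length R (QuotSMulTop x W) = Module.length R (QuotSMulTop x R)) :
    Module.length R (Ext.{u} (ModuleCat.of R (ResidueField R)) (ModuleCat.of R W) 1) = 1 := by
  have hq : ∀ i, 0 < i → Subsingleton (Ext.{u} (ModuleCat.of R R) (ModuleCat.of R W) i) := by
    intro i hi
    obtain ⟨j, rfl⟩ : ∃ j, i = j + 1 := ⟨i - 1, by omega⟩
    have : Projective (ModuleCat.of R R) := inferInstance
    exact Ext.subsingleton_of_projective _ _ _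
  obtain ⟨e⟩ := ExtRegQuot.step_equiv (B := R) hxR (ModuleCat.of R W) 0 hq
  let e0 : Ext.{u} (ModuleCat.of R R) (ModuleCat.of R W) 0 ≃ₗ[R] W :=
    (Ext.linearEquiv₀.trans ModuleCat.homLinearEquiv).trans (LinearMap.ringLmapEquivSelf R R W)
  have h1 := length_ext_one_eq_mul h (QuotSMulTop x R) hfl
  have h2 : Module.length R (Ext.{u} (ModuleCat.of R (QuotSMulTop x R)) (ModuleCat.of R W) 1) =
      Module.length R (QuotSMulTop x R) := by
    rw [← hW, ← (QuotSMulTop.congr x e0).length_eq]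
    exact e.length_eq
  rw [h2] at h1
  have ha0 : Module.length R (QuotSMulTop x R) ≠ 0 := by
    rw [Ne, Module.length_eq_zero_iff]
    exact not_subsingleton _
  have haT : Module.length R (QuotSMulTop x R) ≠ ⊤ := Module.length_ne_top_iff.2 hfl
  generalize Module.length R (QuotSMulTop x R) = a at h1 ha0 haT
  generalize Module.length R (Ext.{u} (ModuleCat.of R (ResidueField R)) (ModuleCat.of R W) 1) = r
    at h1
  lift a to ℕ using haT
  induction r using ENat.recTopCoe with
  | top =>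
    rw [ENat.top_mul ha0] at h1
    exact absurd h1 (ENat.coe_ne_top a)
  | coe n =>
    have h3 : a = n * a := by exact_mod_cast h1
    have ha : 0 < a := Nat.pos_of_ne_zero (by exact_mod_cast ha0)
    have : n = 1 := by
      have h4 : 1 * a = n * a := by rw [one_mul]; exact h3
      exact (Nat.eq_of_mul_eq_mul_right ha h4).symm
    rw [this]
    rfl

theorem length_ext_one_eq (h : Hyp (R := R) W)
    (hr : Module.length R (Ext.{u} (ModuleCat.of R (ResidueField R)) (ModuleCat.of R W) 1) = 1)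
    (N : Type u) [AddCommGroup N] [Module R N] (hN : IsFiniteLength R N) :
    Module.length R (Ext.{u} (ModuleCat.of R N) (ModuleCat.of R W) 1) = Module.length R N := by
  rw [length_ext_one_eq_mul h N hN, hr, one_mul]

/-- a finite length module with vanishing `Ext¹(-, W)` is zero -/
theorem subsingleton_of_ext_one (h : Hyp (R := R) W)
    (hr : Module.length R (Ext.{u} (ModuleCat.of R (ResidueField R)) (ModuleCat.of R W) 1) = 1)
    (N : Type u) [AddCommGroup N] [Module R N] (hN : IsFiniteLength R N)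
    (hE : Subsingleton (Ext.{u} (ModuleCat.of R N) (ModuleCat.of R W) 1)) : Subsingleton N := by
  have := length_ext_one_eq h hr N hN
  rw [Module.length_eq_zero_iff.2 hE] at this
  exact Module.length_eq_zero_iff.1 this.symm

end rOne

section cokerLen

variable {R : Type u} [CommRing R]

/-- `Ext¹(P, W) = 0` when `P` embeds in a projective module and `Ext²(-, W) = 0`. -/
theorem subsingleton_ext_one_of_injective {P Q W : Type u} [AddCommGroup P] [Module R P]
    [AddCommGroup Q] [Module R Q] [AddCommGroup W] [Module R W] (ι : P →ₗ[R] Q)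
    (hι : Function.Injective ι) (hQ : Projective (ModuleCat.of R Q))
    (h2 : ∀ X : ModuleCat.{u} R, Subsingleton (Ext.{u} X (ModuleCat.of R W) 2)) :
    Subsingleton (Ext.{u} (ModuleCat.of R P) (ModuleCat.of R W) 1) := by
  have hS := Depth.shortExact_of_linearMaps ι (LinearMap.range ι).mkQ hι
    (Submodule.mkQ_surjective _) (LinearMap.exact_map_mkQ_range ι)
  set S := ModuleCat.shortComplexOfCompEqZero ι (LinearMap.range ι).mkQ
    (LinearMap.exact_map_mkQ_range ι).linearMap_comp_eq_zero with hSdef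
  have key : ∀ x₁ : Ext.{u} S.X₁ (ModuleCat.of R W) 1, x₁ = 0 := by
    intro x₁
    have : Subsingleton (Ext.{u} S.X₃ (ModuleCat.of R W) 2) := h2 _
    obtain ⟨x₂, hx₂⟩ := Ext.contravariant_sequence_exact₁ hS (ModuleCat.of R W) x₁
      (rfl : 1 + 1 = 2) (Subsingleton.elim _ _)
    have : Projective S.X₂ := hQ
    rw [← hx₂, Ext.eq_zero_of_projective x₂, Ext.comp_zero]
  exact ⟨fun a b => by rw [key a, key b]⟩

/-- the cokernel of restriction along an injection `j : P → Q` with `Ext¹(Q, W) = 0`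
is `Ext¹(Q / P, W)` -/
theorem nonempty_coker_res_equiv {P Q W : Type u} [AddCommGroup P] [Module R P]
    [AddCommGroup Q] [Module R Q] [AddCommGroup W] [Module R W] (j : P →ₗ[R] Q)
    (hj : Function.Injective j)
    (hQ : Subsingleton (Ext.{u} (ModuleCat.of R Q) (ModuleCat.of R W) 1)) :
    Nonempty (((P →ₗ[R] W) ⧸ LinearMap.range (LinearMap.lcomp R W j)) ≃ₗ[R]
      Ext.{u} (ModuleCat.of R (Q ⧸ LinearMap.range j)) (ModuleCat.of R W) 1) := by
  have hS := Depth.shortExact_of_linearMaps j (LinearMap.range j).mkQ hj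
    (Submodule.mkQ_surjective _) (LinearMap.exact_map_mkQ_range j)
  set S := ModuleCat.shortComplexOfCompEqZero j (LinearMap.range j).mkQ
    (LinearMap.exact_map_mkQ_range j).linearMap_comp_eq_zero with hSdef
  let e₁ : (P →ₗ[R] W) ≃ₗ[R] Ext.{u} S.X₁ (ModuleCat.of R W) 0 :=
    (HilbLen.ext0LinearEquiv (ModuleCat.of R P) (ModuleCat.of R W)).symm
  let δ : (P →ₗ[R] W) →ₗ[R] Ext.{u} S.X₃ (ModuleCat.of R W) 1 :=
    (ExtBC.connMap hS (ModuleCat.of R W) 0) ∘ₗ e₁.toLinearMap
  have he₁ : ∀ g : P →ₗ[R] W, e₁ g = Ext.mk₀ (ModuleCat.ofHom g) := by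
    intro g
    rw [LinearEquiv.symm_apply_eq]
    change g = ModuleCat.homLinearEquiv (S := R)
      (Ext.linearEquiv₀ (R := R) (Ext.mk₀ (ModuleCat.ofHom g)))
    have : Ext.linearEquiv₀ (R := R) (Ext.mk₀ (ModuleCat.ofHom g)) = ModuleCat.ofHom g := by
      apply (Ext.mk₀_bijective _ _).1
      rw [Ext.mk₀_linearEquiv₀_apply]
    rw [this]
    rfl
  have hδsurj : Function.Surjective δ := by
    intro x₃
    have : Subsingleton (Ext.{u} S.X₂ (ModuleCat.of R W) 1) := hQ
    obtain ⟨x₁, hx₁⟩ := Ext.contravariant_sequence_exact₃ hS (ModuleCat.of R W) x₃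
      (Subsingleton.elim _ _) (add_comm 1 0)
    exact ⟨e₁.symm x₁, by
      change ExtBC.connMap hS (ModuleCat.of R W) 0 (e₁ (e₁.symm x₁)) = x₃
      rw [LinearEquiv.apply_symm_apply]
      exact hx₁⟩
  have hker : LinearMap.ker δ = LinearMap.range (LinearMap.lcomp R W j) := by
    ext g
    rw [LinearMap.mem_ker, LinearMap.mem_range]
    change ExtBC.connMap hS (ModuleCat.of R W) 0 (e₁ g) = 0 ↔ _
    rw [ExtBC.exact_res_conn hS (ModuleCat.of R W) 0 (e₁ g), he₁]
    constructor
    · rintro ⟨x₂, hx₂⟩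
      change (Ext.mk₀ S.f).comp x₂ (zero_add 0) = _ at hx₂
      rw [← Ext.mk₀_homEquiv₀_apply x₂, Ext.mk₀_comp_mk₀] at hx₂
      have h1 := congrArg ModuleCat.Hom.hom ((Ext.mk₀_bijective _ _).1 hx₂)
      exact ⟨(Ext.homEquiv₀ x₂).hom, h1⟩
    · rintro ⟨f', rfl⟩
      refine ⟨Ext.mk₀ (ModuleCat.ofHom f'), ?_⟩
      change (Ext.mk₀ S.f).comp (Ext.mk₀ (ModuleCat.ofHom f')) (zero_add 0) = _
      rw [Ext.mk₀_comp_mk₀]
      rfl
  exact ⟨(Submodule.quotEquivOfEq _ _ hker.symm).trans (δ.quotKerEquivOfSurjective hδsurj)⟩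

/-- length form of `nonempty_coker_res_equiv`, with `Hom(P, W)` replaced by an isomorphic
module `H` -/
theorem length_coker_eq {P Q W H : Type u} [AddCommGroup P] [Module R P]
    [AddCommGroup Q] [Module R Q] [AddCommGroup W] [Module R W] [AddCommGroup H] [Module R H]
    (j : P →ₗ[R] Q) (hj : Function.Injective j)
    (hQ : Subsingleton (Ext.{u} (ModuleCat.of R Q) (ModuleCat.of R W) 1))
    (e : H ≃ₗ[R] (P →ₗ[R] W)) (S : Submodule R H)
    (hS : ∀ h : H, h ∈ S ↔ ∃ f' : Q →ₗ[R] W, f' ∘ₗ j = e h) :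
    Module.length R (H ⧸ S) =
      Module.length R (Ext.{u} (ModuleCat.of R (Q ⧸ LinearMap.range j)) (ModuleCat.of R W) 1) := by
  obtain ⟨e₁⟩ := nonempty_coker_res_equiv j hj hQ
  have hmap : S.map (e : H →ₗ[R] (P →ₗ[R] W)) = LinearMap.range (LinearMap.lcomp R W j) := by
    ext g
    constructor
    · rintro ⟨h, hh, rfl⟩
      obtain ⟨f', hf'⟩ := (hS h).1 hh
      exact ⟨f', hf'⟩
    · rintro ⟨f', rfl⟩
      refine ⟨e.symm (f' ∘ₗ j), (hS _).2 ⟨f', ?_⟩, ?_⟩
      · rw [LinearEquiv.apply_symm_apply]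
      · change e (e.symm (f' ∘ₗ j)) = _
        rw [LinearEquiv.apply_symm_apply]
        rfl
  have e2 : (H ⧸ S) ≃ₗ[R] ((P →ₗ[R] W) ⧸ LinearMap.range (LinearMap.lcomp R W j)) :=
    Submodule.Quotient.equiv _ _ e hmap
  rw [e2.length_eq, e₁.length_eq]

end cokerLen

section relLen

variable {R : Type u} [CommRing R] {M : Type u} [AddCommGroup M] [Module R M]

/-- relative length `ℓ(B / A)` of two submodules -/
noncomputable def relLen (A B : Submodule R M) : ℕ∞ :=
  Module.length R (↥B ⧸ A.submoduleOf B)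

theorem relLen_add {A B C : Submodule R M} (hAB : A ≤ B) (hBC : B ≤ C) :
    relLen A C = relLen A B + relLen B C := by
  let f : (↥B ⧸ A.submoduleOf B) →ₗ[R] (↥C ⧸ A.submoduleOf C) :=
    Submodule.mapQ _ _ (Submodule.inclusion hBC) (fun y hy => hy)
  let g : (↥C ⧸ A.submoduleOf C) →ₗ[R] (↥C ⧸ B.submoduleOf C) :=
    Submodule.mapQ _ _ LinearMap.id (fun y hy => hAB hy)
  have hf : Function.Injective f := by
    rw [← LinearMap.ker_eq_bot, LinearMap.ker_eq_bot']
    intro y hy
    obtain ⟨b, rfl⟩ := Submodule.mkQ_surjective _ y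
    change Submodule.Quotient.mk (Submodule.inclusion hBC b) = 0 at hy
    rw [Submodule.Quotient.mk_eq_zero] at hy
    rw [Submodule.mkQ_apply, Submodule.Quotient.mk_eq_zero]
    exact hy
  have hg : Function.Surjective g := by
    intro y
    obtain ⟨c, rfl⟩ := Submodule.mkQ_surjective _ y
    exact ⟨Submodule.Quotient.mk c, rfl⟩
  have hex : Function.Exact f g := by
    intro y
    obtain ⟨c, rfl⟩ := Submodule.mkQ_surjective _ y
    constructor
    · intro h
      change Submodule.Quotient.mk c = 0 at h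
      rw [Submodule.Quotient.mk_eq_zero] at h
      exact ⟨Submodule.Quotient.mk ⟨c.1, h⟩, rfl⟩
    · rintro ⟨z, hz⟩
      obtain ⟨b, rfl⟩ := Submodule.mkQ_surjective _ z
      rw [← hz]
      change Submodule.Quotient.mk (Submodule.inclusion hBC b) = 0
      rw [Submodule.Quotient.mk_eq_zero]
      exact b.2
  rw [relLen, relLen, relLen]
  exact Module.length_eq_add_of_exact f g hf hg hex

theorem relLen_map_equiv (e : M ≃ₗ[R] M) (A B : Submodule R M) :
    relLen (A.map (e : M →ₗ[R] M)) (B.map (e : M →ₗ[R] M)) = relLen A B := by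
  have h : (A.submoduleOf B).map (e.submoduleMap B : ↥B →ₗ[R] ↥(B.map (e : M →ₗ[R] M))) =
      (A.map (e : M →ₗ[R] M)).submoduleOf (B.map (e : M →ₗ[R] M)) := by
    ext z
    constructor
    · rintro ⟨y, hy, rfl⟩
      exact ⟨y.1, hy, rfl⟩
    · rintro ⟨a, ha, haz⟩
      obtain ⟨b, hb, hbz⟩ := z.2
      have hab : a = b := e.injective (haz.trans hbz.symm)
      refine ⟨⟨a, hab ▸ hb⟩, ha, Subtype.ext haz⟩
  exact (Submodule.Quotient.equiv _ _ (e.submoduleMap B) h).length_eq.symm

theorem relLen_self (A : Submodule R M) : relLen A A = 0 := by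
  rw [relLen, Module.length_eq_zero_iff]
  refine ⟨fun a b => ?_⟩
  obtain ⟨x, rfl⟩ := Submodule.mkQ_surjective _ a
  obtain ⟨y, rfl⟩ := Submodule.mkQ_surjective _ b
  rw [Submodule.mkQ_apply, Submodule.mkQ_apply, Submodule.Quotient.eq]
  exact A.sub_mem x.2 y.2

end relLen

end Groth.Agent.Lib.Helper16.CanId
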