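import Groth.Agent.Lib.Helper16.CanId2

/-!
# Fractional submodules of the fraction field: J / I = Hom(I, J) (helper16)
-/

set_option autoImplicit false
universe u
open CategoryTheory Abelian IsLocalRing

namespace Groth.Agent.Lib.Helper16.CanId

open Groth.Agent.Lib.Helper16 Groth.Agent.Lib

section frac

variable {O : Type u} [CommRing O] [IsDomain O] {K : Type u} [Field K] [Algebra O K]
  [IsFractionRing O K]

/-- multiplication by a nonzero element of `K` as an `O`-linear automorphism -/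
noncomputable def mulEquiv (z : K) (hz : z ≠ 0) : K ≃ₗ[O] K :=
  (LinearEquiv.smulOfNeZero K K z hz).restrictScalars O

theorem mulEquiv_apply (z : K) (hz : z ≠ 0) (y : K) : mulEquiv (O := O) z hz y = z * y := rfl

theorem mem_map_mulEquiv (z : K) (hz : z ≠ 0) (A : Submodule O K) (y : K) :
    y ∈ A.map (mulEquiv (O := O) z hz : K →ₗ[O] K) ↔ ∃ a ∈ A, z * a = y := by
  rw [Submodule.mem_map]
  rfl

/-- the multiplication pairing `(J / I) × I → J` -/
noncomputable def homMap (I J : Submodule O K) : ↥(J / I) →ₗ[O] (↥I →ₗ[O] ↥J) :=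
  LinearMap.mk₂ O
    (fun x y => (⟨x.1 * y.1, Submodule.mem_div_iff_forall_mul_mem.1 x.2 y.1 y.2⟩ : ↥J))
    (fun x x' y => Subtype.ext (by
      change ((x + x' : ↥(J / I)) : K) * (y : K) = (x : K) * y + (x' : K) * y
      rw [Submodule.coe_add, add_mul]))
    (fun c x y => Subtype.ext (by
      change ((c • x : ↥(J / I)) : K) * (y : K) = c • ((x : K) * y)
      rw [Submodule.coe_smul, smul_mul_assoc]))
    (fun x y y' => Subtype.ext (by
      change (x : K) * ((y + y' : ↥I) : K) = (x : K) * y + (x : K) * y'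
      rw [Submodule.coe_add, mul_add]))
    (fun c x y => Subtype.ext (by
      change (x : K) * ((c • y : ↥I) : K) = c • ((x : K) * y)
      rw [Submodule.coe_smul, mul_smul_comm]))

theorem homMap_apply (I J : Submodule O K) (x : ↥(J / I)) (y : I) :
    ((homMap I J x y : ↥J) : K) = x.1 * y.1 := rfl

theorem homMap_injective (I J : Submodule O K) (hI : I ≠ ⊥) :
    Function.Injective (homMap I J) := by
  rw [injective_iff_map_eq_zero]
  intro x hx
  obtain ⟨a, haI, ha0⟩ := Submodule.exists_mem_ne_zero_of_ne_bot hI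
  have h := homMap_apply I J x ⟨a, haI⟩
  rw [hx, LinearMap.zero_apply, Submodule.coe_zero] at h
  apply Subtype.ext
  rcases mul_eq_zero.1 h.symm with h0 | h0
  · exact h0
  · exact absurd h0 ha0

theorem homMap_surjective (I J : Submodule O K) (hI : I ≠ ⊥) :
    Function.Surjective (homMap I J) := by
  intro g
  obtain ⟨z, hz⟩ := GorOver.exists_mul_eq I hI (J.subtype ∘ₗ g)
  have hzm : z ∈ J / I := by
    intro y hy
    rw [← hz ⟨y, hy⟩]
    exact (g ⟨y, hy⟩).2
  refine ⟨⟨z, hzm⟩, ?_⟩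
  apply LinearMap.ext
  intro y
  apply Subtype.ext
  rw [homMap_apply]
  exact (hz y).symm

/-- `J / I ≃ Hom(I, J)` for a nonzero submodule `I` of the fraction field -/
noncomputable def homEquiv (I J : Submodule O K) (hI : I ≠ ⊥) :
    ↥(J / I) ≃ₗ[O] (↥I →ₗ[O] ↥J) :=
  LinearEquiv.ofBijective (homMap I J) ⟨homMap_injective I J hI, homMap_surjective I J hI⟩

/-- fractional submodules: `z X ⊆ 1` for some nonzero `z` -/
def IsFrac (X : Submodule O K) : Prop := ∃ z : K, z ≠ 0 ∧ z ∈ (1 : Submodule O K) / X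

theorem isFrac_of_fg {X : Submodule O K} (hX : X.FG) : IsFrac X := by
  obtain ⟨d, hd, hdI⟩ := FractionalIdeal.isFractional_of_fg (S := nonZeroDivisors O) hX
  refine ⟨algebraMap O K d, GorOver.algebraMap_ne_zero (nonZeroDivisors.ne_zero hd), ?_⟩
  intro m hm
  obtain ⟨o, ho⟩ := hdI m hm
  rw [Submodule.mem_one]
  exact ⟨o, by rw [ho, Algebra.smul_def]⟩

theorem IsFrac.exists_int {X : Submodule O K} (h : IsFrac X) :
    ∃ c : O, c ≠ 0 ∧ ∀ y ∈ X, algebraMap O K c * y ∈ (1 : Submodule O K) := by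
  obtain ⟨z, hz0, hz⟩ := h
  obtain ⟨p, q, hq, hpq⟩ := IsFractionRing.div_surjective (A := O) z
  have hq0 : algebraMap O K q ≠ 0 := GorOver.algebraMap_ne_zero (nonZeroDivisors.ne_zero hq)
  have hp : algebraMap O K p = algebraMap O K q * z := by
    rw [← hpq]
    field_simp
  refine ⟨p, ?_, ?_⟩
  · rintro rfl
    rw [map_zero] at hp
    rcases mul_eq_zero.1 hp.symm with h0 | h0
    · exact hq0 h0
    · exact hz0 h0
  · intro y hy
    have h1 : z * y ∈ (1 : Submodule O K) := hz y hy
    have h2 : algebraMap O K p * y = q • (z * y) := by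
      rw [hp, Algebra.smul_def, mul_assoc]
    rw [h2]
    exact Submodule.smul_mem _ _ h1

theorem IsFrac.mono {X X' : Submodule O K} (h : IsFrac X) (hle : X' ≤ X) : IsFrac X' := by
  obtain ⟨z, hz0, hz⟩ := h
  exact ⟨z, hz0, fun y hy => hz y (hle hy)⟩

theorem exists_int_mem {I : Submodule O K} (hI : I ≠ ⊥) :
    ∃ p : O, p ≠ 0 ∧ algebraMap O K p ∈ I := by
  obtain ⟨a, haI, ha0⟩ := Submodule.exists_mem_ne_zero_of_ne_bot hI
  obtain ⟨p, q, hq, hpq⟩ := IsFractionRing.div_surjective (A := O) a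
  have hq0 : algebraMap O K q ≠ 0 := GorOver.algebraMap_ne_zero (nonZeroDivisors.ne_zero hq)
  have hp : algebraMap O K p = q • a := by
    rw [Algebra.smul_def, ← hpq]
    field_simp
  refine ⟨p, ?_, ?_⟩
  · rintro rfl
    rw [map_zero, Algebra.smul_def] at hp
    rcases mul_eq_zero.1 hp.symm with h0 | h0
    · exact hq0 h0
    · exact ha0 h0
  · rw [hp]
    exact Submodule.smul_mem _ _ haI

theorem IsFrac.div {I J : Submodule O K} (hJ : IsFrac J) (hI : I ≠ ⊥) : IsFrac (J / I) := by
  obtain ⟨z, hz0, hz⟩ := hJ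
  obtain ⟨a, haI, ha0⟩ := Submodule.exists_mem_ne_zero_of_ne_bot hI
  refine ⟨z * a, mul_ne_zero hz0 ha0, ?_⟩
  intro y hy
  have h1 : y * a ∈ J := hy a haI
  have h2 : z * a * y = z * (y * a) := by ring
  rw [h2]
  exact hz _ h1

theorem div_ne_bot {I J : Submodule O K} (hJ : J ≠ ⊥) (hI : IsFrac I) : J / I ≠ ⊥ := by
  obtain ⟨c, hc0, hc⟩ := hI.exists_int
  obtain ⟨w, hwJ, hw0⟩ := Submodule.exists_mem_ne_zero_of_ne_bot hJ
  intro hbot
  have hmem : w * algebraMap O K c ∈ J / I := by
    intro y hy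
    obtain ⟨o, ho⟩ := Submodule.mem_one.1 (hc y hy)
    have : w * algebraMap O K c * y = o • w := by
      rw [mul_assoc, ← ho, Algebra.smul_def, mul_comm]
    rw [this]
    exact Submodule.smul_mem _ _ hwJ
  rw [hbot, Submodule.mem_bot] at hmem
  rcases mul_eq_zero.1 hmem with h0 | h0
  · exact hw0 h0
  · exact GorOver.algebraMap_ne_zero hc0 h0

theorem IsFrac.finite [IsNoetherianRing O] {X : Submodule O K} (h : IsFrac X) :
    Module.Finite O ↥X := by
  obtain ⟨z, hz0, hz⟩ := h
  have hN : IsNoetherian O ↥(1 : Submodule O K) :=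
    isNoetherian_of_linearEquiv (GorOver.oneEquiv O K)
  let μ : ↥X →ₗ[O] ↥(1 : Submodule O K) :=
    LinearMap.codRestrict 1 ((LinearMap.mulLeft O z) ∘ₗ X.subtype) (fun x => hz x.1 x.2)
  have hμ : Function.Injective μ := by
    intro x x' h
    have h1 : z * x.1 = z * x'.1 := congrArg Subtype.val h
    exact Subtype.ext (mul_left_cancel₀ hz0 h1)
  exact Module.Finite.of_injective μ hμ

theorem torsionFree (I : Submodule O K) :
    ∀ (r : O) (n : I), r ≠ 0 → r • n = 0 → n = 0 := GorOver.torsionFree_submodule I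

end frac

end Groth.Agent.Lib.Helper16.CanId
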