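import Groth.Agent.Lib.Helper16.CanId3

/-!
# One-dimensional local domains: finite length quotients of fractional submodules, rank one lemma (helper16)
-/

set_option autoImplicit false
universe u
open CategoryTheory Abelian IsLocalRing Pointwise

namespace Groth.Agent.Lib.Helper16.CanId

open Groth.Agent.Lib.Helper16 Groth.Agent.Lib

section dimOne

variable {O : Type u} [CommRing O] [IsDomain O] [IsLocalRing O] [IsNoetherianRing O]
  {K : Type u} [Field K] [Algebra O K] [IsFractionRing O K]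

omit [IsNoetherianRing O] in
theorem exists_mem_maximalIdeal_ne_zero (hdim : ringKrullDim O = 1) :
    ∃ x ∈ maximalIdeal O, x ≠ 0 := by
  by_contra hcon
  push_neg at hcon
  have hbot : maximalIdeal O = ⊥ := by
    rw [eq_bot_iff]
    intro x hx
    exact hcon x hx
  have hF : IsField O := IsLocalRing.isField_iff_maximalIdeal_eq.2 hbot
  have := ringKrullDim_eq_zero_of_isField hF
  rw [hdim] at this
  exact one_ne_zero this

theorem exists_pow_maximalIdeal_le (hdim : ringKrullDim O = 1) (c : O) (hc : c ≠ 0) :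
    ∃ k : ℕ, maximalIdeal O ^ k ≤ Ideal.span {c} := by
  have hK : Ring.KrullDimLE 1 O := Ring.krullDimLE_iff.2 (by rw [hdim]; rfl)
  apply Ideal.exists_pow_le_of_le_radical_of_fg _ (IsNoetherian.noetherian _)
  rw [Ideal.radical_eq_sInf]
  apply le_sInf
  rintro P ⟨hP, hPprime⟩
  have hPne : P ≠ ⊥ := by
    intro h
    apply hc
    have := hP (Ideal.mem_span_singleton_self c)
    rwa [h, Ideal.mem_bot] at this
  have := hPprime.isMaximal_of_ne_bot hPne
  rw [IsLocalRing.eq_maximalIdeal this]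

theorem isFiniteLength_quot (hdim : ringKrullDim O = 1) (A B : Submodule O K)
    [Module.Finite O ↥B] (c₀ : O) (hc₀ : c₀ ≠ 0)
    (hc : ∀ b ∈ B, algebraMap O K c₀ * b ∈ A) : IsFiniteLength O (↥B ⧸ A.submoduleOf B) := by
  obtain ⟨k, hk⟩ := exists_pow_maximalIdeal_le hdim c₀ hc₀
  apply FL.isFiniteLength_of_finite_of_pow_smul _ k
  intro a ha y
  obtain ⟨b, rfl⟩ := Submodule.mkQ_surjective _ y
  obtain ⟨t, rfl⟩ := Ideal.mem_span_singleton'.1 (hk ha)
  rw [← map_smul, Submodule.mkQ_apply, Submodule.Quotient.mk_eq_zero]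
  change (((t * c₀) • b : ↥B) : K) ∈ A
  rw [Submodule.coe_smul, mul_smul, Algebra.smul_def c₀]
  exact A.smul_mem t (hc b.1 b.2)

omit [IsLocalRing O] [IsNoetherianRing O] in
theorem exists_int_mul_le {I J : Submodule O K} (hI : IsFrac I) (hJ0 : J ≠ ⊥) :
    ∃ c₀ : O, c₀ ≠ 0 ∧ ∀ b ∈ I, algebraMap O K c₀ * b ∈ J := by
  obtain ⟨d, hd0, hd⟩ := hI.exists_int
  obtain ⟨p, hp0, hp⟩ := exists_int_mem hJ0
  refine ⟨p * d, mul_ne_zero hp0 hd0, fun b hb => ?_⟩
  obtain ⟨o, ho⟩ := Submodule.mem_one.1 (hd b hb)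
  have : algebraMap O K (p * d) * b = o • algebraMap O K p := by
    rw [map_mul, mul_assoc, ← ho, Algebra.smul_def, mul_comm]
  rw [this]
  exact J.smul_mem o hp

omit [IsLocalRing O] [IsNoetherianRing O] in
theorem length_quotSMulTop (A : Submodule O K) (x : O) (hx : x ≠ 0) :
    Module.length O (QuotSMulTop x ↥A) =
      relLen (A.map (mulEquiv (O := O) (algebraMap O K x) (GorOver.algebraMap_ne_zero hx) :
        K →ₗ[O] K)) A := by
  have h : (x • (⊤ : Submodule O ↥A)) =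
      (A.map (mulEquiv (O := O) (algebraMap O K x) (GorOver.algebraMap_ne_zero hx) :
        K →ₗ[O] K)).submoduleOf A := by
    ext y
    rw [Submodule.mem_smul_pointwise_iff_exists]
    constructor
    · rintro ⟨s, -, rfl⟩
      change ((x • s : ↥A) : K) ∈ A.map _
      rw [mem_map_mulEquiv]
      exact ⟨s.1, s.2, by rw [Submodule.coe_smul, Algebra.smul_def]⟩
    · intro hy
      change (y : K) ∈ A.map _ at hy
      rw [mem_map_mulEquiv] at hy
      obtain ⟨a, ha, hay⟩ := hy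
      exact ⟨⟨a, ha⟩, Submodule.mem_top, Subtype.ext (by
        rw [Submodule.coe_smul, Algebra.smul_def]
        exact hay)⟩
  exact (Submodule.quotEquivOfEq _ _ h).length_eq

/-- the rank one lemma: `ℓ(ω / xω) = ℓ(O / xO)` -/
theorem relLen_mul_eq (hdim : ringKrullDim O = 1) (ω : Submodule O K) (hω0 : ω ≠ ⊥)
    (hωfg : ω.FG) (x : O) (hx : x ≠ 0) :
    relLen (ω.map (mulEquiv (O := O) (algebraMap O K x) (GorOver.algebraMap_ne_zero hx) :
        K →ₗ[O] K)) ω =
      relLen ((1 : Submodule O K).map (mulEquiv (O := O) (algebraMap O K x)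
        (GorOver.algebraMap_ne_zero hx) : K →ₗ[O] K)) 1 := by
  obtain ⟨d, hd0, hd⟩ := (isFrac_of_fg hωfg).exists_int
  set μx : K ≃ₗ[O] K := mulEquiv (O := O) (algebraMap O K x) (GorOver.algebraMap_ne_zero hx)
    with hμx
  set μd : K ≃ₗ[O] K := mulEquiv (O := O) (algebraMap O K d) (GorOver.algebraMap_ne_zero hd0)
    with hμd
  have hμxa : ∀ y, μx y = algebraMap O K x * y := fun y => rfl
  have hμda : ∀ y, μd y = algebraMap O K d * y := fun y => rfl
  set a : Submodule O K := ω.map (μd : K →ₗ[O] K) with ha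
  have ha1 : a ≤ 1 := by
    rintro y ⟨w, hw, rfl⟩
    exact hd w hw
  have h1 : relLen (ω.map (μx : K →ₗ[O] K)) ω =
      relLen ((ω.map (μx : K →ₗ[O] K)).map (μd : K →ₗ[O] K)) a :=
    (relLen_map_equiv μd _ _).symm
  have hcomm : (ω.map (μx : K →ₗ[O] K)).map (μd : K →ₗ[O] K) = a.map (μx : K →ₗ[O] K) := by
    ext y
    constructor
    · rintro ⟨u, ⟨w, hw, rfl⟩, rfl⟩
      refine ⟨μd w, ⟨w, hw, rfl⟩, ?_⟩
      change μx (μd w) = μd (μx w)
      rw [hμxa, hμda, hμda, hμxa]
      ring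
    · rintro ⟨v, ⟨w, hw, rfl⟩, rfl⟩
      refine ⟨μx w, ⟨w, hw, rfl⟩, ?_⟩
      change μd (μx w) = μx (μd w)
      rw [hμxa, hμda, hμda, hμxa]
      ring
  have hxa_a : a.map (μx : K →ₗ[O] K) ≤ a := by
    rintro y ⟨v, hv, rfl⟩
    change μx v ∈ a
    rw [hμxa, ← Algebra.smul_def]
    exact a.smul_mem x hv
  have hx1_1 : (1 : Submodule O K).map (μx : K →ₗ[O] K) ≤ 1 := by
    rintro y ⟨v, hv, rfl⟩
    change μx v ∈ (1 : Submodule O K)
    rw [hμxa, ← Algebra.smul_def]
    exact Submodule.smul_mem _ x hv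
  have hxa_x1 : a.map (μx : K →ₗ[O] K) ≤ (1 : Submodule O K).map (μx : K →ₗ[O] K) :=
    Submodule.map_mono ha1
  have e1 := relLen_add hxa_a ha1
  have e2 := relLen_add hxa_x1 hx1_1
  have e3 : relLen (a.map (μx : K →ₗ[O] K)) ((1 : Submodule O K).map (μx : K →ₗ[O] K)) =
      relLen a 1 := relLen_map_equiv μx a 1
  have ha0 : a ≠ ⊥ := by
    obtain ⟨w, hw, hw0⟩ := Submodule.exists_mem_ne_zero_of_ne_bot hω0
    intro hbot
    have : μd w ∈ a := ⟨w, hw, rfl⟩
    rw [hbot, Submodule.mem_bot, hμda] at this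
    rcases mul_eq_zero.1 this with h0 | h0
    · exact GorOver.algebraMap_ne_zero hd0 h0
    · exact hw0 h0
  have hfin1 : Module.Finite O ↥(1 : Submodule O K) := Module.Finite.equiv (GorOver.oneEquiv O K)
  have h1frac : IsFrac (1 : Submodule O K) := ⟨1, one_ne_zero, fun y hy => by rwa [one_mul]⟩
  obtain ⟨c₀, hc₀, hc⟩ := exists_int_mul_le h1frac ha0
  have hfl : relLen a 1 ≠ ⊤ := by
    rw [relLen, Module.length_ne_top_iff]
    exact isFiniteLength_quot hdim a 1 c₀ hc₀ hc
  rw [h1, hcomm]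
  rw [e2, e3, add_comm] at e1
  exact (ENat.add_left_injective_of_ne_top hfl e1).symm

end dimOne

end Groth.Agent.Lib.Helper16.CanId
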