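import Groth.Agent.Lib.Helper16.CanId4

/-!
# Canonical ideals of one-dimensional local domains: length duality and reflexivity (helper16)
-/

set_option autoImplicit false
universe u
open CategoryTheory Abelian IsLocalRing Pointwise

namespace Groth.Agent.Lib.Helper16.CanId

open Groth.Agent.Lib.Helper16 Groth.Agent.Lib

section canonical

variable {O : Type u} [CommRing O] [IsDomain O] [IsLocalRing O] [IsNoetherianRing O]
  {K : Type u} [Field K] [Algebra O K] [IsFractionRing O K]

/-- a canonical ideal: a nonzero finitely generated submodule of `K` with `Ext²(-, ω) = 0` -/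
structure IsCan (ω : Submodule O K) : Prop where
  ne_bot : ω ≠ ⊥
  fg : ω.FG
  ext2 : ∀ X : ModuleCat.{u} O, Subsingleton (Ext.{u} X (ModuleCat.of O ↥ω) 2)

variable {ω : Submodule O K}

theorem IsCan.hyp (hdim : ringKrullDim O = 1) (h : IsCan ω) : Hyp (R := O) ↥ω where
  ext2 := h.ext2
  hom0 := by
    intro N _ _ hN
    obtain ⟨_, hart⟩ := isFiniteLength_iff_isNoetherian_isArtinian.1 hN
    have hpt : LocCoh.IsPowerTorsion (maximalIdeal O) N := Helper25.isPowerTorsion_of_isArtinian
    obtain ⟨x, hxm, hx0⟩ := exists_mem_maximalIdeal_ne_zero hdim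
    refine ⟨fun f g => ?_⟩
    have key : ∀ f : N →ₗ[O] ↥ω, f = 0 := by
      intro f
      apply LinearMap.ext
      intro n
      obtain ⟨k, hk⟩ := hpt n
      have h1 : x ^ k • f n = 0 := by
        rw [← map_smul, hk (x ^ k) (Ideal.pow_mem_pow hxm k), map_zero]
      exact torsionFree ω (x ^ k) (f n) (pow_ne_zero k hx0) h1
    rw [key f, key g]

theorem IsCan.length_residue (hdim : ringKrullDim O = 1) (h : IsCan ω) :
    Module.length O (Ext.{u} (ModuleCat.of O (ResidueField O)) (ModuleCat.of O ↥ω) 1) = 1 := by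
  obtain ⟨x, hxm, hx0⟩ := exists_mem_maximalIdeal_ne_zero hdim
  have hxreg : IsSMulRegular O x := by
    intro a b hab
    exact mul_left_cancel₀ hx0 hab
  obtain ⟨k, hk⟩ := exists_pow_maximalIdeal_le hdim x hx0
  have hfl : IsFiniteLength O (QuotSMulTop x O) := by
    apply FL.isFiniteLength_of_finite_of_pow_smul _ k
    intro a ha y
    obtain ⟨b, rfl⟩ := Submodule.mkQ_surjective _ y
    obtain ⟨t, rfl⟩ := Ideal.mem_span_singleton'.1 (hk ha)
    rw [← map_smul, Submodule.mkQ_apply, Submodule.Quotient.mk_eq_zero,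
      Submodule.mem_smul_pointwise_iff_exists]
    exact ⟨t * b, Submodule.mem_top, by simp only [smul_eq_mul]; ring⟩
  have hne : Nontrivial (QuotSMulTop x O) := by
    apply Submodule.Quotient.nontrivial_iff.2
    intro htop
    have h1 : (1 : O) ∈ x • (⊤ : Submodule O O) := by
      rw [htop]
      exact Submodule.mem_top
    rw [Submodule.mem_smul_pointwise_iff_exists] at h1
    obtain ⟨y, -, hy⟩ := h1
    have hu : IsUnit x := IsUnit.of_mul_eq_one y (by rw [← hy]; rfl)
    exact (IsLocalRing.mem_maximalIdeal x).1 hxm hu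
  refine length_ext_one_residueField (h.hyp hdim) x hxreg hfl hne ?_
  rw [length_quotSMulTop ω x hx0, relLen_mul_eq hdim ω h.ne_bot h.fg x hx0,
    ← length_quotSMulTop (1 : Submodule O K) x hx0]
  exact (QuotSMulTop.congr x (GorOver.oneEquiv O K)).length_eq.symm

theorem IsCan.length_ext_one (hdim : ringKrullDim O = 1) (h : IsCan ω) (N : Type u)
    [AddCommGroup N] [Module O N] (hN : IsFiniteLength O N) :
    Module.length O (Ext.{u} (ModuleCat.of O N) (ModuleCat.of O ↥ω) 1) = Module.length O N :=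
  length_ext_one_eq (h.hyp hdim) (h.length_residue hdim) N hN

omit [IsLocalRing O] [IsNoetherianRing O] in
theorem ext_one_frac (h2 : ∀ X : ModuleCat.{u} O, Subsingleton (Ext.{u} X (ModuleCat.of O ↥ω) 2))
    (X : Submodule O K) (hX : IsFrac X) :
    Subsingleton (Ext.{u} (ModuleCat.of O ↥X) (ModuleCat.of O ↥ω) 1) := by
  obtain ⟨z, hz0, hz⟩ := hX
  have hinj : Function.Injective (GorOver.dualMap X ⟨z, hz⟩) := by
    intro y y' hyy
    have h1 := GorOver.dualMap_apply X ⟨z, hz⟩ y
    have h2 := GorOver.dualMap_apply X ⟨z, hz⟩ y'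
    rw [hyy, h2] at h1
    exact Subtype.ext (mul_left_cancel₀ hz0 h1.symm)
  have : Projective (ModuleCat.of O O) := inferInstance
  exact subsingleton_ext_one_of_injective (GorOver.dualMap X ⟨z, hz⟩) hinj this h2

/-- reflexivity: `ω : (ω : I) = I` -/
theorem IsCan.div_div (hdim : ringKrullDim O = 1) (h : IsCan ω) (I : Submodule O K)
    (hI0 : I ≠ ⊥) (hI : IsFrac I) : ω / (ω / I) = I := by
  have hIX : I ≤ ω / (ω / I) := by
    intro y hy c hc
    rw [mul_comm]
    exact hc y hy
  apply le_antisymm _ hIX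
  have hC0 : ω / I ≠ ⊥ := div_ne_bot h.ne_bot hI
  have hXfrac : IsFrac (ω / (ω / I)) := (isFrac_of_fg h.fg).div hC0
  have finX : Module.Finite O ↥(ω / (ω / I)) := hXfrac.finite
  let j : ↥I →ₗ[O] ↥(ω / (ω / I)) := Submodule.inclusion hIX
  have hjinj : Function.Injective j := Submodule.inclusion_injective hIX
  have hres : ∀ f : ↥I →ₗ[O] ↥ω, ∃ f' : ↥(ω / (ω / I)) →ₗ[O] ↥ω, f' ∘ₗ j = f := by
    intro f
    obtain ⟨⟨z, hz⟩, rfl⟩ := homMap_surjective I ω hI0 f
    have hz' : z ∈ ω / (ω / (ω / I)) := by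
      intro x hx
      rw [mul_comm]
      exact hx z hz
    refine ⟨homMap _ ω ⟨z, hz'⟩, ?_⟩
    apply LinearMap.ext
    intro m
    apply Subtype.ext
    rfl
  have hN := GorOver.subsingleton_ext_coker j hjinj ↥ω (ext_one_frac h.ext2 _ hXfrac) hres
  obtain ⟨c₀, hc₀, hc⟩ := exists_int_mul_le hXfrac hI0
  have hrange : LinearMap.range j = I.submoduleOf (ω / (ω / I)) :=
    Submodule.range_inclusion I _ hIX
  have hfl : IsFiniteLength O (↥(ω / (ω / I)) ⧸ LinearMap.range j) := by
    rw [hrange]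
    exact isFiniteLength_quot hdim I _ c₀ hc₀ hc
  have hsub := subsingleton_of_ext_one (h.hyp hdim) (h.length_residue hdim) _ hfl hN
  intro x hx
  have h0 : Submodule.mkQ (LinearMap.range j) ⟨x, hx⟩ = 0 := Subsingleton.elim _ _
  rw [Submodule.mkQ_apply, Submodule.Quotient.mk_eq_zero] at h0
  obtain ⟨m, hm⟩ := h0
  have h1 : (m : K) = x := congrArg Subtype.val hm
  rw [← h1]
  exact m.2

/-- the duality formula `ℓ((ω : J) / (ω : I)) = ℓ(I / J)` -/
theorem IsCan.relLen_div (hdim : ringKrullDim O = 1) (h : IsCan ω) {J I : Submodule O K}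
    (hJI : J ≤ I) (hJ0 : J ≠ ⊥) (hI : IsFrac I) :
    relLen (ω / I) (ω / J) = relLen J I := by
  have hI0 : I ≠ ⊥ := fun hb => hJ0 (eq_bot_iff.2 (hb ▸ hJI))
  have finI : Module.Finite O ↥I := hI.finite
  let j : ↥J →ₗ[O] ↥I := Submodule.inclusion hJI
  have hjinj : Function.Injective j := Submodule.inclusion_injective hJI
  have hrange : LinearMap.range j = J.submoduleOf I := Submodule.range_inclusion J I hJI
  obtain ⟨c₀, hc₀, hc⟩ := exists_int_mul_le hI hJ0
  have hfl : IsFiniteLength O (↥I ⧸ LinearMap.range j) := by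
    rw [hrange]
    exact isFiniteLength_quot hdim J I c₀ hc₀ hc
  have hlen := h.length_ext_one hdim _ hfl
  have hle : ω / I ≤ ω / J := by
    intro x hx y hy
    exact hx y (hJI hy)
  have hS : ∀ x : ↥(ω / J), x ∈ (ω / I).submoduleOf (ω / J) ↔
      ∃ f' : ↥I →ₗ[O] ↥ω, f' ∘ₗ j = homEquiv J ω hJ0 x := by
    intro x
    constructor
    · intro hx
      refine ⟨homMap I ω ⟨x.1, hx⟩, ?_⟩
      apply LinearMap.ext
      intro m
      apply Subtype.ext
      rfl
    · rintro ⟨f, hf⟩
      obtain ⟨⟨z, hz⟩, rfl⟩ := homMap_surjective I ω hI0 f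
      obtain ⟨a, haJ, ha0⟩ := Submodule.exists_mem_ne_zero_of_ne_bot hJ0
      have h1 := congrArg Subtype.val (LinearMap.congr_fun hf ⟨a, haJ⟩)
      change z * a = x.1 * a at h1
      have hzx : z = x.1 := mul_right_cancel₀ ha0 h1
      change x.1 ∈ ω / I
      rw [← hzx]
      exact hz
  have key := length_coker_eq (W := ↥ω) j hjinj (ext_one_frac h.ext2 I hI)
    (homEquiv J ω hJ0) ((ω / I).submoduleOf (ω / J)) hS
  rw [relLen, key, hlen, relLen]
  exact (Submodule.quotEquivOfEq _ _ hrange).length_eq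

end canonical

end Groth.Agent.Lib.Helper16.CanId
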