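import Groth.Agent.Lib.Helper16.CanId5

/-!
# Canonical ideal between O and its normalisation: the length formula (helper16)
-/

set_option autoImplicit false
universe u
open CategoryTheory Abelian IsLocalRing Pointwise

namespace Groth.Agent.Lib.Helper16.CanId

open Groth.Agent.Lib.Helper16 Groth.Agent.Lib

section overring

variable {O : Type u} [CommRing O] [IsDomain O] [IsLocalRing O] [IsNoetherianRing O]
  {K : Type u} [Field K] [Algebra O K] [IsFractionRing O K]

omit [IsDomain O] [IsLocalRing O] [IsNoetherianRing O] [IsFractionRing O K] in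
theorem one_mem_one : (1 : K) ∈ (1 : Submodule O K) := Submodule.mem_one.2 ⟨1, map_one _⟩

omit [IsLocalRing O] [IsNoetherianRing O] in
theorem isFrac_one : IsFrac (1 : Submodule O K) :=
  ⟨1, one_ne_zero, fun y hy => by rwa [one_mul]⟩

omit [IsDomain O] [IsLocalRing O] [IsNoetherianRing O] [IsFractionRing O K] in
theorem one_ne_bot : (1 : Submodule O K) ≠ ⊥ := by
  intro hb
  have h := one_mem_one (O := O) (K := K)
  rw [hb, Submodule.mem_bot] at h
  exact one_ne_zero h

omit [IsDomain O] [IsLocalRing O] [IsNoetherianRing O] [IsFractionRing O K] in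
theorem div_one_eq (ω : Submodule O K) : ω / 1 = ω := by
  ext x
  constructor
  · intro hx
    have := hx 1 one_mem_one
    rwa [mul_one] at this
  · intro hx y hy
    obtain ⟨o, rfl⟩ := Submodule.mem_one.1 hy
    rw [mul_comm, ← Algebra.smul_def]
    exact ω.smul_mem o hx

theorem IsCan.div_self (hdim : ringKrullDim O = 1) {ω : Submodule O K} (h : IsCan ω) :
    ω / ω = 1 := by
  have := h.div_div hdim 1 one_ne_bot isFrac_one
  rwa [div_one_eq] at this

theorem main_length (hdim : ringKrullDim O = 1) (ω B : Submodule O K) (h : IsCan ω)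
    (h1ω : 1 ≤ ω) (hωB : ω ≤ B) (hmul : ∀ x ∈ B, ∀ y ∈ B, x * y ∈ B)
    (hBfin : Module.Finite O ↥B) :
    relLen 1 ω + relLen (1 / B) B = 2 * relLen 1 B := by
  have h1B : 1 ≤ B := h1ω.trans hωB
  have hone : (1 : K) ∈ B := h1B one_mem_one
  have hBfrac : IsFrac B := isFrac_of_fg (Module.Finite.iff_fg.1 hBfin)
  have hωω := h.div_self hdim
  have hωB' : ω / B = 1 / B := by
    apply le_antisymm
    · intro x hx b hb
      rw [← hωω]
      intro w hw
      have : x * b * w = x * (b * w) := mul_assoc _ _ _
      rw [this]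
      exact hx _ (hmul b hb w (hωB hw))
    · intro x hx b hb
      exact h1ω (hx b hb)
  have hdual := h.relLen_div hdim h1B one_ne_bot hBfrac
  rw [div_one_eq, hωB'] at hdual
  have hC1 : 1 / B ≤ 1 := by
    intro x hx
    have := hx 1 hone
    rwa [mul_one] at this
  have e1 := relLen_add hC1 h1ω
  have e2 := relLen_add hC1 h1B
  rw [e2, ← add_assoc, add_comm (relLen 1 ω), ← e1, hdual, two_mul]

omit [IsDomain O] [IsLocalRing O] [IsNoetherianRing O] [IsFractionRing O K] in
theorem colon_smul_top_eq (B : Submodule O K) (hone : (1 : K) ∈ B)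
    (hmul : ∀ x ∈ B, ∀ y ∈ B, x * y ∈ B) :
    ((1 : Submodule O K).colon B) • (⊤ : Submodule O ↥B) = (1 / B).submoduleOf B := by
  apply le_antisymm
  · rw [Submodule.smul_le]
    intro c hc b _
    change ((c • b : ↥B) : K) ∈ 1 / B
    intro b' hb'
    rw [Submodule.coe_smul, smul_mul_assoc]
    exact Submodule.mem_colon.1 hc (b.1 * b') (hmul _ b.2 _ hb')
  · intro y hy
    change (y : K) ∈ 1 / B at hy
    have h1 := hy 1 hone
    rw [mul_one] at h1
    obtain ⟨c, hc⟩ := Submodule.mem_one.1 h1
    have hcC : c ∈ (1 : Submodule O K).colon B := by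
      rw [Submodule.mem_colon]
      intro p hp
      rw [Algebra.smul_def, hc]
      exact hy p hp
    have hy' : y = c • (⟨1, hone⟩ : ↥B) := Subtype.ext (by
      rw [Submodule.coe_smul, Algebra.smul_def, mul_one]
      exact hc.symm)
    rw [hy']
    exact Submodule.smul_mem_smul hcC Submodule.mem_top

theorem isCan_of (ω B : Submodule O K) (h1ω : 1 ≤ ω) (hωB : ω ≤ B) (hBfin : Module.Finite O ↥B)
    (hinj : HasInjectiveDimensionLT (ModuleCat.of O ↥ω) 2) : IsCan ω where
  ne_bot := by
    intro hb
    have := h1ω (one_mem_one (O := O) (K := K))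
    rw [hb, Submodule.mem_bot] at this
    exact one_ne_zero this
  fg := by
    have hN : IsNoetherian O ↥B := isNoetherian_of_isNoetherianRing_of_finite O _
    have : Module.Finite O ↥ω :=
      Module.Finite.of_injective (Submodule.inclusion hωB) (Submodule.inclusion_injective hωB)
    exact Module.Finite.iff_fg.1 this
  ext2 := fun X => HasInjectiveDimensionLT.subsingleton (ModuleCat.of O ↥ω) 2 2 le_rfl X

end overring

end Groth.Agent.Lib.Helper16.CanId
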