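import Groth.Agent.Lib.Helper16.LocCohCd
import Mathlib.RingTheory.KrullDimension.NonZeroDivisors

set_option autoImplicit false
universe u
open CategoryTheory Opposite Limits

namespace Groth.Agent.Lib.Helper16.LC

open Groth.Agent.Lib.Helper16.Depth
open Pointwise

section dim

variable {R : Type u} [CommRing R]

theorem zeroLocus_eq_Ici (p : PrimeSpectrum R) :
    PrimeSpectrum.zeroLocus (p.asIdeal : Set R) = Set.Ici p := by
  ext q
  rw [PrimeSpectrum.mem_zeroLocus, Set.mem_Ici, ← PrimeSpectrum.asIdeal_le_asIdeal]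
  rfl

/-- A chain of primes starting at a prime containing `f` has length `< dim R`, if `f` avoids the
minimal primes of maximal dimension. -/
theorem length_succ_le_of_mem_head (d : ℕ) (hd : ringKrullDim R = d) (f : R)
    (hf : ∀ p ∈ minimalPrimes R, ringKrullDim (R ⧸ p) = d → f ∉ p)
    (l : LTSeries (PrimeSpectrum R)) (hl : f ∈ l.head.asIdeal) : l.length + 1 ≤ d := by
  obtain ⟨p, hp, hp'⟩ := Ideal.exists_minimalPrimes_le (J := l.head.asIdeal) bot_le
  let p' : PrimeSpectrum R := ⟨p, hp.1.1⟩
  by_cases h : p' = l.head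
  · have hfp : f ∈ p := by
      have : p = l.head.asIdeal := congrArg PrimeSpectrum.asIdeal h
      rw [this]; exact hl
    have hne : ringKrullDim (R ⧸ p) ≠ d := fun h' => hf p hp h' hfp
    have hle : ringKrullDim (R ⧸ p) ≤ d := hd ▸ ringKrullDim_quotient_le p
    have h1 : (l.length : WithBot ℕ∞) ≤ ringKrullDim (R ⧸ p) := by
      rw [ringKrullDim_quotient]
      have h2 : PrimeSpectrum.zeroLocus (p : Set R) = Set.Ici p' := zeroLocus_eq_Ici p'
      rw [h2, ← Order.coheight_eq_krullDim_Ici, h]
      exact_mod_cast Order.length_le_coheight_head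
    have h3 : (l.length : WithBot ℕ∞) < d := lt_of_le_of_lt h1 (lt_of_le_of_ne hle hne)
    have h4 : l.length < d := by exact_mod_cast h3
    omega
  · have hlt : p' < l.head := lt_of_le_of_ne hp' h
    have := Order.LTSeries.length_le_krullDim (l.cons p' hlt)
    rw [RelSeries.cons_length] at this
    have h5 : Order.krullDim (PrimeSpectrum R) = d := hd
    rw [h5] at this
    exact_mod_cast this

theorem supportDim_lt_of_support_subset (d : ℕ) (hd : ringKrullDim R = d) (f : R)
    (hf : ∀ p ∈ minimalPrimes R, ringKrullDim (R ⧸ p) = d → f ∉ p)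
    (N : Type u) [AddCommGroup N] [Module R N]
    (hN : Module.support R N ⊆ PrimeSpectrum.zeroLocus {f}) :
    Module.supportDim R N < (d : WithBot ℕ∞) := by
  rw [Module.supportDim, Order.krullDim_lt_coe_iff]
  intro l
  let l' : LTSeries (PrimeSpectrum R) := l.map Subtype.val (fun _ _ h => h)
  have hl' : f ∈ l'.head.asIdeal := by
    have := hN l.head.2
    rw [PrimeSpectrum.mem_zeroLocus, Set.singleton_subset_iff] at this
    exact this
  have := length_succ_le_of_mem_head d hd f hf l' hl'
  have h2 : l'.length = l.length := LTSeries.map_length _ _ _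
  omega

end dim

section surj

variable {R : Type u} [CommRing R] [IsNoetherianRing R]

theorem smul_H_surjective (I : Ideal R) (d : ℕ) (hd : ringKrullDim R = d) (f : R)
    (hf : ∀ p ∈ minimalPrimes R, ringKrullDim (R ⧸ p) = d → f ∉ p)
    (M : Type u) [AddCommGroup M] [Module R M] [Module.Finite R M] :
    Function.Surjective (fun x : LocCoh.H I d M => f • x) := by
  have hvan : ∀ (X : Type u) [AddCommGroup X] [Module R X],
      Subsingleton (LocCoh.H I (d + 1) X) := by
    intro X _ _
    refine subsingleton_H_of_supportDim_lt I X (d + 1) ?_ (d + 1) le_rfl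
    refine lt_of_le_of_lt ((Module.supportDim_le_ringKrullDim R X).trans hd.le) ?_
    exact_mod_cast Nat.lt_succ_self d
  have hN : Subsingleton (LocCoh.H I d (QuotSMulTop f M)) := by
    refine subsingleton_H_of_supportDim_lt I _ d ?_ d le_rfl
    apply supportDim_lt_of_support_subset d hd f hf
    rw [Module.support_quotSMulTop]
    exact Set.inter_subset_right
  let P : Submodule R M := f • (⊤ : Submodule R M)
  let ψ : M →ₗ[R] P := LinearMap.codRestrict P (LinearMap.lsmul R M f)
    (fun m => Submodule.smul_mem_pointwise_smul m f ⊤ trivial)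
  have hψ : Function.Surjective ψ := by
    rintro ⟨y, hy⟩
    obtain ⟨m, -, rfl⟩ := (Submodule.mem_smul_pointwise_iff_exists _ _ _).mp hy
    exact ⟨m, rfl⟩
  have hA := shortExact_of_linearMaps (LinearMap.ker ψ).subtype ψ
    (Submodule.injective_subtype _) hψ (LinearMap.exact_subtype_ker_map ψ)
  have hB := shortExact_of_linearMaps P.subtype P.mkQ
    (Submodule.injective_subtype _) (Submodule.mkQ_surjective _)
    (LinearMap.exact_subtype_mkQ _)
  intro x
  have hN' : Subsingleton ((localCohomology I d).obj (ModuleCat.of R (M ⧸ P))) := hN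
  obtain ⟨y, hy⟩ := Hmap_exact₂ I hB d x (hN'.elim _ _)
  have hK : Subsingleton ((localCohomology I (d + 1)).obj (ModuleCat.of R (LinearMap.ker ψ))) :=
    hvan _
  obtain ⟨w, hw⟩ := Hmap_exact₃ I hA d y (hK.elim _ _)
  refine ⟨w, ?_⟩
  change f • w = x
  rw [← hy, ← hw, ← Hmap_smul_id]
  have hcomp : (f • 𝟙 (ModuleCat.of R M)) = ModuleCat.ofHom ψ ≫ ModuleCat.ofHom P.subtype := by
    apply ModuleCat.hom_ext
    apply LinearMap.ext
    intro m
    rfl
  rw [hcomp]
  change Hmap I d (ModuleCat.ofHom ψ ≫ ModuleCat.ofHom P.subtype) w = _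
  rw [show Hmap I d (ModuleCat.ofHom ψ ≫ ModuleCat.ofHom P.subtype) =
    (Hmap I d (ModuleCat.ofHom P.subtype)).comp (Hmap I d (ModuleCat.ofHom ψ)) from by
      rw [Hmap, Functor.map_comp, ModuleCat.hom_comp]]
  rfl

end surj

end Groth.Agent.Lib.Helper16.LC
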