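import Groth.Agent.Lib.Helper16.LocCohLES

/-!
# Representability of `Ext^n(-, G)` on modules killed by a power of `J` (helper16)

Let `R` be Noetherian, `J` an ideal, `G` a module and `n` such that `Ext^{n-1}(F', G) = 0` for all
finite `F'` killed by a power of `J`.  Then for every finite `F` killed by `J^k` the natural map
`Φ : Ext^n(F, G) → Hom(F, H^n_J(G))` is bijective.
-/

set_option autoImplicit false
universe u
open CategoryTheory Opposite Limits Abelian

namespace Groth.Agent.Lib.Helper16.ExtRep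

open Groth.Agent.Lib.Helper16.LC

variable {R : Type u} [CommRing R] (J : Ideal R)

/-- `F` is killed by `J ^ k`. -/
def KilledBy (k : ℕ) (F : Type u) [AddCommGroup F] [Module R F] : Prop :=
  ∀ a ∈ J ^ k, ∀ x : F, a • x = 0

variable {J}

theorem KilledBy.submodule {k : ℕ} {F : Type u} [AddCommGroup F] [Module R F]
    (h : KilledBy J k F) (N : Submodule R F) : KilledBy J k N := by
  intro a ha x
  apply Subtype.ext
  exact h a ha x.1

theorem killedBy_quot (k : ℕ) : KilledBy J k (R ⧸ J ^ k) := by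
  intro a ha x
  obtain ⟨r, rfl⟩ := Ideal.Quotient.mk_surjective x
  rw [Algebra.smul_def]
  change Ideal.Quotient.mk (J ^ k) a * Ideal.Quotient.mk (J ^ k) r = 0
  rw [Ideal.Quotient.eq_zero_iff_mem.mpr ha, zero_mul]

theorem killedBy_pi (k : ℕ) (a : ℕ) : KilledBy J k (Fin a → R ⧸ J ^ k) := by
  intro r hr x
  funext j
  exact killedBy_quot k r hr (x j)

/-- typed version for `ModuleCat` carriers -/
theorem hkQ (k : ℕ) : KilledBy J k (Q J k) := killedBy_quot k

/-- typed version for `ModuleCat` carriers -/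
theorem hkP (k a : ℕ) : KilledBy J k (ModuleCat.of R (Fin a → R ⧸ J ^ k)) := killedBy_pi k a

theorem mk_eq_smul_one (k : ℕ) (r : R) :
    (Ideal.Quotient.mk (J ^ k) r : R ⧸ J ^ k) = r • (Ideal.Quotient.mk (J ^ k) 1 : R ⧸ J ^ k) := by
  rw [Algebra.smul_def, Ideal.Quotient.algebraMap_eq, ← map_mul, mul_one]

section phi

variable {k : ℕ} {F : ModuleCat.{u} R} (hk : KilledBy J k F)

/-- `R/J^k → F`, `1 ↦ x`. -/
noncomputable def φ (x : F) : Q J k ⟶ F :=
  ModuleCat.ofHom (Submodule.liftQ (J ^ k) (LinearMap.toSpanSingleton R F x) (by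
    intro a ha
    rw [LinearMap.mem_ker, LinearMap.toSpanSingleton_apply]
    exact hk a ha x))

theorem φ_mk (x : F) (r : R) : (φ hk x).hom (Ideal.Quotient.mk (J ^ k) r) = r • x := rfl

theorem φ_add (x y : F) : φ hk (x + y) = φ hk x + φ hk y := by
  apply ModuleCat.hom_ext
  apply LinearMap.ext
  intro z
  obtain ⟨r, rfl⟩ := Ideal.Quotient.mk_surjective z
  change (φ hk (x + y)).hom _ = (φ hk x).hom _ + (φ hk y).hom _
  rw [φ_mk, φ_mk, φ_mk, smul_add]

theorem φ_smul (a : R) (x : F) : φ hk (a • x) = a • φ hk x := by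
  apply ModuleCat.hom_ext
  apply LinearMap.ext
  intro z
  obtain ⟨r, rfl⟩ := Ideal.Quotient.mk_surjective z
  change (φ hk (a • x)).hom _ = a • (φ hk x).hom _
  rw [φ_mk, φ_mk, smul_comm]

theorem φ_comp {F' : ModuleCat.{u} R} (hk' : KilledBy J k F') (g : F ⟶ F') (x : F) :
    φ hk x ≫ g = φ hk' (g.hom x) := by
  apply ModuleCat.hom_ext
  apply LinearMap.ext
  intro z
  obtain ⟨r, rfl⟩ := Ideal.Quotient.mk_surjective z
  change g.hom ((φ hk x).hom _) = (φ hk' (g.hom x)).hom _
  rw [φ_mk, φ_mk, map_smul]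

theorem φ_quot_one : φ (hkQ (J := J) k) (Ideal.Quotient.mk (J ^ k) 1 : R ⧸ J ^ k) = 𝟙 _ := by
  apply ModuleCat.hom_ext
  apply LinearMap.ext
  intro z
  obtain ⟨r, rfl⟩ := Ideal.Quotient.mk_surjective z
  rw [φ_mk]
  exact (mk_eq_smul_one k r).symm

theorem φ_quot_mk (a : R) :
    φ (hkQ (J := J) k) (Ideal.Quotient.mk (J ^ k) a : R ⧸ J ^ k) = a • 𝟙 _ := by
  rw [mk_eq_smul_one k a, φ_smul, φ_quot_one]

end phi

section Phi

variable (n : ℕ) (G : ModuleCat.{u} R) {k : ℕ} {F : ModuleCat.{u} R} (hk : KilledBy J k F)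

/-- The comparison map `Ext^n(F, G) → Hom(F, H^n_J(G))`. -/
noncomputable def Φ : Ext.{u} F G n →ₗ[R] (F →ₗ[R] (localCohomology J n).obj G) where
  toFun e :=
    { toFun := fun x => ι J n G k ((Ext.mk₀ (φ hk x)).comp e (zero_add n))
      map_add' := by
        intro x y
        rw [φ_add, Ext.mk₀_add, Ext.add_comp, map_add]
      map_smul' := by
        intro a x
        rw [φ_smul, Ext.mk₀_smul, Ext.smul_comp, map_smul]
        rfl }
  map_add' := by
    intro e e'
    apply LinearMap.ext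
    intro x
    change ι J n G k _ = ι J n G k _ + ι J n G k _
    rw [Ext.comp_add, map_add]
  map_smul' := by
    intro a e
    apply LinearMap.ext
    intro x
    change ι J n G k _ = a • ι J n G k _
    rw [Ext.comp_smul, map_smul]

theorem Φ_apply (e : Ext.{u} F G n) (x : F) :
    Φ n G hk e x = ι J n G k ((Ext.mk₀ (φ hk x)).comp e (zero_add n)) := rfl

theorem Φ_naturality {F' : ModuleCat.{u} R} (hk' : KilledBy J k F') (g : F ⟶ F')
    (e : Ext.{u} F' G n) (x : F) :
    Φ n G hk ((Ext.mk₀ g).comp e (zero_add n)) x = Φ n G hk' e (g.hom x) := by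
  rw [Φ_apply, Φ_apply, Ext.mk₀_comp_mk₀_assoc, φ_comp hk hk']

theorem Φ_quot_one (e : Ext.{u} (Q J k) G n) :
    Φ n G (hkQ (J := J) k) e (Ideal.Quotient.mk (J ^ k) 1 : R ⧸ J ^ k) = ι J n G k e := by
  rw [Φ_apply, φ_quot_one, Ext.mk₀_id_comp]

theorem Φ_quot_mk (e : Ext.{u} (Q J k) G n) (a : R) :
    Φ n G (hkQ (J := J) k) e (Ideal.Quotient.mk (J ^ k) a : R ⧸ J ^ k) =
      ι J n G k (a • e) := by
  rw [Φ_apply, φ_quot_mk, Ext.mk₀_smul, Ext.smul_comp, Ext.mk₀_id_comp]

end Phi

/-- The vanishing hypothesis in degree `n - 1`. -/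
def Vanish (J : Ideal R) (n : ℕ) (G : ModuleCat.{u} R) : Prop :=
  ∀ (F' : ModuleCat.{u} R) [Module.Finite R F'] (k : ℕ), KilledBy J k F' →
    ∀ i : ℕ, i + 1 = n → Subsingleton (Ext.{u} F' G i)

section main

variable {n : ℕ} {G : ModuleCat.{u} R} (hV : Vanish J n G)

include hV

/-- Left exactness: precomposition with an epimorphism whose kernel is finite and killed by a power
of `J` is injective on `Ext^n(-, G)`. -/
theorem precomp_injective {S : ShortComplex (ModuleCat.{u} R)} (hS : S.ShortExact)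
    [Module.Finite R S.X₁] {k : ℕ} (hk : KilledBy J k S.X₁) (e : Ext.{u} S.X₃ G n)
    (he : (Ext.mk₀ S.g).comp e (zero_add n) = 0) : e = 0 := by
  rcases n with _ | n
  · have : Epi S.g := hS.epi_g
    exact Ext.precomp_mk₀_injective_of_epi G S.g (by simpa using he)
  · obtain ⟨x₁, hx₁⟩ := Ext.contravariant_sequence_exact₃ hS G e he (add_comm 1 n)
    have := hV S.X₁ k hk n rfl
    rw [← hx₁, Subsingleton.elim x₁ 0, Ext.comp_zero]

variable [IsNoetherianRing R]

/-- the transition maps of the system `Ext^n(R/J^k, G)` are injective -/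
theorem trans_injective {k l : ℕ} (h : k ≤ l) (e : E J n G k) (he : trans J n G h e = 0) :
    e = 0 := by
  have hπ : Function.Surjective (quotMap J h).hom := by
    intro y
    obtain ⟨r, rfl⟩ := Ideal.Quotient.mk_surjective y
    exact ⟨Ideal.Quotient.mk _ r, rfl⟩
  have hS := LinearMap.shortExact_shortComplexKer hπ
  have hfin : Module.Finite R (quotMap J h).hom.shortComplexKer.X₁ := by
    change Module.Finite R (LinearMap.ker (quotMap J h).hom)
    infer_instance
  have hk : KilledBy J l (quotMap J h).hom.shortComplexKer.X₁ :=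
    KilledBy.submodule (killedBy_quot l) _
  exact precomp_injective hV hS hk e he

theorem Φ_quot_injective (k : ℕ) : Function.Injective (Φ n G (hkQ (J := J) k)) := by
  rw [injective_iff_map_eq_zero]
  intro e he
  have h1 : ι J n G k e = 0 := by
    rw [← Φ_quot_one, he]
    rfl
  obtain ⟨l, hl, hz⟩ := (ι_eq_zero_iff J n G e).mp h1
  exact trans_injective hV hl e hz

/-- projections and inclusions of a finite power -/
noncomputable def pr (X : Type u) [AddCommGroup X] [Module R X] (a : ℕ) (j : Fin a) :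
    ModuleCat.of R (Fin a → X) ⟶ ModuleCat.of R X :=
  ModuleCat.ofHom (LinearMap.proj j)

noncomputable def inj (X : Type u) [AddCommGroup X] [Module R X] (a : ℕ) (j : Fin a) :
    ModuleCat.of R X ⟶ ModuleCat.of R (Fin a → X) :=
  ModuleCat.ofHom (LinearMap.single R (fun _ => X) j)

omit hV [IsNoetherianRing R] in
theorem sum_pr_inj (X : Type u) [AddCommGroup X] [Module R X] (a : ℕ) :
    ∑ j : Fin a, pr X a j ≫ inj X a j = 𝟙 (ModuleCat.of R (Fin a → X)) := by
  apply ModuleCat.hom_ext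
  apply LinearMap.ext
  intro y
  have h1 : (∑ j : Fin a, pr (R := R) X a j ≫ inj X a j).hom =
      ∑ j : Fin a, (pr (R := R) X a j ≫ inj X a j).hom := by
    exact map_sum (ModuleCat.homAddEquiv (M := ModuleCat.of R (Fin a → X))
      (N := ModuleCat.of R (Fin a → X))) (fun j => pr X a j ≫ inj X a j) Finset.univ
  rw [h1, LinearMap.sum_apply]
  change ∑ j : Fin a, Pi.single j (y j) = y
  exact Finset.univ_sum_single y

omit hV [IsNoetherianRing R] in
theorem ext_decomp (X : Type u) [AddCommGroup X] [Module R X] (a : ℕ)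
    (e : Ext.{u} (ModuleCat.of R (Fin a → X)) G n) :
    e = ∑ j : Fin a, (Ext.mk₀ (pr X a j)).comp ((Ext.mk₀ (inj X a j)).comp e (zero_add n))
      (zero_add n) := by
  have h1 : ∀ j : Fin a, (Ext.mk₀ (pr X a j)).comp ((Ext.mk₀ (inj X a j)).comp e (zero_add n))
      (zero_add n) = (Ext.mk₀ (pr X a j ≫ inj X a j)).comp e (zero_add n) := by
    intro j
    rw [Ext.mk₀_comp_mk₀_assoc]
  simp_rw [h1]
  rw [← Ext.sum_comp, ← Ext.mk₀_sum, sum_pr_inj, Ext.mk₀_id_comp]

theorem Φ_free_injective (k a : ℕ) :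
    Function.Injective (Φ n G (hkP (J := J) k a)) := by
  rw [injective_iff_map_eq_zero]
  intro e he
  rw [ext_decomp (R ⧸ J ^ k) a e]
  refine Finset.sum_eq_zero fun j _ => ?_
  have : (Ext.mk₀ (inj (R ⧸ J ^ k) a j)).comp e (zero_add n) = 0 := by
    apply Φ_quot_injective hV k
    rw [map_zero]
    apply LinearMap.ext
    intro y
    rw [Φ_naturality n G (hkQ k) (hkP k a), he]
    rfl
  rw [this, Ext.comp_zero]

omit hV [IsNoetherianRing R] in
/-- a finite module killed by `J^k` is a quotient of a finite power of `R/J^k` -/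
theorem exists_surjection {k : ℕ} {F : ModuleCat.{u} R} [Module.Finite R F]
    (hk : KilledBy J k F) :
    ∃ (a : ℕ) (σ : (Fin a → R ⧸ J ^ k) →ₗ[R] F), Function.Surjective σ := by
  obtain ⟨a, f, hf⟩ := Module.Finite.exists_fin' R F
  refine ⟨a, LinearMap.lsum R (fun _ => R ⧸ J ^ k) R
    (fun j => (φ hk (f (Pi.single j 1))).hom), ?_⟩
  intro y
  obtain ⟨c, rfl⟩ := hf y
  refine ⟨fun j => Ideal.Quotient.mk (J ^ k) (c j), ?_⟩
  rw [LinearMap.lsum_apply, LinearMap.sum_apply]
  have : c = ∑ j : Fin a, c j • Pi.single j (1 : R) := by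
    funext i
    simp [Finset.sum_apply, Pi.single_apply]
  conv_rhs => rw [this, map_sum]
  refine Finset.sum_congr rfl fun j _ => ?_
  rw [LinearMap.comp_apply, LinearMap.proj_apply, map_smul]
  rfl

theorem Φ_injective {k : ℕ} {F : ModuleCat.{u} R} [Module.Finite R F] (hk : KilledBy J k F) :
    Function.Injective (Φ n G hk) := by
  obtain ⟨a, σ, hσ⟩ := exists_surjection hk
  have hS := LinearMap.shortExact_shortComplexKer hσ
  have hfin : Module.Finite R σ.shortComplexKer.X₁ := by
    change Module.Finite R (LinearMap.ker σ)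
    infer_instance
  have hk₁ : KilledBy J k σ.shortComplexKer.X₁ := KilledBy.submodule (killedBy_pi k a) _
  rw [injective_iff_map_eq_zero]
  intro e he
  apply precomp_injective hV hS hk₁ e
  apply Φ_free_injective hV k a
  rw [map_zero]
  apply LinearMap.ext
  intro y
  have := Φ_naturality n G (hkP (J := J) k a) hk (ModuleCat.ofHom σ) e y
  change Φ n G (hkP (J := J) k a) ((Ext.mk₀ (ModuleCat.ofHom σ)).comp e (zero_add n)) y = 0
  rw [this, he]
  rfl

theorem Φ_quot_surjective (k : ℕ) : Function.Surjective (Φ n G (hkQ (J := J) k)) := by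
  intro ψ
  obtain ⟨l₀, e₀, he₀⟩ := ι_jointly_surjective J n G (ψ (Ideal.Quotient.mk (J ^ k) 1))
  -- move to a level `l ≥ k`
  have hl₀ : l₀ ≤ max k l₀ := le_max_right _ _
  have hkl : k ≤ max k l₀ := le_max_left _ _
  set l := max k l₀ with hl
  set e' := trans J n G hl₀ e₀ with he'
  have he'ψ : ι J n G l e' = ψ (Ideal.Quotient.mk (J ^ k) 1) := by rw [he', ι_trans, he₀]
  -- `e'` is killed by `J^k`
  have hkill : ∀ a ∈ J ^ k, a • e' = 0 := by
    intro a ha
    have h1 : ι J n G l (a • e') = 0 := by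
      rw [map_smul, he'ψ, ← map_smul]
      have : a • (Ideal.Quotient.mk (J ^ k) 1 : R ⧸ J ^ k) = 0 := killedBy_quot k a ha _
      rw [this, map_zero]
    obtain ⟨l', hl', hz⟩ := (ι_eq_zero_iff J n G _).mp h1
    exact trans_injective hV hl' _ hz
  -- the kernel of `R/J^l → R/J^k`
  have hπ : Function.Surjective (quotMap J hkl).hom := by
    intro y
    obtain ⟨r, rfl⟩ := Ideal.Quotient.mk_surjective y
    exact ⟨Ideal.Quotient.mk _ r, rfl⟩
  have hS := LinearMap.shortExact_shortComplexKer hπ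
  have hfin : Module.Finite R (quotMap J hkl).hom.shortComplexKer.X₁ := by
    change Module.Finite R (LinearMap.ker (quotMap J hkl).hom)
    infer_instance
  have hkK : KilledBy J l (quotMap J hkl).hom.shortComplexKer.X₁ :=
    KilledBy.submodule (killedBy_quot l) _
  have hres : (Ext.mk₀ (quotMap J hkl).hom.shortComplexKer.f).comp e' (zero_add n) = 0 := by
    apply Φ_injective hV hkK
    rw [map_zero]
    apply LinearMap.ext
    rintro ⟨y, hy⟩
    rw [Φ_naturality n G hkK (hkQ l)]
    obtain ⟨a, rfl⟩ := Ideal.Quotient.mk_surjective y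
    have ha : a ∈ J ^ k := by
      have : (quotMap J hkl).hom (Ideal.Quotient.mk (J ^ l) a) = 0 := hy
      rw [quotMap_apply] at this
      exact Ideal.Quotient.eq_zero_iff_mem.mp this
    change Φ n G (hkQ (J := J) l) e' (Ideal.Quotient.mk (J ^ l) a) = 0
    rw [Φ_quot_mk, hkill a ha, map_zero]
  obtain ⟨e, he⟩ := Ext.contravariant_sequence_exact₂ hS G e' hres
  refine ⟨e, ?_⟩
  apply LinearMap.ext
  intro y
  obtain ⟨r, rfl⟩ := Ideal.Quotient.mk_surjective y
  rw [mk_eq_smul_one k r, map_smul, map_smul, Φ_quot_one, ← he'ψ, ← ι_trans J n G hkl e]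
  congr 2

theorem Φ_free_surjective (k a : ℕ) :
    Function.Surjective (Φ n G (hkP (J := J) k a)) := by
  intro ψ
  have h0 : ∀ j : Fin a, ∃ e : Ext.{u} (Q J k) G n, Φ n G (hkQ (J := J) k) e =
      ψ ∘ₗ LinearMap.single R (fun _ => R ⧸ J ^ k) j := fun j => Φ_quot_surjective hV k _
  choose e he using h0
  refine ⟨∑ j : Fin a, (Ext.mk₀ (pr (R ⧸ J ^ k) a j)).comp (e j) (zero_add n), ?_⟩
  apply LinearMap.ext
  intro y
  rw [map_sum, LinearMap.sum_apply]
  have h1 : ∀ j : Fin a, Φ n G (hkP (J := J) k a)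
      ((Ext.mk₀ (pr (R ⧸ J ^ k) a j)).comp (e j) (zero_add n)) y =
      ψ (Pi.single j (y j)) := by
    intro j
    rw [Φ_naturality n G (hkP k a) (hkQ k), he j]
    rfl
  simp_rw [h1]
  rw [← map_sum, Finset.univ_sum_single]

/-- **Representability**: `Φ` is bijective on finite modules killed by a power of `J`. -/
theorem Φ_bijective {k : ℕ} {F : ModuleCat.{u} R} [Module.Finite R F] (hk : KilledBy J k F) :
    Function.Bijective (Φ n G hk) := by
  refine ⟨Φ_injective hV hk, ?_⟩
  intro ψ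
  obtain ⟨a, σ, hσ⟩ := exists_surjection hk
  have hS := LinearMap.shortExact_shortComplexKer hσ
  have hfin : Module.Finite R σ.shortComplexKer.X₁ := by
    change Module.Finite R (LinearMap.ker σ)
    infer_instance
  have hk₁ : KilledBy J k σ.shortComplexKer.X₁ := KilledBy.submodule (killedBy_pi k a) _
  obtain ⟨e₀, he₀⟩ := Φ_free_surjective hV k a (ψ ∘ₗ σ)
  have hres : (Ext.mk₀ σ.shortComplexKer.f).comp e₀ (zero_add n) = 0 := by
    apply Φ_injective hV hk₁
    rw [map_zero]
    apply LinearMap.ext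
    rintro ⟨y, hy⟩
    rw [Φ_naturality n G hk₁ (hkP k a), he₀]
    change ψ (σ y) = 0
    rw [LinearMap.mem_ker.mp hy, map_zero]
  obtain ⟨e, he⟩ := Ext.contravariant_sequence_exact₂ hS G e₀ hres
  refine ⟨e, ?_⟩
  apply LinearMap.ext
  intro x
  obtain ⟨y, rfl⟩ := hσ x
  have := Φ_naturality n G (hkP (J := J) k a) hk (ModuleCat.ofHom σ) e y
  change Φ n G hk e (σ y) = ψ (σ y)
  have h2 : Φ n G hk e (σ y) = Φ n G (hkP (J := J) k a) e₀ y := by
    rw [← he]
    exact this.symm
  rw [h2, he₀]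
  rfl

end main

end Groth.Agent.Lib.Helper16.ExtRep
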