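import Groth.Agent.Lib.Helper16.LocCohLES
import Groth.Agent.Lib.Helper16.LocCohGrothVanish
import Groth.Agent.Lib.Helper16.ExtVanish
import Groth.Agent.Lib.Helper16.ExtRepresent

/-!
# Local duality via the Yoneda pairing (helper16)

`R` Noetherian, `I` an ideal, `n : ℕ`, `W := H^n_I(R)`.  The Yoneda pairing gives natural maps
`θ : H^i_I(M) → Hom_R(Ext^j_R(M, R), W)` for `i + j = n`.  If

* `H^{n+1}_I(X) = 0` for every module `X`,
* `W` is an injective `R`-module,
* `H^i_I(R) = 0` for `i < n`,

then `θ` is bijective for every finite `R`-module `M` (`bijective_θ`).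
-/

set_option autoImplicit false
universe u
open CategoryTheory Abelian

namespace Groth.Agent.Lib.Helper16.LD

open Groth.Agent.Lib.Helper16.LC Groth.Agent.Lib.Helper16.Depth

variable {R : Type u} [CommRing R] (I : Ideal R)

section pairing

theorem Hcomp_add {M N : ModuleCat.{u} R} {j : ℕ} (β β' : Ext.{u} M N j) (i n : ℕ) (h : i + j = n)
    (z : (localCohomology I i).obj M) :
    Hcomp I (β + β') i n h z = Hcomp I β i n h z + Hcomp I β' i n h z := by
  obtain ⟨k, e, rfl⟩ := ι_jointly_surjective I i M z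
  rw [Hcomp_ι, Hcomp_ι, Hcomp_ι, Ext.comp_add, map_add]

theorem Hcomp_smul {M N : ModuleCat.{u} R} {j : ℕ} (r : R) (β : Ext.{u} M N j) (i n : ℕ)
    (h : i + j = n) (z : (localCohomology I i).obj M) :
    Hcomp I (r • β) i n h z = r • Hcomp I β i n h z := by
  obtain ⟨k, e, rfl⟩ := ι_jointly_surjective I i M z
  rw [Hcomp_ι, Hcomp_ι, Ext.comp_smul, map_smul]

theorem Hcomp_mk₀ {M N : ModuleCat.{u} R} (f : M ⟶ N) (i : ℕ) (z : (localCohomology I i).obj M) :
    Hcomp I (Ext.mk₀ f) i i (add_zero i) z = Hmap I i f z := by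
  obtain ⟨k, e, rfl⟩ := ι_jointly_surjective I i M z
  rw [Hcomp_ι, Hmap_ι]

theorem Hcomp_comp {M N P : ModuleCat.{u} R} {a b c : ℕ} (β : Ext.{u} M N a) (γ : Ext.{u} N P b)
    (hc : a + b = c) (i i' n : ℕ) (h1 : i + a = i') (h2 : i' + b = n) (h3 : i + c = n)
    (z : (localCohomology I i).obj M) :
    Hcomp I (β.comp γ hc) i n h3 z = Hcomp I γ i' n h2 (Hcomp I β i i' h1 z) := by
  obtain ⟨k, e, rfl⟩ := ι_jointly_surjective I i M z
  rw [Hcomp_ι, Hcomp_ι, Hcomp_ι]
  congr 1
  exact (Ext.comp_assoc e β γ h1 hc (by omega)).symm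

/-- The Yoneda pairing `H^i_I(M) → Hom(Ext^j(M, R), H^n_I(R))`, `i + j = n`. -/
noncomputable def θ {i j n : ℕ} (h : i + j = n) (M : ModuleCat.{u} R) :
    (localCohomology I i).obj M →ₗ[R]
      (Ext.{u} M (ModuleCat.of R R) j →ₗ[R] (localCohomology I n).obj (ModuleCat.of R R)) where
  toFun z :=
    { toFun := fun e => Hcomp I e i n h z
      map_add' := fun e e' => Hcomp_add I e e' i n h z
      map_smul' := fun r e => Hcomp_smul I r e i n h z }
  map_add' := by
    intro z z'
    apply LinearMap.ext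
    intro e
    exact map_add (Hcomp I e i n h) z z'
  map_smul' := by
    intro r z
    apply LinearMap.ext
    intro e
    exact map_smul (Hcomp I e i n h) r z

theorem θ_apply {i j n : ℕ} (h : i + j = n) (M : ModuleCat.{u} R)
    (z : (localCohomology I i).obj M) (e : Ext.{u} M (ModuleCat.of R R) j) :
    θ I h M z e = Hcomp I e i n h z := rfl

/-- naturality of the pairing in `M` -/
theorem θ_naturality {i j n : ℕ} (h : i + j = n) {M N : ModuleCat.{u} R} (f : M ⟶ N)
    (z : (localCohomology I i).obj M) (e : Ext.{u} N (ModuleCat.of R R) j) :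
    θ I h N (Hmap I i f z) e = θ I h M z ((Ext.mk₀ f).comp e (zero_add j)) := by
  rw [θ_apply, θ_apply, ← Hcomp_mk₀,
    Hcomp_comp I (Ext.mk₀ f) e (zero_add j) i i n (add_zero i) h h]

/-- compatibility of the pairing with connecting maps -/
theorem θ_δ {i j n : ℕ} (h : i + 1 + j = n) {S : ShortComplex (ModuleCat.{u} R)}
    (hS : S.ShortExact) (z : (localCohomology I i).obj S.X₃)
    (e : Ext.{u} S.X₁ (ModuleCat.of R R) j) {j' : ℕ} (hj : 1 + j = j') (h' : i + j' = n) :
    θ I h' S.X₃ z (hS.extClass.comp e hj) = θ I h S.X₁ (δ I hS i z) e := by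
  rw [θ_apply, θ_apply, δ]
  exact Hcomp_comp I hS.extClass e hj i (i + 1) n rfl h h' z

end pairing

section free

open Groth.Agent.Lib.Helper16.ExtRep

theorem Hmap_id₀ (p : ℕ) (A : ModuleCat.{u} R) (z : (localCohomology I p).obj A) :
    Hmap I p (𝟙 A) z = z := by
  unfold Hmap
  rw [CategoryTheory.Functor.map_id]
  rfl

theorem Hmap_comp₀ (p : ℕ) {A B C : ModuleCat.{u} R} (f : A ⟶ B) (g : B ⟶ C)
    (z : (localCohomology I p).obj A) :
    Hmap I p (f ≫ g) z = Hmap I p g (Hmap I p f z) := by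
  unfold Hmap
  rw [CategoryTheory.Functor.map_comp]
  rfl

theorem Hmap_add (p : ℕ) {A B : ModuleCat.{u} R} (f g : A ⟶ B) (z : (localCohomology I p).obj A) :
    Hmap I p (f + g) z = Hmap I p f z + Hmap I p g z := by
  rw [← Hcomp_mk₀, Ext.mk₀_add, Hcomp_add, Hcomp_mk₀, Hcomp_mk₀]

theorem Hmap_zero₀ (p : ℕ) {A B : ModuleCat.{u} R} (z : (localCohomology I p).obj A) :
    Hmap I p (0 : A ⟶ B) z = 0 := by
  obtain ⟨k, e, rfl⟩ := ι_jointly_surjective I p A z
  rw [Hmap_ι, Ext.mk₀_zero, Ext.comp_zero, map_zero]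

theorem Hmap_sum (p : ℕ) {A B : ModuleCat.{u} R} {ι' : Type} (s : Finset ι') (f : ι' → (A ⟶ B))
    (z : (localCohomology I p).obj A) :
    Hmap I p (∑ j ∈ s, f j) z = ∑ j ∈ s, Hmap I p (f j) z := by
  classical
  induction s using Finset.induction_on with
  | empty => simp [Hmap_zero₀]
  | insert a s ha ih => rw [Finset.sum_insert ha, Finset.sum_insert ha, Hmap_add, ih]

/-- decomposition of a class in the local cohomology of a finite free module -/
theorem H_decomp (p : ℕ) (X : Type u) [AddCommGroup X] [Module R X] (a : ℕ)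
    (z : (localCohomology I p).obj (ModuleCat.of R (Fin a → X))) :
    z = ∑ j : Fin a, Hmap I p (inj X a j) (Hmap I p (pr X a j) z) := by
  conv_lhs => rw [← Hmap_id₀ I p _ z, ← sum_pr_inj X a, Hmap_sum]
  refine Finset.sum_congr rfl fun j _ => ?_
  rw [Hmap_comp₀]

theorem subsingleton_H_free {p : ℕ} (hp : Subsingleton ((localCohomology I p).obj (ModuleCat.of R R)))
    (a : ℕ) : Subsingleton ((localCohomology I p).obj (ModuleCat.of R (Fin a → R))) := by
  refine ⟨fun x y => ?_⟩
  suffices hz : ∀ z : (localCohomology I p).obj (ModuleCat.of R (Fin a → R)), z = 0 by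
    rw [hz x, hz y]
  intro z
  rw [H_decomp I p R a z]
  refine Finset.sum_eq_zero fun j _ => ?_
  rw [Subsingleton.elim (Hmap I p (pr R a j) z) 0, map_zero]

end free

section freeθ

open Groth.Agent.Lib.Helper16.ExtRep

theorem θ_mk₀ {i : ℕ} {M : ModuleCat.{u} R} (z : (localCohomology I i).obj M)
    (f : M ⟶ ModuleCat.of R R) :
    θ I (add_zero i) M z (Ext.mk₀ f) = Hmap I i f z := by
  rw [θ_apply, Hcomp_mk₀]

theorem θ_free_injective (n a : ℕ) :
    Function.Injective (θ I (add_zero n) (ModuleCat.of R (Fin a → R))) := by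
  rw [injective_iff_map_eq_zero]
  intro z hz
  rw [H_decomp I n R a z]
  refine Finset.sum_eq_zero fun j _ => ?_
  have : Hmap I n (pr R a j) z = 0 := by
    rw [← θ_mk₀, hz]
    rfl
  rw [this, map_zero]

theorem inj_comp (a : ℕ) (φ : ModuleCat.of R (Fin a → R) ⟶ ModuleCat.of R R) (j : Fin a) :
    inj R a j ≫ φ = (φ.hom (Pi.single j 1)) • 𝟙 (ModuleCat.of R R) := by
  apply ModuleCat.hom_ext
  apply LinearMap.ext
  intro r
  change φ.hom (Pi.single j r) = (φ.hom (Pi.single j 1)) • r
  have : (Pi.single j r : Fin a → R) = r • Pi.single j 1 := by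
    rw [← Pi.single_smul, smul_eq_mul, mul_one]
  rw [this, map_smul, smul_eq_mul, smul_eq_mul, mul_comm]

theorem hom_decomp (a : ℕ) (φ : ModuleCat.of R (Fin a → R) ⟶ ModuleCat.of R R) :
    φ = ∑ j : Fin a, (φ.hom (Pi.single j 1)) • pr R a j := by
  have h1 : φ = (∑ j : Fin a, pr R a j ≫ inj R a j) ≫ φ := by
    rw [sum_pr_inj, Category.id_comp]
  conv_lhs => rw [h1]
  rw [Preadditive.sum_comp]
  refine Finset.sum_congr rfl fun j _ => ?_
  rw [Category.assoc, inj_comp, Linear.comp_smul, Category.comp_id]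

theorem θ_free_surjective (n a : ℕ) :
    Function.Surjective (θ I (add_zero n) (ModuleCat.of R (Fin a → R))) := by
  intro ψ
  refine ⟨∑ j : Fin a, Hmap I n (inj R a j) (ψ (Ext.mk₀ (pr R a j))), ?_⟩
  apply LinearMap.ext
  intro e
  obtain ⟨φ, rfl⟩ := (Ext.mk₀_bijective _ _).2 e
  rw [θ_mk₀, map_sum]
  conv_rhs => rw [hom_decomp a φ, Ext.mk₀_sum, map_sum]
  refine Finset.sum_congr rfl fun j _ => ?_
  rw [← Hmap_comp₀, inj_comp, Hmap_smul_id, Ext.mk₀_smul, map_smul]

end freeθ

section claimA

variable [IsNoetherianRing R] {n : ℕ}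
  (hvan : ∀ X : ModuleCat.{u} R, Subsingleton ((localCohomology I (n + 1)).obj X))
  (hW : Module.Injective R ((localCohomology I n).obj (ModuleCat.of R R)))

include hW in
omit [IsNoetherianRing R] in
theorem θ_zero_surjective (M : Type u) [AddCommGroup M] [Module R M] [Module.Finite R M] :
    Function.Surjective (θ I (add_zero n) (ModuleCat.of R M)) := by
  intro ψ
  obtain ⟨a, σ, hσ⟩ := Module.Finite.exists_fin' R M
  have hS := LinearMap.shortExact_shortComplexKer hσ
  have : Epi (ModuleCat.ofHom σ) := hS.epi_g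
  let res : Ext.{u} (ModuleCat.of R M) (ModuleCat.of R R) 0 →ₗ[R]
      Ext.{u} (ModuleCat.of R (Fin a → R)) (ModuleCat.of R R) 0 :=
    Ext.precompOfLinear (Ext.mk₀ (ModuleCat.ofHom σ)) R (ModuleCat.of R R) (zero_add 0)
  have hres : Function.Injective res :=
    Ext.precomp_mk₀_injective_of_epi (ModuleCat.of R R) (ModuleCat.ofHom σ)
  obtain ⟨ψF, hψF⟩ := Module.Injective.out res hres ψ
  obtain ⟨y, hy⟩ := θ_free_surjective I n a ψF
  refine ⟨Hmap I n (ModuleCat.ofHom σ) y, ?_⟩
  apply LinearMap.ext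
  intro e
  rw [θ_naturality, hy]
  exact hψF e

include hvan hW in
theorem θ_zero_injective (M : Type u) [AddCommGroup M] [Module R M] [Module.Finite R M] :
    Function.Injective (θ I (add_zero n) (ModuleCat.of R M)) := by
  rw [injective_iff_map_eq_zero]
  intro z hz
  obtain ⟨a, σ, hσ⟩ := Module.Finite.exists_fin' R M
  have hS := LinearMap.shortExact_shortComplexKer hσ
  -- z lifts to the free module
  obtain ⟨y, rfl⟩ : ∃ y, Hmap I n (ModuleCat.ofHom σ) y = z := by
    have := hvan σ.shortComplexKer.X₁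
    exact Hmap_exact₃ I hS n z (Subsingleton.elim _ _)
  -- `θ y` vanishes on the image of `Ext^0(M, R)`
  let resK : Ext.{u} (ModuleCat.of R (Fin a → R)) (ModuleCat.of R R) 0 →ₗ[R]
      Ext.{u} (ModuleCat.of R (LinearMap.ker σ)) (ModuleCat.of R R) 0 :=
    Ext.precompOfLinear (Ext.mk₀ σ.shortComplexKer.f) R (ModuleCat.of R R) (zero_add 0)
  let φ := θ I (add_zero n) (ModuleCat.of R (Fin a → R)) y
  have hker : LinearMap.ker resK ≤ LinearMap.ker φ := by
    intro e he
    rw [LinearMap.mem_ker] at he ⊢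
    obtain ⟨e₃, he₃⟩ := Ext.contravariant_sequence_exact₂ hS (ModuleCat.of R R) e he
    rw [← he₃]
    have := θ_naturality I (add_zero n) (ModuleCat.ofHom σ) y e₃
    rw [hz] at this
    exact this.symm
  -- factor through the kernel submodule and extend
  let φbar : (Ext.{u} (ModuleCat.of R (Fin a → R)) (ModuleCat.of R R) 0 ⧸ LinearMap.ker resK) →ₗ[R]
      (localCohomology I n).obj (ModuleCat.of R R) := (LinearMap.ker resK).liftQ φ hker
  let resbar : (Ext.{u} (ModuleCat.of R (Fin a → R)) (ModuleCat.of R R) 0 ⧸ LinearMap.ker resK) →ₗ[R]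
      Ext.{u} (ModuleCat.of R (LinearMap.ker σ)) (ModuleCat.of R R) 0 :=
    (LinearMap.ker resK).liftQ resK le_rfl
  have hresbar : Function.Injective resbar := by
    rw [← LinearMap.ker_eq_bot]
    exact Submodule.ker_liftQ_eq_bot _ _ _ le_rfl
  obtain ⟨ψK, hψK⟩ := Module.Injective.out resbar hresbar φbar
  have hfinK : Module.Finite R (LinearMap.ker σ) := inferInstance
  obtain ⟨w, hw⟩ := θ_zero_surjective I hW (LinearMap.ker σ) ψK
  have hyw : Hmap I n σ.shortComplexKer.f w = y := by
    apply θ_free_injective I n a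
    apply LinearMap.ext
    intro e
    rw [θ_naturality, hw]
    have := hψK (Submodule.Quotient.mk e)
    exact this
  rw [← hyw]
  exact Hmap_g_f (S := σ.shortComplexKer) I n w

end claimA

section step

variable [IsNoetherianRing R] {n : ℕ}
  (hlow : ∀ i < n, Subsingleton ((localCohomology I i).obj (ModuleCat.of R R)))

include hlow in
theorem θ_step {i j j' : ℕ} (h : i + 1 + j = n) (hj : 1 + j = j') (h' : i + j' = n)
    (hP : ∀ (X : Type u) [AddCommGroup X] [Module R X] [Module.Finite R X],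
      Function.Bijective (θ I h (ModuleCat.of R X)))
    (M : Type u) [AddCommGroup M] [Module R M] [Module.Finite R M] :
    Function.Bijective (θ I h' (ModuleCat.of R M)) := by
  obtain ⟨a, σ, hσ⟩ := Module.Finite.exists_fin' R M
  have hS := LinearMap.shortExact_shortComplexKer hσ
  have hfinK : Module.Finite R (LinearMap.ker σ) := inferInstance
  have hi : i < n := by omega
  have hHF : Subsingleton ((localCohomology I i).obj σ.shortComplexKer.X₂) :=
    subsingleton_H_free I (hlow i hi) a
  have hExtF : Subsingleton (Ext.{u} σ.shortComplexKer.X₂ (ModuleCat.of R R) j') := by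
    have e : j' = j + 1 := by omega
    rw [e]
    have : Projective σ.shortComplexKer.X₂ := by
      change Projective (ModuleCat.of R (Fin a → R))
      infer_instance
    exact Ext.subsingleton_of_projective _ _ _
  have hconn : ∀ x₃ : Ext.{u} σ.shortComplexKer.X₃ (ModuleCat.of R R) j',
      ∃ x₁ : Ext.{u} σ.shortComplexKer.X₁ (ModuleCat.of R R) j, hS.extClass.comp x₁ hj = x₃ :=
    fun x₃ => Ext.contravariant_sequence_exact₃ hS (ModuleCat.of R R) x₃
      (Subsingleton.elim _ _) hj
  have hPK := hP (LinearMap.ker σ)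
  have hPF := hP (Fin a → R)
  constructor
  · rw [injective_iff_map_eq_zero]
    intro z hz
    have hδ : δ I hS i z = 0 := by
      apply hPK.1
      rw [map_zero]
      apply LinearMap.ext
      intro e
      have := θ_δ I h hS z e hj h'
      rw [← this, hz]
      rfl
    obtain ⟨y, hy⟩ := Hmap_exact₃ I hS i z hδ
    rw [← hy, Subsingleton.elim y 0, map_zero]
  · intro ψ
    let conn : Ext.{u} σ.shortComplexKer.X₁ (ModuleCat.of R R) j →ₗ[R]
        Ext.{u} σ.shortComplexKer.X₃ (ModuleCat.of R R) j' :=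
      Ext.precompOfLinear hS.extClass R (ModuleCat.of R R) hj
    obtain ⟨w, hw⟩ := hPK.2 (ψ ∘ₗ conn)
    have hfw : Hmap I (i + 1) σ.shortComplexKer.f w = 0 := by
      apply hPF.1
      rw [map_zero]
      apply LinearMap.ext
      intro e
      rw [θ_naturality, hw]
      change ψ (hS.extClass.comp ((Ext.mk₀ σ.shortComplexKer.f).comp e (zero_add j)) hj) = 0
      rw [hS.extClass_comp_assoc, map_zero]
    obtain ⟨z, hzw⟩ := Hmap_exact₁ I hS i w hfw
    refine ⟨z, ?_⟩
    apply LinearMap.ext
    intro e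
    obtain ⟨e₁, rfl⟩ := hconn e
    have := θ_δ I h hS z e₁ hj h'
    rw [this, hzw, hw]
    rfl

end step

section main

variable [IsNoetherianRing R] {n : ℕ}
  (hvan : ∀ X : ModuleCat.{u} R, Subsingleton ((localCohomology I (n + 1)).obj X))
  (hW : Module.Injective R ((localCohomology I n).obj (ModuleCat.of R R)))
  (hlow : ∀ i < n, Subsingleton ((localCohomology I i).obj (ModuleCat.of R R)))

include hvan hW hlow in
/-- **Local duality**: the Yoneda pairing is perfect on finite modules. -/
theorem bijective_θ :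
    ∀ (j i : ℕ) (h : i + j = n) (M : Type u) [AddCommGroup M] [Module R M] [Module.Finite R M],
      Function.Bijective (θ I h (ModuleCat.of R M)) := by
  intro j
  induction j with
  | zero =>
    intro i h M _ _ _
    have hi : i = n := by omega
    subst hi
    exact ⟨θ_zero_injective I hvan hW M, θ_zero_surjective I hW M⟩
  | succ j ih =>
    intro i h M _ _ _
    exact θ_step I hlow (by omega : i + 1 + j = n) (add_comm 1 j) h
      (fun X _ _ _ => ih (i + 1) _ X) M

end main

end Groth.Agent.Lib.Helper16.LD
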