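import Groth.Agent.Lib.Helper16.LocCohArtinian
import Groth.Agent.Lib.Helper16.LocCohNonvanish
import Groth.Agent.Lib.Helper16.LocCohTop
import Groth.Agent.Lib.Helper16.LocalDuality
import Groth.Agent.Lib.Helper18.CM6
import Groth.Agent.Lib.Helper25.MatlisDual

/-!
# Matlis duals of local cohomology (helper16)

`A` Noetherian local with maximal ideal `m`, `E` an injective hull of the residue field, `M` finite.

* `supportDim_dual_le` : `dim Hom(H^i_m(M), E) ≤ i` (when these duals are finite modules).
* `ker_Hmap_mkQ_le` : in top degree `ker(H^n(M) → H^n(M/JM)) ≤ J H^n(M)`.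
* `mem_associatedPrimes_dual_iff` : `Ass Hom(H^n_m(M), E) = {p ∈ Ass M | dim A/p = n}`, `n = dim M`.
* `main` : the complete case.
-/

set_option autoImplicit false
universe u
open CategoryTheory IsLocalRing
open scoped Pointwise

namespace Groth.Agent.Lib.Helper16.LCD

open Groth.Agent.Lib.Helper16.LC Groth.Agent.Lib.Helper16.Depth Groth.Agent.Lib.Helper16.LD
open Groth.Agent.Lib.Helper16.ExtRep



section basics

variable {A : Type u} [CommRing A] [IsLocalRing A]

/-- a module killed by a power of the maximal ideal has support of dimension `≤ 0` -/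
theorem supportDim_le_zero_of_pow_le_annihilator (X : Type u) [AddCommGroup X] [Module A X]
    (k : ℕ) (h : maximalIdeal A ^ k ≤ Module.annihilator A X) : Module.supportDim A X ≤ 0 := by
  unfold Module.supportDim
  have hsub : Subsingleton (Module.support A X) := by
    have hall : ∀ q ∈ Module.support A X, q = IsLocalRing.closedPoint A := by
      intro q hq
      have h1 := Module.annihilator_le_of_mem_support hq
      have hm : maximalIdeal A ≤ q.asIdeal :=
        q.isPrime.le_of_pow_le (h.trans h1)
      apply PrimeSpectrum.ext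
      exact ((maximalIdeal.isMaximal A).eq_of_le q.isPrime.ne_top hm).symm
    refine ⟨fun x y => Subtype.ext ?_⟩
    rw [hall x.1 x.2, hall y.1 y.2]
  exact Order.krullDim_nonpos_of_subsingleton

variable [IsNoetherianRing A]

omit [IsLocalRing A] in
/-- the torsion submodule of a finite module is killed by a single power -/
theorem exists_pow_smul_torsionSub (I : Ideal A) (M : Type u) [AddCommGroup M] [Module A M]
    [Module.Finite A M] : ∃ k : ℕ, ∀ a ∈ I ^ k, ∀ x ∈ DRing.torsionSub I M, a • x = 0 := by
  have hfg : (DRing.torsionSub I M).FG := IsNoetherian.noetherian _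
  obtain ⟨s, hs⟩ := hfg
  have hk : ∀ g ∈ s, ∃ k : ℕ, ∀ a ∈ I ^ k, a • g = 0 := by
    intro g hg
    have : g ∈ DRing.torsionSub I M := hs ▸ Submodule.subset_span hg
    exact this
  choose! kf hkf using hk
  refine ⟨s.sup kf, fun a ha x hx => ?_⟩
  rw [← hs] at hx
  induction hx using Submodule.span_induction with
  | mem g hg => exact hkf g hg a (Ideal.pow_le_pow_right (Finset.le_sup hg) ha)
  | zero => exact smul_zero a
  | add x y _ _ hx hy => rw [smul_add, hx, hy, add_zero]
  | smul r x _ hx => rw [smul_comm, hx, smul_zero]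

end basics

section dim

variable {A : Type u} [CommRing A] [IsNoetherianRing A] [IsLocalRing A]
  {E : Type u} [AddCommGroup E] [Module A E] (hE : Module.Injective A E)
  (hfin : ∀ (j : ℕ) (X : Type u) [AddCommGroup X] [Module A X] [Module.Finite A X],
    Module.Finite A (LocCoh.H (maximalIdeal A) j X →ₗ[A] E))

include hE hfin in
/-- `dim Hom(H^i_m(M), E) ≤ i` -/
theorem supportDim_dual_le (i : ℕ) : ∀ (M : Type u) [AddCommGroup M] [Module A M]
    [Module.Finite A M],
    Module.supportDim A (LocCoh.H (maximalIdeal A) i M →ₗ[A] E) ≤ (i : WithBot ℕ∞) := by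
  induction i with
  | zero =>
    intro M _ _ _
    obtain ⟨k, hk⟩ := exists_pow_smul_torsionSub (maximalIdeal A) M
    apply supportDim_le_zero_of_pow_le_annihilator _ k
    intro a ha
    rw [Module.mem_annihilator]
    intro ψ
    apply LinearMap.ext
    intro z
    rw [LinearMap.smul_apply, ← map_smul, LinearMap.zero_apply]
    have hz : a • z = 0 := by
      apply (H0equiv (maximalIdeal A) (ModuleCat.of A M)).injective
      rw [map_smul, map_zero]
      apply Subtype.ext
      exact hk a ha _ (H0equiv (maximalIdeal A) (ModuleCat.of A M) z).2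
    rw [hz, map_zero]
  | succ i ih =>
    intro M _ _ _
    set m := maximalIdeal A with hm
    let N := M ⧸ DRing.torsionSub m M
    -- reduce to `N`
    have hbij := Hmap_mkQ_torsionSub_bijective m M i
    have hsurj : Function.Surjective (LinearMap.lcomp A E
        (Hmap m (i + 1) (ModuleCat.ofHom (DRing.torsionSub m M).mkQ))) :=
      Groth.Agent.Lib.Helper25.lcomp_surjective_of_injective _ hbij.1
    refine (Module.supportDim_le_of_surjective _ hsurj).trans ?_
    change Module.supportDim A (LocCoh.H m (i + 1) N →ₗ[A] E) ≤ _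
    have hfinD : Module.Finite A (LocCoh.H m (i + 1) N →ₗ[A] E) := hfin (i + 1) N
    -- a regular element
    obtain ⟨x, hxm, hx⟩ := exists_isSMulRegular_of_torsionSub_eq_bot m N
      (torsionSub_quotient_torsionSub m M)
    have hS2 := shortExact_of_linearMaps (x • (LinearMap.id : N →ₗ[A] N))
      (x • (⊤ : Submodule A N)).mkQ hx (Submodule.mkQ_surjective _) (by
        intro y
        rw [Submodule.mkQ_apply, Submodule.Quotient.mk_eq_zero]
        constructor
        · intro hy
          obtain ⟨z, -, rfl⟩ := (Submodule.mem_smul_pointwise_iff_exists _ _ _).mp hy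
          exact ⟨z, rfl⟩
        · rintro ⟨z, rfl⟩
          exact Submodule.smul_mem_pointwise_smul z x ⊤ trivial)
    have hQ := ih (N ⧸ x • (⊤ : Submodule A N))
    -- the dual of the connecting map
    let D := LocCoh.H m (i + 1) N →ₗ[A] E
    let δd : D →ₗ[A] (LocCoh.H m i (N ⧸ x • (⊤ : Submodule A N)) →ₗ[A] E) :=
      LinearMap.lcomp A E (δ m hS2 i)
    have hker : LinearMap.ker δd ≤ x • (⊤ : Submodule A D) := by
      intro ψ hψ
      rw [LinearMap.mem_ker] at hψ
      -- `ψ` kills the kernel of multiplication by `x`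
      let μ : LocCoh.H m (i + 1) N →ₗ[A] LocCoh.H m (i + 1) N := LinearMap.lsmul A _ x
      have hkill : LinearMap.ker μ ≤ LinearMap.ker ψ := by
        intro z hz
        rw [LinearMap.mem_ker] at hz
        have h2 : Hmap m (i + 1) (ModuleCat.ofHom (x • (LinearMap.id : N →ₗ[A] N))) z = 0 := by
          have h3 : ModuleCat.ofHom (x • (LinearMap.id : N →ₗ[A] N)) =
              x • 𝟙 (ModuleCat.of A N) := rfl
          rw [h3, Hmap_smul_id]
          exact hz
        obtain ⟨w, rfl⟩ := Hmap_exact₁ m hS2 i z h2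
        exact LinearMap.congr_fun hψ w
      -- extend along the injection `H/ker μ → H`
      let ψ' : (LocCoh.H m (i + 1) N ⧸ LinearMap.ker μ) →ₗ[A] E :=
        (LinearMap.ker μ).liftQ ψ hkill
      let ι : (LocCoh.H m (i + 1) N ⧸ LinearMap.ker μ) →ₗ[A] LocCoh.H m (i + 1) N :=
        (LinearMap.ker μ).liftQ μ le_rfl
      have hι : Function.Injective ι := by
        rw [← LinearMap.ker_eq_bot]
        exact Submodule.ker_liftQ_eq_bot _ _ _ le_rfl
      obtain ⟨θ, hθ⟩ := Module.Injective.out ι hι ψ'
      rw [Submodule.mem_smul_pointwise_iff_exists]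
      refine ⟨θ, Submodule.mem_top, ?_⟩
      apply LinearMap.ext
      intro z
      have := hθ (Submodule.Quotient.mk z)
      change θ (x • z) = ψ z at this
      rw [LinearMap.smul_apply, ← map_smul]
      exact this
    -- `D/xD` embeds in the dual of `H^i(N/xN)`
    have hle : x • (⊤ : Submodule A D) ≤ LinearMap.ker δd := by
      intro ψ hψ
      obtain ⟨θ, -, rfl⟩ := (Submodule.mem_smul_pointwise_iff_exists _ _ _).mp hψ
      rw [LinearMap.mem_ker]
      apply LinearMap.ext
      intro w
      change (x • θ) (δ m hS2 i w) = 0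
      rw [LinearMap.smul_apply, ← map_smul]
      have h0 : x • δ m hS2 i w = 0 := by
        have h3 : ModuleCat.ofHom (x • (LinearMap.id : N →ₗ[A] N)) =
            x • 𝟙 (ModuleCat.of A N) := rfl
        have h4 := Hmap_f_δ (S := _) m hS2 i w
        change Hmap m (i + 1) (ModuleCat.ofHom (x • (LinearMap.id : N →ₗ[A] N))) _ = 0 at h4
        rw [h3, Hmap_smul_id] at h4
        exact h4
      rw [h0, map_zero]
    let emb : (D ⧸ x • (⊤ : Submodule A D)) →ₗ[A]
        (LocCoh.H m i (N ⧸ x • (⊤ : Submodule A N)) →ₗ[A] E) :=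
      (x • (⊤ : Submodule A D)).liftQ δd hle
    have hemb : Function.Injective emb := by
      rw [← LinearMap.ker_eq_bot]
      exact Submodule.ker_liftQ_eq_bot _ _ _ hker
    have h1 : Module.supportDim A (QuotSMulTop x D) ≤ (i : WithBot ℕ∞) :=
      (Module.supportDim_le_of_injective emb hemb).trans hQ
    have h2 := Module.supportDim_le_supportDim_quotSMulTop_succ (M := D) hxm
    refine h2.trans ?_
    calc Module.supportDim A (QuotSMulTop x D) + 1 ≤ (i : WithBot ℕ∞) + 1 := by gcongr
      _ = ((i + 1 : ℕ) : WithBot ℕ∞) := by push_cast; rfl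

end dim




section top

variable {A : Type u} [CommRing A] [IsNoetherianRing A] (I : Ideal A)

omit [IsNoetherianRing A] in
/-- finite modules killed by `Ann M` have dimension at most `dim M` -/
theorem supportDim_le_of_annihilator_le (M X : Type u) [AddCommGroup M] [Module A M]
    [Module.Finite A M] [AddCommGroup X] [Module A X] [Module.Finite A X]
    (h : Module.annihilator A M ≤ Module.annihilator A X) :
    Module.supportDim A X ≤ Module.supportDim A M := by
  rw [Module.supportDim_eq_ringKrullDim_quotient_annihilator,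
    Module.supportDim_eq_ringKrullDim_quotient_annihilator]
  exact ringKrullDim_le_of_surjective (Ideal.Quotient.factor h)
    (Ideal.Quotient.factor_surjective h)

/-- in top degree the kernel of `H^n(M) → H^n(M/JM)` is contained in `J H^n(M)` -/
theorem ker_Hmap_mkQ_le (M : Type u) [AddCommGroup M] [Module A M] [Module.Finite A M] (n : ℕ)
    (hn : Module.supportDim A M < ((n + 1 : ℕ) : WithBot ℕ∞)) (J : Ideal A)
    (z : LocCoh.H I n M)
    (hz : Hmap I n (ModuleCat.ofHom (J • (⊤ : Submodule A M)).mkQ) z = 0) :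
    z ∈ J • (⊤ : Submodule A (LocCoh.H I n M)) := by
  obtain ⟨r, a, ha⟩ := (Submodule.fg_iff_exists_fin_generating_family).mp
    (IsNoetherian.noetherian J)
  have hS0 := shortExact_of_linearMaps (J • (⊤ : Submodule A M)).subtype
    (J • (⊤ : Submodule A M)).mkQ (Submodule.injective_subtype _) (Submodule.mkQ_surjective _)
    (LinearMap.exact_subtype_mkQ _)
  obtain ⟨y, rfl⟩ := Hmap_exact₂ I hS0 n z hz
  -- the surjection `M^r → JM`
  let σ' : (Fin r → M) →ₗ[A] M := ∑ j : Fin r, a j • (LinearMap.proj j : (Fin r → M) →ₗ[A] M)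
  have hσ'mem : ∀ x, σ' x ∈ J • (⊤ : Submodule A M) := by
    intro x
    change (∑ j : Fin r, a j • (LinearMap.proj j : (Fin r → M) →ₗ[A] M)) x ∈ _
    rw [LinearMap.sum_apply]
    refine Submodule.sum_mem _ fun j _ => ?_
    rw [LinearMap.smul_apply]
    refine Submodule.smul_mem_smul ?_ Submodule.mem_top
    rw [← ha]
    exact Submodule.subset_span ⟨j, rfl⟩
  let σ : (Fin r → M) →ₗ[A] (J • (⊤ : Submodule A M) : Submodule A M) :=
    σ'.codRestrict _ hσ'mem
  have hσ : Function.Surjective σ := by
    rintro ⟨x, hx⟩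
    have : x ∈ LinearMap.range σ' := by
      refine Submodule.smul_induction_on hx ?_ ?_
      · intro c hc m _
        rw [← ha] at hc
        obtain ⟨cf, rfl⟩ := Ideal.mem_span_range_iff_exists_fun.mp hc
        refine ⟨fun j => cf j • m, ?_⟩
        change (∑ j : Fin r, a j • (LinearMap.proj j : (Fin r → M) →ₗ[A] M)) _ = _
        rw [LinearMap.sum_apply, Finset.sum_smul]
        refine Finset.sum_congr rfl fun j _ => ?_
        rw [LinearMap.smul_apply, LinearMap.proj_apply, smul_smul, mul_comm]
      · intro u v hu hv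
        exact Submodule.add_mem _ hu hv
    obtain ⟨w, hw⟩ := this
    exact ⟨w, Subtype.ext hw⟩
  have hS1 := LinearMap.shortExact_shortComplexKer hσ
  have hfinK : Module.Finite A (LinearMap.ker σ) := inferInstance
  have hdimK : Module.supportDim A σ.shortComplexKer.X₁ < ((n + 1 : ℕ) : WithBot ℕ∞) := by
    refine lt_of_le_of_lt ?_ hn
    change Module.supportDim A (LinearMap.ker σ) ≤ _
    apply supportDim_le_of_annihilator_le
    intro c hc
    rw [Module.mem_annihilator] at hc ⊢
    rintro ⟨x, hx⟩
    apply Subtype.ext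
    funext j
    exact hc (x j)
  obtain ⟨w, rfl⟩ := Hmap_g_surjective_of_supportDim_lt I hS1 n hdimK y
  rw [H_decomp I n M r w, map_sum, map_sum]
  refine Submodule.sum_mem _ fun j _ => ?_
  rw [← Hmap_comp₀, ← Hmap_comp₀]
  have hcomp : inj M r j ≫ σ.shortComplexKer.g ≫
      (ModuleCat.shortComplexOfCompEqZero (J • (⊤ : Submodule A M)).subtype
        (J • (⊤ : Submodule A M)).mkQ
        (LinearMap.exact_subtype_mkQ _).linearMap_comp_eq_zero).f =
      a j • 𝟙 (ModuleCat.of A M) := by
    apply ModuleCat.hom_ext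
    apply LinearMap.ext
    intro m
    change σ' (Pi.single j m) = a j • m
    change (∑ i : Fin r, a i • (LinearMap.proj i : (Fin r → M) →ₗ[A] M)) _ = _
    rw [LinearMap.sum_apply, Finset.sum_eq_single j]
    · rw [LinearMap.smul_apply, LinearMap.proj_apply, Pi.single_eq_same]
    · intro i _ hij
      rw [LinearMap.smul_apply, LinearMap.proj_apply, Pi.single_eq_of_ne hij, smul_zero]
    · intro h
      exact absurd (Finset.mem_univ j) h
  rw [hcomp, Hmap_smul_id]
  refine Submodule.smul_mem_smul ?_ Submodule.mem_top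
  rw [← ha]
  exact Submodule.subset_span ⟨j, rfl⟩

end top




section ass

variable {A : Type u} [CommRing A] [IsNoetherianRing A] [IsLocalRing A]
  {E : Type u} [AddCommGroup E] [Module A E]
  (f : ResidueField A →ₗ[A] E) (hf : InjHull.IsInjectiveHull f)
  (M : Type u) [AddCommGroup M] [Module A M] [Module.Finite A M] {n : ℕ}
  (hn : Module.supportDim A M = n)

omit [IsLocalRing A] [IsNoetherianRing A] in
theorem ringKrullDim_quotient_eq_coheight (q : PrimeSpectrum A) :
    ringKrullDim (A ⧸ q.asIdeal) = ((Order.coheight q : ℕ∞) : WithBot ℕ∞) := by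
  rw [ringKrullDim_quotient, Order.coheight_eq_krullDim_Ici, zeroLocus_eq_Ici]

include hn in
/-- a prime of maximal dimension in the support is associated -/
theorem mem_associatedPrimes_of_dim_eq (q : Ideal A) [hq : q.IsPrime]
    (hann : Module.annihilator A M ≤ q) (hdim : ringKrullDim (A ⧸ q) = n) :
    q ∈ associatedPrimes A M := by
  apply Module.associatedPrimes.minimalPrimes_annihilator_subset_associatedPrimes A M
  refine ⟨⟨hq, hann⟩, ?_⟩
  rintro q' ⟨hq', hann'⟩ hle
  by_contra hnle
  have hlt : q' < q := lt_of_le_of_ne hle (fun h => hnle (le_of_eq h.symm))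
  have h1 : ringKrullDim (A ⧸ q') ≤ Module.supportDim A M :=
    Groth.Agent.Lib.Helper18.CM.ringKrullDim_quotient_le_supportDim M q' hann'
  rw [hn, ← hdim] at h1
  exact Groth.Agent.Lib.Helper18.CM.not_lt_of_ringKrullDim_quotient_le (p := q) (q := q') h1 hlt

include hn in
/-- the annihilator of a nonzero functional on `H^n_m(M)`, if prime, has dimension `n` -/
theorem dim_eq_of_annihilator_dual (q : Ideal A) [hq : q.IsPrime]
    (ψ : LocCoh.H (maximalIdeal A) n M →ₗ[A] E) (hψ : ψ ≠ 0)
    (hqψ : ∀ a : A, a ∈ q ↔ a • ψ = 0) :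
    ringKrullDim (A ⧸ q) = n ∧ Module.annihilator A M ≤ q := by
  have hlt : Module.supportDim A M < ((n + 1 : ℕ) : WithBot ℕ∞) := by
    rw [hn]; exact_mod_cast Nat.lt_succ_self n
  have hann : Module.annihilator A M ≤ q := by
    intro a ha
    rw [hqψ]
    apply LinearMap.ext
    intro z
    have haz : a • z = 0 := by
      have h1 : a • 𝟙 (ModuleCat.of A M) = 0 := by
        apply ModuleCat.hom_ext
        apply LinearMap.ext
        intro x
        exact Module.mem_annihilator.mp ha x
      rw [← Hmap_smul_id, h1, Hmap_zero₀]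
    rw [LinearMap.smul_apply, ← map_smul, haz, map_zero, LinearMap.zero_apply]
  refine ⟨?_, hann⟩
  -- `H^n(M/qM) ≠ 0`
  have hnt : Nontrivial (LocCoh.H (maximalIdeal A) n (M ⧸ (q • ⊤ : Submodule A M))) := by
    by_contra hcon
    rw [not_nontrivial_iff_subsingleton] at hcon
    apply hψ
    apply LinearMap.ext
    intro z
    have hz := ker_Hmap_mkQ_le (maximalIdeal A) M n hlt q z (hcon.elim _ _)
    rw [LinearMap.zero_apply]
    refine Submodule.smul_induction_on hz ?_ ?_
    · intro a ha w _
      have := (hqψ a).mp ha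
      rw [map_smul, ← LinearMap.smul_apply, this, LinearMap.zero_apply]
    · intro u v hu hv
      rw [map_add, hu, hv, add_zero]
  have hle : Module.supportDim A (M ⧸ (q • ⊤ : Submodule A M)) ≤ (n : WithBot ℕ∞) := by
    rw [← hn]
    exact Module.supportDim_le_of_surjective _ (Submodule.mkQ_surjective _)
  have heq : Module.supportDim A (M ⧸ (q • ⊤ : Submodule A M)) = n := by
    refine le_antisymm hle ?_
    by_contra hcon
    rw [not_le] at hcon
    have := subsingleton_H_of_supportDim_lt (maximalIdeal A) (M ⧸ (q • ⊤ : Submodule A M)) n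
      hcon n le_rfl
    exact not_subsingleton _ this
  obtain ⟨q', hq'supp, hq'co⟩ := exists_mem_support_coheight_eq _ n heq
  rw [Module.support_quotient] at hq'supp
  obtain ⟨hq'M, hq'q⟩ := hq'supp
  rw [PrimeSpectrum.mem_zeroLocus, SetLike.coe_subset_coe] at hq'q
  have hdimq' : ringKrullDim (A ⧸ q'.asIdeal) = n := by
    rw [ringKrullDim_quotient_eq_coheight, hq'co]; rfl
  have h1 : ringKrullDim (A ⧸ q) ≤ ringKrullDim (A ⧸ q'.asIdeal) := by
    rw [hdimq', ← hn]
    exact Groth.Agent.Lib.Helper18.CM.ringKrullDim_quotient_le_supportDim M q hann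
  have hnlt := Groth.Agent.Lib.Helper18.CM.not_lt_of_ringKrullDim_quotient_le
    (p := q'.asIdeal) (q := q) h1
  have : q = q'.asIdeal := by
    by_contra hne
    exact hnlt (lt_of_le_of_ne hq'q hne)
  rw [this]
  exact hdimq'

include f hf hn in
/-- a prime of `Ass M` of maximal dimension kills a nonzero functional on `H^n_m(M)` -/
theorem exists_dual_killed (p : Ideal A) [hp : p.IsPrime] (hpM : p ∈ associatedPrimes A M)
    (hdim : ringKrullDim (A ⧸ p) = n) :
    ∃ ψ : LocCoh.H (maximalIdeal A) n M →ₗ[A] E, ψ ≠ 0 ∧ ∀ a ∈ p, a • ψ = 0 := by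
  have hsupp : (⟨p, hp⟩ : PrimeSpectrum A) ∈ Module.support A M :=
    Module.mem_support_iff_of_finite.mpr
      (Groth.Agent.Lib.Helper18.CM.annihilator_le_of_mem_associatedPrimes M hpM)
  have hq : Module.supportDim A (M ⧸ (p • ⊤ : Submodule A M)) = n := by
    have := supportDim_quotient_prime (R := A) M ⟨p, hp⟩ hsupp
    rw [← ringKrullDim_quotient_eq_coheight] at this
    exact this.trans hdim
  have hnt : Nontrivial (LocCoh.H (maximalIdeal A) n (M ⧸ (p • ⊤ : Submodule A M))) :=
    nontrivial_H_supportDim _ n hq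
  obtain ⟨w, hw⟩ := exists_ne (0 : LocCoh.H (maximalIdeal A) n (M ⧸ (p • ⊤ : Submodule A M)))
  obtain ⟨φ, hφ⟩ := Groth.Agent.Lib.Helper25.exists_hom_ne_zero f hf hw
  have hS0 := shortExact_of_linearMaps (p • (⊤ : Submodule A M)).subtype
    (p • (⊤ : Submodule A M)).mkQ (Submodule.injective_subtype _) (Submodule.mkQ_surjective _)
    (LinearMap.exact_subtype_mkQ _)
  have hsurj := Hmap_g_surjective_of_supportDim_lt (maximalIdeal A) hS0 n (by
    refine lt_of_le_of_lt (Module.supportDim_le_of_injective _ (Submodule.injective_subtype _)) ?_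
    rw [hn]
    exact_mod_cast Nat.lt_succ_self n)
  refine ⟨φ ∘ₗ Hmap (maximalIdeal A) n (ModuleCat.ofHom (p • (⊤ : Submodule A M)).mkQ), ?_, ?_⟩
  · intro h0
    obtain ⟨z, hz⟩ := hsurj w
    apply hφ
    rw [← hz]
    exact LinearMap.congr_fun h0 z
  · intro a ha
    apply LinearMap.ext
    intro z
    rw [LinearMap.smul_apply, LinearMap.comp_apply, ← map_smul, LinearMap.zero_apply]
    have h1 : a • 𝟙 (ModuleCat.of A (M ⧸ (p • ⊤ : Submodule A M))) = 0 := by
      apply ModuleCat.hom_ext
      apply LinearMap.ext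
      intro x
      obtain ⟨y, rfl⟩ := Submodule.Quotient.mk_surjective _ x
      change a • (Submodule.Quotient.mk y : M ⧸ (p • ⊤ : Submodule A M)) = 0
      rw [← Submodule.Quotient.mk_smul, Submodule.Quotient.mk_eq_zero]
      exact Submodule.smul_mem_smul ha Submodule.mem_top
    rw [← Hmap_smul_id, h1, Hmap_zero₀, map_zero]

include f hf hn in
/-- the associated primes of the dual of the top local cohomology -/
theorem mem_associatedPrimes_dual_iff (p : Ideal A) :
    p ∈ associatedPrimes A (LocCoh.H (maximalIdeal A) n M →ₗ[A] E) ↔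
      p ∈ associatedPrimes A M ∧ ringKrullDim (A ⧸ p) = n := by
  have key : ∀ q : Ideal A, IsAssociatedPrime q (LocCoh.H (maximalIdeal A) n M →ₗ[A] E) →
      q ∈ associatedPrimes A M ∧ ringKrullDim (A ⧸ q) = n := by
    intro q hq
    obtain ⟨hqp, ψ, hψq⟩ := isAssociatedPrime_iff.mp hq
    have hmem : ∀ a : A, a ∈ q ↔ a • ψ = 0 := by
      intro a
      rw [hψq, Submodule.mem_colon_singleton, Submodule.mem_bot]
    have hψ : ψ ≠ 0 := by
      intro h0
      apply hqp.ne_top
      rw [eq_top_iff]
      intro a _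
      rw [hmem, h0, smul_zero]
    obtain ⟨hd, hann⟩ := dim_eq_of_annihilator_dual M hn q ψ hψ hmem
    exact ⟨mem_associatedPrimes_of_dim_eq M hn q hann hd, hd⟩
  constructor
  · exact key p
  · rintro ⟨hpM, hdim⟩
    have hp : p.IsPrime := IsAssociatedPrime.isPrime hpM
    obtain ⟨ψ, hψ, hpψ⟩ := exists_dual_killed f hf M hn p hpM hdim
    obtain ⟨q, hq, hle⟩ := exists_le_isAssociatedPrime_of_isNoetherianRing A ψ hψ
    obtain ⟨-, hqdim⟩ := key q hq
    have hqp : q.IsPrime := IsAssociatedPrime.isPrime hq
    have hpq : p ≤ q := by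
      intro a ha
      apply hle
      rw [Submodule.mem_colon_singleton, Submodule.mem_bot]
      exact hpψ a ha
    have hnlt := Groth.Agent.Lib.Helper18.CM.not_lt_of_ringKrullDim_quotient_le
      (p := q) (q := p) (by rw [hdim, hqdim])
    have : p = q := by
      by_contra hne
      exact hnlt (lt_of_le_of_ne hpq hne)
    rw [this]
    exact hq

end ass


section final

variable {A : Type u} [CommRing A] [IsNoetherianRing A] [IsLocalRing A]
  [IsAdicComplete (maximalIdeal A) A]
  {E : Type u} [AddCommGroup E] [Module A E]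
  (f : ResidueField A →ₗ[A] E) (hf : InjHull.IsInjectiveHull f)

include f hf in
theorem finite_dual (j : ℕ) (X : Type u) [AddCommGroup X] [Module A X] [Module.Finite A X] :
    Module.Finite A (LocCoh.H (maximalIdeal A) j X →ₗ[A] E) := by
  have := isArtinian_H_maximal (maximalIdeal A) j X
  exact Groth.Agent.Lib.Helper25.finite_dual_of_isArtinian f hf _

include f hf in
theorem main (M : Type u) [AddCommGroup M] [Module A M] [Module.Finite A M] [Nontrivial M]
    (n : ℕ) (hn : Module.supportDim A M = n) :
    (∀ i : ℕ, Module.Finite A (LocCoh.H (maximalIdeal A) i M →ₗ[A] E) ∧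
      Module.supportDim A (LocCoh.H (maximalIdeal A) i M →ₗ[A] E) ≤ (i : WithBot ℕ∞)) ∧
    Module.supportDim A (LocCoh.H (maximalIdeal A) n M →ₗ[A] E) = n ∧
    associatedPrimes A (LocCoh.H (maximalIdeal A) n M →ₗ[A] E) =
      {p | p ∈ associatedPrimes A M ∧ ringKrullDim (A ⧸ p) = n} := by
  have hdim : ∀ i : ℕ, Module.supportDim A (LocCoh.H (maximalIdeal A) i M →ₗ[A] E) ≤
      (i : WithBot ℕ∞) := fun i =>
    supportDim_dual_le hf.isInjective (fun j X => finite_dual f hf j X) i M
  refine ⟨fun i => ⟨finite_dual f hf i M, hdim i⟩, ?_, ?_⟩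
  · refine le_antisymm (hdim n) ?_
    obtain ⟨q, hqM, hqco⟩ := exists_mem_support_coheight_eq M n hn
    have hqdim : ringKrullDim (A ⧸ q.asIdeal) = n := by
      rw [ringKrullDim_quotient_eq_coheight, hqco]; rfl
    have hqass : q.asIdeal ∈ associatedPrimes A M :=
      mem_associatedPrimes_of_dim_eq M hn q.asIdeal (Module.mem_support_iff_of_finite.mp hqM) hqdim
    have hqD := (mem_associatedPrimes_dual_iff f hf M hn q.asIdeal).mpr ⟨hqass, hqdim⟩
    obtain ⟨-, g, hg⟩ := (isAssociatedPrime_iff_exists_injective_linearMap q.asIdeal _).mp hqD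
    have h1 := Module.supportDim_le_of_injective g hg
    rw [Module.supportDim_quotient_eq_ringKrullDim, hqdim] at h1
    exact h1
  · ext p
    exact mem_associatedPrimes_dual_iff f hf M hn p

end final

end Groth.Agent.Lib.Helper16.LCD
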