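import Groth.Agent.Lib.Helper16.LocCohFaltingsLocal
import Groth.Agent.Lib.Helper16.LocCohCd
import Mathlib.Algebra.Module.FinitePresentation

/-!
# Finiteness of local cohomology of locally (on `D(f)`, `f ∈ I`) projective modules (helper16)
-/

set_option autoImplicit false
universe u
open CategoryTheory Opposite Limits

namespace Groth.Agent.Lib.Helper16.LC

open Groth.Agent.Lib.Helper16.Depth

section functoriality

variable {R : Type u} [CommRing R] (I : Ideal R)

theorem Hmap_comp (p : ℕ) {A B C : ModuleCat.{u} R} (f : A ⟶ B) (g : B ⟶ C)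
    (z : (localCohomology I p).obj A) :
    Hmap I p (f ≫ g) z = Hmap I p g (Hmap I p f z) := by
  unfold Hmap
  rw [CategoryTheory.Functor.map_comp]
  rfl

theorem Hmap_id (p : ℕ) (A : ModuleCat.{u} R) (z : (localCohomology I p).obj A) :
    Hmap I p (𝟙 A) z = z := by
  unfold Hmap
  rw [CategoryTheory.Functor.map_id]
  rfl

/-- In a short exact sequence whose first map has a retraction, an element killing the local
cohomology of the outer terms kills that of the middle term. -/
theorem smul_H_X₂_eq_zero {S : ShortComplex (ModuleCat.{u} R)} (hS : S.ShortExact)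
    (r : S.X₂ ⟶ S.X₁) (hr : S.f ≫ r = 𝟙 S.X₁) (p : ℕ) (a : R)
    (h1 : ∀ z : (localCohomology I p).obj S.X₁, a • z = 0)
    (h3 : ∀ z : (localCohomology I p).obj S.X₃, a • z = 0)
    (z : (localCohomology I p).obj S.X₂) : a • z = 0 := by
  have hg : Hmap I p S.g (a • z) = 0 := by rw [map_smul]; exact h3 _
  obtain ⟨y, hy⟩ := Hmap_exact₂ I hS p (a • z) hg
  have hy0 : y = 0 := by
    have h2 : Hmap I p r (Hmap I p S.f y) = y := by
      rw [← Hmap_comp, hr, Hmap_id]
    rw [← h2, hy, map_smul]
    exact h1 _
  rw [← hy, hy0, map_zero]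

/-- An element killing `H^p_I(R)` kills `H^p_I(R^r)`. -/
theorem smul_H_pi_fin_eq_zero (p : ℕ) (a : R) (h : ∀ z : LocCoh.H I p R, a • z = 0) :
    ∀ (r : ℕ) (z : LocCoh.H I p (Fin r → R)), a • z = 0 := by
  intro r
  induction r with
  | zero =>
    intro z
    have := subsingleton_H_of_subsingleton I p (Fin 0 → R)
    exact Subsingleton.elim _ _
  | succ r ih =>
    have hS := shortExact_of_linearMaps (LinearMap.single R (fun _ : Fin (r + 1) => R) 0)
      (LinearMap.funLeft R R (Fin.succ : Fin r → Fin (r + 1)))
      (fun a b hab => Pi.single_injective (M := fun _ : Fin (r + 1) => R) 0 hab)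
      (LinearMap.funLeft_surjective_of_injective R R _ (Fin.succ_injective r)) (by
        intro y
        constructor
        · intro hy
          refine ⟨y 0, ?_⟩
          funext j
          refine Fin.cases ?_ (fun j => ?_) j
          · simp
          · have := congrFun hy j
            simp only [LinearMap.funLeft_apply, Pi.zero_apply] at this
            simp [this]
        · rintro ⟨a, rfl⟩
          funext j
          simp [LinearMap.funLeft_apply])
    intro z
    refine smul_H_X₂_eq_zero I hS
      (ModuleCat.ofHom (LinearMap.proj (R := R) (φ := fun _ : Fin (r + 1) => R) 0)) ?_ p a h ih z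
    apply ModuleCat.hom_ext
    apply LinearMap.ext
    intro x
    change (LinearMap.proj (R := R) (φ := fun _ : Fin (r + 1) => R) 0)
      (LinearMap.single R (fun _ : Fin (r + 1) => R) 0 x) = x
    simp

end functoriality

section split

variable {R : Type u} [CommRing R] [IsNoetherianRing R]

/-- If `M_f` is projective, then a power of `f` times the identity of `M` factors through a
finite free module. -/
theorem exists_factor_pow_smul_id (f : R) (M : Type u) [AddCommGroup M] [Module R M]
    [Module.Finite R M]
    (hM : Module.Projective (Localization.Away f) (LocalizedModule (Submonoid.powers f) M)) :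
    ∃ (s : ℕ) (α : M →ₗ[R] (Fin s → R)) (β : (Fin s → R) →ₗ[R] M) (k : ℕ),
      β ∘ₗ α = f ^ k • LinearMap.id := by
  have hfp : Module.FinitePresentation R M := Module.finitePresentation_of_finite R M
  obtain ⟨s, π, hπ⟩ := Module.Finite.exists_fin' R M
  let S := Submonoid.powers f
  let πf := LocalizedModule.map S π
  have hπf : Function.Surjective πf := LocalizedModule.map_surjective S π hπ
  obtain ⟨σ, hσ⟩ := Module.projective_lifting_property πf LinearMap.id hπf
  let g : M →ₗ[R] LocalizedModule S (Fin s → R) :=
    (σ.restrictScalars R) ∘ₗ LocalizedModule.mkLinearMap S M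
  obtain ⟨α, t, hα⟩ := Module.FinitePresentation.exists_lift_of_isLocalizedModule S
    (LocalizedModule.mkLinearMap S (Fin s → R)) g
  have hcomp : (LocalizedModule.mkLinearMap S M) ∘ₗ (π ∘ₗ α) =
      (LocalizedModule.mkLinearMap S M) ∘ₗ ((t : R) • LinearMap.id) := by
    apply LinearMap.ext
    intro m
    have h1 : LocalizedModule.mkLinearMap S (Fin s → R) (α m) = t • g m :=
      LinearMap.congr_fun hα m
    have h2 : LocalizedModule.mkLinearMap S M (π (α m)) =
        πf (LocalizedModule.mkLinearMap S (Fin s → R) (α m)) := by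
      rw [LocalizedModule.mkLinearMap_apply, LocalizedModule.mkLinearMap_apply]
      exact (LocalizedModule.map_mk S π (α m) 1).symm
    have h3 : πf (g m) = LocalizedModule.mkLinearMap S M m := by
      change πf (σ (LocalizedModule.mkLinearMap S M m)) = _
      have := LinearMap.congr_fun hσ (LocalizedModule.mkLinearMap S M m)
      exact this
    rw [LinearMap.comp_apply, LinearMap.comp_apply, LinearMap.comp_apply, h2, h1,
      Submonoid.smul_def, LinearMap.map_smul_of_tower, h3, LinearMap.smul_apply,
      LinearMap.id_apply, map_smul]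
  obtain ⟨t', ht'⟩ := Module.Finite.exists_smul_of_comp_eq_of_isLocalizedModule S
    (LocalizedModule.mkLinearMap S M) (π ∘ₗ α) ((t : R) • LinearMap.id) hcomp
  obtain ⟨a, ha⟩ := (Submonoid.mem_powers_iff _ _).mp t.2
  obtain ⟨b, hb⟩ := (Submonoid.mem_powers_iff _ _).mp t'.2
  refine ⟨s, α, (t' : R) • π, b + a, ?_⟩
  rw [LinearMap.smul_comp]
  have h4 : (t' : R) • (π ∘ₗ α) = (t' : R) • ((t : R) • LinearMap.id) := ht'
  rw [h4, smul_smul, ← ha, ← hb, pow_add]

end split

section main

variable {R : Type u} [CommRing R] [IsNoetherianRing R] (I : Ideal R)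

/-- If `H^i_I(R)` is finitely generated for `i ≤ n`, then so is `H^i_I(M)` for every finite module
`M` which is projective on `D(f)` for all `f ∈ I`. -/
theorem finite_H_of_projective_away (n : ℕ)
    (hR : ∀ i : ℕ, i ≤ n → Module.Finite R (LocCoh.H I i R))
    (M : Type u) [AddCommGroup M] [Module R M] [Module.Finite R M]
    (hM : ∀ f ∈ I, Module.Projective (Localization.Away f)
      (LocalizedModule (Submonoid.powers f) M)) :
    ∀ i : ℕ, i ≤ n → Module.Finite R (LocCoh.H I i M) := by
  obtain ⟨c, hc⟩ := exists_pow_kills_of_forall_finite I R n hR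
  -- the ideal of elements `a` with `a * I^c` killing all `H^i(M)`, `i ≤ n`
  let 𝔠 : Ideal R :=
    { carrier := {a | ∀ i : ℕ, i ≤ n → ∀ b ∈ I ^ c, ∀ z : LocCoh.H I i M, (a * b) • z = 0}
      zero_mem' := by
        intro i _ b _ z
        rw [zero_mul, zero_smul]
      add_mem' := by
        intro a a' ha ha' i hi b hb z
        rw [add_mul, add_smul, ha i hi b hb z, ha' i hi b hb z, add_zero]
      smul_mem' := by
        intro r a ha i hi b hb z
        rw [smul_eq_mul, mul_assoc, mul_smul, ha i hi b hb z, smul_zero] }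
  have hI𝔠 : I ≤ 𝔠.radical := by
    intro f hf
    obtain ⟨s, α, β, k, hαβ⟩ := exists_factor_pow_smul_id f M (hM f hf)
    refine ⟨k, ?_⟩
    intro i hi b hb z
    have h1 : Hmap I i (ModuleCat.ofHom α ≫ ModuleCat.ofHom β) z = f ^ k • z := by
      have h2 : ModuleCat.ofHom α ≫ ModuleCat.ofHom β = f ^ k • 𝟙 (ModuleCat.of R M) := by
        apply ModuleCat.hom_ext
        exact hαβ
      rw [h2, Hmap_smul_id]
    rw [mul_comm, mul_smul, ← h1, Hmap_comp, ← map_smul,
      smul_H_pi_fin_eq_zero I i b (hc i hi b hb) s, map_zero]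
  obtain ⟨m, hm⟩ := Ideal.exists_pow_le_of_le_radical_of_fg hI𝔠 (IsNoetherian.noetherian I)
  refine finite_H_of_pow_kills I n M (m + c) ?_
  intro i hi a ha z
  rw [pow_add] at ha
  refine Submodule.mul_induction_on ha ?_ ?_
  · intro a' ha' b hb
    exact hm ha' i hi b hb z
  · intro u v hu hv
    rw [add_smul, hu, hv, add_zero]

end main

end Groth.Agent.Lib.Helper16.LC
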