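import Groth.Agent.Lib.Helper16.LocalDuality
import Groth.Agent.Lib.Helper16.GorensteinTopLC
import Groth.Agent.Lib.Helper16.LocCohDepth

/-!
# Local duality for Gorenstein local rings (helper16)

For a Gorenstein local ring `R` of dimension `n`, an injective hull `E` of the residue field and a
finite `R`-module `M`: `H^i_m(M) ≃ Hom_R(Ext^j_R(M, R), E)` for `i + j = n`.
-/

set_option autoImplicit false
universe u
open CategoryTheory Abelian IsLocalRing

namespace Groth.Agent.Lib.Helper16.LD

open Groth.Agent.Lib.Helper16.LC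

variable {R : Type u} [CommRing R] [LocCoh.IsGorensteinLocalRing R] {n : ℕ}

theorem local_duality (hn : ringKrullDim R = n) (E : Type u) [AddCommGroup E] [Module R E]
    (f : ResidueField R →ₗ[R] E) (hf : InjHull.IsInjectiveHull f)
    (M : Type u) [AddCommGroup M] [Module R M] [Module.Finite R M] (i j : ℕ) (h : i + j = n) :
    Nonempty (LocCoh.H (maximalIdeal R) i M ≃ₗ[R]
      (Ext.{u} (ModuleCat.of R M) (ModuleCat.of R R) j →ₗ[R] E)) := by
  obtain ⟨g, hg⟩ := GorTop.exists_hull hn
  obtain ⟨eWE, -⟩ := Helper25.isInjectiveHull_unique hg hf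
  have hW := hg.isInjective
  have hvan : ∀ X : ModuleCat.{u} R,
      Subsingleton ((localCohomology (maximalIdeal R) (n + 1)).obj X) := by
    intro X
    refine subsingleton_H_of_supportDim_lt (maximalIdeal R) X (n + 1) ?_ (n + 1) le_rfl
    refine lt_of_le_of_lt (Module.supportDim_le_ringKrullDim R X) ?_
    rw [hn]
    exact_mod_cast Nat.lt_succ_self n
  have hd := GorTop.depth_eq hn
  have hIM : maximalIdeal R • (⊤ : Submodule R R) ≠ ⊤ := by
    rw [smul_eq_mul, Ideal.mul_top]
    exact (IsLocalRing.maximalIdeal.isMaximal R).ne_top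
  have hlow : ∀ i < n, Subsingleton ((localCohomology (maximalIdeal R) i).obj (ModuleCat.of R R)) :=
    fun i hi => subsingleton_H_of_lt_idealDepth (maximalIdeal R) R hIM n
      (by change (n : ℕ∞) ≤ LocCoh.depth R R; rw [hd]) i hi
  have hbij := bijective_θ (maximalIdeal R) hvan hW hlow j i h M
  exact ⟨(LinearEquiv.ofBijective _ hbij).trans (LinearEquiv.congrRight eWE)⟩

end Groth.Agent.Lib.Helper16.LD
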