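import Groth.Agent.Lib.Helper16.LocCohCd
import Groth.Prelude.Def_W4bk5brsh7111920

set_option autoImplicit false
universe u
open CategoryTheory Opposite Limits

namespace Groth.Agent.Lib.Helper16.LC

open Groth.Agent.Lib.Helper16.Depth

section radann

variable {R : Type u} [CommRing R]

theorem le_radical_annihilator_of_exact (a : Ideal R) {L M N : Type u} [AddCommGroup L] [Module R L]
    [AddCommGroup M] [Module R M] [AddCommGroup N] [Module R N] (f : L →ₗ[R] M) (g : M →ₗ[R] N)
    (hfg : ∀ y, g y = 0 → ∃ l, f l = y) (hL : a ≤ (Module.annihilator R L).radical)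
    (hN : a ≤ (Module.annihilator R N).radical) : a ≤ (Module.annihilator R M).radical := by
  intro x hx
  obtain ⟨n, hn⟩ := hL hx
  obtain ⟨m, hm⟩ := hN hx
  refine ⟨n + m, ?_⟩
  rw [Module.mem_annihilator] at hn hm ⊢
  intro y
  have h1 : g (x ^ m • y) = 0 := by rw [map_smul, hm]
  obtain ⟨l, hl⟩ := hfg (x ^ m • y) h1
  rw [pow_add, mul_smul, ← hl, ← map_smul, hn, map_zero]

theorem Hmap_zero_apply (a : Ideal R) (i : ℕ) (A B : ModuleCat.{u} R)
    (z : (localCohomology a i).obj A) : Hmap a i (0 : A ⟶ B) z = 0 := by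
  obtain ⟨k, e, rfl⟩ := ι_jointly_surjective a i A z
  rw [Hmap_ι, Abelian.Ext.mk₀_zero, Abelian.Ext.comp_zero, map_zero]

/-- If `c^n` kills `T` then `c ≤ rad ann H^i_a(T)`. -/
theorem le_radical_annihilator_H_of_pow_smul (a c : Ideal R) (T : ModuleCat.{u} R) (n : ℕ)
    (hT : ∀ r ∈ c ^ n, ∀ t : T, r • t = 0) (i : ℕ) :
    c ≤ (Module.annihilator R ((localCohomology a i).obj T)).radical := by
  intro x hx
  refine ⟨n, ?_⟩
  rw [Module.mem_annihilator]
  intro z
  rw [← Hmap_smul_id]
  have h0 : x ^ n • 𝟙 T = 0 := by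
    apply ModuleCat.hom_ext
    apply LinearMap.ext
    intro t
    exact hT _ (Ideal.pow_mem_pow hx n) t
  rw [h0, Hmap_zero_apply]

theorem finDimRel_congr (a b : Ideal R) (M M' : Type u) [AddCommGroup M] [Module R M]
    [AddCommGroup M'] [Module R M']
    (h : ∀ i : ℕ, b ≤ (Module.annihilator R (LocCoh.H a i M)).radical ↔
      b ≤ (Module.annihilator R (LocCoh.H a i M')).radical) :
    LocCoh.finDimRel a b M = LocCoh.finDimRel a b M' := by
  unfold LocCoh.finDimRel
  refine iInf_congr fun i => ?_
  rw [h i]

theorem iSup_torsionBy_pow_eq (c : Ideal R) (M : Type u) [AddCommGroup M] [Module R M] :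
    (⨆ n : ℕ, LocCoh.torsionBy (c ^ n) M) = DRing.torsionSub c M := by
  ext x
  have hdir : Directed (· ≤ ·) (fun n : ℕ => LocCoh.torsionBy (c ^ n) M) := by
    apply Monotone.directed_le
    intro n m hnm
    exact Submodule.torsionBySet_le_torsionBySet_of_subset (Ideal.pow_le_pow_right hnm)
  rw [Submodule.mem_iSup_of_directed _ hdir]
  constructor
  · rintro ⟨n, hn⟩
    refine ⟨n, fun r hr => ?_⟩
    exact (Submodule.mem_torsionBySet_iff _ _).mp hn ⟨r, hr⟩
  · rintro ⟨n, hn⟩
    refine ⟨n, ?_⟩
    rw [LocCoh.torsionBy, Submodule.mem_torsionBySet_iff]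
    rintro ⟨r, hr⟩
    exact hn r hr

end radann

section findim

variable {R : Type u} [CommRing R] [IsNoetherianRing R]

theorem le_radical_annihilator_iff_of_torsion_sub (a b c : Ideal R) (hbc : b ≤ c) (M : Type u)
    [AddCommGroup M] [Module R M] [Module.Finite R M] (i : ℕ) :
    b ≤ (Module.annihilator R (LocCoh.H a i M)).radical ↔
      b ≤ (Module.annihilator R (LocCoh.H a i (M ⧸ DRing.torsionSub c M))).radical := by
  have hS := shortExact_of_linearMaps (DRing.torsionSub c M).subtype (DRing.torsionSub c M).mkQ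
    (Submodule.injective_subtype _) (Submodule.mkQ_surjective _)
    (LinearMap.exact_subtype_mkQ _)
  obtain ⟨n, hn⟩ := exists_pow_smul_eq_zero_of_fg c M (DRing.torsionSub c M)
    (IsNoetherian.noetherian _) le_rfl
  have hT : ∀ j : ℕ, b ≤ (Module.annihilator R
      ((localCohomology a j).obj (ModuleCat.of R (DRing.torsionSub c M)))).radical := by
    intro j
    refine hbc.trans (le_radical_annihilator_H_of_pow_smul a c _ n ?_ j)
    intro r hr t
    apply Subtype.ext
    exact hn r hr t.1 t.2
  constructor
  · intro h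
    exact le_radical_annihilator_of_exact b (Hmap a i (ModuleCat.ofHom (DRing.torsionSub c M).mkQ))
      (δ a hS i) (fun y hy => Hmap_exact₃ a hS i y hy) h (hT (i + 1))
  · intro h
    exact le_radical_annihilator_of_exact b
      (Hmap a i (ModuleCat.ofHom (DRing.torsionSub c M).subtype))
      (Hmap a i (ModuleCat.ofHom (DRing.torsionSub c M).mkQ))
      (fun y hy => Hmap_exact₂ a hS i y hy) (hT i) h

theorem finDimRel_quotient_torsion (a b c : Ideal R) (M : Type u) [AddCommGroup M] [Module R M]
    [Module.Finite R M] :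
    (b ≤ c → LocCoh.finDimRel a b M =
      LocCoh.finDimRel a b (M ⧸ (⨆ n : ℕ, LocCoh.torsionBy (c ^ n) M))) ∧
    (0 < LocCoh.finDimRel a b M → LocCoh.finDimRel a b M =
      LocCoh.finDimRel a b (M ⧸ (⨆ n : ℕ, LocCoh.torsionBy (a ^ n) M))) := by
  rw [iSup_torsionBy_pow_eq, iSup_torsionBy_pow_eq]
  constructor
  · intro hbc
    exact finDimRel_congr a b _ _ (fun i => le_radical_annihilator_iff_of_torsion_sub a b c hbc M i)
  · intro hpos
    have h0 : b ≤ (Module.annihilator R (LocCoh.H a 0 M)).radical := by
      by_contra hcon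
      have : LocCoh.finDimRel a b M ≤ ((0 : ℕ) : ℕ∞) := by
        unfold LocCoh.finDimRel
        exact iInf₂_le 0 hcon
      simp only [Nat.cast_zero, nonpos_iff_eq_zero] at this
      rw [this] at hpos
      exact lt_irrefl _ hpos
    apply finDimRel_congr
    intro i
    rcases i with _ | q
    · constructor
      · intro _
        have hsub : Subsingleton (LocCoh.H a 0 (M ⧸ DRing.torsionSub a M)) := by
          rw [(H0equiv a (ModuleCat.of R (M ⧸ DRing.torsionSub a M))).toEquiv.subsingleton_congr]
          change Subsingleton (DRing.torsionSub a (M ⧸ DRing.torsionSub a M))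
          rw [torsionSub_quotient_torsionSub]
          infer_instance
        have : Module.annihilator R (LocCoh.H a 0 (M ⧸ DRing.torsionSub a M)) = ⊤ := by
          rw [eq_top_iff]
          intro r _
          rw [Module.mem_annihilator]
          intro z
          exact hsub.elim _ _
        rw [this, Ideal.radical_top]
        exact le_top
      · intro _
        exact h0
    · have hb := Hmap_mkQ_torsionSub_bijective a M q
      have e := LinearEquiv.ofBijective _ hb
      have : Module.annihilator R (LocCoh.H a (q + 1) M) =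
          Module.annihilator R (LocCoh.H a (q + 1) (M ⧸ DRing.torsionSub a M)) :=
        e.annihilator_eq
      rw [this]

end findim

end Groth.Agent.Lib.Helper16.LC
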