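import Groth.Agent.Lib.Helper16.LocCohTop
import Groth.Agent.Lib.Helper16.LocCohArtinian
import Groth.Agent.Lib.Helper16.FinDim

set_option autoImplicit false
universe u
open CategoryTheory Opposite Limits Pointwise

namespace Groth.Agent.Lib.Helper16.LC

open Groth.Agent.Lib.Helper16.Depth

section dimlemmas

variable {R : Type u} [CommRing R]

/-- bound `supportDim` by coheights of the support points (in `Spec R`). -/
theorem supportDim_lt_of_forall_coheight_lt (N : Type u) [AddCommGroup N] [Module R N] (k : ℕ)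
    (h : ∀ p ∈ Module.support R N, Order.coheight p < (k : ℕ∞)) :
    Module.supportDim R N < (k : WithBot ℕ∞) := by
  rw [Module.supportDim, Order.krullDim_lt_coe_iff]
  intro l
  let l' : LTSeries (PrimeSpectrum R) := l.map Subtype.val (fun _ _ h => h)
  have h1 : (l'.length : ℕ∞) ≤ Order.coheight l'.head := Order.length_le_coheight_head
  have h2 : Order.coheight l'.head < (k : ℕ∞) := h _ l.head.2
  have h3 : l'.length = l.length := LTSeries.map_length _ _ _
  have h4 : (l'.length : ℕ∞) < k := lt_of_le_of_lt h1 h2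
  have h5 : l'.length < k := by exact_mod_cast h4
  omega

/-- the top dimension is attained at some point of the support. -/
theorem exists_mem_support_coheight_eq (N : Type u) [AddCommGroup N] [Module R N] (k : ℕ)
    (h : Module.supportDim R N = k) :
    ∃ q ∈ Module.support R N, Order.coheight q = (k : ℕ∞) := by
  have hne : Nonempty (Module.support R N) := by
    by_contra hcon
    rw [not_nonempty_iff] at hcon
    rw [Module.supportDim, Order.krullDim_eq_bot] at h
    exact WithBot.bot_ne_coe h
  have h1 : ¬ Module.supportDim R N < (k : WithBot ℕ∞) := by rw [h]; exact lt_irrefl _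
  rw [Module.supportDim, Order.krullDim_lt_coe_iff] at h1
  obtain ⟨l, hl⟩ : ∃ l : LTSeries (Module.support R N), k ≤ l.length := by
    by_contra hcon
    apply h1
    intro l
    by_contra hl
    exact hcon ⟨l, Nat.le_of_not_lt hl⟩
  refine ⟨l.head.1, l.head.2, le_antisymm ?_ ?_⟩
  · -- chains from `l.head` stay in the support
    apply Order.coheight_le
    intro p hp
    have hmem : ∀ i, p i ∈ Module.support R N := by
      intro i
      refine Module.mem_support_mono ?_ l.head.2
      rw [← hp]
      exact LTSeries.head_le p i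
    let p' : LTSeries (Module.support R N) :=
      LTSeries.mk p.length (fun i => ⟨p i, hmem i⟩) (fun i j hij => p.strictMono hij)
    have h2 := Order.LTSeries.length_le_krullDim p'
    have h3 : Order.krullDim (Module.support R N) = k := h
    rw [h3] at h2
    exact_mod_cast h2
  · let l' : LTSeries (PrimeSpectrum R) := l.map Subtype.val (fun _ _ h => h)
    have h1 : (l'.length : ℕ∞) ≤ Order.coheight l'.head := Order.length_le_coheight_head
    have h3 : l'.length = l.length := LTSeries.map_length _ _ _
    refine le_trans ?_ h1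
    rw [h3]
    exact_mod_cast hl

theorem support_quotient_prime (M : Type u) [AddCommGroup M] [Module R M] [Module.Finite R M]
    (q : PrimeSpectrum R) (hq : q ∈ Module.support R M) :
    Module.support R (M ⧸ (q.asIdeal • ⊤ : Submodule R M)) = Set.Ici q := by
  rw [Module.support_quotient, zeroLocus_eq_Ici]
  apply Set.inter_eq_right.mpr
  intro p hp
  exact Module.mem_support_mono hp hq

theorem supportDim_quotient_prime (M : Type u) [AddCommGroup M] [Module R M] [Module.Finite R M]
    (q : PrimeSpectrum R) (hq : q ∈ Module.support R M) :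
    Module.supportDim R (M ⧸ (q.asIdeal • ⊤ : Submodule R M)) =
      ((Order.coheight q : ℕ∞) : WithBot ℕ∞) := by
  rw [Module.supportDim, support_quotient_prime M q hq, Order.coheight_eq_krullDim_Ici]

theorem supportDim_quotSMulTop_lt (N : Type u) [AddCommGroup N] [Module R N] [Module.Finite R N]
    (q : PrimeSpectrum R) (hN : Module.support R N ⊆ Set.Ici q) (k : ℕ)
    (hk : Order.coheight q = (k : ℕ∞)) (z : R) (hz : z ∉ q.asIdeal) :
    Module.supportDim R (N ⧸ z • (⊤ : Submodule R N)) < (k : WithBot ℕ∞) := by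
  apply supportDim_lt_of_forall_coheight_lt
  intro p hp
  have hp' : p ∈ Module.support R (QuotSMulTop z N) := hp
  rw [Module.support_quotSMulTop] at hp'
  obtain ⟨hp1, hp2⟩ := hp'
  have hqp : q ≤ p := hN hp1
  have hzp : z ∈ p.asIdeal := by
    rw [PrimeSpectrum.mem_zeroLocus, Set.singleton_subset_iff] at hp2
    exact hp2
  have hlt : q < p := by
    refine lt_of_le_of_ne hqp ?_
    rintro rfl
    exact hz hzp
  have h1 := Order.coheight_add_one_le hlt
  rw [hk] at h1
  have hfin : Order.coheight p ≠ ⊤ := by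
    intro htop
    rw [htop] at h1
    simp at h1
  exact (ENat.add_one_le_iff hfin).mp h1

end dimlemmas

section lc

variable {R : Type u} [CommRing R] [IsNoetherianRing R] (I : Ideal R)

/-- right exactness of `H^k_I` on modules of dimension `≤ k`. -/
theorem Hmap_g_surjective_of_supportDim_lt {S : ShortComplex (ModuleCat.{u} R)} (hS : S.ShortExact)
    (k : ℕ) (h : Module.supportDim R S.X₁ < ((k + 1 : ℕ) : WithBot ℕ∞)) :
    Function.Surjective (Hmap I k S.g) := by
  intro z
  have : Subsingleton ((localCohomology I (k + 1)).obj S.X₁) :=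
    subsingleton_H_of_supportDim_lt I S.X₁ (k + 1) h (k + 1) le_rfl
  exact Hmap_exact₃ I hS k z (this.elim _ _)

theorem smul_H_surjective_of_supportDim (k : ℕ) (f : R)
    (M : Type u) [AddCommGroup M] [Module R M]
    (hM : Module.supportDim R M < ((k + 1 : ℕ) : WithBot ℕ∞))
    (hf : Module.supportDim R (M ⧸ f • (⊤ : Submodule R M)) < (k : WithBot ℕ∞)) :
    Function.Surjective (fun x : LocCoh.H I k M => f • x) := by
  have hN : Subsingleton (LocCoh.H I k (M ⧸ f • (⊤ : Submodule R M))) :=
    subsingleton_H_of_supportDim_lt I _ k hf k le_rfl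
  let P : Submodule R M := f • (⊤ : Submodule R M)
  let ψ : M →ₗ[R] P := LinearMap.codRestrict P (LinearMap.lsmul R M f)
    (fun m => Submodule.smul_mem_pointwise_smul m f ⊤ trivial)
  have hψ : Function.Surjective ψ := by
    rintro ⟨y, hy⟩
    obtain ⟨m, -, rfl⟩ := (Submodule.mem_smul_pointwise_iff_exists _ _ _).mp hy
    exact ⟨m, rfl⟩
  have hA := shortExact_of_linearMaps (LinearMap.ker ψ).subtype ψ
    (Submodule.injective_subtype _) hψ (LinearMap.exact_subtype_ker_map ψ)
  have hB := shortExact_of_linearMaps P.subtype P.mkQ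
    (Submodule.injective_subtype _) (Submodule.mkQ_surjective _)
    (LinearMap.exact_subtype_mkQ _)
  intro x
  have hN' : Subsingleton ((localCohomology I k).obj (ModuleCat.of R (M ⧸ P))) := hN
  obtain ⟨y, hy⟩ := Hmap_exact₂ I hB k x (hN'.elim _ _)
  have hK : Subsingleton ((localCohomology I (k + 1)).obj (ModuleCat.of R (LinearMap.ker ψ))) := by
    refine subsingleton_H_of_supportDim_lt I _ (k + 1) ?_ (k + 1) le_rfl
    exact lt_of_le_of_lt (Module.supportDim_le_of_injective _ (Submodule.injective_subtype _)) hM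
  obtain ⟨w, hw⟩ := Hmap_exact₃ I hA k y (hK.elim _ _)
  refine ⟨w, ?_⟩
  change f • w = x
  rw [← hy, ← hw, ← Hmap_smul_id]
  have hcomp : (f • 𝟙 (ModuleCat.of R M)) = ModuleCat.ofHom ψ ≫ ModuleCat.ofHom P.subtype := by
    apply ModuleCat.hom_ext
    apply LinearMap.ext
    intro m
    rfl
  rw [hcomp]
  change Hmap I k (ModuleCat.ofHom ψ ≫ ModuleCat.ofHom P.subtype) w = _
  rw [show Hmap I k (ModuleCat.ofHom ψ ≫ ModuleCat.ofHom P.subtype) =
    (Hmap I k (ModuleCat.ofHom P.subtype)).comp (Hmap I k (ModuleCat.ofHom ψ)) from by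
      rw [Hmap, Functor.map_comp, ModuleCat.hom_comp]]
  rfl

end lc

section aux

variable {R : Type u} [CommRing R] [IsNoetherianRing R] (I : Ideal R)

theorem isPowerTorsion_of_support_subset (M : Type u) [AddCommGroup M] [Module R M]
    [Module.Finite R M] (h : Module.support R M ⊆ PrimeSpectrum.zeroLocus (I : Set R)) :
    ∃ k : ℕ, ∀ a ∈ I ^ k, ∀ m : M, a • m = 0 := by
  rw [Module.support_eq_zeroLocus, PrimeSpectrum.zeroLocus_subset_zeroLocus_iff] at h
  obtain ⟨k, hk⟩ := Ideal.exists_pow_le_of_le_radical_of_fg h (IsNoetherian.noetherian I)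
  exact ⟨k, fun a ha m => (Module.mem_annihilator (R := R) (M := M)).mp (hk ha) m⟩

omit [IsNoetherianRing R] in
/-- `x` kills `H^k_I(M/xM)`. -/
theorem smul_H_quotSMulTop_eq_zero (k : ℕ) (x : R) (M : Type u) [AddCommGroup M] [Module R M]
    (a : LocCoh.H I k (M ⧸ x • (⊤ : Submodule R M))) : x • a = 0 := by
  rw [← Hmap_smul_id]
  have h0 : x • 𝟙 (ModuleCat.of R (M ⧸ x • (⊤ : Submodule R M))) = 0 := by
    apply ModuleCat.hom_ext
    apply LinearMap.ext
    intro c
    obtain ⟨m, rfl⟩ := Submodule.Quotient.mk_surjective (x • (⊤ : Submodule R M)) c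
    change x • (Submodule.Quotient.mk m : M ⧸ x • (⊤ : Submodule R M)) = 0
    rw [← Submodule.Quotient.mk_smul, Submodule.Quotient.mk_eq_zero]
    exact Submodule.smul_mem_pointwise_smul m x ⊤ trivial
  rw [h0]
  exact Hmap_zero_apply I k _ _ a

/-- If `H^{k+1}_I(M) = 0` and `dim M ≤ k+1` then `H^k_I(M) → H^k_I(M/xM)` is surjective. -/
theorem Hmap_mkQ_surjective_of_subsingleton (k : ℕ) (M : Type u) [AddCommGroup M] [Module R M]
    (hM : Module.supportDim R M < ((k + 1 + 1 : ℕ) : WithBot ℕ∞))
    (hH : Subsingleton (LocCoh.H I (k + 1) M)) (x : R) :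
    Function.Surjective
      (Hmap I k (ModuleCat.ofHom (x • (⊤ : Submodule R M)).mkQ)) := by
  let P : Submodule R M := x • (⊤ : Submodule R M)
  let ψ : M →ₗ[R] P := LinearMap.codRestrict P (LinearMap.lsmul R M x)
    (fun m => Submodule.smul_mem_pointwise_smul m x ⊤ trivial)
  have hψ : Function.Surjective ψ := by
    rintro ⟨y, hy⟩
    obtain ⟨m, -, rfl⟩ := (Submodule.mem_smul_pointwise_iff_exists _ _ _).mp hy
    exact ⟨m, rfl⟩
  have hA := shortExact_of_linearMaps (LinearMap.ker ψ).subtype ψ
    (Submodule.injective_subtype _) hψ (LinearMap.exact_subtype_ker_map ψ)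
  have hB := shortExact_of_linearMaps P.subtype P.mkQ
    (Submodule.injective_subtype _) (Submodule.mkQ_surjective _)
    (LinearMap.exact_subtype_mkQ _)
  have h1 : Function.Surjective (Hmap I (k + 1) (ModuleCat.ofHom ψ)) :=
    Hmap_g_surjective_of_supportDim_lt I hA (k + 1)
      (lt_of_le_of_lt (Module.supportDim_le_of_injective _ (Submodule.injective_subtype _)) hM)
  have hP : Subsingleton ((localCohomology I (k + 1)).obj (ModuleCat.of R P)) := by
    refine ⟨fun a b => ?_⟩
    obtain ⟨a', rfl⟩ := h1 a
    obtain ⟨b', rfl⟩ := h1 b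
    rw [hH.elim a' b']
  intro z
  exact Hmap_exact₃ I hB k z (hP.elim _ _)

end aux

section core

variable {R : Type u} [CommRing R] [IsNoetherianRing R] [IsLocalRing R]

open IsLocalRing

theorem supportDim_quotSMulTop_eq (M : Type u) [AddCommGroup M] [Module R M] [Module.Finite R M]
    (q : PrimeSpectrum R) (hM : Module.support R M = Set.Ici q) (n : ℕ)
    (hq : Order.coheight q = ((n + 1 : ℕ) : ℕ∞)) (x : R) (hx : x ∈ maximalIdeal R)
    (hxq : x ∉ q.asIdeal) :
    Module.supportDim R (M ⧸ x • (⊤ : Submodule R M)) = (n : WithBot ℕ∞) := by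
  have hup := supportDim_quotSMulTop_lt M q hM.le (n + 1) hq x hxq
  have hlow : Module.supportDim R M ≤ Module.supportDim R (QuotSMulTop x M) + 1 :=
    Module.supportDim_le_supportDim_quotSMulTop_succ hx
  have hdimM : Module.supportDim R M = ((n + 1 : ℕ) : WithBot ℕ∞) := by
    rw [Module.supportDim, hM, ← Order.coheight_eq_krullDim_Ici, hq]
    rfl
  rw [hdimM] at hlow
  change ((n + 1 : ℕ) : WithBot ℕ∞) ≤ Module.supportDim R (M ⧸ x • (⊤ : Submodule R M)) + 1 at hlow
  generalize Module.supportDim R (M ⧸ x • (⊤ : Submodule R M)) = d at hup hlow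
  induction d using WithBot.recBotCoe with
  | bot => simp at hlow
  | coe d =>
    induction d using ENat.recTopCoe with
    | top =>
      exfalso
      have : ((⊤ : ℕ∞) : WithBot ℕ∞) < ((n + 1 : ℕ) : WithBot ℕ∞) := hup
      simp at this
    | coe d =>
      have h1 : d < n + 1 := by exact_mod_cast hup
      have h2 : n + 1 ≤ d + 1 := by exact_mod_cast hlow
      have : d = n := by omega
      rw [this]
      rfl

end core

end Groth.Agent.Lib.Helper16.LC
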