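import Groth.Agent.Lib.Helper16.CanonicalInjDim
import Groth.Agent.Lib.Helper18.CM6

/-!
# Associated primes of a canonical module (helper16)

`R` Noetherian local of dimension `n`, `E` an injective hull of the residue field, `K` finite with
`Hom(K, E) ≃ H^n_m(R)`.

* `nontrivial_hom_quotient_iff` : `Hom(R/p, K) ≠ 0` iff `dim R/p = n`.
* `mem_associatedPrimes_iff` : `Ass K = {p | dim R/p = n}`.
-/

set_option autoImplicit false
universe u
open CategoryTheory Abelian IsLocalRing TensorProduct Opposite

namespace Groth.Agent.Lib.Helper16.Canon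

open Groth.Agent.Lib.Helper16.LC

variable {R : Type u} [CommRing R] [IsNoetherianRing R] [IsLocalRing R] {n : ℕ}
  (hn : ringKrullDim R = n) {E : Type u} [AddCommGroup E] [Module R E]
  (f : ResidueField R →ₗ[R] E) (hf : InjHull.IsInjectiveHull f)
  {K : Type u} [AddCommGroup K] [Module R K] [Module.Finite R K]
  (eK : (K →ₗ[R] E) ≃ₗ[R] LocCoh.H (maximalIdeal R) n R)

include hn f hf eK in
/-- `Hom(R/p, K) ≠ 0` iff `dim R/p = n` -/
theorem nontrivial_hom_quotient_iff (p : Ideal R) [p.IsPrime] :
    Nontrivial ((R ⧸ p) →ₗ[R] K) ↔ ringKrullDim (R ⧸ p) = n := by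
  obtain ⟨e⟩ := top_equiv hn eK hf.isInjective (R ⧸ p)
  have hsd : Module.supportDim R (R ⧸ p) = ringKrullDim (R ⧸ p) :=
    Module.supportDim_quotient_eq_ringKrullDim p
  constructor
  · intro hnt
    have hnt2 : Nontrivial (((R ⧸ p) →ₗ[R] K) →ₗ[R] E) := by
      by_contra hcon
      rw [not_nontrivial_iff_subsingleton] at hcon
      have := subsingleton_of_dual_eq_zero f hf (X := (R ⧸ p) →ₗ[R] K)
        (fun φ => hcon.elim φ 0)
      exact not_subsingleton _ this
    have hnt3 : Nontrivial (LocCoh.H (maximalIdeal R) n (R ⧸ p)) := e.symm.injective.nontrivial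
    by_contra hne
    have hlt : Module.supportDim R (R ⧸ p) < (n : WithBot ℕ∞) := by
      rw [hsd]
      refine lt_of_le_of_ne ?_ hne
      rw [← hn]
      exact ringKrullDim_quotient_le p
    have := subsingleton_H_of_supportDim_lt (maximalIdeal R) (R ⧸ p) n hlt n le_rfl
    exact not_subsingleton _ this
  · intro hdim
    have hnt : Nontrivial (LocCoh.H (maximalIdeal R) n (R ⧸ p)) :=
      nontrivial_H_supportDim _ n (by rw [hsd, hdim])
    have hnt2 : Nontrivial (((R ⧸ p) →ₗ[R] K) →ₗ[R] E) := e.injective.nontrivial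
    by_contra hcon
    rw [not_nontrivial_iff_subsingleton] at hcon
    have : Subsingleton (((R ⧸ p) →ₗ[R] K) →ₗ[R] E) := by
      refine ⟨fun a b => ?_⟩
      apply LinearMap.ext
      intro x
      rw [hcon.elim x 0, map_zero, map_zero]
    exact not_subsingleton _ this

include hn f hf eK in
theorem mem_associatedPrimes_iff (p : Ideal R) :
    p ∈ associatedPrimes R K ↔ p.IsPrime ∧ ringKrullDim (R ⧸ p) = n := by
  have key : ∀ q : Ideal R, IsAssociatedPrime q K → q.IsPrime ∧ ringKrullDim (R ⧸ q) = n := by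
    intro q hq
    have hq' := (isAssociatedPrime_iff_exists_injective_linearMap q K).mp hq
    obtain ⟨hqp, g, hg⟩ := hq'
    refine ⟨hqp, (nontrivial_hom_quotient_iff hn f hf eK q).mp ?_⟩
    refine ⟨⟨g, 0, ?_⟩⟩
    intro h0
    have hnt : Nontrivial (R ⧸ q) := Ideal.Quotient.nontrivial_iff.mpr hqp.ne_top
    have h1 : g 1 = g 0 := by rw [h0]; rfl
    exact one_ne_zero (hg h1)
  constructor
  · exact key p
  · rintro ⟨hp, hdim⟩
    obtain ⟨g, g', hgg'⟩ := ((nontrivial_hom_quotient_iff hn f hf eK p).mpr hdim).exists_pair_ne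
    -- a nonzero map
    obtain ⟨g, hg⟩ : ∃ g : (R ⧸ p) →ₗ[R] K, g ≠ 0 := by
      by_cases h : g = 0
      · exact ⟨g', fun h' => hgg' (by rw [h, h'])⟩
      · exact ⟨g, h⟩
    have hx : g 1 ≠ 0 := by
      intro h1
      apply hg
      apply LinearMap.ext
      intro y
      obtain ⟨r, rfl⟩ := Ideal.Quotient.mk_surjective y
      have : (Ideal.Quotient.mk p r : R ⧸ p) = r • (1 : R ⧸ p) := by
        rw [Algebra.smul_def, mul_one]; rfl
      rw [this, map_smul, h1, smul_zero]
      rfl
    obtain ⟨q, hq, hle⟩ := exists_le_isAssociatedPrime_of_isNoetherianRing R (g 1) hx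
    obtain ⟨hqp, hqdim⟩ := key q hq
    have hpq : p ≤ q := by
      intro a ha
      apply hle
      rw [Submodule.mem_colon_singleton, Submodule.mem_bot, ← map_smul]
      have : a • (1 : R ⧸ p) = 0 := by
        have : a • (1 : R ⧸ p) = Ideal.Quotient.mk p a := by
          rw [Algebra.smul_def, mul_one]; rfl
        rw [this]
        exact Ideal.Quotient.eq_zero_iff_mem.mpr ha
      rw [this, map_zero]
    have hnlt : ¬ p < q :=
      Groth.Agent.Lib.Helper18.CM.not_lt_of_ringKrullDim_quotient_le (p := q) (q := p)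
        (by rw [hdim, hqdim])
    have hpq' : p = q := by
      by_contra hne
      exact hnlt (lt_of_le_of_ne hpq hne)
    rw [hpq']
    exact hq

end Groth.Agent.Lib.Helper16.Canon
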