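import Groth.Agent.Lib.Helper16.CanonicalModule

/-!
# Canonical modules over Cohen–Macaulay local rings (helper16)

* `depth_eq_of_CM`, `hlow_of_CM` : over a CM local ring of dimension `n`, `H^i_m(R) = 0` for `i < n`.
-/

set_option autoImplicit false
universe u
open CategoryTheory Abelian IsLocalRing TensorProduct Opposite

namespace Groth.Agent.Lib.Helper16.Canon

open Groth.Agent.Lib.Helper16.LC

variable {R : Type u} [CommRing R] [LocCoh.IsCohenMacaulayLocalRing R] {n : ℕ}

theorem depth_eq_of_CM (hn : ringKrullDim R = n) : LocCoh.depth R R = n := by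
  have h1 := LocCoh.IsCohenMacaulayLocalRing.supportDim_eq_depth (R := R)
  rw [Module.supportDim_self_eq_ringKrullDim, hn] at h1
  have h2 : ((n : ℕ∞) : WithBot ℕ∞) = ((LocCoh.depth R R : ℕ∞) : WithBot ℕ∞) := by
    rw [← h1]; rfl
  exact (WithBot.coe_injective h2).symm

theorem hlow_of_CM (hn : ringKrullDim R = n) :
    ∀ i < n, Subsingleton (LocCoh.H (maximalIdeal R) i R) := by
  intro i hi
  have hIM : maximalIdeal R • (⊤ : Submodule R R) ≠ ⊤ := by
    rw [smul_eq_mul, Ideal.mul_top]
    exact Ideal.IsMaximal.ne_top inferInstance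
  refine subsingleton_H_of_lt_idealDepth (maximalIdeal R) R hIM n ?_ i hi
  exact le_of_eq (depth_eq_of_CM hn).symm

end Groth.Agent.Lib.Helper16.Canon
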