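import Groth.Agent.Lib.Helper16.CanonicalEndo
import Groth.Agent.Lib.Helper16.CanonicalAss
import Groth.Agent.Lib.Helper16.CMHeightFormula
import Mathlib.RingTheory.FractionalIdeal.Operations
import Mathlib.LinearAlgebra.Dual.Lemmas
import Mathlib.Algebra.Module.LocalizedModule.Basic
import Mathlib.RingTheory.Localization.FractionRing

/-!
# The canonical module of a Cohen–Macaulay local domain as an ideal (helper16)

* `exists_functional_ne_zero` : finite torsion-free modules over a domain have enough functionals.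
* `injective_of_end_eq_smul` : if all endomorphisms of a torsion-free module `K` are homotheties, a
  functional `K → A` not vanishing at some point is injective.
* `le_ringKrullDim_quotient_of_nontrivial_ext_one` : `Ext^1(R/q, K) ≠ 0` forces `dim R/q ≥ n - 1`.
* `height_eq_one_of_mem_associatedPrimes` : if `K ≃ I` for an ideal `I` of the CM local domain
  `R`, every associated prime of `R/I` has height one.
-/

set_option autoImplicit false
universe u
open CategoryTheory Abelian IsLocalRing

namespace Groth.Agent.Lib.Helper16.CanIdeal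

open Groth.Agent.Lib.Helper16.LC Groth.Agent.Lib.Helper16.Depth Groth.Agent.Lib.Helper16.Canon

section domain

variable {A : Type u} [CommRing A] [IsDomain A] {K : Type u} [AddCommGroup K] [Module A K]

/-- a finite torsion-free module over a domain has enough functionals -/
theorem exists_functional_ne_zero [Module.Finite A K]
    (htf : ∀ (a : A) (x : K), a ≠ 0 → a • x = 0 → x = 0) {x₀ : K} (hx₀ : x₀ ≠ 0) :
    ∃ φ : K →ₗ[A] A, φ x₀ ≠ 0 := by
  classical
  let S := nonZeroDivisors A
  let F := Localization S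
  let V := LocalizedModule S K
  let ι : K →ₗ[A] V := LocalizedModule.mkLinearMap S K
  have hv₀ : ι x₀ ≠ 0 := by
    intro h
    obtain ⟨s, hs⟩ := (IsLocalizedModule.eq_zero_iff S ι).1 h
    exact hx₀ (htf s x₀ (nonZeroDivisors.ne_zero s.2) hs)
  obtain ⟨l, hl⟩ := Module.Projective.exists_dual_ne_zero F hv₀
  let μ : K →ₗ[A] F := (l.restrictScalars A) ∘ₗ ι
  have hμ : μ x₀ ≠ 0 := hl
  have hfg : (LinearMap.range μ).FG := by
    rw [LinearMap.range_eq_map]
    exact Submodule.FG.map _ Module.Finite.fg_top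
  obtain ⟨c, hc, hint⟩ := FractionalIdeal.isFractional_of_fg (S := S) (P := F) hfg
  let j : A →ₗ[A] F := Algebra.linearMap A F
  have hj : Function.Injective j := IsFractionRing.injective A F
  have hmem : ∀ x, (c • μ) x ∈ LinearMap.range j := by
    intro x
    obtain ⟨a, ha⟩ := hint (μ x) ⟨x, rfl⟩
    exact ⟨a, ha⟩
  refine ⟨(LinearEquiv.ofInjective j hj).symm.toLinearMap ∘ₗ (c • μ).codRestrict _ hmem, ?_⟩
  intro h0
  have h1 : j ((LinearEquiv.ofInjective j hj).symm ⟨(c • μ) x₀, hmem x₀⟩) = (c • μ) x₀ := by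
    have := (LinearEquiv.ofInjective j hj).apply_symm_apply ⟨(c • μ) x₀, hmem x₀⟩
    exact congrArg Subtype.val this
  have h2 : (c • μ) x₀ = 0 := by
    rw [← h1]
    have : (LinearEquiv.ofInjective j hj).symm ⟨(c • μ) x₀, hmem x₀⟩ = 0 := h0
    rw [this, map_zero]
  have h3 : c • μ x₀ = 0 := h2
  rw [Algebra.smul_def, mul_eq_zero] at h3
  rcases h3 with h3 | h3
  · have : c = 0 := (IsFractionRing.injective A F) (by rw [h3, map_zero])
    exact nonZeroDivisors.ne_zero hc this
  · exact hμ h3

omit [IsDomain A] in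
/-- if every endomorphism of a torsion-free module is a homothety, then a functional which does
not vanish is injective -/
theorem injective_of_end_eq_smul
    (htf : ∀ (a : A) (x : K), a ≠ 0 → a • x = 0 → x = 0)
    (hend : ∀ g : K →ₗ[A] K, ∃ a : A, ∀ x, g x = a • x)
    (φ : K →ₗ[A] A) {x₀ : K} (hφ : φ x₀ ≠ 0) : Function.Injective φ := by
  rw [injective_iff_map_eq_zero]
  intro x hx
  have hx₀ : x₀ ≠ 0 := by
    rintro rfl
    exact hφ (map_zero φ)
  obtain ⟨a, ha⟩ := hend (φ.smulRight x₀)
  have h1 : φ x₀ • x₀ = a • x₀ := by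
    have := ha x₀
    rwa [LinearMap.smulRight_apply] at this
  have ha0 : a ≠ 0 := by
    rintro rfl
    rw [zero_smul] at h1
    exact hx₀ (htf _ _ hφ h1)
  have h2 : φ x • x₀ = a • x := by
    have := ha x
    rwa [LinearMap.smulRight_apply] at this
  rw [hx, zero_smul] at h2
  exact htf a x ha0 h2.symm

end domain

section unmixed

variable {R : Type u} [CommRing R] [LocCoh.IsCohenMacaulayLocalRing R] [IsDomain R] {n : ℕ}
  (hn : ringKrullDim R = n) {E : Type u} [AddCommGroup E] [Module R E]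
  (f : ResidueField R →ₗ[R] E) (hf : InjHull.IsInjectiveHull f)
  {K : Type u} [AddCommGroup K] [Module R K] [Module.Finite R K]
  (eK : (K →ₗ[R] E) ≃ₗ[R] LocCoh.H (maximalIdeal R) n R)

omit [IsDomain R] in
include hn f hf eK in
/-- `Ext^1(R/q, K) ≠ 0` forces `dim R/q ≥ n - 1` -/
theorem le_ringKrullDim_quotient_of_nontrivial_ext_one (q : Ideal R)
    (hnt : ¬ Subsingleton (Ext.{u} (ModuleCat.of R (R ⧸ q)) (ModuleCat.of R K) 1)) :
    ∃ m : ℕ, m + 1 = n ∧ (m : WithBot ℕ∞) ≤ ringKrullDim (R ⧸ q) := by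
  have hsd : Module.supportDim R (R ⧸ q) = ringKrullDim (R ⧸ q) :=
    Module.supportDim_quotient_eq_ringKrullDim q
  rcases Nat.eq_zero_or_pos n with h0 | hpos
  · exfalso
    apply hnt
    refine subsingleton_of_dual_eq_zero f hf (fun ψ => ?_)
    subst h0
    exact dual_ext_succ hn eK hf.isInjective (hlow_of_CM hn) (R ⧸ q) ψ
  · refine ⟨n - 1, by omega, ?_⟩
    by_contra hlt
    rw [not_le] at hlt
    apply hnt
    obtain ⟨e⟩ := duality hn eK hf.isInjective (hlow_of_CM hn) (R ⧸ q) (n - 1) 1 (by omega)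
    have hs : Subsingleton (LocCoh.H (maximalIdeal R) (n - 1) (R ⧸ q)) :=
      subsingleton_H_of_supportDim_lt (maximalIdeal R) (R ⧸ q) (n - 1) (by rw [hsd]; exact hlt)
        (n - 1) le_rfl
    refine subsingleton_of_dual_eq_zero f hf (fun ψ => ?_)
    apply e.symm.injective
    exact Subsingleton.elim _ _

include hn f hf eK in
/-- if the canonical module is isomorphic to an ideal `I`, the associated primes of `R/I` have
height one -/
theorem height_eq_one_of_mem_associatedPrimes (I : Ideal R) (e : K ≃ₗ[R] I) (q : Ideal R)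
    (hq : q ∈ associatedPrimes R (R ⧸ I)) : q.height = 1 := by
  obtain ⟨hqp, g, hg⟩ := (isAssociatedPrime_iff_exists_injective_linearMap q (R ⧸ I)).mp hq
  have hntK := nontrivial_K hn eK
  have hI0 : I ≠ ⊥ := by
    obtain ⟨x, hx⟩ := exists_ne (0 : K)
    intro hI
    apply hx
    apply e.injective
    rw [map_zero]
    apply Subtype.ext
    have h2 : ((e x : I) : R) ∈ (⊥ : Ideal R) := hI ▸ (e x).2
    exact h2
  have hIq : I ≤ q := by
    intro a ha
    have h1 : g (Ideal.Quotient.mk q a) = 0 := by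
      have : Ideal.Quotient.mk q a = a • (1 : R ⧸ q) := by
        rw [Algebra.smul_def, mul_one]; rfl
      rw [this, map_smul]
      obtain ⟨y, hy⟩ := Ideal.Quotient.mk_surjective (g 1)
      rw [← hy]
      show a • (Ideal.Quotient.mk I y) = 0
      rw [Algebra.smul_def]
      show Ideal.Quotient.mk I a * Ideal.Quotient.mk I y = 0
      rw [Ideal.Quotient.eq_zero_iff_mem.mpr ha, zero_mul]
    have h2 : Ideal.Quotient.mk q a = 0 := hg (by rw [h1, map_zero])
    exact Ideal.Quotient.eq_zero_iff_mem.mp h2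
  have hq0 : q ≠ ⊥ := fun h => hI0 (le_bot_iff.mp (h ▸ hIq))
  -- the short exact sequence `0 → I → R → R/I → 0`
  have hS := shortExact_of_linearMaps I.subtype I.mkQ I.subtype_injective
    (Submodule.mkQ_surjective I) (LinearMap.exact_subtype_mkQ I)
  have hnt1 : ¬ Subsingleton (Ext.{u} (ModuleCat.of R (R ⧸ q)) (ModuleCat.of R K) 1) := by
    intro hsub
    have hsubI : Subsingleton (Ext.{u} (ModuleCat.of R (R ⧸ q)) (ModuleCat.of R I) 1) :=
      Groth.Agent.Lib.Helper16.ExtCov.subsingleton_ext_of_linearEquiv e 1 hsub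
    have h0 : Subsingleton (Ext.{u} (ModuleCat.of R (R ⧸ q)) (ModuleCat.of R R) 0) := by
      refine ⟨fun a b => ?_⟩
      suffices hz : ∀ z : Ext.{u} (ModuleCat.of R (R ⧸ q)) (ModuleCat.of R R) 0, z = 0 by
        rw [hz a, hz b]
      intro z
      obtain ⟨h, rfl⟩ := (Ext.mk₀_bijective _ _).2 z
      have hh : h = 0 := by
        apply ModuleCat.hom_ext
        apply LinearMap.ext
        intro y
        obtain ⟨a, haq, ha0⟩ := Submodule.exists_mem_ne_zero_of_ne_bot hq0
        have h1 : a * h.hom y = 0 := by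
          have : a • y = 0 := by
            obtain ⟨y', rfl⟩ := Ideal.Quotient.mk_surjective y
            rw [Algebra.smul_def]
            show Ideal.Quotient.mk q a * Ideal.Quotient.mk q y' = 0
            rw [Ideal.Quotient.eq_zero_iff_mem.mpr haq, zero_mul]
          rw [← smul_eq_mul, ← map_smul, this, map_zero]
        rcases mul_eq_zero.mp h1 with h2 | h2
        · exact absurd h2 ha0
        · exact h2
      rw [hh, Ext.mk₀_zero]
    have h3 := ext_X₃ hS (ModuleCat.of R (R ⧸ q)) 0 h0 hsubI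
    have hg0 : Ext.mk₀ (ModuleCat.ofHom g) = (0 : Ext.{u} (ModuleCat.of R (R ⧸ q))
        (ModuleCat.of R (R ⧸ I)) 0) := h3.elim _ _
    rw [← Ext.mk₀_zero] at hg0
    have hg1 : ModuleCat.ofHom g = 0 := (Ext.mk₀_bijective _ _).1 hg0
    have hnt : Nontrivial (R ⧸ q) := Ideal.Quotient.nontrivial_iff.mpr hqp.ne_top
    have h4 : g 1 = 0 := by
      have := congrArg (fun φ => φ.hom (1 : R ⧸ q)) hg1
      exact this
    exact one_ne_zero (hg (by rw [h4, map_zero]))
  obtain ⟨m, hm, hle⟩ := le_ringKrullDim_quotient_of_nontrivial_ext_one hn f hf eK q hnt1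
  have hCM : LocCoh.IsCohenMacaulayModule R R :=
    LocCoh.IsCohenMacaulayLocalRing.supportDim_eq_depth
  have hform := Groth.Agent.Lib.Helper16.CMHt.height_add_ringKrullDim_quotient_prime
    R hCM q
  rw [hn] at hform
  have hpos : 1 ≤ q.height := by
    rw [Order.one_le_iff_pos, pos_iff_ne_zero, Ne, Ideal.height_eq_zero_iff_eq_bot]
    exact hq0
  have hhfin : q.height ≠ ⊤ := Ideal.height_ne_top hqp.ne_top
  obtain ⟨h', hh'⟩ := ENat.ne_top_iff_exists.mp hhfin
  have hdle : ringKrullDim (R ⧸ q) ≤ n := by rw [← hn]; exact ringKrullDim_quotient_le q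
  obtain ⟨d', hd'⟩ : ∃ d' : ℕ, ringKrullDim (R ⧸ q) = d' := by
    have h1 : ringKrullDim (R ⧸ q) ≠ ⊥ := fun h => by
      rw [h] at hle
      exact absurd hle (by simp)
    have h2 : ringKrullDim (R ⧸ q) ≠ ⊤ := fun h => by
      rw [h, top_le_iff] at hdle
      have h3 : ((n : ℕ∞) : WithBot ℕ∞) = ((⊤ : ℕ∞) : WithBot ℕ∞) := hdle
      exact ENat.natCast_ne_top n (WithBot.coe_injective h3)
    obtain ⟨a, ha⟩ := WithBot.ne_bot_iff_exists.mp h1
    have ha_top : a ≠ ⊤ := by
      rintro rfl
      exact h2 ha.symm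
    obtain ⟨d', hd'⟩ := ENat.ne_top_iff_exists.mp ha_top
    exact ⟨d', by rw [← ha, ← hd']; rfl⟩
  rw [hd'] at hform hle
  rw [← hh'] at hform hpos ⊢
  have e1 : h' + d' = n := by exact_mod_cast hform
  have e2 : m ≤ d' := by exact_mod_cast hle
  have e3 : 1 ≤ h' := by exact_mod_cast hpos
  have : h' = 1 := by omega
  rw [this]
  rfl

end unmixed

end Groth.Agent.Lib.Helper16.CanIdeal
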