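import Groth.Agent.Lib.Helper16.LocalDuality

/-!
# The top local cohomology functor is a tensor product on finite modules (helper16)

`R` Noetherian, `I` an ideal, `n` with `H^{n+1}_I(X) = 0` for all `X` (so `H^n_I` is right exact).
Then the natural map `τ_M : H^n_I(R) ⊗ M → H^n_I(M)`, `z ⊗ m ↦ H^n_I(r ↦ r • m)(z)`, is bijective
for every finite `R`-module `M`.
-/

set_option autoImplicit false
universe u
open CategoryTheory Abelian TensorProduct

namespace Groth.Agent.Lib.Helper16.LT

open Groth.Agent.Lib.Helper16.LC Groth.Agent.Lib.Helper16.LD Groth.Agent.Lib.Helper16.ExtRep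

variable {R : Type u} [CommRing R] (I : Ideal R)

theorem Hmap_smul (p : ℕ) {A B : ModuleCat.{u} R} (r : R) (f : A ⟶ B)
    (z : (localCohomology I p).obj A) :
    Hmap I p (r • f) z = r • Hmap I p f z := by
  rw [← Hcomp_mk₀, Ext.mk₀_smul, Hcomp_smul, Hcomp_mk₀]

/-- `r ↦ r • m` as a morphism `R ⟶ M` -/
noncomputable def ρ {M : Type u} [AddCommGroup M] [Module R M] (m : M) :
    ModuleCat.of R R ⟶ ModuleCat.of R M :=
  ModuleCat.ofHom (LinearMap.toSpanSingleton R M m)

theorem ρ_apply {M : Type u} [AddCommGroup M] [Module R M] (m : M) (r : R) :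
    (ρ m).hom r = r • m := rfl

theorem ρ_add {M : Type u} [AddCommGroup M] [Module R M] (m m' : M) :
    ρ (m + m') = ρ m + ρ (R := R) m' := by
  apply ModuleCat.hom_ext
  apply LinearMap.ext
  intro r
  change r • (m + m') = r • m + r • m'
  rw [smul_add]

theorem ρ_smul {M : Type u} [AddCommGroup M] [Module R M] (a : R) (m : M) :
    ρ (a • m) = a • ρ (R := R) m := by
  apply ModuleCat.hom_ext
  apply LinearMap.ext
  intro r
  change r • a • m = a • r • m
  rw [smul_comm]

theorem ρ_comp {M N : Type u} [AddCommGroup M] [Module R M] [AddCommGroup N] [Module R N]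
    (f : M →ₗ[R] N) (m : M) : ρ m ≫ ModuleCat.ofHom f = ρ (f m) := by
  apply ModuleCat.hom_ext
  apply LinearMap.ext
  intro r
  change f (r • m) = r • f m
  rw [map_smul]

variable (n : ℕ)

/-- the comparison map `H^n_I(R) ⊗ M → H^n_I(M)` -/
noncomputable def τ (M : Type u) [AddCommGroup M] [Module R M] :
    (localCohomology I n).obj (ModuleCat.of R R) ⊗[R] M →ₗ[R]
      (localCohomology I n).obj (ModuleCat.of R M) :=
  TensorProduct.lift
    (LinearMap.mk₂ R (fun z m => Hmap I n (ρ m) z)
      (fun z z' m => map_add _ z z')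
      (fun a z m => map_smul _ a z)
      (fun z m m' => by rw [ρ_add, Hmap_add])
      (fun a z m => by rw [ρ_smul, Hmap_smul]))

theorem τ_tmul (M : Type u) [AddCommGroup M] [Module R M]
    (z : (localCohomology I n).obj (ModuleCat.of R R)) (m : M) :
    τ I n M (z ⊗ₜ m) = Hmap I n (ρ m) z := rfl

theorem τ_naturality {M N : Type u} [AddCommGroup M] [Module R M] [AddCommGroup N] [Module R N]
    (f : M →ₗ[R] N) (x : (localCohomology I n).obj (ModuleCat.of R R) ⊗[R] M) :
    Hmap I n (ModuleCat.ofHom f) (τ I n M x) = τ I n N (LinearMap.lTensor _ f x) := by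
  induction x using TensorProduct.induction_on with
  | zero => simp
  | tmul z m =>
    rw [τ_tmul, LinearMap.lTensor_tmul, τ_tmul, ← Hmap_comp₀, ρ_comp]
  | add x y hx hy => rw [map_add, map_add, hx, hy, map_add, map_add]

/-- the `l`-th coordinate `W ⊗ R^a → W` -/
noncomputable def coord (W : Type u) [AddCommGroup W] [Module R W] (a : ℕ) (l : Fin a) :
    W ⊗[R] (Fin a → R) →ₗ[R] W :=
  (TensorProduct.rid R W).toLinearMap ∘ₗ LinearMap.lTensor W (LinearMap.proj l)

theorem coord_tmul (W : Type u) [AddCommGroup W] [Module R W] (a : ℕ) (l : Fin a) (w : W)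
    (m : Fin a → R) : coord W a l (w ⊗ₜ m) = m l • w := by
  simp [coord]

theorem tensor_decomp (W : Type u) [AddCommGroup W] [Module R W] (a : ℕ)
    (x : W ⊗[R] (Fin a → R)) :
    x = ∑ l : Fin a, (coord W a l x) ⊗ₜ[R] (Pi.single l (1 : R) : Fin a → R) := by
  induction x using TensorProduct.induction_on with
  | zero => simp
  | tmul w m =>
    simp_rw [coord_tmul, TensorProduct.smul_tmul, ← TensorProduct.tmul_sum]
    congr 1
    ext j
    simp [Finset.sum_apply, Pi.single_apply]
  | add x y hx hy =>
    conv_lhs => rw [hx, hy]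
    rw [← Finset.sum_add_distrib]
    refine Finset.sum_congr rfl fun l _ => ?_
    rw [map_add, TensorProduct.add_tmul]

theorem pr_τ (a : ℕ) (l : Fin a)
    (x : (localCohomology I n).obj (ModuleCat.of R R) ⊗[R] (Fin a → R)) :
    Hmap I n (pr R a l) (τ I n (Fin a → R) x) = coord _ a l x := by
  induction x using TensorProduct.induction_on with
  | zero => simp
  | tmul z m =>
    rw [τ_tmul, coord_tmul, ← Hmap_comp₀]
    have : ρ m ≫ pr R a l = (m l) • 𝟙 (ModuleCat.of R R) := by
      apply ModuleCat.hom_ext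
      apply LinearMap.ext
      intro r
      change (r • m) l = m l • r
      simp [mul_comm]
    rw [this, Hmap_smul_id]
  | add x y hx hy => rw [map_add, map_add, hx, hy, map_add]

theorem τ_free_injective (a : ℕ) : Function.Injective (τ I n (Fin a → R)) := by
  rw [injective_iff_map_eq_zero]
  intro x hx
  rw [tensor_decomp _ a x]
  refine Finset.sum_eq_zero fun l _ => ?_
  rw [← pr_τ, hx, map_zero, TensorProduct.zero_tmul]

theorem τ_free_surjective (a : ℕ) : Function.Surjective (τ I n (Fin a → R)) := by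
  intro y
  refine ⟨∑ l : Fin a, (Hmap I n (pr R a l) y) ⊗ₜ[R] (Pi.single l (1 : R) : Fin a → R), ?_⟩
  rw [map_sum]
  conv_rhs => rw [H_decomp I n R a y]
  refine Finset.sum_congr rfl fun l _ => ?_
  rw [τ_tmul]
  have : ρ (Pi.single l (1 : R) : Fin a → R) = inj R a l := by
    apply ModuleCat.hom_ext
    apply LinearMap.ext
    intro r
    change r • (Pi.single l (1 : R) : Fin a → R) = Pi.single l r
    rw [← Pi.single_smul, smul_eq_mul, mul_one]
  rw [this]

section finite

variable [IsNoetherianRing R] {n}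
  (hvan : ∀ X : ModuleCat.{u} R, Subsingleton ((localCohomology I (n + 1)).obj X))

include hvan in
omit [IsNoetherianRing R] in
theorem τ_surjective (M : Type u) [AddCommGroup M] [Module R M] [Module.Finite R M] :
    Function.Surjective (τ I n M) := by
  intro y
  obtain ⟨a, σ, hσ⟩ := Module.Finite.exists_fin' R M
  have hS := LinearMap.shortExact_shortComplexKer hσ
  obtain ⟨y', hy'⟩ : ∃ y', Hmap I n (ModuleCat.ofHom σ) y' = y := by
    have := hvan σ.shortComplexKer.X₁
    exact Hmap_exact₃ I hS n y (Subsingleton.elim _ _)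
  obtain ⟨x', hx'⟩ := τ_free_surjective I n a y'
  refine ⟨LinearMap.lTensor _ σ x', ?_⟩
  rw [← τ_naturality, hx', hy']

include hvan in
theorem τ_injective (M : Type u) [AddCommGroup M] [Module R M] [Module.Finite R M] :
    Function.Injective (τ I n M) := by
  rw [injective_iff_map_eq_zero]
  intro x hx
  obtain ⟨a, σ, hσ⟩ := Module.Finite.exists_fin' R M
  have hS := LinearMap.shortExact_shortComplexKer hσ
  obtain ⟨x', rfl⟩ := LinearMap.lTensor_surjective
    ((localCohomology I n).obj (ModuleCat.of R R)) hσ x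
  rw [← τ_naturality] at hx
  obtain ⟨y'', hy''⟩ := Hmap_exact₂ I hS n (τ I n (Fin a → R) x') hx
  have hfinL : Module.Finite R (LinearMap.ker σ) := inferInstance
  obtain ⟨x'', hx''⟩ := τ_surjective I hvan (LinearMap.ker σ) y''
  have h1 : τ I n (Fin a → R) (LinearMap.lTensor _ (LinearMap.ker σ).subtype x'') =
      τ I n (Fin a → R) x' := by
    rw [← τ_naturality, hx'']
    exact hy''
  rw [← τ_free_injective I n a h1, ← LinearMap.comp_apply, ← LinearMap.lTensor_comp]
  have : σ ∘ₗ (LinearMap.ker σ).subtype = 0 := by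
    apply LinearMap.ext
    intro z
    exact z.2
  rw [this, LinearMap.lTensor_zero, LinearMap.zero_apply]

end finite

/-- `H^n_I(R) ⊗ M ≃ H^n_I(M)` for finite `M`, when `H^{n+1}_I` vanishes identically -/
noncomputable def τEquiv [IsNoetherianRing R] {n : ℕ}
    (hvan : ∀ X : ModuleCat.{u} R, Subsingleton ((localCohomology I (n + 1)).obj X))
    (M : Type u) [AddCommGroup M] [Module R M] [Module.Finite R M] :
    (localCohomology I n).obj (ModuleCat.of R R) ⊗[R] M ≃ₗ[R]
      (localCohomology I n).obj (ModuleCat.of R M) :=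
  LinearEquiv.ofBijective (τ I n M) ⟨τ_injective I hvan M, τ_surjective I hvan M⟩

end Groth.Agent.Lib.Helper16.LT
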