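import Groth.Agent.Lib.Helper16.LocalDualityK
import Groth.Agent.Lib.Helper16.TopLCTensor
import Groth.Agent.Lib.Helper16.LocCohDepth

/-!
# Duality with a canonical module (helper16)

`R` a Noetherian local ring of dimension `n`, `E` an injective `R`-module, `K` a finite `R`-module
with an isomorphism `eK : Hom_R(K, E) ≃ H^n_m(R)`.  We construct the trace `t : H^n_m(K) → E` and
prove:

* `top_equiv` : `H^n_m(M) ≃ Hom(Hom(M, K), E)` for finite `M`;
* `duality` : if `H^i_m(R) = 0` for `i < n` (e.g. `R` Cohen–Macaulay) then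
  `H^i_m(M) ≃ Hom(Ext^j(M, K), E)` for `i + j = n` and finite `M`;
* `dual_ext_succ` : under the same hypothesis every linear map `Ext^{n+1}(M, K) → E` vanishes.
-/

set_option autoImplicit false
universe u
open CategoryTheory Abelian IsLocalRing TensorProduct

namespace Groth.Agent.Lib.Helper16.Canon

open Groth.Agent.Lib.Helper16.LC Groth.Agent.Lib.Helper16.LD Groth.Agent.Lib.Helper16.LDK
open Groth.Agent.Lib.Helper16.LT

variable {R : Type u} [CommRing R] [IsNoetherianRing R] [IsLocalRing R] {n : ℕ}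

/-- Grothendieck vanishing above the dimension -/
theorem hvan (hn : ringKrullDim R = n) (X : ModuleCat.{u} R) :
    Subsingleton ((localCohomology (maximalIdeal R) (n + 1)).obj X) := by
  refine subsingleton_H_of_supportDim_lt (maximalIdeal R) X (n + 1) ?_ (n + 1) le_rfl
  refine lt_of_le_of_lt (Module.supportDim_le_ringKrullDim R X) ?_
  rw [hn]
  exact_mod_cast Nat.lt_succ_self n

variable (hn : ringKrullDim R = n) {E : Type u} [AddCommGroup E] [Module R E]
  {K : Type u} [AddCommGroup K] [Module R K] [Module.Finite R K]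
  (eK : (K →ₗ[R] E) ≃ₗ[R] LocCoh.H (maximalIdeal R) n R)

/-- the trace map `H^n_m(K) → E` -/
noncomputable def trace : (localCohomology (maximalIdeal R) n).obj (ModuleCat.of R K) →ₗ[R] E :=
  (TensorProduct.lift eK.symm.toLinearMap) ∘ₗ
    (τEquiv (maximalIdeal R) (hvan hn) K).symm.toLinearMap

theorem trace_τ (x : LocCoh.H (maximalIdeal R) n R ⊗[R] K) :
    trace hn eK (τ (maximalIdeal R) n K x) = TensorProduct.lift eK.symm.toLinearMap x := by
  change TensorProduct.lift eK.symm.toLinearMap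
    ((τEquiv (maximalIdeal R) (hvan hn) K).symm ((τEquiv (maximalIdeal R) (hvan hn) K) x)) = _
  rw [LinearEquiv.symm_apply_apply]

theorem trace_Hmap_ρ (z : LocCoh.H (maximalIdeal R) n R) (k : K) :
    trace hn eK (Hmap (maximalIdeal R) n (ρ k) z) = eK.symm z k := by
  rw [← τ_tmul, trace_τ]
  rfl

/-- `Ext^0(R, K) ≃ K` -/
noncomputable def ext0Equiv : Ext.{u} (ModuleCat.of R R) (ModuleCat.of R K) 0 ≃ₗ[R] K :=
  let e1 : Ext.{u} (ModuleCat.of R R) (ModuleCat.of R K) 0 ≃ₗ[R]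
      (ModuleCat.of R R ⟶ ModuleCat.of R K) := Ext.linearEquiv₀
  let e2 : (ModuleCat.of R R ⟶ ModuleCat.of R K) ≃ₗ[R] (R →ₗ[R] K) := ModuleCat.homLinearEquiv
  let e3 : (R →ₗ[R] K) ≃ₗ[R] K := LinearMap.ringLmapEquivSelf R R K
  (e1.trans e2).trans e3

omit [IsNoetherianRing R] [IsLocalRing R] [Module.Finite R K] in
theorem ext0Equiv_mk₀ (ψ : ModuleCat.of R R ⟶ ModuleCat.of R K) :
    ext0Equiv (Ext.mk₀ ψ) = ψ.hom 1 := by
  have h : Ext.linearEquiv₀ (R := R) (Ext.mk₀ ψ) = ψ :=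
    (Ext.mk₀_bijective _ _).1 (Ext.mk₀_linearEquiv₀_apply (Ext.mk₀ ψ))
  change (LinearMap.ringLmapEquivSelf R R K)
    (ModuleCat.homLinearEquiv (S := R) (Ext.linearEquiv₀ (R := R) (Ext.mk₀ ψ))) = _
  rw [h]
  rfl

theorem Θ_R_eq (z : LocCoh.H (maximalIdeal R) n R) :
    Θ (maximalIdeal R) (ModuleCat.of R K) (trace hn eK) (add_zero n) (ModuleCat.of R R) z =
      (eK.symm z) ∘ₗ (ext0Equiv (K := K)).toLinearMap := by
  apply LinearMap.ext
  intro e
  obtain ⟨ψ, rfl⟩ := (Ext.mk₀_bijective _ _).2 e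
  rw [Θ_mk₀]
  have hψ : ψ = ρ (ψ.hom 1) := by
    apply ModuleCat.hom_ext
    apply LinearMap.ext
    intro r
    change ψ.hom r = r • ψ.hom 1
    rw [← map_smul, smul_eq_mul, mul_one]
  conv_lhs => rw [hψ]
  rw [trace_Hmap_ρ]
  change eK.symm z (ψ.hom 1) = eK.symm z (ext0Equiv (Ext.mk₀ ψ))
  rw [ext0Equiv_mk₀]

theorem bijective_Θ_R :
    Function.Bijective (Θ (maximalIdeal R) (ModuleCat.of R K) (trace hn eK) (add_zero n)
      (ModuleCat.of R R)) := by
  have : ⇑(Θ (maximalIdeal R) (ModuleCat.of R K) (trace hn eK) (add_zero n) (ModuleCat.of R R)) =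
      ⇑((eK.symm).trans (LinearEquiv.congrLeft E R (ext0Equiv (K := K)).symm)) := by
    funext z
    rw [Θ_R_eq]
    rfl
  rw [this]
  exact LinearEquiv.bijective _

variable (hE : Module.Injective R E)

include hn eK hE in
/-- `H^n_m(M) ≃ Hom(Hom(M, K), E)` for finite `M` -/
theorem top_equiv (M : Type u) [AddCommGroup M] [Module R M] [Module.Finite R M] :
    Nonempty (LocCoh.H (maximalIdeal R) n M ≃ₗ[R] ((M →ₗ[R] K) →ₗ[R] E)) := by
  have hb : Function.Bijective (Θ (maximalIdeal R) (ModuleCat.of R K) (trace hn eK) (add_zero n)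
      (ModuleCat.of R M)) :=
    ⟨Θ_zero_injective _ _ _ (hvan hn) hE (bijective_Θ_R hn eK) M,
      Θ_zero_surjective _ _ _ hE (bijective_Θ_R hn eK) M⟩
  have e0 : Ext.{u} (ModuleCat.of R M) (ModuleCat.of R K) 0 ≃ₗ[R] (M →ₗ[R] K) :=
    Ext.linearEquiv₀.trans ModuleCat.homLinearEquiv
  exact ⟨(LinearEquiv.ofBijective _ hb).trans (LinearEquiv.congrLeft E R e0)⟩

variable (hlow : ∀ i < n, Subsingleton (LocCoh.H (maximalIdeal R) i R))

include hn eK hE hlow in
/-- local duality with a canonical module -/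
theorem duality (M : Type u) [AddCommGroup M] [Module R M] [Module.Finite R M] (i j : ℕ)
    (h : i + j = n) :
    Nonempty (LocCoh.H (maximalIdeal R) i M ≃ₗ[R]
      (Ext.{u} (ModuleCat.of R M) (ModuleCat.of R K) j →ₗ[R] E)) :=
  ⟨LinearEquiv.ofBijective _
    (bijective_Θ _ _ _ (hvan hn) hE hlow (bijective_Θ_R hn eK) j i h M)⟩

include hn eK hE hlow in
theorem dual_ext_succ (M : Type u) [AddCommGroup M] [Module R M] [Module.Finite R M]
    (ψ : Ext.{u} (ModuleCat.of R M) (ModuleCat.of R K) (n + 1) →ₗ[R] E) : ψ = 0 :=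
  dual_ext_succ_eq_zero _ _ _ (hvan hn) hE hlow (bijective_Θ_R hn eK) M ψ

end Groth.Agent.Lib.Helper16.Canon
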