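import Groth.Agent.Lib.Helper16.CanonicalAss
import Groth.Agent.Lib.Helper16.ExtRegularQuot
import Groth.Agent.Lib.Helper18.CM4

/-!
# Canonical modules and regular sequences (helper16)

`R` CM local of dimension `n`, `E` an injective hull of the residue field, `K` finite with
`Hom(K, E) ≃ H^n_m(R)`.

* `support_K` : `Supp K = Spec R`.
* `isWeaklyRegular_iff`, `isRegular_iff` : a sequence in the maximal ideal is `R`-regular iff it is
  `K`-regular.
* `quot_canonical` : `Hom(K/IK, E) ≃ H^{n-j}_m(R/I)` for `I` generated by a regular sequence of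
  length `j`.
-/

set_option autoImplicit false
universe u
open CategoryTheory Abelian IsLocalRing TensorProduct Opposite RingTheory.Sequence

namespace Groth.Agent.Lib.Helper16.Canon

open Groth.Agent.Lib.Helper16.LC Groth.Agent.Lib.Helper16.Depth

variable {R : Type u} [CommRing R] [LocCoh.IsCohenMacaulayLocalRing R] {n : ℕ}
  (hn : ringKrullDim R = n) {E : Type u} [AddCommGroup E] [Module R E]
  (f : ResidueField R →ₗ[R] E) (hf : InjHull.IsInjectiveHull f)
  {K : Type u} [AddCommGroup K] [Module R K] [Module.Finite R K]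
  (eK : (K →ₗ[R] E) ≃ₗ[R] LocCoh.H (maximalIdeal R) n R)

include hn f hf eK in
/-- a canonical module of a CM local ring has full support -/
theorem support_K : Module.support R K = Set.univ := by
  rw [Set.eq_univ_iff_forall]
  intro q
  obtain ⟨p, hp, hpq⟩ := Ideal.exists_minimalPrimes_le (I := (⊥ : Ideal R)) (J := q.asIdeal) bot_le
  have hann : Module.annihilator R R = ⊥ := by
    rw [eq_bot_iff]
    intro r hr
    have := Module.mem_annihilator.mp hr 1
    rw [smul_eq_mul, mul_one] at this
    exact this
  have hpA : p ∈ associatedPrimes R R := by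
    apply Module.associatedPrimes.minimalPrimes_annihilator_subset_associatedPrimes R R
    rw [hann]
    exact hp
  have hdim : ringKrullDim (R ⧸ p) = n := by
    rw [Groth.Agent.Lib.Helper18.CM.ringKrullDim_quotient_eq_supportDim_of_isCohenMacaulayModule R
      LocCoh.IsCohenMacaulayLocalRing.supportDim_eq_depth p hpA,
      Module.supportDim_self_eq_ringKrullDim, hn]
  have hpK : p ∈ associatedPrimes R K :=
    (mem_associatedPrimes_iff hn f hf eK p).mpr ⟨hp.1.1, hdim⟩
  rw [Module.mem_support_iff_of_finite]
  exact le_trans (Groth.Agent.Lib.Helper18.CM.annihilator_le_of_mem_associatedPrimes K hpK) hpq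

include hn f hf eK in
theorem supportDim_quot_K_eq (I : Ideal R) :
    Module.supportDim R (K ⧸ (I • ⊤ : Submodule R K)) =
      Module.supportDim R (R ⧸ (I • ⊤ : Submodule R R)) := by
  unfold Module.supportDim
  have hR : Module.support R R = Set.univ := by
    rw [Module.support_eq_zeroLocus]
    have hann : Module.annihilator R R = ⊥ := by
      rw [eq_bot_iff]
      intro r hr
      have := Module.mem_annihilator.mp hr 1
      rw [smul_eq_mul, mul_one] at this
      exact this
    rw [hann]
    simp
  rw [Module.support_quotient, Module.support_quotient, support_K hn f hf eK, hR]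

include hn f hf eK in
theorem isWeaklyRegular_iff (xs : List R) (hxs : ∀ x ∈ xs, x ∈ maximalIdeal R) :
    IsWeaklyRegular R xs ↔ IsWeaklyRegular K xs := by
  have h1 := (Groth.Agent.Lib.Helper18.CM.isWeaklyRegular_iff_supportDim_and_isCohenMacaulayModule
    xs hxs R LocCoh.IsCohenMacaulayLocalRing.supportDim_eq_depth).1
  have h2 := (Groth.Agent.Lib.Helper18.CM.isWeaklyRegular_iff_supportDim_and_isCohenMacaulayModule
    xs hxs K (isCohenMacaulayModule_K hn f hf eK)).1
  rw [h1, h2, supportDim_quot_K_eq hn f hf eK, supportDim_K hn f hf eK,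
    Module.supportDim_self_eq_ringKrullDim, hn]

include hn f hf eK in
theorem isRegular_iff (xs : List R) (hxs : ∀ x ∈ xs, x ∈ maximalIdeal R) :
    IsRegular R xs ↔ IsRegular K xs := by
  have := nontrivial_K hn eK
  rw [IsLocalRing.isRegular_iff_isWeaklyRegular_of_subset_maximalIdeal hxs,
    IsLocalRing.isRegular_iff_isWeaklyRegular_of_subset_maximalIdeal hxs]
  exact isWeaklyRegular_iff hn f hf eK xs hxs

include hn f hf eK in
theorem quot_canonical (xs : List R) (hxs : ∀ x ∈ xs, x ∈ maximalIdeal R)
    (hreg : IsRegular R xs) :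
    Nonempty (((K ⧸ (Ideal.ofList xs • (⊤ : Submodule R K))) →ₗ[R] E) ≃ₗ[R]
      LocCoh.H (maximalIdeal R) (n - xs.length) (R ⧸ Ideal.ofList xs)) := by
  have hle : xs.length ≤ n := by
    have h1 : ((xs.length : ℕ) : ℕ∞) ≤ LocCoh.idealDepth (maximalIdeal R) R :=
      (le_idealDepth_iff (maximalIdeal R) R xs.length).mpr
        (Or.inr ⟨xs, rfl, hreg.toIsWeaklyRegular, hxs⟩)
    have h2 : LocCoh.idealDepth (maximalIdeal R) R = n := depth_eq_of_CM hn
    rw [h2] at h1
    exact_mod_cast h1
  obtain ⟨e⟩ := duality hn eK hf.isInjective (hlow_of_CM hn) (R ⧸ Ideal.ofList xs)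
    (n - xs.length) xs.length (by omega)
  obtain ⟨-, ⟨e2⟩⟩ := Groth.Agent.Lib.Helper16.ExtRegQuot.ext_quot_regular xs
    hreg.toIsWeaklyRegular K
  exact ⟨(e.trans (LinearEquiv.congrLeft E R e2)).symm⟩

end Groth.Agent.Lib.Helper16.Canon
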