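import Groth.Agent.Lib.Helper16.CanonicalIdeal
import Groth.Agent.Lib.Helper16.CanonicalGorenstein
import Mathlib.RingTheory.UniqueFactorizationDomain.Ideal

/-!
# Canonical modules over Cohen–Macaulay local domains and UFDs (helper16)

* `torsionFree_K`, `exists_equiv_ideal` : the canonical module of a CM local domain is torsion-free
  and isomorphic to an ideal.
* `nonempty_equiv_self_of_ufd` : over a CM local UFD the canonical module is free of rank one
  (Murthy).
-/

set_option autoImplicit false
universe u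
open CategoryTheory Abelian IsLocalRing

namespace Groth.Agent.Lib.Helper16.CanIdeal

open Groth.Agent.Lib.Helper16.LC Groth.Agent.Lib.Helper16.Depth Groth.Agent.Lib.Helper16.Canon

section ufd

variable {R : Type u} [CommRing R] [LocCoh.IsCohenMacaulayLocalRing R] [IsDomain R] {n : ℕ}
  (hn : ringKrullDim R = n) {E : Type u} [AddCommGroup E] [Module R E]
  (f : ResidueField R →ₗ[R] E) (hf : InjHull.IsInjectiveHull f)
  {K : Type u} [AddCommGroup K] [Module R K] [Module.Finite R K]
  (eK : (K →ₗ[R] E) ≃ₗ[R] LocCoh.H (maximalIdeal R) n R)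

include hn f hf eK in
/-- the canonical module of a Cohen–Macaulay local domain is torsion-free -/
theorem torsionFree_K (a : R) (x : K) (ha : a ≠ 0) (hax : a • x = 0) : x = 0 := by
  by_cases hu : IsUnit a
  · exact (hu.smul_eq_zero).mp hax
  · have ham : a ∈ maximalIdeal R := hu
    have hreg : IsSMulRegular R a := (IsRegular.of_ne_zero ha).left.isSMulRegular
    have := isSMulRegular_K hn f hf eK a ham hreg
    exact this (by show a • x = a • 0; rw [hax, smul_zero])

include hn f hf eK in
/-- the canonical module of a Cohen–Macaulay local domain is isomorphic to an ideal -/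
theorem exists_equiv_ideal : ∃ I : Ideal R, Nonempty (K ≃ₗ[R] I) := by
  have hntK := nontrivial_K hn eK
  have htf := torsionFree_K hn f hf eK
  have hend : ∀ g : K →ₗ[R] K, ∃ a : R, ∀ x, g x = a • x := by
    intro g
    obtain ⟨a, ha⟩ := (bijective_homothety hn f hf eK).2 g
    exact ⟨a, fun x => by rw [← ha]; rfl⟩
  obtain ⟨x₀, hx₀⟩ := exists_ne (0 : K)
  obtain ⟨φ, hφ⟩ := exists_functional_ne_zero htf hx₀
  have hφinj := injective_of_end_eq_smul htf hend φ hφ
  exact ⟨LinearMap.range φ, ⟨LinearEquiv.ofInjective φ hφinj⟩⟩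

include hn f hf eK in
/-- over a Cohen–Macaulay local unique factorization domain the canonical module is free of rank
one -/
theorem nonempty_equiv_self_of_ufd [UniqueFactorizationMonoid R] : Nonempty (K ≃ₗ[R] R) := by
  classical
  have hntK := nontrivial_K hn eK
  obtain ⟨I, ⟨e⟩⟩ := exists_equiv_ideal hn f hf eK
  have hI0 : I ≠ ⊥ := by
    obtain ⟨x, hx⟩ := exists_ne (0 : K)
    intro hI
    apply hx
    apply e.injective
    rw [map_zero]
    apply Subtype.ext
    have h2 : ((e x : I) : R) ∈ (⊥ : Ideal R) := hI ▸ (e x).2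
    exact h2
  -- a maximal ideal `I'` with `I = a I'`
  let S : Set (Ideal R) := {I' | ∃ a : R, a ≠ 0 ∧ I = Ideal.span {a} * I'}
  have hS : S.Nonempty := ⟨I, 1, one_ne_zero, by rw [Ideal.span_singleton_one, Ideal.top_mul]⟩
  obtain ⟨I', hI'S, hmax⟩ := set_has_maximal_iff_noetherian.mpr
    (inferInstance : IsNoetherian R R) S hS
  obtain ⟨a, ha, hIa⟩ := hI'S
  have hI'0 : I' ≠ ⊥ := by
    rintro rfl
    rw [Ideal.mul_bot] at hIa
    exact hI0 hIa
  -- `I' ≃ I`
  have hmem : ∀ y : I', a * (y : R) ∈ I := by
    intro y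
    rw [hIa]
    exact Ideal.mul_mem_mul (Ideal.mem_span_singleton_self a) y.2
  let μ : I' →ₗ[R] I :=
    { toFun := fun y => ⟨a * (y : R), hmem y⟩
      map_add' := fun y z => Subtype.ext (by simp [mul_add])
      map_smul' := fun r y => Subtype.ext (by simp [mul_left_comm]) }
  have hμinj : Function.Injective μ := by
    intro y z hyz
    have h1 : a * (y : R) = a * (z : R) := congrArg Subtype.val hyz
    exact Subtype.ext (mul_left_cancel₀ ha h1)
  have hμsurj : Function.Surjective μ := by
    rintro ⟨x, hx⟩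
    rw [hIa, Ideal.mem_span_singleton_mul] at hx
    obtain ⟨z, hz, rfl⟩ := hx
    exact ⟨⟨z, hz⟩, rfl⟩
  let e' : K ≃ₗ[R] I' := e.trans (LinearEquiv.ofBijective μ ⟨hμinj, hμsurj⟩).symm
  -- `I'` is in no principal prime ideal
  have hprime : ∀ π : R, Prime π → ¬ I' ≤ Ideal.span {π} := by
    intro π hπ hle
    let I'' : Ideal R := I'.colon ({π} : Set R)
    have h1 : I' = Ideal.span {π} * I'' := by
      apply le_antisymm
      · intro y hy
        obtain ⟨z, rfl⟩ := Ideal.mem_span_singleton.mp (hle hy)
        rw [Ideal.mem_span_singleton_mul]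
        refine ⟨z, ?_, rfl⟩
        rw [Submodule.mem_colon_singleton]
        rwa [smul_eq_mul, mul_comm]
      · rw [Ideal.span_singleton_mul_le_iff]
        intro z hz
        rw [Submodule.mem_colon_singleton, smul_eq_mul, mul_comm] at hz
        exact hz
    have h2 : I'' ∈ S := by
      refine ⟨a * π, mul_ne_zero ha hπ.ne_zero, ?_⟩
      rw [hIa, h1, ← mul_assoc, Ideal.span_singleton_mul_span_singleton]
    have h3 : I' ≤ I'' := by
      intro y hy
      rw [Submodule.mem_colon_singleton, smul_eq_mul, mul_comm]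
      exact Ideal.mul_mem_left I' π hy
    have h4 : I'' = I' := by
      by_contra hne
      exact hmax I'' h2 (lt_of_le_of_ne h3 (Ne.symm hne))
    rw [h4] at h1
    -- Nakayama
    have hπm : π ∈ maximalIdeal R := hπ.not_isUnit
    have h5 : I' ≤ maximalIdeal R • I' := by
      rw [smul_eq_mul]
      conv_lhs => rw [h1]
      exact Ideal.mul_mono_left ((Ideal.span_singleton_le_iff_mem _).mpr hπm)
    have h6 := Submodule.eq_bot_of_le_smul_of_le_jacobson_bot (maximalIdeal R) I'
      (IsNoetherian.noetherian I') h5 (IsLocalRing.maximalIdeal_le_jacobson _)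
    exact hI'0 h6
  by_cases htop : I' = ⊤
  · exact ⟨e'.trans ((LinearEquiv.ofTop I' htop))⟩
  · exfalso
    have hnt : Nontrivial (R ⧸ I') := Ideal.Quotient.nontrivial_iff.mpr htop
    obtain ⟨q, hq⟩ := associatedPrimes.nonempty R (R ⧸ I')
    have hht := height_eq_one_of_mem_associatedPrimes hn f hf eK I' e' q hq
    have hqp : q.IsPrime := hq.isPrime
    have hI'q : I' ≤ q := by
      obtain ⟨-, g, hg⟩ := (isAssociatedPrime_iff_exists_injective_linearMap q (R ⧸ I')).mp hq
      intro a' ha'
      have h1 : g (Ideal.Quotient.mk q a') = 0 := by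
        have : Ideal.Quotient.mk q a' = a' • (1 : R ⧸ q) := by
          rw [Algebra.smul_def, mul_one]; rfl
        rw [this, map_smul]
        obtain ⟨y, hy⟩ := Ideal.Quotient.mk_surjective (g 1)
        rw [← hy]
        show a' • (Ideal.Quotient.mk I' y) = 0
        rw [Algebra.smul_def]
        show Ideal.Quotient.mk I' a' * Ideal.Quotient.mk I' y = 0
        rw [Ideal.Quotient.eq_zero_iff_mem.mpr ha', zero_mul]
      have h2 : Ideal.Quotient.mk q a' = 0 := hg (by rw [h1, map_zero])
      exact Ideal.Quotient.eq_zero_iff_mem.mp h2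
    have hq0 : q ≠ ⊥ := fun h => hI'0 (le_bot_iff.mp (h ▸ hI'q))
    obtain ⟨π, hπq, hπ⟩ := hqp.exists_mem_prime_of_ne_bot hq0
    have hπprime : (Ideal.span {π}).IsPrime := (Ideal.span_singleton_prime hπ.ne_zero).mpr hπ
    have hle : Ideal.span {π} ≤ q := (Ideal.span_singleton_le_iff_mem _).mpr hπq
    have heq : Ideal.span {π} = q := by
      by_contra hne
      have hlt : Ideal.span {π} < q := lt_of_le_of_ne hle hne
      have h1 := Ideal.height_strict_mono_of_isPrime_of_isPrime hlt
      rw [hht] at h1
      have h2 : (Ideal.span {π}).height = 0 := by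
        exact Order.lt_one_iff.mp h1
      rw [Ideal.height_eq_zero_iff_eq_bot] at h2
      exact hπ.ne_zero (Ideal.span_singleton_eq_bot.mp h2)
    exact hprime π hπ (heq ▸ hI'q)

end ufd

end Groth.Agent.Lib.Helper16.CanIdeal
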