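import Groth.Agent.Lib.Helper16.LocCohTopCech
import Groth.Agent.Lib.Helper16.LocCohCompareIso
import Groth.Agent.Lib.Helper16.GorensteinTopLC

/-!
# Exact top presentations (Cech description of top local cohomology of R) (helper16)
-/

set_option autoImplicit false
universe u

namespace Groth.Agent.Lib.Helper16.CechHull

open Groth.Agent.Lib.Helper16.LC

variable {R : Type u} [CommRing R]

/-- exactness of a top presentation of `R`: the kernel of `π t` is the expected one. -/
def IsExact {l : List R} {T : Type u} [AddCommGroup T] [Module R T] (P : TopPres l R T) : Prop :=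
  ∀ (t : ℕ) (m : R), P.π t m = 0 →
    ∃ s : ℕ, l.prod ^ s * m ∈ Ideal.ofList (l.map (· ^ (t + s)))

theorem nil_isExact : IsExact (TopPres.nil (R := R) R) := by
  intro t m h
  refine ⟨0, ?_⟩
  have : m = 0 := h
  rw [this, mul_zero]
  exact Submodule.zero_mem _

theorem congr_isExact {l : List R} {T T' : Type u} [AddCommGroup T] [Module R T]
    [AddCommGroup T'] [Module R T'] (P : TopPres l R T) (e : T ≃ₗ[R] T') (hP : IsExact P) :
    IsExact (P.congr e) := by
  intro t m h
  apply hP t m
  have : e (P.π t m) = 0 := h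
  exact e.map_eq_zero_iff.1 this

theorem prod_pow_mul_mem (l : List R) (s K : ℕ) (A : R)
    (hA : A ∈ Ideal.ofList (l.map (· ^ K))) :
    l.prod ^ s * A ∈ Ideal.ofList (l.map (· ^ (K + s))) := by
  induction hA using Submodule.span_induction with
  | mem r hr =>
    obtain ⟨c, hc, rfl⟩ := List.mem_map.mp hr
    obtain ⟨d, hd⟩ := List.dvd_prod hc
    have : l.prod ^ s * c ^ K = d ^ s * c ^ (K + s) := by
      rw [hd]; ring
    rw [this]
    exact Ideal.mul_mem_left _ _ (Ideal.subset_span (List.mem_map.mpr ⟨c, hc, rfl⟩))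
  | zero => rw [mul_zero]; exact Submodule.zero_mem _
  | add x y _ _ hx hy => rw [mul_add]; exact Submodule.add_mem _ hx hy
  | smul a x _ hx =>
    rw [smul_eq_mul, mul_left_comm]
    exact Ideal.mul_mem_left _ _ hx

theorem cons_isExact {l : List R} {T : Type u} [AddCommGroup T] [Module R T]
    (P : TopPres l R T) (hP : IsExact P) (b : R) : IsExact (P.cons b) := by
  intro t m h
  have h1 : TopPres.fracMap b t T (P.π t m) ∈
      LinearMap.range (LocalizedModule.mkLinearMap (Submonoid.powers b) T) := by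
    have : (Submodule.mkQ _) (TopPres.fracMap b t T (P.π t m)) = 0 := h
    rwa [Submodule.mkQ_apply, Submodule.Quotient.mk_eq_zero] at this
  obtain ⟨u, hu⟩ := h1
  rw [LocalizedModule.mkLinearMap_apply, TopPres.fracMap_apply, LocalizedModule.mk_eq] at hu
  obtain ⟨⟨_, ⟨s, rfl⟩⟩, hc⟩ := hu
  simp only [Submonoid.smul_def, one_smul] at hc
  -- hc : b^s • b^t • u = b^s • π t m
  obtain ⟨t', m', rfl⟩ := P.π_surj u
  have e1 : P.π t m = P.π (t + t') (l.prod ^ t' • m) := (P.π_add t t' m).symm
  have e2 : P.π t' m' = P.π (t + t') (l.prod ^ t • m') := by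
    rw [add_comm t t']; exact (P.π_add t' t m').symm
  have h0 : P.π (t + t') (b ^ s * (l.prod ^ t' * m) - b ^ s * (b ^ t * (l.prod ^ t * m'))) = 0 := by
    rw [map_sub, sub_eq_zero]
    have a1 : P.π (t + t') (b ^ s * (l.prod ^ t' * m)) = b ^ s • P.π t m := by
      rw [e1, ← map_smul]; rfl
    have a2 : P.π (t + t') (b ^ s * (b ^ t * (l.prod ^ t * m'))) = b ^ s • b ^ t • P.π t' m' := by
      rw [e2, ← map_smul, ← map_smul]; rfl
    rw [a1, a2]
    exact hc.symm
  obtain ⟨s₂, hs₂⟩ := hP (t + t') _ h0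
  refine ⟨s + (s₂ + t'), ?_⟩
  rw [List.map_cons, Ideal.ofList_cons, List.prod_cons]
  have hA := prod_pow_mul_mem l s (t + t' + s₂) _ hs₂
  have key : (b * l.prod) ^ (s + (s₂ + t')) * m =
      b ^ (t + (s + (s₂ + t'))) * (l.prod ^ (s + s₂ + t) * m') +
      b ^ (s₂ + t') * (l.prod ^ s * (l.prod ^ s₂ *
        (b ^ s * (l.prod ^ t' * m) - b ^ s * (b ^ t * (l.prod ^ t * m'))))) := by
    ring
  rw [key]
  refine Submodule.add_mem _ (Submodule.mem_sup_left ?_) (Submodule.mem_sup_right ?_)
  · exact Ideal.mul_mem_right _ _ (Ideal.subset_span rfl)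
  · have : t + (s + (s₂ + t')) = t + t' + s₂ + s := by omega
    rw [this]
    exact Ideal.mul_mem_left _ _ hA

variable [IsNoetherianRing R]

theorem exists_topPres_exact (l : List R) :
    ∃ P : TopPres l R (LocCoh.H (Ideal.ofList l) l.length R), IsExact P := by
  induction l with
  | nil =>
    obtain ⟨e⟩ := nonempty_H_bot_zero_equiv (R := R) R
    rw [Ideal.ofList_nil]
    exact ⟨(TopPres.nil R).congr e, congr_isExact _ _ nil_isExact⟩
  | cons b l ih =>
    obtain ⟨P, hP⟩ := ih
    rw [Ideal.ofList_cons, sup_comm, List.length_cons]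
    obtain ⟨e1⟩ := x_coker_ker (Ideal.ofList l) b l.length R
    obtain ⟨e2⟩ := nonempty_coker_xβ_equiv (Ideal.ofList l) b l.length R
    have hsub : Subsingleton (LocCoh.H (Ideal.ofList l) (l.length + 1) R) :=
      cdLE_ofList l R (l.length + 1) (Nat.lt_succ_self _)
    have hker : LinearMap.ker (xα (Ideal.ofList l) b (l.length + 1) R) = ⊤ := by
      rw [eq_top_iff]
      intro z _
      exact hsub.elim _ _
    exact ⟨(P.cons b).congr (e2.symm.trans (e1.trans
      ((LinearEquiv.ofEq _ _ hker).trans Submodule.topEquiv))),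
      congr_isExact _ _ (cons_isExact P hP b)⟩

end Groth.Agent.Lib.Helper16.CechHull
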