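import Groth.Agent.Lib.Helper16.CechHull1

/-!
# From an exact top presentation to R_t / sum R_{t/x_i}; transport of injective hulls (helper16)
-/

set_option autoImplicit false
universe u

namespace Groth.Agent.Lib.Helper16.CechHull

open Groth.Agent.Lib.Helper16.LC

variable {R : Type u} [CommRing R]

section map

variable {l : List R} {T : Type u} [AddCommGroup T] [Module R T] (P : TopPres l R T)

theorem π_congr_pow (n n' : ℕ) (h : l.prod ^ n = l.prod ^ n') (a : R) : P.π n a = P.π n' a := by
  rw [← P.π_add n n' a, ← P.π_add n' n a, add_comm n' n, h]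

/-- exponent of an element of `powers t`. -/
noncomputable def expo (t : R) (s : Submonoid.powers t) : ℕ := Classical.choose s.2

theorem expo_spec (t : R) (s : Submonoid.powers t) : t ^ expo t s = (s : R) :=
  Classical.choose_spec s.2

/-- `a / x^n ↦ π n a`. -/
noncomputable def gFun (z : Localization.Away l.prod) : T :=
  Localization.liftOn z (fun a s => P.π (expo _ s) a) (by
    intro a c b d h
    rw [Localization.r_iff_exists] at h
    obtain ⟨u, hu⟩ := h
    simp only at hu
    have e : expo _ b + (expo _ d + expo _ u) = expo _ d + (expo _ b + expo _ u) := by omega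
    rw [← P.π_add (expo _ b) (expo _ d + expo _ u) a, ← P.π_add (expo _ d) (expo _ b + expo _ u) c, e]
    congr 1
    simp only [smul_eq_mul, pow_add, expo_spec]
    linear_combination hu)

theorem gFun_mk' (a : R) (s : Submonoid.powers l.prod) (N : ℕ) (hs : l.prod ^ N = (s : R)) :
    gFun P (Localization.mk a s) = P.π N a := by
  rw [gFun, Localization.liftOn_mk]
  exact π_congr_pow P _ _ ((expo_spec _ s).trans hs.symm) a

theorem gFun_mk (a : R) (n : ℕ) :
    gFun P (Localization.mk a ⟨l.prod ^ n, n, rfl⟩) = P.π n a :=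
  gFun_mk' P a _ n rfl

/-- the linear map `R_x → T`. -/
noncomputable def gLin : Localization.Away l.prod →ₗ[R] T where
  toFun := gFun P
  map_add' z w := by
    induction z using Localization.induction_on with
    | H p =>
    induction w using Localization.induction_on with
    | H q =>
    obtain ⟨a, ⟨_, n, rfl⟩⟩ := p
    obtain ⟨c, ⟨_, k, rfl⟩⟩ := q
    rw [Localization.add_mk, gFun_mk, gFun_mk,
      gFun_mk' P _ _ (n + k) (by rw [Submonoid.coe_mul, pow_add])]
    have h1 := P.π_add n k a
    have h2 := P.π_add k n c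
    rw [add_comm k n] at h2
    simp only [smul_eq_mul] at h1 h2
    rw [map_add, h1, h2, add_comm]
  map_smul' r z := by
    induction z using Localization.induction_on with
    | H p =>
    obtain ⟨a, ⟨_, n, rfl⟩⟩ := p
    rw [Localization.smul_mk, gFun_mk, gFun_mk, map_smul, RingHom.id_apply]

theorem gLin_mk (a : R) (n : ℕ) :
    gLin P (Localization.mk a ⟨l.prod ^ n, n, rfl⟩) = P.π n a := gFun_mk P a n

end map

theorem mk_eq (X a : R) (n : ℕ) :
    Localization.mk a (⟨X ^ n, n, rfl⟩ : Submonoid.powers X) =
      algebraMap R (Localization.Away X) a * IsLocalization.Away.invSelf X ^ n := by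
  rw [Localization.mk_eq_mk', IsLocalization.mk'_eq_iff_eq_mul]
  change algebraMap R (Localization.Away X) a = _ * algebraMap R (Localization.Away X) (X ^ n)
  rw [map_pow, mul_assoc, ← mul_pow, mul_comm (IsLocalization.Away.invSelf X),
    IsLocalization.Away.mul_invSelf, one_pow, mul_one]

/-- the relation submodule. -/
def relSpan (l : List R) (t : R) : Submodule R (Localization.Away t) :=
  Submodule.span R {y : Localization.Away t | ∃ b ∈ l, ∃ n : ℕ,
    y = algebraMap R _ (b ^ n) * IsLocalization.Away.invSelf t ^ n}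

theorem mk_mem_relSpan (l : List R) (K : ℕ) (A : R) (hA : A ∈ Ideal.ofList (l.map (· ^ K))) :
    Localization.mk A (⟨l.prod ^ K, K, rfl⟩ : Submonoid.powers l.prod) ∈ relSpan l l.prod := by
  induction hA using Submodule.span_induction with
  | mem r hr =>
    obtain ⟨c, hc, rfl⟩ := List.mem_map.mp hr
    rw [mk_eq]
    exact Submodule.subset_span ⟨c, hc, K, rfl⟩
  | zero => rw [Localization.mk_zero]; exact Submodule.zero_mem _
  | add x y _ _ hx hy =>
    rw [← Localization.add_mk_self]
    exact Submodule.add_mem _ hx hy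
  | smul a x _ hx =>
    rw [← Localization.smul_mk]
    exact Submodule.smul_mem _ _ hx

section equiv

variable {l : List R} {T : Type u} [AddCommGroup T] [Module R T] (P : TopPres l R T)

theorem relSpan_le_ker : relSpan l l.prod ≤ LinearMap.ker (gLin P) := by
  refine Submodule.span_le.2 ?_
  rintro y ⟨b, hb, n, rfl⟩
  rw [SetLike.mem_coe, LinearMap.mem_ker, ← mk_eq, gLin_mk]
  have := P.π_zero n b hb 1
  rwa [smul_eq_mul, mul_one] at this

theorem ker_le_relSpan (hP : IsExact P) : LinearMap.ker (gLin P) ≤ relSpan l l.prod := by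
  intro z hz
  rw [LinearMap.mem_ker] at hz
  induction z using Localization.induction_on with
  | H p =>
  obtain ⟨a, ⟨_, n, rfl⟩⟩ := p
  rw [gLin_mk] at hz
  obtain ⟨s, hs⟩ := hP n a hz
  have e : Localization.mk a (⟨l.prod ^ n, n, rfl⟩ : Submonoid.powers l.prod) =
      Localization.mk (l.prod ^ s * a)
        (⟨l.prod ^ (n + s), n + s, rfl⟩ : Submonoid.powers l.prod) := by
    rw [Localization.mk_eq_mk_iff, Localization.r_iff_exists]
    refine ⟨1, ?_⟩
    simp only [Submonoid.coe_one, one_mul]
    ring
  rw [e]
  exact mk_mem_relSpan l (n + s) _ hs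

/-- the induced map on the quotient. -/
noncomputable def gBar : (Localization.Away l.prod ⧸ relSpan l l.prod) →ₗ[R] T :=
  (relSpan l l.prod).liftQ (gLin P) (relSpan_le_ker P)

theorem gBar_bijective (hP : IsExact P) : Function.Bijective (gBar P) := by
  constructor
  · rw [← LinearMap.ker_eq_bot]
    exact Submodule.ker_liftQ_eq_bot _ _ _ (ker_le_relSpan P hP)
  · intro u
    obtain ⟨t, m, rfl⟩ := P.π_surj u
    refine ⟨Submodule.Quotient.mk (Localization.mk m ⟨l.prod ^ t, t, rfl⟩), ?_⟩
    rw [gBar, Submodule.liftQ_apply, gLin_mk]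

theorem nonempty_quot_equiv (hP : IsExact P) (t : R) (ht : l.prod = t) :
    Nonempty ((Localization.Away t ⧸ relSpan l t) ≃ₗ[R] T) := by
  subst ht
  exact ⟨LinearEquiv.ofBijective (gBar P) (gBar_bijective P hP)⟩

end equiv

/-- transport of injective hulls along an equivalence of the target. -/
theorem isInjectiveHull_comp_equiv {M E E' : Type u} [AddCommGroup M] [Module R M]
    [AddCommGroup E] [Module R E] [AddCommGroup E'] [Module R E']
    (f : M →ₗ[R] E) (hf : InjHull.IsInjectiveHull f) (e : E ≃ₗ[R] E') :
    InjHull.IsInjectiveHull (e.toLinearMap ∘ₗ f) := by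
  refine ⟨⟨?_, ?_⟩, ?_⟩
  · exact e.injective.comp hf.injective
  · intro N hN
    have hN' : N.comap e.toLinearMap ≠ ⊥ := by
      intro h
      apply hN
      rw [eq_bot_iff]
      intro y hy
      have : e.symm y ∈ N.comap e.toLinearMap := by
        rw [Submodule.mem_comap]; simpa using hy
      rw [h, Submodule.mem_bot] at this
      rw [Submodule.mem_bot]
      have h2 := congrArg e this
      simpa using h2
    have h1 := hf.essential _ hN'
    obtain ⟨x, hx, hx0⟩ := Submodule.exists_mem_ne_zero_of_ne_bot h1
    obtain ⟨hxN, m, rfl⟩ := hx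
    intro hbot
    have hmem : e (f m) ∈ N ⊓ LinearMap.range (e.toLinearMap ∘ₗ f) := ⟨hxN, m, rfl⟩
    rw [hbot, Submodule.mem_bot] at hmem
    exact hx0 (e.map_eq_zero_iff.1 hmem)
  · have := hf.isInjective
    rw [← Module.Baer.iff_injective] at this ⊢
    exact Module.Baer.of_equiv e this

end Groth.Agent.Lib.Helper16.CechHull
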