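import Groth.Agent.Lib.Helper16.CechHull2

/-!
# R_t / sum R_{t/x_i} is an injective hull of k over a Gorenstein local ring (helper16)
-/

set_option autoImplicit false
universe u

namespace Groth.Agent.Lib.Helper16.CechHull

open Groth.Agent.Lib.Helper16.LC IsLocalRing

theorem main (R : Type u) [CommRing R] [LocCoh.IsGorensteinLocalRing R] (d : ℕ)
    (hd : ringKrullDim R = d) (x : Fin d → R)
    (hx : (Ideal.span (Set.range x)).radical = IsLocalRing.maximalIdeal R) :
    ∃ f : IsLocalRing.ResidueField R →ₗ[R] (Localization.Away (∏ i, x i) ⧸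
      Submodule.span R {y : Localization.Away (∏ i, x i) | ∃ (i : Fin d) (n : ℕ),
        y = algebraMap R (Localization.Away (∏ i, x i)) (x i ^ n) *
          IsLocalization.Away.invSelf (∏ i, x i) ^ n}), InjHull.IsInjectiveHull f := by
  set l := List.ofFn x with hl
  have hprod : l.prod = ∏ i, x i := List.prod_ofFn
  have hlen : l.length = d := List.length_ofFn
  have hofl : Ideal.ofList l = Ideal.span (Set.range x) := by
    change Ideal.span {r | r ∈ l} = _
    congr 1
    ext r
    exact List.mem_ofFn' x r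
  have hset : relSpan l (∏ i, x i) =
      Submodule.span R {y : Localization.Away (∏ i, x i) | ∃ (i : Fin d) (n : ℕ),
        y = algebraMap R (Localization.Away (∏ i, x i)) (x i ^ n) *
          IsLocalization.Away.invSelf (∏ i, x i) ^ n} := by
    rw [relSpan]
    congr 1
    ext y
    constructor
    · rintro ⟨b, hb, n, rfl⟩
      obtain ⟨i, rfl⟩ := (List.mem_ofFn' x b).1 hb
      exact ⟨i, n, rfl⟩
    · rintro ⟨i, n, rfl⟩
      exact ⟨x i, (List.mem_ofFn' x _).2 ⟨i, rfl⟩, n, rfl⟩
  have key : ∀ n : ℕ, l.length = n → Nonempty ((Localization.Away (∏ i, x i) ⧸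
      relSpan l (∏ i, x i)) ≃ₗ[R] LocCoh.H (Ideal.ofList l) n R) := by
    rintro n rfl
    obtain ⟨P, hP⟩ := exists_topPres_exact l
    exact nonempty_quot_equiv P hP _ hprod
  obtain ⟨e1⟩ := key d hlen
  have hle : Ideal.ofList l ≤ maximalIdeal R := by
    rw [hofl, ← hx]; exact Ideal.le_radical
  have hrad : maximalIdeal R ≤ (Ideal.ofList l).radical := by
    rw [hofl, hx]
  have hb := cmp_bijective_of_le_radical d R (Ideal.ofList l) (maximalIdeal R) hle hrad
  obtain ⟨g, hg⟩ := GorTop.exists_hull (R := R) (n := d) hd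
  let e2 : LocCoh.H (maximalIdeal R) d R ≃ₗ[R] LocCoh.H (Ideal.ofList l) d R :=
    LinearEquiv.ofBijective _ hb
  let e3 := (e2.trans e1.symm).trans (Submodule.quotEquivOfEq _ _ hset)
  exact ⟨e3.toLinearMap ∘ₗ g, isInjectiveHull_comp_equiv g hg e3⟩

end Groth.Agent.Lib.Helper16.CechHull
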