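import Mathlib
import Groth.Prelude.Def_W4bk5brsh7111920

/-!
# Connectedness dimension of a Noetherian topological space

Helper library (helper16): the formula for the connectedness dimension in terms of irreducible
components.
-/

universe u

namespace Groth.Agent.Lib.Helper16.CD

open TopologicalSpace

variable {T : Type u} [TopologicalSpace T]

lemma dim_mono {Y Z : Set T} (h : Y ⊆ Z) : topologicalKrullDim Y ≤ topologicalKrullDim Z :=
  (Topology.IsEmbedding.inclusion h).isInducing.topologicalKrullDim_le

lemma dim_univ : topologicalKrullDim (Set.univ : Set T) = topologicalKrullDim T :=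
  (Homeomorph.Set.univ T).isHomeomorph.topologicalKrullDim_eq _

/-- Every candidate gives an upper bound of the connectedness dimension. -/
lemma connDim_le {Z : Set T} (hZ : IsClosed Z) (hc : ¬ IsConnected Zᶜ) :
    LocCoh.connDim T ≤ topologicalKrullDim Z := by
  unfold LocCoh.connDim
  exact iInf₂_le Z ⟨hZ, hc⟩

/-- Two closed sets covering the space, none of them the whole space: the complement of their
intersection is not connected. -/
lemma not_isConnected_compl_inter {P Q : Set T} (hP : IsClosed P) (hQ : IsClosed Q)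
    (hPQ : P ∪ Q = Set.univ) (hP1 : P ≠ Set.univ) (hQ1 : Q ≠ Set.univ) :
    ¬ IsConnected (P ∩ Q)ᶜ := by
  rintro ⟨-, hpre⟩
  obtain ⟨x, hx⟩ : (Pᶜ : Set T).Nonempty := by
    rw [Set.nonempty_compl]; exact hP1
  obtain ⟨y, hy⟩ : (Qᶜ : Set T).Nonempty := by
    rw [Set.nonempty_compl]; exact hQ1
  have := hpre Pᶜ Qᶜ hP.isOpen_compl hQ.isOpen_compl (by rw [Set.compl_inter])
    ⟨x, by simp only [Set.mem_inter_iff, Set.mem_compl_iff, not_and]; exact fun h => absurd h hx, hx⟩
    ⟨y, by simp only [Set.mem_inter_iff, Set.mem_compl_iff, not_and]; exact fun _ => hy, hy⟩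
  obtain ⟨z, -, hz1, hz2⟩ := this
  have : z ∈ P ∪ Q := by rw [hPQ]; trivial
  rcases this with h | h
  · exact hz1 h
  · exact hz2 h

variable [NoetherianSpace T]

lemma isClosed_sUnion_of_subset {A : Set (Set T)} (hA : A ⊆ irreducibleComponents T) :
    IsClosed (⋃₀ A) := by
  rw [Set.sUnion_eq_biUnion]
  exact Set.Finite.isClosed_biUnion
    (Set.Finite.subset NoetherianSpace.finite_irreducibleComponents hA)
    fun W hW => isClosed_of_mem_irreducibleComponents W (hA hW)

/-- A proper irreducible component contains a proper closed subset which is a candidate. -/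
lemma exists_candidate_ssubset {C : Set T} (hC : C ∈ irreducibleComponents T)
    (hCu : C ≠ Set.univ) : ∃ Z : Set T, IsClosed Z ∧ ¬ IsConnected Zᶜ ∧ Z ⊂ C := by
  set D : Set T := ⋃₀ (irreducibleComponents T \ {C}) with hD
  have hDcl : IsClosed D := isClosed_sUnion_of_subset Set.sdiff_subset
  have hCD : C ∪ D = Set.univ := by
    rw [← sUnion_irreducibleComponents (X := T), hD, ← Set.sUnion_singleton C,
      ← Set.sUnion_union, Set.sUnion_singleton]
    congr 1
    rw [Set.union_sdiff_self, Set.union_eq_self_of_subset_left]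
    simpa using hC
  have hCD' : ¬ C ⊆ D := by
    intro h
    have := mem_of_subset_sUnion_irreducibleComponents C hC (irreducibleComponents T \ {C})
      (NoetherianSpace.finite_irreducibleComponents.subset Set.sdiff_subset) Set.sdiff_subset
      (by rw [← hD]; exact h)
    exact this.2 rfl
  have hDu : D ≠ Set.univ := by
    intro h
    exact hCD' (by rw [h]; exact Set.subset_univ _)
  refine ⟨C ∩ D, (isClosed_of_mem_irreducibleComponents C hC).inter hDcl,
    not_isConnected_compl_inter (isClosed_of_mem_irreducibleComponents C hC) hDcl hCD hCu hDu,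
    Set.inter_subset_left, fun h => hCD' fun x hx => (h hx).2⟩

/-- The connectedness dimension is at most the dimension of any irreducible component. -/
lemma connDim_le_of_mem_irreducibleComponents {C : Set T} (hC : C ∈ irreducibleComponents T) :
    LocCoh.connDim T ≤ topologicalKrullDim C := by
  by_cases hCu : C = Set.univ
  · subst hCu
    refine connDim_le isClosed_univ ?_
    rintro ⟨hne, -⟩
    simp at hne
  · obtain ⟨Z, hZcl, hZc, hZC⟩ := exists_candidate_ssubset hC hCu
    exact (connDim_le hZcl hZc).trans (dim_mono hZC.subset)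

/-- A subset of the irreducible components whose union is everything is everything. -/
lemma eq_irreducibleComponents_of_sUnion_eq_univ {A : Set (Set T)}
    (hA : A ⊆ irreducibleComponents T) (hu : ⋃₀ A = Set.univ) : A = irreducibleComponents T := by
  refine Set.Subset.antisymm hA fun C hC => ?_
  exact mem_of_subset_sUnion_irreducibleComponents C hC A
    (NoetherianSpace.finite_irreducibleComponents.subset hA) hA (by rw [hu]; exact Set.subset_univ _)

lemma connDim_le_pair {A B : Set (Set T)} (hA : A ⊆ irreducibleComponents T)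
    (hB : B ⊆ irreducibleComponents T) (hAne : A.Nonempty) (hBne : B.Nonempty)
    (hAB : A ∪ B = irreducibleComponents T) :
    LocCoh.connDim T ≤ topologicalKrullDim ↥(⋃₀ A ∩ ⋃₀ B) := by
  have hcov : ⋃₀ A ∪ ⋃₀ B = Set.univ := by
    rw [← Set.sUnion_union, hAB, sUnion_irreducibleComponents]
  by_cases hAu : ⋃₀ A = Set.univ
  · obtain ⟨C, hCB⟩ := hBne
    rw [hAu, Set.univ_inter]
    exact (connDim_le_of_mem_irreducibleComponents (hB hCB)).trans
      (dim_mono (Set.subset_sUnion_of_mem hCB))
  by_cases hBu : ⋃₀ B = Set.univ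
  · obtain ⟨C, hCA⟩ := hAne
    rw [hBu, Set.inter_univ]
    exact (connDim_le_of_mem_irreducibleComponents (hA hCA)).trans
      (dim_mono (Set.subset_sUnion_of_mem hCA))
  exact connDim_le ((isClosed_sUnion_of_subset hA).inter (isClosed_sUnion_of_subset hB))
    (not_isConnected_compl_inter (isClosed_sUnion_of_subset hA) (isClosed_sUnion_of_subset hB)
      hcov hAu hBu)

omit [NoetherianSpace T] in
/-- For any candidate `Z` there is a pair of sets of components whose unions meet inside `Z`. -/
lemma exists_pair_of_candidate [Nonempty T] {Z : Set T} (hZ : IsClosed Z)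
    (hc : ¬ IsConnected Zᶜ) :
    ∃ A B : Set (Set T), A ⊆ irreducibleComponents T ∧ B ⊆ irreducibleComponents T ∧ A.Nonempty ∧
      B.Nonempty ∧ A ∪ B = irreducibleComponents T ∧ ⋃₀ A ∩ ⋃₀ B ⊆ Z := by
  have hne : (irreducibleComponents T).Nonempty :=
    ⟨_, irreducibleComponent_mem_irreducibleComponents (Classical.arbitrary T)⟩
  by_cases hemp : (Zᶜ : Set T).Nonempty
  · have hnp : ¬ IsPreconnected Zᶜ := fun h => hc ⟨hemp, h⟩
    rw [IsPreconnected] at hnp
    push Not at hnp
    obtain ⟨u, v, hu, hv, hsub, ⟨x, hxZ, hxu⟩, ⟨y, hyZ, hyv⟩, hdisj⟩ := hnp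
    have hkey : ∀ C ∈ irreducibleComponents T,
        C ∩ (Zᶜ ∩ u) = ∅ ∨ C ∩ (Zᶜ ∩ v) = ∅ := by
      intro C hC
      by_contra hcon
      push Not at hcon
      obtain ⟨h1, h2⟩ := hcon
      have hirr : IsPreirreducible C := hC.1.isPreirreducible
      obtain ⟨z, hzC, hz1, hz2⟩ := hirr (Zᶜ ∩ u) (Zᶜ ∩ v) (hZ.isOpen_compl.inter hu)
        (hZ.isOpen_compl.inter hv) h1 h2
      have : z ∈ Zᶜ ∩ (u ∩ v) := ⟨hz1.1, hz1.2, hz2.2⟩
      rw [hdisj] at this
      exact this
    refine ⟨{C ∈ irreducibleComponents T | C ∩ (Zᶜ ∩ v) = ∅},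
      {C ∈ irreducibleComponents T | C ∩ (Zᶜ ∩ u) = ∅}, fun C hC => hC.1, fun C hC => hC.1,
      ?_, ?_, ?_, ?_⟩
    · refine ⟨irreducibleComponent x, irreducibleComponent_mem_irreducibleComponents x, ?_⟩
      rcases hkey _ (irreducibleComponent_mem_irreducibleComponents x) with h | h
      · exact absurd h (Set.nonempty_iff_ne_empty.mp ⟨x, mem_irreducibleComponent, hxZ, hxu⟩)
      · exact h
    · refine ⟨irreducibleComponent y, irreducibleComponent_mem_irreducibleComponents y, ?_⟩
      rcases hkey _ (irreducibleComponent_mem_irreducibleComponents y) with h | h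
      · exact h
      · exact absurd h (Set.nonempty_iff_ne_empty.mp ⟨y, mem_irreducibleComponent, hyZ, hyv⟩)
    · ext C
      constructor
      · rintro (h | h) <;> exact h.1
      · intro hC
        rcases hkey C hC with h | h
        · exact Or.inr ⟨hC, h⟩
        · exact Or.inl ⟨hC, h⟩
    · rintro z ⟨⟨C, hC, hzC⟩, ⟨C', hC', hzC'⟩⟩
      by_contra hzZ
      rcases hsub hzZ with hzu | hzv
      · have : z ∈ C' ∩ (Zᶜ ∩ u) := ⟨hzC', hzZ, hzu⟩
        rw [hC'.2] at this
        exact this
      · have : z ∈ C ∩ (Zᶜ ∩ v) := ⟨hzC, hzZ, hzv⟩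
        rw [hC.2] at this
        exact this
  · have hZu : Z = Set.univ := by
      rw [Set.not_nonempty_iff_eq_empty, Set.compl_empty_iff] at hemp
      exact hemp
    exact ⟨irreducibleComponents T, irreducibleComponents T, subset_rfl, subset_rfl, hne, hne,
      Set.union_self _, by rw [hZu]; exact Set.subset_univ _⟩

/-- The formula for the connectedness dimension of a Noetherian space. -/
theorem connDim_eq [Nonempty T] :
    LocCoh.connDim T = ⨅ (A : Set (Set T)) (B : Set (Set T))
      (_ : A ⊆ irreducibleComponents T ∧ B ⊆ irreducibleComponents T ∧ A.Nonempty ∧ B.Nonempty ∧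
        A ∪ B = irreducibleComponents T), topologicalKrullDim ↥(⋃₀ A ∩ ⋃₀ B) := by
  apply le_antisymm
  · refine le_iInf fun A => le_iInf fun B => le_iInf fun h => ?_
    exact connDim_le_pair h.1 h.2.1 h.2.2.1 h.2.2.2.1 h.2.2.2.2
  · unfold LocCoh.connDim
    refine le_iInf fun Z => le_iInf fun hZ => ?_
    obtain ⟨A, B, hA, hB, hAne, hBne, hAB, hsub⟩ := exists_pair_of_candidate hZ.1 hZ.2
    refine le_trans ?_ (dim_mono hsub)
    exact iInf_le_of_le A (iInf_le_of_le B (iInf_le_of_le ⟨hA, hB, hAne, hBne, hAB⟩ le_rfl))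

/-! ### Comparison with the subdimension -/

lemma krullDim_add_one_le_of_strictMono_lt {α β : Type*} [Preorder α] [Preorder β] [Nonempty α]
    (f : α → β) (hf : StrictMono f) (b : β) (hb : ∀ a, f a < b) :
    Order.krullDim α + 1 ≤ Order.krullDim β := by
  rw [← Order.krullDim_WithTop]
  refine Order.krullDim_le_of_strictMono (fun x => WithTop.recTopCoe b f x) ?_
  rw [WithTop.strictMono_iff]
  exact ⟨hf, hb⟩

omit [NoetherianSpace T] in
/-- A proper closed subset of an irreducible set of finite dimension has smaller dimension. -/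
lemma dim_lt_of_ssubset {Z C : Set T} (hC : IsIrreducible C) (hZ : IsClosed Z) (hZC : Z ⊂ C)
    (hfin : topologicalKrullDim C < ⊤) : topologicalKrullDim Z < topologicalKrullDim C := by
  have hirr : IrreducibleSpace ↥C := Subtype.irreducibleSpace hC
  let top : IrreducibleCloseds ↥C :=
    ⟨Set.univ, IrreducibleSpace.isIrreducible_univ _, isClosed_univ⟩
  have hCne : topologicalKrullDim C ≠ ⊥ := by
    unfold topologicalKrullDim
    rw [Ne, Order.krullDim_eq_bot_iff]
    have : Nonempty (IrreducibleCloseds ↥C) := ⟨top⟩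
    exact not_isEmpty_of_nonempty _
  rcases Set.eq_empty_or_nonempty Z with hZe | hZne
  · have : topologicalKrullDim Z = ⊥ := by
      unfold topologicalKrullDim
      rw [Order.krullDim_eq_bot_iff]
      refine ⟨fun s => ?_⟩
      obtain ⟨x, -⟩ := s.isIrreducible.nonempty
      have h0 : (x : T) ∈ Z := x.2
      have h1 : Z ⊆ (∅ : Set T) := hZe.le
      exact h1 h0
    rw [this]
    exact bot_lt_iff_ne_bot.mpr hCne
  · obtain ⟨z, hz⟩ := hZne
    have hne : Nonempty (IrreducibleCloseds ↥Z) :=
      ⟨⟨closure {⟨z, hz⟩}, isIrreducible_singleton.closure, isClosed_closure⟩⟩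
    have hincl : Topology.IsInducing (Set.inclusion hZC.subset) :=
      (Topology.IsEmbedding.inclusion hZC.subset).isInducing
    obtain ⟨c, hcC, hcZ⟩ := Set.exists_of_ssubset hZC
    have key : topologicalKrullDim Z + 1 ≤ topologicalKrullDim C := by
      unfold topologicalKrullDim
      refine krullDim_add_one_le_of_strictMono_lt _
        (IrreducibleCloseds.map_strictMono_of_isInducing hincl) top fun a => ?_
      refine lt_of_le_not_ge (fun x _ => Set.mem_univ x) fun hle => ?_
      have h1 : (⟨c, hcC⟩ : ↥C) ∈ (IrreducibleCloseds.map (Set.inclusion hZC.subset)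
          hincl.continuous a : Set ↥C) := hle (Set.mem_univ _)
      rw [IrreducibleCloseds.coe_map] at h1
      have h2 : closure (Set.inclusion hZC.subset '' (a : Set ↥Z)) ⊆ Subtype.val ⁻¹' Z := by
        refine closure_minimal ?_ (hZ.preimage continuous_subtype_val)
        rintro _ ⟨y, -, rfl⟩
        exact y.2
      exact hcZ (h2 h1)
    have hZne' : topologicalKrullDim Z ≠ ⊥ := by
      unfold topologicalKrullDim
      rw [Ne, Order.krullDim_eq_bot_iff]
      exact not_isEmpty_of_nonempty _
    obtain ⟨a, ha⟩ := WithBot.ne_bot_iff_exists.mp hZne'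
    obtain ⟨b, hb⟩ := WithBot.ne_bot_iff_exists.mp hCne
    rw [← ha, ← hb] at key ⊢
    rw [← hb] at hfin
    have hb' : b < ⊤ := by
      rw [← WithBot.coe_top, WithBot.coe_lt_coe] at hfin
      exact hfin
    rw [← WithBot.coe_one, ← WithBot.coe_add, WithBot.coe_le_coe] at key
    rw [WithBot.coe_lt_coe]
    have ha' : a ≠ ⊤ := fun h => by
      rw [h, top_add, top_le_iff] at key
      exact hb'.ne key
    exact (ENat.add_one_le_iff ha').mp key

theorem connDim_le_subdim : LocCoh.connDim T ≤ LocCoh.subdim T := by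
  unfold LocCoh.subdim
  exact le_iInf₂ fun C hC => connDim_le_of_mem_irreducibleComponents hC

theorem connDim_eq_subdim_of_irreducibleSpace [IrreducibleSpace T] :
    LocCoh.connDim T = LocCoh.subdim T := by
  apply le_antisymm connDim_le_subdim
  have h1 : LocCoh.subdim T ≤ topologicalKrullDim (Set.univ : Set T) := by
    unfold LocCoh.subdim
    exact iInf₂_le Set.univ (by rw [irreducibleComponents_eq_singleton]; rfl)
  refine h1.trans ?_
  unfold LocCoh.connDim
  refine le_iInf₂ fun Z hZ => ?_
  have : Z = Set.univ := by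
    by_contra hne
    apply hZ.2
    have hne' : (Zᶜ).Nonempty := Set.nonempty_compl.mpr hne
    exact ⟨hne', ((PreirreducibleSpace.isPreirreducible_univ (X := T)).open_subset
      hZ.1.isOpen_compl (Set.subset_univ _)).isPreconnected⟩
  rw [this]

theorem connDim_lt_subdim_of_not_irreducibleSpace [Nonempty T] (hT : ¬ IrreducibleSpace T)
    (hfin : topologicalKrullDim T < ⊤) : LocCoh.connDim T < LocCoh.subdim T := by
  have hne : (irreducibleComponents T).Nonempty :=
    ⟨_, irreducibleComponent_mem_irreducibleComponents (Classical.arbitrary T)⟩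
  obtain ⟨C, hC, hmin⟩ := Set.exists_min_image (irreducibleComponents T)
    (fun C : Set T => topologicalKrullDim C) NoetherianSpace.finite_irreducibleComponents hne
  have hsub : LocCoh.subdim T = topologicalKrullDim C := by
    unfold LocCoh.subdim
    exact le_antisymm (iInf₂_le C hC) (le_iInf₂ hmin)
  have hCu : C ≠ Set.univ := by
    intro h
    apply hT
    rw [irreducibleSpace_def]
    have : (⊤ : Set T) = C := h.symm
    rw [this]
    exact hC.1
  obtain ⟨Z, hZcl, hZc, hZC⟩ := exists_candidate_ssubset hC hCu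
  rw [hsub]
  exact (connDim_le hZcl hZc).trans_lt (dim_lt_of_ssubset hC.1 hZcl hZC
    ((topologicalKrullDim_subspace_le T C).trans_lt hfin))

end Groth.Agent.Lib.Helper16.CD
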