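import Mathlib
import Groth.Agent.Lib.Helper16.Coprimary

/-!
# Coprimary modules: filtration with quotients embedding in A/p (helper16)
Good p N: N has a finite filtration down to 0 with quotients embedding in A/p; good_top: Ass M ⊆ {p} implies Good p ⊤.
-/

set_option autoImplicit false
set_option linter.unusedSectionVars false
set_option linter.style.haveILetI false
universe u

namespace Groth.Agent.Lib.Helper16.Coprimary

variable {A : Type u} [CommRing A] [IsNoetherianRing A] {M : Type u} [AddCommGroup M] [Module A M]
  (p : Ideal A)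

/-- `N` has a finite filtration down to `0` with successive quotients embedding in `A/p`. -/
def Good (N : Submodule A M) : Prop :=
  ∃ (m : ℕ) (F : Fin (m + 1) → Submodule A M), Antitone F ∧ F 0 = N ∧ F (Fin.last m) = ⊥ ∧
    ∀ i : Fin m, ∃ g : (↥(F i.castSucc) ⧸ Submodule.comap (F i.castSucc).subtype (F i.succ))
      →ₗ[A] (A ⧸ p), Function.Injective g

theorem good_bot : Good p (⊥ : Submodule A M) :=
  ⟨0, fun _ => ⊥, fun _ _ _ => le_rfl, rfl, rfl, fun i => i.elim0⟩

theorem Good.cons {N N' : Submodule A M} (hN : Good p N) (hle : N ≤ N')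
    (g : (↥N' ⧸ Submodule.comap N'.subtype N) →ₗ[A] (A ⧸ p)) (hg : Function.Injective g) :
    Good p N' := by
  obtain ⟨m, F, hanti, h0, hlast, hq⟩ := hN
  subst h0
  refine ⟨m + 1, (Fin.cons N' F : Fin (m + 1 + 1) → Submodule A M), ?_, ?_, ?_, ?_⟩
  · intro i j hij
    rcases Fin.eq_zero_or_eq_succ j with rfl | ⟨j', rfl⟩
    · have : i = 0 := Fin.le_zero_iff.mp hij
      subst this
      exact le_rfl
    · rcases Fin.eq_zero_or_eq_succ i with rfl | ⟨i', rfl⟩
      · rw [Fin.cons_succ, Fin.cons_zero]
        exact (hanti (Fin.zero_le j')).trans hle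
      · rw [Fin.cons_succ, Fin.cons_succ]
        exact hanti (Fin.succ_le_succ_iff.mp hij)
  · rfl
  · rw [← Fin.succ_last, Fin.cons_succ]
    exact hlast
  · intro i
    refine Fin.cases ?_ (fun j => ?_) i
    · exact ⟨g, hg⟩
    · exact hq j


theorem good_top_of [Module.Finite A M] :
    ∀ N : Submodule A M, Good p N → associatedPrimes A (M ⧸ N) ⊆ {p} →
      Good p (⊤ : Submodule A M) := by
  haveI : IsNoetherian A M := isNoetherian_of_isNoetherianRing_of_finite A M
  intro N
  induction N using WellFoundedGT.induction with
  | ind N ih =>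
    intro hN hAss
    by_cases htop : N = ⊤
    · subst htop
      exact hN
    haveI : Nontrivial (M ⧸ N) := Submodule.Quotient.nontrivial_iff.mpr htop
    have hne : (associatedPrimes A (M ⧸ N)).Nonempty := associatedPrimes.nonempty A (M ⧸ N)
    have heq : associatedPrimes A (M ⧸ N) = {p} := (Set.Nonempty.subset_singleton_iff hne).mp hAss
    obtain ⟨Nbar, hNbar, ⟨g, hg⟩, hAss'⟩ := step p heq
    set N' : Submodule A M := Nbar.comap N.mkQ with hN'
    have hle : N ≤ N' := by
      intro y hy
      rw [hN', Submodule.mem_comap, Submodule.mkQ_apply, (Submodule.Quotient.mk_eq_zero N).mpr hy]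
      exact Submodule.zero_mem _
    have hlt : N < N' := by
      refine lt_of_le_of_ne hle ?_
      intro heq'
      apply hNbar
      rw [Submodule.eq_bot_iff]
      intro ybar hybar
      obtain ⟨y, rfl⟩ := Submodule.Quotient.mk_surjective N ybar
      have : y ∈ N' := hybar
      rw [← heq'] at this
      exact (Submodule.Quotient.mk_eq_zero N).mpr this
    let ψ : ↥N' →ₗ[A] ↥Nbar :=
      LinearMap.codRestrict Nbar (N.mkQ.comp N'.subtype) (fun y => y.2)
    have hker : LinearMap.ker ψ = Submodule.comap N'.subtype N := by
      ext y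
      rw [LinearMap.mem_ker, Submodule.mem_comap]
      constructor
      · intro h0
        have := congrArg Subtype.val h0
        exact (Submodule.Quotient.mk_eq_zero N).mp this
      · intro hy
        apply Subtype.ext
        exact (Submodule.Quotient.mk_eq_zero N).mpr hy
    let ψ' : (↥N' ⧸ Submodule.comap N'.subtype N) →ₗ[A] ↥Nbar :=
      Submodule.liftQ _ ψ (le_of_eq hker.symm)
    have hψ' : Function.Injective ψ' := by
      rw [← LinearMap.ker_eq_bot]
      exact Submodule.ker_liftQ_eq_bot _ _ _ (le_of_eq hker)
    have hgood' : Good p N' := hN.cons p hle (g.comp ψ') (hg.comp hψ')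
    have hAssN' : associatedPrimes A (M ⧸ N') ⊆ {p} := by
      let χ : (M ⧸ N') →ₗ[A] ((M ⧸ N) ⧸ Nbar) :=
        Submodule.liftQ N' (Nbar.mkQ.comp N.mkQ) (by
          intro y hy
          rw [LinearMap.mem_ker, LinearMap.comp_apply, Submodule.mkQ_apply, Submodule.mkQ_apply,
            Submodule.Quotient.mk_eq_zero]
          exact hy)
      have hχ : Function.Injective χ := by
        rw [← LinearMap.ker_eq_bot]
        refine Submodule.ker_liftQ_eq_bot _ _ _ ?_
        intro y hy
        rw [LinearMap.mem_ker, LinearMap.comp_apply, Submodule.mkQ_apply, Submodule.mkQ_apply,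
          Submodule.Quotient.mk_eq_zero] at hy
        exact hy
      exact (associatedPrimes.subset_of_injective hχ).trans hAss'
    exact ih N' hlt hgood' hAssN'

/-- A finite module with `Ass M = {p}` has a finite filtration with quotients embedding in
`A/p`. -/
theorem good_top [Module.Finite A M] (h : associatedPrimes A M ⊆ {p}) :
    Good p (⊤ : Submodule A M) := by
  refine good_top_of p ⊥ (good_bot p) ?_
  exact (associatedPrimes.subset_of_injective
    (f := (Submodule.quotEquivOfEqBot (⊥ : Submodule A M) rfl).toLinearMap)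
    (Submodule.quotEquivOfEqBot _ rfl).injective).trans h

end Groth.Agent.Lib.Helper16.Coprimary
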