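import Mathlib
import Groth.Prelude.Def_RegImm
import Groth.Agent.Lib.Helper16.CotLoc2
import Groth.Agent.Lib.Helper16.KzComp4
import Groth.Agent.S9269

/-!
# Conormal module of a localized presentation: (I/I²)_g is projective when (R[x]/I)_g is lci over R
-/

set_option autoImplicit false
set_option linter.unusedSectionVars false
set_option linter.unusedVariables false
set_option linter.unusedSimpArgs false
universe u
open IsLocalRing TensorProduct Pointwise Algebra

namespace Groth.Agent.Lib.Helper16.CotAway

variable (R : Type u) [CommRing R] (n : ℕ) (I : Ideal (MvPolynomial (Fin n) R))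

/-- the tautological generators of `R[x]/I` -/
noncomputable def gen : Generators R (MvPolynomial (Fin n) R ⧸ I) (Fin n) :=
  Generators.ofAlgHom (Ideal.Quotient.mkₐ R I) Ideal.Quotient.mk_surjective

theorem gen_ker : (gen R n I).ker = I := by
  have h : (MvPolynomial.aeval (gen R n I).val : MvPolynomial (Fin n) R →ₐ[R] _) =
      Ideal.Quotient.mkₐ R I := by
    ext i
    simp [gen, Generators.ofAlgHom, Generators.ofSurjective]
  change RingHom.ker (MvPolynomial.aeval (gen R n I).val) = I
  rw [h]
  exact Ideal.mk_ker

theorem nonempty_cotangent_equiv_of_eq {P : Type u} [CommRing P] (I J : Ideal P) (h : J = I) :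
    Nonempty (I.Cotangent ≃ₗ[P] J.Cotangent) := by
  subst h
  exact ⟨LinearEquiv.refl _ _⟩


section main

variable (R : Type u) [CommRing R] (n : ℕ) (I : Ideal (MvPolynomial (Fin n) R))
  (g : MvPolynomial (Fin n) R ⧸ I)

/-- the composite generators of `(R[x]/I)_g` over `R` -/
noncomputable def genAway :
    Generators R (Localization.Away g) (Unit ⊕ Fin n) :=
  (Generators.localizationAway (Localization.Away g) g).comp (gen R n I)

open Groth.Agent.Lib.Helper16.KzComp in
theorem isKoszulRegularIdeal_genAway_ker (hlci : LCI.IsLCI R (Localization.Away g)) :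
    LCI.IsKoszulRegularIdeal (genAway R n I g).toExtension.ker := by
  obtain ⟨-, m, α, hα, hKα⟩ := hlci
  let e : Unit ⊕ Fin n ≃ Fin (Fintype.card (Unit ⊕ Fin n)) := Fintype.equivFin _
  let ρ : MvPolynomial (Fin (Fintype.card (Unit ⊕ Fin n))) R ≃ₐ[R]
      MvPolynomial (Unit ⊕ Fin n) R := MvPolynomial.renameEquiv R e.symm
  let β : MvPolynomial (Fin (Fintype.card (Unit ⊕ Fin n))) R →ₐ[R] Localization.Away g :=
    (MvPolynomial.aeval (genAway R n I g).val).comp ρ.toAlgHom
  have hβ : Function.Surjective β :=
    (genAway R n I g).algebraMap_surjective.comp ρ.surjective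
  have h1 := Groth.Agent.S9269.result R (Localization.Away g) m _ α hα β hβ hKα
  let K : Ideal (MvPolynomial (Unit ⊕ Fin n) R) := (genAway R n I g).toExtension.ker
  have h2 : RingHom.ker β.toRingHom = K.comap (ρ.toRingEquiv :
      MvPolynomial (Fin (Fintype.card (Unit ⊕ Fin n))) R →+* MvPolynomial (Unit ⊕ Fin n) R) := by
    ext x
    rfl
  rw [h2, isKoszulRegularIdeal_comap_ringEquiv_iff] at h1
  exact h1

end main


section main2

variable (R : Type u) [CommRing R] (n : ℕ) (I : Ideal (MvPolynomial (Fin n) R))
  (g : MvPolynomial (Fin n) R ⧸ I)

theorem projective_tensor_cotangent (hlci : LCI.IsLCI R (Localization.Away g)) :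
    Module.Projective (Localization.Away g)
      ((Localization.Away g) ⊗[MvPolynomial (Fin n) R ⧸ I] (gen R n I).toExtension.Cotangent) := by
  have hK := isKoszulRegularIdeal_genAway_ker R n I g hlci
  have hproj : Module.Projective (Localization.Away g) (genAway R n I g).toExtension.Cotangent :=
    Groth.Agent.Lib.Helper16.CotLoc.projective_extension_cotangent _ hK
  obtain ⟨x, hx⟩ := Generators.Cotangent.surjective_map_ofComp
    (Generators.localizationAway (Localization.Away g) g) (gen R n I)
    (Generators.cMulXSubOneCotangent (Localization.Away g) g)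
  let E := Generators.cotangentCompLocalizationAwayEquiv g (gen R n I) hx
  have hproj' : Module.Projective (Localization.Away g)
      ((Generators.localizationAway (Localization.Away g) g).comp
        (gen R n I)).toExtension.Cotangent := hproj
  exact Module.Projective.of_split (E.symm.toLinearMap ∘ₗ LinearMap.inl _ _ _)
    (LinearMap.fst _ _ _ ∘ₗ E.toLinearMap) (by ext; simp)

theorem algebraMap_gen (p : MvPolynomial (Fin n) R) :
    algebraMap (gen R n I).toExtension.Ring (MvPolynomial (Fin n) R ⧸ I) p =
      Ideal.Quotient.mk I p := by
  have h : (MvPolynomial.aeval (gen R n I).val : MvPolynomial (Fin n) R →ₐ[R] _) =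
      Ideal.Quotient.mkₐ R I := by
    ext i
    simp [gen, Generators.ofAlgHom, Generators.ofSurjective]
  change MvPolynomial.aeval (gen R n I).val p = _
  rw [h]
  rfl

/-- `I/I²` as the conormal module of the tautological generators -/
noncomputable def cotangentEquivGen :
    I.Cotangent ≃ₗ[MvPolynomial (Fin n) R ⧸ I] (gen R n I).toExtension.Cotangent := by
  classical
  let I' : Ideal (gen R n I).toExtension.Ring := I
  let e0 : I'.Cotangent ≃ₗ[(gen R n I).toExtension.Ring] (gen R n I).toExtension.ker.Cotangent :=
    (nonempty_cotangent_equiv_of_eq I' (gen R n I).toExtension.ker (gen_ker R n I)).some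
  exact
    { toFun := fun x => Extension.Cotangent.of (e0 x)
      invFun := fun y => e0.symm y.val
      map_add' := fun x y => by
        apply Extension.Cotangent.ext
        change e0 (x + y) = e0 x + e0 y
        exact map_add e0 x y
      map_smul' := fun s x => by
        obtain ⟨p, rfl⟩ := Ideal.Quotient.mk_surjective s
        let p' : (gen R n I).toExtension.Ring := p
        let x' : I'.Cotangent := x
        apply Extension.Cotangent.ext
        rw [RingHom.id_apply, Extension.Cotangent.val_smul]
        change e0 (Ideal.Quotient.mk I p • x) = _ • e0 x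
        have h1 : Ideal.Quotient.mk I p • x = p • x := by
          rw [← Ideal.Quotient.algebraMap_eq, algebraMap_smul]
        rw [h1]
        have h3 : e0 (p' • x') = p' • e0 x' := map_smul e0 p' x'
        refine Eq.trans h3 ?_
        have hmem : (gen R n I).toExtension.σ (Ideal.Quotient.mk I p) - p' ∈
            (gen R n I).toExtension.ker := by
          change algebraMap (gen R n I).toExtension.Ring (MvPolynomial (Fin n) R ⧸ I) _ = 0
          rw [map_sub, Extension.algebraMap_σ, algebraMap_gen, sub_self]
        have h2 := Extension.Cotangent.smul_eq_zero_of_mem _ hmem (e0 x)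
        rw [sub_smul, sub_eq_zero] at h2
        exact h2.symm
      left_inv := fun x => e0.symm_apply_apply x
      right_inv := fun y => by
        apply Extension.Cotangent.ext
        exact e0.apply_symm_apply y.val }

theorem projective_localized_cotangent (hlci : LCI.IsLCI R (Localization.Away g)) :
    Module.Projective (Localization.Away g)
      (LocalizedModule (Submonoid.powers g) I.Cotangent) := by
  have h1 := projective_tensor_cotangent R n I g hlci
  have hbc : IsBaseChange (Localization.Away g)
      (LocalizedModule.mkLinearMap (Submonoid.powers g) I.Cotangent) :=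
    IsLocalizedModule.isBaseChange (Submonoid.powers g) (Localization.Away g) _
  let e2 : (Localization.Away g) ⊗[MvPolynomial (Fin n) R ⧸ I] I.Cotangent ≃ₗ[Localization.Away g]
      (Localization.Away g) ⊗[MvPolynomial (Fin n) R ⧸ I] (gen R n I).toExtension.Cotangent :=
    TensorProduct.AlgebraTensorModule.congr (LinearEquiv.refl _ _) (cotangentEquivGen R n I)
  exact Module.Projective.of_equiv (e2.symm.trans hbc.equiv)

end main2

end Groth.Agent.Lib.Helper16.CotAway
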