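import Mathlib
import Groth.Agent.Lib.Helper16.CotBC5
import Groth.Agent.Lib.Helper13.PerfHom1

/-!
# Noetherian finite-Tor-dimension case: NL of tor-amplitude [-1,0] implies local complete intersection
-/

set_option autoImplicit false
set_option linter.unusedSectionVars false
universe u
open TensorProduct Algebra CategoryTheory

namespace Groth.Agent.Lib.Helper16.CotBC

attribute [local instance] HasDerivedCategory.standard

open Groth.Agent.Lib.Helper13.DR

/-- a perfect module has finite projective dimension -/
theorem exists_hasProjectiveDimensionLT_of_isPerfectModule (R : Type u) [CommRing R] (M : Type u)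
    [AddCommGroup M] [Module R M] (h : DRing.IsPerfectModule R M) :
    ∃ m : ℕ, HasProjectiveDimensionLT (ModuleCat.of R M) m := by
  obtain ⟨E, a, b, hv, hfp, ⟨e⟩⟩ := h
  have hpa : HasProjAmp (Dual.inD R M) a b := ⟨E, hv, fun i => (hfp i).2, ⟨e⟩⟩
  refine ⟨(1 - a).toNat, ?_⟩
  let _ := HasExt.standard (ModuleCat.{u} R)
  rw [hasProjectiveDimensionLT_iff]
  intro i hi Y x
  let K := ((DerivedCategory.singleFunctor (ModuleCat.{u} R) 0).obj Y)⟦(i : ℤ)⟧
  have h1 : K.IsLE (-(i : ℤ)) :=
    DerivedCategory.TStructure.t.isLE_shift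
      ((DerivedCategory.singleFunctor (ModuleCat.{u} R) 0).obj Y) 0 (i : ℤ) (-(i : ℤ)) (by lia)
  have h2 : K.IsLE (a - 1) :=
    DerivedCategory.TStructure.t.isLE_of_le K (-(i : ℤ)) _ (by lia)
  have h3 : Subsingleton (Dual.inD R M ⟶ K) := subsingleton_hom_of_hasProjAmp hpa K
  have h4 : Subsingleton (Abelian.Ext (ModuleCat.of R M) Y i) :=
    (Abelian.Ext.homEquiv (X := ModuleCat.of R M) (Y := Y) (n := i)).subsingleton
  exact Subsingleton.elim _ _

/-- the ideal `I` has finite projective dimension when `R ⧸ I`-like quotient `B` does -/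
theorem hasProjectiveDimensionLT_ker {R B : Type u} [CommRing R] [CommRing B] [Algebra R B]
    (hs : Function.Surjective (algebraMap R B)) (m : ℕ)
    (h : HasProjectiveDimensionLT (ModuleCat.of R B) (m + 1 + 1)) :
    HasProjectiveDimensionLT (ModuleCat.of R (RingHom.ker (algebraMap R B))) (m + 1) := by
  let S : ShortComplex (ModuleCat.{u} R) :=
    ShortComplex.mk (ModuleCat.ofHom (Submodule.subtype (RingHom.ker (algebraMap R B))))
      (ModuleCat.ofHom (Algebra.linearMap R B)) (by
        ext x
        exact x.2)
  have hS : S.ShortExact := by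
    refine ShortComplex.ShortExact.mk' ?_ ?_ ?_
    · rw [ShortComplex.ShortExact.moduleCat_exact_iff_function_exact]
      intro y
      constructor
      · intro hy
        exact ⟨⟨y, hy⟩, rfl⟩
      · rintro ⟨z, rfl⟩
        exact z.2
    · rw [ModuleCat.mono_iff_injective]
      exact Subtype.val_injective
    · rw [ModuleCat.epi_iff_surjective]
      exact hs
  have h2 : HasProjectiveDimensionLT S.X₂ (m + 1) := by
    have : Projective S.X₂ := by
      change Projective (ModuleCat.of R R)
      rw [← IsProjective.iff_projective]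
      infer_instance
    infer_instance
  exact hS.hasProjectiveDimensionLT_X₁ (m + 1) h2 h

/-- in a Noetherian ring, an ideal of finite projective dimension with projective conormal module
is Koszul-regular (Vasconcelos) -/
theorem isKoszulRegularIdeal_of_hasProjectiveDimensionLT {R' : Type u} [CommRing R']
    [IsNoetherianRing R'] (I : Ideal R') (m : ℕ)
    (hpd : HasProjectiveDimensionLT (ModuleCat.of R' I) m)
    [Module.Projective (R' ⧸ I) I.Cotangent] : LCI.IsKoszulRegularIdeal I := by
  intro 𝔭 h𝔭
  have : 𝔭.asIdeal.IsPrime := 𝔭.2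
  obtain ⟨g, hg, rs, hrs, hof⟩ :=
    Groth.Agent.Lib.Helper16.Vasc.vasconcelos I m hpd 𝔭.asIdeal h𝔭
  refine ⟨g, hg, rs, Groth.Agent.Lib.Helper16.KzComp.kreg_of_isWeaklyRegular rs
    hrs.toIsWeaklyRegular, ?_⟩
  rw [← hof]

variable {A B : Type u} [CommRing A] [CommRing B] [Algebra A B]

theorem exists_hasProjectiveDimensionLT_ker_of_hasFiniteTorDim (n : ℕ)
    [Algebra (MvPolynomial (Fin n) A) B] [IsScalarTower A (MvPolynomial (Fin n) A) B]
    [IsNoetherianRing A] (hs : Function.Surjective (algebraMap (MvPolynomial (Fin n) A) B))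
    (hB : DRing.HasFiniteTorDim A B) :
    ∃ m : ℕ, HasProjectiveDimensionLT (ModuleCat.of (MvPolynomial (Fin n) A)
      (RingHom.ker (algebraMap (MvPolynomial (Fin n) A) B))) m := by
  have hfinB : Module.Finite (MvPolynomial (Fin n) A) B :=
    Module.Finite.of_surjective (Algebra.linearMap (MvPolynomial (Fin n) A) B) hs
  have hpc : DRing.IsPseudoCoherentModule' (MvPolynomial (Fin n) A) B :=
    (isPseudoCoherentModule'_iff_of_isNoetherianRing B).2 hfinB
  have hperf := Groth.Agent.Lib.Helper13.PS.isPerfectModule_of_hasFiniteTorDim A B n hpc hB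
  obtain ⟨m, hm⟩ := exists_hasProjectiveDimensionLT_of_isPerfectModule _ _ hperf
  have hm' : HasProjectiveDimensionLT (ModuleCat.of (MvPolynomial (Fin n) A) B) (m + 1 + 1) :=
    hasProjectiveDimensionLT_of_ge _ m (m + 1 + 1) (by lia)
  exact ⟨m + 1, hasProjectiveDimensionLT_ker hs m hm'⟩

/-- **S2236, hard direction** -/
theorem isLCI_of_torAmplitude_of_hasFiniteTorDim [IsNoetherianRing A] [Algebra.FiniteType A B]
    (hB : DRing.HasFiniteTorDim A B)
    (h : DRing.HasTorAmplitudeIn B (-1) 0 (LCI.NL A B)) : LCI.IsLCI A B := by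
  obtain ⟨n, f, hsurj⟩ := Algebra.FiniteType.iff_quotient_mvPolynomial''.mp
    (inferInstance : Algebra.FiniteType A B)
  have hae : (MvPolynomial.aeval (R := A) (fun i => f (MvPolynomial.X i))) = f := by
    apply MvPolynomial.algHom_ext
    intro i
    simp
  let G : Generators A B (Fin n) :=
    Generators.ofSurjective (fun i => f (MvPolynomial.X i)) (by rw [hae]; exact hsurj)
  have hker : G.toExtension.ker = RingHom.ker f.toRingHom := by
    have h1 : G.toExtension.ker = G.ker := rfl
    rw [h1, Generators.ker_eq_ker_aeval_val]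
    change RingHom.ker (MvPolynomial.aeval (R := A) fun i => f (MvPolynomial.X i)) = _
    rw [hae]
    rfl
  have hfree : Module.Free B G.toExtension.CotangentSpace :=
    Module.Free.of_basis G.cotangentSpaceBasis
  have hflat : Module.Flat B G.toExtension.Cotangent :=
    flat_cotangent_of_torAmplitude G.toExtension (Extension.defaultHom (P := G.toExtension))
      (G.defaultHom (Generators.self A B)).toExtensionHom h
  have hN : IsNoetherianRing G.toExtension.Ring :=
    inferInstanceAs (IsNoetherianRing (MvPolynomial (Fin n) A))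
  have hNB : IsNoetherianRing B :=
    isNoetherianRing_of_surjective G.toExtension.Ring B (algebraMap G.toExtension.Ring B)
      G.toExtension.algebraMap_surjective
  have hfin : Module.Finite B G.toExtension.Cotangent :=
    Extension.Cotangent.finite ((isNoetherianRing_iff_ideal_fg G.toExtension.Ring).1 hN _)
  have hfp : Module.FinitePresentation B G.toExtension.Cotangent :=
    Module.finitePresentation_of_finite B _
  have hproj : Module.Projective B G.toExtension.Cotangent :=
    Module.Flat.projective_of_finitePresentation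
  have := projective_ker_cotangent G.toExtension
  obtain ⟨m, hpdI⟩ := @exists_hasProjectiveDimensionLT_ker_of_hasFiniteTorDim A B _ _ _ n
    (show Algebra G.toExtension.Ring B from inferInstance)
    (show IsScalarTower A G.toExtension.Ring B from inferInstance) _
    G.toExtension.algebraMap_surjective hB
  have hK : LCI.IsKoszulRegularIdeal G.toExtension.ker :=
    isKoszulRegularIdeal_of_hasProjectiveDimensionLT G.toExtension.ker m hpdI
  refine ⟨inferInstance, n, f, hsurj, ?_⟩
  rw [← hker]
  exact hK

end Groth.Agent.Lib.Helper16.CotBC
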