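import Mathlib
import Groth.Agent.Lib.Helper18.QGor12
import Groth.Agent.Lib.Helper18.ModFib
import Groth.Agent.Lib.Helper18.SerreNormal
import Groth.Agent.Lib.Helper9.FlatCrit

/-!
# Fibrewise depth two gives depth two of X ⊗_A E for finite E (for S18718) (helper16)
-/

set_option autoImplicit false
set_option linter.unusedSectionVars false

universe u

open IsLocalRing TensorProduct

namespace Groth.Agent.Lib.Helper16.DDual

open Groth.Agent.Lib.Helper18.QGor Groth.Agent.Lib.Helper18.CM

section fib

variable (A B : Type u) [CommRing A] [CommRing B] [IsNoetherianRing A] [IsNoetherianRing B]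
  [Algebra A B] (q : Ideal B) [hq : q.IsPrime]
  (Y : Type u) [AddCommGroup Y] [Module B Y]

/-- depth of the fibre stalk over the fibre local ring vs. over `B_q` -/
theorem le_depth_fibLocMod (n : ℕ)
    (h : (n : ℕ∞) ≤ LocCoh.idealDepth (q.map (algebraMap B (EGA4.FibLocRing A B q)))
      (EGA4.FibLocMod A B q Y)) :
    (n : ℕ∞) ≤ LocCoh.depth (Localization.AtPrime q) (EGA4.FibLocMod A B q Y) := by
  rw [fib_ideal_eq] at h
  exact le_idealDepth_of_le_idealDepth_map Ideal.Quotient.mk_surjective _ _ n h

/-- the fibre stalk of `B` itself is the fibre local ring -/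
theorem le_depth_fibLocMod_self (n : ℕ)
    (h : (n : ℕ∞) ≤ LocCoh.idealDepth (q.map (algebraMap B (EGA4.FibLocRing A B q)))
      (EGA4.FibLocRing A B q)) :
    (n : ℕ∞) ≤ LocCoh.depth (Localization.AtPrime q) (EGA4.FibLocMod A B q B) := by
  rw [fib_ideal_eq] at h
  have h1 : (n : ℕ∞) ≤ LocCoh.idealDepth (maximalIdeal (Localization.AtPrime q))
      (EGA4.FibLocRing A B q) :=
    le_idealDepth_of_le_idealDepth_map Ideal.Quotient.mk_surjective _ _ n h
  set P : Ideal (Localization.AtPrime q) :=
    (q.comap (algebraMap A B)).map (algebraMap A (Localization.AtPrime q)) with hP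
  have hmap : (P • (⊤ : Submodule (Localization.AtPrime q) (LocalizedModule q.primeCompl B))).map
      (Groth.Agent.Lib.Helper18.Serre.locSelfEquiv q).toLinearMap = P := by
    rw [Submodule.map_smul'', Submodule.map_top, LinearEquiv.range, smul_eq_mul, Ideal.mul_top]
  let e : EGA4.FibLocMod A B q B ≃ₗ[Localization.AtPrime q] EGA4.FibLocRing A B q :=
    Submodule.Quotient.equiv _ _ (Groth.Agent.Lib.Helper18.Serre.locSelfEquiv q) hmap
  unfold LocCoh.depth
  rw [idealDepth_congr e _]
  exact h1

end fib

section finiteCase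

variable (A B : Type u) [CommRing A] [CommRing B] [IsNoetherianRing A] [IsNoetherianRing B]
  [Algebra A B] (J : Ideal B)
  (X : Type u) [AddCommGroup X] [Module B X] [Module A X] [IsScalarTower A B X]
  [Module.Finite B X] [Module.Flat A X]

/-- the finite case of the key lemma: `depth_J (X ⊗_A E) ≥ 2` -/
theorem two_le_idealDepth_tensor_finite
    (hX : ∀ q : PrimeSpectrum B, J ≤ q.asIdeal →
      2 ≤ LocCoh.depth (Localization.AtPrime q.asIdeal) (EGA4.FibLocMod A B q.asIdeal X))
    (E : Type u) [AddCommGroup E] [Module A E] [Module.Finite A E] :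
    haveI : Module.Finite B (X ⊗[A] E) :=
      Groth.Agent.Lib.Helper9.finite_tensorProduct_of_finite (R := A) (S := B) (M := X) E
    2 ≤ LocCoh.idealDepth J (X ⊗[A] E) := by
  haveI : Module.Finite B (X ⊗[A] E) :=
    Groth.Agent.Lib.Helper9.finite_tensorProduct_of_finite (R := A) (S := B) (M := X) E
  have := le_idealDepth_of_forall_le_depth J 2 (X ⊗[A] E) (fun q hq hJq => by
    rw [Groth.Agent.Lib.Helper18.ModFib.depth_localizedModule_tensor A B q E X]
    have h2 := hX ⟨q, hq⟩ hJq
    exact le_trans (by exact_mod_cast h2) le_add_self)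
  exact_mod_cast this

end finiteCase

end Groth.Agent.Lib.Helper16.DDual
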