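import Mathlib
import Groth.Agent.Lib.Helper16.DDual1
import Groth.Agent.Lib.Helper16.ExtVanish
import Groth.Agent.Lib.Helper16.LocCohDepth

/-!
# Ext vanishing for X ⊗_A N from fibrewise depth two, N arbitrary (for S18718) (helper16)
-/

set_option autoImplicit false
set_option linter.unusedSectionVars false

universe u

open IsLocalRing TensorProduct CategoryTheory

namespace Groth.Agent.Lib.Helper16.DDual

open Groth.Agent.Lib.Helper16.Depth

section factor

variable {A B : Type u} [CommRing A] [CommRing B] [Algebra A B]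
  (X : Type u) [AddCommGroup X] [Module B X] [Module A X] [IsScalarTower A B X]
  (N : Type u) [AddCommGroup N] [Module A N]

/-- the `B`-linear map `X ⊗ N' → X ⊗ N` -/
noncomputable def incl (N' : Submodule A N) : X ⊗[A] N' →ₗ[B] X ⊗[A] N :=
  TensorProduct.AlgebraTensorModule.map (LinearMap.id : X →ₗ[B] X) N'.subtype

theorem incl_apply (N' : Submodule A N) (t : X ⊗[A] N') :
    incl (B := B) X N N' t = (N'.subtype.lTensor X) t := by
  induction t using TensorProduct.induction_on with
  | zero => rw [map_zero, map_zero]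
  | tmul x n => rfl
  | add a b ha hb => rw [map_add, map_add, ha, hb]

theorem incl_injective [Module.Flat A X] (N' : Submodule A N) :
    Function.Injective (incl (B := B) X N N') := by
  intro a b hab
  rw [incl_apply, incl_apply] at hab
  exact Module.Flat.lTensor_preserves_injective_linearMap N'.subtype N'.injective_subtype hab

/-- maps from finite `B`-modules into `X ⊗_A N` factor through `X ⊗_A N'`, `N'` finite. -/
theorem exists_factor [Module.Flat A X] (K : Type u) [AddCommGroup K] [Module B K]
    [Module.Finite B K] (ψ : K →ₗ[B] X ⊗[A] N) :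
    ∃ (N' : Submodule A N) (_ : Module.Finite A N') (ψ' : K →ₗ[B] X ⊗[A] N'),
      incl X N N' ∘ₗ ψ' = ψ := by
  classical
  obtain ⟨s, hs⟩ := (Module.finite_def (R := B) (M := K)).mp inferInstance
  obtain ⟨N', hfin, hN'⟩ := TensorProduct.exists_finite_submodule_right_of_setFinite
    (R := A) (M := X) (N := N) (ψ '' (s : Set K)) ((Finset.finite_toSet s).image _)
  have hrange : LinearMap.range ψ ≤ LinearMap.range (incl (B := B) X N N') := by
    rw [LinearMap.range_eq_map, ← hs, Submodule.map_span, Submodule.span_le]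
    intro y hy
    obtain ⟨t, ht⟩ := hN' hy
    exact ⟨t, by rw [incl_apply]; exact ht⟩
  let e := LinearEquiv.ofInjective (incl (B := B) X N N') (incl_injective X N N')
  let ψ₀ : K →ₗ[B] LinearMap.range (incl (B := B) X N N') :=
    ψ.codRestrict _ (fun k => hrange ⟨k, rfl⟩)
  refine ⟨N', hfin, e.symm.toLinearMap ∘ₗ ψ₀, ?_⟩
  ext k
  simp only [LinearMap.coe_comp, LinearEquiv.coe_coe, Function.comp_apply]
  have := LinearEquiv.ofInjective_apply (incl (B := B) X N N') (h := incl_injective X N N')
    (e.symm (ψ₀ k))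
  rw [← this]
  change ((e (e.symm (ψ₀ k)) : LinearMap.range (incl (B := B) X N N')) : X ⊗[A] N) = ψ k
  rw [LinearEquiv.apply_symm_apply]
  rfl

end factor

section vanish

variable (A B : Type u) [CommRing A] [CommRing B] [IsNoetherianRing A] [IsNoetherianRing B]
  [Algebra A B] (J : Ideal B)
  (X : Type u) [AddCommGroup X] [Module B X] [Module A X] [IsScalarTower A B X]
  [Module.Finite B X] [Module.Flat A X]
  (hX : ∀ q : PrimeSpectrum B, J ≤ q.asIdeal →
    2 ≤ LocCoh.depth (Localization.AtPrime q.asIdeal) (EGA4.FibLocMod A B q.asIdeal X))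
  (N : Type u) [AddCommGroup N] [Module A N]

include hX in
theorem ext_finite_subsingleton (N' : Submodule A N) [Module.Finite A N'] (i : ℕ) (hi : i < 2) :
    Subsingleton (Abelian.Ext.{u} (ModuleCat.of B (B ⧸ J)) (ModuleCat.of B (X ⊗[A] N')) i) := by
  haveI : Module.Finite B (X ⊗[A] N') :=
    Groth.Agent.Lib.Helper9.finite_tensorProduct_of_finite (R := A) (S := B) (M := X) N'
  have h2 := two_le_idealDepth_tensor_finite A B J X hX N'
  exact (le_idealDepth_iff_ext' J (X ⊗[A] N') 2).mp (by exact_mod_cast h2) i hi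

include hX in
/-- the key lemma in `Ext` form. -/
theorem ext_tensor_subsingleton (i : ℕ) (hi : i < 2) :
    Subsingleton (Abelian.Ext.{u} (ModuleCat.of B (B ⧸ J)) (ModuleCat.of B (X ⊗[A] N)) i) := by
  refine ⟨fun a b => ?_⟩
  suffices h : ∀ e : Abelian.Ext.{u} (ModuleCat.of B (B ⧸ J)) (ModuleCat.of B (X ⊗[A] N)) i,
      e = 0 by rw [h a, h b]
  intro e
  interval_cases i
  · obtain ⟨φ, rfl⟩ := (Abelian.Ext.mk₀_bijective _ _).2 e
    obtain ⟨N', hfin, ψ', hψ'⟩ := exists_factor (B := B) X N (B ⧸ J) φ.hom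
    have h0 := ext_finite_subsingleton A B J X hX N N' 0 (by norm_num)
    have hφ : φ = ModuleCat.ofHom ψ' ≫ ModuleCat.ofHom (incl (B := B) X N N') := by
      apply ModuleCat.hom_ext
      exact hψ'.symm
    rw [hφ, ← Abelian.Ext.mk₀_comp_mk₀, Subsingleton.elim (Abelian.Ext.mk₀ (ModuleCat.ofHom ψ')) 0,
      Abelian.Ext.zero_comp]
  · have hS := shortExact_of_linearMaps (Submodule.subtype J) (Submodule.mkQ J)
      (Submodule.injective_subtype J) (Submodule.mkQ_surjective J) (LinearMap.exact_subtype_mkQ J)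
    set S := ModuleCat.shortComplexOfCompEqZero (Submodule.subtype J) (Submodule.mkQ J)
      (LinearMap.exact_subtype_mkQ J).linearMap_comp_eq_zero with hSdef
    have hP : Projective S.X₂ := by
      change Projective (ModuleCat.of B B)
      exact (IsProjective.iff_projective B).mp inferInstance
    obtain ⟨x₁, rfl⟩ := Abelian.Ext.contravariant_sequence_exact₃ hS (ModuleCat.of B (X ⊗[A] N)) e
      (Abelian.Ext.eq_zero_of_projective _) (add_comm 1 0)
    obtain ⟨ψ, rfl⟩ := (Abelian.Ext.mk₀_bijective _ _).2 x₁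
    obtain ⟨N', hfin, ψ', hψ'⟩ := exists_factor (B := B) X N J ψ.hom
    have h1 := ext_finite_subsingleton A B J X hX N N' 1 (by norm_num)
    have hψ : ψ = ModuleCat.ofHom ψ' ≫ ModuleCat.ofHom (incl (B := B) X N N') := by
      apply ModuleCat.hom_ext
      exact hψ'.symm
    rw [hψ, ← Abelian.Ext.mk₀_comp_mk₀, ← Abelian.Ext.comp_assoc_of_third_deg_zero]
    have hz : hS.extClass.comp (Abelian.Ext.mk₀ (ModuleCat.ofHom ψ')) (add_zero 1) = 0 :=
      Subsingleton.elim _ _
    rw [hz, Abelian.Ext.zero_comp]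

include hX in
/-- `Ext^i(T, X ⊗_A N) = 0` for `i < 2` and `T` finite supported in `V(J)`. -/
theorem ext_tensor_subsingleton_of_support (T : Type u) [AddCommGroup T] [Module B T]
    [Module.Finite B T] (hT : Module.support B T ⊆ PrimeSpectrum.zeroLocus (J : Set B))
    (i : ℕ) (hi : i < 2) :
    Subsingleton (Abelian.Ext.{u} (ModuleCat.of B T) (ModuleCat.of B (X ⊗[A] N)) i) := by
  refine subsingleton_ext_of_support_subset (ModuleCat.of B (X ⊗[A] N)) 2 (B ⧸ J)
    (fun i hi => ext_tensor_subsingleton A B J X hX N i hi) T ?_ i hi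
  have h0 : Module.support B (B ⧸ J) = PrimeSpectrum.zeroLocus (J : Set B) := by
    rw [Module.support_eq_zeroLocus, Ideal.annihilator_quotient]
  rw [h0]
  exact hT

end vanish

end Groth.Agent.Lib.Helper16.DDual
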