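import Mathlib
import Groth.Agent.Lib.Helper16.DDual2
import Groth.Agent.Lib.Helper16.LocCohIndepBase

/-!
# Transport of depth two of X ⊗_A N to modules over a B-algebra via local cohomology (for S18718) (helper16)
-/

set_option autoImplicit false
set_option linter.unusedSectionVars false

universe u

open IsLocalRing TensorProduct CategoryTheory

namespace Groth.Agent.Lib.Helper16.DDual

open Groth.Agent.Lib.Helper16.Depth Groth.Agent.Lib.Helper16.LC

section general

variable {R : Type u} [CommRing R] [IsNoetherianRing R] (I : Ideal R)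

/-- vanishing of `H^0_I` and `H^1_I` gives depth at least two (finite modules) -/
theorem two_le_idealDepth_of_subsingleton_H (M : Type u) [AddCommGroup M] [Module R M]
    [Module.Finite R M] (h0 : Subsingleton (LocCoh.H I 0 M)) (h1 : Subsingleton (LocCoh.H I 1 M)) :
    2 ≤ LocCoh.idealDepth I M := by
  by_cases hIM : I • (⊤ : Submodule R M) = ⊤
  · rw [idealDepth_eq_top_of_smul_top_eq_top I M hIM]
    exact le_top
  · by_contra hcon
    push_neg at hcon
    obtain ⟨n, hn⟩ := ENat.ne_top_iff_exists.mp (ne_top_of_lt hcon)
    rw [← hn] at hcon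
    have hn2 : n < 2 := by exact_mod_cast hcon
    have hnt := nontrivial_H_of_idealDepth_eq I M hIM n hn.symm
    interval_cases n
    · exact not_subsingleton _ h0
    · exact not_subsingleton _ h1

omit [IsNoetherianRing R] in
theorem subsingleton_H_of_linearEquiv {M M' : Type u} [AddCommGroup M] [Module R M]
    [AddCommGroup M'] [Module R M'] (e : M ≃ₗ[R] M') (i : ℕ)
    (h : Subsingleton (LocCoh.H I i M')) : Subsingleton (LocCoh.H I i M) := by
  let f := (localCohomology I i).mapIso e.toModuleIso
  refine ⟨fun x y => ?_⟩
  have hinj : Function.Injective f.hom.hom := by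
    intro a b hab
    have := congrArg f.inv.hom hab
    simpa using this
  exact hinj (Subsingleton.elim (α := LocCoh.H I i M') _ _)

end general

section transport

variable (A B : Type u) [CommRing A] [CommRing B] [IsNoetherianRing A] [IsNoetherianRing B]
  [Algebra A B] (J : Ideal B)
  (X : Type u) [AddCommGroup X] [Module B X] [Module A X] [IsScalarTower A B X]
  [Module.Finite B X] [Module.Flat A X]
  (hX : ∀ q : PrimeSpectrum B, J ≤ q.asIdeal →
    2 ≤ LocCoh.depth (Localization.AtPrime q.asIdeal) (EGA4.FibLocMod A B q.asIdeal X))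
  (N : Type u) [AddCommGroup N] [Module A N]

include hX in
theorem subsingleton_H_tensor (i : ℕ) (hi : i < 2) :
    Subsingleton (LocCoh.H J i (X ⊗[A] N)) := by
  apply subsingleton_H_of_forall
  intro k
  exact ext_tensor_subsingleton_of_support A B J X hX N (B ⧸ J ^ k)
    (support_Q_subset J k) i hi

include hX in
/-- transport of the key lemma to a finite module over a `B`-algebra `B'`. -/
theorem two_le_idealDepth_map_of_equiv (B' : Type u) [CommRing B'] [IsNoetherianRing B']
    [Algebra B B'] (Y : Type u) [AddCommGroup Y] [Module B' Y] [Module B Y] [IsScalarTower B B' Y]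
    [Module.Finite B' Y] (ε : Y ≃ₗ[B] X ⊗[A] N) :
    2 ≤ LocCoh.idealDepth (J.map (algebraMap B B')) Y := by
  have hB : ∀ i, i < 2 → Subsingleton (LocCoh.H J i Y) := fun i hi =>
    subsingleton_H_of_linearEquiv J ε i (subsingleton_H_tensor A B J X hX N i hi)
  have hB' : ∀ i, i < 2 → Subsingleton (LocCoh.H (J.map (algebraMap B B')) i Y) := by
    intro i hi
    obtain ⟨φ, -⟩ := Groth.Agent.Lib.Helper16.DTL.semiIso_H (R := B) (R' := B') J i Y
    haveI := hB i hi
    exact φ.toEquiv.subsingleton
  exact two_le_idealDepth_of_subsingleton_H _ Y (hB' 0 (by norm_num)) (hB' 1 (by norm_num))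

end transport

end Groth.Agent.Lib.Helper16.DDual
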