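import Mathlib
import Groth.Agent.Lib.Helper16.DDual3

/-!
# Depth of duals, depth of B from fibre depth, reflexivity of flat modules with fibre depth two (for S18718) (helper16)
-/

set_option autoImplicit false
set_option linter.unusedSectionVars false

universe u

open IsLocalRing TensorProduct CategoryTheory

namespace Groth.Agent.Lib.Helper16.DDual

open Groth.Agent.Lib.Helper16.Depth Groth.Agent.Lib.Helper16.LC Groth.Agent.Lib.Helper18.QGor
  Groth.Agent.Lib.Helper18.CM

section dualDepth

variable {B : Type u} [CommRing B] [IsNoetherianRing B] (J : Ideal B)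

/-- duals of finite modules have depth at least two when the ring has. -/
theorem two_le_idealDepth_dual (h : 2 ≤ LocCoh.idealDepth J B)
    (X : Type u) [AddCommGroup X] [Module B X] [Module.Finite B X] :
    haveI : Module.Finite B (Module.Dual B X) := finite_dual (A := B) X
    2 ≤ LocCoh.idealDepth J (Module.Dual B X) := by
  haveI : Module.Finite B (Module.Dual B X) := finite_dual (A := B) X
  obtain ⟨n, m, g, π, hπ, hex⟩ := exists_presentation_succ (A := B) X
  have hinj : Function.Injective π.dualMap := LinearMap.dualMap_injective_of_surjective hπ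
  have hex' := dualMap_exact g π hex hπ
  have heq : LinearMap.range π.dualMap = LinearMap.ker g.dualMap :=
    (LinearMap.exact_iff.mp hex').symm
  let e : Module.Dual B X ≃ₗ[B] LinearMap.ker g.dualMap :=
    (LinearEquiv.ofInjective π.dualMap hinj).trans (LinearEquiv.ofEq _ _ heq)
  rw [idealDepth_congr (M := Module.Dual B X) (M' := LinearMap.ker g.dualMap) e J]
  apply two_le_idealDepth_ker J g.dualMap
  · have := le_idealDepth_of_free J 2 (by simpa using h) (Module.Dual B (Fin n → B))
    simpa using this
  · have h1 : ((1 : ℕ) : ℕ∞) ≤ LocCoh.idealDepth J B := le_trans (by norm_num) h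
    have := le_idealDepth_of_free J 1 h1 (Module.Dual B (Fin (m + 1) → B))
    simpa using this

end dualDepth

section overA

variable (A B : Type u) [CommRing A] [CommRing B] [IsNoetherianRing A] [IsNoetherianRing B]
  [Algebra A B] [Module.Flat A B] (J : Ideal B)
  (hZ : ∀ q : PrimeSpectrum B, J ≤ q.asIdeal →
    2 ≤ LocCoh.idealDepth (q.asIdeal.map (algebraMap B (EGA4.FibLocRing A B q.asIdeal)))
      (EGA4.FibLocRing A B q.asIdeal))

include hZ in
theorem two_le_idealDepth_self : 2 ≤ LocCoh.idealDepth J B := by
  have := le_idealDepth_of_forall_le_depth J 2 B (fun q hq hJq => by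
    rw [Groth.Agent.Lib.Helper18.Serre.depth_localizedModule_self]
    exact le_depth_self_of_le_idealDepth_fibLocRing A B q 2
      (by simpa using hZ ⟨q, hq⟩ hJq))
  simpa using this

include hZ in
/-- the fibre depth hypothesis for `X = B` in `FibLocMod` form. -/
theorem fibLocMod_self (q : PrimeSpectrum B) (hq : J ≤ q.asIdeal) :
    2 ≤ LocCoh.depth (Localization.AtPrime q.asIdeal) (EGA4.FibLocMod A B q.asIdeal B) := by
  have := le_depth_fibLocMod_self A B q.asIdeal 2 (by simpa using hZ q hq)
  simpa using this

include hZ in
/-- Goal 3a. -/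
theorem isReflexive_of_flat_fibre (F : Type u) [AddCommGroup F] [Module B F] [Module A F]
    [IsScalarTower A B F] [Module.Finite B F] [Module.Flat A F]
    (hFU : ∀ q : PrimeSpectrum B, ¬ J ≤ q.asIdeal →
      Module.Free (Localization.AtPrime q.asIdeal) (LocalizedModule q.asIdeal.primeCompl F))
    (hF2 : ∀ q : PrimeSpectrum B, J ≤ q.asIdeal →
      2 ≤ LocCoh.idealDepth (q.asIdeal.map (algebraMap B (EGA4.FibLocRing A B q.asIdeal)))
        (EGA4.FibLocMod A B q.asIdeal F)) : Module.IsReflexive B F := by
  have hB2 := two_le_idealDepth_self A B J hZ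
  have hB1 : 1 ≤ LocCoh.idealDepth J B := le_trans (by norm_num) hB2
  have h2 : 2 ≤ LocCoh.idealDepth J F := by
    have := le_idealDepth_of_forall_le_depth J 2 F (fun q hq hJq =>
      le_depth_of_le_idealDepth_fibLocMod A B q F 2 (by simpa using hF2 ⟨q, hq⟩ hJq))
    simpa using this
  refine isReflexive_of_two_le_idealDepth F J hB1 (fun q hq => ?_) h2
  haveI := hFU q hq
  infer_instance

end overA

end Groth.Agent.Lib.Helper16.DDual
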