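import Mathlib
import Groth.Agent.Lib.Helper16.DDual4
import Groth.Agent.Lib.Helper16.ExtCovRegular

/-!
# Maps with kernel and cokernel supported in V(J) induce bijections on Hom into modules of J-depth two (for S18718) (helper16)
-/

set_option autoImplicit false
set_option linter.unusedSectionVars false

universe u

open IsLocalRing TensorProduct CategoryTheory

namespace Groth.Agent.Lib.Helper16.DDual

open Groth.Agent.Lib.Helper16.Depth Groth.Agent.Lib.Helper16.LC Groth.Agent.Lib.Helper18.QGor
  Groth.Agent.Lib.Helper18.CM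

section homIso

variable {B : Type u} [CommRing B] [IsNoetherianRing B] (J : Ideal B)

omit [IsNoetherianRing B] in
theorem hom_eq_zero_of_ext_zero {T Z : Type u} [AddCommGroup T] [Module B T] [AddCommGroup Z]
    [Module B Z] (h : Subsingleton (Abelian.Ext.{u} (ModuleCat.of B T) (ModuleCat.of B Z) 0))
    (g : T →ₗ[B] Z) : g = 0 := by
  have h1 : Abelian.Ext.mk₀ (ModuleCat.ofHom g) =
      Abelian.Ext.mk₀ (0 : ModuleCat.of B T ⟶ ModuleCat.of B Z) := Subsingleton.elim _ _
  have h2 := (Abelian.Ext.mk₀_bijective _ _).1 h1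
  have h3 := congrArg ModuleCat.Hom.hom h2
  exact h3

omit [IsNoetherianRing B] in
theorem support_subset_of_forall_exists_smul (T : Type u) [AddCommGroup T] [Module B T]
    (h : ∀ t : T, ∀ q : PrimeSpectrum B, ¬ J ≤ q.asIdeal → ∃ s : B, s ∉ q.asIdeal ∧ s • t = 0) :
    Module.support B T ⊆ PrimeSpectrum.zeroLocus (J : Set B) := by
  intro p hp
  rw [PrimeSpectrum.mem_zeroLocus, SetLike.coe_subset_coe]
  by_contra hJ
  revert hp
  rw [imp_false, Module.notMem_support_iff']
  intro m
  exact h m p hJ

variable {X Y : Type u} [AddCommGroup X] [Module B X] [Module.Finite B X]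
  [AddCommGroup Y] [Module B Y] [Module.Finite B Y] (f : X →ₗ[B] Y)
  (Z : Type u) [AddCommGroup Z] [Module B Z]
  (hZ : ∀ (T : Type u) [AddCommGroup T] [Module B T] [Module.Finite B T],
    Module.support B T ⊆ PrimeSpectrum.zeroLocus (J : Set B) → ∀ i < 2,
      Subsingleton (Abelian.Ext.{u} (ModuleCat.of B T) (ModuleCat.of B Z) i))
  (hK : Module.support B (LinearMap.ker f) ⊆ PrimeSpectrum.zeroLocus (J : Set B))
  (hC : Module.support B (Y ⧸ LinearMap.range f) ⊆ PrimeSpectrum.zeroLocus (J : Set B))

include hZ hK hC in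
/-- A map with kernel and cokernel supported in `V(J)` induces a bijection on `Hom(-, Z)` when
`Z` has `J`-depth at least two. -/
theorem precomp_bijective : Function.Bijective (fun g : Y →ₗ[B] Z => g ∘ₗ f) := by
  constructor
  · intro g₁ g₂ h12
    have h0 : (g₁ - g₂) ∘ₗ f = 0 := by
      rw [LinearMap.sub_comp]
      exact sub_eq_zero.mpr h12
    have hle : LinearMap.range f ≤ LinearMap.ker (g₁ - g₂) := by
      rintro _ ⟨x, rfl⟩
      exact LinearMap.congr_fun h0 x
    have hbar : (LinearMap.range f).liftQ (g₁ - g₂) hle = 0 :=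
      hom_eq_zero_of_ext_zero (hZ _ hC 0 (by norm_num)) _
    have : g₁ - g₂ = 0 := by
      ext y
      have := LinearMap.congr_fun hbar (Submodule.Quotient.mk y)
      simpa using this
    exact sub_eq_zero.mp this
  · intro θ
    have hθK : θ ∘ₗ (LinearMap.ker f).subtype = 0 :=
      hom_eq_zero_of_ext_zero (hZ _ hK 0 (by norm_num)) _
    have hle : LinearMap.ker f ≤ LinearMap.ker θ := by
      intro x hx
      exact LinearMap.congr_fun hθK ⟨x, hx⟩
    let θbar : LinearMap.range f →ₗ[B] Z :=
      ((LinearMap.ker f).liftQ θ hle) ∘ₗ f.quotKerEquivRange.symm.toLinearMap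
    have hθbar : ∀ x, θbar (f.rangeRestrict x) = θ x := by
      intro x
      have h1 : f.quotKerEquivRange.symm (f.rangeRestrict x) = Submodule.Quotient.mk x := by
        rw [LinearEquiv.symm_apply_eq]
        rfl
      change ((LinearMap.ker f).liftQ θ hle) (f.quotKerEquivRange.symm (f.rangeRestrict x)) = θ x
      rw [h1]
      rfl
    have hS := shortExact_of_linearMaps (LinearMap.range f).subtype (LinearMap.range f).mkQ
      (Submodule.injective_subtype _) (Submodule.mkQ_surjective _)
      (LinearMap.exact_subtype_mkQ _)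
    have hE1 := hZ (Y ⧸ LinearMap.range f) hC 1 (by norm_num)
    obtain ⟨x₂, hx₂⟩ := Abelian.Ext.contravariant_sequence_exact₁ hS (ModuleCat.of B Z)
      (Abelian.Ext.mk₀ (ModuleCat.ofHom θbar)) (add_zero 1) (Subsingleton.elim _ _)
    obtain ⟨g, rfl⟩ := (Abelian.Ext.mk₀_bijective _ _).2 x₂
    rw [Abelian.Ext.mk₀_comp_mk₀] at hx₂
    have h2 := (Abelian.Ext.mk₀_bijective _ _).1 hx₂
    have h3 : g.hom ∘ₗ (LinearMap.range f).subtype = θbar := congrArg ModuleCat.Hom.hom h2
    refine ⟨g.hom, ?_⟩
    ext x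
    have := LinearMap.congr_fun h3 (f.rangeRestrict x)
    rw [hθbar] at this
    exact this

end homIso

end Groth.Agent.Lib.Helper16.DDual
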