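import Mathlib
import Groth.Agent.Lib.Helper16.DDual5

/-!
# Base change of the biduality map: bijectivity after double dual (Goal 2 of S18718) (helper16)
-/

set_option autoImplicit false
set_option linter.unusedSectionVars false

universe u

open IsLocalRing TensorProduct CategoryTheory

namespace Groth.Agent.Lib.Helper16.DDual

open Groth.Agent.Lib.Helper16.Depth Groth.Agent.Lib.Helper16.LC Groth.Agent.Lib.Helper18.QGor
  Groth.Agent.Lib.Helper18.CM

section supports

variable {B : Type u} [CommRing B] [IsNoetherianRing B] (J : Ideal B)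
  (F : Type u) [AddCommGroup F] [Module B F] [Module.Finite B F]
  (hFU : ∀ q : PrimeSpectrum B, ¬ J ≤ q.asIdeal →
    Module.Free (Localization.AtPrime q.asIdeal) (LocalizedModule q.asIdeal.primeCompl F))

include hFU in
theorem support_ker_eval :
    Module.support B (LinearMap.ker (Module.Dual.eval B F)) ⊆
      PrimeSpectrum.zeroLocus (J : Set B) := by
  apply support_subset_of_forall_exists_smul
  rintro ⟨k, hk⟩ q hq
  haveI := hFU q hq
  have hbij := Module.bijective_dual_eval (Localization.AtPrime q.asIdeal)
    (LocalizedModule q.asIdeal.primeCompl F)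
  obtain ⟨s, hs, hsk⟩ := exists_smul_eq_zero_of_eval_eq_zero q.asIdeal.primeCompl F hbij.1 k
    (LinearMap.mem_ker.mp hk)
  exact ⟨s, hs, Subtype.ext hsk⟩

include hFU in
theorem support_coker_eval :
    Module.support B (Module.Dual B (Module.Dual B F) ⧸ LinearMap.range (Module.Dual.eval B F)) ⊆
      PrimeSpectrum.zeroLocus (J : Set B) := by
  apply support_subset_of_forall_exists_smul
  intro t q hq
  obtain ⟨c, rfl⟩ := Submodule.Quotient.mk_surjective _ t
  haveI := hFU q hq
  have hbij := Module.bijective_dual_eval (Localization.AtPrime q.asIdeal)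
    (LocalizedModule q.asIdeal.primeCompl F)
  obtain ⟨s, hs, hsc⟩ := exists_smul_mem_range_eval q.asIdeal.primeCompl F hbij.2 c
  refine ⟨s, hs, ?_⟩
  rw [← Submodule.Quotient.mk_smul, Submodule.Quotient.mk_eq_zero]
  exact hsc

end supports

section goal2

variable (A B : Type u) [CommRing A] [CommRing B] [IsNoetherianRing A] [IsNoetherianRing B]
  [Algebra A B]
  (A' B' : Type u) [CommRing A'] [CommRing B'] [IsNoetherianRing A'] [IsNoetherianRing B']
  [Algebra A A'] [Algebra B B'] [Algebra A' B'] [Algebra A B'] [IsScalarTower A B B']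
  [IsScalarTower A A' B'] [hpo : Algebra.IsPushout A B A' B'] [Module.Flat A B] (J : Ideal B)
  (hZ : ∀ q : PrimeSpectrum B, J ≤ q.asIdeal →
    2 ≤ LocCoh.idealDepth (q.asIdeal.map (algebraMap B (EGA4.FibLocRing A B q.asIdeal)))
      (EGA4.FibLocRing A B q.asIdeal))

include hZ hpo in
/-- `B'` has `J`-depth at least two as a `B`-module, in `Ext` form. -/
theorem ext_pushout_subsingleton (T : Type u) [AddCommGroup T] [Module B T] [Module.Finite B T]
    (hT : Module.support B T ⊆ PrimeSpectrum.zeroLocus (J : Set B)) (i : ℕ) (hi : i < 2) :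
    Subsingleton (Abelian.Ext.{u} (ModuleCat.of B T) (ModuleCat.of B B') i) :=
  Groth.Agent.Lib.Helper16.ExtCov.subsingleton_ext_of_linearEquiv
    (Algebra.IsPushout.equiv A B A' B').toLinearEquiv i
    (ext_tensor_subsingleton_of_support A B J B (fibLocMod_self A B J hZ) A' T hT i hi)

variable (F : Type u) [AddCommGroup F] [Module B F] [Module.Finite B F]
  (hFU : ∀ q : PrimeSpectrum B, ¬ J ≤ q.asIdeal →
    Module.Free (Localization.AtPrime q.asIdeal) (LocalizedModule q.asIdeal.primeCompl F))

include hZ hFU hpo in
theorem dualMap_baseChange_eval_bijective :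
    Function.Bijective ((Module.Dual.eval B F).baseChange B').dualMap := by
  haveI : Module.Finite B (Module.Dual B F) := finite_dual (A := B) F
  haveI : Module.Finite B (Module.Dual B (Module.Dual B F)) := finite_dual (A := B) _
  have h1 := precomp_bijective J (Module.Dual.eval B F) B'
    (fun T _ _ _ hT i hi => ext_pushout_subsingleton A B A' B' J hZ T hT i hi)
    (support_ker_eval J F hFU) (support_coker_eval J F hFU)
  let eX : (F →ₗ[B] B') ≃ₗ[B'] Module.Dual B' (B' ⊗[B] F) := LinearMap.liftBaseChangeEquiv B'
  let eY : (Module.Dual B (Module.Dual B F) →ₗ[B] B') ≃ₗ[B']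
      Module.Dual B' (B' ⊗[B] Module.Dual B (Module.Dual B F)) := LinearMap.liftBaseChangeEquiv B'
  have hcomm : ∀ g : Module.Dual B (Module.Dual B F) →ₗ[B] B',
      ((Module.Dual.eval B F).baseChange B').dualMap (eY g) =
        eX (g ∘ₗ Module.Dual.eval B F) := by
    intro g
    apply LinearMap.ext
    intro t
    induction t using TensorProduct.induction_on with
    | zero => rw [map_zero, map_zero]
    | tmul b x => rfl
    | add a b ha hb => rw [map_add, map_add, ha, hb]
  have hfun : ⇑((Module.Dual.eval B F).baseChange B').dualMap =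
      eX ∘ (fun g : Module.Dual B (Module.Dual B F) →ₗ[B] B' => g ∘ₗ Module.Dual.eval B F) ∘
        eY.symm := by
    funext φ
    obtain ⟨g, rfl⟩ := eY.surjective φ
    simp only [Function.comp_apply, LinearEquiv.symm_apply_apply]
    exact hcomm g
  rw [hfun]
  exact eX.bijective.comp (h1.comp eY.symm.bijective)

include hZ hFU hpo in
/-- Goal 2. -/
theorem ddualMap_baseChange_eval_bijective :
    Function.Bijective ((Module.Dual.eval B F).baseChange B').dualMap.dualMap := by
  have hb := dualMap_baseChange_eval_bijective A B A' B' J hZ F hFU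
  let L := LinearEquiv.ofBijective ((Module.Dual.eval B F).baseChange B').dualMap hb
  have : ((Module.Dual.eval B F).baseChange B').dualMap.dualMap = (L.dualMap : _ →ₗ[B'] _) := rfl
  rw [this]
  exact L.dualMap.bijective

end goal2

end Groth.Agent.Lib.Helper16.DDual
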