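import Mathlib
import Groth.Agent.Lib.Helper16.DDual6

/-!
# Base change of reflexive modules with fibrewise depth two; main theorem for S18718 (helper16)
-/

set_option autoImplicit false
set_option linter.unusedSectionVars false

universe u

open IsLocalRing TensorProduct CategoryTheory

namespace Groth.Agent.Lib.Helper16.DDual

open Groth.Agent.Lib.Helper16.Depth Groth.Agent.Lib.Helper16.LC Groth.Agent.Lib.Helper18.QGor
  Groth.Agent.Lib.Helper18.CM

section free

variable {B B' : Type u} [CommRing B] [CommRing B'] [Algebra B B']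
  (F : Type u) [AddCommGroup F] [Module B F]

/-- freeness of stalks is preserved by base change -/
theorem free_localized_baseChange (p' : Ideal B') [p'.IsPrime]
    (hfree : Module.Free (Localization.AtPrime (p'.comap (algebraMap B B')))
      (LocalizedModule (p'.comap (algebraMap B B')).primeCompl F)) :
    Module.Free (Localization.AtPrime p') (LocalizedModule p'.primeCompl (B' ⊗[B] F)) := by
  set q := p'.comap (algebraMap B B') with hq
  let φ : Localization.AtPrime q →+* Localization.AtPrime p' :=
    Localization.localRingHom q p' (algebraMap B B') rfl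
  letI : Algebra (Localization.AtPrime q) (Localization.AtPrime p') := φ.toAlgebra
  haveI : IsScalarTower B (Localization.AtPrime q) (Localization.AtPrime p') :=
    IsScalarTower.of_algebraMap_eq (fun x => by
      change algebraMap B (Localization.AtPrime p') x = φ (algebraMap B _ x)
      rw [Localization.localRingHom_to_map]
      exact IsScalarTower.algebraMap_apply B B' (Localization.AtPrime p') x)
  have hbc2 : IsBaseChange (Localization.AtPrime p')
      (LocalizedModule.mkLinearMap p'.primeCompl (B' ⊗[B] F)) :=
    IsLocalizedModule.isBaseChange p'.primeCompl (Localization.AtPrime p') _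
  let e1 := hbc2.equiv
  let e1' := TensorProduct.AlgebraTensorModule.cancelBaseChange B B' (Localization.AtPrime p')
    (Localization.AtPrime p') F
  let e2 := TensorProduct.AlgebraTensorModule.cancelBaseChange B (Localization.AtPrime q)
    (Localization.AtPrime p') (Localization.AtPrime p') F
  let e3 := (IsLocalizedModule.isBaseChange q.primeCompl (Localization.AtPrime q)
    (LocalizedModule.mkLinearMap q.primeCompl F)).equiv
  haveI : Module.Free (Localization.AtPrime q) (Localization.AtPrime q ⊗[B] F) :=
    Module.Free.of_equiv e3.symm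
  haveI : Module.Free (Localization.AtPrime p')
      (Localization.AtPrime p' ⊗[Localization.AtPrime q] (Localization.AtPrime q ⊗[B] F)) :=
    inferInstance
  haveI : Module.Free (Localization.AtPrime p') (Localization.AtPrime p' ⊗[B] F) :=
    Module.Free.of_equiv e2
  haveI : Module.Free (Localization.AtPrime p')
      (Localization.AtPrime p' ⊗[B'] (B' ⊗[B] F)) := Module.Free.of_equiv e1'.symm
  exact Module.Free.of_equiv e1

end free

section goal3

variable (A B : Type u) [CommRing A] [CommRing B] [IsNoetherianRing A] [IsNoetherianRing B]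
  [Algebra A B]
  (A' B' : Type u) [CommRing A'] [CommRing B'] [IsNoetherianRing A'] [IsNoetherianRing B']
  [Algebra A A'] [Algebra B B'] [Algebra A' B'] [Algebra A B'] [IsScalarTower A B B']
  [IsScalarTower A A' B'] [hpo : Algebra.IsPushout A B A' B'] [Module.Flat A B] (J : Ideal B)
  (hZ : ∀ q : PrimeSpectrum B, J ≤ q.asIdeal →
    2 ≤ LocCoh.idealDepth (q.asIdeal.map (algebraMap B (EGA4.FibLocRing A B q.asIdeal)))
      (EGA4.FibLocRing A B q.asIdeal))
  (F : Type u) [AddCommGroup F] [Module B F] [Module A F] [IsScalarTower A B F]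
  [Module.Finite B F]

/-- `B' ⊗_B F ≃ F ⊗_A A'`, `B`-linearly. -/
noncomputable def tensorEquiv : B' ⊗[B] F ≃ₗ[B] F ⊗[A] A' :=
  (TensorProduct.comm B B' F) ≪≫ₗ
  (TensorProduct.congr (LinearEquiv.refl B F)
    (Algebra.IsPushout.equiv A B A' B').toLinearEquiv.symm) ≪≫ₗ
  (TensorProduct.AlgebraTensorModule.cancelBaseChange A B B F A')

include hZ hpo in
theorem two_le_idealDepth_pushout :
    2 ≤ LocCoh.idealDepth (J.map (algebraMap B B')) B' :=
  two_le_idealDepth_map_of_equiv A B J B (fibLocMod_self A B J hZ) A' B' B'
    (Algebra.IsPushout.equiv A B A' B').toLinearEquiv.symm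

include hZ hpo in
/-- Goal 3b. -/
theorem isReflexive_baseChange [Module.Flat A F]
    (hFU : ∀ q : PrimeSpectrum B, ¬ J ≤ q.asIdeal →
      Module.Free (Localization.AtPrime q.asIdeal) (LocalizedModule q.asIdeal.primeCompl F))
    (hF2 : ∀ q : PrimeSpectrum B, J ≤ q.asIdeal →
      2 ≤ LocCoh.idealDepth (q.asIdeal.map (algebraMap B (EGA4.FibLocRing A B q.asIdeal)))
        (EGA4.FibLocMod A B q.asIdeal F)) :
    Module.IsReflexive B' (B' ⊗[B] F) := by
  have hA2 := two_le_idealDepth_pushout A B A' B' J hZ
  have hA : 1 ≤ LocCoh.idealDepth (J.map (algebraMap B B')) B' := le_trans (by norm_num) hA2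
  have hG : 2 ≤ LocCoh.idealDepth (J.map (algebraMap B B')) (B' ⊗[B] F) :=
    two_le_idealDepth_map_of_equiv A B J F (fun q hq => by
      have := le_depth_fibLocMod A B q.asIdeal F 2 (by simpa using hF2 q hq)
      simpa using this) A' B' (B' ⊗[B] F) (tensorEquiv A B A' B' F)
  refine isReflexive_of_two_le_idealDepth (B' ⊗[B] F) (J.map (algebraMap B B')) hA
    (fun p' hp' => ?_) hG
  have hq : ¬ J ≤ p'.asIdeal.comap (algebraMap B B') :=
    fun h => hp' (Ideal.map_le_iff_le_comap.mpr h)
  haveI := free_localized_baseChange F p'.asIdeal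
    (hFU ⟨p'.asIdeal.comap (algebraMap B B'), inferInstance⟩ hq)
  infer_instance

include hZ hpo in
/-- S18718. -/
theorem main
    (hFU : ∀ q : PrimeSpectrum B, ¬ J ≤ q.asIdeal →
      Module.Free (Localization.AtPrime q.asIdeal) (LocalizedModule q.asIdeal.primeCompl F)) :
    2 ≤ LocCoh.idealDepth J (Module.Dual B (Module.Dual B F)) ∧
    Function.Bijective (((Module.Dual.eval B F).baseChange B').dualMap.dualMap) ∧
    (Module.Flat A F →
      (∀ q : PrimeSpectrum B, J ≤ q.asIdeal →
        2 ≤ LocCoh.idealDepth (q.asIdeal.map (algebraMap B (EGA4.FibLocRing A B q.asIdeal)))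
          (EGA4.FibLocMod A B q.asIdeal F)) →
      Module.IsReflexive B F ∧ Module.IsReflexive B' (B' ⊗[B] F)) := by
  haveI : Module.Finite B (Module.Dual B F) := finite_dual (A := B) F
  refine ⟨two_le_idealDepth_dual J (two_le_idealDepth_self A B J hZ) (Module.Dual B F),
    ddualMap_baseChange_eval_bijective A B A' B' J hZ F hFU, fun hflat hF2 => ?_⟩
  haveI := hflat
  exact ⟨isReflexive_of_flat_fibre A B J hZ F hFU hF2,
    isReflexive_baseChange A B A' B' J hZ F hFU hF2⟩

end goal3

end Groth.Agent.Lib.Helper16.DDual
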