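import Mathlib
import Groth.Agent.Lib.Helper25.RegularSmooth
import Groth.Agent.Lib.Helper20.RegularUFD

/-!
# Logarithmic differentials of units of the fraction field with log poles along primes (helper16, S18578)
-/

set_option autoImplicit false
universe u

noncomputable section

namespace Groth.Agent.Lib.Helper16.DLog
open TensorProduct KaehlerDifferential

section Basic
variable (k : Type*) {K : Type*} [Field k] [Field K] [Algebra k K]

/-- logarithmic differential -/
def dlog (x : K) : Ω[K⁄k] := x⁻¹ • D k K x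

variable {k}

lemma dlog_mul {x y : K} (hx : x ≠ 0) (hy : y ≠ 0) : dlog k (x * y) = dlog k x + dlog k y := by
  simp only [dlog, Derivation.leibniz, smul_add, smul_smul, mul_inv]
  rw [add_comm]
  congr 1
  · congr 1; field_simp
  · congr 1; field_simp

lemma dlog_one : dlog k (1 : K) = 0 := by
  simp [dlog]

lemma dlog_inv {x : K} (hx : x ≠ 0) : dlog k x⁻¹ = - dlog k x := by
  have h := dlog_mul (k := k) hx (inv_ne_zero hx)
  rw [mul_inv_cancel₀ hx, dlog_one] at h
  exact eq_neg_of_add_eq_zero_right h.symm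

lemma dlog_div {x y : K} (hx : x ≠ 0) (hy : y ≠ 0) : dlog k (x / y) = dlog k x - dlog k y := by
  rw [div_eq_mul_inv, dlog_mul hx (inv_ne_zero hy), dlog_inv hy, sub_eq_add_neg]

lemma dlog_pow {x : K} (hx : x ≠ 0) (n : ℕ) : dlog k (x ^ n) = n • dlog k x := by
  induction n with
  | zero => simp [dlog_one]
  | succ n ih => rw [pow_succ, dlog_mul (pow_ne_zero _ hx) hx, ih, succ_nsmul]

lemma dlog_prod {ι : Type*} (s : Finset ι) (x : ι → K) (hx : ∀ i ∈ s, x i ≠ 0) :
    dlog k (∏ i ∈ s, x i) = ∑ i ∈ s, dlog k (x i) := by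
  classical
  induction s using Finset.induction_on with
  | empty => simp [dlog_one]
  | insert i s hi ih =>
    rw [Finset.prod_insert hi, Finset.sum_insert hi,
      dlog_mul (hx i (Finset.mem_insert_self _ _))
        (Finset.prod_ne_zero_iff.mpr fun j hj => hx j (Finset.mem_insert_of_mem hj)),
      ih fun j hj => hx j (Finset.mem_insert_of_mem hj)]

end Basic

section Key
variable {k R : Type u} [Field k] [CharZero k] [CommRing R] [IsDomain R] [Algebra k R]
  [Algebra.FormallySmooth k R] [Algebra.EssFiniteType k R]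

/-- for a prime element `π`, the differential `dπ` does not lie in `π Ω`, even up to a factor
prime to `π` -/
theorem D_prime_not_mem (π : R) (hπ : Prime π) (s : R) (hs : ¬ π ∣ s) (ω : Ω[R⁄k])
    (h : s • D k R π = π • ω) : False := by
  set P : Ideal R := Ideal.span {π} with hP
  have hPp : P.IsPrime := (Ideal.span_singleton_prime hπ.ne_zero).mpr hπ
  set S := Localization.AtPrime P
  have hsP : s ∈ P.primeCompl := fun hmem => hs (Ideal.mem_span_singleton.mp hmem)
  have hu : IsUnit (algebraMap R S s) := IsLocalization.map_units S ⟨s, hsP⟩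
  obtain ⟨u, hu⟩ := hu
  -- transport to S
  have h1 := congrArg (KaehlerDifferential.map k k R S) h
  rw [LinearMap.map_smul, LinearMap.map_smul, KaehlerDifferential.map_D, ← algebraMap_smul S s,
    ← algebraMap_smul S π, ← hu] at h1
  have h2 : D k S (algebraMap R S π) =
      algebraMap R S π • ((↑u⁻¹ : S) • KaehlerDifferential.map k k R S ω) := by
    rw [smul_comm, ← h1, smul_smul, Units.inv_mul, one_smul]
  set ω' := (↑u⁻¹ : S) • KaehlerDifferential.map k k R S ω with hω'
  -- residue field
  set κ := IsLocalRing.ResidueField S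
  have hsurj : Function.Surjective (algebraMap S κ) := IsLocalRing.residue_surjective
  have : Algebra.FormallySmooth R S := Algebra.FormallySmooth.of_isLocalization P.primeCompl
  have : Algebra.FormallySmooth k S := Algebra.FormallySmooth.comp k R S
  have : Algebra.EssFiniteType R S := Algebra.EssFiniteType.of_isLocalization S P.primeCompl
  have : Algebra.EssFiniteType k S := Algebra.EssFiniteType.comp k R S
  have : Algebra.FiniteType S κ := Algebra.FiniteType.of_surjective
    (IsScalarTower.toAlgHom S S κ) hsurj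
  have : Algebra.EssFiniteType k κ := Algebra.EssFiniteType.comp k S κ
  have hfs : Algebra.FormallySmooth k κ := inferInstance
  obtain ⟨l, hl⟩ := (Algebra.FormallySmooth.iff_split_injection (R := k) (P := S) (A := κ)
    hsurj).mp hfs
  have hπm : algebraMap R S π ∈ IsLocalRing.maximalIdeal S :=
    (IsLocalization.AtPrime.to_map_mem_maximal_iff S P π).mpr (Ideal.mem_span_singleton_self π)
  have hker : RingHom.ker (algebraMap S κ) = IsLocalRing.maximalIdeal S :=
    IsLocalRing.ker_residue
  have hπk : algebraMap R S π ∈ RingHom.ker (algebraMap S κ) := by rw [hker]; exact hπm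
  have h3 : kerCotangentToTensor k S κ (Ideal.toCotangent _ ⟨algebraMap R S π, hπk⟩) = 0 := by
    rw [kerCotangentToTensor_toCotangent]
    change (1 : κ) ⊗ₜ[S] D k S (algebraMap R S π) = 0
    rw [h2, ← TensorProduct.smul_tmul, Algebra.smul_def, mul_one, RingHom.mem_ker.mp hπk,
      TensorProduct.zero_tmul]
  have h4 : Ideal.toCotangent _ ⟨algebraMap R S π, hπk⟩ = 0 := by
    have := congrArg l h3
    rw [← LinearMap.comp_apply, hl, LinearMap.id_apply, map_zero] at this
    exact this
  rw [Ideal.toCotangent_eq_zero] at h4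
  change algebraMap R S π ∈ RingHom.ker (algebraMap S κ) ^ 2 at h4
  have hmax : IsLocalRing.maximalIdeal S = Ideal.span {algebraMap R S π} := by
    rw [← Localization.AtPrime.map_eq_maximalIdeal]
    have : Ideal.map (algebraMap R S) P = Ideal.map (algebraMap R S) (Ideal.span {π}) := rfl
    rw [this, Ideal.map_span, Set.image_singleton]
  rw [hker, hmax, Ideal.span_singleton_pow, Ideal.mem_span_singleton] at h4
  obtain ⟨t, ht⟩ := h4
  have hne : algebraMap R S π ≠ 0 := by
    rw [Ne, IsLocalization.to_map_eq_zero_iff S P.primeCompl_le_nonZeroDivisors]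
    exact hπ.ne_zero
  have h5 : algebraMap R S π * t = 1 := by
    have : algebraMap R S π * 1 = algebraMap R S π * (algebraMap R S π * t) := by
      rw [mul_one, ← mul_assoc, ← sq]; exact ht
    exact (mul_left_cancel₀ hne this).symm
  have : IsUnit (algebraMap R S π) := IsUnit.of_mul_eq_one _ h5
  exact (IsLocalRing.mem_maximalIdeal _).mp hπm this

end Key

section Lattice
variable {k R K : Type u} [Field k] [CharZero k] [CommRing R] [IsDomain R] [Algebra k R]
  [Algebra.FormallySmooth k R] [Algebra.EssFiniteType k R]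
  [Field K] [Algebra R K] [IsFractionRing R K] [Algebra k K] [IsScalarTower k R K]

omit [CharZero k] [Algebra.EssFiniteType k R] in
lemma map_injective : Function.Injective (KaehlerDifferential.map k k R K) := by
  have : IsLocalizedModule (nonZeroDivisors R) (KaehlerDifferential.map k k R K) :=
    KaehlerDifferential.isLocalizedModule_map k R K (nonZeroDivisors R)
  rw [injective_iff_map_eq_zero]
  intro ω hω
  obtain ⟨s, hs⟩ := (IsLocalizedModule.eq_zero_iff (nonZeroDivisors R) _).mp hω
  have hreg : IsSMulRegular Ω[R⁄k] (s : R) :=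
    Module.IsTorsionFree.isSMulRegular (IsRegular.of_ne_zero (nonZeroDivisors.coe_ne_zero s))
  apply hreg
  change (s : R) • ω = (s : R) • 0
  rw [smul_zero]
  exact hs

variable (k K) in
/-- forms on the fraction field which are regular at the prime `π` -/
def Lam (π : R) (hπ : Prime π) : Submodule R Ω[K⁄k] where
  carrier := {ξ | ∃ s : R, ¬ π ∣ s ∧ ∃ ω : Ω[R⁄k], s • ξ = KaehlerDifferential.map k k R K ω}
  zero_mem' := ⟨1, hπ.not_dvd_one, 0, by simp⟩
  add_mem' := by
    rintro ξ₁ ξ₂ ⟨s₁, h₁, ω₁, e₁⟩ ⟨s₂, h₂, ω₂, e₂⟩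
    refine ⟨s₁ * s₂, fun h => (hπ.dvd_or_dvd h).elim h₁ h₂, s₂ • ω₁ + s₁ • ω₂, ?_⟩
    rw [map_add, LinearMap.map_smul, LinearMap.map_smul, ← e₁, ← e₂, smul_add, smul_smul, smul_smul,
      mul_comm s₁ s₂]
  smul_mem' := by
    rintro r ξ ⟨s, h, ω, e⟩
    refine ⟨s, h, r • ω, ?_⟩
    rw [LinearMap.map_smul, ← e, smul_comm]

omit [IsDomain R] [CharZero k] [Algebra.FormallySmooth k R] [Algebra.EssFiniteType k R]
  [IsFractionRing R K] in
lemma map_mem_Lam (π : R) (hπ : Prime π) (ω : Ω[R⁄k]) :
    KaehlerDifferential.map k k R K ω ∈ Lam k K π hπ :=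
  ⟨1, hπ.not_dvd_one, ω, by simp⟩

omit [IsDomain R] [CharZero k] [Algebra.FormallySmooth k R] [Algebra.EssFiniteType k R] in
lemma dlog_mem_Lam (π : R) (hπ : Prime π) (x : R) (hx : ¬ π ∣ x) :
    dlog k (algebraMap R K x) ∈ Lam k K π hπ := by
  have hx0 : x ≠ 0 := fun h => hx (h ▸ dvd_zero π)
  have hxK : algebraMap R K x ≠ 0 := by
    rw [Ne, map_eq_zero_iff _ (IsFractionRing.injective R K)]; exact hx0
  refine ⟨x, hx, D k R x, ?_⟩
  rw [KaehlerDifferential.map_D, dlog, ← algebraMap_smul K x, smul_smul, mul_inv_cancel₀ hxK,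
    one_smul]

/-- a nonzero multiple of `dlog π` is not regular at `π` -/
theorem zsmul_dlog_not_mem_Lam (π : R) (hπ : Prime π) (n : ℤ) (hn : n ≠ 0)
    (h : n • dlog k (algebraMap R K π) ∈ Lam k K π hπ) : False := by
  obtain ⟨s, hs, ω, e⟩ := h
  have hπK : algebraMap R K π ≠ 0 := by
    rw [Ne, map_eq_zero_iff _ (IsFractionRing.injective R K)]; exact hπ.ne_zero
  have e2 : KaehlerDifferential.map k k R K (((n : R) * s) • D k R π) =
      KaehlerDifferential.map k k R K (π • ω) := by
    rw [LinearMap.map_smul, LinearMap.map_smul, ← e, KaehlerDifferential.map_D, dlog,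
      ← algebraMap_smul K π, ← algebraMap_smul K s, ← algebraMap_smul K ((n : R) * s), map_mul,
      map_intCast, ← Int.cast_smul_eq_zsmul K n, smul_smul, smul_smul, smul_smul]
    congr 1
    field_simp
  have e3 := map_injective (k := k) (K := K) e2
  refine D_prime_not_mem π hπ ((n : R) * s) ?_ ω e3
  intro hdvd
  rcases hπ.dvd_or_dvd hdvd with h1 | h1
  · have hu : IsUnit ((n : ℤ) : R) := by
      have : ((n : ℤ) : R) = algebraMap k R (n : k) := by simp
      rw [this]
      exact (IsUnit.mk0 (n : k) (Int.cast_ne_zero.mpr hn)).map _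
    exact hπ.not_isUnit (isUnit_of_dvd_unit h1 hu)
  · exact hs h1

end Lattice

section Factor
variable {k R K : Type u} [Field k] [CharZero k] [CommRing R] [IsDomain R] [Algebra k R]
  [Algebra.FormallySmooth k R] [Algebra.EssFiniteType k R]
  [Field K] [Algebra R K] [IsFractionRing R K] [Algebra k K] [IsScalarTower k R K]

lemma not_dvd_aux [UniqueFactorizationMonoid R] (π : R) (hπ : Prime π) (a b : R) (ha : a ≠ 0) (hb : b ≠ 0) (hπb : ¬ π ∣ b)
    (h : dlog k (algebraMap R K a / algebraMap R K b) ∈ Lam k K π hπ) : ¬ π ∣ a := by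
  intro hπa
  have hinj := IsFractionRing.injective R K
  obtain ⟨n, a', ha', rfl⟩ := WfDvdMonoid.max_power_factor ha hπ.irreducible
  have hn : n ≠ 0 := by
    rintro rfl
    rw [pow_zero, one_mul] at hπa
    exact ha' hπa
  have ha'0 : a' ≠ 0 := fun h0 => ha' (h0 ▸ dvd_zero π)
  have hπK : algebraMap R K π ≠ 0 := by
    rw [Ne, map_eq_zero_iff _ hinj]; exact hπ.ne_zero
  have ha'K : algebraMap R K a' ≠ 0 := by rw [Ne, map_eq_zero_iff _ hinj]; exact ha'0
  have hbK : algebraMap R K b ≠ 0 := by rw [Ne, map_eq_zero_iff _ hinj]; exact hb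
  rw [map_mul, map_pow, dlog_div (mul_ne_zero (pow_ne_zero _ hπK) ha'K) hbK,
    dlog_mul (pow_ne_zero _ hπK) ha'K, dlog_pow hπK] at h
  have h1 := dlog_mem_Lam (k := k) (K := K) π hπ a' ha'
  have h2 := dlog_mem_Lam (k := k) (K := K) π hπ b hπb
  have h3 : n • dlog k (algebraMap R K π) ∈ Lam k K π hπ := by
    have := Submodule.add_mem _ (Submodule.sub_mem _ h h1) h2
    convert this using 1
    abel
  refine zsmul_dlog_not_mem_Lam (k := k) (K := K) π hπ (n : ℤ) (by exact_mod_cast hn) ?_
  rw [natCast_zsmul]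
  exact h3

/-- if `dlog (a/b)` is regular at `π` for a reduced fraction `a/b`, then `π` divides neither `a`
nor `b` -/
theorem not_dvd_of_dlog_mem [UniqueFactorizationMonoid R] (π : R) (hπ : Prime π) (a b : R)
    (ha : a ≠ 0) (hb : b ≠ 0)
    (hrel : IsRelPrime a b)
    (h : dlog k (algebraMap R K a / algebraMap R K b) ∈ Lam k K π hπ) : ¬ π ∣ a ∧ ¬ π ∣ b := by
  have hinj := IsFractionRing.injective R K
  have haK : algebraMap R K a ≠ 0 := by rw [Ne, map_eq_zero_iff _ hinj]; exact ha
  have hbK : algebraMap R K b ≠ 0 := by rw [Ne, map_eq_zero_iff _ hinj]; exact hb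
  constructor
  · intro hπa
    have hπb : ¬ π ∣ b := fun hπb => hπ.not_isUnit (hrel hπa hπb)
    exact not_dvd_aux π hπ a b ha hb hπb h hπa
  · intro hπb
    have hπa : ¬ π ∣ a := fun hπa => hπ.not_isUnit (hrel hπa hπb)
    have h' : dlog k (algebraMap R K b / algebraMap R K a) ∈ Lam k K π hπ := by
      rw [dlog_div hbK haK]
      rw [dlog_div haK hbK] at h
      have := Submodule.neg_mem _ h
      rwa [neg_sub] at this
    exact not_dvd_aux π hπ b a hb ha hπa h' hπb

omit [CharZero k] [Algebra k R] [Algebra.FormallySmooth k R] [Algebra.EssFiniteType k R]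
  [Field k] [IsDomain R] in
/-- an element all of whose prime divisors are associated to some `f i` is a unit times a product
of powers of the `f i` -/
theorem exists_eq_unit_mul_prod [UniqueFactorizationMonoid R] {r : ℕ} (f : Fin r → R) (a : R)
    (ha : a ≠ 0) (h : ∀ π : R, Prime π → π ∣ a → ∃ i, Associated π (f i)) :
    ∃ (v : Rˣ) (e : Fin r → ℕ), a = v * ∏ i, f i ^ e i := by
  classical
  induction a using UniqueFactorizationMonoid.induction_on_prime with
  | h₁ => exact absurd rfl ha
  | h₂ x hx => exact ⟨hx.unit, fun _ => 0, by simp⟩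
  | h₃ a π ha0 hπ ih =>
    obtain ⟨v, e, hve⟩ := ih ha0 fun q hq hqa => h q hq (Dvd.dvd.mul_left hqa π)
    obtain ⟨i, w, hw⟩ := h π hπ (dvd_mul_right π a)
    refine ⟨w⁻¹ * v, Function.update e i (e i + 1), ?_⟩
    have hprod : ∏ j, f j ^ (Function.update e i (e i + 1)) j = f i * ∏ j, f j ^ e j := by
      rw [← Finset.mul_prod_erase Finset.univ _ (Finset.mem_univ i),
        ← Finset.mul_prod_erase Finset.univ (fun j => f j ^ e j) (Finset.mem_univ i),
        Function.update_self, pow_succ, mul_comm (f i ^ e i) (f i), mul_assoc]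
      congr 2
      apply Finset.prod_congr rfl
      intro j hj
      rw [Function.update_of_ne (Finset.ne_of_mem_erase hj)]
    rw [hprod, hve, ← hw, Units.val_mul]
    have : (↑w⁻¹ : R) * ↑v * (π * ↑w * ∏ j, f j ^ e j) =
        (↑w⁻¹ * ↑w : R) * (π * (↑v * ∏ j, f j ^ e j)) := by ring
    rw [this, Units.inv_mul, one_mul]

end Factor

section Main
variable {k R K : Type u} [Field k] [CharZero k] [CommRing R] [IsDomain R] [Algebra k R]
  [Algebra.FormallySmooth k R] [Algebra.EssFiniteType k R]
  [Field K] [Algebra R K] [IsFractionRing R K] [Algebra k K] [IsScalarTower k R K]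

omit [CharZero k] [Algebra.FormallySmooth k R] [Algebra.EssFiniteType k R] [Algebra k R]
  [IsScalarTower k R K] in
lemma dlog_unit_mul_prod {r : ℕ} (f : Fin r → R) (hf : ∀ i, f i ≠ 0) (v : Rˣ) (e : Fin r → ℕ) :
    dlog k (algebraMap R K ((v : R) * ∏ i, f i ^ e i)) =
      dlog k (algebraMap R K v) + ∑ i, e i • dlog k (algebraMap R K (f i)) := by
  have hinj := IsFractionRing.injective R K
  have hfK : ∀ i, algebraMap R K (f i) ≠ 0 := fun i => by
    rw [Ne, map_eq_zero_iff _ hinj]; exact hf i
  have hvK : algebraMap R K v ≠ 0 := by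
    rw [Ne, map_eq_zero_iff _ hinj]; exact v.ne_zero
  rw [map_mul, map_prod, dlog_mul hvK (Finset.prod_ne_zero_iff.mpr fun i _ => by
    rw [map_pow]; exact pow_ne_zero _ (hfK i)), dlog_prod]
  · congr 1
    apply Finset.sum_congr rfl
    intro i _
    rw [map_pow, dlog_pow (hfK i)]
  · intro i _
    rw [map_pow]; exact pow_ne_zero _ (hfK i)

/-- main theorem on logarithmic differentials with log poles along prime elements -/
theorem dlog_main [UniqueFactorizationMonoid R] {r : ℕ} (f : Fin r → R) (hf : ∀ i, Prime (f i))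
    (g : Kˣ) (η : Ω[R⁄k]) (c : Fin r → R)
    (h : dlog k (g : K) = KaehlerDifferential.map k k R K η +
      ∑ i, algebraMap R K (c i) • dlog k (algebraMap R K (f i))) :
    ∃ (v : Rˣ) (b : Fin r → ℤ), dlog k (g : K) =
      dlog k (algebraMap R K v) + ∑ i, b i • dlog k (algebraMap R K (f i)) := by
  have hinj := IsFractionRing.injective R K
  obtain ⟨a, ⟨b, hb⟩, hrel, hab⟩ := IsFractionRing.exists_reduced_fraction (A := R) (g : K)
  rw [IsFractionRing.mk'_eq_div] at hab
  change algebraMap R K a / algebraMap R K b = g at hab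
  have hb0 : b ≠ 0 := nonZeroDivisors.ne_zero hb
  have ha0 : a ≠ 0 := by
    rintro rfl
    rw [map_zero, zero_div] at hab
    exact g.ne_zero hab.symm
  have haK : algebraMap R K a ≠ 0 := by rw [Ne, map_eq_zero_iff _ hinj]; exact ha0
  have hbK : algebraMap R K b ≠ 0 := by rw [Ne, map_eq_zero_iff _ hinj]; exact hb0
  have key : ∀ π : R, Prime π → (π ∣ a ∨ π ∣ b) → ∃ i, Associated π (f i) := by
    intro π hπ hdvd
    by_contra hcon
    push Not at hcon
    have hmem : dlog k (algebraMap R K a / algebraMap R K b) ∈ Lam k K π hπ := by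
      rw [hab, h]
      refine Submodule.add_mem _ (map_mem_Lam π hπ η) (Submodule.sum_mem _ fun i _ => ?_)
      rw [algebraMap_smul]
      refine Submodule.smul_mem _ _ (dlog_mem_Lam π hπ (f i) fun hd => ?_)
      exact hcon i (hπ.associated_of_dvd (hf i) hd)
    have := not_dvd_of_dlog_mem π hπ a b ha0 hb0 hrel hmem
    rcases hdvd with h1 | h1
    · exact this.1 h1
    · exact this.2 h1
  obtain ⟨v₁, e₁, h₁⟩ := exists_eq_unit_mul_prod f a ha0 fun π hπ hd => key π hπ (Or.inl hd)
  obtain ⟨v₂, e₂, h₂⟩ := exists_eq_unit_mul_prod f b hb0 fun π hπ hd => key π hπ (Or.inr hd)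
  refine ⟨v₁ * v₂⁻¹, fun i => (e₁ i : ℤ) - (e₂ i : ℤ), ?_⟩
  have hv₂K : algebraMap R K v₂ ≠ 0 := by
    rw [Ne, map_eq_zero_iff _ hinj]; exact v₂.ne_zero
  have hv₁K : algebraMap R K v₁ ≠ 0 := by
    rw [Ne, map_eq_zero_iff _ hinj]; exact v₁.ne_zero
  have hinv : algebraMap R K (↑v₂⁻¹ : R) = (algebraMap R K v₂)⁻¹ := by
    apply eq_inv_of_mul_eq_one_left
    rw [← map_mul, Units.inv_mul, map_one]
  rw [← hab, dlog_div haK hbK]
  conv_lhs => rw [h₁, h₂]
  rw [dlog_unit_mul_prod f (fun i => (hf i).ne_zero), dlog_unit_mul_prod f (fun i => (hf i).ne_zero),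
    Units.val_mul, map_mul, hinv, dlog_mul hv₁K (inv_ne_zero hv₂K), dlog_inv hv₂K]
  simp only [sub_smul, natCast_zsmul, Finset.sum_sub_distrib]
  abel

end Main

end Groth.Agent.Lib.Helper16.DLog
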