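import Groth.Agent.Lib.Helper16.DTCompare
import Mathlib.RingTheory.TensorProduct.Basic

/-!
# Ideal transforms and change of rings (helper16)

* `exists_extend_map` : extension of `R`-linear maps `J → N'` to `JR'`.
* `torsionSub_map_carrier`, `toDT_bijective_of_extended`.
* `exists_DT_map_addEquiv` : `D_{IR'}(M') ≅ D_I(M')`.
-/

set_option autoImplicit false
universe u
open CategoryTheory Opposite Limits TensorProduct

namespace Groth.Agent.Lib.Helper16.DTL

open Groth.Agent.Lib.Helper16.LC Groth.Agent.Lib.Helper16.Depth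

section extend

variable {R R' : Type u} [CommRing R] [CommRing R'] [Algebra R R']
variable {N' : Type u} [AddCommGroup N'] [Module R' N'] [Module R N'] [IsScalarTower R R' N']

/-- Extension of an `R`-linear map `J → N'` to an `R'`-linear map `JR' → N'`, when `N'` has no
element killed by `J`. -/
theorem exists_extend_map (J : Ideal R) (f : J →ₗ[R] N')
    (h0 : ∀ y : N', (∀ b ∈ J, b • y = 0) → y = 0) :
    ∃ g : ↥(J.map (algebraMap R R')) →ₗ[R'] N',
      ∀ (a : R) (ha : a ∈ J), g ⟨algebraMap R R' a, Ideal.mem_map_of_mem _ ha⟩ = f ⟨a, ha⟩ := by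
  let h : R' ⊗[R] J →ₗ[R'] N' := f.liftBaseChange R'
  let μ : R' ⊗[R] J →ₗ[R'] R' := ((Algebra.linearMap R R').comp J.subtype).liftBaseChange R'
  have hker : LinearMap.ker μ ≤ LinearMap.ker h := by
    intro t ht
    rw [LinearMap.mem_ker] at ht ⊢
    apply h0
    intro b hb
    have key : ∀ t : R' ⊗[R] J, b • h t = μ t • f ⟨b, hb⟩ := by
      intro t
      induction t using TensorProduct.induction_on with
      | zero => simp
      | tmul r' a =>
        have e1 : h (r' ⊗ₜ[R] a) = r' • f a := LinearMap.liftBaseChange_tmul _ _ _ _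
        have e2 : μ (r' ⊗ₜ[R] a) = r' • algebraMap R R' (a : R) :=
          LinearMap.liftBaseChange_tmul _ _ _ _
        have e3 : b • a = (a : R) • (⟨b, hb⟩ : J) := by
          apply Subtype.ext
          change b * (a : R) = (a : R) * b
          exact mul_comm _ _
        rw [e1, e2, smul_comm, ← map_smul, e3, map_smul, smul_eq_mul, mul_smul, algebraMap_smul]
      | add x y hx hy => rw [map_add, map_add, smul_add, add_smul, hx, hy]
    rw [key t, ht, zero_smul]
  have hrange : LinearMap.range μ = (J.map (algebraMap R R')) := by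
    rw [LinearMap.range_liftBaseChange]
    change Submodule.span R' _ = Ideal.span _
    congr 1
    ext x
    constructor
    · rintro ⟨⟨a, ha⟩, rfl⟩
      exact ⟨a, ha, rfl⟩
    · rintro ⟨a, ha, rfl⟩
      exact ⟨⟨a, ha⟩, rfl⟩
  let e1 : ↥(J.map (algebraMap R R')) ≃ₗ[R'] LinearMap.range μ := LinearEquiv.ofEq _ _ hrange.symm
  let g : ↥(J.map (algebraMap R R')) →ₗ[R'] N' :=
    ((LinearMap.ker μ).liftQ h hker) ∘ₗ (μ.quotKerEquivRange.symm.toLinearMap) ∘ₗ e1.toLinearMap
  refine ⟨g, fun a ha => ?_⟩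
  have h1 : e1 ⟨algebraMap R R' a, Ideal.mem_map_of_mem _ ha⟩ =
      μ.rangeRestrict ((1 : R') ⊗ₜ[R] (⟨a, ha⟩ : J)) := by
    apply Subtype.ext
    simp [e1, μ]
  simp only [g, LinearMap.comp_apply, LinearEquiv.coe_coe]
  rw [h1]
  have h2 : μ.quotKerEquivRange.symm (μ.rangeRestrict ((1 : R') ⊗ₜ[R] (⟨a, ha⟩ : J))) =
      Submodule.Quotient.mk ((1 : R') ⊗ₜ[R] (⟨a, ha⟩ : J)) := by
    rw [LinearEquiv.symm_apply_eq]
    rfl
  rw [h2, Submodule.liftQ_apply]
  simp [h]

theorem torsionSub_map_carrier (I : Ideal R) (x : N') :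
    x ∈ DRing.torsionSub (I.map (algebraMap R R')) N' ↔ x ∈ DRing.torsionSub I N' := by
  constructor
  · rintro ⟨n, hn⟩
    refine ⟨n, fun a ha => ?_⟩
    rw [← algebraMap_smul R' a x]
    apply hn
    rw [← Ideal.map_pow]
    exact Ideal.mem_map_of_mem _ ha
  · rintro ⟨n, hn⟩
    refine ⟨n, fun r' hr' => ?_⟩
    rw [← Ideal.map_pow] at hr'
    refine Submodule.span_induction (p := fun r' _ => r' • x = 0) ?_ ?_ ?_ ?_ hr'
    · rintro _ ⟨a, ha, rfl⟩
      rw [algebraMap_smul]
      exact hn a ha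
    · exact zero_smul _ _
    · intro y z _ _ hy hz
      rw [add_smul, hy, hz, add_zero]
    · intro c y _ hy
      rw [smul_eq_mul, mul_smul, hy, smul_zero]

/-- If `η` is bijective for the extended ideal over `R'`, it is bijective for `I` over `R`. -/
theorem toDT_bijective_of_extended (I : Ideal R)
    (hη' : Function.Bijective (LocCoh.toDT (I.map (algebraMap R R')) N')) :
    Function.Bijective (LocCoh.toDT I N') := by
  have hΓ' : DRing.torsionSub (I.map (algebraMap R R')) N' = ⊥ := by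
    rw [← ker_toDT, LinearMap.ker_eq_bot]
    exact hη'.1
  have hΓ : DRing.torsionSub I N' = ⊥ := by
    rw [eq_bot_iff]
    intro x hx
    have := (torsionSub_map_carrier (R' := R') I x).mpr hx
    rw [hΓ'] at this
    exact this
  constructor
  · rw [← LinearMap.ker_eq_bot, ker_toDT, hΓ]
  · intro y
    obtain ⟨k, f, rfl⟩ := κ_jointly_surjective I (ModuleCat.of R N') y
    obtain ⟨g, hg⟩ := exists_extend_map (R' := R') (I ^ k) f.hom (by
      intro y hy
      have : y ∈ DRing.torsionSub I N' := ⟨k, hy⟩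
      rw [hΓ] at this
      exact this)
    have hpow : (I.map (algebraMap R R')) ^ k = (I ^ k).map (algebraMap R R') :=
      (Ideal.map_pow _ I k).symm
    let g₂ : ↥((I.map (algebraMap R R')) ^ k) →ₗ[R'] N' :=
      g ∘ₗ (LinearEquiv.ofEq _ _ hpow).toLinearMap
    obtain ⟨y₀, hy₀⟩ := hη'.2 (κ (I.map (algebraMap R R')) (ModuleCat.of R' N') k
      (ModuleCat.ofHom g₂))
    refine ⟨y₀, ?_⟩
    rw [toDT_eq _ N' y₀ k, ← sub_eq_zero, ← map_sub, κ_eq_zero_iff] at hy₀
    obtain ⟨l, hkl, hl⟩ := hy₀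
    rw [toDT_eq I N' y₀ l, ← κ_incl I _ hkl f]
    congr 1
    apply ModuleCat.hom_ext
    apply LinearMap.ext
    rintro ⟨a, ha⟩
    have hmem : algebraMap R R' a ∈ (I.map (algebraMap R R')) ^ l := by
      rw [← Ideal.map_pow]
      exact Ideal.mem_map_of_mem _ ha
    have h1 := LinearMap.congr_fun (congrArg ModuleCat.Hom.hom hl) ⟨algebraMap R R' a, hmem⟩
    have h2 : (algebraMap R R' a) • y₀ - g₂ ⟨algebraMap R R' a,
        Ideal.pow_le_pow_right hkl hmem⟩ = 0 := h1
    have h3 : g₂ ⟨algebraMap R R' a, Ideal.pow_le_pow_right hkl hmem⟩ =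
        f.hom ⟨a, Ideal.pow_le_pow_right hkl ha⟩ := hg a _
    rw [h3, sub_eq_zero, algebraMap_smul] at h2
    exact h2

end extend

section basechange

variable {R R' : Type u} [CommRing R] [CommRing R'] [Algebra R R'] [IsNoetherianRing R]
  [IsNoetherianRing R']
variable (I : Ideal R) (M' : Type u) [AddCommGroup M'] [Module R' M'] [Module R M']
  [IsScalarTower R R' M']

/-- `D_{IR'}(M') ≅ D_I(M')`. -/
theorem exists_DT_map_addEquiv :
    ∃ ε : LocCoh.DT (Ideal.map (algebraMap R R') I) M' ≃+ LocCoh.DT I M',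
      (∀ (r : R) (x : LocCoh.DT (Ideal.map (algebraMap R R') I) M'),
        ε (algebraMap R R' r • x) = r • ε x) ∧
      ∀ m : M', ε (LocCoh.toDT (Ideal.map (algebraMap R R') I) M' m) = LocCoh.toDT I M' m := by
  let I' := Ideal.map (algebraMap R R') I
  let _ : Module R (LocCoh.DT I' M') := Module.compHom _ (algebraMap R R')
  have : IsScalarTower R R' (LocCoh.DT I' M') :=
    IsScalarTower.of_algebraMap_smul (fun r x => rfl)
  let e : M' →ₗ[R] LocCoh.DT I' M' := (LocCoh.toDT I' M').restrictScalars R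
  have hker : LinearMap.ker e ≤ DRing.torsionSub I M' := by
    intro m hm
    have h1 : m ∈ LinearMap.ker (LocCoh.toDT I' M') := hm
    rw [ker_toDT] at h1
    exact (torsionSub_map_carrier I m).mp h1
  have hcoker : ∀ c : LocCoh.DT I' M' ⧸ LinearMap.range e,
      c ∈ DRing.torsionSub I (LocCoh.DT I' M' ⧸ LinearMap.range e) := by
    intro c
    obtain ⟨x, rfl⟩ := Submodule.Quotient.mk_surjective _ c
    obtain ⟨k, f, rfl⟩ := κ_jointly_surjective I' (ModuleCat.of R' M') x
    refine ⟨k, fun a ha => ?_⟩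
    rw [← Submodule.Quotient.mk_smul, Submodule.Quotient.mk_eq_zero]
    have hmem : algebraMap R R' a ∈ I' ^ k := by
      rw [← Ideal.map_pow]
      exact Ideal.mem_map_of_mem _ ha
    exact ⟨f.hom ⟨algebraMap R R' a, hmem⟩, (smul_κ_eq_toDT I' M' f ⟨_, hmem⟩).symm⟩
  have hcomp := factor_comp I e hker hcoker (LinearMap.id : M' →ₗ[R] M')
  have hbij := factor_bijective I e hker hcoker LinearMap.id Function.bijective_id _ hcomp
    (toDT_bijective_of_extended (R' := R') I (toDT_DT_bijective I' M'))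
  refine ⟨(LinearEquiv.ofBijective _ hbij).toAddEquiv, ?_, ?_⟩
  · intro r x
    exact map_smul (factor I e hker hcoker LinearMap.id) r x
  · intro m
    exact LinearMap.congr_fun hcomp m

end basechange

end Groth.Agent.Lib.Helper16.DTL
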