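import Groth.Prelude.Def_W4bk5brsh16IT
import Groth.Agent.Lib.Helper16.LocCohMV

/-!
# Element API for the ideal transform `D_I(M) = colim_n Hom(I^n, M)` (helper16)

* `κ I M k : (I^k ⟶ M) →ₗ[R] D_I(M)`, `κ_incl`, `κ_jointly_surjective`, `κ_eq_zero_iff`,
  `κ_naturality`, `smulMor`, `toDT_eq`.
* `ker_toDT : ker η_M = Γ_I(M)`.
* `exists_incl_comp_eq_zero`, `subsingleton_DT_of_torsion` (Noetherian).
-/

set_option autoImplicit false
universe u
open CategoryTheory Opposite Limits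

namespace Groth.Agent.Lib.Helper16.DTL

open Groth.Agent.Lib.Helper16.LC

variable {R : Type u} [CommRing R] (I : Ideal R) (M : ModuleCat.{u} R)

/-- The diagram defining the ideal transform. -/
noncomputable abbrev TD : ℕᵒᵖᵒᵖ ⥤ ModuleCat.{u} R ⥤ ModuleCat.{u} R := LocCoh.transformDiagram I

/-- the evaluated diagram -/
noncomputable abbrev TDM : ℕᵒᵖᵒᵖ ⥤ ModuleCat.{u} R := TD I ⋙ (evaluation _ _).obj M

/-- the evaluated colimit cocone -/
noncomputable def coconeT : Cocone (TDM I M) :=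
  ((evaluation _ _).obj M).mapCocone (colimit.cocone (TD I))

/-- the evaluated colimit cocone is colimit -/
noncomputable def isColimitCoconeT : IsColimit (coconeT I M) :=
  isColimitOfPreserves ((evaluation _ _).obj M) (colimit.isColimit (TD I))

/-- `I ^ k` as an object of `ModuleCat R`. -/
abbrev P (k : ℕ) : ModuleCat.{u} R := ModuleCat.of R ↥(I ^ k)

/-- The inclusion `I^l ⟶ I^k` for `k ≤ l`. -/
def incl {k l : ℕ} (h : k ≤ l) : P I l ⟶ P I k :=
  ModuleCat.ofHom (Submodule.inclusion (Ideal.pow_le_pow_right h))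

theorem incl_apply {k l : ℕ} (h : k ≤ l) (x : ↥(I ^ l)) :
    ((incl I h).hom x : R) = (x : R) := rfl

/-- The canonical map from `Hom(I^k, M)` to the ideal transform. -/
noncomputable def κ (k : ℕ) : (P I k ⟶ M) →ₗ[R] ((LocCoh.idealTransform I).obj M) :=
  ((coconeT I M).ι.app (op (op k))).hom

theorem κ_incl {k l : ℕ} (h : k ≤ l) (f : P I k ⟶ M) :
    κ I M l (incl I h ≫ f) = κ I M k f := by
  have hc := (coconeT I M).w ((homOfLE h).op.op : op (op k) ⟶ op (op l))
  have hc' := LinearMap.congr_fun (congrArg ModuleCat.Hom.hom hc) f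
  rw [ModuleCat.hom_comp, LinearMap.comp_apply] at hc'
  exact hc'

theorem κ_jointly_surjective (x : (LocCoh.idealTransform I).obj M) :
    ∃ (k : ℕ) (f : P I k ⟶ M), κ I M k f = x := by
  obtain ⟨j, y, hy⟩ := Concrete.isColimit_exists_rep (TDM I M) (isColimitCoconeT I M) x
  exact ⟨j.unop.unop, y, hy⟩

theorem κ_eq_zero_iff {k : ℕ} (f : P I k ⟶ M) :
    κ I M k f = 0 ↔ ∃ (l : ℕ) (h : k ≤ l), incl I h ≫ f = 0 := by
  constructor
  · intro h0
    have h1 : ((coconeT I M).ι.app (op (op k))).hom f =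
        ((coconeT I M).ι.app (op (op k))).hom 0 := by rw [map_zero]; exact h0
    obtain ⟨j, a, b, hab⟩ := (Concrete.isColimit_rep_eq_iff_exists (TDM I M)
      (isColimitCoconeT I M) (i := op (op k)) (j := op (op k)) f 0).mp h1
    have hkl : k ≤ j.unop.unop := leOfHom a.unop.unop
    refine ⟨j.unop.unop, hkl, ?_⟩
    have ha : a = ((homOfLE hkl).op.op : op (op k) ⟶ op (op j.unop.unop)) := Subsingleton.elim _ _
    have hb : b = ((homOfLE hkl).op.op : op (op k) ⟶ op (op j.unop.unop)) := Subsingleton.elim _ _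
    rw [ha, hb] at hab
    have h2 : ((TDM I M).map ((homOfLE hkl).op.op : op (op k) ⟶ op (op j.unop.unop))).hom 0 = 0 :=
      map_zero _
    rw [h2] at hab
    exact hab
  · rintro ⟨l, h, hl⟩
    rw [← κ_incl I M h f, hl, map_zero]

variable {M} in
theorem κ_naturality {N : ModuleCat.{u} R} (g : M ⟶ N) {k : ℕ} (f : P I k ⟶ M) :
    ((LocCoh.idealTransform I).map g).hom (κ I M k f) = κ I N k (f ≫ g) := by
  have hn := (colimit.ι (TD I) (op (op k))).naturality g
  have hn' := LinearMap.congr_fun (congrArg ModuleCat.Hom.hom hn) f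
  rw [ModuleCat.hom_comp, ModuleCat.hom_comp, LinearMap.comp_apply, LinearMap.comp_apply] at hn'
  exact hn'.symm

/-- The morphism `I^k ⟶ M`, `r ↦ r • m`. -/
def smulMor (k : ℕ) (m : M) : P I k ⟶ M :=
  ModuleCat.ofHom ((LinearMap.toSpanSingleton R M m).comp (I ^ k).subtype)

theorem smulMor_apply (k : ℕ) (m : M) (r : ↥(I ^ k)) : (smulMor I M k m).hom r = (r : R) • m := rfl

theorem incl_smulMor {k l : ℕ} (h : k ≤ l) (m : M) :
    incl I h ≫ smulMor I M k m = smulMor I M l m := rfl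

theorem toDT_eq (N : Type u) [AddCommGroup N] [Module R N] (m : N) (k : ℕ) :
    LocCoh.toDT I N m = κ I (ModuleCat.of R N) k (smulMor I (ModuleCat.of R N) k m) := by
  rw [← incl_smulMor I (ModuleCat.of R N) (Nat.zero_le k) m, κ_incl]
  rfl

/-- `ker η_M = Γ_I(M)`. -/
theorem ker_toDT (N : Type u) [AddCommGroup N] [Module R N] :
    LinearMap.ker (LocCoh.toDT I N) = DRing.torsionSub I N := by
  ext m
  rw [LinearMap.mem_ker, toDT_eq I N m 0, κ_eq_zero_iff]
  constructor
  · rintro ⟨l, h, hl⟩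
    refine ⟨l, fun r hr => ?_⟩
    have := LinearMap.congr_fun (congrArg ModuleCat.Hom.hom hl) ⟨r, hr⟩
    exact this
  · rintro ⟨l, hl⟩
    refine ⟨l, Nat.zero_le l, ?_⟩
    apply ModuleCat.hom_ext
    apply LinearMap.ext
    rintro ⟨r, hr⟩
    exact hl r hr

section noeth

variable [IsNoetherianRing R]

/-- A map `I^k → M` with torsion image vanishes on a smaller power. -/
theorem exists_incl_comp_eq_zero {k : ℕ} (f : P I k ⟶ M)
    (hf : ∀ x, f.hom x ∈ DRing.torsionSub I M) : ∃ (l : ℕ) (h : k ≤ l), incl I h ≫ f = 0 := by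
  have hfg : (LinearMap.range f.hom).FG := by
    rw [LinearMap.range_eq_map]
    exact Submodule.FG.map _ (Module.Finite.fg_top (R := R) (M := ↥(I ^ k)))
  have hle : LinearMap.range f.hom ≤ DRing.torsionSub I M := by
    rintro _ ⟨x, rfl⟩
    exact hf x
  obtain ⟨n, hn⟩ := exists_pow_smul_eq_zero_of_fg I M _ hfg hle
  refine ⟨n + k, Nat.le_add_left k n, ?_⟩
  apply ModuleCat.hom_ext
  apply LinearMap.ext
  rintro ⟨r, hr⟩
  have key : ∀ r ∈ I ^ n * I ^ k, ∃ hr' : r ∈ I ^ k, f.hom ⟨r, hr'⟩ = 0 := by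
    intro r hr
    refine Submodule.mul_induction_on hr ?_ ?_
    · intro a ha b hb
      refine ⟨Ideal.mul_mem_left _ a hb, ?_⟩
      have : (⟨a * b, Ideal.mul_mem_left _ a hb⟩ : ↥(I ^ k)) = a • ⟨b, hb⟩ := rfl
      rw [this, map_smul]
      exact hn a ha _ ⟨_, rfl⟩
    · rintro x y ⟨hx', hx⟩ ⟨hy', hy⟩
      refine ⟨Ideal.add_mem _ hx' hy', ?_⟩
      have : (⟨x + y, Ideal.add_mem _ hx' hy'⟩ : ↥(I ^ k)) = ⟨x, hx'⟩ + ⟨y, hy'⟩ := rfl
      rw [this, map_add, hx, hy, add_zero]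
  rw [pow_add] at hr
  obtain ⟨_, h0⟩ := key r hr
  exact h0

/-- `D_I(N) = 0` for `N` an `I`-power torsion module. -/
theorem subsingleton_DT_of_torsion (hM : ∀ m : M, m ∈ DRing.torsionSub I M) :
    Subsingleton ((LocCoh.idealTransform I).obj M) := by
  refine ⟨fun a b => ?_⟩
  suffices hz : ∀ x : (LocCoh.idealTransform I).obj M, x = 0 by rw [hz a, hz b]
  intro x
  obtain ⟨k, f, rfl⟩ := κ_jointly_surjective I M x
  rw [κ_eq_zero_iff]
  exact exists_incl_comp_eq_zero I M f (fun x => hM _)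

end noeth

end Groth.Agent.Lib.Helper16.DTL
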