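import Groth.Agent.Lib.Helper16.DTSaturation

/-!
# Comparison maps of ideal transforms (helper16)

* `DTmapOfLE_κ` : element formula for `LocCoh.DTmapOfLE`.
* `DTmapOfLE_mul_bijective` : if `η^J_N` is bijective then `D_I(N) → D_{IJ}(N)` is bijective.
-/

set_option autoImplicit false
universe u
open CategoryTheory Opposite Limits

namespace Groth.Agent.Lib.Helper16.DTL

open Groth.Agent.Lib.Helper16.LC Groth.Agent.Lib.Helper16.Depth

section mapOfLE

variable {R : Type u} [CommRing R] {I J : Ideal R} (h : I ≤ J) (M : ModuleCat.{u} R)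

/-- The inclusion `I^k ⟶ J^k` for `I ≤ J`. -/
def inclLE (k : ℕ) : P I k ⟶ P J k :=
  ModuleCat.ofHom (Submodule.inclusion (Ideal.pow_right_mono h k))

theorem DTmapOfLE_κ {k : ℕ} (f : P J k ⟶ M) :
    ((LocCoh.DTmapOfLE h).app M).hom (κ J M k f) = κ I M k (inclLE h k ≫ f) := by
  have h1 := ι_colimMap (Functor.whiskerRight (NatTrans.op (Functor.whiskerRight (LocCoh.powLE h)
    LocCoh.idealModFunctor)) (linearCoyoneda R (ModuleCat.{u} R))) (op (op k))
  have h2 := congrArg (fun α => (α.app M).hom f) h1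
  exact h2

end mapOfLE

section mulcomparison

variable {R : Type u} [CommRing R] (I J : Ideal R) (N : Type u) [AddCommGroup N] [Module R N]

theorem mul_mem_mul_pow {k : ℕ} {a b : R} (ha : a ∈ I ^ k) (hb : b ∈ J ^ k) :
    a * b ∈ (I * J) ^ k := by
  rw [mul_pow]
  exact Ideal.mul_mem_mul ha hb

/-- For `g : (IJ)^k → N`, the bilinear map `(a, b) ↦ g(ab)` on `I^k × J^k`. -/
noncomputable def mulBil {k : ℕ} (g : ↥((I * J) ^ k) →ₗ[R] N) :
    ↥(I ^ k) →ₗ[R] ↥(J ^ k) →ₗ[R] N :=
  LinearMap.mk₂ R (fun a b => g ⟨(a : R) * (b : R), mul_mem_mul_pow I J a.2 b.2⟩)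
    (by
      intro a a' b
      rw [← map_add]
      congr 1
      apply Subtype.ext
      exact add_mul _ _ _)
    (by
      intro c a b
      rw [← map_smul]
      congr 1
      apply Subtype.ext
      exact mul_assoc _ _ _)
    (by
      intro a b b'
      rw [← map_add]
      congr 1
      apply Subtype.ext
      exact mul_add _ _ _)
    (by
      intro c a b
      rw [← map_smul]
      congr 1
      apply Subtype.ext
      exact mul_left_comm _ _ _)

theorem mulBil_apply {k : ℕ} (g : ↥((I * J) ^ k) →ₗ[R] N) (a : ↥(I ^ k)) (b : ↥(J ^ k)) :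
    mulBil I J N g a b = g ⟨(a : R) * (b : R), mul_mem_mul_pow I J a.2 b.2⟩ := rfl

/-- If `η^J_N` is bijective, the restriction `D_I(N) → D_{IJ}(N)` is bijective. -/
theorem DTmapOfLE_mul_bijective (hη : Function.Bijective (LocCoh.toDT J N)) :
    Function.Bijective
      ((LocCoh.DTmapOfLE (Ideal.mul_le_left : I * J ≤ I)).app (ModuleCat.of R N)).hom := by
  have hΓ : DRing.torsionSub J N = ⊥ := by
    rw [← ker_toDT, LinearMap.ker_eq_bot]
    exact hη.1
  constructor
  · rw [injective_iff_map_eq_zero]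
    intro x hx
    obtain ⟨k, f, rfl⟩ := κ_jointly_surjective I (ModuleCat.of R N) x
    rw [DTmapOfLE_κ, κ_eq_zero_iff] at hx
    obtain ⟨l, h, hl⟩ := hx
    rw [κ_eq_zero_iff]
    refine ⟨l, h, ?_⟩
    apply ModuleCat.hom_ext
    apply LinearMap.ext
    rintro ⟨a, ha⟩
    have hmem : f.hom ⟨a, Ideal.pow_le_pow_right h ha⟩ ∈ DRing.torsionSub J N := by
      refine ⟨l, fun b hb => ?_⟩
      have h1 := LinearMap.congr_fun (congrArg ModuleCat.Hom.hom hl)
        ⟨a * b, mul_mem_mul_pow I J ha hb⟩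
      rw [← map_smul]
      have h2 : b • (⟨a, Ideal.pow_le_pow_right h ha⟩ : ↥(I ^ k)) =
          ⟨a * b, Ideal.pow_le_pow_right h (Ideal.mul_mem_right b _ ha)⟩ := by
        apply Subtype.ext
        exact mul_comm b a
      rw [h2]
      exact h1
    rw [hΓ, Submodule.mem_bot] at hmem
    exact hmem
  · intro y
    obtain ⟨k, g, rfl⟩ := κ_jointly_surjective (I * J) (ModuleCat.of R N) y
    let ηe : N ≃ₗ[R] LocCoh.DT J N := LinearEquiv.ofBijective (LocCoh.toDT J N) hη
    let F : ↥(I ^ k) →ₗ[R] N :=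
      ηe.symm.toLinearMap ∘ₗ (κ J (ModuleCat.of R N) k) ∘ₗ
        (ModuleCat.homLinearEquiv (S := R) (M := P J k) (N := ModuleCat.of R N)).symm.toLinearMap ∘ₗ
        (mulBil I J N g.hom)
    refine ⟨κ I (ModuleCat.of R N) k (ModuleCat.ofHom F), ?_⟩
    rw [DTmapOfLE_κ]
    congr 1
    apply ModuleCat.hom_ext
    apply LinearMap.ext
    intro c
    change F ⟨(c : R), _⟩ = g.hom c
    simp only [F, LinearMap.comp_apply, LinearEquiv.coe_coe]
    rw [LinearEquiv.symm_apply_eq]
    change _ = LocCoh.toDT J N (g.hom c)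
    rw [toDT_eq J N _ k]
    congr 1
    apply ModuleCat.hom_ext
    apply LinearMap.ext
    intro b
    change g.hom ⟨(c : R) * (b : R), _⟩ = (b : R) • g.hom c
    rw [← map_smul]
    congr 1
    apply Subtype.ext
    exact mul_comm _ _

end mulcomparison

end Groth.Agent.Lib.Helper16.DTL
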