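import Groth.Agent.Lib.Helper16.DTFactor
import Mathlib.Algebra.Homology.ShortComplex.ExactFunctor

/-!
# Exactness of the ideal transform (helper16)

* `idealTransform_preservesFiniteLimits` : `D_I` is left exact.
* `exists_lift_of_H2`, `idealTransform_map_surjective_of_H2`, `θ_naturality`.
* `idealTransform_exact_iff_cdLE_one`.
-/

set_option autoImplicit false
universe u
open CategoryTheory Opposite Limits

namespace Groth.Agent.Lib.Helper16.DTL

open Groth.Agent.Lib.Helper16.LC Groth.Agent.Lib.Helper16.Depth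

section leftexact

variable {R : Type u} [CommRing R] (I : Ideal R)

theorem idealTransform_map_injective {S : ShortComplex (ModuleCat.{u} R)} (hS : S.ShortExact) :
    Function.Injective ((LocCoh.idealTransform I).map S.f).hom := by
  have : Mono S.f := hS.mono_f
  rw [injective_iff_map_eq_zero]
  intro x hx
  obtain ⟨k, f, rfl⟩ := κ_jointly_surjective I S.X₁ x
  rw [κ_naturality, κ_eq_zero_iff] at hx
  obtain ⟨l, h, hl⟩ := hx
  rw [κ_eq_zero_iff]
  refine ⟨l, h, ?_⟩
  rw [← cancel_mono S.f, Category.assoc, hl, zero_comp]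

theorem idealTransform_exact {S : ShortComplex (ModuleCat.{u} R)} (hS : S.ShortExact)
    (y : (LocCoh.idealTransform I).obj S.X₂)
    (hy : ((LocCoh.idealTransform I).map S.g).hom y = 0) :
    ∃ x, ((LocCoh.idealTransform I).map S.f).hom x = y := by
  have : Mono S.f := hS.mono_f
  obtain ⟨k, g, rfl⟩ := κ_jointly_surjective I S.X₂ y
  rw [κ_naturality, κ_eq_zero_iff] at hy
  obtain ⟨l, h, hl⟩ := hy
  rw [← Category.assoc] at hl
  refine ⟨κ I S.X₁ l (hS.exact.lift (incl I h ≫ g) hl), ?_⟩
  rw [κ_naturality, ShortComplex.Exact.lift_f, κ_incl]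

theorem idealTransform_preservesFiniteLimits : PreservesFiniteLimits (LocCoh.idealTransform I) := by
  rw [Functor.preservesFiniteLimits_iff_forall_exact_map_and_mono]
  intro S hS
  constructor
  · rw [ShortComplex.moduleCat_exact_iff]
    intro y hy
    exact idealTransform_exact I hS y hy
  · rw [ModuleCat.mono_iff_injective]
    exact idealTransform_map_injective I hS

end leftexact

section exact

variable {R : Type u} [CommRing R] (I : Ideal R)

/-- Lifting lemma assuming only `H^2_I(X₁) = 0`. -/
theorem exists_lift_of_H2 {S : ShortComplex (ModuleCat.{u} R)} (hS : S.ShortExact)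
    (hH : Subsingleton ((localCohomology I 2).obj S.X₁)) {k : ℕ} (ψ : P I k ⟶ S.X₃) :
    ∃ (l : ℕ) (h : k ≤ l) (f : P I l ⟶ S.X₂), f ≫ S.g = incl I h ≫ ψ := by
  let o : Abelian.Ext.{u} (P I k) S.X₁ 1 := (Abelian.Ext.mk₀ ψ).comp hS.extClass (zero_add 1)
  let o' : E I 2 S.X₁ k := (SP_shortExact I k).extClass.comp o (rfl : 1 + 1 = 2)
  obtain ⟨l, h, hl⟩ := (ι_eq_zero_iff I 2 S.X₁ o').mp (hH.elim _ _)
  refine ⟨l, h, ?_⟩
  rw [trans_apply] at hl
  have h1 : (SP_shortExact I l).extClass.comp ((Abelian.Ext.mk₀ (incl I h)).comp o (zero_add 1))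
      (rfl : 1 + 1 = 2) = 0 :=
    (extClass_comp_naturality (SP_shortExact I l) (SP_shortExact I k) (SPmap I h) o).symm.trans hl
  have : Projective (SP I l).X₂ := projective_self
  have h2 : (Abelian.Ext.mk₀ (incl I h)).comp o (zero_add 1) = 0 :=
    eq_zero_of_extClass_comp_eq_zero (SP_shortExact I l) _ h1
  have h3 : (Abelian.Ext.mk₀ (incl I h ≫ ψ)).comp hS.extClass (zero_add 1) = 0 := by
    rw [← Abelian.Ext.mk₀_comp_mk₀_assoc]
    exact h2
  obtain ⟨x₂, hx₂⟩ := Abelian.Ext.covariant_sequence_exact₃ (P I l) hS _ rfl h3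
  obtain ⟨f, rfl⟩ := (Abelian.Ext.mk₀_bijective.{u} _ _).2 x₂
  rw [Abelian.Ext.mk₀_comp_mk₀] at hx₂
  exact ⟨f, (Abelian.Ext.mk₀_bijective.{u} _ _).1 hx₂⟩

theorem idealTransform_map_surjective_of_H2 {S : ShortComplex (ModuleCat.{u} R)}
    (hS : S.ShortExact) (hH : Subsingleton ((localCohomology I 2).obj S.X₁)) :
    Function.Surjective ((LocCoh.idealTransform I).map S.g).hom := by
  intro y
  obtain ⟨k, ψ, rfl⟩ := κ_jointly_surjective I S.X₃ y
  obtain ⟨l, h, f, hf⟩ := exists_lift_of_H2 I hS hH ψ
  refine ⟨κ I S.X₂ l f, ?_⟩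
  rw [κ_naturality, hf, κ_incl]

/-- naturality of `θ`. -/
theorem θ_naturality {M N : ModuleCat.{u} R} (g : M ⟶ N) (x : (LocCoh.idealTransform I).obj M) :
    θ I N (((LocCoh.idealTransform I).map g).hom x) = Hmap I 1 g (θ I M x) := by
  obtain ⟨k, f, rfl⟩ := κ_jointly_surjective I M x
  rw [κ_naturality, θ_κ, θ_κ, Hmap_ι]
  congr 1
  change conn (SP_shortExact I k) N (f ≫ g) =
    (conn (SP_shortExact I k) M f).comp (Abelian.Ext.mk₀ g) (add_zero 1)
  rw [conn_apply, conn_apply, ← Abelian.Ext.mk₀_comp_mk₀,
    Abelian.Ext.comp_assoc_of_third_deg_zero]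

/-- `D_I` is exact iff `cd(I) ≤ 1`. -/
theorem idealTransform_exact_iff_cdLE_one :
    (PreservesFiniteLimits (LocCoh.idealTransform I) ∧
      PreservesFiniteColimits (LocCoh.idealTransform I)) ↔ LocCoh.CdLE R I 1 := by
  constructor
  · rintro ⟨-, hR⟩
    rw [Functor.preservesFiniteColimits_iff_forall_exact_map_and_epi] at hR
    -- first `H^2 = 0` on all modules
    have h2 : ∀ (M : Type u) [AddCommGroup M] [Module R M], Subsingleton (LocCoh.H I (1 + 1) M) := by
      intro M _ _
      obtain ⟨T, _, _, j, hj, hTinj⟩ := exists_injective_embedding (R := R) M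
      have hS := shortExact_of_linearMaps j (LinearMap.range j).mkQ hj
        (Submodule.mkQ_surjective _) (LinearMap.exact_map_mkQ_range j)
      have : Injective (ModuleCat.of R T) := Module.injective_object_of_injective_module R T
      have hsurj : Function.Surjective
          ((LocCoh.idealTransform I).map (ModuleCat.ofHom (LinearMap.range j).mkQ)).hom :=
        (ModuleCat.epi_iff_surjective _).mp (hR _ hS).2
      have hT1 : Subsingleton ((localCohomology I (0 + 1)).obj (ModuleCat.of R T)) :=
        subsingleton_H_of_injective I (ModuleCat.of R T) 0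
      have hC : Subsingleton (LocCoh.H I 1 (T ⧸ LinearMap.range j)) := by
        refine ⟨fun a b => ?_⟩
        suffices hz : ∀ z : LocCoh.H I 1 (T ⧸ LinearMap.range j), z = 0 by rw [hz a, hz b]
        intro z
        obtain ⟨x, rfl⟩ := θ_surjective I (ModuleCat.of R (T ⧸ LinearMap.range j)) z
        obtain ⟨x', rfl⟩ := hsurj x
        rw [θ_naturality, hT1.elim (θ I (ModuleCat.of R T) x') 0, map_zero]
      have b := δ_bijective_of_subsingleton I hS (0 + 1) hT1
        (subsingleton_H_of_injective I (ModuleCat.of R T) 1)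
      exact (Equiv.ofBijective _ b).symm.subsingleton
    -- then all higher degrees by dimension shifting
    suffices H : ∀ (q : ℕ) (M : Type u) [AddCommGroup M] [Module R M],
        Subsingleton (LocCoh.H I (q + 1 + 1) M) by
      intro M _ _ i hi
      obtain ⟨q, rfl⟩ : ∃ q, i = q + 1 + 1 := ⟨i - 2, by omega⟩
      exact H q M
    intro q
    induction q with
    | zero => exact h2
    | succ q ih =>
      intro M _ _
      obtain ⟨T, _, _, j, hj, hTinj⟩ := exists_injective_embedding (R := R) M
      have hS := shortExact_of_linearMaps j (LinearMap.range j).mkQ hj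
        (Submodule.mkQ_surjective _) (LinearMap.exact_map_mkQ_range j)
      have : Injective (ModuleCat.of R T) := Module.injective_object_of_injective_module R T
      have b := δ_bijective_of_subsingleton I hS (q + 1 + 1)
        (subsingleton_H_of_injective I (ModuleCat.of R T) (q + 1))
        (subsingleton_H_of_injective I (ModuleCat.of R T) (q + 1 + 1))
      have := ih (T ⧸ LinearMap.range j)
      exact (Equiv.ofBijective _ b).symm.subsingleton
  · intro hcd
    refine ⟨idealTransform_preservesFiniteLimits I, ?_⟩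
    rw [Functor.preservesFiniteColimits_iff_forall_exact_map_and_epi]
    intro S hS
    constructor
    · rw [ShortComplex.moduleCat_exact_iff]
      intro y hy
      exact idealTransform_exact I hS y hy
    · rw [ModuleCat.epi_iff_surjective]
      exact idealTransform_map_surjective_of_H2 I hS (hcd S.X₁ 2 (by omega))

end exact

end Groth.Agent.Lib.Helper16.DTL
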