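import Groth.Agent.Lib.Helper16.DTTorsion

/-!
# Factorization through ideal transforms, and `D_{(a)}(M) ≅ M_a` (helper16)

* `factor`, `factor_comp`, `factor_unique`, `existsUnique_factor`, `factor_bijective`.
* `locEquivDT a M : M_a ≃ₗ[R] D_{(a)}(M)`, `locEquivDT_mk`, `locEquivDT_mk_pow`.
-/

set_option autoImplicit false
universe u
open CategoryTheory Opposite Limits

namespace Groth.Agent.Lib.Helper16.DTL

open Groth.Agent.Lib.Helper16.LC Groth.Agent.Lib.Helper16.Depth

section factor

variable {R : Type u} [CommRing R] [IsNoetherianRing R] (I : Ideal R)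
variable {M M' K : Type u} [AddCommGroup M] [Module R M] [AddCommGroup M'] [Module R M']
  [AddCommGroup K] [Module R K]
variable (e : M →ₗ[R] M') (hker : LinearMap.ker e ≤ DRing.torsionSub I M)
  (hcoker : ∀ c : M' ⧸ LinearMap.range e, c ∈ DRing.torsionSub I (M' ⧸ LinearMap.range e))

/-- `D_I(e)` as a linear equivalence. -/
noncomputable def DTequiv : LocCoh.DT I M ≃ₗ[R] LocCoh.DT I M' :=
  LinearEquiv.ofBijective ((LocCoh.idealTransform I).map (ModuleCat.ofHom e)).hom
    (idealTransform_map_bijective I e hker hcoker)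

/-- The canonical factorization `M' → D_I(K)` of `η_K ∘ ψ` through `e`. -/
noncomputable def factor (ψ : M →ₗ[R] K) : M' →ₗ[R] LocCoh.DT I K :=
  ((LocCoh.idealTransform I).map (ModuleCat.ofHom ψ)).hom ∘ₗ
    (DTequiv I e hker hcoker).symm.toLinearMap ∘ₗ LocCoh.toDT I M'

theorem factor_comp (ψ : M →ₗ[R] K) :
    factor I e hker hcoker ψ ∘ₗ e = LocCoh.toDT I K ∘ₗ ψ := by
  apply LinearMap.ext
  intro m
  simp only [factor, LinearMap.comp_apply, LinearEquiv.coe_coe]
  have h1 : LocCoh.toDT I M' (e m) = DTequiv I e hker hcoker (LocCoh.toDT I M m) :=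
    (toDT_naturality I e m).symm
  rw [h1, LinearEquiv.symm_apply_apply]
  exact toDT_naturality I ψ m

include hcoker in
theorem factor_unique (ψ₁ ψ₂ : M' →ₗ[R] LocCoh.DT I K) (h : ψ₁ ∘ₗ e = ψ₂ ∘ₗ e) : ψ₁ = ψ₂ := by
  apply LinearMap.ext
  intro m'
  rw [← sub_eq_zero, ← LinearMap.sub_apply]
  have hmem : (ψ₁ - ψ₂) m' ∈ DRing.torsionSub I (LocCoh.DT I K) := by
    obtain ⟨n, hn⟩ := hcoker (Submodule.Quotient.mk m')
    refine ⟨n, fun a ha => ?_⟩
    have h1 := hn a ha
    rw [← Submodule.Quotient.mk_smul, Submodule.Quotient.mk_eq_zero] at h1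
    obtain ⟨m, hm⟩ := h1
    rw [← map_smul, ← hm, LinearMap.sub_apply, sub_eq_zero]
    exact LinearMap.congr_fun h m
  rw [torsionSub_DT_eq_bot, Submodule.mem_bot] at hmem
  exact hmem

include hker hcoker in
theorem existsUnique_factor (ψ : M →ₗ[R] K) :
    ∃! ψ' : M' →ₗ[R] LocCoh.DT I K, ψ' ∘ₗ e = LocCoh.toDT I K ∘ₗ ψ :=
  ⟨factor I e hker hcoker ψ, factor_comp I e hker hcoker ψ, fun _ h =>
    factor_unique I e hcoker _ _ (h.trans (factor_comp I e hker hcoker ψ).symm)⟩

include hker hcoker in
theorem factor_bijective (ψ : M →ₗ[R] K) (hψ : Function.Bijective ψ)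
    (ψ' : M' →ₗ[R] LocCoh.DT I K) (hψ' : ψ' ∘ₗ e = LocCoh.toDT I K ∘ₗ ψ)
    (hη : Function.Bijective (LocCoh.toDT I M')) : Function.Bijective ψ' := by
  have h1 : ψ' = factor I e hker hcoker ψ :=
    factor_unique I e hcoker _ _ (hψ'.trans (factor_comp I e hker hcoker ψ).symm)
  rw [h1]
  have hiso : IsIso (ModuleCat.ofHom ψ) :=
    (ConcreteCategory.isIso_iff_bijective (ModuleCat.ofHom ψ)).mpr hψ
  have h2 : Function.Bijective ((LocCoh.idealTransform I).map (ModuleCat.ofHom ψ)).hom :=
    ConcreteCategory.bijective_of_isIso ((LocCoh.idealTransform I).map (ModuleCat.ofHom ψ))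
  simp only [factor, LinearMap.coe_comp, LinearEquiv.coe_coe]
  exact h2.comp ((DTequiv I e hker hcoker).symm.bijective.comp hη)

end factor

section principal

variable {R : Type u} [CommRing R] [IsNoetherianRing R] (a : R) (M : Type u) [AddCommGroup M]
  [Module R M]

omit [IsNoetherianRing R] in
theorem ker_mkLinearMap_le :
    LinearMap.ker (LocalizedModule.mkLinearMap (Submonoid.powers a) M) ≤
      DRing.torsionSub (Ideal.span {a}) M := by
  intro m hm
  rw [LinearMap.mem_ker] at hm
  obtain ⟨⟨_, k, rfl⟩, hs⟩ := (IsLocalizedModule.eq_zero_iff (Submonoid.powers a)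
    (LocalizedModule.mkLinearMap (Submonoid.powers a) M)).mp hm
  exact mem_torsionSub_span_singleton (k := k) hs

omit [IsNoetherianRing R] in
theorem coker_mkLinearMap_torsion
    (c : LocalizedModule (Submonoid.powers a) M ⧸
      LinearMap.range (LocalizedModule.mkLinearMap (Submonoid.powers a) M)) :
    c ∈ DRing.torsionSub (Ideal.span {a}) (LocalizedModule (Submonoid.powers a) M ⧸
      LinearMap.range (LocalizedModule.mkLinearMap (Submonoid.powers a) M)) := by
  obtain ⟨y, rfl⟩ := Submodule.Quotient.mk_surjective _ c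
  obtain ⟨⟨m, ⟨_, k, rfl⟩⟩, hy⟩ := IsLocalizedModule.surj (Submonoid.powers a)
    (LocalizedModule.mkLinearMap (Submonoid.powers a) M) y
  apply mem_torsionSub_span_singleton (k := k)
  rw [← Submodule.Quotient.mk_smul, Submodule.Quotient.mk_eq_zero]
  exact ⟨m, hy.symm⟩

omit [IsNoetherianRing R] in
theorem isSMulRegular_localizedModule :
    IsSMulRegular (LocalizedModule (Submonoid.powers a) M) a := by
  have := (Module.End.isUnit_iff _).mp
    (IsLocalizedModule.map_units (S := Submonoid.powers a)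
      (LocalizedModule.mkLinearMap (Submonoid.powers a) M) ⟨a, Submonoid.mem_powers a⟩)
  exact this.1

omit [IsNoetherianRing R] in
theorem toDT_localizedModule_bijective :
    Function.Bijective
      (LocCoh.toDT (Ideal.span {a}) (LocalizedModule (Submonoid.powers a) M)) := by
  constructor
  · rw [← LinearMap.ker_eq_bot, ker_toDT,
      torsionSub_eq_bot_of_regular (Ideal.span {a}) _ (Ideal.mem_span_singleton_self a)
        (isSMulRegular_localizedModule a M)]
  · rw [← LinearMap.range_eq_top, ← ker_θ, LinearMap.ker_eq_top]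
    apply LinearMap.ext
    intro z
    exact (subsingleton_H_localizedModule_powers a M 1).elim _ _

/-- The isomorphism `M_a ≅ D_{(a)}(M)`. -/
noncomputable def locEquivDT :
    LocalizedModule (Submonoid.powers a) M ≃ₗ[R] LocCoh.DT (Ideal.span {a}) M :=
  LinearEquiv.ofBijective
    (factor (Ideal.span {a}) (LocalizedModule.mkLinearMap (Submonoid.powers a) M)
      (ker_mkLinearMap_le a M) (coker_mkLinearMap_torsion a M) LinearMap.id)
    (factor_bijective (Ideal.span {a}) _ (ker_mkLinearMap_le a M) (coker_mkLinearMap_torsion a M)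
      LinearMap.id Function.bijective_id _ (factor_comp _ _ _ _ _)
      (toDT_localizedModule_bijective a M))

theorem locEquivDT_mk (m : M) :
    locEquivDT a M (LocalizedModule.mkLinearMap (Submonoid.powers a) M m) =
      LocCoh.toDT (Ideal.span {a}) M m :=
  LinearMap.congr_fun (factor_comp (Ideal.span {a})
    (LocalizedModule.mkLinearMap (Submonoid.powers a) M)
    (ker_mkLinearMap_le a M) (coker_mkLinearMap_torsion a M) LinearMap.id) m

theorem locEquivDT_mk_pow (t : ℕ) (f : P (Ideal.span {a}) t ⟶ ModuleCat.of R M) :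
    locEquivDT a M (LocalizedModule.mk
      (f.hom ⟨a ^ t, Ideal.pow_mem_pow (Ideal.mem_span_singleton_self a) t⟩)
      ⟨a ^ t, pow_mem (Submonoid.mem_powers a) t⟩) = κ (Ideal.span {a}) (ModuleCat.of R M) t f := by
  set at' : ↥(Ideal.span {a} ^ t) :=
    ⟨a ^ t, Ideal.pow_mem_pow (Ideal.mem_span_singleton_self a) t⟩ with hat
  set y := locEquivDT a M (LocalizedModule.mk (f.hom at')
      ⟨a ^ t, pow_mem (Submonoid.mem_powers a) t⟩) with hy
  have h1 : a ^ t • y = a ^ t • κ (Ideal.span {a}) (ModuleCat.of R M) t f := by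
    rw [hy, ← map_smul]
    have h2 : a ^ t • LocalizedModule.mk (f.hom at')
        (⟨a ^ t, pow_mem (Submonoid.mem_powers a) t⟩ : Submonoid.powers a) =
        LocalizedModule.mkLinearMap (Submonoid.powers a) M (f.hom at') := by
      rw [LocalizedModule.mkLinearMap_apply, LocalizedModule.smul'_mk]
      exact LocalizedModule.mk_cancel (⟨a ^ t, pow_mem (Submonoid.mem_powers a) t⟩ :
        Submonoid.powers a) (f.hom at')
    rw [h2, locEquivDT_mk]
    exact (smul_κ_eq_toDT (Ideal.span {a}) M f at').symm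
  have h3 : y - κ (Ideal.span {a}) (ModuleCat.of R M) t f ∈
      DRing.torsionSub (Ideal.span {a}) (LocCoh.DT (Ideal.span {a}) M) := by
    apply mem_torsionSub_span_singleton (k := t)
    rw [smul_sub, h1, sub_self]
  rw [torsionSub_DT_eq_bot, Submodule.mem_bot, sub_eq_zero] at h3
  exact h3

end principal

end Groth.Agent.Lib.Helper16.DTL
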