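import Groth.Agent.Lib.Helper16.DTExactness

/-!
# The ideal transform as a saturation inside `S⁻¹M` (helper16)

* `fg_le_of_directed_iSup`, `subsingleton_H_of_smul_bijective`.
* `colonSub`, `satSub`, `toSat`, `toDT_satSub_bijective`, `existsUnique_saturation`.
-/

set_option autoImplicit false
universe u
open CategoryTheory Opposite Limits

namespace Groth.Agent.Lib.Helper16.DTL

open Groth.Agent.Lib.Helper16.LC Groth.Agent.Lib.Helper16.Depth

section aux

variable {R : Type u} [CommRing R]

theorem fg_le_of_directed_iSup {M : Type u} [AddCommGroup M] [Module R M] {ι : Type} [Nonempty ι]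
    (S : ι → Submodule R M) (H : Directed (· ≤ ·) S) (N : Submodule R M) (hN : N.FG)
    (h : N ≤ iSup S) : ∃ i, N ≤ S i := by
  obtain ⟨t, ht⟩ := CompleteLattice.IsCompactElement.exists_finset_of_le_iSup
    (α := Submodule R M) ((Submodule.fg_iff_compact N).mp hN) S h
  obtain ⟨z, hz⟩ := H.finset_le t
  exact ⟨z, ht.trans (iSup₂_le hz)⟩

/-- If `s ∈ I` acts bijectively on `L` then all `H^p_I(L)` vanish. -/
theorem subsingleton_H_of_smul_bijective (I : Ideal R) {s : R} (hs : s ∈ I) (L : Type u)
    [AddCommGroup L] [Module R L] (hL : Function.Bijective (fun y : L => s • y)) (p : ℕ) :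
    Subsingleton (LocCoh.H I p L) := by
  apply subsingleton_H_of_forall
  intro k
  refine subsingleton_ext_of_smul_bijective (s ^ k) ?_ ?_ p
  · intro y
    obtain ⟨r, rfl⟩ := Ideal.Quotient.mk_surjective y
    change s ^ k • (Ideal.Quotient.mk (I ^ k) r) = 0
    rw [Algebra.smul_def]
    have : (algebraMap R (R ⧸ I ^ k)) (s ^ k) = 0 :=
      Ideal.Quotient.eq_zero_iff_mem.mpr (Ideal.pow_mem_pow hs k)
    rw [this, zero_mul]
  · have : (fun y : L => s ^ k • y) = (fun y : L => s • y)^[k] := by
      funext y
      induction k with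
      | zero => simp
      | succ k ih => rw [Function.iterate_succ_apply', ← ih, pow_succ', mul_smul]
    change Function.Bijective (fun y : L => s ^ k • y)
    rw [this]
    exact hL.iterate k

end aux

section saturation

variable {R : Type u} [CommRing R] [IsNoetherianRing R] (I : Ideal R) (M : Type u)
  [AddCommGroup M] [Module R M] (S : Submonoid R)

/-- `(M :_{S⁻¹M} I^n)`. -/
noncomputable def colonSub (n : ℕ) : Submodule R (LocalizedModule S M) :=
  ⨅ (a : R) (_ : a ∈ I ^ n), (LinearMap.range (LocalizedModule.mkLinearMap S M)).comap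
    (LinearMap.lsmul R (LocalizedModule S M) a)

omit [IsNoetherianRing R] in
theorem mem_colonSub {n : ℕ} {x : LocalizedModule S M} :
    x ∈ colonSub I M S n ↔
      ∀ a ∈ I ^ n, a • x ∈ LinearMap.range (LocalizedModule.mkLinearMap S M) := by
  simp [colonSub, Submodule.mem_iInf]

omit [IsNoetherianRing R] in
theorem colonSub_mono : Monotone (colonSub I M S) := by
  intro n m h x hx
  rw [mem_colonSub] at hx ⊢
  exact fun a ha => hx a (Ideal.pow_le_pow_right h ha)

/-- the saturation `⋃ₙ (M :_{S⁻¹M} I^n)` -/
noncomputable abbrev satSub : Submodule R (LocalizedModule S M) := ⨆ n : ℕ, colonSub I M S n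

omit [IsNoetherianRing R] in
theorem mem_satSub {x : LocalizedModule S M} :
    x ∈ satSub I M S ↔ ∃ n, x ∈ colonSub I M S n :=
  Submodule.mem_iSup_of_directed _ (colonSub_mono I M S).directed_le

omit [IsNoetherianRing R] in
theorem range_le_satSub :
    LinearMap.range (LocalizedModule.mkLinearMap S M) ≤ satSub I M S := by
  rintro _ ⟨m, rfl⟩
  rw [mem_satSub]
  refine ⟨0, ?_⟩
  rw [mem_colonSub]
  intro a _
  exact ⟨a • m, map_smul _ _ _⟩

/-- the map `M → satSub` -/
noncomputable def toSat : M →ₗ[R] satSub I M S :=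
  LinearMap.codRestrict _ (LocalizedModule.mkLinearMap S M)
    (fun m => range_le_satSub I M S ⟨m, rfl⟩)

variable {S} in
omit [IsNoetherianRing R] in
theorem toSat_injective (hS : ∀ s ∈ S, IsSMulRegular M s) : Function.Injective (toSat I M S) := by
  rw [injective_iff_map_eq_zero]
  intro m hm
  have h1 : LocalizedModule.mkLinearMap S M m = 0 := congrArg Subtype.val hm
  obtain ⟨s, hs⟩ := (IsLocalizedModule.eq_zero_iff S (LocalizedModule.mkLinearMap S M)).mp h1
  exact (hS s.1 s.2) (by change (s : R) • m = (s : R) • (0 : M); rw [smul_zero]; exact hs)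

omit [IsNoetherianRing R] in
theorem coker_toSat_torsion (c : satSub I M S ⧸ LinearMap.range (toSat I M S)) :
    c ∈ DRing.torsionSub I (satSub I M S ⧸ LinearMap.range (toSat I M S)) := by
  obtain ⟨⟨x, hx⟩, rfl⟩ := Submodule.Quotient.mk_surjective _ c
  obtain ⟨n, hn⟩ := (mem_satSub I M S).mp hx
  rw [mem_colonSub] at hn
  refine ⟨n, fun a ha => ?_⟩
  rw [← Submodule.Quotient.mk_smul, Submodule.Quotient.mk_eq_zero]
  obtain ⟨m, hm⟩ := hn a ha
  exact ⟨m, Subtype.ext hm⟩

variable {S} in
omit [IsNoetherianRing R] in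
theorem smul_bijective_localizedModule {s : R} (hs : s ∈ S) :
    Function.Bijective (fun y : LocalizedModule S M => s • y) :=
  (Module.End.isUnit_iff _).mp
    (IsLocalizedModule.map_units (S := S) (LocalizedModule.mkLinearMap S M) ⟨s, hs⟩)

/-- `Γ_I(S⁻¹M / satSub) = 0`. -/
theorem torsionSub_quotient_satSub :
    DRing.torsionSub I (LocalizedModule S M ⧸ satSub I M S) = ⊥ := by
  rw [eq_bot_iff]
  rintro c ⟨n, hn⟩
  obtain ⟨x, rfl⟩ := Submodule.Quotient.mk_surjective _ c
  rw [Submodule.mem_bot, Submodule.Quotient.mk_eq_zero]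
  -- `I^n • span{x}` is a finitely generated submodule of the saturation
  have hfg : ((I ^ n) • (Submodule.span R {x} : Submodule R (LocalizedModule S M))).FG :=
    Submodule.FG.smul (IsNoetherian.noetherian _) (Submodule.fg_span_singleton x)
  have hle : (I ^ n) • (Submodule.span R {x} : Submodule R (LocalizedModule S M)) ≤
      satSub I M S := by
    rw [Submodule.smul_le]
    intro a ha y hy
    obtain ⟨r, rfl⟩ := Submodule.mem_span_singleton.mp hy
    have h1 := hn a ha
    rw [← Submodule.Quotient.mk_smul, Submodule.Quotient.mk_eq_zero] at h1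
    rw [smul_comm]
    exact (satSub I M S).smul_mem r h1
  obtain ⟨N, hN⟩ := fg_le_of_directed_iSup (colonSub I M S) (colonSub_mono I M S).directed_le _
    hfg hle
  rw [mem_satSub]
  refine ⟨N + n, ?_⟩
  rw [mem_colonSub]
  intro a ha
  rw [pow_add] at ha
  refine Submodule.mul_induction_on ha ?_ ?_
  · intro b hb c hc
    rw [mul_smul]
    have h2 : c • x ∈ colonSub I M S N :=
      hN (Submodule.smul_mem_smul hc (Submodule.mem_span_singleton_self x))
    rw [mem_colonSub] at h2
    exact h2 b hb
  · intro y z hy hz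
    rw [add_smul]
    exact Submodule.add_mem _ hy hz

variable {S} in
/-- `η` is bijective on the saturation. -/
theorem toDT_satSub_bijective {s : R} (hsS : s ∈ S) (hsI : s ∈ I) :
    Function.Bijective (LocCoh.toDT I (satSub I M S)) := by
  have hbij := smul_bijective_localizedModule M hsS
  have hreg : IsSMulRegular (satSub I M S) s := by
    intro x y hxy
    apply Subtype.ext
    apply hbij.1
    exact congrArg Subtype.val hxy
  have hB := shortExact_of_linearMaps (satSub I M S).subtype (satSub I M S).mkQ
    (Submodule.injective_subtype _) (Submodule.mkQ_surjective _)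
    (LinearMap.exact_subtype_mkQ _)
  have h0 : Subsingleton (LocCoh.H I 0 (LocalizedModule S M ⧸ satSub I M S)) := by
    rw [(H0equiv I (ModuleCat.of R (LocalizedModule S M ⧸ satSub I M S))).toEquiv.subsingleton_congr]
    change Subsingleton (DRing.torsionSub I (LocalizedModule S M ⧸ satSub I M S))
    rw [torsionSub_quotient_satSub]
    infer_instance
  have h1 : Subsingleton (LocCoh.H I (0 + 1) (satSub I M S)) :=
    subsingleton_H_X₁ I hB 0 h0 (subsingleton_H_of_smul_bijective I hsI _ hbij 1)
  constructor
  · rw [← LinearMap.ker_eq_bot, ker_toDT, torsionSub_eq_bot_of_regular I _ hsI hreg]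
  · rw [← LinearMap.range_eq_top, ← ker_θ, LinearMap.ker_eq_top]
    apply LinearMap.ext
    intro z
    exact h1.elim _ _

variable {S} in
theorem existsUnique_saturation (hS : ∀ s ∈ S, IsSMulRegular M s) (hSI : ∃ s ∈ S, s ∈ I) :
    ∃! ψ : satSub I M S →ₗ[R] LocCoh.DT I M,
      (∀ (x : satSub I M S) (m : M),
        (x : LocalizedModule S M) = LocalizedModule.mkLinearMap S M m → ψ x = LocCoh.toDT I M m) ∧
      Function.Bijective ψ := by
  obtain ⟨s, hsS, hsI⟩ := hSI
  have hker : LinearMap.ker (toSat I M S) ≤ DRing.torsionSub I M := by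
    rw [LinearMap.ker_eq_bot.mpr (toSat_injective I M hS)]
    exact bot_le
  have hcoker := coker_toSat_torsion I M S
  have hcomp := factor_comp I (toSat I M S) hker hcoker (LinearMap.id : M →ₗ[R] M)
  refine ⟨factor I (toSat I M S) hker hcoker LinearMap.id, ⟨?_, ?_⟩, ?_⟩
  · intro x m hxm
    have : x = toSat I M S m := Subtype.ext hxm
    rw [this]
    exact LinearMap.congr_fun hcomp m
  · exact factor_bijective I _ hker hcoker LinearMap.id Function.bijective_id _ hcomp
      (toDT_satSub_bijective I M hsS hsI)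
  · rintro ψ₂ ⟨h1, -⟩
    apply factor_unique I (toSat I M S) hcoker
    rw [hcomp]
    apply LinearMap.ext
    intro m
    exact h1 (toSat I M S m) m rfl

end saturation

end Groth.Agent.Lib.Helper16.DTL
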