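import Groth.Agent.Lib.Helper16.DTExact

/-!
# Ideal transforms and torsion (helper16)

* `exists_lift_of_torsion` : lifting lemma.
* `idealTransform_map_bijective` : torsion kernel and cokernel ⇒ `D_I(e)` bijective.
* `smul_κ_eq_toDT`, `toDT_naturality`, `coker_toDT_torsion`, `idealTransform_map_toDT_eq`.
* `toDT_DT_bijective`, `torsionSub_DT_eq_bot`, `subsingleton_H_one_DT`, `Hmap_toDT_bijective`.
-/

set_option autoImplicit false
universe u
open CategoryTheory Opposite Limits

namespace Groth.Agent.Lib.Helper16.DTL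

open Groth.Agent.Lib.Helper16.LC Groth.Agent.Lib.Helper16.Depth

section general

variable {R : Type u} [CommRing R]

/-- naturality of the Yoneda product with extension classes. -/
theorem extClass_comp_naturality {S₁ S₂ : ShortComplex (ModuleCat.{u} R)} (h₁ : S₁.ShortExact)
    (h₂ : S₂.ShortExact) (φ : S₁ ⟶ S₂) {Y : ModuleCat.{u} R} (o : Abelian.Ext.{u} S₂.X₁ Y 1) :
    (Abelian.Ext.mk₀ φ.τ₃).comp (h₂.extClass.comp o (rfl : 1 + 1 = 2)) (zero_add 2) =
      h₁.extClass.comp ((Abelian.Ext.mk₀ φ.τ₁).comp o (zero_add 1)) (rfl : 1 + 1 = 2) := by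
  rw [← Abelian.Ext.comp_assoc (a₁₂ := 1) _ _ _ (by lia) (by lia) (by lia),
    ← ShortComplex.ShortExact.extClass_naturality h₁ h₂ φ,
    Abelian.Ext.comp_assoc (a₂₃ := 1) _ _ _ (by lia) (by lia) (by lia)]

/-- If the middle term is projective, `Ext^1(X₁, Y) → Ext^2(X₃, Y)` is injective. -/
theorem eq_zero_of_extClass_comp_eq_zero {T : ShortComplex (ModuleCat.{u} R)} (hT : T.ShortExact)
    [Projective T.X₂] {Y : ModuleCat.{u} R} (x₁ : Abelian.Ext.{u} T.X₁ Y 1)
    (h : hT.extClass.comp x₁ (rfl : 1 + 1 = 2) = 0) : x₁ = 0 := by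
  obtain ⟨x₂, hx₂⟩ := Abelian.Ext.contravariant_sequence_exact₁ hT Y x₁ rfl h
  rw [← hx₂, Abelian.Ext.eq_zero_of_projective x₂, Abelian.Ext.comp_zero]

end general

section lifting

variable {R : Type u} [CommRing R] [IsNoetherianRing R] (I : Ideal R)

/-- **Lifting lemma**: for a short exact sequence `0 → X₁ → X₂ → X₃ → 0` with `X₁` `I`-power
torsion, every `ψ : I^k → X₃` lifts to `X₂` after restriction to a smaller power of `I`. -/
theorem exists_lift_of_torsion {S : ShortComplex (ModuleCat.{u} R)} (hS : S.ShortExact)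
    (htor : ∀ m : S.X₁, m ∈ DRing.torsionSub I S.X₁) {k : ℕ} (ψ : P I k ⟶ S.X₃) :
    ∃ (l : ℕ) (h : k ≤ l) (f : P I l ⟶ S.X₂), f ≫ S.g = incl I h ≫ ψ := by
  let o : Abelian.Ext.{u} (P I k) S.X₁ 1 := (Abelian.Ext.mk₀ ψ).comp hS.extClass (zero_add 1)
  let o' : E I 2 S.X₁ k := (SP_shortExact I k).extClass.comp o (rfl : 1 + 1 = 2)
  have hH : Subsingleton ((localCohomology I (1 + 1)).obj S.X₁) :=
    subsingleton_H_succ_of_torsion I 1 S.X₁ htor
  obtain ⟨l, h, hl⟩ := (ι_eq_zero_iff I 2 S.X₁ o').mp (hH.elim _ _)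
  refine ⟨l, h, ?_⟩
  rw [trans_apply] at hl
  have h1 : (SP_shortExact I l).extClass.comp ((Abelian.Ext.mk₀ (incl I h)).comp o (zero_add 1))
      (rfl : 1 + 1 = 2) = 0 :=
    (extClass_comp_naturality (SP_shortExact I l) (SP_shortExact I k) (SPmap I h) o).symm.trans hl
  have : Projective (SP I l).X₂ := projective_self
  have h2 : (Abelian.Ext.mk₀ (incl I h)).comp o (zero_add 1) = 0 :=
    eq_zero_of_extClass_comp_eq_zero (SP_shortExact I l) _ h1
  have h3 : (Abelian.Ext.mk₀ (incl I h ≫ ψ)).comp hS.extClass (zero_add 1) = 0 := by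
    rw [← Abelian.Ext.mk₀_comp_mk₀_assoc]
    exact h2
  obtain ⟨x₂, hx₂⟩ := Abelian.Ext.covariant_sequence_exact₃ (P I l) hS _ rfl h3
  obtain ⟨f, rfl⟩ := (Abelian.Ext.mk₀_bijective.{u} _ _).2 x₂
  rw [Abelian.Ext.mk₀_comp_mk₀] at hx₂
  exact ⟨f, (Abelian.Ext.mk₀_bijective.{u} _ _).1 hx₂⟩

omit [IsNoetherianRing R] in
theorem incl_incl {k l m : ℕ} (h₁ : k ≤ l) (h₂ : l ≤ m) :
    incl I h₂ ≫ incl I h₁ = incl I (h₁.trans h₂) := rfl

/-- A linear map with `I`-torsion kernel and cokernel induces a bijection on ideal transforms. -/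
theorem idealTransform_map_bijective {M M' : Type u} [AddCommGroup M] [Module R M]
    [AddCommGroup M'] [Module R M'] (e : M →ₗ[R] M') (hker : LinearMap.ker e ≤ DRing.torsionSub I M)
    (hcoker : ∀ c : M' ⧸ LinearMap.range e, c ∈ DRing.torsionSub I (M' ⧸ LinearMap.range e)) :
    Function.Bijective ((LocCoh.idealTransform I).map (ModuleCat.ofHom e)).hom := by
  constructor
  · rw [injective_iff_map_eq_zero]
    intro x hx
    obtain ⟨k, f, rfl⟩ := κ_jointly_surjective I (ModuleCat.of R M) x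
    rw [κ_naturality, κ_eq_zero_iff] at hx
    obtain ⟨l, h, hl⟩ := hx
    have hf : ∀ r, (incl I h ≫ f).hom r ∈ DRing.torsionSub I (ModuleCat.of R M) := by
      intro r
      apply hker
      rw [LinearMap.mem_ker]
      exact LinearMap.congr_fun (congrArg ModuleCat.Hom.hom hl) r
    obtain ⟨l', h', hl'⟩ := exists_incl_comp_eq_zero I (ModuleCat.of R M) (incl I h ≫ f) hf
    rw [← κ_incl I _ h f, ← κ_incl I _ h' (incl I h ≫ f), hl', map_zero]
  · intro y
    obtain ⟨k, ψ, rfl⟩ := κ_jointly_surjective I (ModuleCat.of R M') y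
    -- Step 1: restrict so that `ψ` lands in `range e`
    obtain ⟨l₁, h₁, hl₁⟩ := exists_incl_comp_eq_zero I (ModuleCat.of R (M' ⧸ LinearMap.range e))
      (ψ ≫ ModuleCat.ofHom (LinearMap.range e).mkQ) (fun r => hcoker _)
    have hmem : ∀ r : ↥(I ^ l₁), (incl I h₁ ≫ ψ).hom r ∈ LinearMap.range e := by
      intro r
      have := LinearMap.congr_fun (congrArg ModuleCat.Hom.hom hl₁) r
      rw [← Submodule.Quotient.mk_eq_zero]
      exact this
    let ψ₁ : P I l₁ ⟶ ModuleCat.of R (LinearMap.range e) :=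
      ModuleCat.ofHom (LinearMap.codRestrict (LinearMap.range e) (incl I h₁ ≫ ψ).hom hmem)
    -- Step 2: lift along `M → range e`
    have hA := shortExact_of_linearMaps (LinearMap.ker e).subtype e.rangeRestrict
      (Submodule.injective_subtype _) e.surjective_rangeRestrict (by
        intro m
        constructor
        · intro hm
          refine ⟨⟨m, ?_⟩, rfl⟩
          rw [LinearMap.mem_ker]
          exact congrArg Subtype.val hm
        · rintro ⟨⟨m', hm'⟩, rfl⟩
          apply Subtype.ext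
          exact hm')
    have htor : ∀ m : LinearMap.ker e, m ∈ DRing.torsionSub I (LinearMap.ker e) := by
      rintro ⟨m, hm⟩
      obtain ⟨n, hn⟩ := hker hm
      refine ⟨n, fun a ha => ?_⟩
      apply Subtype.ext
      exact hn a ha
    obtain ⟨l₂, h₂, f, hf⟩ := exists_lift_of_torsion I hA htor ψ₁
    refine ⟨κ I (ModuleCat.of R M) l₂ f, ?_⟩
    rw [κ_naturality, ← κ_incl I _ (h₁.trans h₂) ψ]
    congr 1
    apply ModuleCat.hom_ext
    apply LinearMap.ext
    intro r
    have := LinearMap.congr_fun (congrArg ModuleCat.Hom.hom hf) r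
    exact congrArg Subtype.val this

end lifting

section eta

variable {R : Type u} [CommRing R] (I : Ideal R)

theorem smul_κ_eq_toDT (N : Type u) [AddCommGroup N] [Module R N] {k : ℕ}
    (f : P I k ⟶ ModuleCat.of R N) (r : ↥(I ^ k)) :
    (r : R) • κ I (ModuleCat.of R N) k f = LocCoh.toDT I N (f.hom r) := by
  rw [toDT_eq I N _ k, ← map_smul]
  congr 1
  apply ModuleCat.hom_ext
  apply LinearMap.ext
  intro s
  change (r : R) • f.hom s = (s : R) • f.hom r
  rw [← map_smul, ← map_smul]
  congr 1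
  apply Subtype.ext
  change (r : R) * (s : R) = (s : R) * (r : R)
  exact mul_comm _ _

theorem toDT_naturality {N N' : Type u} [AddCommGroup N] [Module R N] [AddCommGroup N']
    [Module R N'] (g : N →ₗ[R] N') (m : N) :
    ((LocCoh.idealTransform I).map (ModuleCat.ofHom g)).hom (LocCoh.toDT I N m) =
      LocCoh.toDT I N' (g m) := by
  rw [toDT_eq I N m 0, κ_naturality, toDT_eq I N' (g m) 0]
  congr 1
  apply ModuleCat.hom_ext
  apply LinearMap.ext
  intro r
  change g ((r : R) • m) = (r : R) • g m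
  rw [map_smul]

/-- The cokernel of `η_M` is `I`-power torsion. -/
theorem coker_toDT_torsion (N : Type u) [AddCommGroup N] [Module R N]
    (c : LocCoh.DT I N ⧸ LinearMap.range (LocCoh.toDT I N)) :
    c ∈ DRing.torsionSub I (LocCoh.DT I N ⧸ LinearMap.range (LocCoh.toDT I N)) := by
  obtain ⟨x, rfl⟩ := Submodule.Quotient.mk_surjective _ c
  obtain ⟨k, f, rfl⟩ := κ_jointly_surjective I (ModuleCat.of R N) x
  refine ⟨k, fun r hr => ?_⟩
  rw [← Submodule.Quotient.mk_smul, Submodule.Quotient.mk_eq_zero]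
  exact ⟨f.hom ⟨r, hr⟩, (smul_κ_eq_toDT I N f ⟨r, hr⟩).symm⟩

/-- `D_I(η_M) = η_{D_I(M)}`. -/
theorem idealTransform_map_toDT_eq (N : Type u) [AddCommGroup N] [Module R N]
    (x : LocCoh.DT I N) :
    ((LocCoh.idealTransform I).map (ModuleCat.ofHom (LocCoh.toDT I N))).hom x =
      LocCoh.toDT I (LocCoh.DT I N) x := by
  obtain ⟨k, f, rfl⟩ := κ_jointly_surjective I (ModuleCat.of R N) x
  rw [κ_naturality, toDT_eq I (LocCoh.DT I N) _ k]
  congr 1
  apply ModuleCat.hom_ext
  apply LinearMap.ext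
  intro r
  exact (smul_κ_eq_toDT I N f r).symm

variable [IsNoetherianRing R]

theorem idealTransform_map_toDT_bijective (N : Type u) [AddCommGroup N] [Module R N] :
    Function.Bijective ((LocCoh.idealTransform I).map (ModuleCat.ofHom (LocCoh.toDT I N))).hom :=
  idealTransform_map_bijective I (LocCoh.toDT I N) (ker_toDT I N).le (coker_toDT_torsion I N)

theorem idealTransform_map_mkQ_bijective (N : Type u) [AddCommGroup N] [Module R N] :
    Function.Bijective
      ((LocCoh.idealTransform I).map (ModuleCat.ofHom (DRing.torsionSub I N).mkQ)).hom := by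
  apply idealTransform_map_bijective I
  · rw [Submodule.ker_mkQ]
  · intro c
    have : Subsingleton ((N ⧸ DRing.torsionSub I N) ⧸
        LinearMap.range (DRing.torsionSub I N).mkQ) := by
      rw [Submodule.range_mkQ]
      infer_instance
    rw [Subsingleton.elim c 0]
    exact Submodule.zero_mem _

theorem toDT_DT_bijective (N : Type u) [AddCommGroup N] [Module R N] :
    Function.Bijective (LocCoh.toDT I (LocCoh.DT I N)) := by
  have h := idealTransform_map_toDT_bijective I N
  have heq : ⇑(LocCoh.toDT I (LocCoh.DT I N)) =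
      ⇑((LocCoh.idealTransform I).map (ModuleCat.ofHom (LocCoh.toDT I N))).hom := by
    funext x
    exact (idealTransform_map_toDT_eq I N x).symm
  rw [heq]
  exact h

/-- `Γ_I(D_I(M)) = 0`. -/
theorem torsionSub_DT_eq_bot (N : Type u) [AddCommGroup N] [Module R N] :
    DRing.torsionSub I (LocCoh.DT I N) = ⊥ := by
  rw [← ker_toDT, LinearMap.ker_eq_bot]
  exact (toDT_DT_bijective I N).1

/-- `H^1_I(D_I(M)) = 0`. -/
theorem subsingleton_H_one_DT (N : Type u) [AddCommGroup N] [Module R N] :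
    Subsingleton (LocCoh.H I 1 (LocCoh.DT I N)) := by
  have h1 : LinearMap.range (LocCoh.toDT I (LocCoh.DT I N)) = ⊤ :=
    LinearMap.range_eq_top.mpr (toDT_DT_bijective I N).2
  rw [← ker_θ, LinearMap.ker_eq_top] at h1
  refine ⟨fun a b => ?_⟩
  suffices hz : ∀ z : LocCoh.H I 1 (LocCoh.DT I N), z = 0 by rw [hz a, hz b]
  intro z
  obtain ⟨x, rfl⟩ := θ_surjective I (ModuleCat.of R (LocCoh.DT I N)) z
  rw [h1, LinearMap.zero_apply]

/-- `H^i_I(M) → H^i_I(D_I(M))` is bijective for `i ≥ 2`. -/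
theorem Hmap_toDT_bijective (N : Type u) [AddCommGroup N] [Module R N] (p : ℕ) :
    Function.Bijective (Hmap I (p + 1 + 1) (ModuleCat.ofHom (LocCoh.toDT I N))) := by
  let η := LocCoh.toDT I N
  have hA := shortExact_of_linearMaps (LinearMap.ker η).subtype η.rangeRestrict
    (Submodule.injective_subtype _) η.surjective_rangeRestrict (by
      intro m
      constructor
      · intro hm
        refine ⟨⟨m, ?_⟩, rfl⟩
        rw [LinearMap.mem_ker]
        exact congrArg Subtype.val hm
      · rintro ⟨⟨m', hm'⟩, rfl⟩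
        apply Subtype.ext
        exact hm')
  have hB := shortExact_of_linearMaps (LinearMap.range η).subtype (LinearMap.range η).mkQ
    (Submodule.injective_subtype _) (Submodule.mkQ_surjective _)
    (LinearMap.exact_subtype_mkQ _)
  have hker : ∀ m : LinearMap.ker η, m ∈ DRing.torsionSub I (LinearMap.ker η) := by
    rintro ⟨m, hm⟩
    have hm' : m ∈ DRing.torsionSub I N := by rw [← ker_toDT]; exact hm
    obtain ⟨n, hn⟩ := hm'
    refine ⟨n, fun a ha => ?_⟩
    apply Subtype.ext
    exact hn a ha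
  have b1 := Hmap_g_bijective_of_subsingleton I hA (p + 1 + 1)
    (subsingleton_H_succ_of_torsion I (p + 1) _ hker)
    (subsingleton_H_succ_of_torsion I (p + 1 + 1) _ hker)
  have b2 := Hmap_f_bijective_of_subsingleton I hB (p + 1)
    (subsingleton_H_succ_of_torsion I p _ (coker_toDT_torsion I N))
    (subsingleton_H_succ_of_torsion I (p + 1) _ (coker_toDT_torsion I N))
  have hcomp : ModuleCat.ofHom η =
      ModuleCat.ofHom η.rangeRestrict ≫ ModuleCat.ofHom (LinearMap.range η).subtype := rfl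
  have : Hmap I (p + 1 + 1) (ModuleCat.ofHom η) =
      (Hmap I (p + 1 + 1) (ModuleCat.ofHom (LinearMap.range η).subtype)).comp
        (Hmap I (p + 1 + 1) (ModuleCat.ofHom η.rangeRestrict)) := by
    rw [hcomp, Hmap, Functor.map_comp, ModuleCat.hom_comp]
  rw [this, LinearMap.coe_comp]
  exact b2.comp b1

end eta

end Groth.Agent.Lib.Helper16.DTL
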