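import Mathlib
import Groth.Agent.Lib.Helper16.CotBC6
import Groth.Agent.Lib.Helper13.PerfMor1

/-!
# Finite Tor-dimension gives finite projective dimension (Noetherian, finite module)
-/

set_option autoImplicit false
set_option linter.unusedSectionVars false
universe u

open CategoryTheory TensorProduct

namespace Groth.Agent.Lib.Helper16.DiagPerf

open Groth.Agent.Lib.Helper13.DR Groth.Agent.Lib.Helper13.PC

attribute [local instance] HasDerivedCategory.standard

/-- over a Noetherian ring, a finite module of finite Tor-dimension has finite projective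
dimension -/
theorem exists_hasProjectiveDimensionLT_of_hasFiniteTorDim (R : Type u) [CommRing R]
    [IsNoetherianRing R] (M : Type u) [AddCommGroup M] [Module R M] [Module.Finite R M]
    (h : DRing.HasFiniteTorDim R M) :
    ∃ n : ℕ, HasProjectiveDimensionLT (ModuleCat.of R M) (n + 1) := by
  have hpc : DRing.IsPseudoCoherentModule' R M :=
    (isPseudoCoherentModule'_iff_of_isNoetherianRing M).2 inferInstance
  obtain ⟨a, b, hab⟩ := (Groth.Agent.Lib.Helper13.PM.hasFiniteTorDim_iff R M).1 h
  have hperf : DRing.IsPerfectModule R M :=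
    isPerfect_of_isNPC_of_hasTorAmplitudeIn ((isPseudoCoherent'_iff _).1 hpc _) hab
  obtain ⟨m, hm⟩ := Groth.Agent.Lib.Helper16.CotBC.exists_hasProjectiveDimensionLT_of_isPerfectModule
    _ _ hperf
  exact ⟨m, hasProjectiveDimensionLT_of_ge _ m (m + 1) (by lia)⟩

end Groth.Agent.Lib.Helper16.DiagPerf
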