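import Mathlib
import Groth.Agent.Lib.Helper16.DiagPerf1

/-!
# Perfect diagonal: residue fields at rational points of geometric fibres have finite projective dimension
-/

set_option autoImplicit false
set_option linter.unusedSectionVars false
set_option linter.style.haveILetI false
universe u

open CategoryTheory TensorProduct

namespace Groth.Agent.Lib.Helper16.DiagPerf

section B1

variable (A B k : Type u) [CommRing A] [CommRing B] [CommRing k] [Algebra A B] [Algebra A k]
  [Algebra B k] [IsScalarTower A B k]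

/-- the `k`-point of `k ⊗ B` defined by the structure map `B → k` -/
noncomputable def chi : k ⊗[A] B →ₐ[k] k :=
  Algebra.TensorProduct.lift (Algebra.ofId k k) (IsScalarTower.toAlgHom A B k)
    (fun _ _ => Commute.all _ _)

@[simp]
theorem chi_tmul (x : k) (b : B) : chi A B k (x ⊗ₜ b) = x * algebraMap B k b := by
  simp [chi]

theorem chi_surjective : Function.Surjective (chi A B k) := fun x => ⟨x ⊗ₜ 1, by simp⟩

/-- the map `B ⊗ B → k ⊗ B` -/
noncomputable def toC : B ⊗[A] B →ₐ[A] k ⊗[A] B :=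
  Algebra.TensorProduct.map (IsScalarTower.toAlgHom A B k) (AlgHom.id A B)

@[simp]
theorem toC_tmul (x y : B) : toC A B k (x ⊗ₜ y) = algebraMap B k x ⊗ₜ y := by
  simp [toC]

end B1

section B1aux

variable (A B k : Type u) [CommRing A] [CommRing B] [CommRing k] [Algebra A B] [Algebra A k]
  [Algebra B k] [IsScalarTower A B k]
  [Algebra (B ⊗[A] B) (k ⊗[A] B)] [IsScalarTower B (B ⊗[A] B) (k ⊗[A] B)]
  (hC : ∀ t, algebraMap (B ⊗[A] B) (k ⊗[A] B) t = toC A B k t)

include hC in
theorem isPushout_aux : Algebra.IsPushout B k (B ⊗[A] B) (k ⊗[A] B) := by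
  constructor
  refine IsBaseChange.of_equiv (AlgebraTensorModule.cancelBaseChange A B k k B) ?_
  intro x
  induction x using TensorProduct.induction_on with
  | zero => simp
  | add a b ha hb => rw [TensorProduct.tmul_add, map_add, ha, hb, map_add]
  | tmul a b =>
    rw [AlgebraTensorModule.cancelBaseChange_tmul]
    change _ = algebraMap (B ⊗[A] B) (k ⊗[A] B) (a ⊗ₜ b)
    rw [hC, toC_tmul, Algebra.smul_def, mul_one]

variable [Module.Flat A B] [Algebra (B ⊗[A] B) B] [IsScalarTower B (B ⊗[A] B) B]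
  (hmul : ∀ x y : B, algebraMap (B ⊗[A] B) B (x ⊗ₜ[A] y) = x * y)

include hC in
theorem pd_tensor (n : ℕ) (h : HasProjectiveDimensionLT (ModuleCat.of (B ⊗[A] B) B) (n + 1)) :
    HasProjectiveDimensionLT
      (ModuleCat.of (k ⊗[A] B) ((k ⊗[A] B) ⊗[B ⊗[A] B] B)) (n + 1) :=
  haveI := isPushout_aux A B k hC
  hasProjectiveDimensionLT_baseChange_of_flat B k (B ⊗[A] B) (k ⊗[A] B) n B h

include hC hmul in
theorem tmul_one_eq (c : k ⊗[A] B) :
    (c ⊗ₜ[B ⊗[A] B] (1 : B)) = ((chi A B k c) ⊗ₜ[A] (1 : B)) ⊗ₜ[B ⊗[A] B] (1 : B) := by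
  induction c using TensorProduct.induction_on with
  | zero => simp
  | add a b ha hb => rw [TensorProduct.add_tmul, ha, hb, map_add, TensorProduct.add_tmul,
      TensorProduct.add_tmul]
  | tmul x b =>
    have h1 : (x ⊗ₜ[A] b : k ⊗[A] B) = ((1 : B) ⊗ₜ[A] b : B ⊗[A] B) • (x ⊗ₜ[A] (1 : B)) := by
      rw [Algebra.smul_def, hC, toC_tmul, map_one, Algebra.TensorProduct.tmul_mul_tmul, one_mul,
        mul_one]
    have h2 : ((chi A B k (x ⊗ₜ b)) ⊗ₜ[A] (1 : B) : k ⊗[A] B) =
        (b ⊗ₜ[A] (1 : B) : B ⊗[A] B) • (x ⊗ₜ[A] (1 : B)) := by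
      rw [Algebra.smul_def, hC, toC_tmul, Algebra.TensorProduct.tmul_mul_tmul, one_mul, chi_tmul,
        mul_comm]
    rw [h2]
    nth_rewrite 1 [h1]
    rw [TensorProduct.smul_tmul, TensorProduct.smul_tmul, Algebra.smul_def,
      Algebra.smul_def, hmul, hmul]
    simp

end B1aux

section B1field

variable (A B k : Type u) [CommRing A] [CommRing B] [Field k] [Algebra A B] [Algebra A k]
  [Algebra B k] [IsScalarTower A B k]
  [Algebra (B ⊗[A] B) (k ⊗[A] B)] [IsScalarTower B (B ⊗[A] B) (k ⊗[A] B)]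
  (hC : ∀ t, algebraMap (B ⊗[A] B) (k ⊗[A] B) t = toC A B k t)
  [Module.Flat A B] [Algebra (B ⊗[A] B) B] [IsScalarTower B (B ⊗[A] B) B]
  (hmul : ∀ x y : B, algebraMap (B ⊗[A] B) B (x ⊗ₜ[A] y) = x * y)

/-- the map `c ↦ c ⊗ 1` -/
noncomputable def phi : (k ⊗[A] B) →ₗ[k ⊗[A] B] (k ⊗[A] B) ⊗[B ⊗[A] B] B :=
  LinearMap.toSpanSingleton (k ⊗[A] B) _ ((1 : k ⊗[A] B) ⊗ₜ[B ⊗[A] B] (1 : B))

theorem phi_apply (c : k ⊗[A] B) : phi A B k c = c ⊗ₜ[B ⊗[A] B] (1 : B) := by
  rw [phi, LinearMap.toSpanSingleton_apply, TensorProduct.smul_tmul', smul_eq_mul, mul_one]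

include hC hmul in
theorem phi_surjective : Function.Surjective (phi A B k) := by
  intro z
  induction z using TensorProduct.induction_on with
  | zero => exact ⟨0, map_zero _⟩
  | add a b ha hb =>
    obtain ⟨x, rfl⟩ := ha
    obtain ⟨y, rfl⟩ := hb
    exact ⟨x + y, map_add _ _ _⟩
  | tmul c b =>
    refine ⟨(b ⊗ₜ[A] (1 : B) : B ⊗[A] B) • c, ?_⟩
    rw [phi_apply, TensorProduct.smul_tmul, Algebra.smul_def, hmul, mul_one, mul_one]

include hC hmul in
theorem ker_chi_le_ker_phi :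
    RingHom.ker (chi A B k) ≤ LinearMap.ker (phi A B k) := by
  intro c hc
  rw [RingHom.mem_ker] at hc
  rw [LinearMap.mem_ker, phi_apply, tmul_one_eq A B k hC hmul, hc, TensorProduct.zero_tmul,
    TensorProduct.zero_tmul]

include hC in
theorem ker_phi_ne_top : LinearMap.ker (phi A B k) ≠ ⊤ := by
  intro h
  have h1 : (1 : k ⊗[A] B) ∈ LinearMap.ker (phi A B k) := h ▸ Submodule.mem_top
  rw [LinearMap.mem_ker, phi_apply] at h1
  haveI := isPushout_aux A B k hC
  have h2 := congrArg (Algebra.IsPushout.cancelBaseChange B k (B ⊗[A] B) (k ⊗[A] B) B) h1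
  rw [Algebra.IsPushout.cancelBaseChange_tmul, map_zero] at h2
  have h3 := congrArg (TensorProduct.rid B k) h2
  rw [TensorProduct.rid_tmul, map_zero, one_smul] at h3
  exact one_ne_zero h3

include hC hmul in
theorem ker_phi_eq : LinearMap.ker (phi A B k) = RingHom.ker (chi A B k) := by
  have hmax : (RingHom.ker (chi A B k)).IsMaximal :=
    RingHom.ker_isMaximal_of_surjective _ (chi_surjective A B k)
  exact (hmax.eq_of_le (ker_phi_ne_top A B k hC) (ker_chi_le_ker_phi A B k hC hmul)).symm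

include hC hmul in
/-- the residue field at the `k`-point defined by `B → k` has finite projective dimension -/
theorem pd_quot_ker_chi (n : ℕ)
    (h : HasProjectiveDimensionLT (ModuleCat.of (B ⊗[A] B) B) (n + 1)) :
    HasProjectiveDimensionLT
      (ModuleCat.of (k ⊗[A] B) ((k ⊗[A] B) ⧸ RingHom.ker (chi A B k))) (n + 1) := by
  have h1 := pd_tensor A B k hC n h
  have e : ((k ⊗[A] B) ⧸ RingHom.ker (chi A B k)) ≃ₗ[k ⊗[A] B] (k ⊗[A] B) ⊗[B ⊗[A] B] B :=
    (Submodule.quotEquivOfEq _ _ (ker_phi_eq A B k hC hmul).symm) ≪≫ₗ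
      (phi A B k).quotKerEquivOfSurjective (phi_surjective A B k hC hmul)
  exact hasProjectiveDimensionLT_of_iso e.toModuleIso.symm (n + 1)

end B1field

section B1final

variable (A B k : Type u) [CommRing A] [CommRing B] [Field k] [Algebra A B] [Algebra A k]
  [Algebra B k] [IsScalarTower A B k] [Module.Flat A B] [Algebra (B ⊗[A] B) B]
  (hmul : ∀ x y : B, algebraMap (B ⊗[A] B) B (x ⊗ₜ[A] y) = x * y)

include hmul in
/-- the residue field at the `k`-point defined by `B → k` has finite projective dimension -/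
theorem pd_quot_ker_chi' (n : ℕ)
    (h : HasProjectiveDimensionLT (ModuleCat.of (B ⊗[A] B) B) (n + 1)) :
    HasProjectiveDimensionLT
      (ModuleCat.of (k ⊗[A] B) ((k ⊗[A] B) ⧸ RingHom.ker (chi A B k))) (n + 1) := by
  letI : Algebra (B ⊗[A] B) (k ⊗[A] B) := (toC A B k).toRingHom.toAlgebra
  haveI : IsScalarTower B (B ⊗[A] B) (k ⊗[A] B) := IsScalarTower.of_algebraMap_eq (fun b => by
    change _ = toC A B k (algebraMap B (B ⊗[A] B) b)
    rw [Algebra.TensorProduct.algebraMap_apply, Algebra.TensorProduct.algebraMap_apply, toC_tmul]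
    rfl)
  haveI : IsScalarTower B (B ⊗[A] B) B := IsScalarTower.of_algebraMap_eq (fun b => by
    rw [Algebra.TensorProduct.algebraMap_apply, hmul, mul_one])
  exact pd_quot_ker_chi A B k (fun t => rfl) hmul n h

end B1final

end Groth.Agent.Lib.Helper16.DiagPerf
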