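import Mathlib
import Groth.Agent.Lib.Helper16.DiagPerf3
import Groth.Agent.Lib.Helper18.PD
import Groth.Agent.S0562
import Groth.Agent.S2116

/-!
# Perfect diagonal: geometric fibres are smooth
-/

set_option autoImplicit false
set_option linter.unusedSectionVars false
set_option linter.style.haveILetI false
universe u

open CategoryTheory TensorProduct

namespace Groth.Agent.Lib.Helper16.DiagPerf

section loc

/-- a maximal ideal whose residue module has finite projective dimension has regular local ring -/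
theorem isRegularLocalRing_of_pd_quot (C : Type u) [CommRing C] [IsNoetherianRing C]
    (m : Ideal C) [m.IsMaximal] (n : ℕ)
    (h : HasProjectiveDimensionLT (ModuleCat.of C (C ⧸ m)) (n + 1)) :
    IsRegularLocalRing (Localization.AtPrime m) := by
  have h1 := Groth.Agent.Lib.Helper18.PD.hasProjectiveDimensionLT_baseChange C
    (Localization.AtPrime m) n (C ⧸ m) h
  have e1 : (Localization.AtPrime m ⧸ m.map (algebraMap C (Localization.AtPrime m)))
      ≃ₗ[Localization.AtPrime m] (Localization.AtPrime m) ⊗[C] (C ⧸ m) :=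
    (Algebra.TensorProduct.quotIdealMapEquivTensorQuot (Localization.AtPrime m) m).toLinearEquiv
  have e2 : (Localization.AtPrime m ⧸ m.map (algebraMap C (Localization.AtPrime m)))
      ≃ₗ[Localization.AtPrime m] IsLocalRing.ResidueField (Localization.AtPrime m) :=
    Submodule.quotEquivOfEq _ _ (IsLocalization.AtPrime.map_eq_maximalIdeal m _)
  have h2 : HasProjectiveDimensionLT (ModuleCat.of (Localization.AtPrime m)
      (IsLocalRing.ResidueField (Localization.AtPrime m))) (n + 1) :=
    hasProjectiveDimensionLT_of_iso (e1.symm ≪≫ₗ e2).toModuleIso (n + 1)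
  exact Groth.Agent.S0562.result _ (n + 1) h2

end loc

section B2

variable (A B k : Type u) [CommRing A] [CommRing B] [Field k] [IsAlgClosed k] [Algebra A B]
  [Algebra A k] [Algebra.FiniteType A B] [Module.Flat A B] [Algebra (B ⊗[A] B) B]
  (hmul : ∀ x y : B, algebraMap (B ⊗[A] B) B (x ⊗ₜ[A] y) = x * y)

/-- every maximal ideal of `k ⊗ B` is the kernel of a `k`-point -/
theorem exists_point (m : Ideal (k ⊗[A] B)) [m.IsMaximal] :
    ∃ χ : k ⊗[A] B →ₐ[k] k, RingHom.ker χ = m := by
  letI : Field ((k ⊗[A] B) ⧸ m) := Ideal.Quotient.field m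
  have hft : Algebra.FiniteType k ((k ⊗[A] B) ⧸ m) :=
    Algebra.FiniteType.of_surjective (Ideal.Quotient.mkₐ k m) (Ideal.Quotient.mkₐ_surjective k m)
  have hfin : Module.Finite k ((k ⊗[A] B) ⧸ m) := finite_of_finite_type_of_isJacobsonRing k _
  have hint : Algebra.IsIntegral k ((k ⊗[A] B) ⧸ m) := inferInstance
  have hbij : Function.Bijective (algebraMap k ((k ⊗[A] B) ⧸ m)) :=
    IsAlgClosed.algebraMap_bijective_of_isIntegral
  let e : k ≃ₐ[k] ((k ⊗[A] B) ⧸ m) := AlgEquiv.ofBijective (Algebra.ofId k _) hbij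
  refine ⟨(e.symm : _ →ₐ[k] k).comp (Ideal.Quotient.mkₐ k m), ?_⟩
  ext x
  rw [RingHom.mem_ker]
  change e.symm (Ideal.Quotient.mk m x) = 0 ↔ _
  rw [map_eq_zero_iff _ e.symm.injective, Ideal.Quotient.eq_zero_iff_mem]

include hmul in
theorem isRegularLocalRing_of_maximal [IsNoetherianRing (k ⊗[A] B)] (n : ℕ)
    (h : HasProjectiveDimensionLT (ModuleCat.of (B ⊗[A] B) B) (n + 1))
    (m : Ideal (k ⊗[A] B)) [m.IsMaximal] :
    IsRegularLocalRing (Localization.AtPrime m) := by
  obtain ⟨χ, hχ⟩ := exists_point A B k m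
  let ψ : B →ₐ[A] k := (χ.restrictScalars A).comp Algebra.TensorProduct.includeRight
  letI : Algebra B k := ψ.toRingHom.toAlgebra
  haveI : IsScalarTower A B k := IsScalarTower.of_algebraMap_eq (fun a => (ψ.commutes a).symm)
  have hchi : chi A B k = χ := by
    apply Algebra.TensorProduct.ext'
    intro x b
    rw [chi_tmul]
    change x * χ (1 ⊗ₜ b) = χ (x ⊗ₜ b)
    rw [← smul_eq_mul, ← map_smul, TensorProduct.smul_tmul', smul_eq_mul, mul_one]
  have h1 := pd_quot_ker_chi' A B k hmul n h
  rw [hchi, hχ] at h1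
  exact isRegularLocalRing_of_pd_quot _ m n h1

/-- an open subset of a prime spectrum containing all closed points is everything -/
theorem eq_univ_of_isOpen_of_maximal {C : Type u} [CommRing C] (U : Set (PrimeSpectrum C))
    (hU : IsOpen U) (hmax : ∀ m : Ideal C, ∀ hm : m.IsMaximal, (⟨m, hm.isPrime⟩ : PrimeSpectrum C) ∈ U) :
    U = Set.univ := by
  rw [Set.eq_univ_iff_forall]
  intro p
  obtain ⟨m, hm, hpm⟩ := Ideal.exists_le_maximal p.asIdeal p.2.ne_top
  have hspec : p ⤳ (⟨m, hm.isPrime⟩ : PrimeSpectrum C) := by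
    rw [← PrimeSpectrum.le_iff_specializes]
    exact hpm
  -- hspec : p ⤳ m means m ∈ closure {p}; open sets are stable under generization
  exact hspec.mem_open hU (hmax m hm)

include hmul in
theorem smooth_geometric_fibre [IsNoetherianRing A] (n : ℕ)
    (h : HasProjectiveDimensionLT (ModuleCat.of (B ⊗[A] B) B) (n + 1)) :
    Algebra.Smooth k (k ⊗[A] B) := by
  haveI : IsNoetherianRing (k ⊗[A] B) := Algebra.FiniteType.isNoetherianRing k (k ⊗[A] B)
  haveI : Algebra.FinitePresentation k (k ⊗[A] B) :=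
    Algebra.FinitePresentation.of_finiteType.mp inferInstance
  refine ⟨?_, inferInstance⟩
  rw [← Algebra.smoothLocus_eq_univ_iff]
  apply eq_univ_of_isOpen_of_maximal _ Algebra.isOpen_smoothLocus
  intro m hm
  exact (Groth.Agent.S2116.result m).mp (isRegularLocalRing_of_maximal A B k hmul n h m)

end B2

end Groth.Agent.Lib.Helper16.DiagPerf
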