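import Mathlib
import Groth.Agent.Lib.Helper16.DiagPerf2
import Groth.Agent.Lib.Helper16.DiagPerf4

/-!
# Perfect diagonal implies smooth (flat finite type over Noetherian)
-/

set_option autoImplicit false
set_option linter.unusedSectionVars false
set_option linter.style.haveILetI false
universe u

open CategoryTheory TensorProduct

namespace Groth.Agent.Lib.Helper16.DiagPerf

variable (A B : Type u) [CommRing A] [CommRing B] [Algebra A B] [IsNoetherianRing A]
  [Algebra.FiniteType A B] [Module.Flat A B] [Algebra (B ⊗[A] B) B]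
  (hmul : ∀ x y : B, algebraMap (B ⊗[A] B) B (x ⊗ₜ[A] y) = x * y)

include hmul in
theorem exists_pd_diagonal (h : DRing.HasFiniteTorDim (B ⊗[A] B) B) :
    ∃ n : ℕ, HasProjectiveDimensionLT (ModuleCat.of (B ⊗[A] B) B) (n + 1) := by
  haveI : Algebra.FiniteType A (B ⊗[A] B) := Algebra.FiniteType.trans (S := B) inferInstance
    inferInstance
  haveI : IsNoetherianRing (B ⊗[A] B) := Algebra.FiniteType.isNoetherianRing A (B ⊗[A] B)
  have hsurj : Function.Surjective (algebraMap (B ⊗[A] B) B) := fun x =>
    ⟨x ⊗ₜ 1, by rw [hmul, mul_one]⟩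
  haveI : Module.Finite (B ⊗[A] B) B :=
    Module.Finite.of_surjective (Algebra.linearMap (B ⊗[A] B) B) hsurj
  exact exists_hasProjectiveDimensionLT_of_hasFiniteTorDim (B ⊗[A] B) B h

include hmul in
/-- a flat finite type algebra over a Noetherian ring with perfect diagonal is smooth -/
theorem smooth_of_perfect_diagonal (h : DRing.HasFiniteTorDim (B ⊗[A] B) B) :
    Algebra.Smooth A B := by
  haveI : Algebra.FinitePresentation A B := Algebra.FinitePresentation.of_finiteType.mp inferInstance
  obtain ⟨n, hn⟩ := exists_pd_diagonal A B hmul h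
  apply Algebra.Smooth.of_formallySmooth_fiber
  intro p hp
  have h1 : Algebra.Smooth (AlgebraicClosure p.ResidueField)
      (AlgebraicClosure p.ResidueField ⊗[A] B) :=
    smooth_geometric_fibre A B (AlgebraicClosure p.ResidueField) hmul n hn
  have h2 : Algebra.Smooth (AlgebraicClosure p.ResidueField)
      (AlgebraicClosure p.ResidueField ⊗[p.ResidueField] (p.ResidueField ⊗[A] B)) :=
    Algebra.Smooth.of_equiv (Algebra.TensorProduct.cancelBaseChange A p.ResidueField
      (AlgebraicClosure p.ResidueField) (AlgebraicClosure p.ResidueField) B).symm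
  have h3 : Algebra.Smooth p.ResidueField (p.ResidueField ⊗[A] B) :=
    Algebra.Smooth.of_smooth_tensorProduct_of_faithfullyFlat (AlgebraicClosure p.ResidueField)
  exact h3.1

end Groth.Agent.Lib.Helper16.DiagPerf
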