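import Mathlib
import Groth.Prelude.Def_PP16
import Groth.Agent.Lib.Helper23.SymGrRegular
import Groth.Agent.Lib.Helper23.SymPoly

/-!
# Change of rings for symmetric powers of conormal modules (general target ideal)

sigma', exists_can_sigma', can_injective_of_sigma', sigma'_injective (via the polynomial embedding
of symmetric powers of projective modules).
-/

set_option autoImplicit false
set_option linter.unusedSectionVars false
universe u

namespace Groth.Agent.Lib.Helper16.DiffBC

open Groth.Agent.Lib.Helper23

section sigma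

variable {R : Type u} [CommRing R] (J : Ideal R) (R' : Type u) [CommRing R'] [Algebra R R']
  (J' : Ideal R') (hJ : J ≤ J'.comap (algebraMap R R')) (ι : Type u) [Fintype ι]

/-- `R`-module structure on the symmetric power over `R'` -/
@[reducible] noncomputable def symMod' : Module R (SymmetricPower R' ι J'.Cotangent) :=
  Module.compHom _ (algebraMap R R')

attribute [local instance] symMod'

theorem symMod'_smul (r : R) (z : SymmetricPower R' ι J'.Cotangent) :
    r • z = algebraMap R R' r • z := rfl

instance isScalarTower_symMod' :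
    IsScalarTower R R' (SymmetricPower R' ι J'.Cotangent) :=
  IsScalarTower.of_algebraMap_smul (fun _ _ => rfl)

/-- the map of conormal modules induced by a ring map -/
noncomputable def cotMap' : J.Cotangent →ₗ[R] J'.Cotangent :=
  Ideal.mapCotangent J J' (Algebra.ofId R R') hJ

theorem cotMap'_toCotangent (x : J) :
    cotMap' J R' J' hJ (J.toCotangent x) = J'.toCotangent ⟨algebraMap R R' x, hJ x.2⟩ :=
  Ideal.mapCotangent_toCotangent J J' (Algebra.ofId R R') hJ x

/-- change of rings for symmetric powers of conormal modules -/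
noncomputable def sigma' :
    SymmetricPower R ι J.Cotangent →ₗ[R] SymmetricPower R' ι J'.Cotangent :=
  SymPow.lift (((SymmetricPower.tprod R' (ι := ι) (M := J'.Cotangent)).restrictScalars
      R).compLinearMap (fun _ => cotMap' J R' J' hJ)) (by
    intro e p
    exact SymmetricPower.tprod_equiv e (fun i => cotMap' J R' J' hJ (p i)))

theorem sigma'_tprod (p : ι → J.Cotangent) :
    sigma' J R' J' hJ ι (SymmetricPower.tprod R p) =
      SymmetricPower.tprod R' (fun i => cotMap' J R' J' hJ (p i)) := by
  rw [sigma', SymPow.lift_tprod]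
  rfl

include hJ in
theorem map_mem_pow' (n : ℕ) {a : R} (ha : a ∈ J ^ n) : algebraMap R R' a ∈ J' ^ n := by
  have h1 : J.map (algebraMap R R') ≤ J' := Ideal.map_le_iff_le_comap.mpr hJ
  have h2 := Ideal.pow_right_mono h1 n
  rw [← Ideal.map_pow] at h2
  exact h2 (Ideal.mem_map_of_mem _ ha)

/-- compatibility of `can` with change of rings, elementwise -/
theorem exists_can_sigma' (z : SymmetricPower R ι J.Cotangent) :
    ∃ (a : R) (ha : a ∈ J ^ Fintype.card ι),
      SymGr.can R J ι z = Submodule.Quotient.mk ⟨a, ha⟩ ∧
      SymGr.can R' J' ι (sigma' J R' J' hJ ι z) =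
        Submodule.Quotient.mk ⟨algebraMap R R' a, map_mem_pow' J R' J' hJ _ ha⟩ := by
  induction z using SymPow.induction_on with
  | tprod r p =>
    obtain ⟨y, rfl⟩ := SymGr.exists_rep R J ι p
    have hy : ∏ i, (y i : R) ∈ J ^ Fintype.card ι := by
      simpa using PP16.prod_mem_pow J Finset.univ (fun i => (y i : R)) (fun i _ => (y i).2)
    refine ⟨r * ∏ i, (y i : R), Ideal.mul_mem_left _ _ hy, ?_, ?_⟩
    · rw [map_smul, SymGr.can_tprod, PP16.zetaJ, ← Submodule.Quotient.mk_smul]
      rfl
    · rw [map_smul, sigma'_tprod, symMod'_smul, map_smul]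
      have h1 : (fun i => cotMap' J R' J' hJ (J.toCotangent (y i))) = fun i => J'.toCotangent
          (⟨algebraMap R R' (y i), hJ (y i).2⟩ : J') := by
        funext i
        rw [cotMap'_toCotangent]
      rw [h1, SymGr.can_tprod, PP16.zetaJ, ← Submodule.Quotient.mk_smul]
      congr 1
      apply Subtype.ext
      change algebraMap R R' r • ∏ i, algebraMap R R' (y i) = algebraMap R R' (r * ∏ i, (y i : R))
      rw [map_mul, map_prod, smul_eq_mul]
  | add z w hz hw =>
    obtain ⟨a, ha, h1, h2⟩ := hz
    obtain ⟨b, hb, h1', h2'⟩ := hw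
    refine ⟨a + b, Ideal.add_mem _ ha hb, ?_, ?_⟩
    · rw [map_add, h1, h1', ← Submodule.Quotient.mk_add]
      rfl
    · rw [map_add, map_add, h2, h2', ← Submodule.Quotient.mk_add]
      congr 1
      apply Subtype.ext
      change algebraMap R R' a + algebraMap R R' b = algebraMap R R' (a + b)
      rw [map_add]

/-- injectivity of `Sym → gr` descends along an injective change-of-rings map of symmetric powers -/
theorem can_injective_of_sigma' (hσ : Function.Injective (sigma' J R' J' hJ ι))
    (hinj' : Function.Injective (SymGr.can R' J' ι)) :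
    Function.Injective (SymGr.can R J ι) := by
  rw [injective_iff_map_eq_zero]
  intro z hz
  obtain ⟨a, ha, h1, h2⟩ := exists_can_sigma' J R' J' hJ ι z
  rw [hz] at h1
  have h3 : a ∈ J ^ (Fintype.card ι + 1) := by
    have := (Submodule.Quotient.mk_eq_zero _).mp h1.symm
    exact this
  have h4 : SymGr.can R' J' ι (sigma' J R' J' hJ ι z) = 0 := by
    rw [h2, Submodule.Quotient.mk_eq_zero]
    exact map_mem_pow' J R' J' hJ _ h3
  have h5 : sigma' J R' J' hJ ι z = 0 := by
    apply hinj'
    rw [h4, map_zero]
  apply hσ
  rw [h5, map_zero]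

end sigma


section inj

variable {R : Type u} [CommRing R] (J : Ideal R) (R' : Type u) [CommRing R'] [Algebra R R']
  (J' : Ideal R') (hJ : J ≤ J'.comap (algebraMap R R')) (ι : Type u) [Fintype ι] [Nonempty ι]

attribute [local instance] symMod'

/-- the change-of-rings map on symmetric powers is injective when the conormal module is projective
and linear forms with polynomial values extend -/
theorem sigma'_injective (T : Type u) [CommRing T] [Algebra R' T] (ψ : R ⧸ J →+* T)
    (hψ : Function.Injective ψ)
    (hcomp : ∀ r : R, ψ (Ideal.Quotient.mk J r) = algebraMap R' T (algebraMap R R' r))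
    (hproj : Module.Projective (R ⧸ J) J.Cotangent)
    (hext : ∀ (ℓ : J.Cotangent →ₗ[R ⧸ J] MvPolynomial J.Cotangent (R ⧸ J)),
      ∃ L' : J'.Cotangent →ₗ[R'] MvPolynomial J.Cotangent T,
        ∀ m, L' (cotMap' J R' J' hJ m) = MvPolynomial.map ψ (ℓ m)) :
    Function.Injective (sigma' J R' J' hJ ι) := by
  classical
  obtain ⟨s, hs⟩ := Module.projective_def'.mp hproj
  have hs' : ∀ p, Finsupp.linearCombination (R ⧸ J) (id : J.Cotangent → J.Cotangent) (s p) = p :=
    fun p => LinearMap.congr_fun hs p
  let ℓ : J.Cotangent →ₗ[R ⧸ J] MvPolynomial J.Cotangent (R ⧸ J) :=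
    (Finsupp.linearCombination (R ⧸ J)
      (MvPolynomial.X : J.Cotangent → MvPolynomial J.Cotangent (R ⧸ J))).comp s
  obtain ⟨L', hL'⟩ := hext ℓ
  have hLmap : ∀ m, SymPoly.Lmap J s m = ℓ m := fun m => rfl
  have key : ∀ z : SymmetricPower R ι J.Cotangent,
      SymPow.prodMap L' (sigma' J R' J' hJ ι z) =
        MvPolynomial.map ψ (SymPow.prodMap (SymPoly.Lmap J s) z) := by
    intro z
    induction z using SymPow.induction_on with
    | tprod r p =>
      rw [map_smul, sigma'_tprod, symMod'_smul, map_smul, SymPow.prodMap_tprod, map_smul,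
        SymPow.prodMap_tprod]
      have h1 : ∀ i, L' (cotMap' J R' J' hJ (p i)) = MvPolynomial.map ψ (SymPoly.Lmap J s (p i)) :=
        fun i => by rw [hL', hLmap]
      simp only [h1]
      rw [← map_prod, Algebra.smul_def, Algebra.smul_def, MvPolynomial.algebraMap_apply,
        MvPolynomial.algebraMap_apply, map_mul, MvPolynomial.map_C]
      congr 2
      rw [Ideal.Quotient.algebraMap_eq, hcomp]
    | add z w hz hw =>
      rw [map_add, map_add, map_add, map_add, hz, hw]
  intro z z' hzz'
  have h1 : MvPolynomial.map ψ (SymPow.prodMap (SymPoly.Lmap J s) z) =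
      MvPolynomial.map ψ (SymPow.prodMap (SymPoly.Lmap J s) z') := by
    rw [← key, ← key, hzz']
  have h2 := MvPolynomial.map_injective ψ hψ h1
  have h3 := SymPoly.rho_prodMap J (id : J.Cotangent → J.Cotangent) s hs' z
  have h4 := SymPoly.rho_prodMap J (id : J.Cotangent → J.Cotangent) s hs' z'
  rw [← h3, ← h4, h2]

end inj

end Groth.Agent.Lib.Helper16.DiffBC
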