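import Mathlib
import Groth.Prelude.Def_PP16
import Groth.Agent.S3820
import Groth.Agent.Lib.Helper23.SymGr

/-!
# Differential smoothness vs quasi-regularity of the diagonal: comparison maps
-/

set_option autoImplicit false
universe u

namespace Groth.Agent.Lib.Helper16.QRegDiff

open Groth.Agent.Lib.Helper23 Groth.Agent.S3820 PP16
open scoped TensorProduct

section phi

variable (A B : Type u) [CommRing A] [CommRing B] [Algebra A B] (ι : Type u) [Fintype ι]

/-- `SymGr.can` over `B ⊗ B`, with source written in terms of `Ω` -/
noncomputable def canΩ : SymmetricPower (B ⊗[A] B) ι Ω[B⁄A] →ₗ[B ⊗[A] B]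
    grJ (B ⊗[A] B) (KaehlerDifferential.ideal A B) (Fintype.card ι) :=
  SymGr.can (B ⊗[A] B) (KaehlerDifferential.ideal A B) ι

/-- the comparison map `Sym_B^ι Ω → I^n/I^{n+1}` built from `SymGr.can` over `B ⊗ B` -/
noncomputable def phi' :
    SymmetricPower B ι (KaehlerDifferential A B) →ₗ[B] grI A B (Fintype.card ι) :=
  letI := modB (B := B) (R := B ⊗[A] B) (M := Ω[B⁄A]) ι
  haveI := towerB (B := B) (R := B ⊗[A] B) (M := Ω[B⁄A]) ι
  (gEquiv A B (Fintype.card ι)).symm.toLinearMap ∘ₗ
    ((canΩ A B ι).restrictScalars B) ∘ₗ
    psi (B := B) (R := B ⊗[A] B) (M := Ω[B⁄A]) ι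

theorem phi'_apply (z : SymmetricPower B ι (KaehlerDifferential A B)) :
    phi' A B ι z = (gEquiv A B (Fintype.card ι)).symm
      (canΩ A B ι (psi (B := B) (R := B ⊗[A] B) (M := Ω[B⁄A]) ι z)) := rfl

theorem phi'_tprod (b : ι → B) :
    phi' A B ι (SymmetricPower.tprod B (fun i => KaehlerDifferential.D A B (b i))) =
      zetaProd A B b := by
  rw [phi'_apply, psi_tprod, LinearEquiv.symm_apply_eq]
  exact SymGr.can_tprod (B ⊗[A] B) (KaehlerDifferential.ideal A B) ι
    (fun i => ⟨(1 : B) ⊗ₜ[A] b i - b i ⊗ₜ[A] (1 : B),
      KaehlerDifferential.one_smul_sub_smul_one_mem_ideal A (b i)⟩)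

theorem phi'_bijective_of [Nonempty ι]
    (h : Function.Injective (SymGr.can (B ⊗[A] B) (KaehlerDifferential.ideal A B) ι)) :
    Function.Bijective (phi' A B ι) := by
  have hc : Function.Bijective (canΩ A B ι) :=
    ⟨h, SymGr.can_surjective _ _ ι⟩
  have := (gEquiv A B (Fintype.card ι)).symm.bijective.comp
    (hc.comp (psi_bijective (mu A B) (mu_alg A B) (smul_eq A B) ι))
  exact this

theorem can_injective_of [Nonempty ι] (h : Function.Injective (phi' A B ι)) :
    Function.Injective (SymGr.can (B ⊗[A] B) (KaehlerDifferential.ideal A B) ι) := by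
  intro z w hzw
  change canΩ A B ι z = canΩ A B ι w at hzw
  obtain ⟨z', rfl⟩ := (psi_bijective (mu A B) (mu_alg A B) (smul_eq A B) ι).2 z
  obtain ⟨w', rfl⟩ := (psi_bijective (mu A B) (mu_alg A B) (smul_eq A B) ι).2 w
  have : phi' A B ι z' = phi' A B ι w' := by
    rw [phi'_apply, phi'_apply, hzw]
  rw [h this]

/-- a linear map with the prescribed values on products of differentials is `phi'` -/
theorem eq_phi' (φ : SymmetricPower B ι (KaehlerDifferential A B) →ₗ[B] grI A B (Fintype.card ι))
    (hφ : ∀ b : ι → B, φ (SymmetricPower.tprod B (fun i => KaehlerDifferential.D A B (b i))) =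
      zetaProd A B b) : φ = phi' A B ι := by
  apply SymPow.ext
  intro x
  have hsurj := KaehlerDifferential.linearCombination_surjective A B
  let L : (B →₀ B) →ₗ[B] Ω[B⁄A] := Finsupp.linearCombination B (KaehlerDifferential.D A B)
  have key : (φ.compMultilinearMap (SymmetricPower.tprod B)).compLinearMap (fun _ : ι => L) =
      ((phi' A B ι).compMultilinearMap (SymmetricPower.tprod B)).compLinearMap (fun _ : ι => L) := by
    apply Module.Basis.ext_multilinear (fun _ : ι => (Finsupp.basisSingleOne : Module.Basis B B (B →₀ B)))
    intro v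
    simp only [MultilinearMap.compLinearMap_apply, LinearMap.compMultilinearMap_apply,
      Finsupp.coe_basisSingleOne, L, Finsupp.linearCombination_single, one_smul]
    rw [hφ, phi'_tprod]
  choose y hy using fun i => hsurj (x i)
  have hx : x = fun i => L (y i) := funext fun i => (hy i).symm
  rw [hx]
  exact congrArg (fun f => f y) key

end phi


section proj

theorem projective_iff_of_bijective {B C M : Type u} [CommRing B] [CommRing C] [Algebra B C]
    [AddCommGroup M] [Module B M] [Module C M] [IsScalarTower B C M]
    (h : Function.Bijective (algebraMap B C)) :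
    Module.Projective B M ↔ Module.Projective C M := by
  let e : B ≃+* C := RingEquiv.ofBijective (algebraMap B C) h
  let i1 : RingHomInvPair (e : B →+* C) (e.symm : C →+* B) := RingHomInvPair.of_ringEquiv e
  let i2 : RingHomInvPair (e.symm : C →+* B) (e : B →+* C) := RingHomInvPair.symm _ _
  constructor
  · intro hp
    let e₂ : M ≃ₛₗ[(e : B →+* C)] M :=
      { toFun := id
        invFun := id
        map_add' := fun _ _ => rfl
        map_smul' := fun b m => (algebraMap_smul C b m).symm
        left_inv := fun _ => rfl
        right_inv := fun _ => rfl }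
    exact Module.Projective.of_equiv e₂
  · intro hp
    let e₂ : M ≃ₛₗ[(e.symm : C →+* B)] M :=
      { toFun := id
        invFun := id
        map_add' := fun _ _ => rfl
        map_smul' := fun c m => by
          change c • m = (e.symm c) • m
          rw [← algebraMap_smul C (e.symm c) m]
          congr 1
          exact (e.apply_symm_apply c).symm
        left_inv := fun _ => rfl
        right_inv := fun _ => rfl }
    exact Module.Projective.of_equiv e₂

variable (A B : Type u) [CommRing A] [CommRing B] [Algebra A B]

instance isScalarTower_quot_cotangent :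
    IsScalarTower B ((B ⊗[A] B) ⧸ KaehlerDifferential.ideal A B)
      (KaehlerDifferential.ideal A B).Cotangent :=
  IsScalarTower.of_algebraMap_smul (fun b m => by
    rw [IsScalarTower.algebraMap_apply B (B ⊗[A] B) ((B ⊗[A] B) ⧸ KaehlerDifferential.ideal A B),
      algebraMap_smul, algebraMap_smul])

theorem projective_iff :
    Module.Projective B (KaehlerDifferential A B) ↔
      Module.Projective ((B ⊗[A] B) ⧸ KaehlerDifferential.ideal A B)
        (KaehlerDifferential.ideal A B).Cotangent := by
  change Module.Projective B (KaehlerDifferential.ideal A B).Cotangent ↔ _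
  exact projective_iff_of_bijective (quotEquiv A B).bijective

end proj

end Groth.Agent.Lib.Helper16.QRegDiff
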