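import Mathlib
import Groth.Prelude.Def_PP16
import Groth.Agent.S3820
import Groth.Agent.Lib.Helper16.QRegDiff
import Groth.Agent.Lib.Helper16.DiffBC1

/-!
# Descent of injectivity of Sym → gr for the diagonal ideal along base change with B → B' injective

tensorAlg, mulAlg, psiD, cotD, tensorKaehlerEquiv_one_tmul, hext_diag, can_injective_diag.
-/

set_option autoImplicit false
set_option linter.unusedSectionVars false
universe u

namespace Groth.Agent.Lib.Helper16.DiffBC

open Groth.Agent.Lib.Helper23 Groth.Agent.S3820 PP16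
open scoped TensorProduct

section diag

variable (A B A' B' : Type u) [CommRing A] [CommRing B] [Algebra A B]
    [CommRing A'] [CommRing B'] [Algebra A' B'] [Algebra A A'] [Algebra B B'] [Algebra A B']
    [IsScalarTower A A' B'] [IsScalarTower A B B']

/-- `B' ⊗ B'` as an algebra over `B ⊗ B` -/
@[reducible] noncomputable def tensorAlg : Algebra (B ⊗[A] B) (B' ⊗[A'] B') :=
  (tensorMap A B A' B').toRingHom.toAlgebra

/-- `B'` as an algebra over `B' ⊗ B'` through multiplication -/
@[reducible] noncomputable def mulAlg : Algebra (B' ⊗[A'] B') B' := (mu A' B').toAlgebra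

attribute [local instance] tensorAlg mulAlg

theorem algebraMap_tensorAlg (r : B ⊗[A] B) :
    algebraMap (B ⊗[A] B) (B' ⊗[A'] B') r = tensorMap A B A' B' r := rfl

theorem algebraMap_mulAlg (r : B' ⊗[A'] B') : algebraMap (B' ⊗[A'] B') B' r = mu A' B' r := rfl

theorem hJ_diag : KaehlerDifferential.ideal A B ≤
    (KaehlerDifferential.ideal A' B').comap (algebraMap (B ⊗[A] B) (B' ⊗[A'] B')) := by
  intro x hx
  rw [Ideal.mem_comap, algebraMap_tensorAlg]
  exact ideal_map_tensorMap_le A B A' B' (Ideal.mem_map_of_mem _ hx)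

theorem mu_tensorMap (r : B ⊗[A] B) :
    mu A' B' (tensorMap A B A' B' r) = algebraMap B B' (mu A B r) := by
  induction r using TensorProduct.induction_on with
  | zero => simp
  | tmul b c =>
    rw [tensorMap_tmul]
    simp [mu]
  | add x y hx hy => rw [map_add, map_add, hx, hy, map_add, map_add]

/-- the map `(B ⊗ B)/I → B'` -/
noncomputable def psiD : (B ⊗[A] B) ⧸ KaehlerDifferential.ideal A B →+* B' :=
  Ideal.Quotient.lift (KaehlerDifferential.ideal A B) ((algebraMap B B').comp (mu A B))
    (fun r hr => by rw [RingHom.comp_apply, (mem_ideal_iff A B r).mp hr, map_zero])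

theorem psiD_mk (r : B ⊗[A] B) :
    psiD A B B' (Ideal.Quotient.mk _ r) = algebraMap B B' (mu A B r) := rfl

theorem psiD_injective (h : Function.Injective (algebraMap B B')) :
    Function.Injective (psiD A B B') := by
  rw [injective_iff_map_eq_zero]
  intro x hx
  obtain ⟨r, rfl⟩ := Ideal.Quotient.mk_surjective x
  rw [psiD_mk] at hx
  have h1 : mu A B r = 0 := h (by rw [hx, map_zero])
  exact Ideal.Quotient.eq_zero_iff_mem.mpr ((mem_ideal_iff A B r).mpr h1)

theorem psiD_comp (r : B ⊗[A] B) :
    psiD A B B' (Ideal.Quotient.mk _ r) =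
      algebraMap (B' ⊗[A'] B') B' (algebraMap (B ⊗[A] B) (B' ⊗[A'] B') r) := by
  rw [psiD_mk, algebraMap_mulAlg, algebraMap_tensorAlg, mu_tensorMap]

theorem psiD_algebraMap (b : B) :
    psiD A B B' (algebraMap B ((B ⊗[A] B) ⧸ KaehlerDifferential.ideal A B) b) =
      algebraMap B B' b := by
  rw [IsScalarTower.algebraMap_apply B (B ⊗[A] B) ((B ⊗[A] B) ⧸ KaehlerDifferential.ideal A B),
    Ideal.Quotient.algebraMap_eq, psiD_mk, mu_alg]

end diag

section ext

variable (A B A' B' : Type u) [CommRing A] [CommRing B] [Algebra A B]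
    [CommRing A'] [CommRing B'] [Algebra A' B'] [Algebra A A'] [Algebra B B'] [Algebra A B']
    [IsScalarTower A A' B'] [IsScalarTower A B B']

attribute [local instance] tensorAlg mulAlg

/-- the conormal map of the diagonal ideals -/
noncomputable def cotD : (KaehlerDifferential.ideal A B).Cotangent →ₗ[B ⊗[A] B]
    (KaehlerDifferential.ideal A' B').Cotangent :=
  cotMap' (KaehlerDifferential.ideal A B) (B' ⊗[A'] B') (KaehlerDifferential.ideal A' B')
    (hJ_diag A B A' B')

theorem cotD_D (b : B) : cotD A B A' B' (KaehlerDifferential.D A B b) =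
    KaehlerDifferential.D A' B' (algebraMap B B' b) := by
  rw [KaehlerDifferential.D_apply, KaehlerDifferential.D_apply]
  change cotMap' _ _ _ _ _ = _
  rw [cotMap'_toCotangent]
  congr 1
  apply Subtype.ext
  change algebraMap (B ⊗[A] B) (B' ⊗[A'] B') ((1 : B) ⊗ₜ[A] b - b ⊗ₜ[A] (1 : B)) = _
  rw [algebraMap_tensorAlg, map_sub, tensorMap_tmul, tensorMap_tmul, map_one]

theorem cotD_smul (b : B) (m : (KaehlerDifferential.ideal A B).Cotangent) :
    cotD A B A' B' (b • m) = algebraMap B B' b • cotD A B A' B' m := by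
  rw [← algebraMap_smul (B ⊗[A] B) b m, map_smul]
  rw [← algebraMap_smul (B' ⊗[A'] B') (algebraMap B B' b) (cotD A B A' B' m)]
  rw [← algebraMap_smul (B' ⊗[A'] B') (algebraMap B (B ⊗[A] B) b) (cotD A B A' B' m)]
  congr 1
  rw [algebraMap_tensorAlg, Algebra.TensorProduct.algebraMap_apply,
    Algebra.TensorProduct.algebraMap_apply, tensorMap_tmul, map_one]
  rfl

/-- `cotD` with source and target written as modules of differentials -/
noncomputable def cotΩ : Ω[B⁄A] → Ω[B'⁄A'] := fun m => cotD A B A' B' m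

theorem cotΩ_zero : cotΩ A B A' B' 0 = 0 := map_zero (cotD A B A' B')

theorem cotΩ_add (x y : Ω[B⁄A]) : cotΩ A B A' B' (x + y) = cotΩ A B A' B' x + cotΩ A B A' B' y :=
  map_add (cotD A B A' B') x y

theorem cotΩ_D (b : B) : cotΩ A B A' B' (KaehlerDifferential.D A B b) =
    KaehlerDifferential.D A' B' (algebraMap B B' b) := cotD_D A B A' B' b

theorem cotΩ_smul (b : B) (x : Ω[B⁄A]) :
    cotΩ A B A' B' (b • x) = algebraMap B B' b • cotΩ A B A' B' x := cotD_smul A B A' B' b x

variable [Algebra.IsPushout A A' B B']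

theorem tensorKaehlerEquiv_one_tmul (m : Ω[B⁄A]) :
    KaehlerDifferential.tensorKaehlerEquiv A A' B B' ((1 : B') ⊗ₜ[B] m) = cotΩ A B A' B' m := by
  have hm : m ∈ Submodule.span B (Set.range (KaehlerDifferential.D A B)) := by
    rw [KaehlerDifferential.span_range_derivation]; trivial
  induction hm using Submodule.span_induction with
  | mem x hx =>
    obtain ⟨b, rfl⟩ := hx
    rw [KaehlerDifferential.tensorKaehlerEquiv_tmul_D, one_smul, cotΩ_D]
  | zero => rw [TensorProduct.tmul_zero, map_zero, cotΩ_zero]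
  | add x y _ _ hx hy => rw [TensorProduct.tmul_add, map_add, cotΩ_add, hx, hy]
  | smul b x _ hx =>
    rw [cotΩ_smul, ← hx, ← map_smul, TensorProduct.smul_tmul', TensorProduct.tmul_smul]
    congr 1
    exact (algebraMap_smul B' b _).symm

end ext

section hext

variable (A B A' B' : Type u) [CommRing A] [CommRing B] [Algebra A B]
    [CommRing A'] [CommRing B'] [Algebra A' B'] [Algebra A A'] [Algebra B B'] [Algebra A B']
    [IsScalarTower A A' B'] [IsScalarTower A B B'] [Algebra.IsPushout A A' B B']

attribute [local instance] tensorAlg mulAlg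

/-- the identity, from differentials to the conormal module of the diagonal -/
noncomputable def toCot : Ω[B⁄A] ≃ₗ[B] (KaehlerDifferential.ideal A B).Cotangent where
  toFun x := x
  invFun x := x
  map_add' _ _ := rfl
  map_smul' _ _ := rfl
  left_inv _ := rfl
  right_inv _ := rfl

theorem hext_diag (X : Type u)
    (ℓ : (KaehlerDifferential.ideal A B).Cotangent →ₗ[(B ⊗[A] B) ⧸ KaehlerDifferential.ideal A B]
      MvPolynomial X ((B ⊗[A] B) ⧸ KaehlerDifferential.ideal A B)) :
    ∃ L' : (KaehlerDifferential.ideal A' B').Cotangent →ₗ[B' ⊗[A'] B'] MvPolynomial X B',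
      ∀ m, L' (cotD A B A' B' m) = MvPolynomial.map (psiD A B B') (ℓ m) := by
  let ℓC : (KaehlerDifferential.ideal A B).Cotangent →ₗ[B] MvPolynomial X B' :=
    { toFun := fun m => MvPolynomial.map (psiD A B B') (ℓ m)
      map_add' := fun x y => by rw [map_add, map_add]
      map_smul' := fun b m => by
        have h0 : b • m =
            algebraMap B ((B ⊗[A] B) ⧸ KaehlerDifferential.ideal A B) b • m :=
          (algebraMap_smul _ b m).symm
        rw [RingHom.id_apply, h0, map_smul, MvPolynomial.smul_eq_C_mul, map_mul,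
          MvPolynomial.map_C, psiD_algebraMap, Algebra.smul_def, MvPolynomial.algebraMap_apply] }
  let ℓB : Ω[B⁄A] →ₗ[B] MvPolynomial X B' := ℓC ∘ₗ (toCot A B).toLinearMap
  let LB : Ω[B'⁄A'] →ₗ[B'] MvPolynomial X B' :=
    (LinearMap.liftBaseChange B' ℓB) ∘ₗ
      (KaehlerDifferential.tensorKaehlerEquiv A A' B B').symm.toLinearMap
  let LC : (KaehlerDifferential.ideal A' B').Cotangent →ₗ[B'] MvPolynomial X B' :=
    LB ∘ₗ (toCot A' B').symm.toLinearMap
  let L' : (KaehlerDifferential.ideal A' B').Cotangent →ₗ[B' ⊗[A'] B'] MvPolynomial X B' :=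
    { toFun := fun m => LC m
      map_add' := fun x y => map_add LC x y
      map_smul' := fun r m => by
        have h0 : r • m = mu A' B' r • m := smul_eq A' B' r ((toCot A' B').symm m)
        rw [RingHom.id_apply, h0, map_smul, MvPolynomial.smul_eq_C_mul, Algebra.smul_def,
          MvPolynomial.algebraMap_apply, algebraMap_mulAlg] }
  refine ⟨L', fun m => ?_⟩
  change LB (cotΩ A B A' B' ((toCot A B).symm m)) = _
  have h1 : (KaehlerDifferential.tensorKaehlerEquiv A A' B B').symm
      (cotΩ A B A' B' ((toCot A B).symm m)) = (1 : B') ⊗ₜ[B] ((toCot A B).symm m) := by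
    rw [LinearEquiv.symm_apply_eq, tensorKaehlerEquiv_one_tmul]
  simp only [LB, LinearMap.comp_apply, LinearEquiv.coe_coe]
  rw [h1, LinearMap.liftBaseChange_tmul, one_smul]
  rfl

theorem can_injective_diag (hinjBB' : Function.Injective (algebraMap B B'))
    (hproj : Module.Projective ((B ⊗[A] B) ⧸ KaehlerDifferential.ideal A B)
      (KaehlerDifferential.ideal A B).Cotangent) (ι : Type u) [Fintype ι] [Nonempty ι]
    (hinj' : Function.Injective (SymGr.can (B' ⊗[A'] B') (KaehlerDifferential.ideal A' B') ι)) :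
    Function.Injective (SymGr.can (B ⊗[A] B) (KaehlerDifferential.ideal A B) ι) := by
  apply can_injective_of_sigma' (KaehlerDifferential.ideal A B) (B' ⊗[A'] B')
    (KaehlerDifferential.ideal A' B') (hJ_diag A B A' B') ι _ hinj'
  exact sigma'_injective _ _ _ _ ι B' (psiD A B B') (psiD_injective A B B' hinjBB')
    (psiD_comp A B A' B') hproj (fun ℓ => hext_diag A B A' B' _ ℓ)

end hext

end Groth.Agent.Lib.Helper16.DiffBC
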