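import Mathlib
import Groth.Prelude.Def_PP16

/-!
# Graded pieces inside truncations: inclusion, projection, retraction, projectivity step
-/

set_option autoImplicit false
set_option linter.unusedSectionVars false
universe u

namespace Groth.Agent.Lib.Helper16.DiffBC

open PP16
open scoped TensorProduct

section gr

variable {R : Type u} [CommRing R] (J : Ideal R) (n : ℕ)

/-- the inclusion `J^n/J^(n+1) → R/J^(n+1)` -/
noncomputable def iotaG : grJ R J n →ₗ[R] R ⧸ J ^ (n + 1) :=
  Submodule.liftQ _ ((Submodule.mkQ (J ^ (n + 1))) ∘ₗ (J ^ n).subtype) (by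
    intro _ hx
    rw [Submodule.mem_comap] at hx
    rw [LinearMap.mem_ker, LinearMap.comp_apply, Submodule.mkQ_apply,
      Submodule.Quotient.mk_eq_zero]
    exact hx)

theorem iotaG_mk (x : ↥(J ^ n)) :
    iotaG J n (Submodule.Quotient.mk x) = Ideal.Quotient.mk (J ^ (n + 1)) (x : R) := rfl

theorem iotaG_injective : Function.Injective (iotaG J n) := by
  rw [injective_iff_map_eq_zero]
  intro g hg
  obtain ⟨x, rfl⟩ := Submodule.Quotient.mk_surjective _ g
  rw [iotaG_mk, Ideal.Quotient.eq_zero_iff_mem] at hg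
  exact (Submodule.Quotient.mk_eq_zero _).mpr hg

/-- the projection `R/J^(n+1) → R/J^n` -/
noncomputable def piG : R ⧸ J ^ (n + 1) →ₗ[R] R ⧸ J ^ n :=
  Submodule.mapQ (J ^ (n + 1)) (J ^ n) LinearMap.id
    (fun _ hx => Ideal.pow_le_pow_right (Nat.le_succ n) hx)

theorem piG_mk (x : R) :
    piG J n (Ideal.Quotient.mk (J ^ (n + 1)) x) = Ideal.Quotient.mk (J ^ n) x := rfl

theorem piG_surjective : Function.Surjective (piG J n) := by
  intro y
  obtain ⟨x, rfl⟩ := Ideal.Quotient.mk_surjective y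
  exact ⟨Ideal.Quotient.mk _ x, rfl⟩

theorem range_iotaG : LinearMap.range (iotaG J n) = LinearMap.ker (piG J n) := by
  ext y
  constructor
  · rintro ⟨g, rfl⟩
    obtain ⟨x, rfl⟩ := Submodule.Quotient.mk_surjective _ g
    rw [LinearMap.mem_ker, iotaG_mk, piG_mk, Ideal.Quotient.eq_zero_iff_mem]
    exact x.2
  · intro hy
    obtain ⟨x, rfl⟩ := Ideal.Quotient.mk_surjective y
    rw [LinearMap.mem_ker, piG_mk, Ideal.Quotient.eq_zero_iff_mem] at hy
    exact ⟨Submodule.Quotient.mk ⟨x, hy⟩, rfl⟩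

variable (S : Type u) [CommRing S] [Algebra S R]

/-- if `R/J^n` is projective over `S`, the inclusion of the graded piece has an `S`-linear
retraction, and `R/J^(n+1)` is projective as soon as the graded piece is -/
theorem exists_retraction (hQ : Module.Projective S (R ⧸ J ^ n)) :
    ∃ ρ : R ⧸ J ^ (n + 1) →ₗ[S] grJ R J n, (∀ g, ρ (iotaG J n g) = g) ∧
      (Module.Projective S (grJ R J n) → Module.Projective S (R ⧸ J ^ (n + 1))) := by
  obtain ⟨s, hs⟩ := Module.projective_lifting_property ((piG J n).restrictScalars S)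
    (LinearMap.id : R ⧸ J ^ n →ₗ[S] R ⧸ J ^ n) (piG_surjective J n)
  have hs' : ∀ q, piG J n (s q) = q := fun q => LinearMap.congr_fun hs q
  let e := LinearEquiv.ofInjective ((iotaG J n).restrictScalars S) (iotaG_injective J n)
  have hmem : ∀ y : R ⧸ J ^ (n + 1),
      y - s (piG J n y) ∈ LinearMap.range ((iotaG J n).restrictScalars S) := by
    intro y
    have h1 : y - s (piG J n y) ∈ LinearMap.ker (piG J n) := by
      rw [LinearMap.mem_ker, map_sub, hs', sub_self]
    rw [← range_iotaG] at h1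
    obtain ⟨g, hg⟩ := h1
    exact ⟨g, hg⟩
  let d : R ⧸ J ^ (n + 1) →ₗ[S] R ⧸ J ^ (n + 1) :=
    LinearMap.id - s ∘ₗ ((piG J n).restrictScalars S)
  let ρ : R ⧸ J ^ (n + 1) →ₗ[S] grJ R J n :=
    e.symm.toLinearMap ∘ₗ (d.codRestrict (LinearMap.range ((iotaG J n).restrictScalars S)) hmem)
  have hιρ : ∀ y, iotaG J n (ρ y) = y - s (piG J n y) := by
    intro y
    have h1 : (e (ρ y) : R ⧸ J ^ (n + 1)) = y - s (piG J n y) := by
      simp only [ρ, LinearMap.comp_apply, LinearEquiv.coe_coe, LinearEquiv.apply_symm_apply]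
      rfl
    rw [← h1]
    rfl
  have hρι : ∀ g, ρ (iotaG J n g) = g := by
    intro g
    apply iotaG_injective J n
    rw [hιρ]
    have : piG J n (iotaG J n g) = 0 := by
      have : iotaG J n g ∈ LinearMap.ker (piG J n) := by
        rw [← range_iotaG]; exact ⟨g, rfl⟩
      exact this
    rw [this, map_zero, sub_zero]
  refine ⟨ρ, hρι, fun hG => ?_⟩
  let i : R ⧸ J ^ (n + 1) →ₗ[S] grJ R J n × (R ⧸ J ^ n) :=
    ρ.prod ((piG J n).restrictScalars S)
  let r : grJ R J n × (R ⧸ J ^ n) →ₗ[S] R ⧸ J ^ (n + 1) :=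
    ((iotaG J n).restrictScalars S).coprod s
  refine Module.Projective.of_split i r ?_
  ext y
  change iotaG J n (ρ y) + s (piG J n y) = y
  rw [hιρ, sub_add_cancel]

end gr

end Groth.Agent.Lib.Helper16.DiffBC
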