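import Mathlib
import Groth.Prelude.Def_PP16
import Groth.Agent.S3820
import Groth.Agent.Lib.Helper16.DiffBC2
import Groth.Agent.Lib.Helper16.DiffBC3

/-!
# Base change of the ring B ⊗ B and of principal parts

Theta (A' ⊗ (B ⊗ B) ≃ B' ⊗ B'), ideal_map_tensorMap_eq, ThetaN and its injectivity.
-/

set_option autoImplicit false
set_option linter.unusedSectionVars false
universe u

namespace Groth.Agent.Lib.Helper16.DiffBC

open Groth.Agent.Lib.Helper23 Groth.Agent.S3820 PP16
open scoped TensorProduct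

section theta

variable (A B A' B' : Type u) [CommRing A] [CommRing B] [Algebra A B]
    [CommRing A'] [CommRing B'] [Algebra A' B'] [Algebra A A'] [Algebra B B'] [Algebra A B']
    [IsScalarTower A A' B'] [IsScalarTower A B B']

/-- the comparison map `A' ⊗ (B ⊗ B) → B' ⊗ B'` -/
noncomputable def Theta : A' ⊗[A] (B ⊗[A] B) →ₐ[A'] B' ⊗[A'] B' :=
  Algebra.TensorProduct.lift (Algebra.ofId A' (B' ⊗[A'] B')) (tensorMap A B A' B')
    (fun _ _ => Commute.all _ _)

theorem Theta_tmul (a' : A') (r : B ⊗[A] B) :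
    Theta A B A' B' (a' ⊗ₜ r) = a' • tensorMap A B A' B' r := by
  rw [Theta, Algebra.TensorProduct.lift_tmul, Algebra.ofId_apply, Algebra.smul_def]

variable [Algebra.IsPushout A A' B B']

theorem Theta_bijective : Function.Bijective (Theta A B A' B') := by
  let e1 := TensorProduct.AlgebraTensorModule.distribBaseChange A A' B B
  have hbc : IsBaseChange A' (IsScalarTower.toAlgHom A B B').toLinearMap := Algebra.IsPushout.out
  let e2 := TensorProduct.congr hbc.equiv hbc.equiv
  have h : ∀ t, Theta A B A' B' t = (e1 ≪≫ₗ e2) t := by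
    intro t
    induction t using TensorProduct.induction_on with
    | zero => simp
    | tmul a' r =>
      induction r using TensorProduct.induction_on with
      | zero => simp
      | tmul b c =>
        rw [Theta_tmul, tensorMap_tmul, LinearEquiv.trans_apply]
        simp only [e1, e2, TensorProduct.AlgebraTensorModule.distribBaseChange_tmul,
          TensorProduct.congr_tmul, IsBaseChange.equiv_tmul, AlgHom.toLinearMap_apply,
          IsScalarTower.coe_toAlgHom', one_smul]
        rw [TensorProduct.smul_tmul']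
      | add x y hx hy =>
        rw [TensorProduct.tmul_add, map_add, map_add, hx, hy]
    | add x y hx hy => rw [map_add, map_add, hx, hy]
  have h2 : ⇑(Theta A B A' B') = ⇑(e1 ≪≫ₗ e2) := funext h
  rw [h2]
  exact (e1 ≪≫ₗ e2).bijective

theorem ideal_map_tensorMap_eq :
    (KaehlerDifferential.ideal A B).map (tensorMap A B A' B') = KaehlerDifferential.ideal A' B' := by
  apply le_antisymm (ideal_map_tensorMap_le A B A' B')
  rw [← KaehlerDifferential.span_range_eq_ideal, Ideal.span_le]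
  rintro _ ⟨b', rfl⟩
  have hbc : IsBaseChange A' (IsScalarTower.toAlgHom A B B').toLinearMap := Algebra.IsPushout.out
  rw [SetLike.mem_coe]
  change (1 : B') ⊗ₜ[A'] b' - b' ⊗ₜ[A'] (1 : B') ∈ _
  induction b' using hbc.inductionOn with
  | zero => simp
  | tmul b =>
    have : (1 : B') ⊗ₜ[A'] (IsScalarTower.toAlgHom A B B').toLinearMap b -
        (IsScalarTower.toAlgHom A B B').toLinearMap b ⊗ₜ[A'] (1 : B') =
        tensorMap A B A' B' ((1 : B) ⊗ₜ[A] b - b ⊗ₜ[A] (1 : B)) := by
      rw [map_sub, tensorMap_tmul, tensorMap_tmul, map_one]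
      rfl
    rw [this]
    exact Ideal.mem_map_of_mem _ (KaehlerDifferential.one_smul_sub_smul_one_mem_ideal A b)
  | smul a' b' hb' =>
    have : (1 : B') ⊗ₜ[A'] (a' • b') - (a' • b') ⊗ₜ[A'] (1 : B') =
        a' • ((1 : B') ⊗ₜ[A'] b' - b' ⊗ₜ[A'] (1 : B')) := by
      simp only [smul_sub, TensorProduct.tmul_smul, TensorProduct.smul_tmul']
    rw [this, Algebra.smul_def]
    exact Ideal.mul_mem_left _ _ hb'
  | add x y hx hy =>
    have : (1 : B') ⊗ₜ[A'] (x + y) - (x + y) ⊗ₜ[A'] (1 : B') =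
        ((1 : B') ⊗ₜ[A'] x - x ⊗ₜ[A'] (1 : B')) + ((1 : B') ⊗ₜ[A'] y - y ⊗ₜ[A'] (1 : B')) := by
      rw [TensorProduct.tmul_add, TensorProduct.add_tmul]; abel
    rw [this]
    exact Ideal.add_mem _ hx hy

end theta

section thetaN

variable (A B A' B' : Type u) [CommRing A] [CommRing B] [Algebra A B]
    [CommRing A'] [CommRing B'] [Algebra A' B'] [Algebra A A'] [Algebra B B'] [Algebra A B']
    [IsScalarTower A A' B'] [IsScalarTower A B B'] (n : ℕ)

/-- the comparison map `A' ⊗ P^n_{B/A} → P^n_{B'/A'}` -/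
noncomputable def ThetaN : A' ⊗[A] P n A B →ₗ[A'] P n A' B' :=
  LinearMap.liftBaseChange A' (PP16.map n A B A' B').toLinearMap

theorem ThetaN_tmul (a' : A') (x : P n A B) :
    ThetaN A B A' B' n (a' ⊗ₜ x) = a' • PP16.map n A B A' B' x :=
  LinearMap.liftBaseChange_tmul _ _ _ _

/-- the quotient map `A' ⊗ (B ⊗ B) → A' ⊗ P^n_{B/A}` -/
noncomputable def PsiN : A' ⊗[A] (B ⊗[A] B) →ₐ[A'] A' ⊗[A] P n A B :=
  Algebra.TensorProduct.map (AlgHom.id A' A')
    (Ideal.Quotient.mkₐ A ((KaehlerDifferential.ideal A B) ^ (n + 1)))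

theorem PsiN_tmul (a' : A') (r : B ⊗[A] B) :
    PsiN A B A' n (a' ⊗ₜ r) = a' ⊗ₜ (Ideal.Quotient.mk _ r) := by
  rw [PsiN, Algebra.TensorProduct.map_tmul]
  rfl

theorem PsiN_surjective : Function.Surjective (PsiN A B A' n) := by
  intro u
  induction u using TensorProduct.induction_on with
  | zero => exact ⟨0, map_zero _⟩
  | tmul a' x =>
    obtain ⟨r, rfl⟩ := Ideal.Quotient.mk_surjective x
    exact ⟨a' ⊗ₜ r, PsiN_tmul A B A' n a' r⟩
  | add x y hx hy =>
    obtain ⟨a, rfl⟩ := hx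
    obtain ⟨b, rfl⟩ := hy
    exact ⟨a + b, map_add _ _ _⟩

theorem ThetaN_PsiN (t : A' ⊗[A] (B ⊗[A] B)) :
    ThetaN A B A' B' n (PsiN A B A' n t) = Ideal.Quotient.mk _ (Theta A B A' B' t) := by
  induction t using TensorProduct.induction_on with
  | zero => simp
  | tmul a' r =>
    rw [PsiN_tmul, ThetaN_tmul, Theta_tmul, map_mk]
    rfl
  | add x y hx hy => rw [map_add, map_add, hx, hy, map_add, map_add]

theorem PsiN_eq_zero_of_mem (t : A' ⊗[A] (B ⊗[A] B))
    (ht : t ∈ Ideal.map (Algebra.TensorProduct.includeRight : B ⊗[A] B →ₐ[A] A' ⊗[A] (B ⊗[A] B))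
      ((KaehlerDifferential.ideal A B) ^ (n + 1))) : PsiN A B A' n t = 0 := by
  have h : Ideal.map (Algebra.TensorProduct.includeRight : B ⊗[A] B →ₐ[A] A' ⊗[A] (B ⊗[A] B))
      ((KaehlerDifferential.ideal A B) ^ (n + 1)) ≤ RingHom.ker (PsiN A B A' n) := by
    rw [Ideal.map_le_iff_le_comap]
    intro y hy
    rw [Ideal.mem_comap, RingHom.mem_ker, Algebra.TensorProduct.includeRight_apply, PsiN_tmul,
      Ideal.Quotient.eq_zero_iff_mem.mpr hy, TensorProduct.tmul_zero]
  exact h ht

variable [Algebra.IsPushout A A' B B']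

theorem ideal_pow_le_map_Theta :
    (KaehlerDifferential.ideal A' B') ^ (n + 1) ≤
      Ideal.map (Theta A B A' B')
        (Ideal.map (Algebra.TensorProduct.includeRight : B ⊗[A] B →ₐ[A] A' ⊗[A] (B ⊗[A] B))
          ((KaehlerDifferential.ideal A B) ^ (n + 1))) := by
  rw [← ideal_map_tensorMap_eq A B A' B', ← Ideal.map_pow, Ideal.map_le_iff_le_comap]
  intro y hy
  rw [Ideal.mem_comap]
  have h1 : tensorMap A B A' B' y = Theta A B A' B'
      ((Algebra.TensorProduct.includeRight : B ⊗[A] B →ₐ[A] A' ⊗[A] (B ⊗[A] B)) y) := by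
    rw [Algebra.TensorProduct.includeRight_apply, Theta_tmul, one_smul]
  rw [h1]
  exact Ideal.mem_map_of_mem _ (Ideal.mem_map_of_mem _ hy)

theorem ThetaN_injective : Function.Injective (ThetaN A B A' B' n) := by
  rw [injective_iff_map_eq_zero]
  intro u hu
  obtain ⟨t, rfl⟩ := PsiN_surjective A B A' n u
  rw [ThetaN_PsiN, Ideal.Quotient.eq_zero_iff_mem] at hu
  have h1 := ideal_pow_le_map_Theta A B A' B' n hu
  obtain ⟨t₀, ht₀, h2⟩ := (Ideal.mem_map_iff_of_surjective (Theta A B A' B')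
    (Theta_bijective A B A' B').2).mp h1
  have h3 : t₀ = t := (Theta_bijective A B A' B').1 h2
  rw [← h3]
  exact PsiN_eq_zero_of_mem A B A' n t₀ ht₀

end thetaN

end Groth.Agent.Lib.Helper16.DiffBC
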