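import Mathlib
import Groth.Prelude.Def_PP16
import Groth.Agent.S3820
import Groth.Agent.Lib.Helper16.QRegDiff
import Groth.Agent.Lib.Helper16.DiffBC4

/-!
# Differential smoothness is stable under arbitrary base change

multilinear_mem_of_span, projective_grJ, projective_quot_pow (principal parts are projective),
lTensor_iotaG_injective, XiG, XiG_surjective, can'_injective, isDiffSmooth_baseChange.
-/

set_option autoImplicit false
set_option linter.unusedSectionVars false
universe u

namespace Groth.Agent.Lib.Helper16.DiffBC

open Groth.Agent.Lib.Helper23 Groth.Agent.S3820 PP16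
open scoped TensorProduct

section multilinear

/-- a multilinear map takes values in a submodule as soon as it does so on a spanning set -/
theorem multilinear_mem_of_span {R M N ι : Type*} [CommRing R] [AddCommGroup M] [Module R M]
    [AddCommGroup N] [Module R N] [Fintype ι] [DecidableEq ι]
    (f : MultilinearMap R (fun _ : ι => M) N) (G : Set M) (hG : Submodule.span R G = ⊤)
    (T : Submodule R N) (h : ∀ p : ι → M, (∀ i, p i ∈ G) → f p ∈ T) : ∀ p, f p ∈ T := by
  have key : ∀ s : Finset ι, ∀ p : ι → M, (∀ i, i ∉ s → p i ∈ G) → f p ∈ T := by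
    intro s
    induction s using Finset.induction_on with
    | empty => intro p hp; exact h p (fun i => hp i (Finset.notMem_empty i))
    | insert j s hj ih =>
      intro p hp
      have h1 : ∀ y ∈ Submodule.span R G, f (Function.update p j y) ∈ T := by
        intro y hy
        induction hy using Submodule.span_induction with
        | mem y hy =>
          apply ih
          intro i hi
          by_cases hij : i = j
          · subst hij; rw [Function.update_self]; exact hy
          · rw [Function.update_of_ne hij]
            exact hp i (by simp [hij, hi])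
        | zero => rw [MultilinearMap.map_update_zero]; exact T.zero_mem
        | add x y _ _ hx hy => rw [MultilinearMap.map_update_add]; exact T.add_mem hx hy
        | smul c x _ hx => rw [MultilinearMap.map_update_smul]; exact T.smul_mem c hx
      have h2 := h1 (p j) (by rw [hG]; trivial)
      rwa [Function.update_eq_self] at h2
  intro p
  exact key Finset.univ p (fun i hi => absurd (Finset.mem_univ i) hi)

end multilinear

section proj

variable (A B : Type u) [CommRing A] [CommRing B] [Algebra A B]

/-- the graded pieces of the diagonal ideal are projective `B`-modules -/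
theorem projective_grJ
    (hproj : Module.Projective ((B ⊗[A] B) ⧸ KaehlerDifferential.ideal A B)
      (KaehlerDifferential.ideal A B).Cotangent) (ι : Type u) [Fintype ι] [Nonempty ι]
    (hcan : Function.Bijective (SymGr.can (B ⊗[A] B) (KaehlerDifferential.ideal A B) ι))
    (n : ℕ) (hn : Fintype.card ι = n) :
    Module.Projective B (grJ (B ⊗[A] B) (KaehlerDifferential.ideal A B) n) := by
  subst hn
  obtain ⟨s, hs⟩ := Module.projective_def'.mp hproj
  have hs' : ∀ p, Finsupp.linearCombination ((B ⊗[A] B) ⧸ KaehlerDifferential.ideal A B)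
      (id : (KaehlerDifferential.ideal A B).Cotangent → (KaehlerDifferential.ideal A B).Cotangent)
      (s p) = p := fun p => LinearMap.congr_fun hs p
  let canE := LinearEquiv.ofBijective (SymGr.can (B ⊗[A] B) (KaehlerDifferential.ideal A B) ι) hcan
  let i :=
    (SymPow.prodMap (R := B ⊗[A] B) (ι := ι)
      (T := MvPolynomial (KaehlerDifferential.ideal A B).Cotangent
        ((B ⊗[A] B) ⧸ KaehlerDifferential.ideal A B))
      (SymPoly.Lmap (KaehlerDifferential.ideal A B) s)) ∘ₗ canE.symm.toLinearMap
  let r :=
    canE.toLinearMap ∘ₗ (SymPoly.rho (ι := ι) (KaehlerDifferential.ideal A B)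
      (id : (KaehlerDifferential.ideal A B).Cotangent → (KaehlerDifferential.ideal A B).Cotangent)
      (SymPoly.torsion (KaehlerDifferential.ideal A B)))
  have hri : ∀ g, r (i g) = g := by
    intro g
    simp only [i, r, LinearMap.comp_apply, LinearEquiv.coe_coe]
    rw [SymPoly.rho_prodMap (KaehlerDifferential.ideal A B) id s hs', LinearEquiv.apply_symm_apply]
  have hP : Module.Projective B (MvPolynomial (KaehlerDifferential.ideal A B).Cotangent
      ((B ⊗[A] B) ⧸ KaehlerDifferential.ideal A B)) :=
    (Groth.Agent.Lib.Helper16.QRegDiff.projective_iff_of_bijective (quotEquiv A B).bijective).mpr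
      inferInstance
  refine Module.Projective.of_split (i.restrictScalars B) (r.restrictScalars B) ?_
  ext g
  exact hri g

end proj

section proj2

variable (A B : Type u) [CommRing A] [CommRing B] [Algebra A B]

theorem can_bijective_of_isDiffSmooth (h : IsDiffSmooth A B) (ι : Type u) [Fintype ι]
    [Nonempty ι] :
    Function.Bijective (SymGr.can (B ⊗[A] B) (KaehlerDifferential.ideal A B) ι) := by
  obtain ⟨φ, h1, h2⟩ := h.2 ι
  have h3 := Groth.Agent.Lib.Helper16.QRegDiff.eq_phi' A B ι φ h1
  rw [h3] at h2
  exact ⟨Groth.Agent.Lib.Helper16.QRegDiff.can_injective_of A B ι h2.1,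
    SymGr.can_surjective _ _ ι⟩

theorem projective_quot_pow (h : IsDiffSmooth A B) : ∀ n, 1 ≤ n →
    Module.Projective B ((B ⊗[A] B) ⧸ (KaehlerDifferential.ideal A B) ^ n) := by
  intro n hn
  induction n, hn using Nat.le_induction with
  | base =>
    let e : B ≃ₗ[B] ((B ⊗[A] B) ⧸ (KaehlerDifferential.ideal A B) ^ 1) :=
      (quotEquiv A B).toLinearEquiv ≪≫ₗ
        ((Submodule.quotEquivOfEq (KaehlerDifferential.ideal A B)
          ((KaehlerDifferential.ideal A B) ^ 1) (pow_one _).symm).restrictScalars B)
    exact Module.Projective.of_equiv e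
  | succ n hn ih =>
    have hne : Nonempty (ULift.{u} (Fin n)) := ⟨⟨⟨0, hn⟩⟩⟩
    have hcard : Fintype.card (ULift.{u} (Fin n)) = n := by simp
    obtain ⟨ρ, -, himp⟩ := exists_retraction (KaehlerDifferential.ideal A B) n B ih
    exact himp (projective_grJ A B
      ((Groth.Agent.Lib.Helper16.QRegDiff.projective_iff A B).mp h.1) (ULift.{u} (Fin n))
      (can_bijective_of_isDiffSmooth A B h _) n hcard)

theorem lTensor_iotaG_injective (h : IsDiffSmooth A B) (A' : Type u) [CommRing A'] [Algebra A A']
    (n : ℕ) (hn : 1 ≤ n) :
    Function.Injective (LinearMap.lTensor A'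
      ((iotaG (KaehlerDifferential.ideal A B) n).restrictScalars A)) := by
  obtain ⟨ρ, hρ, -⟩ := exists_retraction (KaehlerDifferential.ideal A B) n B
    (projective_quot_pow A B h n hn)
  have h1 : (ρ.restrictScalars A) ∘ₗ
      ((iotaG (KaehlerDifferential.ideal A B) n).restrictScalars A) = LinearMap.id := by
    ext g; exact hρ g
  have h2 : (LinearMap.lTensor A' (ρ.restrictScalars A)) ∘ₗ
      (LinearMap.lTensor A' ((iotaG (KaehlerDifferential.ideal A B) n).restrictScalars A)) =
      LinearMap.id := by
    rw [← LinearMap.lTensor_comp, h1, LinearMap.lTensor_id]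
  exact Function.LeftInverse.injective (fun w => LinearMap.congr_fun h2 w)

end proj2

section xi

variable (A B A' B' : Type u) [CommRing A] [CommRing B] [Algebra A B]
    [CommRing A'] [CommRing B'] [Algebra A' B'] [Algebra A A'] [Algebra B B'] [Algebra A B']
    [IsScalarTower A A' B'] [IsScalarTower A B B'] (ι : Type u) [Fintype ι]

attribute [local instance] tensorAlg symMod'

local notation "RR" => (B ⊗[A] B)
local notation "II" => (KaehlerDifferential.ideal A B)
local notation "RR'" => (B' ⊗[A'] B')
local notation "II'" => (KaehlerDifferential.ideal A' B')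

theorem algebraMap_comm (a : A) :
    algebraMap RR RR' (algebraMap A RR a) = algebraMap A' RR' (algebraMap A A' a) := by
  rw [algebraMap_tensorAlg, AlgHom.commutes, IsScalarTower.algebraMap_apply A A' RR']

variable (hcan : Function.Bijective
  (SymGr.can (B ⊗[A] B) (KaehlerDifferential.ideal A B) ι))

/-- the map `A' ⊗ gr → Sym'` -/
noncomputable def XiG :
    A' ⊗[A] grJ RR II (Fintype.card ι) →+ SymmetricPower RR' ι (KaehlerDifferential.ideal A' B').Cotangent :=
  TensorProduct.liftAddHom (R := A)
    (AddMonoidHom.mk' (fun a' : A' => AddMonoidHom.mk'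
      (fun g : grJ RR II (Fintype.card ι) =>
        algebraMap A' RR' a' • sigma' II RR' II' (hJ_diag A B A' B') ι
          ((LinearEquiv.ofBijective _ hcan).symm g))
        (fun x y => by rw [map_add, map_add, smul_add]))
      (fun a' c' => by
        ext g
        simp only [AddMonoidHom.mk'_apply, AddMonoidHom.add_apply, map_add, add_smul]))
    (fun a a' g => by
      simp only [AddMonoidHom.mk'_apply]
      have h1 : a • g = algebraMap A RR a • g := (algebraMap_smul RR a g).symm
      have e1 : (LinearEquiv.ofBijective _ hcan).symm (algebraMap A RR a • g) =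
          algebraMap A RR a • (LinearEquiv.ofBijective _ hcan).symm g := map_smul _ _ g
      have e2 : ∀ z, sigma' II RR' II' (hJ_diag A B A' B') ι (algebraMap A RR a • z) =
          algebraMap RR RR' (algebraMap A RR a) • sigma' II RR' II' (hJ_diag A B A' B') ι z := by
        intro z
        rw [map_smul, symMod'_smul]
      have e3 : algebraMap A' RR' (a • a') =
          algebraMap A' RR' (algebraMap A A' a) * algebraMap A' RR' a' := by
        rw [Algebra.smul_def, map_mul]
      rw [h1, e1, e2, e3, algebraMap_comm, smul_smul, mul_comm])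

theorem XiG_tmul (a' : A') (g : grJ RR II (Fintype.card ι)) :
    XiG A B A' B' ι hcan (a' ⊗ₜ g) =
      algebraMap A' RR' a' • sigma' II RR' II' (hJ_diag A B A' B') ι
        ((LinearEquiv.ofBijective _ hcan).symm g) := rfl

/-- compatibility of `XiG` with `can'`, read inside the truncation -/
theorem iotaG_can_XiG (w : A' ⊗[A] grJ RR II (Fintype.card ι)) :
    iotaG II' (Fintype.card ι) (SymGr.can RR' II' ι (XiG A B A' B' ι hcan w)) =
      ThetaN A B A' B' (Fintype.card ι)
        (LinearMap.lTensor A' ((iotaG II (Fintype.card ι)).restrictScalars A) w) := by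
  induction w using TensorProduct.induction_on with
  | zero => simp
  | tmul a' g =>
    obtain ⟨x, hx, h1, h2⟩ := exists_can_sigma' II RR' II' (hJ_diag A B A' B') ι
      ((LinearEquiv.ofBijective _ hcan).symm g)
    have hg : g = Submodule.Quotient.mk ⟨x, hx⟩ := by
      rw [← h1]
      exact ((LinearEquiv.ofBijective _ hcan).apply_symm_apply g).symm
    rw [XiG_tmul, map_smul, h2, map_smul, iotaG_mk, LinearMap.lTensor_tmul,
      LinearMap.coe_restrictScalars]
    conv_rhs => rw [hg, iotaG_mk]
    rw [ThetaN_tmul]
    change _ = a' • PP16.map (Fintype.card ι) A B A' B' (Ideal.Quotient.mk _ x)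
    rw [map_mk, ← algebraMap_smul RR' a']
    rfl
  | add x y hx hy => rw [map_add, map_add, map_add, map_add, map_add, hx, hy]

end xi

section surj

variable (A B A' B' : Type u) [CommRing A] [CommRing B] [Algebra A B]
    [CommRing A'] [CommRing B'] [Algebra A' B'] [Algebra A A'] [Algebra B B'] [Algebra A B']
    [IsScalarTower A A' B'] [IsScalarTower A B B'] [Algebra.IsPushout A A' B B']
    (ι : Type u) [Fintype ι]

attribute [local instance] tensorAlg symMod'

local notation "RR" => (B ⊗[A] B)
local notation "II" => (KaehlerDifferential.ideal A B)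
local notation "RR'" => (B' ⊗[A'] B')
local notation "II'" => (KaehlerDifferential.ideal A' B')

theorem span_range_cotMap' :
    Submodule.span RR' (Set.range (cotMap' II RR' II' (hJ_diag A B A' B'))) = ⊤ := by
  rw [eq_top_iff]
  rintro m -
  obtain ⟨⟨x', hx'⟩, rfl⟩ := (KaehlerDifferential.ideal A' B').toCotangent_surjective m
  have hx'' : x' ∈ Submodule.span RR' (⇑(tensorMap A B A' B') '' (II : Set RR)) := by
    have h := hx'
    rw [← ideal_map_tensorMap_eq A B A' B'] at h
    exact h
  have hle : ∀ y, y ∈ Submodule.span RR' (⇑(tensorMap A B A' B') '' (II : Set RR)) → y ∈ II' := by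
    intro y hy
    rw [← ideal_map_tensorMap_eq A B A' B']
    exact hy
  induction hx'' using Submodule.span_induction with
  | mem z hz =>
    obtain ⟨y, hy, rfl⟩ := hz
    apply Submodule.subset_span
    exact ⟨(KaehlerDifferential.ideal A B).toCotangent ⟨y, hy⟩,
      cotMap'_toCotangent II RR' II' (hJ_diag A B A' B') ⟨y, hy⟩⟩
  | zero =>
    have : (⟨0, hx'⟩ : II') = 0 := rfl
    rw [this, map_zero]
    exact zero_mem _
  | add y z hy hz ihy ihz =>
    have : (⟨y + z, hx'⟩ : II') = ⟨y, hle y hy⟩ + ⟨z, hle z hz⟩ := rfl
    rw [this, map_add]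
    exact Submodule.add_mem _ (ihy _) (ihz _)
  | smul r y hy ihy =>
    have : (⟨r • y, hx'⟩ : II') = r • ⟨y, hle y hy⟩ := rfl
    rw [this, map_smul]
    exact Submodule.smul_mem _ _ (ihy _)

variable (hcan : Function.Bijective
  (SymGr.can (B ⊗[A] B) (KaehlerDifferential.ideal A B) ι))

theorem XiG_surjective : Function.Surjective (XiG A B A' B' ι hcan) := by
  classical
  let T := AddMonoidHom.range (XiG A B A' B' ι hcan)
  have hA : ∀ z, sigma' II RR' II' (hJ_diag A B A' B') ι z ∈ T := fun z =>
    ⟨(1 : A') ⊗ₜ (LinearEquiv.ofBijective _ hcan z), by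
      rw [XiG_tmul, LinearEquiv.symm_apply_apply, map_one, one_smul]⟩
  have hB1 : ∀ (a' : A') y, y ∈ T → algebraMap A' RR' a' • y ∈ T := by
    rintro a' _ ⟨w, rfl⟩
    induction w using TensorProduct.induction_on with
    | zero => rw [map_zero, smul_zero]; exact T.zero_mem
    | tmul c' g =>
      exact ⟨(a' * c') ⊗ₜ g, by rw [XiG_tmul, XiG_tmul, map_mul, mul_smul]⟩
    | add x y hx hy => rw [map_add, smul_add]; exact T.add_mem hx hy
  have hB2 : ∀ (r : RR) y, y ∈ T → algebraMap RR RR' r • y ∈ T := by
    rintro r _ ⟨w, rfl⟩
    induction w using TensorProduct.induction_on with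
    | zero => rw [map_zero, smul_zero]; exact T.zero_mem
    | tmul c' g =>
      refine ⟨c' ⊗ₜ (r • g), ?_⟩
      have e1 : (LinearEquiv.ofBijective _ hcan).symm (r • g) =
          r • (LinearEquiv.ofBijective _ hcan).symm g := map_smul _ r g
      have e2 : ∀ z, sigma' II RR' II' (hJ_diag A B A' B') ι (r • z) =
          algebraMap RR RR' r • sigma' II RR' II' (hJ_diag A B A' B') ι z := by
        intro z
        rw [map_smul, symMod'_smul]
      rw [XiG_tmul, XiG_tmul, e1, e2, smul_comm]
    | add x y hx hy => rw [map_add, smul_add]; exact T.add_mem hx hy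
  have hB : ∀ (r' : RR') y, y ∈ T → r' • y ∈ T := by
    intro r' y hy
    obtain ⟨t, rfl⟩ := (Theta_bijective A B A' B').2 r'
    induction t using TensorProduct.induction_on with
    | zero => rw [map_zero, zero_smul]; exact T.zero_mem
    | tmul a' r =>
      rw [Theta_tmul, Algebra.smul_def, mul_smul]
      exact hB1 a' _ (hB2 r y hy)
    | add x z hx hz => rw [map_add, add_smul]; exact T.add_mem hx hz
  let Tsub : Submodule RR' (SymmetricPower RR' ι (KaehlerDifferential.ideal A' B').Cotangent) :=
    { carrier := T
      add_mem' := fun ha hb => T.add_mem ha hb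
      zero_mem' := T.zero_mem
      smul_mem' := fun c x hx => hB c x hx }
  have hC : ∀ p' : ι → (KaehlerDifferential.ideal A' B').Cotangent,
      SymmetricPower.tprod RR' p' ∈ Tsub := by
    apply multilinear_mem_of_span (SymmetricPower.tprod RR')
      (Set.range (cotMap' II RR' II' (hJ_diag A B A' B'))) (span_range_cotMap' A B A' B') Tsub
    intro p hp
    choose ω hω using hp
    have : p = fun i => cotMap' II RR' II' (hJ_diag A B A' B') (ω i) :=
      funext (fun i => (hω i).symm)
    rw [this, ← sigma'_tprod]
    exact hA _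
  intro z'
  induction z' using SymPow.induction_on with
  | tprod r' p' => exact hB r' _ (hC p')
  | add z w hz hw =>
    obtain ⟨a, rfl⟩ := hz
    obtain ⟨b, rfl⟩ := hw
    exact ⟨a + b, map_add _ _ _⟩

theorem can'_injective (h : IsDiffSmooth A B) [Nonempty ι] :
    Function.Injective (SymGr.can RR' II' ι) := by
  have hcan := can_bijective_of_isDiffSmooth A B h ι
  rw [injective_iff_map_eq_zero]
  intro z' hz'
  obtain ⟨w, rfl⟩ := XiG_surjective A B A' B' ι hcan z'
  have h1 := iotaG_can_XiG A B A' B' ι hcan w
  rw [hz', map_zero] at h1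
  have h2 : LinearMap.lTensor A' ((iotaG II (Fintype.card ι)).restrictScalars A) w = 0 := by
    apply ThetaN_injective A B A' B' (Fintype.card ι)
    rw [← h1, map_zero]
  have h3 : w = 0 := by
    apply lTensor_iotaG_injective A B h A' (Fintype.card ι) Fintype.card_pos
    rw [h2, map_zero]
  rw [h3, map_zero]

/-- differential smoothness is stable under base change -/
theorem isDiffSmooth_baseChange (h : IsDiffSmooth A B) : IsDiffSmooth A' B' := by
  have hproj : Module.Projective B' Ω[B'⁄A'] := by
    have := h.1
    exact Module.Projective.of_equiv (KaehlerDifferential.tensorKaehlerEquiv A A' B B')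
  refine ⟨hproj, fun ι _ => ?_⟩
  rcases isEmpty_or_nonempty ι with hι | hι
  · exact exists_phi_empty A' B' ι
  · exact ⟨Groth.Agent.Lib.Helper16.QRegDiff.phi' A' B' ι,
      Groth.Agent.Lib.Helper16.QRegDiff.phi'_tprod A' B' ι,
      Groth.Agent.Lib.Helper16.QRegDiff.phi'_bijective_of A' B' ι
        (can'_injective A B A' B' ι h)⟩

end surj

end Groth.Agent.Lib.Helper16.DiffBC
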