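import Mathlib
import Groth.Prelude.Def_PP16
import Groth.Agent.S3820

/-!
# monomials in the zeta elements span the principal parts
-/

set_option autoImplicit false
set_option linter.unusedSectionVars false

universe u

namespace Groth.Agent.Lib.Helper16.PPBasis

open Groth.Agent.S3820 PP16
open scoped TensorProduct

section span

variable (A B : Type u) [CommRing A] [CommRing B] [Algebra A B]
variable {ι : Type} [Fintype ι] [DecidableEq ι] (z : ι → B)

/-- the element `1 ⊗ z i - z i ⊗ 1` -/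
noncomputable def zeta (i : ι) : B ⊗[A] B := (1 : B) ⊗ₜ[A] z i - z i ⊗ₜ[A] (1 : B)

theorem zeta_mem (i : ι) : zeta A B z i ∈ KaehlerDifferential.ideal A B :=
  KaehlerDifferential.one_smul_sub_smul_one_mem_ideal A (z i)

/-- the monomial `ζ^p` -/
noncomputable def zmon (p : ι → ℕ) : B ⊗[A] B := ∏ i, zeta A B z i ^ p i

theorem zmon_mem (p : ι → ℕ) : zmon A B z p ∈ KaehlerDifferential.ideal A B ^ (∑ i, p i) := by
  rw [zmon, ← Finset.prod_pow_eq_pow_sum]
  exact Ideal.prod_mem_prod (fun i _ => Ideal.pow_mem_pow (zeta_mem A B z i) _)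

theorem zmon_single_add (p : ι → ℕ) (i : ι) :
    zeta A B z i * zmon A B z p = zmon A B z (p + Pi.single i 1) := by
  rw [zmon, zmon]
  have h : ∀ j, zeta A B z j ^ ((p + Pi.single i 1 : ι → ℕ) j) =
      zeta A B z j ^ p j * zeta A B z j ^ ((Pi.single i 1 : ι → ℕ) j) := by
    intro j; rw [Pi.add_apply, pow_add]
  rw [Finset.prod_congr rfl (fun j _ => h j), Finset.prod_mul_distrib, mul_comm]
  congr 1
  rw [Finset.prod_eq_single i]
  · simp
  · intro j _ hj; simp [Pi.single_eq_of_ne hj]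
  · intro h; exact absurd (Finset.mem_univ i) h

/-- the `B`-span of monomials of degree exactly `n` -/
noncomputable def Mon (n : ℕ) : Submodule B (B ⊗[A] B) :=
  Submodule.span B ((zmon A B z) '' {p | ∑ i, p i = n})

/-- the `B`-span of monomials of degree at most `n` -/
noncomputable def Full (n : ℕ) : Submodule B (B ⊗[A] B) :=
  Submodule.span B ((zmon A B z) '' {p | ∑ i, p i ≤ n})

/-- `I^n` as a `B`-submodule -/
noncomputable def Ipow (n : ℕ) : Submodule B (B ⊗[A] B) :=
  (KaehlerDifferential.ideal A B ^ n).restrictScalars B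

theorem mem_Ipow (n : ℕ) (x : B ⊗[A] B) :
    x ∈ Ipow A B n ↔ x ∈ KaehlerDifferential.ideal A B ^ n := Iff.rfl

theorem Ipow_anti {m n : ℕ} (h : m ≤ n) : Ipow A B n ≤ Ipow A B m := fun _ hx =>
  Ideal.pow_le_pow_right h hx

/-- `r * x ≡ μ(r) • x` modulo `I^(n+1)` for `x ∈ I^n` -/
theorem mul_sub_smul_mem (n : ℕ) (r x : B ⊗[A] B)
    (hx : x ∈ KaehlerDifferential.ideal A B ^ n) :
    r * x - mu A B r • x ∈ KaehlerDifferential.ideal A B ^ (n + 1) := by
  have h1 : r * x - mu A B r • x = (r - algebraMap B (B ⊗[A] B) (mu A B r)) * x := by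
    rw [sub_mul, Algebra.smul_def]
  rw [h1, pow_succ']
  exact Ideal.mul_mem_mul (sub_mem A B r) hx

theorem sum_add_single (p : ι → ℕ) (i : ι) :
    ∑ j, (p + Pi.single i 1 : ι → ℕ) j = ∑ j, p j + 1 := by
  simp [Finset.sum_add_distrib]

theorem mulZeta_mem (n : ℕ) (i : ι) (c : B ⊗[A] B)
    (hc : c ∈ Mon A B z n ⊔ Ipow A B (n + 1)) :
    zeta A B z i * c ∈ Mon A B z (n + 1) ⊔ Ipow A B (n + 2) := by
  have h : Submodule.map (LinearMap.mulLeft B (zeta A B z i)) (Mon A B z n ⊔ Ipow A B (n + 1)) ≤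
      Mon A B z (n + 1) ⊔ Ipow A B (n + 2) := by
    rw [Submodule.map_sup]
    refine sup_le (le_sup_of_le_left ?_) (le_sup_of_le_right ?_)
    · rw [Mon, Submodule.map_span, Submodule.span_le]
      rintro _ ⟨_, ⟨p, hp, rfl⟩, rfl⟩
      rw [LinearMap.mulLeft_apply, zmon_single_add]
      refine Submodule.subset_span ⟨_, ?_, rfl⟩
      show ∑ j, (p + Pi.single i 1 : ι → ℕ) j = n + 1
      rw [sum_add_single, hp]
    · rintro _ ⟨y, hy, rfl⟩
      rw [LinearMap.mulLeft_apply, mem_Ipow, show n + 2 = (n + 1) + 1 from rfl, pow_succ' _ (n + 1)]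
      exact Ideal.mul_mem_mul (zeta_mem A B z i) hy
  exact h ⟨c, hc, rfl⟩

variable (hspan : Submodule.span B (Set.range fun i => KaehlerDifferential.D A B (z i)) = ⊤)

include hspan in
theorem exists_sub_mem_sq (x : B ⊗[A] B) (hx : x ∈ KaehlerDifferential.ideal A B) :
    ∃ β : ι → B, x - ∑ i, β i • zeta A B z i ∈ KaehlerDifferential.ideal A B ^ 2 := by
  have h1 : KaehlerDifferential.fromIdeal A B ⟨x, hx⟩ ∈
      Submodule.span B (Set.range fun i => KaehlerDifferential.D A B (z i)) := by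
    rw [hspan]; trivial
  obtain ⟨β, hβ⟩ := (Submodule.mem_span_range_iff_exists_fun B).mp h1
  refine ⟨β, ?_⟩
  have h2 : ∀ i, β i • KaehlerDifferential.D A B (z i) =
      KaehlerDifferential.fromIdeal A B
        (algebraMap B (B ⊗[A] B) (β i) • ⟨zeta A B z i, zeta_mem A B z i⟩) := by
    intro i
    rw [map_smul, algebraMap_smul]
    rfl
  rw [Finset.sum_congr rfl (fun i _ => h2 i), ← map_sum] at hβ
  have h3 := (Ideal.toCotangent_eq _).mp hβ
  have h4 : ((∑ i, algebraMap B (B ⊗[A] B) (β i) •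
      (⟨zeta A B z i, zeta_mem A B z i⟩ : ↥(KaehlerDifferential.ideal A B)) :
        ↥(KaehlerDifferential.ideal A B)) : B ⊗[A] B) = ∑ i, β i • zeta A B z i := by
    rw [Submodule.coe_sum]
    refine Finset.sum_congr rfl (fun i _ => ?_)
    rw [Submodule.coe_smul, smul_eq_mul, Algebra.smul_def]
  rw [h4] at h3
  have h5 := Ideal.neg_mem_iff _ |>.mpr h3
  rwa [neg_sub] at h5

include hspan in
theorem Ipow_le (n : ℕ) : Ipow A B n ≤ Mon A B z n ⊔ Ipow A B (n + 1) := by
  induction n with
  | zero =>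
    intro x _
    have h1 : x = mu A B x • (1 : B ⊗[A] B) + (x - algebraMap B (B ⊗[A] B) (mu A B x)) := by
      rw [Algebra.smul_def, mul_one]; ring
    rw [h1]
    refine Submodule.add_mem _ (Submodule.mem_sup_left ?_) (Submodule.mem_sup_right ?_)
    · refine Submodule.smul_mem _ _ (Submodule.subset_span ⟨0, ?_, ?_⟩)
      · simp
      · simp [zmon]
    · rw [mem_Ipow, zero_add, pow_one]
      exact sub_mem A B x
  | succ n ih =>
    intro x hx
    rw [mem_Ipow, pow_succ'] at hx
    refine Submodule.mul_induction_on hx ?_ ?_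
    · intro a ha c hc
      obtain ⟨β, hβ⟩ := exists_sub_mem_sq A B z hspan a ha
      have h1 : a * c = ∑ i, β i • (zeta A B z i * c) + (a - ∑ i, β i • zeta A B z i) * c := by
        rw [sub_mul, Finset.sum_mul]
        simp only [smul_mul_assoc]
        ring
      rw [h1]
      refine Submodule.add_mem _ (Submodule.sum_mem _ (fun i _ => Submodule.smul_mem _ _ ?_))
        (Submodule.mem_sup_right ?_)
      · exact mulZeta_mem A B z n i c (ih hc)
      · rw [mem_Ipow, show n + 1 + 1 = 2 + n by ring, pow_add]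
        exact Ideal.mul_mem_mul hβ hc
    · intro x y hx hy
      exact Submodule.add_mem _ hx hy

theorem Mon_le_Full {n m : ℕ} (h : n ≤ m) : Mon A B z n ≤ Full A B z m := by
  refine Submodule.span_mono (Set.image_mono ?_)
  intro p hp
  show ∑ i, p i ≤ m
  rw [show ∑ i, p i = n from hp]; exact h

theorem Full_mono {n m : ℕ} (h : n ≤ m) : Full A B z n ≤ Full A B z m := by
  refine Submodule.span_mono (Set.image_mono ?_)
  intro p hp
  exact le_trans (show ∑ i, p i ≤ n from hp) h

include hspan in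
theorem top_le_Full (m : ℕ) : ⊤ ≤ Full A B z m ⊔ Ipow A B (m + 1) := by
  induction m with
  | zero =>
    intro x _
    have h := Ipow_le A B z hspan 0 (show x ∈ Ipow A B 0 by rw [mem_Ipow, pow_zero, Ideal.one_eq_top]; trivial)
    exact sup_le_sup_right (Mon_le_Full A B z le_rfl) _ h
  | succ m ih =>
    refine ih.trans (sup_le (le_sup_of_le_left (Full_mono A B z (Nat.le_succ m))) ?_)
    refine (Ipow_le A B z hspan (m + 1)).trans ?_
    exact sup_le_sup_right (Mon_le_Full A B z le_rfl) _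

end span

end Groth.Agent.Lib.Helper16.PPBasis
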