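import Mathlib
import Groth.Prelude.Def_PP16
import Groth.Prelude.Def_DiffOp
import Groth.Agent.S3820
import Groth.Agent.Lib.Helper16.PPBasis2
import Groth.Agent.Lib.Helper5.DiffOp

/-!
# symbols of composites of derivations on the diagonal ideal
-/

set_option autoImplicit false
set_option linter.unusedSectionVars false

universe u

namespace Groth.Agent.Lib.Helper16.DiffChar

open Groth.Agent.S3820 PP16 Groth.Agent.Lib.Helper5.DiffOp Groth.Agent.Lib.Helper16.PPBasis
open scoped TensorProduct

section D1

variable (A B : Type u) [CommRing A] [CommRing B] [Algebra A B] (D : Derivation A B B)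

/-- the derivation `D ⊗ 1` of `B ⊗ B` -/
noncomputable def D1 : B ⊗[A] B →ₗ[A] B ⊗[A] B := LinearMap.rTensor B (D : B →ₗ[A] B)

theorem D1_tmul (b c : B) : D1 A B D (b ⊗ₜ[A] c) = D b ⊗ₜ[A] c := rfl

theorem D1_mul (x y : B ⊗[A] B) : D1 A B D (x * y) = x * D1 A B D y + D1 A B D x * y := by
  induction x using TensorProduct.induction_on with
  | zero => simp
  | tmul b c =>
    induction y using TensorProduct.induction_on with
    | zero => simp
    | tmul b' c' =>
      rw [Algebra.TensorProduct.tmul_mul_tmul, D1_tmul, D1_tmul, D1_tmul, Derivation.leibniz,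
        Algebra.TensorProduct.tmul_mul_tmul, Algebra.TensorProduct.tmul_mul_tmul,
        TensorProduct.add_tmul, smul_eq_mul, smul_eq_mul, mul_comm b' (D b)]
    | add y y' hy hy' => rw [mul_add, map_add, hy, hy', map_add, mul_add, mul_add]; abel
  | add x x' hx hx' => rw [add_mul, map_add, hx, hx', map_add, add_mul, add_mul]; abel

theorem D1_pow (w : B ⊗[A] B) (k : ℕ) :
    D1 A B D (w ^ k) = k • (w ^ (k - 1) * D1 A B D w) := by
  induction k with
  | zero =>
    have h1 : D1 A B D 1 = 0 := by
      have := D1_tmul A B D 1 1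
      rw [Derivation.map_one_eq_zero, TensorProduct.zero_tmul] at this
      exact this
    rw [pow_zero, h1, zero_smul]
  | succ k ih =>
    rw [pow_succ, D1_mul, ih]
    rcases k with _ | k
    · simp
    · simp only [Nat.add_sub_cancel]
      rw [pow_succ w k]
      simp only [nsmul_eq_mul]
      push_cast
      ring

theorem D1_prod {J : Type*} [DecidableEq J] (s : Finset J) (f : J → B ⊗[A] B) :
    D1 A B D (∏ j ∈ s, f j) = ∑ k ∈ s, D1 A B D (f k) * ∏ j ∈ s.erase k, f j := by
  induction s using Finset.induction_on with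
  | empty =>
    have h1 : D1 A B D 1 = 0 := by
      have := D1_tmul A B D 1 1
      rw [Derivation.map_one_eq_zero, TensorProduct.zero_tmul] at this
      exact this
    simp [h1]
  | insert a s ha ih =>
    rw [Finset.prod_insert ha, D1_mul, ih, Finset.sum_insert ha, Finset.erase_insert ha,
      Finset.mul_sum, add_comm]
    congr 1
    refine Finset.sum_congr rfl (fun k hk => ?_)
    have hka : k ≠ a := fun h => ha (h ▸ hk)
    rw [Finset.erase_insert_of_ne (Ne.symm hka), Finset.prod_insert (fun h => ha (Finset.mem_of_mem_erase h))]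
    ring

end D1

section lin

variable (A B : Type u) [CommRing A] [CommRing B] [Algebra A B]

local notation "LL" => Diff16.linearize A B B B

theorem lin_tmul (E : B →ₗ[A] B) (b c : B) : LL E (b ⊗ₜ[A] c) = b * E c := by
  simp [Diff16.linearize]

theorem lin_smul (E : B →ₗ[A] B) (b : B) (x : B ⊗[A] B) : LL E (b • x) = b * LL E x := by
  induction x using TensorProduct.induction_on with
  | zero => simp
  | tmul b' c => rw [TensorProduct.smul_tmul', lin_tmul, lin_tmul, smul_eq_mul, mul_assoc]
  | add x y hx hy => rw [smul_add, map_add, map_add, hx, hy, mul_add]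

/-- `mu (D1 x) = D (mu x) - L(D)(x)` -/
theorem mu_D1 (D : Derivation A B B) (x : B ⊗[A] B) :
    mu A B (D1 A B D x) = D (mu A B x) - LL (D : B →ₗ[A] B) x := by
  induction x using TensorProduct.induction_on with
  | zero => simp
  | tmul b c =>
    rw [D1_tmul, lin_tmul]
    show (Algebra.TensorProduct.lmul' A : B ⊗[A] B →ₐ[A] B) (D b ⊗ₜ[A] c) =
      D ((Algebra.TensorProduct.lmul' A : B ⊗[A] B →ₐ[A] B) (b ⊗ₜ[A] c)) - b * (D : B →ₗ[A] B) c
    rw [Algebra.TensorProduct.lmul'_apply_tmul, Algebra.TensorProduct.lmul'_apply_tmul,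
      Derivation.leibniz, smul_eq_mul, smul_eq_mul]
    simp only [Derivation.coeFn_coe]
    ring
  | add x y hx hy => rw [map_add, map_add, hx, hy, map_add, map_add, map_add]; ring

theorem lin_comp (D : Derivation A B B) (E : B →ₗ[A] B) (x : B ⊗[A] B) :
    LL ((D : B →ₗ[A] B) ∘ₗ E) x = D (LL E x) - LL E (D1 A B D x) := by
  induction x using TensorProduct.induction_on with
  | zero => simp
  | tmul b c =>
    rw [D1_tmul, lin_tmul, lin_tmul, lin_tmul, Derivation.leibniz, smul_eq_mul, smul_eq_mul,
      LinearMap.comp_apply]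
    simp only [Derivation.coeFn_coe]
    ring
  | add x y hx hy => rw [map_add, map_add, map_add, map_add, hx, hy, map_add]; ring

/-- for `E` of order at most `k` and `x ∈ I^k`, `L(E)(r x) = mu r * L(E)(x)` -/
theorem lin_mul_of_mem (E : B →ₗ[A] B) (k : ℕ) (hE : Diff16.IsDiffOpLE A B B B k E)
    (r x : B ⊗[A] B) (hx : x ∈ KaehlerDifferential.ideal A B ^ k) :
    LL E (r * x) = mu A B r * LL E x := by
  have h1 := mul_sub_smul_mem A B k r x hx
  have h2 := (isDiffOpLE_iff_linearize k E).mp hE _ h1
  rw [map_sub, lin_smul, sub_eq_zero] at h2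
  exact h2

theorem isDiffOpLE_derivation (D : Derivation A B B) :
    Diff16.IsDiffOpLE A B B B 1 (D : B →ₗ[A] B) := by
  intro b c t
  simp only [Diff16.commutator, LinearMap.sub_apply, LinearMap.comp_apply,
    LinearMap.restrictScalars_apply, LinearMap.lsmul_apply, smul_eq_mul, Derivation.coeFn_coe,
    Derivation.leibniz]
  ring

end lin

section val

variable {Λ : Type*} [DecidableEq Λ]

/-- the expected value of the symbol pairing -/
noncomputable def val : List Λ → (Λ →₀ ℕ) → ℕ
  | [], _ => 1
  | (l :: ls), m => m l * val ls (m - Finsupp.single l 1)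

/-- the multiplicity vector of a list -/
noncomputable def cntL : List Λ → (Λ →₀ ℕ)
  | [] => 0
  | (l :: ls) => Finsupp.single l 1 + cntL ls

theorem degree_cntL (l : List Λ) : Finsupp.degree (cntL l) = l.length := by
  induction l with
  | nil => simp [cntL]
  | cons a l ih => rw [cntL, map_add, ih, Finsupp.degree_single, List.length_cons, add_comm]

theorem val_cntL_pos (l : List Λ) : 0 < val l (cntL l) := by
  induction l with
  | nil => simp [val]
  | cons a l ih =>
    rw [val, cntL, add_tsub_cancel_left]
    refine Nat.mul_pos ?_ ih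
    rw [Finsupp.add_apply, Finsupp.single_eq_same]
    omega

theorem val_eq_zero (l : List Λ) : ∀ m : Λ →₀ ℕ, Finsupp.degree m = l.length → m ≠ cntL l →
    val l m = 0 := by
  induction l with
  | nil =>
    intro m hm hne
    exfalso
    apply hne
    rw [cntL]
    rw [List.length_nil] at hm
    exact (Finsupp.degree_eq_zero_iff m).mp hm
  | cons a l ih =>
    intro m hm hne
    rw [val]
    by_cases ha : m a = 0
    · rw [ha, zero_mul]
    · have hle : Finsupp.single a 1 ≤ m := by
        rw [Finsupp.single_le_iff]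
        omega
      have hm' : m = Finsupp.single a 1 + (m - Finsupp.single a 1) :=
        (add_tsub_cancel_of_le hle).symm
      have hdeg : Finsupp.degree (m - Finsupp.single a 1) = l.length := by
        have h1 := congrArg Finsupp.degree hm'
        rw [map_add, Finsupp.degree_single, hm, List.length_cons] at h1
        omega
      rw [ih _ hdeg, mul_zero]
      intro heq
      apply hne
      rw [cntL, ← heq]
      exact hm'

end val

section symbol

variable (A B : Type u) [CommRing A] [CommRing B] [Algebra A B]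
variable {Λ : Type*} [DecidableEq Λ] (y : Λ → B ⊗[A] B)

local notation "LL" => Diff16.linearize A B B B

/-- monomials in the family `y` -/
noncomputable def ymon (m : Λ →₀ ℕ) : B ⊗[A] B := m.prod (fun l k => y l ^ k)

theorem ymon_mem (hy : ∀ l, y l ∈ KaehlerDifferential.ideal A B) (m : Λ →₀ ℕ) :
    ymon A B y m ∈ KaehlerDifferential.ideal A B ^ (Finsupp.degree m) := by
  rw [ymon, Finsupp.prod, Finsupp.degree_apply, ← Finset.prod_pow_eq_pow_sum]
  exact Ideal.prod_mem_prod (fun i _ => Ideal.pow_mem_pow (hy i) _)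

theorem ymon_tsub (m : Λ →₀ ℕ) (μ : Λ) (hμ : μ ∈ m.support) :
    ymon A B y (m - Finsupp.single μ 1) =
      y μ ^ (m μ - 1) * ∏ l ∈ m.support.erase μ, y l ^ m l := by
  rw [ymon, Finsupp.prod_of_support_subset (s := m.support) _ Finsupp.support_tsub _
    (fun _ _ => pow_zero _), ← Finset.mul_prod_erase _ _ hμ]
  congr 1
  · rw [Finsupp.tsub_apply, Finsupp.single_eq_same]
  · refine Finset.prod_congr rfl (fun l hl => ?_)
    rw [Finsupp.tsub_apply, Finsupp.single_eq_of_ne (Finset.ne_of_mem_erase hl), tsub_zero]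

theorem D1_ymon (D : Derivation A B B) (m : Λ →₀ ℕ) :
    D1 A B D (ymon A B y m) =
      ∑ μ ∈ m.support, (m μ) • (D1 A B D (y μ) * ymon A B y (m - Finsupp.single μ 1)) := by
  rw [ymon, Finsupp.prod, D1_prod]
  refine Finset.sum_congr rfl (fun μ hμ => ?_)
  rw [D1_pow, ymon_tsub A B y m μ hμ]
  simp only [nsmul_eq_mul]
  ring

theorem degree_tsub (m : Λ →₀ ℕ) (μ : Λ) (hμ : μ ∈ m.support) (n : ℕ)
    (hm : Finsupp.degree m = n + 1) : Finsupp.degree (m - Finsupp.single μ 1) = n := by
  have hle : Finsupp.single μ 1 ≤ m := by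
    rw [Finsupp.single_le_iff]
    have := Finsupp.mem_support_iff.mp hμ
    omega
  have h1 := congrArg Finsupp.degree (add_tsub_cancel_of_le hle)
  rw [map_add, Finsupp.degree_single, hm] at h1
  omega

/-- the composite of the derivations along a list -/
noncomputable def Ecomp (Dd : Λ → Derivation A B B) (ls : List Λ) : B →ₗ[A] B :=
  (ls.map (fun l => ((Dd l : B →ₗ[A] B) : Module.End A B))).prod

theorem Ecomp_nil (Dd : Λ → Derivation A B B) : Ecomp A B Dd [] = LinearMap.id := rfl

theorem Ecomp_cons (Dd : Λ → Derivation A B B) (a : Λ) (ls : List Λ) :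
    Ecomp A B Dd (a :: ls) = (Dd a : B →ₗ[A] B) ∘ₗ Ecomp A B Dd ls := by
  rw [Ecomp, List.map_cons, List.prod_cons]
  rfl

theorem isDiffOpLE_Ecomp (Dd : Λ → Derivation A B B) (ls : List Λ) :
    Diff16.IsDiffOpLE A B B B ls.length (Ecomp A B Dd ls) := by
  induction ls with
  | nil =>
    intro b t
    rfl
  | cons a ls ih =>
    rw [Ecomp_cons, List.length_cons]
    exact isDiffOpLE_comp _ _ _ _ ih (isDiffOpLE_derivation A B (Dd a))

theorem symbol (hy : ∀ l, y l ∈ KaehlerDifferential.ideal A B) (Dd : Λ → Derivation A B B)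
    (hpair : ∀ l l', LL (Dd l : B →ₗ[A] B) (y l') = if l = l' then 1 else 0) :
    ∀ (ls : List Λ) (m : Λ →₀ ℕ), Finsupp.degree m = ls.length →
      LL (Ecomp A B Dd ls) (ymon A B y m) = (val ls m : B) := by
  intro ls
  induction ls with
  | nil =>
    intro m hm
    rw [List.length_nil] at hm
    have hm0 : m = 0 := (Finsupp.degree_eq_zero_iff m).mp hm
    subst hm0
    rw [ymon, Finsupp.prod_zero_index, Ecomp_nil, val, Nat.cast_one,
      Algebra.TensorProduct.one_def, lin_tmul, LinearMap.id_apply, mul_one]
  | cons a ls ih =>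
    intro m hm
    rw [List.length_cons] at hm
    have hE := isDiffOpLE_Ecomp A B Dd ls
    have hw : ymon A B y m ∈ KaehlerDifferential.ideal A B ^ (ls.length + 1) := by
      have := ymon_mem A B y hy m
      rwa [hm] at this
    have h0 : LL (Ecomp A B Dd ls) (ymon A B y m) = 0 :=
      (isDiffOpLE_iff_linearize ls.length _).mp hE _ hw
    rw [Ecomp_cons, lin_comp, h0, map_zero, zero_sub, D1_ymon, map_sum, val]
    have hterm : ∀ μ ∈ m.support,
        LL (Ecomp A B Dd ls) ((m μ) • (D1 A B (Dd a) (y μ) * ymon A B y (m - Finsupp.single μ 1))) =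
        - ((m μ : B) * ((if a = μ then 1 else 0) * (val ls (m - Finsupp.single μ 1) : B))) := by
      intro μ hμ
      have hdeg := degree_tsub m μ hμ ls.length hm
      have hmem : ymon A B y (m - Finsupp.single μ 1) ∈
          KaehlerDifferential.ideal A B ^ ls.length := by
        have := ymon_mem A B y hy (m - Finsupp.single μ 1)
        rwa [hdeg] at this
      rw [map_nsmul, lin_mul_of_mem A B _ ls.length hE _ _ hmem, mu_D1, hpair,
        (mem_ideal_iff A B (y μ)).mp (hy μ), map_zero, zero_sub, ih _ hdeg, nsmul_eq_mul]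
      ring
    rw [Finset.sum_congr rfl hterm, Finset.sum_neg_distrib, neg_neg]
    by_cases ha : a ∈ m.support
    · rw [Finset.sum_eq_single a]
      · rw [if_pos rfl, one_mul, Nat.cast_mul]
      · intro μ _ hμa
        rw [if_neg (Ne.symm hμa), zero_mul, mul_zero]
      · intro h; exact absurd ha h
    · rw [Finsupp.notMem_support_iff.mp ha, zero_mul, Nat.cast_zero]
      refine Finset.sum_eq_zero (fun μ hμ => ?_)
      rw [if_neg (fun h : a = μ => ha (h ▸ hμ)), zero_mul, mul_zero]

end symbol

end Groth.Agent.Lib.Helper16.DiffChar
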