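import Mathlib

/-!
# combinatorics of fibres for monomials
-/

set_option autoImplicit false

namespace Groth.Agent.Lib.Helper16.PPBasis

section comb

theorem prod_comp_eq {ι' ι M : Type*} [Fintype ι'] [Fintype ι] [DecidableEq ι] [CommMonoid M]
    (τ : ι' → ι) (f : ι → M) :
    ∏ j, f (τ j) = ∏ i, f i ^ (Finset.univ.filter (fun j => τ j = i)).card := by
  rw [← Finset.prod_fiberwise' Finset.univ τ f]
  refine Finset.prod_congr rfl (fun i _ => ?_)
  rw [Finset.prod_const]

theorem exists_tau {ι' ι : Type*} [Fintype ι'] [Fintype ι] [DecidableEq ι] (p : ι → ℕ)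
    (hp : ∑ i, p i = Fintype.card ι') :
    ∃ τ : ι' → ι, ∀ i, (Finset.univ.filter (fun j => τ j = i)).card = p i := by
  classical
  have hc : Fintype.card ι' = Fintype.card (Σ i, Fin (p i)) := by
    rw [Fintype.card_sigma]; simp [hp]
  let e : ι' ≃ Σ i, Fin (p i) := Fintype.equivOfCardEq hc
  refine ⟨fun j => (e j).1, fun i => ?_⟩
  have h1 : (Finset.univ.filter (fun j => (e j).1 = i)).card =
      Fintype.card {x : Σ i, Fin (p i) // x.1 = i} := by
    rw [← Fintype.card_subtype]
    exact Fintype.card_congr (e.subtypeEquiv (fun j => Iff.rfl))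
  rw [h1, Fintype.card_congr (Equiv.sigmaSubtype i), Fintype.card_fin]

end comb

end Groth.Agent.Lib.Helper16.PPBasis
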