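import Mathlib
import Groth.Prelude.Def_PP16
import Groth.Agent.S3820
import Groth.Agent.Lib.Helper16.DiffBC5
import Groth.Agent.Lib.Helper16.PPBasis1
import Groth.Agent.Lib.Helper16.PPBasis2

/-!
# monomial basis of principal parts of a differentially smooth algebra
-/

set_option autoImplicit false
set_option linter.unusedSectionVars false

universe u

namespace Groth.Agent.Lib.Helper16.PPBasis

open Groth.Agent.Lib.Helper23 Groth.Agent.S3820 PP16
open scoped TensorProduct

section indep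

variable (A B : Type u) [CommRing A] [CommRing B] [Algebra A B]
variable {ι : Type} [Fintype ι] [DecidableEq ι] (z : ι → B)

/-- polynomials over `B` as an algebra over `B ⊗ B` through multiplication -/
@[reducible] noncomputable def polyAlg : Algebra (B ⊗[A] B) (MvPolynomial ι B) :=
  ((algebraMap B (MvPolynomial ι B)).comp (mu A B)).toAlgebra

attribute [local instance] polyAlg

theorem algebraMap_polyAlg (r : B ⊗[A] B) :
    algebraMap (B ⊗[A] B) (MvPolynomial ι B) r = MvPolynomial.C (mu A B r) := rfl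

/-- the linear form sending `d z_i` to the variable `X_i` -/
noncomputable def LL (b : Module.Basis ι B Ω[B⁄A]) :
    (KaehlerDifferential.ideal A B).Cotangent →ₗ[B ⊗[A] B] MvPolynomial ι B :=
  { toFun := fun m => b.constr B (fun i => (MvPolynomial.X i : MvPolynomial ι B))
      ((Groth.Agent.Lib.Helper16.DiffBC.toCot A B).symm m)
    map_add' := fun x y => by rw [map_add, map_add]
    map_smul' := fun r m => by
      have h0 : r • m = mu A B r • m :=
        smul_eq A B r ((Groth.Agent.Lib.Helper16.DiffBC.toCot A B).symm m)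
      rw [RingHom.id_apply, h0, map_smul, map_smul, MvPolynomial.smul_eq_C_mul, Algebra.smul_def,
        algebraMap_polyAlg] }

theorem LL_zeta (b : Module.Basis ι B Ω[B⁄A])
    (hb : ∀ i, b i = KaehlerDifferential.D A B (z i)) (i : ι) :
    LL A B b ((KaehlerDifferential.ideal A B).toCotangent ⟨zeta A B z i, zeta_mem A B z i⟩) =
      MvPolynomial.X i := by
  have h1 : (Groth.Agent.Lib.Helper16.DiffBC.toCot A B).symm
      ((KaehlerDifferential.ideal A B).toCotangent ⟨zeta A B z i, zeta_mem A B z i⟩) = b i := by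
    rw [hb]; rfl
  show b.constr B (fun i => (MvPolynomial.X i : MvPolynomial ι B))
    ((Groth.Agent.Lib.Helper16.DiffBC.toCot A B).symm
      ((KaehlerDifferential.ideal A B).toCotangent ⟨zeta A B z i, zeta_mem A B z i⟩)) = _
  rw [h1, Module.Basis.constr_basis]

theorem prod_X_eq (p : ι → ℕ) :
    ∏ i, (MvPolynomial.X i : MvPolynomial ι B) ^ p i =
      MvPolynomial.monomial (Finsupp.equivFunOnFinite.symm p) 1 := by
  rw [MvPolynomial.monomial_eq, map_one, one_mul, Finsupp.prod_fintype]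
  · rfl
  · intro i; exact pow_zero _

theorem core (h : IsDiffSmooth A B) (b : Module.Basis ι B Ω[B⁄A])
    (hb : ∀ i, b i = KaehlerDifferential.D A B (z i))
    (ι' : Type u) [Fintype ι'] [Nonempty ι'] (s : Finset (ι → ℕ))
    (hs : ∀ p ∈ s, ∑ i, p i = Fintype.card ι') (c : (ι → ℕ) → B)
    (hX : ∑ p ∈ s, c p • zmon A B z p ∈ KaehlerDifferential.ideal A B ^ (Fintype.card ι' + 1)) :
    ∀ p ∈ s, c p = 0 := by
  classical
  have hτ : ∀ x : {p // p ∈ s}, ∃ τ : ι' → ι,
      ∀ i, (Finset.univ.filter (fun j => τ j = i)).card = x.1 i :=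
    fun x => exists_tau x.1 (hs x.1 x.2)
  choose τ hτ' using hτ
  have hmon : ∀ x : {p // p ∈ s}, ∏ j, zeta A B z (τ x j) = zmon A B z x.1 := by
    intro x
    rw [prod_comp_eq (τ x) (zeta A B z), zmon]
    exact Finset.prod_congr rfl (fun i _ => by rw [hτ' x i])
  let g : ι → ↥(KaehlerDifferential.ideal A B) := fun i => ⟨zeta A B z i, zeta_mem A B z i⟩
  let S : SymmetricPower (B ⊗[A] B) ι' (KaehlerDifferential.ideal A B).Cotangent :=
    ∑ x ∈ s.attach, (algebraMap B (B ⊗[A] B) (c x.1)) •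
      SymmetricPower.tprod (B ⊗[A] B)
        (fun j => (KaehlerDifferential.ideal A B).toCotangent (g (τ x j)))
  have hS : SymGr.can (B ⊗[A] B) (KaehlerDifferential.ideal A B) ι' S = 0 := by
    have hmem : ∀ x : {p // p ∈ s},
        zmon A B z x.1 ∈ KaehlerDifferential.ideal A B ^ Fintype.card ι' := fun x => by
      have := zmon_mem A B z x.1
      rwa [hs x.1 x.2] at this
    have e1 : ∀ x : {p // p ∈ s},
        PP16.zetaJ (B ⊗[A] B) (KaehlerDifferential.ideal A B) (fun j => g (τ x j)) =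
          Submodule.Quotient.mk ⟨zmon A B z x.1, hmem x⟩ := by
      intro x
      unfold PP16.zetaJ
      congr 1
      exact Subtype.ext (hmon x)
    have e0 : SymGr.can (B ⊗[A] B) (KaehlerDifferential.ideal A B) ι' S =
        ∑ x ∈ s.attach, algebraMap B (B ⊗[A] B) (c x.1) •
          PP16.zetaJ (B ⊗[A] B) (KaehlerDifferential.ideal A B) (fun j => g (τ x j)) := by
      simp only [S, map_sum, map_smul, SymGr.can_tprod]
    rw [e0, Finset.sum_congr rfl (fun x _ => by rw [e1 x])]
    have e2 : ∑ x ∈ s.attach, algebraMap B (B ⊗[A] B) (c x.1) •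
        (Submodule.Quotient.mk ⟨zmon A B z x.1, hmem x⟩ :
          grJ (B ⊗[A] B) (KaehlerDifferential.ideal A B) (Fintype.card ι')) =
        Submodule.Quotient.mk (∑ x ∈ s.attach, algebraMap B (B ⊗[A] B) (c x.1) •
          (⟨zmon A B z x.1, hmem x⟩ :
            ↥(KaehlerDifferential.ideal A B ^ Fintype.card ι'))) := by
      rw [← Submodule.mkQ_apply, map_sum]
      rfl
    rw [e2, Submodule.Quotient.mk_eq_zero, Submodule.mem_comap, map_sum]
    convert hX using 1
    rw [← Finset.sum_attach s (fun p => c p • zmon A B z p)]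
    refine Finset.sum_congr rfl (fun x _ => ?_)
    rw [map_smul, Submodule.subtype_apply, smul_eq_mul, Algebra.smul_def]
  have hS0 : S = 0 :=
    (Groth.Agent.Lib.Helper16.DiffBC.can_bijective_of_isDiffSmooth A B h ι').1
      (by rw [hS, map_zero])
  have hP := congrArg (SymPow.prodMap (R := B ⊗[A] B) (ι := ι') (T := MvPolynomial ι B)
    (LL A B b)) hS0
  simp only [S, map_sum, map_smul, SymPow.prodMap_tprod, map_zero] at hP
  have e3 : ∀ x : {p // p ∈ s}, algebraMap B (B ⊗[A] B) (c x.1) •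
      ∏ j, LL A B b ((KaehlerDifferential.ideal A B).toCotangent (g (τ x j))) =
      MvPolynomial.monomial (Finsupp.equivFunOnFinite.symm x.1) (c x.1) := by
    intro x
    have e4 : ∀ j, LL A B b ((KaehlerDifferential.ideal A B).toCotangent (g (τ x j))) =
        MvPolynomial.X (τ x j) := fun j => LL_zeta A B z b hb (τ x j)
    rw [Finset.prod_congr rfl (fun j _ => e4 j),
      prod_comp_eq (τ x) (fun i => (MvPolynomial.X i : MvPolynomial ι B)),
      Finset.prod_congr rfl (fun i _ => by rw [hτ' x i]), prod_X_eq, Algebra.smul_def,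
      algebraMap_polyAlg, mu_alg, MvPolynomial.C_mul_monomial, mul_one]
  rw [Finset.sum_congr rfl (fun x _ => e3 x),
    Finset.sum_attach s (fun p => MvPolynomial.monomial (Finsupp.equivFunOnFinite.symm p) (c p))]
    at hP
  intro p₀ hp₀
  have hc := congrArg (MvPolynomial.coeff (Finsupp.equivFunOnFinite.symm p₀)) hP
  rw [MvPolynomial.coeff_sum, MvPolynomial.coeff_zero] at hc
  rw [Finset.sum_eq_single p₀] at hc
  · rwa [MvPolynomial.coeff_monomial, if_pos rfl] at hc
  · intro p _ hne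
    rw [MvPolynomial.coeff_monomial, if_neg]
    intro heq
    exact hne (Finsupp.equivFunOnFinite.symm.injective heq)
  · intro hn; exact absurd hp₀ hn

theorem core0 (s : Finset (ι → ℕ)) (hs : ∀ p ∈ s, ∑ i, p i = 0) (c : (ι → ℕ) → B)
    (hX : ∑ p ∈ s, c p • zmon A B z p ∈ KaehlerDifferential.ideal A B ^ (0 + 1)) :
    ∀ p ∈ s, c p = 0 := by
  intro p₀ hp₀
  have h0 : ∀ p ∈ s, p = 0 := by
    intro p hp
    funext i
    exact (Finset.sum_eq_zero_iff.mp (hs p hp)) i (Finset.mem_univ i)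
  have hs' : s = {p₀} := by
    rw [Finset.eq_singleton_iff_unique_mem]
    exact ⟨hp₀, fun p hp => by rw [h0 p hp, h0 p₀ hp₀]⟩
  rw [hs', Finset.sum_singleton, zero_add, pow_one, h0 p₀ hp₀, mem_ideal_iff] at hX
  have h1 : zmon A B z (0 : ι → ℕ) = 1 := by simp [zmon]
  rw [h1, Algebra.smul_def, mul_one, mu_alg] at hX
  rw [h0 p₀ hp₀]; exact hX

theorem coreN (h : IsDiffSmooth A B) (b : Module.Basis ι B Ω[B⁄A])
    (hb : ∀ i, b i = KaehlerDifferential.D A B (z i)) (n : ℕ) (s : Finset (ι → ℕ))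
    (hs : ∀ p ∈ s, ∑ i, p i = n) (c : (ι → ℕ) → B)
    (hX : ∑ p ∈ s, c p • zmon A B z p ∈ KaehlerDifferential.ideal A B ^ (n + 1)) :
    ∀ p ∈ s, c p = 0 := by
  cases n with
  | zero => exact core0 A B z s hs c hX
  | succ n =>
    have hc : Fintype.card (ULift.{u} (Fin (n + 1))) = n + 1 := by simp
    refine core A B z h b hb (ULift.{u} (Fin (n + 1))) s ?_ c ?_
    · intro p hp; rw [hc]; exact hs p hp
    · rw [hc]; exact hX

theorem indep_aux (h : IsDiffSmooth A B) (b : Module.Basis ι B Ω[B⁄A])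
    (hb : ∀ i, b i = KaehlerDifferential.D A B (z i)) (m : ℕ) (s : Finset (ι → ℕ))
    (hs : ∀ p ∈ s, ∑ i, p i ≤ m) (c : (ι → ℕ) → B)
    (hX : ∑ p ∈ s, c p • zmon A B z p ∈ KaehlerDifferential.ideal A B ^ (m + 1)) :
    ∀ n, ∀ p ∈ s, ∑ i, p i = n → c p = 0 := by
  classical
  intro n
  induction n using Nat.strong_induction_on with
  | _ n ih =>
    intro p₀ hp₀ hn
    have hnm : n ≤ m := hn ▸ hs p₀ hp₀
    have hsplit := Finset.sum_filter_add_sum_filter_not s (fun p => ∑ i, p i = n)
      (fun p => c p • zmon A B z p)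
    have h2 : ∑ p ∈ s.filter (fun p => ¬ ∑ i, p i = n), c p • zmon A B z p ∈
        KaehlerDifferential.ideal A B ^ (n + 1) := by
      refine Ideal.sum_mem _ (fun p hp => ?_)
      rw [Finset.mem_filter] at hp
      rcases lt_or_gt_of_ne hp.2 with hlt | hgt
      · rw [ih _ hlt p hp.1 rfl, zero_smul]; exact Ideal.zero_mem _
      · rw [Algebra.smul_def]
        exact Ideal.mul_mem_left _ _ (Ideal.pow_le_pow_right hgt (zmon_mem A B z p))
    have h1 : ∑ p ∈ s.filter (fun p => ∑ i, p i = n), c p • zmon A B z p ∈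
        KaehlerDifferential.ideal A B ^ (n + 1) := by
      have h3 : ∑ p ∈ s, c p • zmon A B z p ∈ KaehlerDifferential.ideal A B ^ (n + 1) :=
        Ideal.pow_le_pow_right (by omega) hX
      rw [← hsplit] at h3
      exact (Ideal.add_mem_iff_left _ h2).mp h3
    exact coreN A B z h b hb n (s.filter _) (fun p hp => (Finset.mem_filter.mp hp).2) c h1 p₀
      (Finset.mem_filter.mpr ⟨hp₀, hn⟩)

/-- the family of monomials in the principal parts -/
noncomputable def vv (m : ℕ) (q : {p : ι → ℕ // ∑ i, p i ≤ m}) : P m A B :=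
  Ideal.Quotient.mkₐ B (KaehlerDifferential.ideal A B ^ (m + 1)) (zmon A B z q.1)

theorem vv_eq (m : ℕ) (q : {p : ι → ℕ // ∑ i, p i ≤ m}) :
    vv A B z m q = ∏ i, (dn m A B (z i) - algebraMap B (P m A B) (z i)) ^ (q.1 i) := by
  rw [vv, zmon, map_prod]
  refine Finset.prod_congr rfl (fun i _ => ?_)
  rw [map_pow, zeta, map_sub]
  rfl

theorem linearIndependent_vv (h : IsDiffSmooth A B) (b : Module.Basis ι B Ω[B⁄A])
    (hb : ∀ i, b i = KaehlerDifferential.D A B (z i)) (m : ℕ) :
    LinearIndependent B (vv A B z m) := by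
  classical
  rw [linearIndependent_iff']
  intro s g hsum q hq
  let c : (ι → ℕ) → B := fun p => if hp : ∑ i, p i ≤ m then g ⟨p, hp⟩ else 0
  have hc : ∀ q : {p : ι → ℕ // ∑ i, p i ≤ m}, c q.1 = g q := fun q => by
    simp only [c]; rw [dif_pos q.2]
  let s' : Finset (ι → ℕ) := s.map ⟨Subtype.val, Subtype.val_injective⟩
  have hs' : ∀ p ∈ s', ∑ i, p i ≤ m := by
    intro p hp
    obtain ⟨q, _, rfl⟩ := Finset.mem_map.mp hp
    exact q.2
  have hX : ∑ p ∈ s', c p • zmon A B z p ∈ KaehlerDifferential.ideal A B ^ (m + 1) := by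
    rw [Finset.sum_map]
    rw [← Ideal.Quotient.eq_zero_iff_mem, ← Ideal.Quotient.mkₐ_eq_mk B, map_sum, ← hsum]
    refine Finset.sum_congr rfl (fun q _ => ?_)
    rw [map_smul, Function.Embedding.coeFn_mk, hc q]
    rfl
  have := indep_aux A B z h b hb m s' hs' c hX (∑ i, q.1 i) q.1
    (Finset.mem_map.mpr ⟨q, hq, rfl⟩) rfl
  rwa [hc q] at this

theorem span_vv (hspan : Submodule.span B (Set.range fun i => KaehlerDifferential.D A B (z i)) = ⊤)
    (m : ℕ) : ⊤ ≤ Submodule.span B (Set.range (vv A B z m)) := by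
  intro y _
  obtain ⟨x, rfl⟩ := Ideal.Quotient.mkₐ_surjective B (KaehlerDifferential.ideal A B ^ (m + 1)) y
  obtain ⟨x₁, hx₁, x₂, hx₂, rfl⟩ := Submodule.mem_sup.mp (top_le_Full A B z hspan m
    (Submodule.mem_top : x ∈ ⊤))
  have h2 : Ideal.Quotient.mkₐ B (KaehlerDifferential.ideal A B ^ (m + 1)) x₂ = 0 := by
    rw [Ideal.Quotient.mkₐ_eq_mk, Ideal.Quotient.eq_zero_iff_mem]
    exact hx₂
  rw [map_add, h2, add_zero]
  have h3 : Submodule.map (Ideal.Quotient.mkₐ B (KaehlerDifferential.ideal A B ^ (m + 1))).toLinearMap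
      (Full A B z m) ≤ Submodule.span B (Set.range (vv A B z m)) := by
    rw [Full, Submodule.map_span, Submodule.span_le]
    rintro _ ⟨_, ⟨p, hp, rfl⟩, rfl⟩
    exact Submodule.subset_span ⟨⟨p, hp⟩, rfl⟩
  exact h3 ⟨x₁, hx₁, rfl⟩

theorem exists_basis (h : IsDiffSmooth A B) (b : Module.Basis ι B Ω[B⁄A])
    (hb : ∀ i, b i = KaehlerDifferential.D A B (z i)) (m : ℕ) :
    ∃ b' : Module.Basis {p : ι → ℕ // ∑ i, p i ≤ m} B (P m A B),
      ∀ p, b' p = ∏ i, (dn m A B (z i) - algebraMap B (P m A B) (z i)) ^ (p.1 i) := by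
  have hspan : Submodule.span B (Set.range fun i => KaehlerDifferential.D A B (z i)) = ⊤ := by
    have := b.span_eq
    rwa [show (⇑b : ι → Ω[B⁄A]) = fun i => KaehlerDifferential.D A B (z i) from funext hb] at this
  refine ⟨Module.Basis.mk (linearIndependent_vv A B z h b hb m) (span_vv A B z hspan m), fun p => ?_⟩
  rw [Module.Basis.mk_apply, vv_eq]

end indep

end Groth.Agent.Lib.Helper16.PPBasis
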