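import Mathlib
import Groth.Prelude.Def_PP16
import Groth.Agent.S3820
import Groth.Agent.Lib.Helper16.PPBasis3

/-!
# principal parts as truncated polynomial algebra; the case of a rational function field
-/

set_option autoImplicit false
set_option linter.unusedSectionVars false

universe u

namespace Groth.Agent.Lib.Helper16.PPBasis

open Groth.Agent.Lib.Helper23 Groth.Agent.S3820 PP16
open scoped TensorProduct

section aeval

variable (A B : Type u) [CommRing A] [CommRing B] [Algebra A B]
variable {ι : Type} [Fintype ι] [DecidableEq ι] (z : ι → B) (m : ℕ)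

/-- the element `d^m z_i - z_i` of the principal parts -/
noncomputable def zz (i : ι) : P m A B := dn m A B (z i) - algebraMap B (P m A B) (z i)

theorem mk_zmon_eq (p : ι → ℕ) :
    Ideal.Quotient.mkₐ B (KaehlerDifferential.ideal A B ^ (m + 1)) (zmon A B z p) =
      ∏ i, zz A B z m i ^ (p i) := by
  rw [zmon, map_prod]
  refine Finset.prod_congr rfl (fun i _ => ?_)
  rw [map_pow, zeta, map_sub]
  rfl

theorem prod_zz_eq_zero (p : ι → ℕ) (hp : m < ∑ i, p i) : ∏ i, zz A B z m i ^ (p i) = 0 := by
  rw [← mk_zmon_eq, Ideal.Quotient.mkₐ_eq_mk, Ideal.Quotient.eq_zero_iff_mem]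
  exact Ideal.pow_le_pow_right hp (zmon_mem A B z p)

theorem aeval_monomial_zz (s : ι →₀ ℕ) (c : B) :
    MvPolynomial.aeval (R := B) (S₁ := P m A B) (zz A B z m) (MvPolynomial.monomial s c) =
      c • ∏ i, zz A B z m i ^ (s i) := by
  rw [MvPolynomial.aeval_monomial, Finsupp.prod_fintype _ _ (fun i => pow_zero _), Algebra.smul_def]

variable (b' : Module.Basis {p : ι → ℕ // ∑ i, p i ≤ m} B (P m A B))
  (hb' : ∀ p, b' p = ∏ i, zz A B z m i ^ (p.1 i))

include hb' in
theorem repr_aeval (f : MvPolynomial ι B) (q : {p : ι → ℕ // ∑ i, p i ≤ m}) :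
    b'.repr (MvPolynomial.aeval (R := B) (S₁ := P m A B) (zz A B z m) f) q =
      f.coeff (Finsupp.equivFunOnFinite.symm q.1) := by
  classical
  induction f using MvPolynomial.induction_on' with
  | monomial s c =>
    rw [aeval_monomial_zz, MvPolynomial.coeff_monomial]
    by_cases hs : ∑ i, s i ≤ m
    · have h1 : ∏ i, zz A B z m i ^ (s i) = b' ⟨fun i => s i, hs⟩ := by rw [hb']
      rw [h1, map_smul, Module.Basis.repr_self, Finsupp.smul_apply, Finsupp.single_apply,
        smul_eq_mul]
      by_cases hq : s = Finsupp.equivFunOnFinite.symm q.1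
      · rw [if_pos hq, if_pos, mul_one]
        apply Subtype.ext
        funext i
        show s i = q.1 i
        rw [hq]; rfl
      · rw [if_neg hq, if_neg, mul_zero]
        intro heq
        apply hq
        ext i
        rw [← heq]; rfl
    · rw [prod_zz_eq_zero A B z m (fun i => s i) (by omega), smul_zero, map_zero,
        Finsupp.zero_apply, if_neg]
      intro heq
      apply hs
      rw [heq]
      exact q.2
  | add f g hf hg =>
    rw [map_add, map_add, Finsupp.add_apply, hf, hg, MvPolynomial.coeff_add]

include hb' in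
theorem aeval_surjective :
    Function.Surjective (MvPolynomial.aeval (R := B) (S₁ := P m A B) (zz A B z m)) := by
  intro y
  have h1 : Submodule.span B (Set.range b') ≤
      LinearMap.range (MvPolynomial.aeval (R := B) (S₁ := P m A B) (zz A B z m)).toLinearMap := by
    rw [Submodule.span_le]
    rintro _ ⟨q, rfl⟩
    refine ⟨MvPolynomial.monomial (Finsupp.equivFunOnFinite.symm q.1) 1, ?_⟩
    rw [AlgHom.toLinearMap_apply, aeval_monomial_zz, one_smul, hb']
    rfl
  have h2 : y ∈ Submodule.span B (Set.range b') := by rw [b'.span_eq]; trivial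
  obtain ⟨f, hf⟩ := h1 h2
  exact ⟨f, hf⟩

include hb' in
theorem ker_aeval :
    RingHom.ker (MvPolynomial.aeval (R := B) (S₁ := P m A B) (zz A B z m)).toRingHom =
      (Ideal.span (Set.range (MvPolynomial.X : ι → MvPolynomial ι B))) ^ (m + 1) := by
  classical
  ext f
  rw [RingHom.mem_ker]
  show MvPolynomial.aeval (R := B) (S₁ := P m A B) (zz A B z m) f = 0 ↔
    f ∈ MvPolynomial.idealOfVars ι B ^ (m + 1)
  rw [MvPolynomial.mem_pow_idealOfVars_iff']
  constructor
  · intro hf s hs
    have hs' : ∑ i, s i ≤ m := by
      rw [Finsupp.degree_eq_sum] at hs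
      omega
    have := repr_aeval A B z m b' hb' f ⟨fun i => s i, hs'⟩
    rw [hf, map_zero, Finsupp.zero_apply] at this
    rw [this]
    congr 1
    ext i
    rfl
  · intro hf
    apply b'.repr.injective
    ext q
    rw [repr_aeval A B z m b' hb', map_zero, Finsupp.zero_apply]
    apply hf
    rw [Finsupp.degree_eq_sum]
    have := q.2
    simp only [Finsupp.equivFunOnFinite_symm_apply_apply]
    omega

end aeval

section frac

variable (k : Type u) [Field k] (r : ℕ)

theorem isDiffSmooth_frac :
    IsDiffSmooth k (FractionRing (MvPolynomial (Fin r) k)) := by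
  have : Algebra.FormallySmooth (MvPolynomial (Fin r) k)
      (FractionRing (MvPolynomial (Fin r) k)) :=
    Algebra.FormallySmooth.of_isLocalization (nonZeroDivisors (MvPolynomial (Fin r) k))
  have : Algebra.FormallySmooth k (FractionRing (MvPolynomial (Fin r) k)) :=
    Algebra.FormallySmooth.comp k (MvPolynomial (Fin r) k) _
  exact Groth.Agent.S3820.result k (FractionRing (MvPolynomial (Fin r) k))

theorem exists_basis_frac :
    ∃ b : Module.Basis (Fin r) (FractionRing (MvPolynomial (Fin r) k))
        (Ω[FractionRing (MvPolynomial (Fin r) k)⁄k]),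
      ∀ i, b i = KaehlerDifferential.D k (FractionRing (MvPolynomial (Fin r) k))
        (algebraMap (MvPolynomial (Fin r) k) (FractionRing (MvPolynomial (Fin r) k))
          (MvPolynomial.X i)) := by
  have : Algebra.FormallyEtale (MvPolynomial (Fin r) k)
      (FractionRing (MvPolynomial (Fin r) k)) :=
    Algebra.FormallyEtale.of_isLocalization (nonZeroDivisors (MvPolynomial (Fin r) k))
  refine ⟨((KaehlerDifferential.mvPolynomialBasis k (Fin r)).baseChange
    (FractionRing (MvPolynomial (Fin r) k))).map
      (KaehlerDifferential.tensorKaehlerEquivOfFormallyEtale k (MvPolynomial (Fin r) k)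
        (FractionRing (MvPolynomial (Fin r) k))), fun i => ?_⟩
  rw [Module.Basis.map_apply, Module.Basis.baseChange_apply,
    KaehlerDifferential.tensorKaehlerEquivOfFormallyEtale_apply,
    KaehlerDifferential.mapBaseChange_tmul, one_smul, KaehlerDifferential.mvPolynomialBasis_apply,
    KaehlerDifferential.map_D]

theorem frac_main (n : ℕ) :
    Function.Surjective (MvPolynomial.aeval (R := FractionRing (MvPolynomial (Fin r) k))
      (S₁ := P n k (FractionRing (MvPolynomial (Fin r) k)))
      (zz k (FractionRing (MvPolynomial (Fin r) k))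
        (fun i : Fin r => algebraMap (MvPolynomial (Fin r) k)
          (FractionRing (MvPolynomial (Fin r) k)) (MvPolynomial.X i)) n)) ∧
    RingHom.ker (MvPolynomial.aeval (R := FractionRing (MvPolynomial (Fin r) k))
      (S₁ := P n k (FractionRing (MvPolynomial (Fin r) k)))
      (zz k (FractionRing (MvPolynomial (Fin r) k))
        (fun i : Fin r => algebraMap (MvPolynomial (Fin r) k)
          (FractionRing (MvPolynomial (Fin r) k)) (MvPolynomial.X i)) n)).toRingHom =
      (Ideal.span (Set.range (MvPolynomial.X :
        Fin r → MvPolynomial (Fin r) (FractionRing (MvPolynomial (Fin r) k))))) ^ (n + 1) := by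
  obtain ⟨b, hb⟩ := exists_basis_frac k r
  obtain ⟨b', hb'⟩ := exists_basis k (FractionRing (MvPolynomial (Fin r) k))
    (fun i : Fin r => algebraMap (MvPolynomial (Fin r) k)
      (FractionRing (MvPolynomial (Fin r) k)) (MvPolynomial.X i)) (isDiffSmooth_frac k r) b hb n
  exact ⟨aeval_surjective _ _ _ n b' hb', ker_aeval _ _ _ n b' hb'⟩

end frac

end Groth.Agent.Lib.Helper16.PPBasis
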