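import Mathlib
import Groth.Prelude.Def_PP16
import Groth.Prelude.Def_DiffOp
import Groth.Agent.S3820
import Groth.Agent.Lib.Helper16.PPBasis4
import Groth.Agent.Lib.Helper5.DiffOp

/-!
# divided power operators from the monomial basis of principal parts
-/

set_option autoImplicit false
set_option linter.unusedSectionVars false

universe u

namespace Groth.Agent.Lib.Helper16.PPBasis

open Groth.Agent.Lib.Helper23 Groth.Agent.S3820 PP16 Groth.Agent.Lib.Helper5.DiffOp
open scoped TensorProduct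

section poly

variable {B : Type u} [CommRing B] {ι : Type} [Fintype ι] [DecidableEq ι]

/-- coefficients of `∏ (X_i + z_i)^(q_i)` -/
theorem coeff_prod_add_pow (z : ι → B) (q p : ι → ℕ) :
    (∏ i, ((MvPolynomial.X i : MvPolynomial ι B) + MvPolynomial.C (z i)) ^ q i).coeff
      (Finsupp.equivFunOnFinite.symm p) =
      ((∏ i, Nat.choose (q i) (p i) : ℕ) : B) * ∏ i, z i ^ (q i - p i) := by
  classical
  have h1 : ∀ i, ((MvPolynomial.X i : MvPolynomial ι B) + MvPolynomial.C (z i)) ^ q i =
      ∑ j ∈ Finset.range (q i + 1),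
        MvPolynomial.monomial (Finsupp.single i j) (z i ^ (q i - j) * (Nat.choose (q i) j : B)) := by
    intro i
    rw [add_pow]
    refine Finset.sum_congr rfl (fun j _ => ?_)
    rw [MvPolynomial.X_pow_eq_monomial, ← map_pow, ← map_natCast (MvPolynomial.C (σ := ι) (R := B)),
      mul_assoc, ← map_mul, mul_comm, MvPolynomial.C_mul_monomial, mul_one]
  rw [Finset.prod_congr rfl (fun i _ => h1 i), Finset.prod_univ_sum, MvPolynomial.coeff_sum]
  have h2 : ∀ J : ι → ℕ, (∏ i, MvPolynomial.monomial (Finsupp.single i (J i))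
      (z i ^ (q i - J i) * (Nat.choose (q i) (J i) : B)) : MvPolynomial ι B) =
      MvPolynomial.monomial (Finsupp.equivFunOnFinite.symm J)
        (∏ i, (z i ^ (q i - J i) * (Nat.choose (q i) (J i) : B))) := by
    intro J
    rw [MvPolynomial.monomial_eq (s := Finsupp.equivFunOnFinite.symm J),
      Finsupp.prod_fintype _ _ (fun i => pow_zero _), map_prod, ← Finset.prod_mul_distrib]
    refine Finset.prod_congr rfl (fun i _ => ?_)
    rw [MvPolynomial.monomial_eq, Finsupp.prod_single_index (by exact pow_zero _)]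
    rfl
  rw [Finset.sum_congr rfl (fun J _ => by rw [h2 J, MvPolynomial.coeff_monomial])]
  have h3 : ∀ J : ι → ℕ, (Finsupp.equivFunOnFinite.symm J = Finsupp.equivFunOnFinite.symm p) ↔
      J = p := fun J => Finsupp.equivFunOnFinite.symm.injective.eq_iff
  simp only [h3]
  rw [Finset.sum_ite_eq' ]
  split_ifs with hp
  · rw [Finset.prod_mul_distrib, mul_comm, Nat.cast_prod]
  · rw [Fintype.mem_piFinset] at hp
    push Not at hp
    obtain ⟨i, hi⟩ := hp
    rw [Finset.mem_range] at hi
    have h4 : Nat.choose (q i) (p i) = 0 := Nat.choose_eq_zero_of_lt (by omega)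
    rw [Finset.prod_eq_zero (Finset.mem_univ i) h4, Nat.cast_zero, zero_mul]

end poly

section ab

variable (A B : Type u) [CommRing A] [CommRing B] [Algebra A B]
variable {ι : Type} [Fintype ι] [DecidableEq ι] (z : ι → B) (m : ℕ)

/-- a `B`-linear form on the principal parts gives a differential operator -/
noncomputable def opOf (u : P m A B →ₗ[B] B) : B →ₗ[A] B :=
  (u.restrictScalars A) ∘ₗ (dn m A B).toLinearMap

theorem opOf_apply (u : P m A B →ₗ[B] B) (c : B) : opOf A B m u c = u (dn m A B c) := rfl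

theorem linearize_opOf (u : P m A B →ₗ[B] B) (x : B ⊗[A] B) :
    Diff16.linearize A B B B (opOf A B m u) x =
      u (Ideal.Quotient.mkₐ B (KaehlerDifferential.ideal A B ^ (m + 1)) x) := by
  induction x using TensorProduct.induction_on with
  | zero => simp
  | tmul b c =>
    have h1 : (b ⊗ₜ[A] c : B ⊗[A] B) = b • ((1 : B) ⊗ₜ[A] c) := by
      rw [TensorProduct.smul_tmul', smul_eq_mul, mul_one]
    have h2 : Diff16.linearize A B B B (opOf A B m u) (b ⊗ₜ[A] c) = b • opOf A B m u c := by
      simp [Diff16.linearize]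
    rw [h2, h1, map_smul, map_smul, opOf_apply]
    rfl
  | add x y hx hy => rw [map_add, map_add, map_add, hx, hy]

theorem isDiffOpLE_opOf (u : P m A B →ₗ[B] B) : Diff16.IsDiffOpLE A B B B m (opOf A B m u) := by
  rw [isDiffOpLE_iff_linearize]
  intro x hx
  rw [linearize_opOf, Ideal.Quotient.mkₐ_eq_mk, Ideal.Quotient.eq_zero_iff_mem.mpr hx, map_zero]

theorem dn_mon (q : ι → ℕ) :
    dn m A B (∏ i, z i ^ q i) = MvPolynomial.aeval (R := B) (S₁ := P m A B) (zz A B z m)
      (∏ i, ((MvPolynomial.X i : MvPolynomial ι B) + MvPolynomial.C (z i)) ^ q i) := by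
  rw [map_prod, map_prod]
  refine Finset.prod_congr rfl (fun i _ => ?_)
  rw [map_pow, map_pow, map_add, MvPolynomial.aeval_X, MvPolynomial.aeval_C, zz, sub_add_cancel]

theorem exists_ops (h : IsDiffSmooth A B) (b : Module.Basis ι B Ω[B⁄A])
    (hb : ∀ i, b i = KaehlerDifferential.D A B (z i)) :
    ∃ Dp : (ι → ℕ) → (B →ₗ[A] B),
      (∀ p, ∃ k : ℕ, Diff16.IsDiffOpLE A B B B k (Dp p)) ∧
      ∀ p q : ι → ℕ, Dp p (∏ i, z i ^ q i) =
        ((∏ i, Nat.choose (q i) (p i) : ℕ) : B) * ∏ i, z i ^ (q i - p i) := by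
  have hex : ∀ m : ℕ, ∃ b' : Module.Basis {p : ι → ℕ // ∑ i, p i ≤ m} B (P m A B),
      ∀ p, b' p = ∏ i, zz A B z m i ^ (p.1 i) := fun m => exists_basis A B z h b hb m
  choose b' hb' using hex
  refine ⟨fun p => opOf A B (∑ i, p i) ((b' (∑ i, p i)).coord ⟨p, le_rfl⟩), fun p => ⟨_, isDiffOpLE_opOf A B _ _⟩,
    fun p q => ?_⟩
  rw [opOf_apply, dn_mon, Module.Basis.coord_apply,
    repr_aeval A B z _ (b' (∑ i, p i)) (hb' _), coeff_prod_add_pow]

end ab

end Groth.Agent.Lib.Helper16.PPBasis
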