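import Mathlib
import Groth.Prelude.Def_PP16
import Groth.Prelude.Def_DiffOp
import Groth.Agent.S3820
import Groth.Agent.Lib.Helper16.PPBasis5
import Groth.Agent.Lib.Helper5.DiffOp
import Groth.Agent.Lib.Helper17.DivPowOps

/-!
# differential smoothness from divided power operators
-/

set_option autoImplicit false
set_option linter.unusedSectionVars false

universe u

namespace Groth.Agent.Lib.Helper16.PPBasis

open Groth.Agent.Lib.Helper23 Groth.Agent.S3820 PP16 Groth.Agent.Lib.Helper5.DiffOp
open scoped TensorProduct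

section ba

variable (A B : Type u) [CommRing A] [CommRing B] [Algebra A B]
variable {ι : Type} [Fintype ι] [DecidableEq ι] (z : ι → B)
variable (hz : Submodule.span B (Set.range fun i => KaehlerDifferential.D A B (z i)) = ⊤)
variable (Dp : (ι → ℕ) → (B →ₗ[A] B)) (hD : ∀ p, ∃ k : ℕ, Diff16.IsDiffOpLE A B B B k (Dp p))
  (hDz : ∀ p q : ι → ℕ, Dp p (∏ i, z i ^ q i) =
    ((∏ i, Nat.choose (q i) (p i) : ℕ) : B) * ∏ i, z i ^ (q i - p i))

include hz hD hDz

theorem act_zeta (p : ι → ℕ) (i : ι) :
    act A B B B (zeta A B z i) (Dp p) =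
      if p i = 0 then 0 else Dp (Function.update p i (p i - 1)) := by
  have h := Groth.Agent.Lib.Helper17.DivPowOps.commutator_eq (z := z) Dp
    (fun p q => hDz p q) hz hD p i
  rw [← h]
  exact act_δ A B B B (z i) (Dp p)

theorem order_le' (p : ι → ℕ) : Diff16.IsDiffOpLE A B B B (∑ i, p i) (Dp p) :=
  Groth.Agent.Lib.Helper17.DivPowOps.order_le (z := z) Dp (fun p q => hDz p q) hz hD p

open Classical in
theorem act_zmon (n : ℕ) : ∀ q : ι → ℕ, ∑ i, q i = n → ∀ p : ι → ℕ,
    act A B B B (zmon A B z q) (Dp p) = if q ≤ p then Dp (p - q) else 0 := by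
  classical
  induction n with
  | zero =>
    intro q hq p
    have hq0 : q = 0 := by
      funext i
      exact (Finset.sum_eq_zero_iff.mp hq) i (Finset.mem_univ i)
    subst hq0
    have h1 : zmon A B z (0 : ι → ℕ) = 1 := by simp [zmon]
    rw [h1, map_one, Module.End.one_apply, if_pos (show (0 : ι → ℕ) ≤ p from fun i => Nat.zero_le _), tsub_zero]
  | succ n ih =>
    intro q hq p
    have hex : ∃ i, q i ≠ 0 := by
      by_contra hcon
      push Not at hcon
      rw [Finset.sum_eq_zero (fun i _ => hcon i)] at hq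
      omega
    obtain ⟨i, hi⟩ := hex
    have hqq : q = Function.update q i (q i - 1) + Pi.single i 1 := by
      funext j
      by_cases hj : j = i
      · subst hj; simp only [Pi.add_apply, Function.update_self, Pi.single_eq_same]; omega
      · simp [hj]
    have hsum : ∑ j, Function.update q i (q i - 1) j = n := by
      have h1 := sum_add_single (Function.update q i (q i - 1)) i
      have h1' : ∑ j, q j = ∑ j, (Function.update q i (q i - 1) + Pi.single i 1 : ι → ℕ) j :=
        congrArg (fun f : ι → ℕ => ∑ j, f j) hqq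
      rw [hq, h1] at h1'
      omega
    have h2 : zmon A B z q = zeta A B z i * zmon A B z (Function.update q i (q i - 1)) := by
      rw [zmon_single_add, ← hqq]
    rw [h2, act_mul', act_zeta A B z hz Dp hD hDz p i]
    by_cases hpi : p i = 0
    · rw [if_pos hpi, map_zero, if_neg]
      intro hle
      have : q i ≤ p i := hle i
      omega
    · rw [if_neg hpi, ih _ hsum]
      have hiff : Function.update q i (q i - 1) ≤ Function.update p i (p i - 1) ↔ q ≤ p := by
        constructor
        · intro h j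
          have := h j
          show q j ≤ p j
          by_cases hj : j = i
          · subst hj
            simp only [Function.update_self] at this
            omega
          · simpa [hj] using this
        · intro h j
          have := h j
          show Function.update q i (q i - 1) j ≤ Function.update p i (p i - 1) j
          by_cases hj : j = i
          · subst hj
            simp only [Function.update_self]
            have : q j ≤ p j := this
            omega
          · simpa [hj] using this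
      have hsub : Function.update p i (p i - 1) - Function.update q i (q i - 1) = p - q := by
        funext j
        by_cases hj : j = i
        · subst hj
          simp only [Pi.sub_apply, Function.update_self]
          omega
        · simp [hj]
      by_cases hle : q ≤ p
      · rw [if_pos (hiff.mpr hle), if_pos hle, hsub]
      · rw [if_neg (fun h => hle (hiff.mp h)), if_neg hle]

theorem indep_of_ops (n : ℕ) (s : Finset (ι → ℕ)) (hs : ∀ p ∈ s, ∑ i, p i = n)
    (c : (ι → ℕ) → B)
    (hX : ∑ p ∈ s, c p • zmon A B z p ∈ KaehlerDifferential.ideal A B ^ (n + 1)) :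
    ∀ p ∈ s, c p = 0 := by
  classical
  intro p₀ hp₀
  have h1 := order_le' A B z hz Dp hD hDz p₀
  rw [hs p₀ hp₀, isDiffOpLE_iff_pow_le] at h1
  have h2 : act A B B B (∑ p ∈ s, c p • zmon A B z p) (Dp p₀) = 0 := h1 hX
  have h3 := congrArg (fun f => f 1) h2
  simp only [map_sum, LinearMap.sum_apply, LinearMap.zero_apply] at h3
  have h4 : ∀ p ∈ s, act A B B B (c p • zmon A B z p) (Dp p₀) 1 =
      if p = p₀ then c p else 0 := by
    intro p hp
    have e1 : c p • zmon A B z p = (c p ⊗ₜ[A] (1 : B)) * zmon A B z p := by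
      rw [Algebra.smul_def]; rfl
    rw [e1, act_mul, act_tmul, one_smul, act_zmon A B z hz Dp hD hDz _ p (hs p hp) p₀]
    by_cases hpp : p = p₀
    · subst hpp
      rw [if_pos (le_refl p), if_pos rfl, tsub_self]
      have := hDz 0 0
      simp at this
      rw [this, smul_eq_mul, mul_one]
    · rw [if_neg hpp, if_neg, LinearMap.zero_apply, smul_zero]
      intro hle
      apply hpp
      have hsum : ∑ i, p i = ∑ i, p₀ i := by rw [hs p hp, hs p₀ hp₀]
      funext i
      exact (Finset.sum_eq_sum_iff_of_le (fun i _ => hle i)).mp hsum i (Finset.mem_univ i)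
  rw [Finset.sum_congr rfl h4, Finset.sum_ite_eq' s p₀, if_pos hp₀] at h3
  exact h3

end ba

section generic

variable (A B : Type u) [CommRing A] [CommRing B] [Algebra A B]
variable {ι : Type} [Fintype ι] [DecidableEq ι] (z : ι → B)
variable (hz : Submodule.span B (Set.range fun i => KaehlerDifferential.D A B (z i)) = ⊤)

/-- the independence hypothesis on monomials of a fixed degree -/
def Indep : Prop :=
  ∀ (n : ℕ) (s : Finset (ι → ℕ)), (∀ p ∈ s, ∑ i, p i = n) → ∀ c : (ι → ℕ) → B,
    ∑ p ∈ s, c p • zmon A B z p ∈ KaehlerDifferential.ideal A B ^ (n + 1) → ∀ p ∈ s, c p = 0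

theorem zmon_single (j : ι) : zmon A B z (Pi.single j 1) = zeta A B z j := by
  have h := zmon_single_add A B z 0 j
  have h1 : zmon A B z (0 : ι → ℕ) = 1 := by simp [zmon]
  rw [h1, mul_one, zero_add] at h
  exact h.symm

variable (H : Indep A B z)

include H in
theorem linearIndependent_D :
    LinearIndependent B (fun i => KaehlerDifferential.D A B (z i)) := by
  classical
  rw [Fintype.linearIndependent_iff]
  intro g hg i₀
  have h2 : ∀ i, g i • KaehlerDifferential.D A B (z i) =
      KaehlerDifferential.fromIdeal A B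
        (algebraMap B (B ⊗[A] B) (g i) • ⟨zeta A B z i, zeta_mem A B z i⟩) := by
    intro i
    rw [map_smul, algebraMap_smul]
    rfl
  rw [Finset.sum_congr rfl (fun i _ => h2 i), ← map_sum] at hg
  have h3 := (Ideal.toCotangent_eq_zero _ _).mp hg
  have h4 : ((∑ i, algebraMap B (B ⊗[A] B) (g i) •
      (⟨zeta A B z i, zeta_mem A B z i⟩ : ↥(KaehlerDifferential.ideal A B)) :
        ↥(KaehlerDifferential.ideal A B)) : B ⊗[A] B) = ∑ i, g i • zeta A B z i := by
    rw [Submodule.coe_sum]
    refine Finset.sum_congr rfl (fun i _ => ?_)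
    rw [Submodule.coe_smul, smul_eq_mul, Algebra.smul_def]
  rw [h4] at h3
  let c : (ι → ℕ) → B := fun p => ∑ i, (p i) • g i
  have hc : ∀ j, c (Pi.single j 1) = g j := by
    intro j
    simp only [c]
    rw [Finset.sum_eq_single j]
    · rw [Pi.single_eq_same, one_smul]
    · intro i _ hij
      rw [Pi.single_eq_of_ne hij, zero_smul]
    · intro h; exact absurd (Finset.mem_univ j) h
  have hinj : Function.Injective (fun j : ι => (Pi.single j 1 : ι → ℕ)) := by
    intro j j' hjj
    by_contra hne
    have := congrFun hjj j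
    simp only [Pi.single_eq_same] at this
    rw [Pi.single_eq_of_ne hne] at this
    exact one_ne_zero this
  have hX : ∑ p ∈ Finset.univ.image (fun j : ι => (Pi.single j 1 : ι → ℕ)),
      c p • zmon A B z p ∈ KaehlerDifferential.ideal A B ^ (1 + 1) := by
    rw [Finset.sum_image (fun j _ j' _ h => hinj h)]
    rw [Finset.sum_congr rfl (fun j _ => by rw [hc j, zmon_single])]
    exact h3
  have := H 1 _ (by
    intro p hp
    obtain ⟨j, _, rfl⟩ := Finset.mem_image.mp hp
    simp) c hX (Pi.single i₀ 1) (Finset.mem_image.mpr ⟨i₀, Finset.mem_univ _, rfl⟩)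
  rwa [hc] at this

include H in
theorem indep_finsupp (n : ℕ) (S : Finset (ι →₀ ℕ)) (hS : ∀ m ∈ S, ∑ i, m i = n)
    (c : (ι →₀ ℕ) → B)
    (hX : ∑ m ∈ S, c m • zmon A B z (⇑m) ∈ KaehlerDifferential.ideal A B ^ (n + 1)) :
    ∀ m ∈ S, c m = 0 := by
  classical
  intro m hm
  have hinj : Function.Injective (fun m : ι →₀ ℕ => (⇑m : ι → ℕ)) := DFunLike.coe_injective
  have hcc : ∀ m : ι →₀ ℕ, c (Finsupp.equivFunOnFinite.symm (⇑m)) = c m := by
    intro m
    congr 1
    ext i
    rfl
  have := H n (S.image (fun m : ι →₀ ℕ => (⇑m : ι → ℕ))) (by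
    intro p hp
    obtain ⟨m, hm, rfl⟩ := Finset.mem_image.mp hp
    exact hS m hm) (fun p => c (Finsupp.equivFunOnFinite.symm p)) (by
    rw [Finset.sum_image (fun j _ j' _ h => hinj h)]
    rw [Finset.sum_congr rfl (fun m _ => by rw [hcc m])]
    exact hX) (⇑m) (Finset.mem_image.mpr ⟨m, hm, rfl⟩)
  rwa [hcc] at this

include hz in
theorem span_range_g :
    Submodule.span (B ⊗[A] B) (Set.range (fun i : ι =>
      (KaehlerDifferential.ideal A B).toCotangent ⟨zeta A B z i, zeta_mem A B z i⟩)) = ⊤ := by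
  rw [eq_top_iff]
  rintro m -
  obtain ⟨⟨x, hx⟩, rfl⟩ := (KaehlerDifferential.ideal A B).toCotangent_surjective m
  obtain ⟨β, hβ⟩ := exists_sub_mem_sq A B z hz x hx
  have h4 : ((∑ i, algebraMap B (B ⊗[A] B) (β i) •
      (⟨zeta A B z i, zeta_mem A B z i⟩ : ↥(KaehlerDifferential.ideal A B)) :
        ↥(KaehlerDifferential.ideal A B)) : B ⊗[A] B) = ∑ i, β i • zeta A B z i := by
    rw [Submodule.coe_sum]
    refine Finset.sum_congr rfl (fun i _ => ?_)
    rw [Submodule.coe_smul, smul_eq_mul, Algebra.smul_def]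
  have h5 : (KaehlerDifferential.ideal A B).toCotangent ⟨x, hx⟩ =
      (KaehlerDifferential.ideal A B).toCotangent (∑ i, algebraMap B (B ⊗[A] B) (β i) •
        (⟨zeta A B z i, zeta_mem A B z i⟩ : ↥(KaehlerDifferential.ideal A B))) := by
    rw [Ideal.toCotangent_eq, h4]
    exact hβ
  rw [h5, map_sum]
  refine Submodule.sum_mem _ (fun i _ => ?_)
  rw [map_smul]
  exact Submodule.smul_mem _ _ (Submodule.subset_span ⟨i, rfl⟩)

include hz H in
theorem can_injective_of_indep (ι' : Type u) [Fintype ι'] [Nonempty ι'] :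
    Function.Injective (SymGr.can (B ⊗[A] B) (KaehlerDifferential.ideal A B) ι') := by
  classical
  rw [injective_iff_map_eq_zero]
  intro x hx
  let gg : ι → ↥(KaehlerDifferential.ideal A B) := fun i => ⟨zeta A B z i, zeta_mem A B z i⟩
  let g : ι → (KaehlerDifferential.ideal A B).Cotangent :=
    fun i => (KaehlerDifferential.ideal A B).toCotangent (gg i)
  let T : Submodule (B ⊗[A] B)
      (SymmetricPower (B ⊗[A] B) ι' (KaehlerDifferential.ideal A B).Cotangent) :=
    Submodule.span (B ⊗[A] B) (Set.range (fun τ : ι' → ι =>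
      SymmetricPower.tprod (B ⊗[A] B) (fun j => g (τ j))))
  have hT : ∀ p : ι' → (KaehlerDifferential.ideal A B).Cotangent,
      SymmetricPower.tprod (B ⊗[A] B) p ∈ T := by
    apply Groth.Agent.Lib.Helper16.DiffBC.multilinear_mem_of_span
      (SymmetricPower.tprod (B ⊗[A] B)) (Set.range g) (span_range_g A B z hz) T
    intro p hp
    choose τ hτ using hp
    have : p = fun j => g (τ j) := funext (fun j => (hτ j).symm)
    rw [this]
    exact Submodule.subset_span ⟨τ, rfl⟩
  have hall : ∀ y : SymmetricPower (B ⊗[A] B) ι' (KaehlerDifferential.ideal A B).Cotangent,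
      y ∈ T := by
    intro y
    induction y using SymPow.induction_on with
    | tprod r p => exact Submodule.smul_mem _ _ (hT p)
    | add a b ha hb => exact Submodule.add_mem _ ha hb
  obtain ⟨r, hr⟩ := (Submodule.mem_span_range_iff_exists_fun (B ⊗[A] B)).mp (hall x)
  -- reduce the coefficients to `B`
  have hred : ∀ (a : B ⊗[A] B)
      (y : SymmetricPower (B ⊗[A] B) ι' (KaehlerDifferential.ideal A B).Cotangent),
      a • y = algebraMap B (B ⊗[A] B) (mu A B a) • y := by
    intro a y
    have h0 := SymPow.smul_eq_zero_of_forall (ι := ι') (a - algebraMap B (B ⊗[A] B) (mu A B a))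
      (fun m : (KaehlerDifferential.ideal A B).Cotangent =>
        Ideal.Cotangent.smul_eq_zero_of_mem (sub_mem A B a) m) y
    rw [sub_smul, sub_eq_zero] at h0
    exact h0
  let bb : (ι' → ι) → B := fun τ => mu A B (r τ)
  have hx1 : x = ∑ τ : ι' → ι, algebraMap B (B ⊗[A] B) (bb τ) •
      SymPoly.nm (R := B ⊗[A] B) (ι := ι') g (SymPoly.cnt τ) := by
    rw [← hr]
    refine Finset.sum_congr rfl (fun τ _ => ?_)
    rw [hred, SymPoly.nm_cnt]
  -- the value of `can`
  have hmon : ∀ τ : ι' → ι, ∏ j, zeta A B z (τ j) = zmon A B z (⇑(SymPoly.cnt τ)) := by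
    intro τ
    rw [prod_comp_eq τ (zeta A B z), zmon]
    exact Finset.prod_congr rfl (fun i _ => by rw [SymPoly.cnt_apply])
  have hdeg : ∀ τ : ι' → ι, ∑ i, (SymPoly.cnt τ) i = Fintype.card ι' := by
    intro τ
    rw [← SymPoly.degree_cnt τ, Finsupp.degree_eq_sum]
  have hmem : ∀ τ : ι' → ι, zmon A B z (⇑(SymPoly.cnt τ)) ∈
      KaehlerDifferential.ideal A B ^ Fintype.card ι' := fun τ => by
    have := zmon_mem A B z (⇑(SymPoly.cnt τ))
    rwa [hdeg τ] at this
  have e1 : ∀ τ : ι' → ι,
      PP16.zetaJ (B ⊗[A] B) (KaehlerDifferential.ideal A B) (fun j => gg (τ j)) =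
        Submodule.Quotient.mk ⟨zmon A B z (⇑(SymPoly.cnt τ)), hmem τ⟩ := by
    intro τ
    unfold PP16.zetaJ
    congr 1
    exact Subtype.ext (hmon τ)
  have e0 : SymGr.can (B ⊗[A] B) (KaehlerDifferential.ideal A B) ι' x =
      ∑ τ : ι' → ι, algebraMap B (B ⊗[A] B) (bb τ) •
        PP16.zetaJ (B ⊗[A] B) (KaehlerDifferential.ideal A B) (fun j => gg (τ j)) := by
    conv_lhs => rw [← hr]
    rw [map_sum]
    refine Finset.sum_congr rfl (fun τ _ => ?_)
    rw [hred, map_smul]
    congr 1
    exact SymGr.can_tprod (B ⊗[A] B) (KaehlerDifferential.ideal A B) ι' (fun j => gg (τ j))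
  rw [e0, Finset.sum_congr rfl (fun τ _ => by rw [e1 τ])] at hx
  have e2 : ∑ τ : ι' → ι, algebraMap B (B ⊗[A] B) (bb τ) •
      (Submodule.Quotient.mk ⟨zmon A B z (⇑(SymPoly.cnt τ)), hmem τ⟩ :
        grJ (B ⊗[A] B) (KaehlerDifferential.ideal A B) (Fintype.card ι')) =
      Submodule.Quotient.mk (∑ τ : ι' → ι, algebraMap B (B ⊗[A] B) (bb τ) •
        (⟨zmon A B z (⇑(SymPoly.cnt τ)), hmem τ⟩ :
          ↥(KaehlerDifferential.ideal A B ^ Fintype.card ι'))) := by
    rw [← Submodule.mkQ_apply, map_sum]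
    rfl
  rw [e2, Submodule.Quotient.mk_eq_zero, Submodule.mem_comap, map_sum] at hx
  have hx2 : ∑ τ : ι' → ι, bb τ • zmon A B z (⇑(SymPoly.cnt τ)) ∈
      KaehlerDifferential.ideal A B ^ (Fintype.card ι' + 1) := by
    convert hx using 1
    refine Finset.sum_congr rfl (fun τ _ => ?_)
    rw [map_smul, Submodule.subtype_apply, smul_eq_mul, Algebra.smul_def]
  -- group by multiplicity vectors
  let S : Finset (ι →₀ ℕ) := Finset.univ.image (fun τ : ι' → ι => SymPoly.cnt τ)
  let c : (ι →₀ ℕ) → B := fun m => ∑ τ ∈ Finset.univ.filter (fun τ : ι' → ι => SymPoly.cnt τ = m), bb τ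
  have hgroup : ∑ τ : ι' → ι, bb τ • zmon A B z (⇑(SymPoly.cnt τ)) =
      ∑ m ∈ S, c m • zmon A B z (⇑m) := by
    rw [← Finset.sum_fiberwise_of_maps_to (s := Finset.univ) (t := S)
      (g := fun τ : ι' → ι => SymPoly.cnt τ)
      (fun τ _ => Finset.mem_image.mpr ⟨τ, Finset.mem_univ _, rfl⟩)]
    refine Finset.sum_congr rfl (fun m _ => ?_)
    simp only [c]
    rw [Finset.sum_smul]
    refine Finset.sum_congr rfl (fun τ hτ => ?_)
    rw [(Finset.mem_filter.mp hτ).2]
  rw [hgroup] at hx2
  have hc0 := indep_finsupp A B z H (Fintype.card ι') S (by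
    intro m hm
    obtain ⟨τ, _, rfl⟩ := Finset.mem_image.mp hm
    exact hdeg τ) c hx2
  rw [hx1, ← Finset.sum_fiberwise_of_maps_to (s := Finset.univ) (t := S)
      (g := fun τ : ι' → ι => SymPoly.cnt τ)
      (fun τ _ => Finset.mem_image.mpr ⟨τ, Finset.mem_univ _, rfl⟩)]
  refine Finset.sum_eq_zero (fun m hm => ?_)
  have e3 : ∑ τ ∈ Finset.univ.filter (fun τ : ι' → ι => SymPoly.cnt τ = m),
      algebraMap B (B ⊗[A] B) (bb τ) • SymPoly.nm (R := B ⊗[A] B) (ι := ι') g (SymPoly.cnt τ) =
      algebraMap B (B ⊗[A] B) (c m) • SymPoly.nm (R := B ⊗[A] B) (ι := ι') g m := by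
    simp only [c]
    rw [map_sum, Finset.sum_smul]
    refine Finset.sum_congr rfl (fun τ hτ => ?_)
    rw [(Finset.mem_filter.mp hτ).2]
  rw [e3, hc0 m hm, map_zero, zero_smul]

include hz H in
theorem isDiffSmooth_of_indep :
    IsDiffSmooth A B ∧
      ∃ b : Module.Basis ι B Ω[B⁄A], ∀ i, b i = KaehlerDifferential.D A B (z i) := by
  have hli := linearIndependent_D A B z H
  let b : Module.Basis ι B Ω[B⁄A] := Module.Basis.mk hli (by rw [hz])
  have hb : ∀ i, b i = KaehlerDifferential.D A B (z i) := fun i => Module.Basis.mk_apply hli _ i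
  refine ⟨⟨Module.Projective.of_basis b, ?_⟩, b, hb⟩
  intro ι' _
  rcases isEmpty_or_nonempty ι' with h | h
  · exact exists_phi_empty A B ι'
  · exact ⟨Groth.Agent.Lib.Helper16.QRegDiff.phi' A B ι',
      Groth.Agent.Lib.Helper16.QRegDiff.phi'_tprod A B ι',
      Groth.Agent.Lib.Helper16.QRegDiff.phi'_bijective_of A B ι'
        (can_injective_of_indep A B z hz H ι')⟩

end generic

section final

variable (A B : Type u) [CommRing A] [CommRing B] [Algebra A B]
variable {ι : Type} [Fintype ι] [DecidableEq ι] (z : ι → B)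

theorem diffSmooth_iff_ops
    (hz : Submodule.span B (Set.range fun i => KaehlerDifferential.D A B (z i)) = ⊤) :
    (IsDiffSmooth A B ∧
        ∃ b : Module.Basis ι B Ω[B⁄A], ∀ i, b i = KaehlerDifferential.D A B (z i)) ↔
      ∃ Dp : (ι → ℕ) → (B →ₗ[A] B),
        (∀ p, ∃ k : ℕ, Diff16.IsDiffOpLE A B B B k (Dp p)) ∧
        ∀ p q : ι → ℕ, Dp p (∏ i, z i ^ q i) =
          ((∏ i, Nat.choose (q i) (p i) : ℕ) : B) * ∏ i, z i ^ (q i - p i) := by
  constructor
  · rintro ⟨hB, b, hb⟩
    exact exists_ops A B z hB b hb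
  · rintro ⟨Dp, hD, hDz⟩
    exact isDiffSmooth_of_indep A B z hz
      (fun n s hs c hX => indep_of_ops A B z hz Dp hD hDz n s hs c hX)

end final

end Groth.Agent.Lib.Helper16.PPBasis
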