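import Mathlib
import Groth.Prelude.Def_PP16
import Groth.Prelude.Def_DiffOp
import Groth.Agent.S3820
import Groth.Agent.Lib.Helper16.DiffChar1
import Groth.Agent.Lib.Helper16.PPBasis6

/-!
# characteristic zero and free differentials imply differentially smooth
-/

set_option autoImplicit false
set_option linter.unusedSectionVars false

universe u

namespace Groth.Agent.Lib.Helper16.DiffChar

open Groth.Agent.Lib.Helper23 Groth.Agent.S3820 PP16 Groth.Agent.Lib.Helper5.DiffOp
  Groth.Agent.Lib.Helper16.PPBasis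
open scoped TensorProduct

section lists

variable {Λ : Type*} [DecidableEq Λ]

theorem cntL_append (l₁ l₂ : List Λ) : cntL (l₁ ++ l₂) = cntL l₁ + cntL l₂ := by
  induction l₁ with
  | nil => simp [cntL]
  | cons a l ih => rw [List.cons_append, cntL, cntL, ih, add_assoc]

theorem cntL_replicate (a : Λ) (k : ℕ) : cntL (List.replicate k a) = Finsupp.single a k := by
  induction k with
  | zero => simp [cntL]
  | succ k ih => rw [List.replicate_succ, cntL, ih, ← Finsupp.single_add, add_comm]

theorem exists_list (m : Λ →₀ ℕ) : ∃ ls : List Λ, cntL ls = m := by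
  induction m using Finsupp.induction_linear with
  | zero => exact ⟨[], rfl⟩
  | add f g hf hg =>
    obtain ⟨l₁, rfl⟩ := hf
    obtain ⟨l₂, rfl⟩ := hg
    exact ⟨l₁ ++ l₂, cntL_append l₁ l₂⟩
  | single a k => exact ⟨List.replicate k a, cntL_replicate a k⟩

end lists

section indep

variable (A B : Type u) [CommRing A] [CommRing B] [Algebra A B] [Algebra ℚ B]
variable {Λ : Type*} [DecidableEq Λ] (y : Λ → B ⊗[A] B)

local notation "LL" => Diff16.linearize A B B B

theorem indep_of_symbol (hy : ∀ l, y l ∈ KaehlerDifferential.ideal A B)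
    (Dd : Λ → Derivation A B B)
    (hpair : ∀ l l', LL (Dd l : B →ₗ[A] B) (y l') = if l = l' then 1 else 0)
    (n : ℕ) (S : Finset (Λ →₀ ℕ)) (hS : ∀ m ∈ S, Finsupp.degree m = n) (c : (Λ →₀ ℕ) → B)
    (hX : ∑ m ∈ S, c m • ymon A B y m ∈ KaehlerDifferential.ideal A B ^ (n + 1)) :
    ∀ m ∈ S, c m = 0 := by
  classical
  intro m₀ hm₀
  obtain ⟨ls, hls⟩ := exists_list m₀
  have hlen : ls.length = n := by rw [← degree_cntL ls, hls, hS m₀ hm₀]
  have hE := isDiffOpLE_Ecomp A B Dd ls
  rw [hlen] at hE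
  have h1 := (isDiffOpLE_iff_linearize n _).mp hE _ hX
  rw [map_sum] at h1
  have h2 : ∀ m ∈ S, LL (Ecomp A B Dd ls) (c m • ymon A B y m) =
      if m = m₀ then c m * (val ls m₀ : B) else 0 := by
    intro m hm
    rw [lin_smul, symbol A B y hy Dd hpair ls m (by rw [hS m hm, hlen])]
    by_cases hmm : m = m₀
    · rw [if_pos hmm, hmm]
    · rw [if_neg hmm, val_eq_zero ls m (by rw [hS m hm, hlen]) (by rw [hls]; exact hmm),
        Nat.cast_zero, mul_zero]
  rw [Finset.sum_congr rfl h2, Finset.sum_ite_eq' S m₀, if_pos hm₀] at h1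
  have hpos : 0 < val ls m₀ := by rw [← hls]; exact val_cntL_pos ls
  have hunit : IsUnit ((val ls m₀ : ℕ) : B) := by
    have h3 : IsUnit ((val ls m₀ : ℕ) : ℚ) := IsUnit.mk0 _ (by exact_mod_cast hpos.ne')
    have h4 := h3.map (algebraMap ℚ B)
    rwa [map_natCast] at h4
  exact (hunit.mul_left_eq_zero).mp h1

end indep

section inj

variable (A B : Type u) [CommRing A] [CommRing B] [Algebra A B]
variable {Λ : Type*} [DecidableEq Λ] (y : Λ → B ⊗[A] B)

theorem prod_y_eq {ι' : Type*} [Fintype ι'] (τ : ι' → Λ) :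
    ∏ j, y (τ j) = ymon A B y (SymPoly.cnt τ) := by
  rw [ymon, SymPoly.cnt, ← Finsupp.prod_finsetSum_index (fun _ => pow_zero _)
    (fun _ _ _ => pow_add _ _ _)]
  refine Finset.prod_congr rfl (fun j _ => ?_)
  rw [Finsupp.prod_single_index (by exact pow_zero _), pow_one]

theorem can_injective_of_indep' (hy : ∀ l, y l ∈ KaehlerDifferential.ideal A B)
    (hspan : Submodule.span (B ⊗[A] B) (Set.range fun l =>
      (KaehlerDifferential.ideal A B).toCotangent ⟨y l, hy l⟩) = ⊤)
    (ι' : Type u) [Fintype ι'] [Nonempty ι']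
    (H : ∀ (S : Finset (Λ →₀ ℕ)), (∀ m ∈ S, Finsupp.degree m = Fintype.card ι') →
      ∀ c : (Λ →₀ ℕ) → B,
      ∑ m ∈ S, c m • ymon A B y m ∈ KaehlerDifferential.ideal A B ^ (Fintype.card ι' + 1) →
        ∀ m ∈ S, c m = 0) :
    Function.Injective (SymGr.can (B ⊗[A] B) (KaehlerDifferential.ideal A B) ι') := by
  classical
  rw [injective_iff_map_eq_zero]
  intro x hx
  let gg : Λ → ↥(KaehlerDifferential.ideal A B) := fun l => ⟨y l, hy l⟩
  let g : Λ → (KaehlerDifferential.ideal A B).Cotangent :=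
    fun l => (KaehlerDifferential.ideal A B).toCotangent (gg l)
  let T : Submodule (B ⊗[A] B)
      (SymmetricPower (B ⊗[A] B) ι' (KaehlerDifferential.ideal A B).Cotangent) :=
    Submodule.span (B ⊗[A] B) (Set.range (fun τ : ι' → Λ =>
      SymmetricPower.tprod (B ⊗[A] B) (fun j => g (τ j))))
  have hT : ∀ p : ι' → (KaehlerDifferential.ideal A B).Cotangent,
      SymmetricPower.tprod (B ⊗[A] B) p ∈ T := by
    apply Groth.Agent.Lib.Helper16.DiffBC.multilinear_mem_of_span
      (SymmetricPower.tprod (B ⊗[A] B)) (Set.range g) hspan T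
    intro p hp
    choose τ hτ using hp
    have : p = fun j => g (τ j) := funext (fun j => (hτ j).symm)
    rw [this]
    exact Submodule.subset_span ⟨τ, rfl⟩
  have hall : ∀ w : SymmetricPower (B ⊗[A] B) ι' (KaehlerDifferential.ideal A B).Cotangent,
      w ∈ T := by
    intro w
    induction w using SymPow.induction_on with
    | tprod r p => exact Submodule.smul_mem _ _ (hT p)
    | add a b ha hb => exact Submodule.add_mem _ ha hb
  obtain ⟨r, hr⟩ := Finsupp.mem_span_range_iff_exists_finsupp.mp (hall x)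
  rw [Finsupp.sum] at hr
  have hred : ∀ (a : B ⊗[A] B)
      (w : SymmetricPower (B ⊗[A] B) ι' (KaehlerDifferential.ideal A B).Cotangent),
      a • w = algebraMap B (B ⊗[A] B) (mu A B a) • w := by
    intro a w
    have h0 := SymPow.smul_eq_zero_of_forall (ι := ι') (a - algebraMap B (B ⊗[A] B) (mu A B a))
      (fun m : (KaehlerDifferential.ideal A B).Cotangent =>
        Ideal.Cotangent.smul_eq_zero_of_mem (sub_mem A B a) m) w
    rw [sub_smul, sub_eq_zero] at h0
    exact h0
  let bb : (ι' → Λ) → B := fun τ => mu A B (r τ)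
  have hx1 : x = ∑ τ ∈ r.support, algebraMap B (B ⊗[A] B) (bb τ) •
      SymPoly.nm (R := B ⊗[A] B) (ι := ι') g (SymPoly.cnt τ) := by
    rw [← hr]
    refine Finset.sum_congr rfl (fun τ _ => ?_)
    rw [hred, SymPoly.nm_cnt]
  have hmon : ∀ τ : ι' → Λ, ∏ j, y (τ j) = ymon A B y (SymPoly.cnt τ) :=
    fun τ => prod_y_eq A B y τ
  have hdeg : ∀ τ : ι' → Λ, Finsupp.degree (SymPoly.cnt τ) = Fintype.card ι' :=
    fun τ => SymPoly.degree_cnt τ
  have hmem : ∀ τ : ι' → Λ, ymon A B y (SymPoly.cnt τ) ∈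
      KaehlerDifferential.ideal A B ^ Fintype.card ι' := fun τ => by
    have := ymon_mem A B y hy (SymPoly.cnt τ)
    rwa [hdeg τ] at this
  have e1 : ∀ τ : ι' → Λ,
      PP16.zetaJ (B ⊗[A] B) (KaehlerDifferential.ideal A B) (fun j => gg (τ j)) =
        Submodule.Quotient.mk ⟨ymon A B y (SymPoly.cnt τ), hmem τ⟩ := by
    intro τ
    unfold PP16.zetaJ
    congr 1
    exact Subtype.ext (hmon τ)
  have e0 : SymGr.can (B ⊗[A] B) (KaehlerDifferential.ideal A B) ι' x =
      ∑ τ ∈ r.support, algebraMap B (B ⊗[A] B) (bb τ) •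
        PP16.zetaJ (B ⊗[A] B) (KaehlerDifferential.ideal A B) (fun j => gg (τ j)) := by
    conv_lhs => rw [← hr]
    rw [map_sum]
    refine Finset.sum_congr rfl (fun τ _ => ?_)
    rw [hred, map_smul]
    congr 1
    exact SymGr.can_tprod (B ⊗[A] B) (KaehlerDifferential.ideal A B) ι' (fun j => gg (τ j))
  rw [e0, Finset.sum_congr rfl (fun τ _ => by rw [e1 τ])] at hx
  have e2 : ∑ τ ∈ r.support, algebraMap B (B ⊗[A] B) (bb τ) •
      (Submodule.Quotient.mk ⟨ymon A B y (SymPoly.cnt τ), hmem τ⟩ :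
        grJ (B ⊗[A] B) (KaehlerDifferential.ideal A B) (Fintype.card ι')) =
      Submodule.Quotient.mk (∑ τ ∈ r.support, algebraMap B (B ⊗[A] B) (bb τ) •
        (⟨ymon A B y (SymPoly.cnt τ), hmem τ⟩ :
          ↥(KaehlerDifferential.ideal A B ^ Fintype.card ι'))) := by
    rw [← Submodule.mkQ_apply, map_sum]
    rfl
  rw [e2, Submodule.Quotient.mk_eq_zero, Submodule.mem_comap, map_sum] at hx
  have hx2 : ∑ τ ∈ r.support, bb τ • ymon A B y (SymPoly.cnt τ) ∈
      KaehlerDifferential.ideal A B ^ (Fintype.card ι' + 1) := by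
    convert hx using 1
    refine Finset.sum_congr rfl (fun τ _ => ?_)
    rw [map_smul, Submodule.subtype_apply, smul_eq_mul, Algebra.smul_def]
  let S : Finset (Λ →₀ ℕ) := r.support.image (fun τ : ι' → Λ => SymPoly.cnt τ)
  let c : (Λ →₀ ℕ) → B := fun m =>
    ∑ τ ∈ r.support.filter (fun τ : ι' → Λ => SymPoly.cnt τ = m), bb τ
  have hgroup : ∑ τ ∈ r.support, bb τ • ymon A B y (SymPoly.cnt τ) =
      ∑ m ∈ S, c m • ymon A B y m := by
    rw [← Finset.sum_fiberwise_of_maps_to (s := r.support) (t := S)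
      (g := fun τ : ι' → Λ => SymPoly.cnt τ)
      (fun τ hτ => Finset.mem_image.mpr ⟨τ, hτ, rfl⟩)]
    refine Finset.sum_congr rfl (fun m _ => ?_)
    simp only [c]
    rw [Finset.sum_smul]
    refine Finset.sum_congr rfl (fun τ hτ => ?_)
    rw [(Finset.mem_filter.mp hτ).2]
  rw [hgroup] at hx2
  have hc0 := H S (by
    intro m hm
    obtain ⟨τ, _, rfl⟩ := Finset.mem_image.mp hm
    exact hdeg τ) c hx2
  rw [hx1, ← Finset.sum_fiberwise_of_maps_to (s := r.support) (t := S)
      (g := fun τ : ι' → Λ => SymPoly.cnt τ)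
      (fun τ hτ => Finset.mem_image.mpr ⟨τ, hτ, rfl⟩)]
  refine Finset.sum_eq_zero (fun m hm => ?_)
  have e3 : ∑ τ ∈ r.support.filter (fun τ : ι' → Λ => SymPoly.cnt τ = m),
      algebraMap B (B ⊗[A] B) (bb τ) • SymPoly.nm (R := B ⊗[A] B) (ι := ι') g (SymPoly.cnt τ) =
      algebraMap B (B ⊗[A] B) (c m) • SymPoly.nm (R := B ⊗[A] B) (ι := ι') g m := by
    simp only [c]
    rw [map_sum, Finset.sum_smul]
    refine Finset.sum_congr rfl (fun τ hτ => ?_)
    rw [(Finset.mem_filter.mp hτ).2]
  rw [e3, hc0 m hm, map_zero, zero_smul]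

end inj

section final

variable (A B : Type u) [CommRing A] [CommRing B] [Algebra A B]

local notation "LL" => Diff16.linearize A B B B

theorem lin_compDer (u : Ω[B⁄A] →ₗ[B] B) (x : B ⊗[A] B) :
    LL ((u.compDer (KaehlerDifferential.D A B) : Derivation A B B) : B →ₗ[A] B) x =
      u ((KaehlerDifferential.D A B).tensorProductTo x) := by
  induction x using TensorProduct.induction_on with
  | zero => simp
  | tmul b c =>
    rw [lin_tmul, Derivation.tensorProductTo_tmul, map_smul, smul_eq_mul]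
    rfl
  | add x y hx hy => rw [map_add, map_add, map_add, hx, hy]

theorem isDiffSmooth_of_charZero_free [Algebra ℚ B] (hΩ : Module.Free B Ω[B⁄A]) :
    IsDiffSmooth A B := by
  classical
  let b : Module.Basis (Module.Free.ChooseBasisIndex B Ω[B⁄A]) B Ω[B⁄A] :=
    Module.Free.chooseBasis B Ω[B⁄A]
  have hex : ∀ l, ∃ yl : ↥(KaehlerDifferential.ideal A B),
      KaehlerDifferential.fromIdeal A B yl = b l :=
    fun l => (KaehlerDifferential.ideal A B).toCotangent_surjective (b l)
  choose yy hyy using hex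
  let y : Module.Free.ChooseBasisIndex B Ω[B⁄A] → B ⊗[A] B := fun l => (yy l : B ⊗[A] B)
  have hy : ∀ l, y l ∈ KaehlerDifferential.ideal A B := fun l => (yy l).2
  let Dd : Module.Free.ChooseBasisIndex B Ω[B⁄A] → Derivation A B B :=
    fun l => (b.coord l).compDer (KaehlerDifferential.D A B)
  have hpair : ∀ l l', LL (Dd l : B →ₗ[A] B) (y l') = if l = l' then 1 else 0 := by
    intro l l'
    have h1 : (KaehlerDifferential.D A B).tensorProductTo (y l') = b l' := by
      rw [← hyy l']
      exact KaehlerDifferential.D_tensorProductTo (yy l')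
    rw [lin_compDer, h1, Module.Basis.coord_apply, Module.Basis.repr_self, Finsupp.single_apply]
    by_cases h : l = l'
    · rw [if_pos h, if_pos h.symm]
    · rw [if_neg h, if_neg (Ne.symm h)]
  have hspan : Submodule.span (B ⊗[A] B) (Set.range fun l =>
      (KaehlerDifferential.ideal A B).toCotangent ⟨y l, hy l⟩) = ⊤ := by
    have key : ∀ ω : Ω[B⁄A], ω ∈ Submodule.span B (Set.range b) →
        Groth.Agent.Lib.Helper16.DiffBC.toCot A B ω ∈
          Submodule.span (B ⊗[A] B) (Set.range fun l =>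
            (KaehlerDifferential.ideal A B).toCotangent ⟨y l, hy l⟩) := by
      intro ω hω
      induction hω using Submodule.span_induction with
      | mem x hx =>
        obtain ⟨l, rfl⟩ := hx
        refine Submodule.subset_span ⟨l, ?_⟩
        rw [← hyy l]
        rfl
      | zero => rw [map_zero]; exact Submodule.zero_mem _
      | add x x' _ _ hx hx' => rw [map_add]; exact Submodule.add_mem _ hx hx'
      | smul c x _ hx =>
        rw [map_smul, ← algebraMap_smul (B ⊗[A] B) c]
        exact Submodule.smul_mem _ _ hx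
    rw [eq_top_iff]
    rintro m -
    have := key ((Groth.Agent.Lib.Helper16.DiffBC.toCot A B).symm m) (by rw [b.span_eq]; trivial)
    rwa [LinearEquiv.apply_symm_apply] at this
  refine ⟨Module.Projective.of_free, ?_⟩
  intro ι' _
  rcases isEmpty_or_nonempty ι' with h | h
  · exact exists_phi_empty A B ι'
  · exact ⟨Groth.Agent.Lib.Helper16.QRegDiff.phi' A B ι',
      Groth.Agent.Lib.Helper16.QRegDiff.phi'_tprod A B ι',
      Groth.Agent.Lib.Helper16.QRegDiff.phi'_bijective_of A B ι'
        (can_injective_of_indep' A B y hy hspan ι'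
          (fun S hS c hX => indep_of_symbol A B y hy Dd hpair _ S hS c hX))⟩

end final

end Groth.Agent.Lib.Helper16.DiffChar
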