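import Mathlib
import Groth.Prelude.Def_DiffOp
import Groth.Agent.S3820
import Groth.Agent.Lib.Helper16.PPBasis2
import Groth.Agent.Lib.Helper5.DiffOp

/-!
# differential operators along a formally unramified map are determined on generators
-/

set_option autoImplicit false
set_option linter.unusedSectionVars false

universe u

namespace Groth.Agent.Lib.Helper16.DiffEt

open Groth.Agent.S3820 Groth.Agent.Lib.Helper5.DiffOp Groth.Agent.Lib.Helper16.PPBasis
open scoped TensorProduct

section gen

variable (R S S' : Type u) [CommRing R] [CommRing S] [CommRing S'] [Algebra R S] [Algebra R S']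
  [Algebra S S'] [IsScalarTower R S S'] [Algebra.FormallyUnramified S S']

theorem span_D_algebraMap :
    Submodule.span S' (Set.range fun s : S => KaehlerDifferential.D R S' (algebraMap S S' s)) = ⊤ := by
  rw [eq_top_iff]
  rintro ω -
  have h0 : KaehlerDifferential.map R S S' S' ω = 0 := Subsingleton.elim _ _
  obtain ⟨t, rfl⟩ := (KaehlerDifferential.exact_mapBaseChange_map R S S' ω).mp h0
  clear h0
  induction t using TensorProduct.induction_on with
  | zero => rw [map_zero]; exact Submodule.zero_mem _
  | tmul β ω₀ =>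
    rw [KaehlerDifferential.mapBaseChange_tmul]
    refine Submodule.smul_mem _ _ ?_
    have h1 : ω₀ ∈ Submodule.span S (Set.range (KaehlerDifferential.D R S)) := by
      rw [KaehlerDifferential.span_range_derivation]; trivial
    induction h1 using Submodule.span_induction with
    | mem x hx =>
      obtain ⟨s, rfl⟩ := hx
      rw [KaehlerDifferential.map_D]
      exact Submodule.subset_span ⟨s, rfl⟩
    | zero => rw [map_zero]; exact Submodule.zero_mem _
    | add x y _ _ hx hy => rw [map_add]; exact Submodule.add_mem _ hx hy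
    | smul s x _ hx =>
      rw [map_smul, ← algebraMap_smul S' s]
      exact Submodule.smul_mem _ _ hx
  | add x y hx hy => rw [map_add]; exact Submodule.add_mem _ hx hy

/-- the map `S' ⊗ S → S' ⊗ S'` -/
noncomputable def phiW : S' ⊗[R] S →ₐ[S'] S' ⊗[R] S' :=
  Algebra.TensorProduct.map (AlgHom.id S' S') (IsScalarTower.toAlgHom R S S')

theorem phiW_tmul (a : S') (s : S) : phiW R S S' (a ⊗ₜ[R] s) = a ⊗ₜ[R] algebraMap S S' s := by
  simp [phiW]

/-- the image of `S' ⊗ S` in `S' ⊗ S'` as a left submodule -/
noncomputable def Wm : Submodule S' (S' ⊗[R] S') := Subalgebra.toSubmodule (phiW R S S').range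

theorem mem_Wm (x : S' ⊗[R] S') : x ∈ Wm R S S' ↔ ∃ t, phiW R S S' t = x := Iff.rfl

theorem one_mem_Wm : (1 : S' ⊗[R] S') ∈ Wm R S S' := ⟨1, map_one _⟩

theorem mul_mem_Wm {x y : S' ⊗[R] S'} (hx : x ∈ Wm R S S') (hy : y ∈ Wm R S S') :
    x * y ∈ Wm R S S' := by
  obtain ⟨t, rfl⟩ := hx
  obtain ⟨t', rfl⟩ := hy
  exact ⟨t * t', map_mul _ _ _⟩

theorem delta_mem_Wm (s : S) : δ R S' (algebraMap S S' s) ∈ Wm R S S' := by
  refine ⟨(1 : S') ⊗ₜ[R] s - (algebraMap S S' s) ⊗ₜ[R] (1 : S), ?_⟩
  show phiW R S S' ((1 : S') ⊗ₜ[R] s - (algebraMap S S' s) ⊗ₜ[R] (1 : S)) = _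
  rw [map_sub, phiW_tmul, phiW_tmul, map_one]
  rfl

theorem Ipow_le_W (n : ℕ) : Ipow R S' n ≤ Wm R S S' ⊔ Ipow R S' (n + 1) := by
  induction n with
  | zero =>
    intro x _
    have h1 : x = mu R S' x • (1 : S' ⊗[R] S') + (x - algebraMap S' (S' ⊗[R] S') (mu R S' x)) := by
      rw [Algebra.smul_def, mul_one]; ring
    rw [h1]
    refine Submodule.add_mem _ (Submodule.mem_sup_left ?_) (Submodule.mem_sup_right ?_)
    · exact Submodule.smul_mem _ _ (one_mem_Wm R S S')
    · rw [mem_Ipow, zero_add, pow_one]
      exact sub_mem R S' x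
  | succ n ih =>
    intro x hx
    rw [mem_Ipow, pow_succ'] at hx
    have hI := ideal_le_span_sup_sq (A := R) (B := S') (fun s : S => algebraMap S S' s)
      (span_D_algebraMap R S S')
    refine Submodule.mul_induction_on hx ?_ ?_
    · intro a ha c hc
      obtain ⟨j, hj, a'', ha'', rfl⟩ := Submodule.mem_sup.mp (hI ha)
      clear ha
      rw [add_mul]
      refine Submodule.add_mem _ ?_ (Submodule.mem_sup_right ?_)
      · -- j ∈ span of deltas
        have key : j * c ∈ Wm R S S' ⊔ Ipow R S' (n + 1 + 1) ∧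
            j ∈ KaehlerDifferential.ideal R S' := by
          induction hj using Submodule.span_induction with
          | mem j hj =>
            obtain ⟨s, rfl⟩ := hj
            refine ⟨?_, KaehlerDifferential.one_smul_sub_smul_one_mem_ideal R _⟩
            obtain ⟨w, hw, c', hc', rfl⟩ := Submodule.mem_sup.mp (ih hc)
            rw [mul_add]
            refine Submodule.add_mem _ (Submodule.mem_sup_left
              (mul_mem_Wm R S S' (delta_mem_Wm R S S' s) hw)) (Submodule.mem_sup_right ?_)
            rw [mem_Ipow, pow_succ' _ (n + 1)]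
            exact Ideal.mul_mem_mul (KaehlerDifferential.one_smul_sub_smul_one_mem_ideal R _) hc'
          | zero =>
            rw [zero_mul]
            exact ⟨Submodule.zero_mem _, Ideal.zero_mem _⟩
          | add j j' _ _ hj hj' =>
            rw [add_mul]
            exact ⟨Submodule.add_mem _ hj.1 hj'.1, Ideal.add_mem _ hj.2 hj'.2⟩
          | smul r j _ hj =>
            refine ⟨?_, Ideal.mul_mem_left _ _ hj.2⟩
            rw [smul_eq_mul, mul_assoc]
            have hjc : j * c ∈ KaehlerDifferential.ideal R S' ^ (n + 1) := by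
              rw [pow_succ']
              exact Ideal.mul_mem_mul hj.2 hc
            have h2 := mul_sub_smul_mem R S' (n + 1) r (j * c) hjc
            have h3 : r * (j * c) = mu R S' r • (j * c) + (r * (j * c) - mu R S' r • (j * c)) := by
              abel
            rw [h3]
            exact Submodule.add_mem _ (Submodule.smul_mem _ _ hj.1) (Submodule.mem_sup_right h2)
        exact key.1
      · rw [mem_Ipow, show n + 1 + 1 = 2 + n by ring, pow_add]
        exact Ideal.mul_mem_mul ha'' hc
    · intro x y hx hy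
      exact Submodule.add_mem _ hx hy

theorem top_le_W (n : ℕ) : ⊤ ≤ Wm R S S' ⊔ Ipow R S' (n + 1) := by
  induction n with
  | zero =>
    intro x _
    exact Ipow_le_W R S S' 0 (show x ∈ Ipow R S' 0 by
      rw [mem_Ipow, pow_zero, Ideal.one_eq_top]; trivial)
  | succ n ih =>
    refine ih.trans (sup_le le_sup_left ?_)
    exact Ipow_le_W R S S' (n + 1)

end gen

section uniq

variable (R S S' : Type u) [CommRing R] [CommRing S] [CommRing S'] [Algebra R S] [Algebra R S']
  [Algebra S S'] [IsScalarTower R S S'] [Algebra.FormallyUnramified S S']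
variable (M : Type u) [AddCommGroup M] [Module S M] [Module R M] [IsScalarTower R S M]
variable (N' : Type u) [AddCommGroup N'] [Module S' N'] [Module R N'] [IsScalarTower R S' N']

/-- an operator of finite order on `S' ⊗ M` vanishing on the image of `M` is zero -/
theorem eq_zero_of_vanish (k : ℕ) (E : S' ⊗[S] M →ₗ[R] N')
    (hE : Diff16.IsDiffOpLE R S' (S' ⊗[S] M) N' k E) (h0 : ∀ m : M, E ((1 : S') ⊗ₜ[S] m) = 0) :
    E = 0 := by
  have hann := (isDiffOpLE_iff_pow_le k E).mp hE
  have hW : ∀ w ∈ Wm R S S', ∀ m : M,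
      act R S' (S' ⊗[S] M) N' w E ((1 : S') ⊗ₜ[S] m) = 0 := by
    rintro _ ⟨t, rfl⟩ m
    show act R S' (S' ⊗[S] M) N' (phiW R S S' t) E ((1 : S') ⊗ₜ[S] m) = 0
    induction t using TensorProduct.induction_on with
    | zero => simp
    | tmul a s =>
      rw [phiW_tmul, act_tmul]
      have h1 : (algebraMap S S' s) • ((1 : S') ⊗ₜ[S] m) = (1 : S') ⊗ₜ[S] (s • m) := by
        rw [TensorProduct.smul_tmul', smul_eq_mul, mul_one, ← TensorProduct.smul_tmul,
          Algebra.smul_def, mul_one]
      rw [h1, h0, smul_zero]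
    | add x y hx hy =>
      rw [map_add, map_add, LinearMap.add_apply, LinearMap.add_apply, hx, hy, add_zero]
  have hall : ∀ (x : S' ⊗[R] S') (m : M),
      act R S' (S' ⊗[S] M) N' x E ((1 : S') ⊗ₜ[S] m) = 0 := by
    intro x m
    obtain ⟨w, hw, i, hi, rfl⟩ := Submodule.mem_sup.mp (top_le_W R S S' k
      (Submodule.mem_top : x ∈ ⊤))
    have h2 : act R S' (S' ⊗[S] M) N' i E = 0 := hann hi
    rw [map_add, LinearMap.add_apply, h2, add_zero]
    exact hW w hw m
  apply LinearMap.ext
  intro t
  induction t using TensorProduct.induction_on with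
  | zero => simp
  | tmul a m =>
    have h3 := hall ((1 : S') ⊗ₜ[R] a) m
    rw [act_tmul, one_smul, TensorProduct.smul_tmul', smul_eq_mul, mul_one] at h3
    rw [h3, LinearMap.zero_apply]
  | add x y hx hy =>
    rw [map_add, hx, hy]
    simp

end uniq

end Groth.Agent.Lib.Helper16.DiffEt
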