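import Mathlib
import Groth.Prelude.Def_DiffOp
import Groth.Agent.Lib.Helper16.DiffEt1

/-!
# principal parts modules base change along formally unramified maps (universal property)
-/

set_option autoImplicit false
set_option linter.unusedSectionVars false
set_option linter.style.haveILetI false

universe u

namespace Groth.Agent.Lib.Helper16.DiffEt

open Groth.Agent.S3820 Groth.Agent.Lib.Helper5.DiffOp Groth.Agent.Lib.Helper16.PPBasis
open scoped TensorProduct

section restrict

variable (R S S' : Type u) [CommRing R] [CommRing S] [CommRing S'] [Algebra R S] [Algebra R S']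
  [Algebra S S'] [IsScalarTower R S S']
variable (M₁ : Type u) [AddCommGroup M₁] [Module S M₁] [Module R M₁] [IsScalarTower R S M₁]
variable (M' : Type u) [AddCommGroup M'] [Module S' M'] [Module R M'] [IsScalarTower R S' M']
variable (N' : Type u) [AddCommGroup N'] [Module S' N'] [Module R N'] [IsScalarTower R S' N']
  [Module S N'] [IsScalarTower S S' N'] [IsScalarTower R S N']

theorem isDiffOpLE_restrict (ι : M₁ →ₗ[R] M') (hι : ∀ (s : S) (m : M₁), ι (s • m) = algebraMap S S' s • ι m)
    (k : ℕ) : ∀ (E : M' →ₗ[R] N'), Diff16.IsDiffOpLE R S' M' N' k E →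
      Diff16.IsDiffOpLE R S M₁ N' k (E ∘ₗ ι) := by
  induction k with
  | zero =>
    intro E hE s m
    rw [LinearMap.comp_apply, LinearMap.comp_apply, hι, hE, algebraMap_smul]
  | succ k ih =>
    intro E hE s
    have h1 : Diff16.commutator R S M₁ N' (E ∘ₗ ι) s =
        (Diff16.commutator R S' M' N' E (algebraMap S S' s)) ∘ₗ ι := by
      apply LinearMap.ext
      intro m
      simp only [Diff16.commutator, LinearMap.sub_apply, LinearMap.comp_apply,
        LinearMap.restrictScalars_apply, LinearMap.lsmul_apply, hι, algebraMap_smul]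
    rw [h1]
    exact ih _ (hE (algebraMap S S' s))

end restrict

section univ

variable (R S S' : Type u) [CommRing R] [CommRing S] [CommRing S'] [Algebra R S] [Algebra R S']
  [Algebra S S'] [IsScalarTower R S S'] [Algebra.FormallyUnramified S S']

theorem universal_baseChange (M : Type u) [AddCommGroup M] [Module S M] [Module R M]
    [IsScalarTower R S M] (k : ℕ) (P : Type u) [AddCommGroup P] [Module S P] [Module R P]
    [IsScalarTower R S P] (Du : M →ₗ[R] P)
    (huniv : ∀ (N : Type u) [AddCommGroup N] [Module S N] [Module R N] [IsScalarTower R S N]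
      (D : M →ₗ[R] N), Diff16.IsDiffOpLE R S M N k D →
        ∃! α : P →ₗ[S] N, α.restrictScalars R ∘ₗ Du = D)
    (Du' : S' ⊗[S] M →ₗ[R] S' ⊗[S] P)
    (hDu' : Diff16.IsDiffOpLE R S' (S' ⊗[S] M) (S' ⊗[S] P) k Du')
    (hext : Du' ∘ₗ (TensorProduct.mk S S' M 1).restrictScalars R =
      (TensorProduct.mk S S' P 1).restrictScalars R ∘ₗ Du)
    (N' : Type u) [AddCommGroup N'] [Module S' N'] [Module R N'] [IsScalarTower R S' N']
    (D' : S' ⊗[S] M →ₗ[R] N') (hD' : Diff16.IsDiffOpLE R S' (S' ⊗[S] M) N' k D') :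
    ∃! α : S' ⊗[S] P →ₗ[S'] N', α.restrictScalars R ∘ₗ Du' = D' := by
  letI : Module S N' := Module.compHom N' (algebraMap S S')
  haveI : IsScalarTower S S' N' := ⟨fun s a n => by
    show (s • a) • n = algebraMap S S' s • (a • n)
    rw [Algebra.smul_def, mul_smul]⟩
  haveI : IsScalarTower R S N' := ⟨fun r s n => by
    show algebraMap S S' (r • s) • n = r • (algebraMap S S' s • n)
    rw [Algebra.smul_def, map_mul, ← IsScalarTower.algebraMap_apply, mul_smul, algebraMap_smul]⟩
  let ιM : M →ₗ[R] S' ⊗[S] M := (TensorProduct.mk S S' M 1).restrictScalars R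
  have hιM : ∀ (s : S) (m : M), ιM (s • m) = algebraMap S S' s • ιM m := by
    intro s m
    show (1 : S') ⊗ₜ[S] (s • m) = algebraMap S S' s • ((1 : S') ⊗ₜ[S] m)
    rw [TensorProduct.smul_tmul', smul_eq_mul, mul_one, ← TensorProduct.smul_tmul,
      Algebra.smul_def, mul_one]
  have hD0 : Diff16.IsDiffOpLE R S M N' k (D' ∘ₗ ιM) :=
    isDiffOpLE_restrict R S S' M (S' ⊗[S] M) N' ιM hιM k D' hD'
  obtain ⟨α₀, hα₀, hα₀u⟩ := huniv N' (D' ∘ₗ ιM) hD0
  have hext' : ∀ m : M, Du' ((1 : S') ⊗ₜ[S] m) = (1 : S') ⊗ₜ[S] Du m := fun m =>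
    congrArg (fun f => f m) hext
  refine ⟨LinearMap.liftBaseChange S' α₀, ?_, ?_⟩
  · have h0 : (LinearMap.liftBaseChange S' α₀).restrictScalars R ∘ₗ Du' - D' = 0 := by
      apply eq_zero_of_vanish R S S' M N' k
      · refine isDiffOpLE_sub ?_ hD'
        have h1 : Diff16.IsDiffOpLE R S' (S' ⊗[S] P) N' 0
            ((LinearMap.liftBaseChange S' α₀).restrictScalars R) :=
          fun b t => map_smul (LinearMap.liftBaseChange S' α₀) b t
        have h2 := isDiffOpLE_comp k 0 Du' _ hDu' h1
        rwa [add_zero] at h2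
      · intro m
        rw [LinearMap.sub_apply, LinearMap.comp_apply, hext' m, LinearMap.restrictScalars_apply,
          LinearMap.liftBaseChange_tmul, one_smul, sub_eq_zero]
        exact congrArg (fun f => f m) hα₀
    exact sub_eq_zero.mp h0
  · intro β hβ
    have hβ' : ∀ m : M, β ((1 : S') ⊗ₜ[S] Du m) = D' ((1 : S') ⊗ₜ[S] m) := by
      intro m
      rw [← hext' m]
      exact congrArg (fun f => f ((1 : S') ⊗ₜ[S] m)) hβ
    let β₀ : P →ₗ[S] N' :=
      { toFun := fun p => β ((1 : S') ⊗ₜ[S] p)
        map_add' := fun p q => by rw [TensorProduct.tmul_add, map_add]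
        map_smul' := fun s p => by
          have h1 : (1 : S') ⊗ₜ[S] (s • p) = algebraMap S S' s • ((1 : S') ⊗ₜ[S] p) := by
            rw [TensorProduct.smul_tmul', smul_eq_mul, mul_one, ← TensorProduct.smul_tmul,
              Algebra.smul_def, mul_one]
          rw [h1, map_smul]
          rfl }
    have hβ₀ : β₀ = α₀ := by
      apply hα₀u
      apply LinearMap.ext
      intro m
      exact hβ' m
    apply LinearMap.ext
    intro t
    induction t using TensorProduct.induction_on with
    | zero => simp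
    | tmul a p =>
      have h2 : a ⊗ₜ[S] p = a • ((1 : S') ⊗ₜ[S] p) := by
        rw [TensorProduct.smul_tmul', smul_eq_mul, mul_one]
      rw [h2, map_smul, map_smul, LinearMap.liftBaseChange_tmul, one_smul, ← hβ₀]
      rfl
    | add x y hx hy => rw [map_add, map_add, hx, hy]

end univ

end Groth.Agent.Lib.Helper16.DiffEt
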