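import Mathlib
import Groth.Prelude.Def_DiffOp
import Groth.Agent.Lib.Helper16.DiffEt2

/-!
# extension of differential operators along formally etale maps (Taylor lift)
-/

set_option autoImplicit false
set_option linter.unusedSectionVars false
set_option linter.style.haveILetI false

universe u

namespace Groth.Agent.Lib.Helper16.DiffEt

open Groth.Agent.S3820 Groth.Agent.Lib.Helper5.DiffOp Groth.Agent.Lib.Helper16.PPBasis
open scoped TensorProduct

section taylor

variable (R S S' : Type u) [CommRing R] [CommRing S] [CommRing S'] [Algebra R S] [Algebra R S']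
  [Algebra S S'] [IsScalarTower R S S']

/-- `s ⊗ a ↦ s a` -/
noncomputable def g0 : S ⊗[R] S' →ₐ[S] S' :=
  Algebra.TensorProduct.lift (Algebra.ofId S S') (AlgHom.id R S') (fun _ _ => Commute.all _ _)

theorem g0_tmul (s : S) (a : S') : g0 R S S' (s ⊗ₜ[R] a) = algebraMap S S' s * a := by
  simp [g0, Algebra.ofId_apply]

/-- the kernel of `g0` -/
noncomputable def JJ : Ideal (S ⊗[R] S') := RingHom.ker (g0 R S S')

variable (k : ℕ)

/-- the infinitesimal neighbourhood of the graph -/
abbrev QQ : Type u := (S ⊗[R] S') ⧸ (JJ R S S') ^ (k + 1)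

/-- the augmentation of `QQ` -/
noncomputable def gQ : QQ R S S' k →ₐ[S] S' :=
  Ideal.Quotient.liftₐ ((JJ R S S') ^ (k + 1)) (g0 R S S') (fun _ ha =>
    Ideal.pow_le_self (Nat.succ_ne_zero k) ha)

theorem gQ_mk (x : S ⊗[R] S') :
    gQ R S S' k (Ideal.Quotient.mk _ x) = g0 R S S' x := rfl

theorem gQ_surjective : Function.Surjective (gQ R S S' k) := fun a =>
  ⟨Ideal.Quotient.mk _ ((1 : S) ⊗ₜ[R] a), by rw [gQ_mk, g0_tmul, map_one, one_mul]⟩

theorem ker_gQ_pow : (RingHom.ker (gQ R S S' k : QQ R S S' k →+* S')) ^ (k + 1) = ⊥ := by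
  have h1 : RingHom.ker (gQ R S S' k : QQ R S S' k →+* S') ≤
      (JJ R S S').map (Ideal.Quotient.mk ((JJ R S S') ^ (k + 1))) := by
    intro q hq
    obtain ⟨x, rfl⟩ := Ideal.Quotient.mk_surjective q
    exact Ideal.mem_map_of_mem _ (show x ∈ JJ R S S' from hq)
  rw [eq_bot_iff]
  refine (Ideal.pow_right_mono h1 (k + 1)).trans ?_
  rw [← Ideal.map_pow, Ideal.map_quotient_self]

theorem ker_gQ_nilpotent : IsNilpotent (RingHom.ker (gQ R S S' k : QQ R S S' k →+* S')) :=
  ⟨k + 1, ker_gQ_pow R S S' k⟩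

variable [Algebra.FormallySmooth S S']

/-- the Taylor lift -/
noncomputable def Tay : S' →ₐ[S] QQ R S S' k :=
  Algebra.FormallySmooth.liftOfSurjective (AlgHom.id S S') (gQ R S S' k)
    (gQ_surjective R S S' k) (ker_gQ_nilpotent R S S' k)

theorem gQ_Tay (a : S') : gQ R S S' k (Tay R S S' k a) = a :=
  Algebra.FormallySmooth.liftOfSurjective_apply _ _ _ _ a

end taylor

section act

variable (R S S' : Type u) [CommRing R] [CommRing S] [CommRing S'] [Algebra R S] [Algebra R S']
  [Algebra S S'] [IsScalarTower R S S']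
variable (M : Type u) [AddCommGroup M] [Module S M] [Module R M] [IsScalarTower R S M]
variable (N' : Type u) [AddCommGroup N'] [Module S' N'] [Module R N'] [IsScalarTower R S' N']
  [Module S N'] [IsScalarTower S S' N'] [IsScalarTower R S N']

/-- the action of `S ⊗ S'` on `Hom_R(M, N')`: `(s ⊗ a) D = a D(s ·)` -/
noncomputable def actM : S ⊗[R] S' →ₐ[R] Module.End R (M →ₗ[R] N') :=
  Algebra.TensorProduct.lift (Rmap R S M N') (Lmap R S' M N') (fun s a => by
    ext D m
    simp)

theorem actM_tmul (s : S) (a : S') (D : M →ₗ[R] N') (m : M) :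
    actM R S S' M N' (s ⊗ₜ[R] a) D m = a • D (s • m) := by
  simp [actM]

theorem actM_mul (x y : S ⊗[R] S') (D : M →ₗ[R] N') :
    actM R S S' M N' (x * y) D = actM R S S' M N' x (actM R S S' M N' y D) := by
  rw [map_mul]; rfl

/-- the generators of the kernel -/
noncomputable def eps (s : S) : S ⊗[R] S' := s ⊗ₜ[R] (1 : S') - (1 : S) ⊗ₜ[R] algebraMap S S' s

theorem actM_eps (s : S) (D : M →ₗ[R] N') :
    actM R S S' M N' (eps R S S' s) D = Diff16.commutator R S M N' D s := by
  ext m
  simp only [eps, map_sub, LinearMap.sub_apply, actM_tmul, one_smul, Diff16.commutator,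
    LinearMap.comp_apply, LinearMap.restrictScalars_apply, LinearMap.lsmul_apply, algebraMap_smul]

theorem actM_prod_eps (k : ℕ) : ∀ D : M →ₗ[R] N', Diff16.IsDiffOpLE R S M N' k D →
    ∀ s : Fin (k + 1) → S, actM R S S' M N' (∏ i, eps R S S' (s i)) D = 0 := by
  induction k with
  | zero =>
    intro D hD s
    rw [Fin.prod_univ_one, actM_eps]
    ext m
    simp only [Diff16.commutator, LinearMap.sub_apply, LinearMap.comp_apply,
      LinearMap.restrictScalars_apply, LinearMap.lsmul_apply, LinearMap.zero_apply]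
    rw [hD (s 0) m, sub_self]
  | succ k ih =>
    intro D hD s
    rw [Fin.prod_univ_succ, mul_comm, actM_mul, actM_eps]
    exact ih _ (hD (s 0)) (fun i => s i.succ)

theorem sub_mem_span_eps (x : S ⊗[R] S') :
    x - (1 : S) ⊗ₜ[R] (g0 R S S' x) ∈ Ideal.span (Set.range (eps R S S')) := by
  induction x using TensorProduct.induction_on with
  | zero => simp
  | tmul s a =>
    have h1 : s ⊗ₜ[R] a - (1 : S) ⊗ₜ[R] (g0 R S S' (s ⊗ₜ[R] a)) =
        eps R S S' s * ((1 : S) ⊗ₜ[R] a) := by
      rw [g0_tmul, eps, sub_mul, Algebra.TensorProduct.tmul_mul_tmul,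
        Algebra.TensorProduct.tmul_mul_tmul, mul_one, one_mul, one_mul]
    rw [h1]
    exact Ideal.mul_mem_right _ _ (Ideal.subset_span ⟨s, rfl⟩)
  | add x y hx hy =>
    have h1 : x + y - (1 : S) ⊗ₜ[R] (g0 R S S' (x + y)) =
        (x - (1 : S) ⊗ₜ[R] (g0 R S S' x)) + (y - (1 : S) ⊗ₜ[R] (g0 R S S' y)) := by
      rw [map_add, TensorProduct.tmul_add]; abel
    rw [h1]
    exact Ideal.add_mem _ hx hy

theorem JJ_le : JJ R S S' ≤ Ideal.span (Set.range (eps R S S')) := by
  intro x hx
  have h1 := sub_mem_span_eps R S S' x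
  have h2 : g0 R S S' x = 0 := hx
  rwa [h2, TensorProduct.tmul_zero, sub_zero] at h1

theorem actM_eq_zero_of_mem (k : ℕ) (D : M →ₗ[R] N') (hD : Diff16.IsDiffOpLE R S M N' k D)
    (x : S ⊗[R] S') (hx : x ∈ (JJ R S S') ^ (k + 1)) : actM R S S' M N' x D = 0 := by
  let annM : Ideal (S ⊗[R] S') :=
    { carrier := {x | actM R S S' M N' x D = 0}
      zero_mem' := by simp
      add_mem' := by
        intro x y hx hy
        simp only [Set.mem_ofPred_eq] at hx hy ⊢
        rw [map_add, LinearMap.add_apply, hx, hy, add_zero]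
      smul_mem' := by
        intro c x hx
        simp only [Set.mem_ofPred_eq] at hx ⊢
        rw [smul_eq_mul, actM_mul, hx, map_zero] }
  have h1 : (Ideal.span (Set.range (eps R S S'))) ^ (k + 1) ≤ annM := by
    rw [Ideal.span, Submodule.span_pow, Submodule.span_le]
    intro y hy
    obtain ⟨f, rfl⟩ := Set.mem_pow.mp hy
    have hf : ∀ i, ∃ s : S, eps R S S' s = (f i : S ⊗[R] S') := fun i => (f i).2
    choose s hs using hf
    rw [List.prod_ofFn]
    have := actM_prod_eps R S S' M N' k D hD s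
    simp_rw [hs] at this
    exact this
  exact h1 (Ideal.pow_right_mono (JJ_le R S S') (k + 1) hx)

end act

section exist

variable (R S S' : Type u) [CommRing R] [CommRing S] [CommRing S'] [Algebra R S] [Algebra R S']
  [Algebra S S'] [IsScalarTower R S S'] [Algebra.FormallySmooth S S']
variable (M : Type u) [AddCommGroup M] [Module S M] [Module R M] [IsScalarTower R S M]
variable (N' : Type u) [AddCommGroup N'] [Module S' N'] [Module R N'] [IsScalarTower R S' N']
  [Module S N'] [IsScalarTower S S' N'] [IsScalarTower R S N']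
variable (k : ℕ) (D₀ : M →ₗ[R] N')

/-- the action of the quotient ring on an operator of order at most `k` -/
noncomputable def psiBar (q : QQ R S S' k) : M →ₗ[R] N' :=
  actM R S S' M N' (Function.surjInv Ideal.Quotient.mk_surjective q) D₀

variable (hD₀ : Diff16.IsDiffOpLE R S M N' k D₀)

include hD₀ in
theorem psiBar_mk (x : S ⊗[R] S') :
    psiBar R S S' M N' k D₀ (Ideal.Quotient.mk _ x) = actM R S S' M N' x D₀ := by
  unfold psiBar
  have h1 : Ideal.Quotient.mk ((JJ R S S') ^ (k + 1))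
      (Function.surjInv Ideal.Quotient.mk_surjective
        (Ideal.Quotient.mk ((JJ R S S') ^ (k + 1)) x)) = Ideal.Quotient.mk _ x :=
    Function.surjInv_eq _ _
  rw [Ideal.Quotient.eq] at h1
  have h2 := actM_eq_zero_of_mem R S S' M N' k D₀ hD₀ _ h1
  rw [map_sub, LinearMap.sub_apply, sub_eq_zero] at h2
  exact h2

include hD₀ in
theorem psiBar_add (q q' : QQ R S S' k) :
    psiBar R S S' M N' k D₀ (q + q') =
      psiBar R S S' M N' k D₀ q + psiBar R S S' M N' k D₀ q' := by
  obtain ⟨x, rfl⟩ := Ideal.Quotient.mk_surjective q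
  obtain ⟨y, rfl⟩ := Ideal.Quotient.mk_surjective q'
  rw [← map_add, psiBar_mk R S S' M N' k D₀ hD₀, psiBar_mk R S S' M N' k D₀ hD₀,
    psiBar_mk R S S' M N' k D₀ hD₀, map_add, LinearMap.add_apply]

include hD₀ in
theorem psiBar_zero : psiBar R S S' M N' k D₀ 0 = 0 := by
  rw [← map_zero (Ideal.Quotient.mk ((JJ R S S') ^ (k + 1))), psiBar_mk R S S' M N' k D₀ hD₀,
    map_zero, LinearMap.zero_apply]

include hD₀ in
theorem psiBar_one : psiBar R S S' M N' k D₀ 1 = D₀ := by
  rw [← map_one (Ideal.Quotient.mk ((JJ R S S') ^ (k + 1))), psiBar_mk R S S' M N' k D₀ hD₀,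
    map_one, Module.End.one_apply]

include hD₀ in
theorem psiBar_mk_mul (x : S ⊗[R] S') (q : QQ R S S' k) :
    psiBar R S S' M N' k D₀ (Ideal.Quotient.mk _ x * q) =
      actM R S S' M N' x (psiBar R S S' M N' k D₀ q) := by
  obtain ⟨y, rfl⟩ := Ideal.Quotient.mk_surjective q
  rw [← map_mul, psiBar_mk R S S' M N' k D₀ hD₀, psiBar_mk R S S' M N' k D₀ hD₀, actM_mul]

include hD₀ in
theorem psiBar_Tay_smul (s : S) (a : S') (m : M) :
    psiBar R S S' M N' k D₀ (Tay R S S' k (s • a)) m =
      psiBar R S S' M N' k D₀ (Tay R S S' k a) (s • m) := by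
  have h1 : Tay R S S' k (s • a) =
      Ideal.Quotient.mk ((JJ R S S') ^ (k + 1)) (s ⊗ₜ[R] (1 : S')) * Tay R S S' k a := by
    rw [map_smul]
    obtain ⟨y, hy⟩ := Ideal.Quotient.mk_surjective (Tay R S S' k a)
    rw [← hy, ← map_mul]
    have h2 : s • y = (s ⊗ₜ[R] (1 : S')) * y := by
      rw [Algebra.smul_def, Algebra.TensorProduct.algebraMap_apply, Algebra.algebraMap_self_apply]
    rw [← h2]
    rfl
  rw [h1, psiBar_mk_mul R S S' M N' k D₀ hD₀, actM_tmul, one_smul]

/-- the extended operator as an additive map -/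
noncomputable def extAdd : S' ⊗[S] M →+ N' :=
  TensorProduct.liftAddHom
    { toFun := fun a => (psiBar R S S' M N' k D₀ (Tay R S S' k a)).toAddMonoidHom
      map_zero' := by
        ext m
        rw [map_zero, psiBar_zero R S S' M N' k D₀ hD₀]
        rfl
      map_add' := by
        intro a b
        ext m
        rw [map_add, psiBar_add R S S' M N' k D₀ hD₀]
        rfl }
    (fun s a m => psiBar_Tay_smul R S S' M N' k D₀ hD₀ s a m)

theorem extAdd_tmul (a : S') (m : M) :
    extAdd R S S' M N' k D₀ hD₀ (a ⊗ₜ[S] m) = psiBar R S S' M N' k D₀ (Tay R S S' k a) m := rfl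

/-- the extended operator -/
noncomputable def ext : S' ⊗[S] M →ₗ[R] N' :=
  { toFun := extAdd R S S' M N' k D₀ hD₀
    map_add' := map_add _
    map_smul' := by
      intro r t
      induction t using TensorProduct.induction_on with
      | zero => simp
      | tmul a m =>
        have h1 : r • (a ⊗ₜ[S] m) = a ⊗ₜ[S] (r • m) := by
          rw [TensorProduct.smul_tmul', ← algebraMap_smul S r a, TensorProduct.smul_tmul,
            algebraMap_smul]
        rw [h1, extAdd_tmul, extAdd_tmul, map_smul, RingHom.id_apply]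
      | add x y hx hy => rw [smul_add, map_add, map_add, hx, hy, smul_add] }

theorem ext_tmul (a : S') (m : M) :
    ext R S S' M N' k D₀ hD₀ (a ⊗ₜ[S] m) = psiBar R S S' M N' k D₀ (Tay R S S' k a) m := rfl

theorem ext_one_tmul (m : M) : ext R S S' M N' k D₀ hD₀ ((1 : S') ⊗ₜ[S] m) = D₀ m := by
  rw [ext_tmul, map_one, psiBar_one R S S' M N' k D₀ hD₀]

/-- the ring map `S' ⊗ S' → QQ`, `a ⊗ b ↦ (1 ⊗ a) * Tay b` -/
noncomputable def theta : S' ⊗[R] S' →ₐ[R] QQ R S S' k :=
  Algebra.TensorProduct.lift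
    ((Ideal.Quotient.mkₐ R ((JJ R S S') ^ (k + 1))).comp
      (Algebra.TensorProduct.includeRight : S' →ₐ[R] S ⊗[R] S'))
    ((Tay R S S' k).restrictScalars R) (fun _ _ => Commute.all _ _)

theorem theta_tmul (a b : S') :
    theta R S S' k (a ⊗ₜ[R] b) =
      Ideal.Quotient.mk ((JJ R S S') ^ (k + 1)) ((1 : S) ⊗ₜ[R] a) * Tay R S S' k b := by
  simp [theta]

theorem gQ_theta (x : S' ⊗[R] S') : gQ R S S' k (theta R S S' k x) = mu R S' x := by
  induction x using TensorProduct.induction_on with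
  | zero => simp
  | tmul a b =>
    rw [theta_tmul, map_mul, gQ_mk, g0_tmul, map_one, one_mul, gQ_Tay]
    simp [mu]
  | add x y hx hy => rw [map_add, map_add, map_add, hx, hy]

theorem theta_eq_zero (x : S' ⊗[R] S') (hx : x ∈ KaehlerDifferential.ideal R S' ^ (k + 1)) :
    theta R S S' k x = 0 := by
  have h1 : (KaehlerDifferential.ideal R S').map (theta R S S' k : S' ⊗[R] S' →+* QQ R S S' k) ≤
      RingHom.ker (gQ R S S' k : QQ R S S' k →+* S') := by
    rw [Ideal.map_le_iff_le_comap]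
    intro y hy
    rw [Ideal.mem_comap, RingHom.mem_ker]
    show gQ R S S' k (theta R S S' k y) = 0
    rw [gQ_theta]
    exact (mem_ideal_iff R S' y).mp hy
  have h2 : theta R S S' k x ∈ ((KaehlerDifferential.ideal R S').map
      (theta R S S' k : S' ⊗[R] S' →+* QQ R S S' k)) ^ (k + 1) := by
    rw [← Ideal.map_pow]
    exact Ideal.mem_map_of_mem _ hx
  have h3 := Ideal.pow_right_mono h1 (k + 1) h2
  rw [ker_gQ_pow] at h3
  exact h3

include hD₀ in
theorem act_ext (x : S' ⊗[R] S') (a' : S') (m : M) :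
    act R S' (S' ⊗[S] M) N' x (ext R S S' M N' k D₀ hD₀) (a' ⊗ₜ[S] m) =
      psiBar R S S' M N' k D₀ (theta R S S' k x * Tay R S S' k a') m := by
  induction x using TensorProduct.induction_on with
  | zero =>
    rw [map_zero, LinearMap.zero_apply, LinearMap.zero_apply, map_zero, zero_mul,
      psiBar_zero R S S' M N' k D₀ hD₀, LinearMap.zero_apply]
  | tmul a b =>
    rw [act_tmul, TensorProduct.smul_tmul', smul_eq_mul, ext_tmul, theta_tmul, mul_assoc,
      psiBar_mk_mul R S S' M N' k D₀ hD₀, actM_tmul, one_smul, map_mul]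
  | add x y hx hy =>
    rw [map_add, LinearMap.add_apply, LinearMap.add_apply, hx, hy, map_add, add_mul,
      psiBar_add R S S' M N' k D₀ hD₀, LinearMap.add_apply]

theorem isDiffOpLE_ext :
    Diff16.IsDiffOpLE R S' (S' ⊗[S] M) N' k (ext R S S' M N' k D₀ hD₀) := by
  rw [isDiffOpLE_iff_pow_le]
  intro x hx
  rw [mem_ann]
  apply LinearMap.ext
  intro t
  induction t using TensorProduct.induction_on with
  | zero => simp
  | tmul a' m =>
    rw [act_ext R S S' M N' k D₀ hD₀, theta_eq_zero R S S' k x hx, zero_mul,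
      psiBar_zero R S S' M N' k D₀ hD₀]
    rfl
  | add t t' ht ht' => rw [map_add, ht, ht', map_add]

include hD₀ in
theorem exists_ext :
    ∃ D' : S' ⊗[S] M →ₗ[R] N', Diff16.IsDiffOpLE R S' (S' ⊗[S] M) N' k D' ∧
      ∀ m : M, D' ((1 : S') ⊗ₜ[S] m) = D₀ m :=
  ⟨ext R S S' M N' k D₀ hD₀, isDiffOpLE_ext R S S' M N' k D₀ hD₀,
    ext_one_tmul R S S' M N' k D₀ hD₀⟩

end exist

section main

variable (R S S' : Type u) [CommRing R] [CommRing S] [CommRing S'] [Algebra R S] [Algebra R S']
  [Algebra S S'] [IsScalarTower R S S'] [Algebra.FormallyEtale S S']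

theorem existsUnique_baseChange (M N : Type u) [AddCommGroup M] [Module S M] [Module R M]
    [IsScalarTower R S M] [AddCommGroup N] [Module S N] [Module R N] [IsScalarTower R S N]
    (k : ℕ) (D : M →ₗ[R] N) (hD : Diff16.IsDiffOpLE R S M N k D) :
    ∃! D' : S' ⊗[S] M →ₗ[R] S' ⊗[S] N,
      Diff16.IsDiffOpLE R S' (S' ⊗[S] M) (S' ⊗[S] N) k D' ∧
        D' ∘ₗ (TensorProduct.mk S S' M 1).restrictScalars R =
          (TensorProduct.mk S S' N 1).restrictScalars R ∘ₗ D := by
  have hD₀ : Diff16.IsDiffOpLE R S M (S' ⊗[S] N) k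
      ((TensorProduct.mk S S' N 1).restrictScalars R ∘ₗ D) := by
    have h1 : Diff16.IsDiffOpLE R S N (S' ⊗[S] N) 0
        ((TensorProduct.mk S S' N 1).restrictScalars R) :=
      fun s n => map_smul (TensorProduct.mk S S' N 1) s n
    have h2 := isDiffOpLE_comp k 0 D _ hD h1
    rwa [add_zero] at h2
  obtain ⟨D', h1, h2⟩ := exists_ext R S S' M (S' ⊗[S] N) k _ hD₀
  refine ⟨D', ⟨h1, LinearMap.ext (fun m => h2 m)⟩, ?_⟩
  rintro D'' ⟨h3, h4⟩
  have h5 : D'' - D' = 0 := by
    apply eq_zero_of_vanish R S S' M (S' ⊗[S] N) k _ (isDiffOpLE_sub h3 h1)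
    intro m
    rw [LinearMap.sub_apply, sub_eq_zero, h2 m]
    exact congrArg (fun f => f m) h4
  exact sub_eq_zero.mp h5

end main

end Groth.Agent.Lib.Helper16.DiffEt
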