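import Mathlib
import Groth.Prelude.Def_DiffOp
import Groth.Agent.Lib.Helper16.DiffEt3

/-!
# extension of differential operators to localized modules
-/

set_option autoImplicit false
set_option linter.unusedSectionVars false
set_option linter.style.haveILetI false

universe u

namespace Groth.Agent.Lib.Helper16.DiffEt

open Groth.Agent.Lib.Helper5.DiffOp
open scoped TensorProduct

section loc

variable (A B : Type u) [CommRing A] [CommRing B] [Algebra A B] (S : Submonoid B)
variable (M N : Type u) [AddCommGroup M] [Module B M] [Module A M] [IsScalarTower A B M]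
  [AddCommGroup N] [Module B N] [Module A N] [IsScalarTower A B N]

/-- the comparison of the base change with the localized module -/
noncomputable def eLoc (M : Type u) [AddCommGroup M] [Module B M] :
    Localization S ⊗[B] M ≃ₗ[Localization S] LocalizedModule S M :=
  (IsLocalizedModule.isBaseChange S (Localization S) (LocalizedModule.mkLinearMap S M)).equiv

theorem eLoc_one_tmul (M : Type u) [AddCommGroup M] [Module B M] (m : M) :
    eLoc B S M ((1 : Localization S) ⊗ₜ[B] m) = LocalizedModule.mkLinearMap S M m := by
  rw [eLoc, IsBaseChange.equiv_tmul, one_smul]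

theorem existsUnique_localized (k : ℕ) (D : M →ₗ[A] N) (hD : Diff16.IsDiffOpLE A B M N k D) :
    ∃! E : LocalizedModule S M →ₗ[A] LocalizedModule S N,
      Diff16.IsDiffOpLE A (Localization S) (LocalizedModule S M) (LocalizedModule S N) k E ∧
        E ∘ₗ (LocalizedModule.mkLinearMap S M).restrictScalars A =
          (LocalizedModule.mkLinearMap S N).restrictScalars A ∘ₗ D := by
  haveI : Algebra.FormallyEtale B (Localization S) := Algebra.FormallyEtale.of_isLocalization S
  obtain ⟨D', ⟨h1, h2⟩, h3⟩ := existsUnique_baseChange A B (Localization S) M N k D hD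
  have h2' : ∀ m : M, D' ((1 : Localization S) ⊗ₜ[B] m) = (1 : Localization S) ⊗ₜ[B] D m :=
    fun m => congrArg (fun f => f m) h2
  have hord : ∀ {X Y : Type u} [AddCommGroup X] [Module (Localization S) X] [Module A X]
      [IsScalarTower A (Localization S) X] [AddCommGroup Y] [Module (Localization S) Y] [Module A Y]
      [IsScalarTower A (Localization S) Y] (e : X →ₗ[Localization S] Y),
      Diff16.IsDiffOpLE A (Localization S) X Y 0 (e.restrictScalars A) :=
    fun e b t => map_smul e b t
  refine ⟨((eLoc B S N).toLinearMap.restrictScalars A) ∘ₗ D' ∘ₗ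
    ((eLoc B S M).symm.toLinearMap.restrictScalars A), ⟨?_, ?_⟩, ?_⟩
  · have h4 := isDiffOpLE_comp 0 k _ _ (hord (eLoc B S M).symm.toLinearMap) h1
    have h5 := isDiffOpLE_comp (0 + k) 0 _ _ h4 (hord (eLoc B S N).toLinearMap)
    rw [zero_add, add_zero] at h5
    exact h5
  · apply LinearMap.ext
    intro m
    simp only [LinearMap.comp_apply, LinearMap.restrictScalars_apply, LinearEquiv.coe_coe]
    rw [← eLoc_one_tmul B S M m, LinearEquiv.symm_apply_apply, h2', eLoc_one_tmul]
  · rintro E ⟨h6, h7⟩
    have h8 : ((eLoc B S N).symm.toLinearMap.restrictScalars A) ∘ₗ E ∘ₗ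
        ((eLoc B S M).toLinearMap.restrictScalars A) = D' := by
      apply h3
      constructor
      · have h4 := isDiffOpLE_comp 0 k _ _ (hord (eLoc B S M).toLinearMap) h6
        have h5 := isDiffOpLE_comp (0 + k) 0 _ _ h4 (hord (eLoc B S N).symm.toLinearMap)
        rw [zero_add, add_zero] at h5
        exact h5
      · apply LinearMap.ext
        intro m
        simp only [LinearMap.comp_apply, LinearMap.restrictScalars_apply, LinearEquiv.coe_coe,
          TensorProduct.mk_apply]
        rw [eLoc_one_tmul, LinearEquiv.symm_apply_eq, eLoc_one_tmul]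
        exact congrArg (fun f => f m) h7
    apply LinearMap.ext
    intro t
    have h9 := congrArg (fun f => f ((eLoc B S M).symm t)) h8
    simp only [LinearMap.comp_apply, LinearMap.restrictScalars_apply, LinearEquiv.coe_coe,
      LinearEquiv.apply_symm_apply] at h9
    simp only [LinearMap.comp_apply, LinearMap.restrictScalars_apply, LinearEquiv.coe_coe]
    rw [← h9, LinearEquiv.apply_symm_apply]

end loc

end Groth.Agent.Lib.Helper16.DiffEt
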