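import Mathlib

/-!
# Completion of a pi-torsion-free ring along (pi): complete, torsion-free, dense image
-/

set_option autoImplicit false
universe u

namespace Groth.Agent.Lib.Helper16.Dil

open AdicCompletion

variable {R : Type u} [CommRing R] (π : R)

/-- the `π`-adic completion. -/
abbrev Rhat : Type u := AdicCompletion (Ideal.span {π}) R

theorem map_span_eq :
    (Ideal.span {π}).map (algebraMap R (Rhat π)) = Ideal.span {algebraMap R (Rhat π) π} := by
  rw [Ideal.map_span, Set.image_singleton]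

theorem complete : IsAdicComplete (Ideal.span {algebraMap R (Rhat π) π}) (Rhat π) := by
  rw [← map_span_eq]
  exact AdicCompletion.isAdicComplete_self _ ⟨{π}, by simp⟩

theorem mem_pow_smul_top_iff (n : ℕ) (r : R) :
    r ∈ ((Ideal.span {π}) ^ n • ⊤ : Submodule R R) ↔ ∃ z, r = π ^ n * z := by
  rw [Ideal.span_singleton_pow, Submodule.ideal_span_singleton_smul,
    Submodule.mem_smul_pointwise_iff_exists]
  constructor
  · rintro ⟨b, -, rfl⟩
    exact ⟨b, rfl⟩
  · rintro ⟨z, rfl⟩
    exact ⟨z, trivial, rfl⟩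

theorem regular (h : IsSMulRegular R π) : IsSMulRegular (Rhat π) (algebraMap R (Rhat π) π) := by
  rw [isSMulRegular_iff_right_eq_zero_of_smul]
  intro x hx
  rw [smul_eq_mul, ← Algebra.smul_def] at hx
  obtain ⟨f, rfl⟩ := AdicCompletion.mk_surjective _ _ x
  apply AdicCompletion.mk_zero_of
  refine ⟨0, fun n _ => ⟨n + 1, by omega, n, le_refl n, ?_⟩⟩
  have h1 : (π • AdicCompletion.mk (Ideal.span {π}) R f).val (n + 1) = 0 := by rw [hx]; rfl
  rw [AdicCompletion.val_smul_apply, AdicCompletion.mk_apply_coe, ← map_smul,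
    Submodule.mkQ_apply, Submodule.Quotient.mk_eq_zero, mem_pow_smul_top_iff] at h1
  obtain ⟨z, hz⟩ := h1
  rw [mem_pow_smul_top_iff]
  refine ⟨z, ?_⟩
  apply h
  simp only [smul_eq_mul] at hz ⊢
  rw [hz]; ring

/-- density of `R` in its completion modulo `π^n`. -/
theorem exists_of_add (x : Rhat π) (n : ℕ) :
    ∃ (r : R) (y : Rhat π), x = of (Ideal.span {π}) R r + algebraMap R (Rhat π) (π ^ n) * y := by
  obtain ⟨f, rfl⟩ := AdicCompletion.mk_surjective _ _ x
  have hker : AdicCompletion.mk (Ideal.span {π}) R f - of (Ideal.span {π}) R (f n) ∈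
      LinearMap.ker (AdicCompletion.eval (Ideal.span {π}) R n) := by
    rw [LinearMap.mem_ker, map_sub, AdicCompletion.eval_of, AdicCompletion.eval_apply,
      AdicCompletion.mk_apply_coe, sub_self]
  rw [← AdicCompletion.pow_smul_top_eq_ker_eval (I := Ideal.span {π}) (M := R) ⟨{π}, by simp⟩,
    Ideal.span_singleton_pow, Submodule.ideal_span_singleton_smul,
    Submodule.mem_smul_pointwise_iff_exists] at hker
  obtain ⟨y, -, hy⟩ := hker
  refine ⟨f n, y, ?_⟩
  rw [← Algebra.smul_def, hy]
  abel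

end Groth.Agent.Lib.Helper16.Dil
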