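import Mathlib
import Groth.Agent.Lib.Helper16.Dil1

/-!
# Dilatation algebra: construction
-/

set_option autoImplicit false
universe u

namespace Groth.Agent.Lib.Helper16.Dil

open AdicCompletion MvPolynomial

section tors
variable (S : Type u) [CommRing S] (π : S)

/-- the `π`-power torsion ideal. -/
def tors : Ideal S where
  carrier := {x | ∃ k : ℕ, π ^ k * x = 0}
  add_mem' := by
    rintro x y ⟨k, hk⟩ ⟨l, hl⟩
    refine ⟨k + l, ?_⟩
    have : π ^ (k + l) * (x + y) = π ^ l * (π ^ k * x) + π ^ k * (π ^ l * y) := by ring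
    rw [this, hk, hl, mul_zero, mul_zero, add_zero]
  zero_mem' := ⟨0, by simp⟩
  smul_mem' := by
    rintro c x ⟨k, hk⟩
    refine ⟨k, ?_⟩
    rw [smul_eq_mul, mul_left_comm, hk, mul_zero]

variable {S π}

theorem mem_tors {x : S} : x ∈ tors S π ↔ ∃ k : ℕ, π ^ k * x = 0 := Iff.rfl

theorem quot_regular : IsSMulRegular (S ⧸ tors S π) (Ideal.Quotient.mk (tors S π) π) := by
  rw [isSMulRegular_iff_right_eq_zero_of_smul]
  intro x hx
  obtain ⟨y, rfl⟩ := Ideal.Quotient.mk_surjective x
  rw [smul_eq_mul, ← map_mul, Ideal.Quotient.eq_zero_iff_mem, mem_tors] at hx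
  obtain ⟨k, hk⟩ := hx
  rw [Ideal.Quotient.eq_zero_iff_mem, mem_tors]
  exact ⟨k + 1, by rw [pow_succ, mul_assoc]; exact hk⟩

theorem eq_zero_of_pow_mul {B : Type*} [CommRing B] {c : B} (hc : IsSMulRegular B c) (k : ℕ)
    {x : B} (h : c ^ k * x = 0) : x = 0 := by
  have := (hc.pow k)
  rw [isSMulRegular_iff_right_eq_zero_of_smul] at this
  exact this x h

end tors

theorem eq_of_forall_mk_eq {B : Type*} [CommRing B] (J : Ideal B) [IsHausdorff J B] (x y : B)
    (h : ∀ n, Ideal.Quotient.mk (J ^ n) x = Ideal.Quotient.mk (J ^ n) y) : x = y := by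
  rw [← sub_eq_zero]
  apply IsHausdorff.haus (I := J) inferInstance
  intro n
  rw [SModEq.zero, smul_eq_mul, Ideal.mul_top]
  exact Ideal.Quotient.eq.1 (h n)

section main

variable (p : ℕ) (A : Type u) [CommRing A] {n : ℕ} (a : Fin n → A)

/-- relations `p X_i - a_i`. -/
noncomputable def I0 : Ideal (MvPolynomial (Fin n) A) :=
  Ideal.span (Set.range fun i => C (p : A) * X i - C (a i))

abbrev D0 : Type u := MvPolynomial (Fin n) A ⧸ I0 p A a

abbrev D1 : Type u := D0 p A a ⧸ tors (D0 p A a) (p : D0 p A a)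

abbrev DD : Type u := Rhat ((p : ℕ) : D1 p A a)

/-- the quotient map from the polynomial ring. -/
noncomputable def q0 : MvPolynomial (Fin n) A →+* D1 p A a :=
  (Ideal.Quotient.mk (tors (D0 p A a) (p : D0 p A a))).comp (Ideal.Quotient.mk (I0 p A a))

theorem q0_surjective : Function.Surjective (q0 p A a) :=
  Ideal.Quotient.mk_surjective.comp Ideal.Quotient.mk_surjective

theorem q0_C (s : A) : q0 p A a (C s) = algebraMap A (D1 p A a) s := rfl

theorem q0_rel (i : Fin n) : algebraMap A (D1 p A a) (a i) = (p : D1 p A a) * q0 p A a (X i) := by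
  have h : (Ideal.Quotient.mk (I0 p A a)) (C (p : A) * X i - C (a i)) = 0 :=
    Ideal.Quotient.eq_zero_iff_mem.2 (Ideal.subset_span ⟨i, rfl⟩)
  have h2 : q0 p A a (C (p : A) * X i - C (a i)) = 0 := by
    unfold q0
    rw [RingHom.comp_apply, h, _root_.map_zero]
  rw [map_sub, map_mul, sub_eq_zero] at h2
  rw [← q0_C, ← h2]
  congr 1

theorem D1_regular : IsSMulRegular (D1 p A a) (p : D1 p A a) := by
  have := quot_regular (S := D0 p A a) (π := (p : D0 p A a))
  rwa [map_natCast] at this

theorem DD_complete : IsAdicComplete (Ideal.span {(p : DD p A a)}) (DD p A a) := by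
  have := complete ((p : ℕ) : D1 p A a)
  rwa [map_natCast] at this

theorem DD_regular : IsSMulRegular (DD p A a) (p : DD p A a) := by
  have := regular ((p : ℕ) : D1 p A a) (D1_regular p A a)
  rwa [map_natCast] at this

theorem DD_mem (i : Fin n) : algebraMap A (DD p A a) (a i) ∈ Ideal.span {(p : DD p A a)} := by
  have h1 : algebraMap A (DD p A a) (a i) =
      algebraMap (D1 p A a) (DD p A a) (algebraMap A (D1 p A a) (a i)) := rfl
  rw [h1, q0_rel, map_mul, map_natCast]
  exact Ideal.mul_mem_right _ _ (Ideal.subset_span rfl)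

end main

end Groth.Agent.Lib.Helper16.Dil
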