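import Mathlib
import Groth.Agent.Lib.Helper16.Dil2

/-!
# Dilatation algebra: maps to complete torsion-free targets
-/

set_option autoImplicit false
universe u

namespace Groth.Agent.Lib.Helper16.Dil

open AdicCompletion MvPolynomial

variable (p : ℕ) (A : Type u) [CommRing A] {n : ℕ} (a : Fin n → A)
variable (B : Type u) [CommRing B] [Algebra A B]

section lift
variable (hB : IsSMulRegular B (p : B)) (b : Fin n → B)
  (hb : ∀ i, algebraMap A B (a i) = (p : B) * b i)

/-- the map out of `D0`. -/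
noncomputable def phi1 : D0 p A a →ₐ[A] B :=
  Ideal.Quotient.liftₐ (I0 p A a) (aeval b) (by
    intro x hx
    refine Submodule.span_induction ?_ ?_ ?_ ?_ hx
    · rintro _ ⟨i, rfl⟩
      rw [map_sub, map_mul, aeval_C, aeval_C, aeval_X, hb, map_natCast, sub_self]
    · exact _root_.map_zero _
    · intro x y _ _ hx hy
      rw [map_add, hx, hy, add_zero]
    · intro c x _ hx
      rw [smul_eq_mul, map_mul, hx, mul_zero])

include hB in
theorem phi1_tors (x : D0 p A a) (hx : x ∈ tors (D0 p A a) (p : D0 p A a)) :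
    phi1 p A a B b hb x = 0 := by
  obtain ⟨k, hk⟩ := hx
  have := congrArg (phi1 p A a B b hb) hk
  rw [map_mul, map_pow, map_natCast, _root_.map_zero] at this
  exact eq_zero_of_pow_mul hB k this

/-- the map out of `D1`. -/
noncomputable def phi2 : D1 p A a →ₐ[A] B :=
  Ideal.Quotient.liftₐ (tors (D0 p A a) (p : D0 p A a)) (phi1 p A a B b hb)
    (fun x hx => phi1_tors p A a B hB b hb x hx)

theorem phi2_mem (k : ℕ) (r : D1 p A a)
    (hr : r ∈ ((Ideal.span {((p : ℕ) : D1 p A a)}) ^ k • ⊤ : Submodule (D1 p A a) (D1 p A a))) :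
    phi2 p A a B hB b hb r ∈ (Ideal.span {(p : B)}) ^ k := by
  rw [mem_pow_smul_top_iff] at hr
  obtain ⟨z, rfl⟩ := hr
  rw [map_mul, map_pow, map_natCast, Ideal.span_singleton_pow]
  exact Ideal.mul_mem_right _ _ (Ideal.subset_span rfl)

theorem phi2_pow_le (k : ℕ) :
    (Ideal.span {((p : ℕ) : D1 p A a)}) ^ k ≤
      ((Ideal.span {(p : B)}) ^ k).comap (phi2 p A a B hB b hb).toRingHom := by
  intro r hr
  rw [Ideal.mem_comap]
  apply phi2_mem
  rw [smul_eq_mul, Ideal.mul_top]
  exact hr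

/-- the compatible family of ring maps. -/
noncomputable def gfam (k : ℕ) : DD p A a →+* B ⧸ (Ideal.span {(p : B)}) ^ k :=
  (Ideal.quotientMap ((Ideal.span {(p : B)}) ^ k) (phi2 p A a B hB b hb).toRingHom
    (phi2_pow_le p A a B hB b hb k)).comp
    (evalₐ (Ideal.span {((p : ℕ) : D1 p A a)}) k).toRingHom

theorem gfam_mk (k : ℕ) (f : AdicCauchySequence (Ideal.span {((p : ℕ) : D1 p A a)}) (D1 p A a)) :
    gfam p A a B hB b hb k (AdicCompletion.mk _ _ f) =
      Ideal.Quotient.mk _ (phi2 p A a B hB b hb (f k)) := by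
  unfold gfam
  rw [RingHom.comp_apply]
  have : (evalₐ (Ideal.span {((p : ℕ) : D1 p A a)}) k).toRingHom (AdicCompletion.mk _ _ f) =
      Ideal.Quotient.mk _ (f k) := evalₐ_mk _ k f
  rw [this, Ideal.quotientMap_mk]
  rfl

theorem gfam_compat {m k : ℕ} (hle : m ≤ k) :
    (Ideal.Quotient.factorPow (Ideal.span {(p : B)}) hle).comp (gfam p A a B hB b hb k) =
      gfam p A a B hB b hb m := by
  apply RingHom.ext
  intro x
  obtain ⟨f, rfl⟩ := AdicCompletion.mk_surjective _ _ x
  rw [RingHom.comp_apply, gfam_mk, gfam_mk, Ideal.Quotient.factorPow, Ideal.Quotient.factor_mk,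
    Ideal.Quotient.eq, ← map_sub]
  apply phi2_mem
  have := f.property hle
  rw [SModEq.sub_mem] at this
  rw [← neg_sub]
  exact neg_mem this

end lift

end Groth.Agent.Lib.Helper16.Dil
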