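import Mathlib
import Groth.Agent.Lib.Helper16.Dil3

/-!
# Dilatation algebra: universal property (S19616)
-/

set_option autoImplicit false
universe u

namespace Groth.Agent.Lib.Helper16.Dil

open AdicCompletion MvPolynomial

variable (p : ℕ) (A : Type u) [CommRing A] {n : ℕ} (a : Fin n → A)
variable (B : Type u) [CommRing B] [Algebra A B]

section
variable [IsAdicComplete (Ideal.span {(p : B)}) B] (hB : IsSMulRegular B (p : B)) (b : Fin n → B)
  (hb : ∀ i, algebraMap A B (a i) = (p : B) * b i)

/-- the ring map `D → B`. -/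
noncomputable def Fhom : DD p A a →+* B :=
  IsAdicComplete.liftRingHom (Ideal.span {(p : B)}) (gfam p A a B hB b hb)
    (fun hle => gfam_compat p A a B hB b hb hle)

theorem Fhom_commutes (s : A) : Fhom p A a B hB b hb (algebraMap A (DD p A a) s) = algebraMap A B s := by
  apply eq_of_forall_mk_eq (Ideal.span {(p : B)})
  intro k
  unfold Fhom
  rw [IsAdicComplete.mk_liftRingHom]
  have h1 : algebraMap A (DD p A a) s =
      of (Ideal.span {((p : ℕ) : D1 p A a)}) (D1 p A a) (algebraMap A (D1 p A a) s) := rfl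
  rw [h1]
  unfold gfam
  rw [RingHom.comp_apply]
  have : (evalₐ (Ideal.span {((p : ℕ) : D1 p A a)}) k).toRingHom
      (of (Ideal.span {((p : ℕ) : D1 p A a)}) (D1 p A a) (algebraMap A (D1 p A a) s)) =
      Ideal.Quotient.mk _ (algebraMap A (D1 p A a) s) := evalₐ_of _ k _
  rw [this, Ideal.quotientMap_mk]
  congr 1
  exact (phi2 p A a B hB b hb).commutes s

/-- the algebra map `D → B`. -/
noncomputable def Falg : DD p A a →ₐ[A] B :=
  { Fhom p A a B hB b hb with
    commutes' := Fhom_commutes p A a B hB b hb }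

end

section uniq
variable (hB : IsSMulRegular B (p : B)) [IsHausdorff (Ideal.span {(p : B)}) B]

include hB in
theorem agree_on_poly (G G' : DD p A a →ₐ[A] B) (q : MvPolynomial (Fin n) A) :
    G (algebraMap (D1 p A a) (DD p A a) (q0 p A a q)) =
      G' (algebraMap (D1 p A a) (DD p A a) (q0 p A a q)) := by
  induction q using MvPolynomial.induction_on with
  | C s =>
    have h1 : algebraMap (D1 p A a) (DD p A a) (q0 p A a (C s)) = algebraMap A (DD p A a) s := rfl
    rw [h1, G.commutes, G'.commutes]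
  | add q1 q2 h1 h2 => rw [map_add, map_add, map_add, map_add, h1, h2]
  | mul_X q i hq =>
    rw [map_mul, map_mul, map_mul, map_mul, hq]
    congr 1
    have key : ∀ H : DD p A a →ₐ[A] B,
        (p : B) * H (algebraMap (D1 p A a) (DD p A a) (q0 p A a (X i))) = algebraMap A B (a i) := by
      intro H
      have h1 : algebraMap A (DD p A a) (a i) =
          algebraMap (D1 p A a) (DD p A a) (algebraMap A (D1 p A a) (a i)) := rfl
      rw [← H.commutes, h1, q0_rel, map_mul, map_mul, map_natCast, map_natCast]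
    have := (key G).trans (key G').symm
    rw [isSMulRegular_iff_right_eq_zero_of_smul] at hB
    rw [← sub_eq_zero]
    apply hB
    rw [smul_eq_mul, mul_sub, this, sub_self]

include hB in
theorem alg_unique (G G' : DD p A a →ₐ[A] B) : G = G' := by
  apply AlgHom.ext
  intro x
  apply eq_of_forall_mk_eq (Ideal.span {(p : B)})
  intro k
  obtain ⟨r, y, rfl⟩ := exists_of_add ((p : ℕ) : D1 p A a) x k
  obtain ⟨q, rfl⟩ := q0_surjective p A a r
  have hof : of (Ideal.span {((p : ℕ) : D1 p A a)}) (D1 p A a) (q0 p A a q) =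
      algebraMap (D1 p A a) (DD p A a) (q0 p A a q) := rfl
  have hpk : ∀ H : DD p A a →ₐ[A] B,
      H (algebraMap (D1 p A a) (DD p A a) (((p : ℕ) : D1 p A a) ^ k)) = (p : B) ^ k := by
    intro H
    rw [map_pow, map_pow, map_natCast, map_natCast]
  have hH : ∀ H : DD p A a →ₐ[A] B,
      H (of (Ideal.span {((p : ℕ) : D1 p A a)}) (D1 p A a) (q0 p A a q) +
        algebraMap (D1 p A a) (DD p A a) (((p : ℕ) : D1 p A a) ^ k) * y) =
      H (algebraMap (D1 p A a) (DD p A a) (q0 p A a q)) + (p : B) ^ k * H y := by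
    intro H
    rw [hof, map_add, map_mul, hpk H]
  rw [hH G, hH G', agree_on_poly p A a B hB G G' q, Ideal.Quotient.eq, add_sub_add_left_eq_sub,
    ← mul_sub, Ideal.span_singleton_pow]
  exact Ideal.mul_mem_right _ _ (Ideal.subset_span rfl)

end uniq

theorem main (p : ℕ) [Fact p.Prime]
    (A : Type u) [CommRing A] [IsAdicComplete (Ideal.span {(p : A)}) A]
    (hA : IsSMulRegular A (p : A)) {n : ℕ} (a : Fin n → A) :
    ∃ (D : Type u) (_ : CommRing D) (_ : Algebra A D),
      IsAdicComplete (Ideal.span {(p : D)}) D ∧ IsSMulRegular D (p : D) ∧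
      (∀ i, algebraMap A D (a i) ∈ Ideal.span {(p : D)}) ∧
      ∀ (B : Type u) [CommRing B] [Algebra A B] [IsAdicComplete (Ideal.span {(p : B)}) B],
        IsSMulRegular B (p : B) → (∀ i, algebraMap A B (a i) ∈ Ideal.span {(p : B)}) →
          Nonempty (D →ₐ[A] B) ∧ Subsingleton (D →ₐ[A] B) ∧
            (Function.Surjective (algebraMap A B) → ∀ f : D →ₐ[A] B, Function.Surjective f) := by
  refine ⟨DD p A a, inferInstance, inferInstance, DD_complete p A a, DD_regular p A a,
    DD_mem p A a, ?_⟩
  intro B _ _ _ hB hmem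
  have hb : ∀ i, ∃ c, algebraMap A B (a i) = (p : B) * c := by
    intro i
    obtain ⟨c, hc⟩ := Ideal.mem_span_singleton'.1 (hmem i)
    exact ⟨c, by rw [← hc, mul_comm]⟩
  choose b hb using hb
  refine ⟨⟨Falg p A a B hB b hb⟩, ⟨fun G G' => alg_unique p A a B hB G G'⟩, ?_⟩
  intro hs f y
  obtain ⟨s, rfl⟩ := hs y
  exact ⟨algebraMap A _ s, f.commutes s⟩

end Groth.Agent.Lib.Helper16.Dil
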