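import Mathlib

/-!
# `Ext` out of a finitely generated module commutes with directed colimits (helper16)

Over a Noetherian ring `R`, for a finitely generated module `Q` and a directed system `F` of
modules with colimit cocone `c`, every class in `Ext^i(Q, colim F)` comes from some
`Ext^i(Q, F l)`, and a class in `Ext^i(Q, F l)` dying in the colimit dies at a finite stage.
-/

set_option autoImplicit false
universe u
open CategoryTheory Limits

namespace Groth.Agent.Lib.Helper16.ExtColim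

variable {R : Type u} [CommRing R] {Λ : Type u} [Preorder Λ] [IsDirected Λ (· ≤ ·)] [Nonempty Λ]
  {F : Λ ⥤ ModuleCat.{u} R} {c : Cocone F} (hc : IsColimit c)

include hc

theorem exists_rep (x : c.pt) : ∃ (l : Λ) (y : F.obj l), (c.ι.app l).hom y = x :=
  Concrete.isColimit_exists_rep F hc x

theorem exists_map_eq_zero {l : Λ} (y : F.obj l) (hy : (c.ι.app l).hom y = 0) :
    ∃ (m : Λ) (h : l ≤ m), (F.map (homOfLE h)).hom y = 0 := by
  have h1 : (c.ι.app l).hom y = (c.ι.app l).hom 0 := by rw [hy, map_zero]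
  obtain ⟨k, f, g, hfg⟩ := (Concrete.isColimit_rep_eq_iff_exists F hc (i := l) (j := l) y 0).mp h1
  refine ⟨k, leOfHom f, ?_⟩
  have hf : f = homOfLE (leOfHom f) := Subsingleton.elim _ _
  rw [← hf]
  have : (F.map f).hom y = (F.map g).hom 0 := hfg
  rw [this, map_zero]

omit hc [IsDirected Λ (· ≤ ·)] [Nonempty Λ] in
theorem map_map {l m n : Λ} (h₁ : l ≤ m) (h₂ : m ≤ n) (y : F.obj l) :
    (F.map (homOfLE h₂)).hom ((F.map (homOfLE h₁)).hom y) = (F.map (homOfLE (h₁.trans h₂))).hom y := by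
  have : F.map (homOfLE (h₁.trans h₂)) = F.map (homOfLE h₁) ≫ F.map (homOfLE h₂) := by
    rw [← F.map_comp]
    rfl
  rw [this]
  rfl

omit hc [IsDirected Λ (· ≤ ·)] [Nonempty Λ] in
theorem ι_map {l m : Λ} (h : l ≤ m) (y : F.obj l) :
    (c.ι.app m).hom ((F.map (homOfLE h)).hom y) = (c.ι.app l).hom y := by
  have := c.w (homOfLE h)
  rw [← this]
  rfl

/-- A map from a finitely generated module into a stage which dies in the colimit dies at a
later stage. -/
theorem exists_map_comp_eq_zero {N : Type u} [AddCommGroup N] [Module R N] [Module.Finite R N]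
    {l : Λ} (f : N →ₗ[R] F.obj l) (hf : (c.ι.app l).hom ∘ₗ f = 0) :
    ∃ (m : Λ) (h : l ≤ m), (F.map (homOfLE h)).hom ∘ₗ f = 0 := by
  classical
  obtain ⟨s, hs⟩ := (Module.Finite.fg_top : (⊤ : Submodule R N).FG)
  have h0 : ∀ q : N, ∃ (m : Λ) (h : l ≤ m), (F.map (homOfLE h)).hom (f q) = 0 := fun q =>
    exists_map_eq_zero hc (f q) (LinearMap.congr_fun hf q)
  choose μ hμ hμ0 using h0
  obtain ⟨m, hm⟩ := Finset.exists_le (insert l (s.image μ))
  have hlm : l ≤ m := hm l (Finset.mem_insert_self _ _)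
  refine ⟨m, hlm, ?_⟩
  apply LinearMap.ext_on hs
  intro q hq
  have hq' : μ q ≤ m := hm (μ q) (Finset.mem_insert_of_mem (Finset.mem_image_of_mem μ hq))
  rw [LinearMap.comp_apply, LinearMap.zero_apply, ← map_map (hμ q) hq', hμ0, map_zero]

/-- A map from a finitely generated module over a Noetherian ring into the colimit factors
through a stage. -/
theorem exists_factor [IsNoetherianRing R] {Q : Type u} [AddCommGroup Q] [Module R Q]
    [Module.Finite R Q] (g : Q →ₗ[R] c.pt) :
    ∃ (l : Λ) (f : Q →ₗ[R] F.obj l), (c.ι.app l).hom ∘ₗ f = g := by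
  classical
  obtain ⟨n, π, hπ⟩ := Module.Finite.exists_fin' R Q
  have h0 : ∀ j : Fin n, ∃ (l : Λ) (y : F.obj l),
      (c.ι.app l).hom y = g (π (Pi.single j 1)) := fun j => exists_rep hc _
  choose lam y hy using h0
  obtain ⟨m, hm⟩ := Finset.exists_le (Finset.univ.image lam)
  have hm' : ∀ j, lam j ≤ m := fun j => hm _ (Finset.mem_image_of_mem lam (Finset.mem_univ j))
  let y' : Fin n → F.obj m := fun j => (F.map (homOfLE (hm' j))).hom (y j)
  let G : (Fin n → R) →ₗ[R] F.obj m := Fintype.linearCombination R y'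
  have hG : (c.ι.app m).hom ∘ₗ G = g ∘ₗ π := by
    apply LinearMap.pi_ext
    intro j x
    simp only [LinearMap.comp_apply, G, Fintype.linearCombination_apply_single, map_smul]
    rw [show y' j = (F.map (homOfLE (hm' j))).hom (y j) from rfl, ι_map, hy]
    rw [← map_smul, ← map_smul]
    congr 2
    ext k
    simp [Pi.single_apply]
  have hK : (c.ι.app m).hom ∘ₗ (G ∘ₗ (LinearMap.ker π).subtype) = 0 := by
    rw [← LinearMap.comp_assoc, hG, LinearMap.comp_assoc]
    ext ⟨x, hx⟩
    simpa using congrArg g (LinearMap.mem_ker.mp hx)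
  obtain ⟨m', hmm', hz⟩ := exists_map_comp_eq_zero hc (G ∘ₗ (LinearMap.ker π).subtype) hK
  let G' : (Fin n → R) →ₗ[R] F.obj m' := (F.map (homOfLE hmm')).hom ∘ₗ G
  have hle : LinearMap.ker π ≤ LinearMap.ker G' := by
    intro x hx
    have := LinearMap.congr_fun hz ⟨x, hx⟩
    simpa [G'] using this
  let f' : Q →ₗ[R] F.obj m' :=
    (Submodule.liftQ (LinearMap.ker π) G' hle) ∘ₗ (π.quotKerEquivOfSurjective hπ).symm.toLinearMap
  have hf' : f' ∘ₗ π = G' := by
    refine LinearMap.ext fun x => ?_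
    simp only [f', LinearMap.comp_apply, LinearEquiv.coe_coe]
    have : (π.quotKerEquivOfSurjective hπ).symm (π x) = Submodule.Quotient.mk x := by
      rw [LinearEquiv.symm_apply_eq]
      rfl
    rw [this, Submodule.liftQ_apply]
  refine ⟨m', f', ?_⟩
  rw [← LinearMap.cancel_right hπ, LinearMap.comp_assoc, hf', ← hG]
  ext x
  simp only [G', LinearMap.comp_apply]
  rw [ι_map]

open Abelian

omit hc [IsDirected Λ (· ≤ ·)] [Nonempty Λ] in
theorem sub_comp' {X Y Z : ModuleCat.{u} R} {a b n : ℕ} (α β : Ext.{u} X Y a) (γ : Ext.{u} Y Z b)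
    (h : a + b = n) : (α - β).comp γ h = α.comp γ h - β.comp γ h := by
  rw [sub_eq_add_neg, Ext.add_comp, Ext.neg_comp, ← sub_eq_add_neg]

/-- `Ext^i(Q, -)` commutes with directed colimits for finitely generated `Q` over a Noetherian
ring, elementwise form. -/
theorem ext_colim [IsNoetherianRing R] (i : ℕ) : ∀ (Q : ModuleCat.{u} R) [Module.Finite R Q],
    (∀ e : Ext.{u} Q c.pt i, ∃ (l : Λ) (e' : Ext.{u} Q (F.obj l) i),
      e'.comp (Ext.mk₀ (c.ι.app l)) (add_zero i) = e) ∧
    (∀ (l : Λ) (e' : Ext.{u} Q (F.obj l) i), e'.comp (Ext.mk₀ (c.ι.app l)) (add_zero i) = 0 →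
      ∃ (m : Λ) (h : l ≤ m), e'.comp (Ext.mk₀ (F.map (homOfLE h))) (add_zero i) = 0) := by
  induction i with
  | zero =>
    intro Q _
    constructor
    · intro e
      obtain ⟨g, rfl⟩ := (Ext.mk₀_bijective Q c.pt).2 e
      obtain ⟨l, f, hf⟩ := exists_factor hc g.hom
      refine ⟨l, Ext.mk₀ (ModuleCat.ofHom f), ?_⟩
      rw [Ext.mk₀_comp_mk₀]
      congr 1
      apply ModuleCat.hom_ext
      exact hf
    · intro l e' he'
      obtain ⟨f, rfl⟩ := (Ext.mk₀_bijective Q (F.obj l)).2 e'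
      rw [Ext.mk₀_comp_mk₀] at he'
      have h0 : f ≫ c.ι.app l = 0 := (Ext.mk₀_bijective _ _).1 (by rw [he', Ext.mk₀_zero])
      obtain ⟨m, h, hz⟩ := exists_map_comp_eq_zero hc f.hom (by
        have := congrArg ModuleCat.Hom.hom h0
        exact this)
      refine ⟨m, h, ?_⟩
      rw [Ext.mk₀_comp_mk₀]
      have : f ≫ F.map (homOfLE h) = 0 := by
        apply ModuleCat.hom_ext
        exact hz
      rw [this, Ext.mk₀_zero]
  | succ i ih =>
    intro Q _
    obtain ⟨P, _, _, _, _, π, hπ⟩ := Module.exists_finite_presentation R Q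
    have hS := LinearMap.shortExact_shortComplexKer hπ
    set S := π.shortComplexKer with hSdef
    have hP : Projective S.X₂ := (IsProjective.iff_projective P).mp inferInstance
    have hK : Module.Finite R S.X₁ := by
      change Module.Finite R (LinearMap.ker π)
      infer_instance
    have hP' : Module.Finite R S.X₂ := by
      change Module.Finite R P
      infer_instance
    have key : ∀ (Y : ModuleCat.{u} R) (e : Ext.{u} S.X₃ Y (i + 1)),
        ∃ x₁ : Ext.{u} S.X₁ Y i, hS.extClass.comp x₁ (add_comm 1 i) = e := by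
      intro Y e
      exact Ext.contravariant_sequence_exact₃ hS Y e (Ext.eq_zero_of_projective _) (add_comm 1 i)
    constructor
    · intro e
      obtain ⟨x₁, rfl⟩ := key c.pt e
      obtain ⟨l, x₁', hx₁'⟩ := (ih S.X₁).1 x₁
      refine ⟨l, hS.extClass.comp x₁' (add_comm 1 i), ?_⟩
      rw [Ext.comp_assoc _ _ _ (add_comm 1 i) (add_zero i) (by omega), hx₁']
    · intro l e' he'
      obtain ⟨x₁, rfl⟩ := key (F.obj l) e'
      rw [Ext.comp_assoc _ _ _ (add_comm 1 i) (add_zero i) (by omega)] at he'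
      obtain ⟨x₂, hx₂⟩ := Ext.contravariant_sequence_exact₁ hS c.pt _ (add_comm 1 i) he'
      obtain ⟨l₂, x₂', hx₂'⟩ := (ih S.X₂).1 x₂
      obtain ⟨l₃, hl₃, hl₃'⟩ := exists_ge_ge l l₂
      -- the difference at stage `l₃`
      have hy : (x₁.comp (Ext.mk₀ (F.map (homOfLE hl₃))) (add_zero i) -
          (Ext.mk₀ S.f).comp (x₂'.comp (Ext.mk₀ (F.map (homOfLE hl₃'))) (add_zero i))
            (zero_add i)).comp (Ext.mk₀ (c.ι.app l₃)) (add_zero i) = 0 := by
        rw [sub_comp', Ext.comp_assoc_of_third_deg_zero, Ext.mk₀_comp_mk₀,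
          Ext.comp_assoc _ _ _ (zero_add i) (add_zero i) (by omega),
          Ext.comp_assoc_of_third_deg_zero, Ext.mk₀_comp_mk₀, c.w, c.w, hx₂', hx₂, sub_self]
      obtain ⟨m, hm, hz⟩ := (ih S.X₁).2 l₃ _ hy
      refine ⟨m, hl₃.trans hm, ?_⟩
      rw [sub_comp', sub_eq_zero, Ext.comp_assoc_of_third_deg_zero, Ext.mk₀_comp_mk₀,
        ← F.map_comp, Ext.comp_assoc _ _ _ (zero_add i) (add_zero i) (by omega)] at hz
      have hcomp : homOfLE hl₃ ≫ homOfLE hm = homOfLE (hl₃.trans hm) := rfl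
      rw [hcomp] at hz
      rw [Ext.comp_assoc _ _ _ (add_comm 1 i) (add_zero i) (by omega), hz]
      exact hS.extClass_comp_assoc _

end Groth.Agent.Lib.Helper16.ExtColim
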