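import Mathlib
import Groth.Agent.Lib.Helper16.ABApps
import Groth.Agent.Lib.Helper18.SerreReg2
import Groth.Agent.Lib.Helper16.ExtFlatBaseChange

/-!
# Ext^q(M, L) = 0 for q + depth > dim over regular rings (lemma requested by lead)
-/

set_option autoImplicit false

universe u
open CategoryTheory Abelian

namespace Groth.Agent.Lib.Helper16.ExtRegDepth

section iso

universe v' w' u'

variable {C : Type u'} [Category.{v'} C] [Abelian C] [HasExt.{w'} C]

theorem subsingleton_ext_of_iso_right (X : C) {Y Y' : C} (f : Y ≅ Y') (i : ℕ)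
    (h : Subsingleton (Ext X Y' i)) : Subsingleton (Ext X Y i) := by
  refine ⟨fun a b => ?_⟩
  suffices hz : ∀ e : Ext X Y i, e = 0 by rw [hz a, hz b]
  intro e
  have : e = (e.comp (Ext.mk₀ f.hom) (add_zero i)).comp (Ext.mk₀ f.inv) (add_zero i) := by
    rw [Ext.comp_assoc_of_third_deg_zero, Ext.mk₀_comp_mk₀, Iso.hom_inv_id, Ext.comp_mk₀_id]
  rw [this, Subsingleton.elim (e.comp (Ext.mk₀ f.hom) (add_zero i)) 0, Ext.zero_comp]

theorem subsingleton_ext_of_iso_left {X X' : C} (f : X ≅ X') (Y : C) (i : ℕ)
    (h : Subsingleton (Ext X' Y i)) : Subsingleton (Ext X Y i) := by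
  refine ⟨fun a b => ?_⟩
  suffices hz : ∀ e : Ext X Y i, e = 0 by rw [hz a, hz b]
  intro e
  have : e = (Ext.mk₀ f.hom).comp ((Ext.mk₀ f.inv).comp e (zero_add i)) (zero_add i) := by
    rw [Ext.mk₀_comp_mk₀_assoc, Iso.hom_inv_id, Ext.mk₀_id_comp]
  rw [this, Subsingleton.elim ((Ext.mk₀ f.inv).comp e (zero_add i)) 0, Ext.comp_zero]

end iso

/-- Local case: over a regular local ring `B` of dimension `n`, a finite module of depth `≥ d`
has `Ext^q(M, B) = 0` for `q + d > n`. -/
theorem local_case (B : Type u) [CommRing B] [IsRegularLocalRing B] (n : ℕ)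
    (hn : ringKrullDim B = n) (M : Type u) [AddCommGroup M] [Module B M] [Module.Finite B M]
    (d q : ℕ) (hd : (d : ℕ∞) ≤ LocCoh.depth B M) (hq : n < q + d) :
    Subsingleton (Abelian.Ext (ModuleCat.of B M) (ModuleCat.of B B) q) := by
  rcases subsingleton_or_nontrivial M with hsub | hnt
  · have hz : Limits.IsZero (ModuleCat.of B M) := ModuleCat.isZero_of_subsingleton _
    have h0 := hz.hasProjectiveDimensionLT_zero
    exact HasProjectiveDimensionLT.subsingleton (ModuleCat.of B M) 0 q (Nat.zero_le q)
      (ModuleCat.of B B)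
  · have hpdn := Groth.Agent.Lib.Helper4.hasProjectiveDimensionLT_of_isRegularLocalRing_of_finite
      B n hn M
    have hnz : ¬ Limits.IsZero (ModuleCat.of B M) := fun hz =>
      not_subsingleton M (ModuleCat.subsingleton_of_isZero hz)
    have hfin : projectiveDimension (ModuleCat.of B M) ≠ ⊤ := by
      rw [projectiveDimension_ne_top_iff]
      exact ⟨n, hpdn⟩
    obtain ⟨e, he⟩ := Groth.Agent.Lib.Helper16.PDChange.exists_nat_pd _ hfin hnz
    have heLT : HasProjectiveDimensionLT (ModuleCat.of B M) (e + 1) := by
      rw [← projectiveDimension_lt_iff, he]; exact_mod_cast Nat.lt_succ_self e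
    have hab := Groth.Agent.Lib.Helper16.AusBuch.auslander_buchsbaum (R := B) M e he
    have hdA : LocCoh.depth B B = n := by
      have hCM := Groth.Agent.Lib.Helper16.PDR.isCohenMacaulayModule_self_of_isRegularLocalRing B
      unfold LocCoh.IsCohenMacaulayModule at hCM
      rw [Module.supportDim_self_eq_ringKrullDim, hn] at hCM
      exact_mod_cast hCM.symm
    obtain ⟨δ, hδ⟩ := ENat.ne_top_iff_exists.mp
      (Groth.Agent.Lib.Helper18.CM.depth_ne_top (R := B) M)
    rw [hdA, ← hδ] at hab
    have hneδ : n = e + δ := by exact_mod_cast hab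
    rw [← hδ] at hd
    have hdδ : d ≤ δ := by exact_mod_cast hd
    exact HasProjectiveDimensionLT.subsingleton (ModuleCat.of B M) (e + 1) q (by omega) _

open TensorProduct in
/-- localization step -/
theorem subsingleton_localized_ext {A : Type u} [CommRing A] [IsNoetherianRing A]
    (P : Ideal A) [P.IsPrime] (M L : Type u) [AddCommGroup M]
    [Module A M] [Module.Finite A M] [AddCommGroup L] [Module A L] (j : ℕ)
    (eL : LocalizedModule P.primeCompl L ≃ₗ[Localization.AtPrime P] Localization.AtPrime P)
    (h : Subsingleton (Ext.{u}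
        (ModuleCat.of (Localization.AtPrime P) (LocalizedModule P.primeCompl M))
        (ModuleCat.of (Localization.AtPrime P) (Localization.AtPrime P)) j)) :
    Subsingleton (LocalizedModule P.primeCompl (Ext.{u} (ModuleCat.of A M) (ModuleCat.of A L) j)) := by
  have hflat : Module.Flat A (Localization.AtPrime P) := IsLocalization.flat _ P.primeCompl
  obtain ⟨e⟩ := ExtBC.nonempty_ext_baseChange_equiv (A := A) (Localization.AtPrime P) L j M
  let e1 := LocalizedModule.equivTensorProduct P.primeCompl
    (Ext.{u} (ModuleCat.of A M) (ModuleCat.of A L) j)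
  let i1 : ModuleCat.of (Localization.AtPrime P) (Localization.AtPrime P ⊗[A] M) ≅
      ModuleCat.of (Localization.AtPrime P) (LocalizedModule P.primeCompl M) :=
    (LocalizedModule.equivTensorProduct P.primeCompl M).symm.toModuleIso
  let i2 : ModuleCat.of (Localization.AtPrime P) (Localization.AtPrime P ⊗[A] L) ≅
      ModuleCat.of (Localization.AtPrime P) (Localization.AtPrime P) :=
    ((LocalizedModule.equivTensorProduct P.primeCompl L).symm.trans eL).toModuleIso
  have h2 := subsingleton_ext_of_iso_left i1 _ j h
  have h1 := subsingleton_ext_of_iso_right _ i2 j h2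
  exact (e1.trans e).toEquiv.subsingleton

/-- **Requested lemma**: `Ext^q_A(M, L) = 0` for `q + d > N` when `L` is locally free of rank one,
`A` is regular of dimension `N` at all maximal ideals in the support of `M`, and `M` has depth
`≥ d` at those points. -/
theorem ext_subsingleton_of_regular_of_depth (A : Type u) [CommRing A] [IsNoetherianRing A]
    (M L : Type u) [AddCommGroup M] [Module A M] [Module.Finite A M] [AddCommGroup L] [Module A L]
    (N d : Nat)
    (hL : ∀ (p : Ideal A) [p.IsMaximal], Nonempty (LocalizedModule p.primeCompl L ≃ₗ[Localization.AtPrime p] Localization.AtPrime p))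
    (hreg : ∀ (p : Ideal A) [p.IsMaximal], Module.annihilator A M ≤ p →
      IsRegularLocalRing (Localization.AtPrime p) ∧ ringKrullDim (Localization.AtPrime p) = N)
    (hdepth : ∀ (p : Ideal A) [p.IsMaximal], Module.annihilator A M ≤ p →
      (d : ℕ∞) ≤ LocCoh.depth (Localization.AtPrime p) (LocalizedModule p.primeCompl M))
    (q : Nat) (hq : N < q + d) :
    Subsingleton (Abelian.Ext (ModuleCat.of A M) (ModuleCat.of A L) q) := by
  apply Module.subsingleton_of_localization_maximal (R := A)
    (fun p => LocalizedModule p.primeCompl (Abelian.Ext (ModuleCat.of A M) (ModuleCat.of A L) q))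
    (fun p => LocalizedModule.mkLinearMap p.primeCompl _)
  intro p hp
  obtain ⟨eL⟩ := hL p
  apply subsingleton_localized_ext p M L q eL
  by_cases hann : Module.annihilator A M ≤ p
  · obtain ⟨hR, hdim⟩ := hreg p hann
    exact local_case (Localization.AtPrime p) N hdim (LocalizedModule p.primeCompl M) d q
      (hdepth p hann) hq
  · -- `M_p = 0`
    have hsub : Subsingleton (LocalizedModule p.primeCompl M) := by
      obtain ⟨s, hs, hsp⟩ := Set.not_subset.1 hann
      rw [LocalizedModule.subsingleton_iff]
      intro m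
      exact ⟨s, hsp, Module.mem_annihilator.1 hs m⟩
    have hz : Limits.IsZero (ModuleCat.of (Localization.AtPrime p)
        (LocalizedModule p.primeCompl M)) := ModuleCat.isZero_of_subsingleton _
    have h0 := hz.hasProjectiveDimensionLT_zero
    exact HasProjectiveDimensionLT.subsingleton _ 0 q (Nat.zero_le q) _

end Groth.Agent.Lib.Helper16.ExtRegDepth
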