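import Mathlib
import Groth.Agent.Lib.Helper16.LocalDualityGor
import Groth.Agent.Lib.Helper16.RegularGorenstein
import Groth.Agent.Lib.Helper16.HomQuotientPrime
import Groth.Agent.Lib.Helper16.LocCohGrothVanish

/-!
# Local duality over a regular local ring, vanishing form; Grothendieck vanishing (lemma request 3 from lead)
-/

set_option autoImplicit false

universe u
open CategoryTheory Abelian IsLocalRing

namespace Groth.Agent.Lib.Helper16.ExtRegDepth

/-- `Hom(N, E) = 0` iff `N = 0` for `N` finite and `E` an injective hull of the residue field. -/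
theorem subsingleton_hom_hull_iff {R : Type u} [CommRing R] [IsLocalRing R]
    (E : Type u) [AddCommGroup E] [Module R E] (f : ResidueField R →ₗ[R] E)
    (hf : InjHull.IsInjectiveHull f) (N : Type u) [AddCommGroup N] [Module R N]
    [Module.Finite R N] :
    Subsingleton (N →ₗ[R] E) ↔ Subsingleton N := by
  constructor
  · intro h
    by_contra hN
    rw [not_subsingleton_iff_nontrivial] at hN
    obtain ⟨φ, hφ⟩ := HQ.exists_ne_zero_hom_quotient_prime N (IsLocalRing.closedPoint R)
      (IsLocalRing.closedPoint_mem_support R N)
    let φ' : N →ₗ[R] ResidueField R := φ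
    have h0 : f ∘ₗ φ' = 0 := h.elim _ _
    apply hφ
    ext x
    apply hf.injective
    have h1 : f (φ' x) = 0 := LinearMap.congr_fun h0 x
    rw [LinearMap.zero_apply]
    exact h1.trans (map_zero f).symm
  · intro h
    exact ⟨fun a b => LinearMap.ext fun x => by
      rw [Subsingleton.elim x 0, map_zero, map_zero]⟩

/-- **(3a)** local duality over a regular local ring, vanishing form -/
theorem lc_subsingleton_iff_ext_subsingleton (B : Type u) [CommRing B] [IsRegularLocalRing B]
    (n : ℕ) (hn : ringKrullDim B = n) (M : Type u) [AddCommGroup M] [Module B M] [Module.Finite B M]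
    (i j : ℕ) (h : i + j = n) :
    Subsingleton (LocCoh.H (IsLocalRing.maximalIdeal B) i M) ↔
      Subsingleton (Abelian.Ext (ModuleCat.of B M) (ModuleCat.of B B) j) := by
  haveI : LocCoh.IsGorensteinLocalRing B :=
    RegGor.isGorensteinLocalRing_of_isRegularLocalRing B
  obtain ⟨g, hg⟩ := GorTop.exists_hull (R := B) hn
  obtain ⟨e⟩ := LD.local_duality hn _ g hg M i j h
  rw [e.toEquiv.subsingleton_congr]
  exact subsingleton_hom_hull_iff _ g hg _

/-- **(3b)** Grothendieck vanishing above the dimension -/
theorem lc_subsingleton_of_gt (B : Type u) [CommRing B] [IsRegularLocalRing B]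
    (n : ℕ) (hn : ringKrullDim B = n) (M : Type u) [AddCommGroup M] [Module B M] [Module.Finite B M]
    (i : ℕ) (h : n < i) :
    Subsingleton (LocCoh.H (IsLocalRing.maximalIdeal B) i M) := by
  refine LC.subsingleton_H_of_supportDim_lt (maximalIdeal B) M (n + 1) ?_ i h
  refine lt_of_le_of_lt (Module.supportDim_le_ringKrullDim B M) ?_
  rw [hn]
  exact_mod_cast Nat.lt_succ_self n

end Groth.Agent.Lib.Helper16.ExtRegDepth
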