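import Groth.Agent.Lib.Helper16.ExtRepresent

/-!
# Representability of `Ext^n(-, G)` on modules killed by `J` itself (helper16)

Under the vanishing hypothesis `ExtRep.Vanish J n G`, for a finite module `M` killed by `J` the map
`Ext^n(M, G) → Hom(Hom(R/J, M), Ext^n(R/J, G))`, `ξ ↦ (u ↦ u^* ξ)`, is bijective.
-/

set_option autoImplicit false
universe u
open CategoryTheory Abelian

namespace Groth.Agent.Lib.Helper16.ExtRep

open Groth.Agent.Lib.Helper16.LC

variable {R : Type u} [CommRing R] [IsNoetherianRing R] {J : Ideal R} {n : ℕ}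
  {G : ModuleCat.{u} R} (hV : Vanish J n G)

include hV

/-- the level-`k` map to local cohomology is injective under the vanishing hypothesis -/
theorem ι_injective (k : ℕ) : Function.Injective (ι J n G k) := by
  rw [injective_iff_map_eq_zero]
  intro e he
  obtain ⟨l, hl, hz⟩ := (ι_eq_zero_iff J n G e).mp he
  exact trans_injective hV hl e hz

omit hV [IsNoetherianRing R] in
/-- the identification `R/J ≅ R/J^1` -/
noncomputable def quotOne (J : Ideal R) : ModuleCat.of R (R ⧸ J) ≅ Q J 1 :=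
  (Submodule.quotEquivOfEq J (J ^ 1) (pow_one J).symm).toModuleIso

omit hV [IsNoetherianRing R] in
theorem quotOne_mk (J : Ideal R) (a : R) :
    (quotOne J).hom.hom (Ideal.Quotient.mk J a) = Ideal.Quotient.mk (J ^ 1) a := rfl

theorem psi_bijective (M : Type u) [AddCommGroup M] [Module R M] [Module.Finite R M]
    (hJM : ∀ a ∈ J, ∀ x : M, a • x = 0) :
    Function.Injective (fun ξ : Ext.{u} (ModuleCat.of R M) G n =>
        fun u : (R ⧸ J) →ₗ[R] M => (Ext.mk₀ (ModuleCat.ofHom u)).comp ξ (zero_add n)) ∧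
      ∀ g : ((R ⧸ J) →ₗ[R] M) →ₗ[R] Ext.{u} (ModuleCat.of R (R ⧸ J)) G n,
        ∃ ξ : Ext.{u} (ModuleCat.of R M) G n, ∀ u : (R ⧸ J) →ₗ[R] M,
          g u = (Ext.mk₀ (ModuleCat.ofHom u)).comp ξ (zero_add n) := by
  have hk : KilledBy J 1 (ModuleCat.of R M) := by
    intro a ha x
    rw [pow_one] at ha
    exact hJM a ha x
  -- the linear map `x ↦ u_x`
  let U : M →ₗ[R] ((R ⧸ J) →ₗ[R] M) :=
    { toFun := fun x => (φ hk x).hom ∘ₗ (quotOne J).hom.hom
      map_add' := by
        intro x y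
        rw [φ_add]
        rfl
      map_smul' := by
        intro a x
        rw [φ_smul]
        rfl }
  have hU : ∀ x : M, ModuleCat.ofHom (U x) = (quotOne J).hom ≫ φ hk x := fun x => rfl
  have hUsurj : ∀ u : (R ⧸ J) →ₗ[R] M, u = U (u (Ideal.Quotient.mk J 1)) := by
    intro u
    apply LinearMap.ext
    intro y
    obtain ⟨a, rfl⟩ := Ideal.Quotient.mk_surjective y
    change u (Ideal.Quotient.mk J a) =
      (φ hk (u (Ideal.Quotient.mk J 1))).hom ((quotOne J).hom.hom (Ideal.Quotient.mk J a))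
    rw [quotOne_mk, φ_mk, ← map_smul]
    congr 1
    change Ideal.Quotient.mk J a = Ideal.Quotient.mk J (a * 1)
    rw [mul_one]
  have hcancel : ∀ e e' : Ext.{u} (Q J 1) G n,
      (Ext.mk₀ (quotOne J).hom).comp e (zero_add n) =
        (Ext.mk₀ (quotOne J).hom).comp e' (zero_add n) → e = e' := by
    intro e e' h
    have := congrArg (fun z => (Ext.mk₀ (quotOne J).inv).comp z (zero_add n)) h
    simpa [Ext.mk₀_comp_mk₀_assoc] using this
  constructor
  · intro ξ ξ' h
    apply Φ_injective hV hk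
    apply LinearMap.ext
    intro x
    rw [Φ_apply, Φ_apply]
    congr 1
    apply hcancel
    have := congrFun h (U x)
    simp only at this
    rw [hU, ← Ext.mk₀_comp_mk₀_assoc, ← Ext.mk₀_comp_mk₀_assoc] at this
    exact this
  · intro g
    let g' : M →ₗ[R] (localCohomology J n).obj G :=
      (ι J n G 1) ∘ₗ (Ext.precompOfLinear (Ext.mk₀ (quotOne J).inv) R G (zero_add n)) ∘ₗ g ∘ₗ U
    obtain ⟨ξ, hξ⟩ := (Φ_bijective hV hk).2 g'
    refine ⟨ξ, fun u => ?_⟩
    rw [hUsurj u]
    set x := u (Ideal.Quotient.mk J 1) with hx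
    have h1 := LinearMap.congr_fun hξ x
    rw [Φ_apply] at h1
    change ι J n G 1 _ = ι J n G 1 ((Ext.mk₀ (quotOne J).inv).comp (g (U x)) (zero_add n)) at h1
    have h2 := ι_injective hV 1 h1
    rw [hU, ← Ext.mk₀_comp_mk₀_assoc, h2, Ext.mk₀_comp_mk₀_assoc, Iso.hom_inv_id,
      Ext.mk₀_id_comp]

end Groth.Agent.Lib.Helper16.ExtRep
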