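import Mathlib

/-!
# Finite data for fibrewise exactness: base change (helper16, for S4796)
-/

set_option autoImplicit false
universe u

noncomputable section

namespace Groth.Agent.Lib.Helper16.FE
open TensorProduct MvPolynomial

attribute [local instance] MvPolynomial.algebraMvPolynomial

/-- polynomial ring in `n` variables -/
abbrev Pn (n : ℕ) (R : Type u) [CommRing R] := MvPolynomial (Fin n) R

section Defs
variable {n : ℕ} {R : Type u} [CommRing R]

/-- span of a finite family of vectors -/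
abbrev Nm {a b : ℕ} (m : Fin b → (Fin a → Pn n R)) : Submodule (Pn n R) (Fin a → Pn n R) :=
  Submodule.span (Pn n R) (Set.range m)

/-- cokernel module -/
abbrev Ck {a b : ℕ} (m : Fin b → (Fin a → Pn n R)) := (Fin a → Pn n R) ⧸ Nm m

/-- linear combination map -/
abbrev lc {c a : ℕ} (U : Fin c → (Fin a → Pn n R)) :
    (Fin c → Pn n R) →ₗ[Pn n R] (Fin a → Pn n R) :=
  Fintype.linearCombination (Pn n R) U

lemma exact_lc_mkQ {a b : ℕ} (m : Fin b → (Fin a → Pn n R)) :
    Function.Exact (lc m) (Nm m).mkQ := by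
  rw [LinearMap.exact_iff, Submodule.ker_mkQ, Fintype.range_linearCombination]

end Defs

/-- finite data of a sequence `P^{aF} → coker mG → coker mH` -/
structure Dat (n : ℕ) (R : Type u) [CommRing R] (aF aG bG aH bH : ℕ) where
  U : Fin aF → (Fin aG → Pn n R)
  mG : Fin bG → (Fin aG → Pn n R)
  V : Fin aG → (Fin aH → Pn n R)
  mH : Fin bH → (Fin aH → Pn n R)
  hV : ∀ j, lc V (mG j) ∈ Nm mH

namespace Dat
variable {n : ℕ} {R : Type u} [CommRing R] {aF aG bG aH bH : ℕ}

/-- first map -/
noncomputable def u' (D : Dat n R aF aG bG aH bH) : (Fin aF → Pn n R) →ₗ[Pn n R] Ck D.mG :=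
  (Nm D.mG).mkQ ∘ₗ lc D.U

lemma hV' (D : Dat n R aF aG bG aH bH) : Nm D.mG ≤ (Nm D.mH).comap (lc D.V) := by
  rw [Submodule.span_le]
  rintro _ ⟨j, rfl⟩
  exact D.hV j

/-- second map -/
noncomputable def v' (D : Dat n R aF aG bG aH bH) : Ck D.mG →ₗ[Pn n R] Ck D.mH :=
  Submodule.mapQ (Nm D.mG) (Nm D.mH) (lc D.V) D.hV'

/-- exactness of the sequence attached to the data -/
def Ex (D : Dat n R aF aG bG aH bH) : Prop := Function.Exact D.u' D.v'

end Dat


section MapL
variable {n : ℕ} {R R' : Type u} [CommRing R] [CommRing R'] (ρ : R →+* R')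

/-- coefficientwise map of vectors -/
def mapL {a : ℕ} (x : Fin a → Pn n R) : Fin a → Pn n R' := fun i => MvPolynomial.map ρ (x i)

/-- coefficientwise map of families -/
def mapF {a b : ℕ} (m : Fin b → (Fin a → Pn n R)) : Fin b → (Fin a → Pn n R') :=
  fun j => mapL ρ (m j)

lemma mapL_add {a : ℕ} (x y : Fin a → Pn n R) : mapL ρ (x + y) = mapL ρ x + mapL ρ y := by
  funext i; simp [mapL]

lemma mapL_zero {a : ℕ} : mapL ρ (0 : Fin a → Pn n R) = 0 := by
  funext i; simp [mapL]

lemma mapL_smul {a : ℕ} (q : Pn n R) (x : Fin a → Pn n R) :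
    mapL ρ (q • x) = MvPolynomial.map ρ q • mapL ρ x := by
  funext i; simp [mapL]

lemma mapL_sum {a : ℕ} {ι : Type*} (s : Finset ι) (f : ι → (Fin a → Pn n R)) :
    mapL ρ (∑ i ∈ s, f i) = ∑ i ∈ s, mapL ρ (f i) := by
  classical
  induction s using Finset.induction_on with
  | empty => simp [mapL_zero]
  | insert i s hi ih => rw [Finset.sum_insert hi, Finset.sum_insert hi, mapL_add, ih]

lemma mapL_lc {c a : ℕ} (U : Fin c → (Fin a → Pn n R)) (x : Fin c → Pn n R) :
    mapL ρ (lc U x) = lc (mapF ρ U) (mapL ρ x) := by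
  simp only [lc, Fintype.linearCombination_apply, mapL_sum, mapL_smul]
  rfl

lemma mapL_mem {a b : ℕ} (m : Fin b → (Fin a → Pn n R)) {x : Fin a → Pn n R} (hx : x ∈ Nm m) :
    mapL ρ x ∈ Nm (mapF ρ m) := by
  induction hx using Submodule.span_induction with
  | mem x hx =>
    obtain ⟨j, rfl⟩ := hx
    exact Submodule.subset_span ⟨j, rfl⟩
  | zero => rw [mapL_zero]; exact Submodule.zero_mem _
  | add x y _ _ hx hy => rw [mapL_add]; exact Submodule.add_mem _ hx hy
  | smul q x _ hx => rw [mapL_smul]; exact Submodule.smul_mem _ _ hx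

end MapL

namespace Dat
variable {n : ℕ} {R R' R'' : Type u} [CommRing R] [CommRing R'] [CommRing R'']
  {aF aG bG aH bH : ℕ}

/-- base change of data along a ring map -/
abbrev map (ρ : R →+* R') (D : Dat n R aF aG bG aH bH) : Dat n R' aF aG bG aH bH where
  U := mapF ρ D.U
  mG := mapF ρ D.mG
  V := mapF ρ D.V
  mH := mapF ρ D.mH
  hV := fun j => by
    have := mapL_mem ρ D.mH (D.hV j)
    rwa [mapL_lc] at this

lemma mapF_mapF (ρ : R →+* R') (τ : R' →+* R'') {a b : ℕ} (m : Fin b → (Fin a → Pn n R)) :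
    mapF τ (mapF ρ m) = mapF (τ.comp ρ) m := by
  funext j i
  simp only [mapF, mapL, MvPolynomial.map_map]

lemma map_map (ρ : R →+* R') (τ : R' →+* R'') (D : Dat n R aF aG bG aH bH) :
    (D.map ρ).map τ = D.map (τ.comp ρ) := by
  cases D
  simp only [map, mapF_mapF]

end Dat


section BC
variable {n : ℕ} {R R' : Type u} [CommRing R] [CommRing R'] [Algebra R R']

/-- the base change map on polynomial rings, as an `R`-linear map -/
def ιP (n : ℕ) (R R' : Type u) [CommRing R] [CommRing R'] [Algebra R R'] :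
    Pn n R →ₗ[R] Pn n R' :=
  (IsScalarTower.toAlgHom R (Pn n R) (Pn n R')).toLinearMap

lemma ιP_apply (q : Pn n R) : ιP n R R' q = MvPolynomial.map (algebraMap R R') q := rfl

lemma isb_ιP : IsBaseChange R' (ιP n R R') :=
  (inferInstance : Algebra.IsPushout R R' (Pn n R) (Pn n R')).out

/-- the base change map on free modules -/
def ιL (n : ℕ) (R R' : Type u) [CommRing R] [CommRing R'] [Algebra R R'] (a : ℕ) :
    (Fin a → Pn n R) →ₗ[R] (Fin a → Pn n R') :=
  (ιP n R R').compLeft (Fin a)

lemma ιL_apply {a : ℕ} (x : Fin a → Pn n R) : ιL n R R' a x = mapL (algebraMap R R') x := rfl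

lemma isb_ιL (a : ℕ) : IsBaseChange R' (ιL n R R' a) := isb_ιP.finitePow (Fin a)


/-- the base change map on cokernels -/
def ιC {a b : ℕ} (m : Fin b → (Fin a → Pn n R)) :
    Ck m →ₗ[R] Ck (mapF (algebraMap R R') m) :=
  (Submodule.liftQ ((Nm m).restrictScalars R)
      (((Nm (mapF (algebraMap R R') m)).mkQ.restrictScalars R) ∘ₗ ιL n R R' a)
      (fun x hx => by
        rw [LinearMap.mem_ker, LinearMap.comp_apply, LinearMap.restrictScalars_apply,
          Submodule.mkQ_apply, Submodule.Quotient.mk_eq_zero, ιL_apply]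
        exact mapL_mem _ m hx)) ∘ₗ
    (Submodule.Quotient.restrictScalarsEquiv R (Nm m)).symm.toLinearMap

lemma ιC_mk {a b : ℕ} (m : Fin b → (Fin a → Pn n R)) (x : Fin a → Pn n R) :
    ιC (R' := R') m (Submodule.Quotient.mk x) =
      Submodule.Quotient.mk (mapL (algebraMap R R') x) := by
  rfl

lemma isb_ιC {a b : ℕ} (m : Fin b → (Fin a → Pn n R)) : IsBaseChange R' (ιC (R' := R') m) := by
  have e1 : Function.Exact ((lc m).restrictScalars R) ((Nm m).mkQ.restrictScalars R) := by
    intro y
    rw [LinearMap.restrictScalars_apply]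
    exact exact_lc_mkQ m y
  have s1 : Function.Surjective ((Nm m).mkQ.restrictScalars R) := by
    intro y
    obtain ⟨x, hx⟩ := Submodule.mkQ_surjective (Nm m) y
    exact ⟨x, hx⟩
  have e2 : Function.Exact ((lc (mapF (algebraMap R R') m)).restrictScalars R')
      (((Nm (mapF (algebraMap R R') m)).mkQ).restrictScalars R') := by
    intro y
    rw [LinearMap.restrictScalars_apply]
    exact exact_lc_mkQ _ y
  have s2 : Function.Surjective (((Nm (mapF (algebraMap R R') m)).mkQ).restrictScalars R') := by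
    intro y
    obtain ⟨x, hx⟩ := Submodule.mkQ_surjective (Nm (mapF (algebraMap R R') m)) y
    exact ⟨x, hx⟩
  have c1 : (ιL n R R' a).comp ((lc m).restrictScalars R) =
      (((lc (mapF (algebraMap R R') m)).restrictScalars R').restrictScalars R).comp
        (ιL n R R' b) := by
    apply LinearMap.ext
    intro x
    rw [LinearMap.comp_apply, LinearMap.comp_apply, LinearMap.restrictScalars_apply,
      LinearMap.restrictScalars_apply, LinearMap.restrictScalars_apply, ιL_apply, ιL_apply,
      mapL_lc]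
  have c2 : (ιC (R' := R') m).comp ((Nm m).mkQ.restrictScalars R) =
      ((((Nm (mapF (algebraMap R R') m)).mkQ).restrictScalars R').restrictScalars R).comp
        (ιL n R R' a) := by
    apply LinearMap.ext
    intro x
    rw [LinearMap.comp_apply, LinearMap.comp_apply, LinearMap.restrictScalars_apply,
      LinearMap.restrictScalars_apply, LinearMap.restrictScalars_apply, ιL_apply,
      Submodule.mkQ_apply, Submodule.mkQ_apply, ιC_mk]
  exact IsBaseChange.of_right_exact R' (ιL n R R' b) (ιL n R R' a) (ιC m)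
    c1 c2 (isb_ιL b) (isb_ιL a) e1 s1 e2 s2


variable {aF aG bG aH bH : ℕ}

lemma Dat.u'_apply (D : Dat n R aF aG bG aH bH) (x : Fin aF → Pn n R) :
    D.u' x = Submodule.Quotient.mk (lc D.U x) := rfl

lemma Dat.v'_mk (D : Dat n R aF aG bG aH bH) (x : Fin aG → Pn n R) :
    D.v' (Submodule.Quotient.mk x) = Submodule.Quotient.mk (lc D.V x) := rfl

lemma Dat.map_u'_ιL (D : Dat n R aF aG bG aH bH) (x : Fin aF → Pn n R) :
    (D.map (algebraMap R R')).u' (ιL n R R' aF x) = ιC (R' := R') D.mG (D.u' x) := by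
  rw [Dat.u'_apply, Dat.u'_apply, ιC_mk, ιL_apply, mapL_lc]

lemma Dat.map_v'_ιC (D : Dat n R aF aG bG aH bH) (y : Ck D.mG) :
    (D.map (algebraMap R R')).v' (ιC (R' := R') D.mG y) = ιC (R' := R') D.mH (D.v' y) := by
  obtain ⟨x, rfl⟩ := Submodule.Quotient.mk_surjective _ y
  rw [Dat.v'_mk, ιC_mk, ιC_mk, mapL_lc]
  rfl

theorem Dat.exact_baseChange_iff (D : Dat n R aF aG bG aH bH) :
    Function.Exact ((D.u'.restrictScalars R).baseChange R')
        ((D.v'.restrictScalars R).baseChange R') ↔ (D.map (algebraMap R R')).Ex := by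
  symm
  refine Function.Exact.iff_of_ladder_linearEquiv
    (f₁₂ := (D.u'.restrictScalars R).baseChange R')
    (f₂₃ := (D.v'.restrictScalars R).baseChange R')
    (g₁₂ := ((D.map (algebraMap R R')).u').restrictScalars R')
    (g₂₃ := ((D.map (algebraMap R R')).v').restrictScalars R')
    (e₁ := (isb_ιL (n := n) (R := R) (R' := R') aF).equiv)
    (e₂ := (isb_ιC (R' := R') D.mG).equiv)
    (e₃ := (isb_ιC (R' := R') D.mH).equiv) ?_ ?_
  · apply TensorProduct.AlgebraTensorModule.ext
    intro s x
    rw [LinearMap.comp_apply, LinearMap.comp_apply, LinearEquiv.coe_coe, LinearEquiv.coe_coe,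
      IsBaseChange.equiv_tmul, LinearMap.baseChange_tmul, IsBaseChange.equiv_tmul,
      map_smul, LinearMap.restrictScalars_apply, LinearMap.restrictScalars_apply,
      Dat.map_u'_ιL]
  · apply TensorProduct.AlgebraTensorModule.ext
    intro s x
    rw [LinearMap.comp_apply, LinearMap.comp_apply, LinearEquiv.coe_coe, LinearEquiv.coe_coe,
      IsBaseChange.equiv_tmul, LinearMap.baseChange_tmul, IsBaseChange.equiv_tmul,
      map_smul, LinearMap.restrictScalars_apply, LinearMap.restrictScalars_apply,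
      Dat.map_v'_ιC]

end BC

end Groth.Agent.Lib.Helper16.FE
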