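import Mathlib
import Groth.Agent.Lib.Helper16.FE1

/-!
# Finite data for fibrewise exactness: field extensions and the exact locus (helper16, for S4796)
-/

set_option autoImplicit false
universe u

noncomputable section

namespace Groth.Agent.Lib.Helper16.FE
open TensorProduct MvPolynomial

attribute [local instance] MvPolynomial.algebraMvPolynomial

variable {n : ℕ} {aF aG bG aH bH : ℕ}

theorem Dat.ex_map_field_iff {κ κ' : Type u} [Field κ] [Field κ'] (g : κ →+* κ')
    (D : Dat n κ aF aG bG aH bH) : (D.map g).Ex ↔ D.Ex := by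
  let _ := g.toAlgebra
  have h1 := D.exact_baseChange_iff (R' := κ')
  have h2 : (D.map (algebraMap κ κ')) = D.map g := rfl
  rw [h2] at h1
  rw [← h1]
  have h3 := Module.FaithfullyFlat.lTensor_exact_iff_exact (R := κ) (M := κ')
    (l12 := D.u'.restrictScalars κ) (l23 := D.v'.restrictScalars κ)
  exact h3

variable {R R' : Type u} [CommRing R] [CommRing R']

/-- the locus of primes where the fibre sequence is exact -/
def Dat.E (D : Dat n R aF aG bG aH bH) : Set (PrimeSpectrum R) :=
  {p | (D.map (algebraMap R p.asIdeal.ResidueField)).Ex}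

theorem Dat.E_map (ρ : R →+* R') (D : Dat n R aF aG bG aH bH) :
    (D.map ρ).E = PrimeSpectrum.comap ρ ⁻¹' D.E := by
  ext p'
  simp only [Dat.E, Set.mem_ofPred_eq, Set.mem_preimage]
  have hp : (PrimeSpectrum.comap ρ p').asIdeal = p'.asIdeal.comap ρ := rfl
  set g := Ideal.ResidueField.map (PrimeSpectrum.comap ρ p').asIdeal p'.asIdeal ρ hp with hg
  have hcomp : (algebraMap R' p'.asIdeal.ResidueField).comp ρ =
      g.comp (algebraMap R (PrimeSpectrum.comap ρ p').asIdeal.ResidueField) := by
    ext r
    rw [RingHom.comp_apply, RingHom.comp_apply, hg, Ideal.ResidueField.map_algebraMap]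
  rw [Dat.map_map, hcomp, ← Dat.map_map, Dat.ex_map_field_iff]

theorem Dat.mem_E_iff (D : Dat n R aF aG bG aH bH) (p : PrimeSpectrum R) :
    p ∈ D.E ↔ Function.Exact ((D.u'.restrictScalars R).baseChange p.asIdeal.ResidueField)
        ((D.v'.restrictScalars R).baseChange p.asIdeal.ResidueField) :=
  (D.exact_baseChange_iff (R' := p.asIdeal.ResidueField)).symm

end Groth.Agent.Lib.Helper16.FE
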