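import Mathlib
import Groth.Agent.Lib.Helper16.FE2

/-!
# Finite data for fibrewise exactness: Noetherian models (helper16, for S4796)
-/

set_option autoImplicit false
universe u

noncomputable section

namespace Groth.Agent.Lib.Helper16.FE
open TensorProduct MvPolynomial

variable {n : ℕ} {aF aG bG aH bH : ℕ} {R : Type u} [CommRing R]

/-- set of coefficients of a finite family of vectors -/
def cset {a b : ℕ} (m : Fin b → (Fin a → Pn n R)) : Set R :=
  ⋃ j, ⋃ i, ((m j i).coeffs : Set R)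

lemma cset_finite {a b : ℕ} (m : Fin b → (Fin a → Pn n R)) : (cset m).Finite :=
  Set.finite_iUnion fun _ => Set.finite_iUnion fun _ => Finset.finite_toSet _

lemma exists_mapF_eq {R₀ : Type u} [CommRing R₀] (ρ : R₀ →+* R) {a b : ℕ}
    (m : Fin b → (Fin a → Pn n R)) (h : cset m ⊆ Set.range ρ) :
    ∃ m₀ : Fin b → (Fin a → Pn n R₀), mapF ρ m₀ = m := by
  have : ∀ j i, ∃ q : Pn n R₀, MvPolynomial.map ρ q = m j i := by
    intro j i
    have := (MvPolynomial.mem_range_map_iff_coeffs_subset (f := ρ) (x := m j i)).mpr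
      (fun r hr => h (Set.mem_iUnion.mpr ⟨j, Set.mem_iUnion.mpr ⟨i, hr⟩⟩))
    exact this
  choose m₀ hm₀ using this
  exact ⟨m₀, by funext j i; exact hm₀ j i⟩

lemma mapL_injective {R₀ : Type u} [CommRing R₀] (ρ : R₀ →+* R) (hρ : Function.Injective ρ)
    {a : ℕ} : Function.Injective (mapL (n := n) ρ (a := a)) := by
  intro x y hxy
  funext i
  exact MvPolynomial.map_injective ρ hρ (congrFun hxy i)

theorem Dat.exists_noeth_model (D : Dat n R aF aG bG aH bH) :
    ∃ (R₀ : Type u) (_ : CommRing R₀) (_ : IsNoetherianRing R₀) (ρ : R₀ →+* R)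
      (D₀ : Dat n R₀ aF aG bG aH bH), D₀.map ρ = D := by
  classical
  have hc : ∀ j, ∃ c : Fin bH → Pn n R, ∑ k, c k • D.mH k = lc D.V (D.mG j) := fun j =>
    Submodule.mem_span_range_iff_exists_fun _ |>.mp (D.hV j)
  choose c hc using hc
  let cc : Fin bG → (Fin bH → Pn n R) := c
  let T : Set R := cset D.U ∪ cset D.mG ∪ cset D.V ∪ cset D.mH ∪ cset cc
  have hT : T.Finite :=
    ((((cset_finite _).union (cset_finite _)).union (cset_finite _)).union
      (cset_finite _)).union (cset_finite _)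
  let S₁ : Subalgebra ℤ R := Algebra.adjoin ℤ T
  have hFG : S₁.FG := ⟨hT.toFinset, by simp [S₁]⟩
  have : Algebra.FiniteType ℤ S₁ := (Subalgebra.fg_iff_finiteType S₁).mp hFG
  have : IsNoetherianRing S₁ := Algebra.FiniteType.isNoetherianRing ℤ S₁
  have hTS : T ⊆ Set.range (S₁.val : S₁ →+* R) := fun r hr =>
    ⟨⟨r, Algebra.subset_adjoin hr⟩, rfl⟩
  let ρ : S₁ →+* R := (S₁.val : S₁ →+* R)
  have hρ : Function.Injective ρ := Subtype.val_injective
  obtain ⟨U₀, hU₀⟩ := exists_mapF_eq ρ D.U (fun r hr => hTS (Or.inl (Or.inl (Or.inl (Or.inl hr)))))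
  obtain ⟨mG₀, hmG₀⟩ := exists_mapF_eq ρ D.mG (fun r hr => hTS (Or.inl (Or.inl (Or.inl (Or.inr hr)))))
  obtain ⟨V₀, hV₀⟩ := exists_mapF_eq ρ D.V (fun r hr => hTS (Or.inl (Or.inl (Or.inr hr))))
  obtain ⟨mH₀, hmH₀⟩ := exists_mapF_eq ρ D.mH (fun r hr => hTS (Or.inl (Or.inr hr)))
  obtain ⟨c₀, hc₀⟩ := exists_mapF_eq ρ cc (fun r hr => hTS (Or.inr hr))
  refine ⟨S₁, inferInstance, inferInstance, ρ, ⟨U₀, mG₀, V₀, mH₀, fun j => ?_⟩, ?_⟩
  · have : lc V₀ (mG₀ j) = ∑ k, c₀ j k • mH₀ k := by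
      apply mapL_injective ρ hρ
      rw [mapL_lc, mapL_sum, hV₀]
      have h1 : mapL ρ (mG₀ j) = D.mG j := congrFun hmG₀ j
      rw [h1, ← hc j]
      refine Finset.sum_congr rfl fun k _ => ?_
      rw [mapL_smul]
      have h2 : mapL ρ (mH₀ k) = D.mH k := congrFun hmH₀ k
      have h3 : MvPolynomial.map ρ (c₀ j k) = c j k := congrFun (congrFun hc₀ j) k
      rw [h2, h3]
    rw [this]
    exact Submodule.sum_mem _ fun k _ =>
      Submodule.smul_mem _ _ (Submodule.subset_span ⟨k, rfl⟩)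
  · cases D
    simp only [Dat.map] at *
    congr

end Groth.Agent.Lib.Helper16.FE
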