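import Mathlib
import Groth.Agent.Lib.Helper16.FE3

/-!
# Fibrewise exactness: reduction of general data to polynomial presentation data
-/

set_option autoImplicit false
universe u

noncomputable section

namespace Groth.Agent.Lib.Helper16.FE
open TensorProduct MvPolynomial Function

lemma exact_baseChange_transfer {R : Type*} [CommRing R] (A : Type*) [CommRing A] [Algebra R A]
    {F G H L G' H' : Type*} [AddCommGroup F] [AddCommGroup G] [AddCommGroup H] [AddCommGroup L]
    [AddCommGroup G'] [AddCommGroup H'] [Module R F] [Module R G] [Module R H] [Module R L]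
    [Module R G'] [Module R H']
    (u : F →ₗ[R] G) (v : G →ₗ[R] H) (u' : L →ₗ[R] G') (v' : G' →ₗ[R] H')
    (π : L →ₗ[R] F) (hπ : Surjective π) (eG : G ≃ₗ[R] G') (eH : H ≃ₗ[R] H')
    (h1 : eG.toLinearMap ∘ₗ u ∘ₗ π = u') (h2 : eH.toLinearMap ∘ₗ v = v' ∘ₗ eG.toLinearMap) :
    Exact (u.baseChange A) (v.baseChange A) ↔ Exact (u'.baseChange A) (v'.baseChange A) := by
  have hπA : Surjective (π.baseChange A) := by
    rw [LinearMap.baseChange_eq_ltensor]
    exact LinearMap.lTensor_surjective A hπ
  have s1 : Exact (u.baseChange A) (v.baseChange A) ↔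
      Exact ((u ∘ₗ π).baseChange A) (v.baseChange A) := by
    rw [LinearMap.baseChange_comp]
    exact (Function.Surjective.comp_exact_iff_exact hπA).symm
  rw [s1]
  symm
  refine Function.Exact.iff_of_ladder_linearEquiv (e₁ := LinearEquiv.refl A (A ⊗[R] L))
    (e₂ := eG.baseChange R A) (e₃ := eH.baseChange R A) ?_ ?_
  · rw [← h1]
    apply TensorProduct.AlgebraTensorModule.ext
    intro a x
    simp
  · apply TensorProduct.AlgebraTensorModule.ext
    intro a x
    have := congrArg (fun f => f x) h2
    simp only [LinearMap.comp_apply, LinearEquiv.coe_coe] at this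
    simp [this]


section PR1
variable {n : ℕ} {R : Type u} [CommRing R]
  {F G H : Type u} [AddCommGroup F] [AddCommGroup G] [AddCommGroup H]
  [Module (Pn n R) F] [Module (Pn n R) G] [Module (Pn n R) H]
  [Module R F] [Module R G] [Module R H]
  [IsScalarTower R (Pn n R) F] [IsScalarTower R (Pn n R) G] [IsScalarTower R (Pn n R) H]

lemma exists_equiv_Ck (G : Type u) [AddCommGroup G] [Module (Pn n R) G]
    [Module.FinitePresentation (Pn n R) G] :
    ∃ (a b : ℕ) (m : Fin b → (Fin a → Pn n R)), Nonempty (G ≃ₗ[Pn n R] Ck m) := by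
  obtain ⟨a, K, e, hK⟩ := Module.FinitePresentation.exists_fin (Pn n R) G
  obtain ⟨b, m, hm⟩ := Submodule.fg_iff_exists_fin_generating_family.mp hK
  subst hm
  exact ⟨a, b, m, ⟨e⟩⟩

lemma lc_single {c a : ℕ} (U : Fin c → (Fin a → Pn n R)) (i : Fin c) :
    lc U (Pi.single i 1) = U i := by
  simp [lc, Fintype.linearCombination_apply, Pi.single_apply]

theorem exists_dat_of_modules [Module.Finite (Pn n R) F] [Module.FinitePresentation (Pn n R) G]
    [Module.FinitePresentation (Pn n R) H] (u : F →ₗ[Pn n R] G) (v : G →ₗ[Pn n R] H) :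
    ∃ (aF aG bG aH bH : ℕ) (D : Dat n R aF aG bG aH bH),
      ∀ (A : Type u) [CommRing A] [Algebra R A],
        Exact ((u.restrictScalars R).baseChange A) ((v.restrictScalars R).baseChange A) ↔
          Exact ((D.u'.restrictScalars R).baseChange A) ((D.v'.restrictScalars R).baseChange A) := by
  obtain ⟨aF, π, hπ⟩ := Module.Finite.exists_fin' (Pn n R) F
  obtain ⟨aG, bG, mG, ⟨eG⟩⟩ := exists_equiv_Ck (n := n) (R := R) G
  obtain ⟨aH, bH, mH, ⟨eH⟩⟩ := exists_equiv_Ck (n := n) (R := R) H
  -- choose lifts
  have hU : ∀ i : Fin aF, ∃ y : Fin aG → Pn n R,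
      (Nm mG).mkQ y = eG (u (π (Pi.single i 1))) := fun i => Submodule.mkQ_surjective _ _
  choose U hU using hU
  have hVx : ∀ i : Fin aG, ∃ y : Fin aH → Pn n R,
      (Nm mH).mkQ y = eH (v (eG.symm ((Nm mG).mkQ (Pi.single i 1)))) :=
    fun i => Submodule.mkQ_surjective _ _
  choose V hVx using hVx
  have key1 : (Nm mG).mkQ ∘ₗ lc U = eG.toLinearMap ∘ₗ u ∘ₗ π := by
    apply LinearMap.pi_ext'
    intro i
    apply LinearMap.ext_ring
    simp only [LinearMap.comp_apply, LinearMap.single_apply, LinearEquiv.coe_coe]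
    rw [lc_single, hU]
  have key2 : (Nm mH).mkQ ∘ₗ lc V =
      eH.toLinearMap ∘ₗ v ∘ₗ eG.symm.toLinearMap ∘ₗ (Nm mG).mkQ := by
    apply LinearMap.pi_ext'
    intro i
    apply LinearMap.ext_ring
    simp only [LinearMap.comp_apply, LinearMap.single_apply, LinearEquiv.coe_coe]
    rw [lc_single, hVx]
  have hV : ∀ j, lc V (mG j) ∈ Nm mH := by
    intro j
    have h0 : (Nm mG).mkQ (mG j) = 0 := by
      rw [Submodule.mkQ_apply, Submodule.Quotient.mk_eq_zero]
      exact Submodule.subset_span ⟨j, rfl⟩
    have := congrArg (fun f => f (mG j)) key2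
    simp only [LinearMap.comp_apply, LinearEquiv.coe_coe, h0, map_zero] at this
    rwa [Submodule.mkQ_apply, Submodule.Quotient.mk_eq_zero] at this
  refine ⟨aF, aG, bG, aH, bH, ⟨U, mG, V, mH, hV⟩, fun A _ _ => ?_⟩
  refine exact_baseChange_transfer A (u.restrictScalars R) (v.restrictScalars R) _ _
    (π.restrictScalars R) hπ (eG.restrictScalars R) (eH.restrictScalars R) ?_ ?_
  · apply LinearMap.ext
    intro x
    have := congrArg (fun f => f x) key1
    simp only [LinearMap.comp_apply, LinearEquiv.coe_coe] at this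
    simp only [LinearMap.comp_apply, LinearMap.restrictScalars_apply, LinearEquiv.coe_coe,
      LinearEquiv.restrictScalars_apply]
    rw [← this]
    rfl
  · apply LinearMap.ext
    intro g
    obtain ⟨x, hx⟩ := Submodule.mkQ_surjective (Nm mG) (eG g)
    have := congrArg (fun f => f x) key2
    simp only [LinearMap.comp_apply, LinearEquiv.coe_coe, hx, LinearEquiv.symm_apply_apply] at this
    simp only [LinearMap.comp_apply, LinearMap.restrictScalars_apply, LinearEquiv.coe_coe,
      LinearEquiv.restrictScalars_apply]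
    rw [← this, ← hx]
    rfl

end PR1


section PR2
variable {n : ℕ} {R B : Type u} [CommRing R] [CommRing B] [Algebra R B]

lemma fp_of_compHom (φ : Pn n R →ₐ[R] B) (hφ : Surjective φ)
    (hker : (RingHom.ker φ.toRingHom).FG)
    (M : Type u) [AddCommGroup M] [Module B M] [Module (Pn n R) M]
    (hsm : ∀ (q : Pn n R) (x : M), q • x = φ q • x) [Module.FinitePresentation B M] :
    Module.FinitePresentation (Pn n R) M := by
  letI : Algebra (Pn n R) B := φ.toRingHom.toAlgebra
  haveI : IsScalarTower (Pn n R) B M := ⟨fun q b x => by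
    rw [hsm, Algebra.smul_def, mul_smul]
    rfl⟩
  haveI : Module.FinitePresentation (Pn n R) B := by
    refine Module.finitePresentation_of_surjective (Algebra.linearMap (Pn n R) B) hφ ?_
    exact hker
  exact Module.FinitePresentation.trans (Pn n R) M B

lemma tower_of_compHom (φ : Pn n R →ₐ[R] B)
    (M : Type u) [AddCommGroup M] [Module B M] [Module R M] [IsScalarTower R B M]
    [Module (Pn n R) M] (hsm : ∀ (q : Pn n R) (x : M), q • x = φ q • x) :
    IsScalarTower R (Pn n R) M := by
  refine IsScalarTower.of_algebraMap_smul fun r x => ?_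
  rw [hsm, AlgHom.commutes, algebraMap_smul]

theorem exists_dat [Algebra.FinitePresentation R B]
    {F G H : Type u} [AddCommGroup F] [Module B F] [Module R F] [IsScalarTower R B F]
    [Module.FinitePresentation B F]
    [AddCommGroup G] [Module B G] [Module R G] [IsScalarTower R B G]
    [Module.FinitePresentation B G]
    [AddCommGroup H] [Module B H] [Module R H] [IsScalarTower R B H]
    [Module.FinitePresentation B H]
    (u : F →ₗ[B] G) (v : G →ₗ[B] H) :
    ∃ (n aF aG bG aH bH : ℕ) (D : Dat n R aF aG bG aH bH),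
      ∀ (A : Type u) [CommRing A] [Algebra R A],
        Exact ((u.restrictScalars R).baseChange A) ((v.restrictScalars R).baseChange A) ↔
          Exact ((D.u'.restrictScalars R).baseChange A) ((D.v'.restrictScalars R).baseChange A) := by
  obtain ⟨n, φ, hφ, hker⟩ := Algebra.FinitePresentation.out (R := R) (A := B)
  letI iF : Module (Pn n R) F := Module.compHom F (φ : Pn n R →+* B)
  letI iG : Module (Pn n R) G := Module.compHom G (φ : Pn n R →+* B)
  letI iH : Module (Pn n R) H := Module.compHom H (φ : Pn n R →+* B)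
  have hF : ∀ (q : Pn n R) (x : F), q • x = φ q • x := fun _ _ => rfl
  have hG : ∀ (q : Pn n R) (x : G), q • x = φ q • x := fun _ _ => rfl
  have hH : ∀ (q : Pn n R) (x : H), q • x = φ q • x := fun _ _ => rfl
  haveI := fp_of_compHom φ hφ hker F hF
  haveI := fp_of_compHom φ hφ hker G hG
  haveI := fp_of_compHom φ hφ hker H hH
  haveI := tower_of_compHom φ F hF
  haveI := tower_of_compHom φ G hG
  haveI := tower_of_compHom φ H hH
  let uP : F →ₗ[Pn n R] G :=
    { toFun := u, map_add' := u.map_add, map_smul' := fun q x => by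
        rw [hF, RingHom.id_apply, hG]; exact u.map_smul _ _ }
  let vP : G →ₗ[Pn n R] H :=
    { toFun := v, map_add' := v.map_add, map_smul' := fun q x => by
        rw [hG, RingHom.id_apply, hH]; exact v.map_smul _ _ }
  obtain ⟨aF, aG, bG, aH, bH, D, hD⟩ := exists_dat_of_modules uP vP
  refine ⟨n, aF, aG, bG, aH, bH, D, fun A _ _ => ?_⟩
  rw [← hD A]
  rfl

end PR2

end Groth.Agent.Lib.Helper16.FE
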