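import Mathlib
import Groth.Agent.Lib.Helper16.FE4
import Groth.Agent.Lib.Helper12.ConstrTop
import Groth.Agent.S4801

/-!
# Fibrewise exactness: generic dichotomy and constructibility of the exact locus
-/

set_option autoImplicit false
universe u

noncomputable section

namespace Groth.Agent.Lib.Helper16.FE
open TensorProduct MvPolynomial Function
open Groth.Agent.Lib.Helper9.GenExact Groth.Agent.Lib.Helper25.GFMod

/-- injectivity of `κ ⊗ N → κ ⊗ M` when the cokernel is flat after inverting `f` -/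
lemma lTensor_injective_of_flat_away {R : Type*} [CommRing R] (f : R) (κ : Type*) [Field κ]
    [Algebra R κ] (hf : algebraMap R κ f ≠ 0) {N M Q : Type*} [AddCommGroup N] [Module R N]
    [AddCommGroup M] [Module R M] [AddCommGroup Q] [Module R Q]
    (g₁ : N →ₗ[R] M) (g₂ : M →ₗ[R] Q) (hinj : Injective g₁) (hex : Exact g₁ g₂)
    (hsurj : Surjective g₂) [Module.Flat R (LocalizedModule (Submonoid.powers f) Q)] :
    Injective (LinearMap.lTensor κ g₁) := by
  set S := Submonoid.powers f
  let G₁ : LocalizedModule S N →ₗ[R] LocalizedModule S M :=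
    (LocalizedModule.map S g₁).restrictScalars R
  let G₂ : LocalizedModule S M →ₗ[R] LocalizedModule S Q :=
    (LocalizedModule.map S g₂).restrictScalars R
  have hG₁i : Injective G₁ := LocalizedModule.map_injective S g₁ hinj
  have hG₂s : Surjective G₂ := LocalizedModule.map_surjective S g₂ hsurj
  have hGex : Exact G₁ G₂ := LocalizedModule.map_exact S g₁ g₂ hex
  have hB : Injective (LinearMap.lTensor κ G₁) :=
    lTensor_injective_of_flat_coker G₁ G₂ hG₁i hGex hG₂s κ
  have hA := lTensor_mkLinearMap_injective f κ hf N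
  have hcomm : (LinearMap.lTensor κ (LocalizedModule.mkLinearMap S M)).comp
      (LinearMap.lTensor κ g₁) = (LinearMap.lTensor κ G₁).comp
      (LinearMap.lTensor κ (LocalizedModule.mkLinearMap S N)) := by
    rw [← LinearMap.lTensor_comp, ← LinearMap.lTensor_comp]
    congr 1
    ext y
    simp [G₁, LocalizedModule.map_mk]
  have : Injective ((LinearMap.lTensor κ (LocalizedModule.mkLinearMap S M)).comp
      (LinearMap.lTensor κ g₁)) := by
    rw [hcomm]; exact hB.comp hA
  exact Function.Injective.of_comp this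

/-- a functional that does not vanish at `x` shows `1 ⊗ x ≠ 0` -/
lemma tmul_ne_zero_of_functional {R : Type*} [CommRing R] {κ : Type*} [Field κ] [Algebra R κ]
    {N : Type*} [AddCommGroup N] [Module R N] (ψ : N →ₗ[R] κ) (x : N) (hx : ψ x ≠ 0) :
    (1 : κ) ⊗ₜ[R] x ≠ 0 := by
  intro h
  have := congrArg (TensorProduct.lift ((LinearMap.mul R κ).compl₂ ψ)) h
  simp at this
  exact hx this

/-- a free localized module admits a functional to `κ` not vanishing on a given generator -/
lemma exists_functional {R S : Type u} [CommRing R] [IsDomain R] [CommRing S] [Algebra R S]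
    {N : Type u} [AddCommGroup N] [Module S N] [Module R N] [IsScalarTower R S N]
    (x : N) (hgen : ∀ y : N, ∃ a : S, y = a • x) (hx : ∀ s : R, s ≠ 0 → s • x ≠ 0)
    (f : R) (hf : f ≠ 0)
    [Module.Free (Localization.Away f) (LocalizedModule (Submonoid.powers f) N)]
    (κ : Type u) [Field κ] [Algebra R κ] (hfκ : algebraMap R κ f ≠ 0) :
    ∃ ψ : N →ₗ[R] κ, ψ x ≠ 0 := by
  classical
  set Sf := Submonoid.powers f with hSf
  let b := Module.Free.chooseBasis (Localization.Away f) (LocalizedModule Sf N)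
  have hx1 : LocalizedModule.mkLinearMap Sf N x ≠ 0 := by
    intro h0
    obtain ⟨⟨_, m, rfl⟩, hm⟩ :=
      (IsLocalizedModule.eq_zero_iff Sf (LocalizedModule.mkLinearMap Sf N)).mp h0
    exact hx (f ^ m) (pow_ne_zero _ hf) hm
  have : Nontrivial (LocalizedModule Sf N) := ⟨⟨_, 0, hx1⟩⟩
  obtain ⟨i⟩ := b.index_nonempty
  obtain ⟨⟨n, s⟩, hn⟩ := IsLocalizedModule.surj Sf (LocalizedModule.mkLinearMap Sf N) (b i)
  obtain ⟨a, ha⟩ := hgen n
  let L : Localization.Away f →+* κ :=
    IsLocalization.Away.lift f (g := algebraMap R κ) (isUnit_iff_ne_zero.mpr hfκ)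
  have hL : ∀ r, L (algebraMap R _ r) = algebraMap R κ r := fun r =>
    IsLocalization.Away.lift_eq f (g := algebraMap R κ) (isUnit_iff_ne_zero.mpr hfκ) r
  let Ll : Localization.Away f →ₗ[R] κ :=
    { toFun := L
      map_add' := map_add L
      map_smul' := fun r y => by
        rw [Algebra.smul_def, map_mul, hL, RingHom.id_apply, Algebra.smul_def] }
  let ψ₀ : N →ₗ[R] κ := Ll ∘ₗ ((b.coord i).restrictScalars R) ∘ₗ
    (LocalizedModule.mkLinearMap Sf N) ∘ₗ ((LinearMap.lsmul S N a).restrictScalars R)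
  refine ⟨ψ₀, ?_⟩
  have h1 : ψ₀ x = L (b.coord i (LocalizedModule.mkLinearMap Sf N n)) := by
    simp only [ψ₀, LinearMap.comp_apply, LinearMap.restrictScalars_apply, LinearMap.lsmul_apply]
    rw [← ha]
    rfl
  have h2 : b.coord i (LocalizedModule.mkLinearMap Sf N n) = algebraMap R _ (s : R) := by
    simp only at hn
    rw [← hn, Submonoid.smul_def, LinearMap.map_smul_of_tower, Module.Basis.coord_apply,
      Module.Basis.repr_self, Finsupp.single_eq_same, Algebra.smul_def, mul_one]
  rw [h1, h2, hL]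
  obtain ⟨_, m, rfl⟩ := s
  simp only [map_pow]
  exact pow_ne_zero _ hfκ

/-- a non-torsion element of a finite module over a finite type algebra over a domain stays
nonzero in generic fibres -/
lemma exists_ne_zero_fibre {R S : Type u} [CommRing R] [IsDomain R] [CommRing S] [Algebra R S]
    [Algebra.FiniteType R S]
    {M : Type u} [AddCommGroup M] [Module S M] [Module R M] [IsScalarTower R S M]
    [Module.Finite S M] (x : M) (hx : ∀ s : R, s ≠ 0 → s • x ≠ 0) :
    ∃ f : R, f ≠ 0 ∧ ∀ (κ : Type u) [Field κ] [Algebra R κ], algebraMap R κ f ≠ 0 →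
      (1 : κ) ⊗ₜ[R] x ≠ 0 := by
  set N : Submodule S M := Submodule.span S {x} with hN
  have hfinN : Module.Finite S N := Module.Finite.span_singleton S x
  obtain ⟨g1, -, hg1, hGF1⟩ := exists_GF R S N 1 one_ne_zero
  obtain ⟨f, hd, hf, hGF2⟩ := exists_GF R S (M ⧸ N) g1 hg1
  have hfreeN := (hGF1 f hd).1
  have hfreeQ := (hGF2 f dvd_rfl).1
  refine ⟨f, hf, fun κ _ _ hfκ => ?_⟩
  let x' : N := ⟨x, Submodule.mem_span_singleton_self x⟩
  have hgen : ∀ y : N, ∃ a : S, y = a • x' := by
    rintro ⟨y, hy⟩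
    obtain ⟨a, rfl⟩ := Submodule.mem_span_singleton.mp hy
    exact ⟨a, rfl⟩
  have hx' : ∀ s : R, s ≠ 0 → s • x' ≠ 0 := by
    intro s hs h0
    exact hx s hs (congrArg Subtype.val h0)
  obtain ⟨ψ, hψ⟩ := exists_functional (S := S) x' hgen hx' f hf κ hfκ
  have h1 : (1 : κ) ⊗ₜ[R] x' ≠ 0 := tmul_ne_zero_of_functional ψ x' hψ
  have hflat : Module.Flat R (LocalizedModule (Submonoid.powers f) (M ⧸ N)) := by
    have : Module.Flat (Localization.Away f) (LocalizedModule (Submonoid.powers f) (M ⧸ N)) :=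
      inferInstance
    exact Module.Flat.trans R (Localization.Away f) _
  have hinj := lTensor_injective_of_flat_away f κ hfκ (N.subtype.restrictScalars R)
    (N.mkQ.restrictScalars R) N.injective_subtype (LinearMap.exact_subtype_mkQ N)
    N.mkQ_surjective
  intro h0
  apply h1
  apply hinj
  rw [map_zero, LinearMap.lTensor_tmul]
  exact h0

section Dich
variable {R B : Type u} [CommRing R] [IsDomain R] [CommRing B] [Algebra R B]
  {F G H : Type u} [AddCommGroup F] [Module B F] [Module R F] [IsScalarTower R B F]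
  [AddCommGroup G] [Module B G] [Module R G] [IsScalarTower R B G]
  [AddCommGroup H] [Module B H] [Module R H] [IsScalarTower R B H]
  (u : F →ₗ[B] G) (v : G →ₗ[B] H)

/-- torsion criteria imply generic exactness -/
lemma generic_exact_of_torsion
    (hE : ∀ x : F, ∃ s : R, s ≠ 0 ∧ s • v (u x) = 0)
    (hD : ∀ y : G, v y = 0 → ∃ s : R, s ≠ 0 ∧ ∃ x : F, s • y = u x) :
    Exact ((u.restrictScalars R).baseChange (FractionRing R))
      ((v.restrictScalars R).baseChange (FractionRing R)) := by
  set K := FractionRing R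
  set uR := u.restrictScalars R with huR
  set vR := v.restrictScalars R with hvR
  intro z
  constructor
  · intro hz
    obtain ⟨s, y, hs, hsz⟩ := exists_smul_eq_tmul z
    have h1 : (1 : K) ⊗ₜ[R] v y = 0 := by
      have := congrArg (vR.baseChange K) hsz
      rw [LinearMap.map_smul_of_tower, hz, smul_zero, LinearMap.baseChange_tmul] at this
      exact this.symm
    obtain ⟨s', hs', hs'0⟩ := exists_smul_eq_zero_of_tmul_eq_zero _ h1
    have h2 : v (s' • y) = 0 := by
      rw [LinearMap.map_smul_of_tower]; exact hs'0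
    obtain ⟨s'', hs'', x, hx⟩ := hD (s' • y) h2
    have hc : algebraMap R K (s'' * s' * s) ≠ 0 := by
      rw [Ne, map_eq_zero_iff _ (IsFractionRing.injective R K)]
      exact mul_ne_zero (mul_ne_zero hs'' hs') hs
    refine ⟨(algebraMap R K (s'' * s' * s))⁻¹ • ((1 : K) ⊗ₜ[R] x), ?_⟩
    rw [map_smul, LinearMap.baseChange_tmul]
    change _ • ((1 : K) ⊗ₜ[R] u x) = z
    rw [← hx, tmul_smul, tmul_smul, ← hsz, smul_smul, smul_smul,
      ← algebraMap_smul K (s'' * s' * s) z, smul_smul, inv_mul_cancel₀ hc, one_smul]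
  · rintro ⟨w, rfl⟩
    induction w using TensorProduct.induction_on with
    | zero => simp
    | add a b ha hb => rw [map_add, map_add, ha, hb, add_zero]
    | tmul c x =>
      obtain ⟨s, hs, hs0⟩ := hE x
      have hc : algebraMap R K s ≠ 0 := by
        rw [Ne, map_eq_zero_iff _ (IsFractionRing.injective R K)]
        exact hs
      rw [LinearMap.baseChange_tmul, LinearMap.baseChange_tmul]
      change c ⊗ₜ[R] v (u x) = 0
      rw [Groth.Agent.S4801.tmul_eq_inv_pow_tmul s K hc c (v (u x)) 1]
      simp only [pow_one]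
      rw [hs0, tmul_zero]

/-- generic dichotomy: over a domain, fibrewise exactness is generically constant -/
theorem exists_dichotomy [Algebra.FinitePresentation R B]
    [Module.FinitePresentation B F] [Module.FinitePresentation B G]
    [Module.FinitePresentation B H] :
    ∃ f : R, f ≠ 0 ∧
      ((∀ p : PrimeSpectrum R, f ∉ p.asIdeal →
        Exact ((u.restrictScalars R).baseChange p.asIdeal.ResidueField)
          ((v.restrictScalars R).baseChange p.asIdeal.ResidueField)) ∨
      (∀ p : PrimeSpectrum R, f ∉ p.asIdeal →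
        ¬ Exact ((u.restrictScalars R).baseChange p.asIdeal.ResidueField)
          ((v.restrictScalars R).baseChange p.asIdeal.ResidueField))) := by
  by_cases hgen : Exact ((u.restrictScalars R).baseChange (FractionRing R))
      ((v.restrictScalars R).baseChange (FractionRing R))
  · obtain ⟨f, hf, h⟩ := Groth.Agent.S4801.result u v hgen
    exact ⟨f, hf, Or.inl h⟩
  by_cases hE : ∀ x : F, ∃ s : R, s ≠ 0 ∧ s • v (u x) = 0
  swap
  · push Not at hE
    obtain ⟨x, hx⟩ := hE
    obtain ⟨f, hf, h⟩ := exists_ne_zero_fibre (S := B) (v (u x)) hx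
    refine ⟨f, hf, Or.inr fun p hp hex => ?_⟩
    have hfκ : algebraMap R p.asIdeal.ResidueField f ≠ 0 := by
      rw [Ne, Ideal.algebraMap_residueField_eq_zero]
      exact hp
    have := hex.apply_apply_eq_zero ((1 : p.asIdeal.ResidueField) ⊗ₜ[R] x)
    rw [LinearMap.baseChange_tmul, LinearMap.baseChange_tmul] at this
    exact h _ hfκ this
  by_cases hD : ∀ y : G, v y = 0 → ∃ s : R, s ≠ 0 ∧ ∃ x : F, s • y = u x
  swap
  · push Not at hD
    obtain ⟨y, hy, hyx⟩ := hD
    have hy' : ∀ s : R, s ≠ 0 →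
        s • (Submodule.Quotient.mk y : G ⧸ LinearMap.range u) ≠ 0 := by
      intro s hs h0
      rw [← Submodule.Quotient.mk_smul, Submodule.Quotient.mk_eq_zero] at h0
      obtain ⟨x, hx⟩ := h0
      exact hyx s hs x hx.symm
    obtain ⟨f, hf, h⟩ := exists_ne_zero_fibre (S := B)
      (Submodule.Quotient.mk y : G ⧸ LinearMap.range u) hy'
    refine ⟨f, hf, Or.inr fun p hp hex => ?_⟩
    set κ := p.asIdeal.ResidueField
    have hfκ : algebraMap R κ f ≠ 0 := by
      rw [Ne, Ideal.algebraMap_residueField_eq_zero]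
      exact hp
    have h0 : ((v.restrictScalars R).baseChange κ) ((1 : κ) ⊗ₜ[R] y) = 0 := by
      rw [LinearMap.baseChange_tmul]
      change (1 : κ) ⊗ₜ[R] v y = 0
      rw [hy, tmul_zero]
    obtain ⟨w, hw⟩ := (hex _).mp h0
    have hcomp : ((LinearMap.range u).mkQ.restrictScalars R) ∘ₗ (u.restrictScalars R) = 0 := by
      ext x
      simp
    have := congrArg (((LinearMap.range u).mkQ.restrictScalars R).baseChange κ) hw
    rw [← LinearMap.comp_apply, ← LinearMap.baseChange_comp, hcomp, LinearMap.baseChange_zero,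
      LinearMap.zero_apply, LinearMap.baseChange_tmul] at this
    exact h κ hfκ this.symm
  exact absurd (generic_exact_of_torsion u v hE hD) hgen

end Dich

section DatLevel
variable {n : ℕ} {R : Type u} [CommRing R] {aF aG bG aH bH : ℕ}

instance Ck.finitePresentation {a b : ℕ} (m : Fin b → (Fin a → Pn n R)) :
    Module.FinitePresentation (Pn n R) (Ck m) :=
  Module.finitePresentation_of_surjective (Nm m).mkQ (Nm m).mkQ_surjective
    (by rw [Submodule.ker_mkQ]; exact Submodule.fg_span (Set.finite_range m))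

/-- dichotomy for data over a domain -/
theorem Dat.exists_dichotomy [IsDomain R] (D : Dat n R aF aG bG aH bH) :
    ∃ f : R, f ≠ 0 ∧ ((∀ p : PrimeSpectrum R, f ∉ p.asIdeal → p ∈ D.E) ∨
      (∀ p : PrimeSpectrum R, f ∉ p.asIdeal → p ∉ D.E)) := by
  obtain ⟨f, hf, h⟩ := FE.exists_dichotomy (R := R) D.u' D.v'
  refine ⟨f, hf, ?_⟩
  rcases h with h | h
  · exact Or.inl fun p hp => (D.mem_E_iff p).mpr (h p hp)
  · exact Or.inr fun p hp hmem => h p hp ((D.mem_E_iff p).mp hmem)

end DatLevel

section Noeth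
variable {n : ℕ} {R : Type u} [CommRing R] {aF aG bG aH bH : ℕ}
open PrimeSpectrum Topology

/-- Noetherian case: the fibrewise-exact locus is constructible -/
theorem Dat.isConstructible_E_of_noeth [IsNoetherianRing R] (D : Dat n R aF aG bG aH bH) :
    IsConstructible D.E := by
  have key := Groth.Agent.Lib.Helper12.constructible_function_of_locally_constant
    (X := PrimeSpectrum R) (T := Prop) (fun p => p ∈ D.E) ?_
  · have := key.1 True
    convert this using 1
    ext p
    simp
  intro Y hYc hYi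
  set 𝔭 : Ideal R := vanishingIdeal Y with h𝔭
  have hprime : 𝔭.IsPrime := isIrreducible_iff_vanishingIdeal_isPrime.mp hYi
  have hY : Y = zeroLocus (𝔭 : Set R) := by
    rw [h𝔭, zeroLocus_vanishingIdeal_eq_closure, hYc.closure_eq]
  obtain ⟨fb, hfb, hdich⟩ := (D.map (Ideal.Quotient.mk 𝔭)).exists_dichotomy
  obtain ⟨f, rfl⟩ := Ideal.Quotient.mk_surjective fb
  have hf𝔭 : f ∉ 𝔭 := fun h => hfb (Ideal.Quotient.eq_zero_iff_mem.mpr h)
  have hrange : ∀ a ∈ Y, ∃ a' : PrimeSpectrum (R ⧸ 𝔭), comap (Ideal.Quotient.mk 𝔭) a' = a := by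
    intro a ha
    have : a ∈ Set.range (comap (Ideal.Quotient.mk 𝔭)) := by
      rw [range_comap_of_surjective _ _ Ideal.Quotient.mk_surjective, Ideal.mk_ker]
      rw [hY] at ha
      exact ha
    exact this
  have hval : ∀ a ∈ (basicOpen f : Set (PrimeSpectrum R)) ∩ Y,
      ∃ a' : PrimeSpectrum (R ⧸ 𝔭), Ideal.Quotient.mk 𝔭 f ∉ a'.asIdeal ∧
        (a ∈ D.E ↔ a' ∈ (D.map (Ideal.Quotient.mk 𝔭)).E) := by
    rintro a ⟨haU, haY⟩
    obtain ⟨a', rfl⟩ := hrange a haY
    refine ⟨a', fun h => haU ?_, ?_⟩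
    · exact h
    · rw [Dat.E_map]
      rfl
  refine ⟨basicOpen f, isOpen_basicOpen, ⟨⟨𝔭, hprime⟩, ?_, ?_⟩, ?_⟩
  · exact hf𝔭
  · rw [hY, mem_zeroLocus]
  · intro a ha b hb
    obtain ⟨a', ha'f, ha'⟩ := hval a ha
    obtain ⟨b', hb'f, hb'⟩ := hval b hb
    apply propext
    rw [ha', hb']
    rcases hdich with h | h
    · exact ⟨fun _ => h b' hb'f, fun _ => h a' ha'f⟩
    · exact ⟨fun hh => absurd hh (h a' ha'f), fun hh => absurd hh (h b' hb'f)⟩

/-- general case: the fibrewise-exact locus of finite data is constructible -/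
theorem Dat.isConstructible_E (D : Dat n R aF aG bG aH bH) : IsConstructible D.E := by
  obtain ⟨R₀, _, _, ρ, D₀, rfl⟩ := D.exists_noeth_model
  rw [Dat.E_map]
  have h0 := D₀.isConstructible_E_of_noeth
  obtain ⟨S, hS⟩ := (exists_constructibleSetData_iff).mpr h0
  rw [← hS, ← ConstructibleSetData.toSet_map]
  exact (exists_constructibleSetData_iff).mp ⟨_, rfl⟩

end Noeth

end Groth.Agent.Lib.Helper16.FE
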