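import Groth.Agent.Lib.Helper16.LocCohXSeq
import Groth.Agent.Lib.Helper16.FinDim
import Groth.Agent.Lib.Helper16.LocCohIndepBase

/-!
# Auxiliary lemmas for Faltings' annihilator theorem (helper16)

* `subsingleton_H_top` : `H^i_R(M) = 0`.
* `le_radical_annihilator_H_of_map` : descent of `b ≤ rad ann H^i` along `R → R'`.
* `le_radical_annihilator_H_descent` : removing generators one at a time by the `x`-sequence.
-/

set_option autoImplicit false
universe u
open CategoryTheory Opposite Limits

namespace Groth.Agent.Lib.Helper16.LC

open Groth.Agent.Lib.Helper16.Depth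

section top

variable {R : Type u} [CommRing R]

theorem subsingleton_H_top (i : ℕ) (M : Type u) [AddCommGroup M] [Module R M] :
    Subsingleton (LocCoh.H (⊤ : Ideal R) i M) := by
  apply subsingleton_H_of_forall
  intro k
  refine subsingleton_ext_of_smul_bijective (1 : R) ?_ ?_ i
  · intro y
    obtain ⟨r, rfl⟩ := Ideal.Quotient.mk_surjective y
    rw [one_smul]
    exact Ideal.Quotient.eq_zero_iff_mem.mpr (by rw [Ideal.top_pow]; trivial)
  · constructor
    · intro y y' h
      simpa using h
    · intro y
      exact ⟨y, one_smul _ _⟩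

theorem le_radical_annihilator_of_subsingleton (b : Ideal R) (N : Type u) [AddCommGroup N]
    [Module R N] [Subsingleton N] : b ≤ (Module.annihilator R N).radical := by
  intro x _
  refine ⟨1, ?_⟩
  rw [Module.mem_annihilator]
  intro n
  exact Subsingleton.elim _ _

end top

section transport

variable {R R' : Type u} [CommRing R] [CommRing R'] [Algebra R R'] [IsNoetherianRing R]
  [IsNoetherianRing R']

/-- Descent of `b ≤ rad ann H^i_e(M')` from `R'` to `R`. -/
theorem le_radical_annihilator_H_of_map (e b : Ideal R) (i : ℕ) (M' : Type u) [AddCommGroup M']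
    [Module R' M'] [Module R M'] [IsScalarTower R R' M']
    (h : b.map (algebraMap R R') ≤
      (Module.annihilator R' (LocCoh.H (e.map (algebraMap R R')) i M')).radical) :
    b ≤ (Module.annihilator R (LocCoh.H e i M')).radical := by
  obtain ⟨φ, hφ⟩ := DTL.semiIso_H (R' := R') e i M'
  intro β hβ
  obtain ⟨n, hn⟩ := h (Ideal.mem_map_of_mem _ hβ)
  refine ⟨n, ?_⟩
  rw [Module.mem_annihilator] at hn ⊢
  intro z
  obtain ⟨y, rfl⟩ := φ.surjective z
  rw [← hφ, map_pow, hn, map_zero]

end transport

section descent

variable {R : Type u} [CommRing R] [IsNoetherianRing R]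

/-- Removing generators one at a time via the `x`-sequence. -/
theorem le_radical_annihilator_H_descent (a b c' : Ideal R) (i : ℕ) (M : Type u) [AddCommGroup M]
    [Module R M]
    (hloc : ∀ x ∈ c', ∀ e : Ideal R, a ≤ e →
      b ≤ (Module.annihilator R
        (LocCoh.H e i (LocalizedModule (Submonoid.powers x) M))).radical) :
    ∀ (s : Finset R), (∀ x ∈ s, x ∈ c') → ∀ e : Ideal R, a ≤ e →
      b ≤ (Module.annihilator R (LocCoh.H (e ⊔ Ideal.span (s : Set R)) i M)).radical →
      b ≤ (Module.annihilator R (LocCoh.H e i M)).radical := by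
  classical
  intro s
  induction s using Finset.induction_on with
  | empty =>
    intro _ e _ h
    rw [Finset.coe_empty, Ideal.span_empty, sup_bot_eq] at h
    exact h
  | insert x s hxs ih =>
    intro hmem e hae h
    have hx : x ∈ c' := hmem x (Finset.mem_insert_self x s)
    have hs : ∀ y ∈ s, y ∈ c' := fun y hy => hmem y (Finset.mem_insert_of_mem hy)
    have heq : e ⊔ Ideal.span ((insert x s : Finset R) : Set R) =
        (e ⊔ Ideal.span {x}) ⊔ Ideal.span (s : Set R) := by
      rw [Finset.coe_insert, Ideal.span_insert, sup_assoc]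
    rw [heq] at h
    have h1 := ih hs (e ⊔ Ideal.span {x}) (hae.trans le_sup_left) h
    exact le_radical_annihilator_of_exact b (xα e x i M) (xβ e x i M)
      (fun y hy => x_exact e x i M y hy) h1 (hloc x hx e hae)

end descent

end Groth.Agent.Lib.Helper16.LC
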