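import Groth.Agent.Lib.Helper16.FreeAtPrime
import Groth.Agent.Lib.Helper16.DepthExt
import Mathlib

/-!
# Openness of the loci `{p : pd_{R_p} M_p < t}` (helper16)

* `exists_forall_subsingleton_localizedModule` : if `N_p = 0` then `N_q = 0` for `q` in a basic open
  neighbourhood of `p`.
* `exists_forall_hasProjectiveDimensionLT` : if `pd_{R_p} M_p < t` then `pd_{R_q} M_q < t` for all
  `q` in a basic open neighbourhood of `p`.
* `not_hasProjectiveDimensionLT_iff_vanishingIdeal_le` : the complement is the zero locus of its
  vanishing ideal.
-/

set_option autoImplicit false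
universe u

open CategoryTheory

namespace Groth.Agent.Lib.Helper16.PDR

open Groth.Agent.Lib.Helper16.LC Groth.Agent.Lib.Helper16.Depth

variable {R : Type u} [CommRing R] [IsNoetherianRing R]

omit [IsNoetherianRing R] in
theorem exists_forall_subsingleton_localizedModule (p : Ideal R) [p.IsPrime] (N : Type u)
    [AddCommGroup N] [Module R N] [Module.Finite R N]
    (h : Subsingleton (LocalizedModule p.primeCompl N)) :
    ∃ s : R, s ∉ p ∧ ∀ (q : Ideal R) [q.IsPrime], s ∉ q →
      Subsingleton (LocalizedModule q.primeCompl N) := by
  obtain ⟨s, hs, hsub⟩ := LocalizedModule.exists_subsingleton_away (M := N) p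
  refine ⟨s, hs, fun q _ hsq => ?_⟩
  rw [LocalizedModule.subsingleton_iff] at hsub ⊢
  intro m
  obtain ⟨r, ⟨k, rfl⟩, hr⟩ := hsub m
  exact ⟨s ^ k, fun hmem => hsq (Ideal.IsPrime.mem_of_pow_mem inferInstance k hmem), hr⟩

/-- Local freeness spreads out to a basic open neighbourhood. -/
theorem exists_forall_free_localizedModule (p : Ideal R) [p.IsPrime] (M : Type u)
    [AddCommGroup M] [Module R M] [Module.Finite R M]
    [Module.Free (Localization.AtPrime p) (LocalizedModule p.primeCompl M)]
    [Nontrivial (LocalizedModule p.primeCompl M)] :
    ∃ s : R, s ∉ p ∧ ∀ (q : Ideal R) [q.IsPrime], s ∉ q →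
      Module.Free (Localization.AtPrime q) (LocalizedModule q.primeCompl M) := by
  obtain ⟨t, π, -, hbij⟩ := exists_linearMap_pi_localization_bijective M p
  obtain ⟨hker, hcoker⟩ := subsingleton_ker_coker_of_bijective M p π hbij
  obtain ⟨s₁, hs₁, h₁⟩ := exists_forall_subsingleton_localizedModule p (LinearMap.ker π) hker
  obtain ⟨s₂, hs₂, h₂⟩ := exists_forall_subsingleton_localizedModule p
    (M ⧸ LinearMap.range π) hcoker
  refine ⟨s₁ * s₂, fun hmem => (Ideal.IsPrime.mem_or_mem inferInstance hmem).elim hs₁ hs₂,
    fun q _ hsq => ?_⟩
  have hq₁ : s₁ ∉ q := fun hmem => hsq (Ideal.mul_mem_right _ _ hmem)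
  have hq₂ : s₂ ∉ q := fun hmem => hsq (Ideal.mul_mem_left _ _ hmem)
  have hK := h₁ q hq₁
  have hC := h₂ q hq₂
  have hex1 := LocalizedModule.map_exact q.primeCompl (LinearMap.ker π).subtype π
    (LinearMap.exact_subtype_ker_map π)
  have hex2 := LocalizedModule.map_exact q.primeCompl π (LinearMap.range π).mkQ
    (LinearMap.exact_map_mkQ_range π)
  have hinj : Function.Injective (LocalizedModule.map q.primeCompl π) := by
    rw [injective_iff_map_eq_zero]
    intro z hz
    obtain ⟨w, hw⟩ := (hex1 z).mp hz
    rw [← hw, hK.elim w 0, map_zero]
  have hsurj : Function.Surjective (LocalizedModule.map q.primeCompl π) := by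
    intro y
    exact (hex2 y).mp (hC.elim _ _)
  have hfreeF : Module.Free (Localization.AtPrime q) (LocalizedModule q.primeCompl (Fin t → R)) :=
    Module.free_of_isLocalizedModule q.primeCompl
      (LocalizedModule.mkLinearMap q.primeCompl (Fin t → R))
  exact Module.Free.of_equiv (LinearEquiv.ofBijective _ ⟨hinj, hsurj⟩)

/-- Openness of the locus where the projective dimension of the localization is `< t`. -/
theorem exists_forall_hasProjectiveDimensionLT (p : Ideal R) [p.IsPrime] :
    ∀ (t : ℕ) (M : Type u) [AddCommGroup M] [Module R M] [Module.Finite R M],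
      HasProjectiveDimensionLT
        (ModuleCat.of (Localization.AtPrime p) (LocalizedModule p.primeCompl M)) t →
      ∃ s : R, s ∉ p ∧ ∀ (q : Ideal R) [q.IsPrime], s ∉ q →
        HasProjectiveDimensionLT
          (ModuleCat.of (Localization.AtPrime q) (LocalizedModule q.primeCompl M)) t := by
  have hzero : ∀ (M : Type u) [AddCommGroup M] [Module R M] [Module.Finite R M],
      Subsingleton (LocalizedModule p.primeCompl M) → ∀ t : ℕ,
      ∃ s : R, s ∉ p ∧ ∀ (q : Ideal R) [q.IsPrime], s ∉ q →
        HasProjectiveDimensionLT
          (ModuleCat.of (Localization.AtPrime q) (LocalizedModule q.primeCompl M)) t := by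
    intro M _ _ _ hsub t
    obtain ⟨s, hs, hq⟩ := exists_forall_subsingleton_localizedModule p M hsub
    refine ⟨s, hs, fun q _ hsq => ?_⟩
    have := hq q hsq
    have hz : HasProjectiveDimensionLT
        (ModuleCat.of (Localization.AtPrime q) (LocalizedModule q.primeCompl M)) 0 :=
      (ModuleCat.isZero_of_subsingleton _).hasProjectiveDimensionLT_zero
    exact hasProjectiveDimensionLT_of_ge _ 0 t (Nat.zero_le t)
  intro t
  induction t with
  | zero =>
    intro M _ _ _ h
    have hz : Limits.IsZero (ModuleCat.of (Localization.AtPrime p)
        (LocalizedModule p.primeCompl M)) := isZero_of_hasProjectiveDimensionLT_zero _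
    exact hzero M (ModuleCat.subsingleton_of_isZero hz) 0
  | succ t ih =>
    intro M _ _ _ h
    cases t with
    | zero =>
      rcases subsingleton_or_nontrivial (LocalizedModule p.primeCompl M) with hsub | hnt
      · exact hzero M hsub 1
      · have hproj : Projective (ModuleCat.of (Localization.AtPrime p)
            (LocalizedModule p.primeCompl M)) :=
          projective_iff_hasProjectiveDimensionLT_one.mpr h
        have hmproj : Module.Projective (Localization.AtPrime p)
            (LocalizedModule p.primeCompl M) := (IsProjective.iff_projective _).mpr hproj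
        have hfree : Module.Free (Localization.AtPrime p) (LocalizedModule p.primeCompl M) :=
          Module.free_of_flat_of_isLocalRing
        obtain ⟨s, hs, hq⟩ := exists_forall_free_localizedModule p M
        refine ⟨s, hs, fun q _ hsq => ?_⟩
        have := hq q hsq
        have hproj' : Projective (ModuleCat.of (Localization.AtPrime q)
            (LocalizedModule q.primeCompl M)) :=
          (IsProjective.iff_projective _).mp inferInstance
        infer_instance
    | succ t =>
      obtain ⟨n, π, hπ⟩ := Module.Finite.exists_fin' R M
      have hSES : ∀ (q : Ideal R) [q.IsPrime],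
          ∃ (S : ShortComplex (ModuleCat.{u} (Localization.AtPrime q))), S.ShortExact ∧
            Projective S.X₂ ∧
            S.X₁ = ModuleCat.of (Localization.AtPrime q)
              (LocalizedModule q.primeCompl (LinearMap.ker π)) ∧
            S.X₃ = ModuleCat.of (Localization.AtPrime q) (LocalizedModule q.primeCompl M) := by
        intro q _
        have hexloc : Function.Exact (LocalizedModule.map q.primeCompl (LinearMap.ker π).subtype)
            (LocalizedModule.map q.primeCompl π) :=
          LocalizedModule.map_exact q.primeCompl _ _ (LinearMap.exact_subtype_ker_map π)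
        have hS := shortExact_of_linearMaps (R := Localization.AtPrime q)
          (N' := LocalizedModule q.primeCompl (LinearMap.ker π))
          (N := LocalizedModule q.primeCompl (Fin n → R))
          (N'' := LocalizedModule q.primeCompl M)
          (LocalizedModule.map q.primeCompl (LinearMap.ker π).subtype)
          (LocalizedModule.map q.primeCompl π)
          (LocalizedModule.map_injective _ _ (Submodule.injective_subtype _))
          (LocalizedModule.map_surjective _ _ hπ) hexloc
        have hfreeF : Module.Free (Localization.AtPrime q)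
            (LocalizedModule q.primeCompl (Fin n → R)) :=
          Module.free_of_isLocalizedModule q.primeCompl
            (LocalizedModule.mkLinearMap q.primeCompl (Fin n → R))
        have hprojF : Projective (ModuleCat.of (Localization.AtPrime q)
            (LocalizedModule q.primeCompl (Fin n → R))) :=
          (IsProjective.iff_projective _).mp inferInstance
        exact ⟨_, hS, hprojF, rfl, rfl⟩
      obtain ⟨S, hS, hproj, h1, h3⟩ := hSES p
      have hK : HasProjectiveDimensionLT (ModuleCat.of (Localization.AtPrime p)
          (LocalizedModule p.primeCompl (LinearMap.ker π))) (t + 1) := by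
        rw [← h1]
        apply (hS.hasProjectiveDimensionLT_X₃_iff t hproj).mp
        rw [h3]
        exact h
      obtain ⟨s, hs, hq⟩ := ih (LinearMap.ker π) hK
      refine ⟨s, hs, fun q _ hsq => ?_⟩
      obtain ⟨S', hS', hproj', h1', h3'⟩ := hSES q
      have hK' := hq q hsq
      rw [← h1'] at hK'
      have := (hS'.hasProjectiveDimensionLT_X₃_iff t hproj').mpr hK'
      rw [h3'] at this
      exact this

/-- The locus `{p : ¬ pd_{R_p} M_p < t}` is the zero locus of its vanishing ideal. -/
theorem not_hasProjectiveDimensionLT_iff_vanishingIdeal_le (t : ℕ) (M : Type u) [AddCommGroup M]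
    [Module R M] [Module.Finite R M] (p : PrimeSpectrum R) :
    (¬ HasProjectiveDimensionLT (ModuleCat.of (Localization.AtPrime p.asIdeal)
        (LocalizedModule p.asIdeal.primeCompl M)) t) ↔
      PrimeSpectrum.vanishingIdeal {q : PrimeSpectrum R | ¬ HasProjectiveDimensionLT
        (ModuleCat.of (Localization.AtPrime q.asIdeal)
          (LocalizedModule q.asIdeal.primeCompl M)) t} ≤ p.asIdeal := by
  constructor
  · intro hp x hx
    rw [PrimeSpectrum.mem_vanishingIdeal] at hx
    exact hx p hp
  · intro hle hpd
    obtain ⟨s, hs, hq⟩ := exists_forall_hasProjectiveDimensionLT p.asIdeal t M hpd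
    apply hs
    apply hle
    rw [PrimeSpectrum.mem_vanishingIdeal]
    intro q hqmem
    by_contra hsq
    exact hqmem (hq q.asIdeal hsq)

end Groth.Agent.Lib.Helper16.PDR
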