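import Groth.Agent.Lib.Helper16.GorAnn
import Groth.Agent.Lib.Helper16.LocCohLocalize
import Groth.Agent.Lib.Helper18.SerreReg2

/-!
# Faltings' annihilator theorem for quotients of Gorenstein local rings (helper16)

`subsingleton_H_localized_iff`: for `S → R` surjective, `p` prime of `R`, `P` its preimage:
`H^j(M_P)` over `S_P` vanishes iff `H^j(M_p)` over `R_p` does. `le_radical_annihilator_transfer`.
`le_radical_annihilator_H_iff`: `J ⊆ rad Ann H^i_m(M)` iff `H^{i - dim R/p}_{pR_p}(M_p) = 0` for all
primes `p ⊉ J`.
-/

set_option autoImplicit false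
universe u
open CategoryTheory Abelian IsLocalRing

namespace Groth.Agent.Lib.Helper16.GorAnnTr

open Groth.Agent.Lib.Helper16.LC Groth.Agent.Lib.Helper16.DTL

section prime

variable {S R : Type u} [CommRing S] [CommRing R] [IsNoetherianRing S] [IsNoetherianRing R]
  [Algebra S R] (hg : Function.Surjective (algebraMap S R))
  (M : Type u) [AddCommGroup M] [Module R M] [Module S M] [IsScalarTower S R M]
  (p : Ideal R) [p.IsPrime]

include hg in
/-- local cohomology of `M_p` may be computed over `S_P`, `P` the preimage of `p` -/
theorem subsingleton_H_localized_iff (j : ℕ) :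
    Subsingleton (LocCoh.H (maximalIdeal (Localization.AtPrime (p.comap (algebraMap S R)))) j
      (LocalizedModule (p.comap (algebraMap S R)).primeCompl M)) ↔
    Subsingleton (LocCoh.H (maximalIdeal (Localization.AtPrime p)) j
      (LocalizedModule p.primeCompl M)) := by
  set P := p.comap (algebraMap S R) with hP
  let φ : Localization.AtPrime P →+* Localization.AtPrime p :=
    Localization.localRingHom P p (algebraMap S R) rfl
  let _ : Algebra (Localization.AtPrime P) (Localization.AtPrime p) := φ.toAlgebra
  have hφsurj : Function.Surjective φ := by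
    intro x
    obtain ⟨r, t, rfl⟩ := IsLocalization.exists_mk'_eq p.primeCompl x
    obtain ⟨s, rfl⟩ := hg r
    obtain ⟨s', hs'⟩ := hg t.1
    have hs'P : s' ∈ P.primeCompl := by
      change s' ∉ P
      rw [hP, Ideal.mem_comap, hs']
      exact t.2
    refine ⟨IsLocalization.mk' _ s ⟨s', hs'P⟩, ?_⟩
    rw [Localization.localRingHom_mk']
    congr 1
    exact Subtype.ext hs'
  have hNS : IsNoetherianRing (Localization.AtPrime P) :=
    IsLocalization.isNoetherianRing P.primeCompl _ inferInstance
  have hNR : IsNoetherianRing (Localization.AtPrime p) :=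
    IsLocalization.isNoetherianRing p.primeCompl _ inferInstance
  have hmax : (maximalIdeal (Localization.AtPrime P)).map
      (algebraMap (Localization.AtPrime P) (Localization.AtPrime p)) =
      maximalIdeal (Localization.AtPrime p) :=
    IsLocalRing.map_maximalIdeal_of_surjective φ hφsurj
  let _ : Module (Localization.AtPrime P) (LocalizedModule p.primeCompl M) :=
    Module.compHom _ φ
  have htower : IsScalarTower (Localization.AtPrime P) (Localization.AtPrime p)
      (LocalizedModule p.primeCompl M) := IsScalarTower.of_algebraMap_smul (fun r x => rfl)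
  obtain ⟨ψ, -⟩ := semiIso_H (R := Localization.AtPrime P) (R' := Localization.AtPrime p)
    (maximalIdeal (Localization.AtPrime P)) j (LocalizedModule p.primeCompl M)
  rw [hmax] at ψ
  -- identify the two localized modules
  have hsmul : ∀ (s : S) (y : LocalizedModule p.primeCompl M),
      algebraMap S (Localization.AtPrime P) s • y = s • y := by
    intro s y
    change φ (algebraMap S (Localization.AtPrime P) s) • y = _
    rw [Localization.localRingHom_to_map, algebraMap_smul, algebraMap_smul]
  have htower2 : IsScalarTower S (Localization.AtPrime P) (LocalizedModule p.primeCompl M) :=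
    IsScalarTower.of_algebraMap_smul hsmul
  let f' : M →ₗ[S] LocalizedModule p.primeCompl M :=
    (LocalizedModule.mkLinearMap p.primeCompl M).restrictScalars S
  have hloc : IsLocalizedModule P.primeCompl f' := by
    refine ⟨?_, ?_, ?_⟩
    · intro s
      have hs : algebraMap S R s.1 ∈ p.primeCompl := s.2
      have hu := IsLocalizedModule.map_units (LocalizedModule.mkLinearMap p.primeCompl M)
        ⟨algebraMap S R s.1, hs⟩
      rw [Module.End.isUnit_iff] at hu ⊢
      convert hu using 1
      funext y
      exact (algebraMap_smul R s.1 y).symm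
    · intro y
      obtain ⟨⟨m, t⟩, hmt⟩ := IsLocalizedModule.surj p.primeCompl
        (LocalizedModule.mkLinearMap p.primeCompl M) y
      obtain ⟨s', hs'⟩ := hg t.1
      have hs'P : s' ∈ P.primeCompl := by
        change s' ∉ P
        rw [hP, Ideal.mem_comap, hs']
        exact t.2
      refine ⟨⟨m, ⟨s', hs'P⟩⟩, ?_⟩
      change s' • y = LocalizedModule.mk m 1
      rw [← algebraMap_smul R s' y, hs']
      exact hmt
    · intro x₁ x₂ h
      obtain ⟨c, hc⟩ := IsLocalizedModule.exists_of_eq (S := p.primeCompl)
        (f := LocalizedModule.mkLinearMap p.primeCompl M) h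
      obtain ⟨s', hs'⟩ := hg c.1
      have hs'P : s' ∈ P.primeCompl := by
        change s' ∉ P
        rw [hP, Ideal.mem_comap, hs']
        exact c.2
      refine ⟨⟨s', hs'P⟩, ?_⟩
      change s' • x₁ = s' • x₂
      rw [← algebraMap_smul R s' x₁, ← algebraMap_smul R s' x₂, hs']
      exact hc
  let e := IsLocalizedModule.linearEquiv P.primeCompl
    (LocalizedModule.mkLinearMap P.primeCompl M) f'
  let e' := e.extendScalarsOfIsLocalization P.primeCompl (Localization.AtPrime P)
  let E := HcongrEquiv (maximalIdeal (Localization.AtPrime P)) j e'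
  constructor
  · intro h
    have h1 : Subsingleton (LocCoh.H (maximalIdeal (Localization.AtPrime P)) j
        (LocalizedModule p.primeCompl M)) := E.symm.toEquiv.subsingleton
    exact ψ.toEquiv.subsingleton
  · intro h
    have h1 : Subsingleton (LocCoh.H (maximalIdeal (Localization.AtPrime P)) j
        (LocalizedModule p.primeCompl M)) := ψ.symm.toEquiv.subsingleton
    exact E.toEquiv.subsingleton

omit [IsNoetherianRing S] [IsNoetherianRing R] [p.IsPrime] in
include hg in
theorem ringKrullDim_quotient_comap :
    ringKrullDim (S ⧸ p.comap (algebraMap S R)) = ringKrullDim (R ⧸ p) := by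
  let f : (S ⧸ p.comap (algebraMap S R)) →+* (R ⧸ p) :=
    Ideal.quotientMap p (algebraMap S R) le_rfl
  have hinj : Function.Injective f := Ideal.quotientMap_injective
  have hsurj : Function.Surjective f := Ideal.quotientMap_surjective hg
  exact ringKrullDim_eq_of_ringEquiv (RingEquiv.ofBijective f ⟨hinj, hsurj⟩)

end prime

section ann

variable {S R : Type u} [CommRing S] [CommRing R] [IsNoetherianRing S] [IsNoetherianRing R]
  [Algebra S R] (hg : Function.Surjective (algebraMap S R))
  (M : Type u) [AddCommGroup M] [Module R M] [Module S M] [IsScalarTower S R M]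

include hg in
/-- the annihilator condition may be checked over `S` -/
theorem le_radical_annihilator_transfer (I : Ideal S) (i : ℕ) (J : Ideal R) :
    J ≤ (Module.annihilator R (LocCoh.H (I.map (algebraMap S R)) i M)).radical ↔
      J.comap (algebraMap S R) ≤ (Module.annihilator S (LocCoh.H I i M)).radical := by
  obtain ⟨ψ, hψ⟩ := semiIso_H (R := S) (R' := R) I i M
  have key : ∀ s : S, s ∈ Module.annihilator S (LocCoh.H I i M) ↔
      algebraMap S R s ∈ Module.annihilator R (LocCoh.H (I.map (algebraMap S R)) i M) := by
    intro s
    rw [Module.mem_annihilator, Module.mem_annihilator]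
    constructor
    · intro h a
      apply ψ.injective
      rw [hψ, h, map_zero]
    · intro h b
      obtain ⟨a, rfl⟩ := ψ.surjective b
      rw [← hψ, h, map_zero]
  constructor
  · intro h s hs
    obtain ⟨k, hk⟩ := h (Ideal.mem_comap.mp hs)
    refine ⟨k, ?_⟩
    rw [key, map_pow]
    exact hk
  · intro h r hr
    obtain ⟨s, rfl⟩ := hg r
    obtain ⟨k, hk⟩ := h (Ideal.mem_comap.mpr hr)
    refine ⟨k, ?_⟩
    rw [key, map_pow] at hk
    exact hk

end ann

section main

variable {S R : Type u} [CommRing S] [hS : LocCoh.IsGorensteinLocalRing S]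
  [CommRing R] [IsNoetherianRing R] [IsLocalRing R]
  [Algebra S R] (hg : Function.Surjective (algebraMap S R))
  (M : Type u) [AddCommGroup M] [Module R M] [Module.Finite R M] [Module S M] [IsScalarTower S R M]

include hg in
/-- **Faltings' annihilator theorem** for a local ring which is a quotient of a Gorenstein local
ring. -/
theorem le_radical_annihilator_H_iff (J : Ideal R) (i : ℕ) :
    J ≤ (Module.annihilator R (LocCoh.H (maximalIdeal R) i M)).radical ↔
      ∀ (p : Ideal R) [p.IsPrime], ¬ J ≤ p → ∀ j : ℕ,
        (j : WithBot ℕ∞) + ringKrullDim (R ⧸ p) = i →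
        Subsingleton (LocCoh.H (maximalIdeal (Localization.AtPrime p)) j
          (LocalizedModule p.primeCompl M)) := by
  have hfinSR : Module.Finite S R := Module.Finite.of_surjective (Algebra.linearMap S R) hg
  have hfinSM : Module.Finite S M := Module.Finite.trans R M
  have hmax : (maximalIdeal S).map (algebraMap S R) = maximalIdeal R :=
    IsLocalRing.map_maximalIdeal_of_surjective _ hg
  obtain ⟨n, hn⟩ := Groth.Agent.Lib.Helper18.SerreReg.exists_ringKrullDim_eq_nat S
  rw [← hmax, le_radical_annihilator_transfer hg M (maximalIdeal S) i J,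
    GorAnn.le_radical_annihilator_H_iff hn M (J.comap (algebraMap S R)) i]
  constructor
  · intro h p hp hJp j hj
    have hJP : ¬ J.comap (algebraMap S R) ≤ p.comap (algebraMap S R) := by
      intro hle
      apply hJp
      have := Ideal.map_mono (f := algebraMap S R) hle
      rwa [Ideal.map_comap_of_surjective _ hg, Ideal.map_comap_of_surjective _ hg] at this
    have h1 := h (p.comap (algebraMap S R)) hJP j
      (by rw [ringKrullDim_quotient_comap hg p]; exact hj)
    exact (subsingleton_H_localized_iff hg M p j).mp h1
  · intro h P hP hJP j hj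
    by_cases hker : RingHom.ker (algebraMap S R) ≤ P
    · have hpprime : (P.map (algebraMap S R)).IsPrime := Ideal.map_isPrime_of_surjective hg hker
      have hPeq : P = (P.map (algebraMap S R)).comap (algebraMap S R) := by
        rw [Ideal.comap_map_of_surjective _ hg, ← RingHom.ker_eq_comap_bot]
        exact (sup_eq_left.mpr hker).symm
      have hJp : ¬ J ≤ P.map (algebraMap S R) := by
        intro hle
        apply hJP
        rw [hPeq]
        exact Ideal.comap_mono hle
      generalize P.map (algebraMap S R) = p at hpprime hPeq hJp
      subst hPeq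
      have h1 := h p hJp j (by rw [← ringKrullDim_quotient_comap hg p]; exact hj)
      exact (subsingleton_H_localized_iff hg M p j).mpr h1
    · obtain ⟨s, hs, hsP⟩ := SetLike.not_le_iff_exists.mp hker
      have hsub : Subsingleton (LocalizedModule P.primeCompl M) := by
        rw [LocalizedModule.subsingleton_iff]
        intro m
        refine ⟨s, hsP, ?_⟩
        rw [← algebraMap_smul R s m, (RingHom.mem_ker).mp hs, zero_smul]
      exact subsingleton_H_of_subsingleton _ j _

end main

end Groth.Agent.Lib.Helper16.GorAnnTr
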