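import Groth.Agent.Lib.Helper16.FiniteLengthLC
import Groth.Agent.Lib.Helper16.LocCohArtinian
import Groth.Agent.Lib.Helper16.GorAnnTr
import Groth.Agent.Lib.Helper16.RegularGorenstein
import Groth.Agent.Lib.Helper18.SerreReg2

/-!
# Finite length of H^i_m(M) over quotients of Gorenstein local rings (helper16)

* isFiniteLength_of_isArtinian_of_pow_smul : Artinian and killed by a power of m implies finite length.
* isFiniteLength_H_iff_le_radical : H^i_m(M) has finite length iff m is in the radical of its annihilator.
* isFiniteLength_H_iff : finite length of H^i_m(M) in terms of local cohomology of M_p, p not maximal.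
-/

set_option autoImplicit false
universe u

namespace Groth.Agent.Lib.Helper16.FinLenRad

open IsLocalRing

variable {A : Type u} [CommRing A] [IsLocalRing A] [IsNoetherianRing A]

/-- An Artinian module over a Noetherian local ring killed by a power of the maximal ideal has
finite length. -/
theorem isFiniteLength_of_isArtinian_of_pow_smul (N : Type u) [AddCommGroup N] [Module A N]
    [IsArtinian A N] (k : ℕ)
    (hk : ∀ a ∈ maximalIdeal A ^ k, ∀ x : N, a • x = 0) : IsFiniteLength A N := by
  rcases Nat.eq_zero_or_pos k with rfl | hpos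
  · have : Subsingleton N := by
      refine ⟨fun x y => ?_⟩
      have h1 : ∀ z : N, z = 0 := fun z => by
        have := hk 1 (by rw [pow_zero, Ideal.one_eq_top]; exact Submodule.mem_top) z
        rwa [one_smul] at this
      rw [h1 x, h1 y]
    exact IsFiniteLength.of_subsingleton
  · have hmin : maximalIdeal A ∈ (maximalIdeal A ^ k).minimalPrimes := by
      refine ⟨⟨inferInstance, Ideal.pow_le_self hpos.ne'⟩, fun q hq _ => ?_⟩
      have := hq.1
      exact Ideal.IsPrime.le_of_pow_le hq.2
    have hart : IsArtinianRing (A ⧸ maximalIdeal A ^ k) :=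
      IsLocalRing.quotient_artinian_of_mem_minimalPrimes_of_isLocalRing _ hmin
    have htors : Module.IsTorsionBySet A N (maximalIdeal A ^ k : Ideal A) :=
      fun x a => hk a.1 a.2 x
    let modB : Module (A ⧸ maximalIdeal A ^ k) N := htors.module
    have hartN : IsArtinian (A ⧸ maximalIdeal A ^ k) N :=
      (htors.semilinearMap.isArtinian_iff_of_bijective Function.bijective_id).mp inferInstance
    have hnoeN : IsNoetherian (A ⧸ maximalIdeal A ^ k) N :=
      IsSemiprimaryRing.isNoetherian_iff_isArtinian.mpr hartN
    rw [isFiniteLength_iff_isNoetherian_isArtinian]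
    refine ⟨?_, inferInstance⟩
    exact (htors.semilinearMap.isNoetherian_iff_of_bijective Function.bijective_id).mpr hnoeN

/-- `H^i_m(M)` has finite length iff `m` lies in the radical of its annihilator. -/
theorem isFiniteLength_H_iff_le_radical (i : ℕ) (M : Type u) [AddCommGroup M] [Module A M]
    [Module.Finite A M] :
    IsFiniteLength A (LocCoh.H (maximalIdeal A) i M) ↔
      maximalIdeal A ≤ (Module.annihilator A (LocCoh.H (maximalIdeal A) i M)).radical := by
  constructor
  · intro h
    have hfin := (FL.isFiniteLength_H_iff_finite i M).mp h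
    obtain ⟨k, hk⟩ := LC.exists_pow_kills_of_finite (maximalIdeal A) i M hfin
    intro a ha
    refine ⟨k, ?_⟩
    rw [Module.mem_annihilator]
    exact hk _ (Ideal.pow_mem_pow ha k)
  · intro h
    obtain ⟨k, hk⟩ := Ideal.exists_pow_le_of_le_radical_of_fg h
      (IsNoetherian.noetherian (maximalIdeal A))
    have : IsArtinian A (LocCoh.H (maximalIdeal A) i M) :=
      LC.isArtinian_H_maximal (maximalIdeal A) i M
    refine isFiniteLength_of_isArtinian_of_pow_smul _ k fun a ha x => ?_
    exact Module.mem_annihilator.mp (hk ha) x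

/-- **Finiteness of `H^i_m(M)`** over a quotient of a Gorenstein local ring, in terms of the local
cohomology of the localizations. -/
theorem isFiniteLength_H_iff (S : Type u) [CommRing S] [LocCoh.IsGorensteinLocalRing S]
    (π : S →+* A) (hπ : Function.Surjective π) (M : Type u) [AddCommGroup M] [Module A M]
    [Module.Finite A M] (i : ℕ) :
    IsFiniteLength A (LocCoh.H (maximalIdeal A) i M) ↔
      ∀ p : PrimeSpectrum A, p.asIdeal ≠ maximalIdeal A → ∀ (e j : ℕ),
        ringKrullDim (A ⧸ p.asIdeal) = e → j + e = i →
        Subsingleton (LocCoh.H (maximalIdeal (Localization.AtPrime p.asIdeal)) j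
          (LocalizedModule p.asIdeal.primeCompl M)) := by
  let _ : Algebra S A := π.toAlgebra
  let _ : Module S M := Module.compHom M π
  have : IsScalarTower S A M := IsScalarTower.of_algebraMap_smul (fun r x => rfl)
  rw [isFiniteLength_H_iff_le_radical,
    GorAnnTr.le_radical_annihilator_H_iff (S := S) hπ M (maximalIdeal A) i]
  constructor
  · intro h p hp e j he hje
    have := p.2
    refine h p.asIdeal ((FL.not_maximalIdeal_le_iff p).mpr hp) j ?_
    rw [he, ← hje]
    push_cast
    rfl
  · intro h p hp hnle j hj
    have hpm : (⟨p, hp⟩ : PrimeSpectrum A).asIdeal ≠ maximalIdeal A :=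
      (FL.not_maximalIdeal_le_iff ⟨p, hp⟩).mp hnle
    have hnt : Nontrivial (A ⧸ p) := Ideal.Quotient.nontrivial_iff.mpr hp.ne_top
    have hloc : IsLocalRing (A ⧸ p) :=
      IsLocalRing.of_surjective' (Ideal.Quotient.mk p) Ideal.Quotient.mk_surjective
    obtain ⟨e, he⟩ := Groth.Agent.Lib.Helper18.SerreReg.exists_ringKrullDim_eq_nat (A ⧸ p)
    refine h ⟨p, hp⟩ hpm e j he ?_
    rw [he] at hj
    have h2 : ((j + e : ℕ) : WithBot ℕ∞) = (i : ℕ) := by
      rw [← hj]; push_cast; rfl
    exact_mod_cast h2

end Groth.Agent.Lib.Helper16.FinLenRad
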