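import Mathlib

/-!
# Ideal of a finite-order automorphism of a local algebra: averaging lemmas
-/

set_option autoImplicit false
universe u

namespace Groth.Agent.Lib.Helper16.FixI

open IsLocalRing

variable {k : Type u} [Field k] {A : Type u} [CommRing A] [Algebra k A] [IsLocalRing A]
variable (σ : A →ₐ[k] A)

/-- the ideal generated by the `a - σ a` -/
def Isig : Ideal A := Ideal.span (Set.range fun a : A => a - σ a)

lemma sub_mem_Isig (a : A) : a - σ a ∈ Isig σ := Ideal.subset_span ⟨a, rfl⟩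

lemma isUnit_iterate (j : ℕ) {a : A} (ha : IsUnit a) : IsUnit ((⇑σ)^[j] a) := by
  induction j with
  | zero => simpa using ha
  | succ j ih =>
    rw [Function.iterate_succ_apply']
    exact ih.map σ

lemma sigma_mem_max {n : ℕ} (hσ : ∀ a : A, (⇑σ)^[n] a = a) (hn : n ≠ 0) {a : A}
    (ha : a ∈ maximalIdeal A) : σ a ∈ maximalIdeal A := by
  by_contra h
  have hu : IsUnit (σ a) := by
    by_contra h'
    exact h ((mem_maximalIdeal _).2 h')
  obtain ⟨n', rfl⟩ := Nat.exists_eq_succ_of_ne_zero hn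
  have h2 : IsUnit ((⇑σ)^[n'] (σ a)) := isUnit_iterate σ n' hu
  rw [← Function.iterate_succ_apply, hσ] at h2
  exact (mem_maximalIdeal a).1 ha h2

lemma mul_sub_sigma (u v : A) : u * v - σ (u * v) = v * (u - σ u) + σ u * (v - σ v) := by
  rw [map_mul]; ring

lemma sq_sub_sigma_mem (hσm : ∀ a ∈ maximalIdeal A, σ a ∈ maximalIdeal A) {h : A}
    (hh : h ∈ maximalIdeal A ^ 2) : h - σ h ∈ maximalIdeal A * Isig σ := by
  rw [pow_two] at hh
  refine Submodule.mul_induction_on hh ?_ ?_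
  · intro u hu v hv
    rw [mul_sub_sigma]
    exact add_mem (Ideal.mul_mem_mul hv (sub_mem_Isig σ u))
      (Ideal.mul_mem_mul (hσm u hu) (sub_mem_Isig σ v))
  · intro x y hx hy
    have : x + y - σ (x + y) = (x - σ x) + (y - σ y) := by rw [map_add]; ring
    rw [this]
    exact add_mem hx hy

lemma sigma_sq_mem (hσm : ∀ a ∈ maximalIdeal A, σ a ∈ maximalIdeal A) {h : A}
    (hh : h ∈ maximalIdeal A ^ 2) : σ h ∈ maximalIdeal A ^ 2 := by
  rw [pow_two] at hh ⊢
  refine Submodule.mul_induction_on hh ?_ ?_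
  · intro u hu v hv
    rw [map_mul]
    exact Ideal.mul_mem_mul (hσm u hu) (hσm v hv)
  · intro x y hx hy
    rw [map_add]
    exact add_mem hx hy

lemma sub_iterate_mem (hσm : ∀ a ∈ maximalIdeal A, σ a ∈ maximalIdeal A) {g : A}
    (hg : g - σ g ∈ maximalIdeal A ^ 2) (i : ℕ) : g - (⇑σ)^[i] g ∈ maximalIdeal A ^ 2 := by
  induction i with
  | zero => simp
  | succ i ih =>
    rw [Function.iterate_succ_apply']
    have : g - σ ((⇑σ)^[i] g) = (g - σ g) + σ (g - (⇑σ)^[i] g) := by rw [map_sub]; ring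
    rw [this]
    exact add_mem hg (sigma_sq_mem σ hσm ih)

/-- averaging: if `g - σ g ∈ m²` then `g - σ g ∈ m * I_σ`. -/
lemma sub_sigma_mem_of_sq {n : ℕ} (hσ : ∀ a : A, (⇑σ)^[n] a = a) (hn : (n : k) ≠ 0)
    (hσm : ∀ a ∈ maximalIdeal A, σ a ∈ maximalIdeal A) {g : A}
    (hg : g - σ g ∈ maximalIdeal A ^ 2) : g - σ g ∈ maximalIdeal A * Isig σ := by
  set h : A := (n : k)⁻¹ • ∑ i ∈ Finset.range n, (g - (⇑σ)^[i] g) with hh
  have hmem : h ∈ maximalIdeal A ^ 2 := by
    rw [hh, Algebra.smul_def]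
    exact Ideal.mul_mem_left _ _ (Ideal.sum_mem _ fun i _ => sub_iterate_mem σ hσm hg i)
  have hsum : ∑ i ∈ Finset.range n, ((g - (⇑σ)^[i] g) - σ (g - (⇑σ)^[i] g)) = n • (g - σ g) := by
    have h1 : ∀ i ∈ Finset.range n, ((g - (⇑σ)^[i] g) - σ (g - (⇑σ)^[i] g))
        = (g - σ g) - ((⇑σ)^[i] g - (⇑σ)^[i + 1] g) := by
      intro i _
      rw [Function.iterate_succ_apply', map_sub]; ring
    rw [Finset.sum_congr rfl h1, Finset.sum_sub_distrib, Finset.sum_const, Finset.card_range,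
      Finset.sum_range_sub', hσ]
    simp
  have heq : h - σ h = g - σ g := by
    rw [hh, map_smul, map_sum, ← smul_sub, ← Finset.sum_sub_distrib, hsum,
      ← Nat.cast_smul_eq_nsmul k, inv_smul_smul₀ hn]
  rw [← heq]
  exact sq_sub_sigma_mem σ hσm hmem

end Groth.Agent.Lib.Helper16.FixI
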