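import Mathlib
import Groth.Agent.Lib.Helper16.FixI

/-!
# Ideal of a finite-order automorphism is generated by part of a regular system of parameters
-/

set_option autoImplicit false
universe u

namespace Groth.Agent.Lib.Helper16.FixI

open IsLocalRing

variable {k : Type u} [Field k] {A : Type u} [CommRing A] [Algebra k A] [IsLocalRing A]
variable (σ : A →ₐ[k] A)

/-- the class of `f - σ f` in the cotangent space. -/
noncomputable def Dm (hσm : ∀ a ∈ maximalIdeal A, σ a ∈ maximalIdeal A) (f : maximalIdeal A) :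
    CotangentSpace A :=
  (maximalIdeal A).toCotangent ⟨(f : A) - σ f, sub_mem f.2 (hσm _ f.2)⟩

lemma Dm_add (hσm : ∀ a ∈ maximalIdeal A, σ a ∈ maximalIdeal A) (f g : maximalIdeal A) :
    Dm σ hσm (f + g) = Dm σ hσm f + Dm σ hσm g := by
  unfold Dm
  rw [← map_add]
  congr 1
  ext
  simp only [Submodule.coe_add, map_add]
  ring

lemma Dm_sub (hσm : ∀ a ∈ maximalIdeal A, σ a ∈ maximalIdeal A) (f g : maximalIdeal A) :
    Dm σ hσm (f - g) = Dm σ hσm f - Dm σ hσm g := by
  unfold Dm
  rw [← map_sub]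
  congr 1
  ext
  simp only [AddSubgroupClass.coe_sub, map_sub]
  ring

lemma Dm_zero (hσm : ∀ a ∈ maximalIdeal A, σ a ∈ maximalIdeal A) : Dm σ hσm 0 = 0 := by
  unfold Dm
  have : (⟨((0 : maximalIdeal A) : A) - σ ((0 : maximalIdeal A) : A),
      sub_mem (0 : maximalIdeal A).2 (hσm _ (0 : maximalIdeal A).2)⟩ : maximalIdeal A) = 0 := by
    ext; simp
  rw [this, map_zero]

lemma Dm_smul (hσm : ∀ a ∈ maximalIdeal A, σ a ∈ maximalIdeal A) (c : k) (f : maximalIdeal A) :
    Dm σ hσm (algebraMap k A c • f) = algebraMap k (ResidueField A) c • Dm σ hσm f := by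
  unfold Dm
  have h1 : (algebraMap k (ResidueField A) c) = residue A (algebraMap k A c) := by
    rw [IsScalarTower.algebraMap_apply k A (ResidueField A)]; rfl
  rw [h1]
  have h2 : ∀ v : CotangentSpace A, residue A (algebraMap k A c) • v = (algebraMap k A c) • v := by
    intro v
    exact (algebraMap_smul (ResidueField A) (algebraMap k A c) v)
  rw [h2, ← map_smul]
  congr 1
  ext
  simp only [Submodule.coe_smul, smul_eq_mul, map_mul, AlgHom.commutes]
  ring

theorem main [IsNoetherianRing A]
    (hres : Function.Surjective ⇑(algebraMap k (ResidueField A)))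
    (n : ℕ) (hσ : ∀ a : A, (⇑σ)^[n] a = a) (hn : (n : k) ≠ 0) :
    ∃ (m : ℕ) (f : Fin m → ↥(maximalIdeal A)),
      Ideal.span (Set.range fun i : Fin m => (f i : A)) = Ideal.span (Set.range fun a : A => a - σ a) ∧
      LinearIndependent (ResidueField A) (fun i : Fin m => (maximalIdeal A).toCotangent (f i)) := by
  have hn0 : n ≠ 0 := by rintro rfl; simp at hn
  have hσm : ∀ a ∈ maximalIdeal A, σ a ∈ maximalIdeal A := fun a ha => sigma_mem_max σ hσ hn0 ha
  set S : Set (CotangentSpace A) := Set.range (Dm σ hσm) with hS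
  obtain ⟨b, hbS, hbspan, hbli⟩ := exists_linearIndependent (ResidueField A) S
  have hbfin : b.Finite := hbli.setFinite
  have : Fintype b := hbfin.fintype
  let e : b ≃ Fin (Fintype.card b) := Fintype.equivFin b
  have hx : ∀ v : b, ∃ x : maximalIdeal A, Dm σ hσm x = v := fun v => hbS v.2
  choose x hx using hx
  let f : Fin (Fintype.card b) → maximalIdeal A := fun i =>
    ⟨(x (e.symm i) : A) - σ (x (e.symm i)), sub_mem (x (e.symm i)).2 (hσm _ (x (e.symm i)).2)⟩
  have hfD : ∀ i, (maximalIdeal A).toCotangent (f i) = (e.symm i : CotangentSpace A) := by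
    intro i
    exact hx (e.symm i)
  refine ⟨Fintype.card b, f, ?_, ?_⟩
  swap
  · have : (fun i => (maximalIdeal A).toCotangent (f i)) = (fun v : b => (v : CotangentSpace A)) ∘ e.symm := by
      funext i; exact hfD i
    rw [this]
    exact hbli.comp _ e.symm.injective
  set J : Ideal A := Ideal.span (Set.range fun i => (f i : A)) with hJ
  change J = Isig σ
  apply le_antisymm
  · rw [hJ, Ideal.span_le]
    rintro _ ⟨i, rfl⟩
    exact sub_mem_Isig σ _
  -- Nakayama
  have hkey : ∀ v ∈ Submodule.span (ResidueField A) b,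
      ∃ f' : maximalIdeal A, Dm σ hσm f' = v ∧ (f' : A) - σ f' ∈ J := by
    intro v hv
    induction hv using Submodule.span_induction with
    | mem v hv =>
      refine ⟨x ⟨v, hv⟩, hx ⟨v, hv⟩, ?_⟩
      apply Ideal.subset_span
      refine ⟨e ⟨v, hv⟩, ?_⟩
      simp only [f, Equiv.symm_apply_apply]
    | zero => exact ⟨0, Dm_zero σ hσm, by simp⟩
    | add v w _ _ hv hw =>
      obtain ⟨f1, h1, h1'⟩ := hv
      obtain ⟨f2, h2, h2'⟩ := hw
      refine ⟨f1 + f2, by rw [Dm_add, h1, h2], ?_⟩
      have : ((f1 + f2 : maximalIdeal A) : A) - σ ((f1 + f2 : maximalIdeal A) : A)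
          = ((f1 : A) - σ f1) + ((f2 : A) - σ f2) := by
        simp only [Submodule.coe_add, map_add]; ring
      rw [this]
      exact add_mem h1' h2'
    | smul c v _ hv =>
      obtain ⟨f1, h1, h1'⟩ := hv
      obtain ⟨c', rfl⟩ := hres c
      refine ⟨algebraMap k A c' • f1, by rw [Dm_smul, h1], ?_⟩
      have : ((algebraMap k A c' • f1 : maximalIdeal A) : A) - σ ((algebraMap k A c' • f1 : maximalIdeal A) : A)
          = algebraMap k A c' * ((f1 : A) - σ f1) := by
        simp only [Submodule.coe_smul, smul_eq_mul, map_mul, AlgHom.commutes]; ring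
      rw [this]
      exact Ideal.mul_mem_left _ _ h1'
  refine Submodule.le_of_le_smul_of_le_jacobson_bot (I := maximalIdeal A)
    (IsNoetherian.noetherian _) (maximalIdeal_le_jacobson ⊥) ?_
  unfold Isig
  rw [Ideal.span_le]
  rintro _ ⟨a, rfl⟩
  -- decompose a = c + f0
  obtain ⟨c, hc⟩ := hres (residue A a)
  have hf0 : a - algebraMap k A c ∈ maximalIdeal A := by
    rw [← residue_eq_zero_iff, map_sub, ← hc, IsScalarTower.algebraMap_apply k A (ResidueField A)]
    exact sub_self _
  set f0 : maximalIdeal A := ⟨a - algebraMap k A c, hf0⟩ with hf0def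
  have ha : a - σ a = (f0 : A) - σ f0 := by
    simp only [hf0def, map_sub, AlgHom.commutes]; ring
  have hmem : Dm σ hσm f0 ∈ Submodule.span (ResidueField A) b := by
    rw [hbspan]
    exact Submodule.subset_span ⟨f0, rfl⟩
  obtain ⟨f', hf', hf'J⟩ := hkey _ hmem
  have hg : Dm σ hσm (f0 - f') = 0 := by rw [Dm_sub, hf', sub_self]
  have hg2 : ((f0 - f' : maximalIdeal A) : A) - σ ((f0 - f' : maximalIdeal A) : A) ∈ maximalIdeal A ^ 2 := by
    have := (Ideal.toCotangent_eq_zero _ _).1 hg
    exact this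
  have hg3 := sub_sigma_mem_of_sq σ hσ hn hσm hg2
  have hfin : a - σ a = ((f' : A) - σ f') +
      (((f0 - f' : maximalIdeal A) : A) - σ ((f0 - f' : maximalIdeal A) : A)) := by
    rw [ha]
    simp only [AddSubgroupClass.coe_sub, map_sub]; ring
  change a - σ a ∈ J ⊔ maximalIdeal A • Isig σ
  rw [hfin]
  refine Submodule.add_mem_sup hf'J ?_
  rw [smul_eq_mul]
  exact hg3

end Groth.Agent.Lib.Helper16.FixI
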