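import Mathlib
import Groth.Agent.Lib.Helper18.FlF

/-!
# Spreading out flatness from a prime to a principal open
-/

set_option autoImplicit false
set_option linter.unusedSectionVars false
set_option linter.style.haveILetI false
universe u

open TensorProduct

namespace Groth.Agent.Lib.Helper16.FlatAway

/-- spreading out flatness at a prime to a principal open neighbourhood -/
theorem exists_flat_away (A P : Type u) [CommRing A] [CommRing P] [Algebra A P]
    [Algebra.FinitePresentation A P] (q : Ideal P) [q.IsPrime]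
    (hq : Module.Flat A (Localization.AtPrime q)) :
    ∃ g₂ : P, g₂ ∉ q ∧ ∀ g : P, g₂ ∣ g → ∀ (C : Type u) [CommRing C] [Algebra P C] [Algebra A C]
      [IsScalarTower A P C] [IsLocalization.Away g C], Module.Flat A C := by
  have hU : IsOpen {q' : PrimeSpectrum P |
      Module.Flat A (LocalizedModule q'.asIdeal.primeCompl P)} :=
    Groth.Agent.Lib.Helper18.Fl.isOpen_flatLocus (R := A) (S := P) (M := P)
  have hqU : (⟨q, inferInstance⟩ : PrimeSpectrum P) ∈ {q' : PrimeSpectrum P |
      Module.Flat A (LocalizedModule q'.asIdeal.primeCompl P)} := by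
    change Module.Flat A (LocalizedModule q.primeCompl P)
    let e : LocalizedModule q.primeCompl P ≃ₗ[P] Localization.AtPrime q :=
      IsLocalizedModule.iso q.primeCompl (Algebra.linearMap P (Localization.AtPrime q))
    exact Module.Flat.of_linearEquiv (e.restrictScalars A)
  obtain ⟨v, ⟨g₂, rfl⟩, hqv, hvU⟩ :=
    PrimeSpectrum.isTopologicalBasis_basic_opens.exists_subset_of_mem_open hqU hU
  refine ⟨g₂, hqv, ?_⟩
  intro g hg C _ _ _ _ _
  refine Module.flat_of_isLocalized_maximal C C (fun 𝔫 _ => Localization.AtPrime 𝔫)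
    (fun 𝔫 _ => Algebra.linearMap C (Localization.AtPrime 𝔫)) ?_
  intro 𝔫 h𝔫
  have hgn : g ∉ 𝔫.comap (algebraMap P C) := by
    intro hmem
    have hu : IsUnit (algebraMap P C g) := IsLocalization.Away.algebraMap_isUnit g
    exact h𝔫.ne_top (Ideal.eq_top_of_isUnit_mem _ hmem hu)
  have hg₂n : g₂ ∉ 𝔫.comap (algebraMap P C) := by
    intro hmem
    obtain ⟨c, rfl⟩ := hg
    exact hgn (Ideal.mul_mem_right _ _ hmem)
  have hflat : Module.Flat A (LocalizedModule (𝔫.comap (algebraMap P C)).primeCompl P) :=
    hvU (show (⟨𝔫.comap (algebraMap P C), inferInstance⟩ : PrimeSpectrum P) ∈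
      (PrimeSpectrum.basicOpen g₂ : Set (PrimeSpectrum P)) from hg₂n)
  haveI : IsLocalization.AtPrime (Localization.AtPrime 𝔫) (𝔫.comap (algebraMap P C)) :=
    IsLocalization.isLocalization_isLocalization_atPrime_isLocalization (Submonoid.powers g)
      (Localization.AtPrime 𝔫) 𝔫
  let e : LocalizedModule (𝔫.comap (algebraMap P C)).primeCompl P ≃ₗ[P] Localization.AtPrime 𝔫 :=
    IsLocalizedModule.iso (𝔫.comap (algebraMap P C)).primeCompl
      (Algebra.linearMap P (Localization.AtPrime 𝔫))
  exact Module.Flat.of_linearEquiv (e.restrictScalars A).symm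

end Groth.Agent.Lib.Helper16.FlatAway
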