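import Mathlib

/-!
# Fontaine–Laffaille lemma, part 1: length count mod c and the purity step
-/

set_option autoImplicit false

namespace Groth.Agent.Lib.Helper16.FonLaf

universe u v w

variable {R : Type u} [CommRing R]

/-- the submodule `c • X` of `X`. -/
def cSub (c : R) (X : Type v) [AddCommGroup X] [Module R X] : Submodule R X :=
  LinearMap.range (c • (LinearMap.id : X →ₗ[R] X))

lemma mem_cSub {c : R} {X : Type v} [AddCommGroup X] [Module R X] {y : X} :
    y ∈ cSub c X ↔ ∃ x, c • x = y := by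
  simp [cSub, LinearMap.mem_range]

lemma smul_mem_cSub (c : R) {X : Type v} [AddCommGroup X] [Module R X] (x : X) :
    c • x ∈ cSub c X := mem_cSub.2 ⟨x, rfl⟩

/-- semilinear injective maps (with surjective ring hom) do not decrease length. -/
lemma length_le_of_injective_semilinear {σ : R →+* R} [RingHomSurjective σ]
    {A : Type v} {B : Type w} [AddCommGroup A] [Module R A] [AddCommGroup B] [Module R B]
    (g : A →ₛₗ[σ] B) (hg : Function.Injective g) :
    Module.length R A ≤ Module.length R B := by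
  rw [← WithBot.coe_le_coe, Module.coe_length, Module.coe_length]
  exact Order.krullDim_le_of_strictMono _ (Submodule.map_strictMono_of_injective hg)

/-- the basic length count. -/
lemma injective_of_length_count {X Y C Z : Type*} [AddCommGroup X] [Module R X]
    [AddCommGroup Y] [Module R Y] [AddCommGroup C] [Module R C] [AddCommGroup Z] [Module R Z]
    (f : X →ₗ[R] Y) (q : Y →ₗ[R] C) (hq : Function.Surjective q)
    (hker : LinearMap.ker q ≤ LinearMap.range f)
    (hC : Module.length R C ≤ Module.length R Z)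
    (hY : Module.length R Y = Module.length R X + Module.length R Z)
    (hfin : Module.length R Y ≠ ⊤) : Function.Injective f := by
  have h1 : Module.length R Y = Module.length R (LinearMap.ker q) + Module.length R C :=
    Module.length_eq_add_of_exact (LinearMap.ker q).subtype q (Submodule.subtype_injective _) hq
      (LinearMap.exact_subtype_ker_map q)
  have h2 : Module.length R (LinearMap.ker q) ≤ Module.length R (LinearMap.range f) :=
    Module.length_le_of_injective (Submodule.inclusion hker) (Submodule.inclusion_injective hker)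
  have h3 : Module.length R X =
      Module.length R (LinearMap.ker f) + Module.length R (LinearMap.range f) :=
    Module.length_eq_add_of_exact (LinearMap.ker f).subtype f.rangeRestrict
      (Submodule.subtype_injective _) f.surjective_rangeRestrict (by
        rw [LinearMap.exact_iff, LinearMap.ker_rangeRestrict, Submodule.range_subtype])
  have hxz := WithTop.add_ne_top.1 (hY ▸ hfin)
  have hab := WithTop.add_ne_top.1 (h3 ▸ hxz.1)
  have hkc := WithTop.add_ne_top.1 (h1 ▸ hfin)
  obtain ⟨y, hy⟩ := ENat.ne_top_iff_exists.1 hfin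
  obtain ⟨x, hx⟩ := ENat.ne_top_iff_exists.1 hxz.1
  obtain ⟨z, hz⟩ := ENat.ne_top_iff_exists.1 hxz.2
  obtain ⟨a, ha⟩ := ENat.ne_top_iff_exists.1 hab.1
  obtain ⟨b, hb⟩ := ENat.ne_top_iff_exists.1 hab.2
  obtain ⟨k, hk⟩ := ENat.ne_top_iff_exists.1 hkc.1
  obtain ⟨c, hc⟩ := ENat.ne_top_iff_exists.1 hkc.2
  rw [← hy, ← hk, ← hc] at h1
  rw [← hk, ← hb] at h2
  rw [← hx, ← ha, ← hb] at h3
  rw [← hc, ← hz] at hC
  rw [← hy, ← hx, ← hz] at hY
  norm_cast at h1 h2 h3 hC hY
  have ha0 : a = 0 := by omega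
  rw [ha0] at ha
  have hss : Subsingleton (LinearMap.ker f) := Module.length_eq_zero_iff.1 ha.symm
  exact LinearMap.ker_eq_bot.1 (Submodule.subsingleton_iff_eq_bot.1 hss)

/-- `X/cX ≃ Y/cY` for `X ≃ Y`. -/
lemma length_quot_cSub_congr (c : R) {X : Type v} {Y : Type w} [AddCommGroup X] [Module R X]
    [AddCommGroup Y] [Module R Y] (e : X ≃ₗ[R] Y) :
    Module.length R (X ⧸ cSub c X) = Module.length R (Y ⧸ cSub c Y) := by
  refine (Submodule.Quotient.equiv (cSub c X) (cSub c Y) e ?_).length_eq
  ext y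
  simp only [Submodule.mem_map, mem_cSub]
  constructor
  · rintro ⟨x, ⟨x', rfl⟩, rfl⟩
    exact ⟨e x', by simp⟩
  · rintro ⟨y', rfl⟩
    exact ⟨c • e.symm y', ⟨e.symm y', rfl⟩, by simp⟩

/-- `(A × B)/c ≃ A/c × B/c` on lengths. -/
lemma length_quot_cSub_prod (c : R) (A : Type v) (B : Type w) [AddCommGroup A] [Module R A]
    [AddCommGroup B] [Module R B] :
    Module.length R ((A × B) ⧸ cSub c (A × B)) =
      Module.length R (A ⧸ cSub c A) + Module.length R (B ⧸ cSub c B) := by
  set g : (A × B) →ₗ[R] (A ⧸ cSub c A) × (B ⧸ cSub c B) :=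
    (cSub c A).mkQ.prodMap (cSub c B).mkQ with hg
  have hgs : Function.Surjective g := by
    rintro ⟨a, b⟩
    obtain ⟨a, rfl⟩ := Submodule.mkQ_surjective _ a
    obtain ⟨b, rfl⟩ := Submodule.mkQ_surjective _ b
    exact ⟨(a, b), rfl⟩
  have hk : cSub c (A × B) = LinearMap.ker g := by
    rw [hg, LinearMap.ker_prodMap, Submodule.ker_mkQ, Submodule.ker_mkQ]
    ext ⟨a, b⟩
    simp only [mem_cSub, Submodule.mem_prod]
    constructor
    · rintro ⟨⟨a', b'⟩, h⟩
      simp only [Prod.smul_mk, Prod.mk.injEq] at h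
      exact ⟨⟨a', h.1⟩, ⟨b', h.2⟩⟩
    · rintro ⟨⟨a', ha⟩, ⟨b', hb⟩⟩
      exact ⟨(a', b'), by simp [ha, hb]⟩
  rw [((Submodule.quotEquivOfEq _ _ hk).trans (g.quotKerEquivOfSurjective hgs)).length_eq,
    Module.length_prod]

/-- **Key purity step**: in a "semilinear short exact sequence" `S' → T → M → 0` of finite length
modules with `T ≃ M × S'`, the map `S'/c → T/c` is injective. -/
theorem purity_step {σ : R →+* R} [RingHomSurjective σ] (c : R) (hc : σ c = c)
    {S' T M : Type*} [AddCommGroup S'] [Module R S'] [AddCommGroup T] [Module R T]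
    [AddCommGroup M] [Module R M]
    (hT : IsFiniteLength R T) (e : T ≃ₗ[R] (M × S'))
    (ι : S' →ₗ[R] T) (Φ : T →ₛₗ[σ] M) (hΦ : Function.Surjective Φ)
    (hker : ∀ t, Φ t = 0 → ∃ x, ι x = t)
    (x : S') (hx : ι x ∈ cSub c T) : x ∈ cSub c S' := by
  have hle : cSub c S' ≤ Submodule.comap ι (cSub c T) := by
    intro y hy
    obtain ⟨y', rfl⟩ := mem_cSub.1 hy
    rw [Submodule.mem_comap, map_smul]
    exact smul_mem_cSub c _
  set f : (S' ⧸ cSub c S') →ₗ[R] (T ⧸ cSub c T) := Submodule.mapQ _ _ ι hle with hf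
  set Ψ : T →ₛₗ[σ] (M ⧸ cSub c M) := (cSub c M).mkQ.comp Φ with hΨ
  have hΨa : ∀ t, Ψ t = Submodule.Quotient.mk (Φ t) := fun t => rfl
  have hPK : cSub c T ≤ LinearMap.ker Ψ := by
    intro t ht
    obtain ⟨t', rfl⟩ := mem_cSub.1 ht
    rw [LinearMap.mem_ker, hΨa, map_smulₛₗ, hc, Submodule.Quotient.mk_eq_zero]
    exact smul_mem_cSub c _
  have hinj : Function.Injective f := by
    refine injective_of_length_count (Z := M ⧸ cSub c M) f (Submodule.factor hPK)
      (Submodule.factor_surjective hPK) ?_ ?_ ?_ ?_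
    · intro ybar hy
      obtain ⟨t, rfl⟩ := Submodule.mkQ_surjective _ ybar
      rw [LinearMap.mem_ker, Submodule.factor_mk, Submodule.mkQ_apply,
        Submodule.Quotient.mk_eq_zero, LinearMap.mem_ker, hΨa,
        Submodule.Quotient.mk_eq_zero] at hy
      obtain ⟨m, hm⟩ := mem_cSub.1 hy
      obtain ⟨t', rfl⟩ := hΦ m
      have h0 : Φ (t - c • t') = 0 := by
        rw [map_sub, map_smulₛₗ, hc, hm, sub_self]
      obtain ⟨x', hx'⟩ := hker _ h0
      refine ⟨Submodule.Quotient.mk x', ?_⟩
      rw [hf, Submodule.mapQ_apply, hx', Submodule.mkQ_apply, Submodule.Quotient.mk_sub,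
        (Submodule.Quotient.mk_eq_zero _).2 (smul_mem_cSub c t'), sub_zero]
    · refine length_le_of_injective_semilinear
        (Submodule.liftQ (LinearMap.ker Ψ) Ψ le_rfl) ?_
      exact LinearMap.ker_eq_bot.1 (Submodule.ker_liftQ_eq_bot _ _ _ le_rfl)
    · rw [length_quot_cSub_congr c e, length_quot_cSub_prod, add_comm]
    · exact Module.length_ne_top_iff.2 (hT.of_surjective (Submodule.mkQ_surjective _))
  have h0 : f (Submodule.Quotient.mk x) = f 0 := by
    rw [hf, Submodule.mapQ_apply, map_zero, Submodule.Quotient.mk_eq_zero]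
    exact hx
  exact (Submodule.Quotient.mk_eq_zero _).1 (hinj h0)

end Groth.Agent.Lib.Helper16.FonLaf
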