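import Groth.Agent.Lib.Helper16.FonLaf1

/-!
# Fontaine–Laffaille lemma, part 2: concrete product structure and purity for all n
-/

set_option autoImplicit false

namespace Groth.Agent.Lib.Helper16.FonLaf

universe u v

section
variable {R : Type u} [CommRing R] (π : R)
  (N : ℕ → Type v) [∀ i, AddCommGroup (N i)] [∀ i, Module R (N i)]
  (α : ∀ i, N (i + 1) →ₗ[R] N i)

/-- the bidiagonal map on ℕ-indexed families. -/
def iotaN : (∀ i : ℕ, N (i + 1)) →ₗ[R] (∀ i : ℕ, N i) where
  toFun z := fun i => match i with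
    | 0 => α 0 (z 0)
    | (i + 1) => α (i + 1) (z (i + 1)) - π • z i
  map_add' z z' := by
    funext i
    cases i with
    | zero => simp
    | succ i => simp only [Pi.add_apply, map_add, smul_add]; abel
  map_smul' c z := by
    funext i
    cases i with
    | zero => simp
    | succ i => simp only [Pi.smul_apply, map_smul, RingHom.id_apply, smul_sub, smul_comm c π]

lemma iotaN_zero (z : ∀ i : ℕ, N (i + 1)) : iotaN π N α z 0 = α 0 (z 0) := rfl

lemma iotaN_succ (z : ∀ i : ℕ, N (i + 1)) (i : ℕ) :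
    iotaN π N α z (i + 1) = α (i + 1) (z (i + 1)) - π • z i := rfl

/-- truncation to the first `r+1` coordinates. -/
def truncT (R : Type u) [CommRing R] (N : ℕ → Type v) [∀ i, AddCommGroup (N i)] [∀ i, Module R (N i)] (r : ℕ) : (∀ i : ℕ, N i) →ₗ[R] (∀ i : Fin (r + 1), N i) where
  toFun y := fun i => y i
  map_add' _ _ := rfl
  map_smul' _ _ := rfl

/-- extension by zero. -/
def extT (R : Type u) [CommRing R] (N : ℕ → Type v) [∀ i, AddCommGroup (N i)] [∀ i, Module R (N i)] (r : ℕ) : (∀ i : Fin (r + 1), N i) →ₗ[R] (∀ i : ℕ, N i) where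
  toFun t := fun i => if h : i < r + 1 then t ⟨i, h⟩ else 0
  map_add' t t' := by
    funext i
    by_cases h : i < r + 1
    · simp only [Pi.add_apply, dif_pos h]
    · simp only [Pi.add_apply, dif_neg h, add_zero]
  map_smul' c t := by
    funext i
    by_cases h : i < r + 1
    · simp only [Pi.smul_apply, dif_pos h, RingHom.id_apply]
    · simp only [Pi.smul_apply, dif_neg h, smul_zero]

/-- truncation of shifted families. -/
def truncS (R : Type u) [CommRing R] (N : ℕ → Type v) [∀ i, AddCommGroup (N i)] [∀ i, Module R (N i)] (r : ℕ) : (∀ i : ℕ, N (i + 1)) →ₗ[R] (∀ j : Fin r, N (Fin.succ j : Fin (r + 1))) where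
  toFun z := fun j => z j
  map_add' _ _ := rfl
  map_smul' _ _ := rfl

/-- extension by zero of shifted families. -/
def extS (R : Type u) [CommRing R] (N : ℕ → Type v) [∀ i, AddCommGroup (N i)] [∀ i, Module R (N i)] (r : ℕ) : (∀ j : Fin r, N (Fin.succ j : Fin (r + 1))) →ₗ[R] (∀ i : ℕ, N (i + 1)) where
  toFun x := fun i => if h : i < r then x ⟨i, h⟩ else 0
  map_add' t t' := by
    funext i
    by_cases h : i < r
    · simp only [Pi.add_apply, dif_pos h]
    · simp only [Pi.add_apply, dif_neg h, add_zero]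
  map_smul' c t := by
    funext i
    by_cases h : i < r
    · simp only [Pi.smul_apply, dif_pos h, RingHom.id_apply]
    · simp only [Pi.smul_apply, dif_neg h, smul_zero]

lemma truncT_extT (r : ℕ) (t : ∀ i : Fin (r + 1), N i) : truncT R N r (extT R N r t) = t := by
  funext i
  simp only [truncT, extT, LinearMap.coe_mk, AddHom.coe_mk, dif_pos i.2]

lemma extS_truncS (r : ℕ) (z : ∀ i : ℕ, N (i + 1)) (hz : ∀ i, r ≤ i → z i = 0) :
    extS R N r (truncS R N r z) = z := by
  funext i
  by_cases h : i < r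
  · simp only [truncS, extS, LinearMap.coe_mk, AddHom.coe_mk, dif_pos h]
  · simp only [extS, LinearMap.coe_mk, AddHom.coe_mk, dif_neg h, hz i (not_lt.1 h)]

variable {σ : R →+* R} (φ : ∀ i, N i →ₛₗ[σ] N 0)

/-- the sum map `Φ`. -/
def PhiT (r : ℕ) : (∀ i : Fin (r + 1), N i) →ₛₗ[σ] N 0 :=
  ∑ i : Fin (r + 1), (φ i).comp (LinearMap.proj i : (∀ i : Fin (r + 1), N i) →ₗ[R] N i)

lemma PhiT_apply (r : ℕ) (t : ∀ i : Fin (r + 1), N i) :
    PhiT N φ r t = ∑ i : Fin (r + 1), φ i (t i) := by
  simp [PhiT, LinearMap.sum_apply]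

end

section
variable {R : Type u} [CommRing R] (π : R)
  (N : ℕ → Type v) [∀ i, AddCommGroup (N i)] [∀ i, Module R (N i)]
  (α : ∀ i, N (i + 1) →ₗ[R] N i)
  {σ : R →+* R} [RingHomSurjective σ] (φ : ∀ i, N i →ₛₗ[σ] N 0) (r : ℕ)
  (hfl : ∀ i, IsFiniteLength R (N i))
  (hsurj : ∀ m : N 0, ∃ y : (i : ℕ) → N i, (∀ i, r < i → y i = 0) ∧
      (Finset.range (r + 1)).sum (fun i => φ i (y i)) = m)
  (hker : ∀ y : (i : ℕ) → N i, (∀ i, r < i → y i = 0) →
      (Finset.range (r + 1)).sum (fun i => φ i (y i)) = 0 →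
        ∃ z : (i : ℕ) → N (i + 1), (∀ i, r ≤ i → z i = 0) ∧
          y 0 = α 0 (z 0) ∧ ∀ i, y (i + 1) = α (i + 1) (z (i + 1)) - π • z i)

include hfl hsurj hker in
/-- the purity step in the concrete situation. -/
theorem step (c : R) (hc : σ c = c) (z : ∀ i : ℕ, N (i + 1)) (hz : ∀ i, r ≤ i → z i = 0)
    (hzc : ∀ i, iotaN π N α z i ∈ cSub c (N i)) : ∀ i, z i ∈ cSub c (N (i + 1)) := by
  haveI : ∀ i : Fin (r + 1), IsNoetherian R (N i) := fun i =>
    (isFiniteLength_iff_isNoetherian_isArtinian.1 (hfl i)).1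
  haveI : ∀ i : Fin (r + 1), IsArtinian R (N i) := fun i =>
    (isFiniteLength_iff_isNoetherian_isArtinian.1 (hfl i)).2
  have hT : IsFiniteLength R (∀ i : Fin (r + 1), N i) :=
    isFiniteLength_iff_isNoetherian_isArtinian.2 ⟨inferInstance, inferInstance⟩
  let e : (∀ i : Fin (r + 1), N i) ≃ₗ[R] (N 0 × (∀ j : Fin r, N (Fin.succ j : Fin (r + 1)))) :=
    (Fin.consLinearEquiv R (fun i : Fin (r + 1) => N i)).symm
  let ι : (∀ j : Fin r, N (Fin.succ j : Fin (r + 1))) →ₗ[R] (∀ i : Fin (r + 1), N i) :=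
    (truncT R N r).comp ((iotaN π N α).comp (extS R N r))
  have hΦ : Function.Surjective (PhiT N φ r) := by
    intro m
    obtain ⟨y, -, hy⟩ := hsurj m
    refine ⟨truncT R N r y, ?_⟩
    rw [PhiT_apply, ← hy, Finset.sum_range (fun i => φ i (y i))]
    rfl
  have hker' : ∀ t, PhiT N φ r t = 0 → ∃ x, ι x = t := by
    intro t ht
    have hy0 : ∀ i, r < i → extT R N r t i = 0 := by
      intro i hi
      have : ¬ i < r + 1 := by omega
      simp only [extT, LinearMap.coe_mk, AddHom.coe_mk, dif_neg this]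
    have hsum : (Finset.range (r + 1)).sum (fun i => φ i (extT R N r t i)) = 0 := by
      rw [Finset.sum_range (fun i => φ i (extT R N r t i)), ← ht, PhiT_apply]
      refine Finset.sum_congr rfl fun i _ => ?_
      have := congrFun (truncT_extT (R := R) N r t) i
      simp only [truncT, LinearMap.coe_mk, AddHom.coe_mk] at this
      rw [this]
    obtain ⟨z', hz', h0, hs⟩ := hker _ hy0 hsum
    refine ⟨truncS R N r z', ?_⟩
    show truncT R N r (iotaN π N α (extS R N r (truncS R N r z'))) = t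
    rw [extS_truncS (R := R) N r z' hz']
    have : iotaN π N α z' = extT R N r t := by
      funext i
      cases i with
      | zero => rw [iotaN_zero, h0]
      | succ i => rw [iotaN_succ, hs]
    rw [this, truncT_extT (R := R)]
  have hx : ι (truncS R N r z) ∈ cSub c (∀ i : Fin (r + 1), N i) := by
    show truncT R N r (iotaN π N α (extS R N r (truncS R N r z))) ∈ _
    rw [extS_truncS (R := R) N r z hz]
    choose w hw using fun i => mem_cSub.1 (hzc i)
    refine mem_cSub.2 ⟨truncT R N r w, ?_⟩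
    rw [← map_smul]
    congr 1
    funext i
    exact hw i
  have key := purity_step c hc hT e ι (PhiT N φ r) hΦ hker' (truncS R N r z) hx
  obtain ⟨x', hx'⟩ := mem_cSub.1 key
  intro i
  by_cases h : i < r
  · refine mem_cSub.2 ⟨x' ⟨i, h⟩, ?_⟩
    have := congrFun hx' ⟨i, h⟩
    exact this
  · rw [hz i (not_lt.1 h)]
    exact Submodule.zero_mem _

include hfl hsurj hker in
/-- **Purity**: `α_j⁻¹(πⁿ N_j) = πⁿ N_{j+1}` for all `n` and `j < r`. -/
theorem purity_all (hπ : σ π = π) (n : ℕ) :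
    ∀ j, j < r → ∀ y : N (j + 1), α j y ∈ cSub (π ^ n) (N j) → y ∈ cSub (π ^ n) (N (j + 1)) := by
  classical
  induction n with
  | zero =>
    intro j _ y _
    exact mem_cSub.2 ⟨y, by simp⟩
  | succ n ih =>
    intro j hj y hy
    obtain ⟨w, hw⟩ := mem_cSub.1 hy
    have hy' : α j y ∈ cSub (π ^ n) (N j) := by
      refine mem_cSub.2 ⟨π • w, ?_⟩
      rw [← hw, smul_smul, pow_succ]
    obtain ⟨y', hy'⟩ := mem_cSub.1 (ih j hj y hy')
    set z : ∀ i : ℕ, N (i + 1) := Pi.single j y with hzdef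
    have hz : ∀ i, r ≤ i → z i = 0 := by
      intro i hi
      have : i ≠ j := by omega
      rw [hzdef, Pi.single_eq_of_ne this]
    have F1 : ∀ i, α i (z i) ∈ cSub (π ^ (n + 1)) (N i) := by
      intro i
      by_cases h : i = j
      · subst h
        rw [hzdef, Pi.single_eq_same]
        exact hy
      · rw [hzdef, Pi.single_eq_of_ne h, map_zero]
        exact Submodule.zero_mem _
    have F2 : ∀ i, π • z i ∈ cSub (π ^ (n + 1)) (N (i + 1)) := by
      intro i
      by_cases h : i = j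
      · subst h
        rw [hzdef, Pi.single_eq_same]
        refine mem_cSub.2 ⟨y', ?_⟩
        rw [← hy', smul_smul, pow_succ, mul_comm]
      · rw [hzdef, Pi.single_eq_of_ne h, smul_zero]
        exact Submodule.zero_mem _
    have hzc : ∀ i, iotaN π N α z i ∈ cSub (π ^ (n + 1)) (N i) := by
      intro i
      cases i with
      | zero => rw [iotaN_zero]; exact F1 0
      | succ i => rw [iotaN_succ]; exact Submodule.sub_mem _ (F1 _) (F2 _)
    have hσ : σ (π ^ (n + 1)) = π ^ (n + 1) := by rw [map_pow, hπ]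
    have := step π N α φ r hfl hsurj hker (π ^ (n + 1)) hσ z hz hzc j
    rwa [hzdef, Pi.single_eq_same] at this

end

end Groth.Agent.Lib.Helper16.FonLaf
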