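import Groth.Agent.Lib.Helper16.FonLaf2

/-!
# Fontaine–Laffaille lemma, part 3: pure submodules over a PID are summands; abstract DVR form
-/

set_option autoImplicit false

namespace Groth.Agent.Lib.Helper16.FonLaf

universe u v

open DirectSum in
/-- A pure submodule of a finitely generated module over a PID with torsion quotient is a direct
summand. -/
theorem exists_isCompl_of_pure {R : Type u} [CommRing R] [IsDomain R] [IsPrincipalIdealRing R]
    {B : Type v} [AddCommGroup B] [Module R B] [Module.Finite R B] (A : Submodule R B)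
    (htors : Module.IsTorsion R (B ⧸ A))
    (hpure : ∀ (a : R) (b : B), a • b ∈ A → ∃ a' ∈ A, a • a' = a • b) :
    ∃ Q : Submodule R B, IsCompl A Q := by
  classical
  obtain ⟨ι, _, q, -, e, ⟨E⟩⟩ := Module.equiv_directSum_of_isTorsion htors
  have hb : ∀ i : ι, ∃ b : B, A.mkQ b =
      E.symm (DirectSum.lof R ι (fun i => R ⧸ R ∙ q i ^ e i) i (Submodule.Quotient.mk 1)) ∧
      (q i ^ e i) • b = 0 := by
    intro i
    obtain ⟨b, hb⟩ := Submodule.mkQ_surjective A
      (E.symm (DirectSum.lof R ι (fun i => R ⧸ R ∙ q i ^ e i) i (Submodule.Quotient.mk 1)))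
    have h0 : (q i ^ e i) • b ∈ A := by
      rw [← Submodule.Quotient.mk_eq_zero, Submodule.Quotient.mk_smul, ← Submodule.mkQ_apply, hb,
        ← map_smul, ← map_smul, ← Submodule.Quotient.mk_smul, smul_eq_mul, mul_one,
        (Submodule.Quotient.mk_eq_zero _).2 (Submodule.mem_span_singleton_self _), map_zero,
        map_zero]
    obtain ⟨a', ha', h⟩ := hpure _ _ h0
    refine ⟨b - a', ?_, ?_⟩
    · rw [map_sub, hb, Submodule.mkQ_apply,
        (Submodule.Quotient.mk_eq_zero _).2 ha', sub_zero]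
    · rw [smul_sub, h, sub_self]
  choose b hb1 hb2 using hb
  let s' : (⨁ i : ι, R ⧸ R ∙ q i ^ e i) →ₗ[R] B :=
    DirectSum.toModule R ι B (fun i => Submodule.liftQ _ (LinearMap.toSpanSingleton R B (b i)) (by
      rw [Submodule.span_singleton_le_iff_mem, LinearMap.mem_ker,
        LinearMap.toSpanSingleton_apply]
      exact hb2 i))
  have hs' : A.mkQ.comp s' = E.symm.toLinearMap := by
    refine DirectSum.linearMap_ext R fun i => ?_
    refine Submodule.linearMap_qext _ ?_
    refine LinearMap.ext_ring ?_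
    simp only [LinearMap.coe_comp, Function.comp_apply, Submodule.mkQ_apply, s',
      DirectSum.toModule_lof, Submodule.liftQ_apply, LinearMap.toSpanSingleton_apply, one_smul,
      LinearEquiv.coe_coe]
    exact hb1 i
  let s : (B ⧸ A) →ₗ[R] B := s'.comp E.toLinearMap
  have hs : ∀ c, A.mkQ (s c) = c := by
    intro c
    have := LinearMap.congr_fun hs' (E c)
    simpa [s] using this
  refine ⟨LinearMap.range s, ?_, ?_⟩
  · rw [Submodule.disjoint_def]
    rintro x hxA ⟨c, rfl⟩
    have : c = 0 := by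
      rw [← hs c, Submodule.mkQ_apply, Submodule.Quotient.mk_eq_zero]
      exact hxA
    rw [this, map_zero]
  · rw [codisjoint_iff, eq_top_iff]
    intro x _
    have h1 : x - s (A.mkQ x) ∈ A := by
      rw [← Submodule.Quotient.mk_eq_zero, Submodule.Quotient.mk_sub, ← Submodule.mkQ_apply,
        ← Submodule.mkQ_apply, hs, sub_self]
    have h2 : s (A.mkQ x) ∈ LinearMap.range s := ⟨_, rfl⟩
    have := Submodule.add_mem_sup h1 h2
    rwa [sub_add_cancel] at this

/-- In a finite length module, powers of an element of the Jacobson radical act by zero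
eventually. -/
theorem exists_pow_smul_eq_zero {R : Type u} [CommRing R] (π : R)
    (hπ : π ∈ (⊥ : Ideal R).jacobson) {N : Type v} [AddCommGroup N] [Module R N]
    (hN : IsFiniteLength R N) : ∃ n, ∀ x : N, π ^ n • x = 0 := by
  haveI : IsNoetherian R N := (isFiniteLength_iff_isNoetherian_isArtinian.1 hN).1
  haveI : IsArtinian R N := (isFiniteLength_iff_isNoetherian_isArtinian.1 hN).2
  let f : ℕ →o (Submodule R N)ᵒᵈ :=
    ⟨fun n => OrderDual.toDual (cSub (π ^ n) N), by
      intro n m hnm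
      show cSub (π ^ m) N ≤ cSub (π ^ n) N
      intro x hx
      obtain ⟨x', rfl⟩ := mem_cSub.1 hx
      refine mem_cSub.2 ⟨π ^ (m - n) • x', ?_⟩
      rw [smul_smul, ← pow_add, Nat.add_sub_cancel' hnm]⟩
  obtain ⟨n, hn⟩ := IsArtinian.monotone_stabilizes f
  have hn1 : cSub (π ^ n) N = cSub (π ^ (n + 1)) N := by
    have := hn (n + 1) (Nat.le_succ n)
    exact OrderDual.toDual.injective this
  have hbot : cSub (π ^ n) N = ⊥ := by
    refine Submodule.eq_bot_of_le_smul_of_le_jacobson_bot (Ideal.span {π}) _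
      (IsNoetherian.noetherian _) ?_ ?_
    · intro x hx
      rw [hn1] at hx
      obtain ⟨x', rfl⟩ := mem_cSub.1 hx
      rw [pow_succ, mul_comm, mul_smul]
      exact Submodule.smul_mem_smul (Ideal.mem_span_singleton_self π) (smul_mem_cSub _ _)
    · rw [Ideal.span_le, Set.singleton_subset_iff]
      exact hπ
  refine ⟨n, fun x => ?_⟩
  have : π ^ n • x ∈ cSub (π ^ n) N := smul_mem_cSub _ _
  rw [hbot] at this
  exact (Submodule.mem_bot R).1 this

/-- **Fontaine–Laffaille lemma, abstract DVR form.** -/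
theorem main_dvr {R : Type u} [CommRing R] [IsDomain R] [IsDiscreteValuationRing R]
    (π : R) (hirr : Irreducible π)
    (N : ℕ → Type v) [∀ i, AddCommGroup (N i)] [∀ i, Module R (N i)]
    (α : ∀ i, N (i + 1) →ₗ[R] N i)
    {σ : R →+* R} [RingHomSurjective σ] (hσ : σ π = π) (φ : ∀ i, N i →ₛₗ[σ] N 0) (r : ℕ)
    (hfl : ∀ i, IsFiniteLength R (N i))
    (hsurj : ∀ m : N 0, ∃ y : (i : ℕ) → N i, (∀ i, r < i → y i = 0) ∧
      (Finset.range (r + 1)).sum (fun i => φ i (y i)) = m)
    (hker : ∀ y : (i : ℕ) → N i, (∀ i, r < i → y i = 0) →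
      (Finset.range (r + 1)).sum (fun i => φ i (y i)) = 0 →
        ∃ z : (i : ℕ) → N (i + 1), (∀ i, r ≤ i → z i = 0) ∧
          y 0 = α 0 (z 0) ∧ ∀ i, y (i + 1) = α (i + 1) (z (i + 1)) - π • z i)
    (i : ℕ) (hi : i < r) :
    Function.Injective (α i) ∧
      ∃ Q : Submodule R (N i), IsCompl (LinearMap.range (α i)) Q := by
  have hpur := purity_all π N α φ r hfl hsurj hker hσ
  have hjac : π ∈ (⊥ : Ideal R).jacobson := by
    rw [IsLocalRing.jacobson_eq_maximalIdeal ⊥ bot_ne_top]
    exact (IsLocalRing.mem_maximalIdeal π).2 hirr.not_isUnit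
  have hπ0 : π ≠ 0 := hirr.ne_zero
  refine ⟨?_, ?_⟩
  · rw [injective_iff_map_eq_zero]
    intro y hy
    obtain ⟨n, hn⟩ := exists_pow_smul_eq_zero π hjac (hfl (i + 1))
    have h0 : α i y ∈ cSub (π ^ n) (N i) := by rw [hy]; exact Submodule.zero_mem _
    obtain ⟨y', rfl⟩ := mem_cSub.1 (hpur n i hi y h0)
    exact hn y'
  · haveI : IsNoetherian R (N i) := (isFiniteLength_iff_isNoetherian_isArtinian.1 (hfl i)).1
    haveI : Module.Finite R (N i) := inferInstance
    obtain ⟨n, hn⟩ := exists_pow_smul_eq_zero π hjac (hfl i)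
    refine exists_isCompl_of_pure (LinearMap.range (α i)) ?_ ?_
    · intro x
      obtain ⟨x, rfl⟩ := Submodule.mkQ_surjective _ x
      refine ⟨⟨π ^ n, mem_nonZeroDivisors_of_ne_zero (pow_ne_zero n hπ0)⟩, ?_⟩
      show π ^ n • (LinearMap.range (α i)).mkQ x = 0
      rw [← map_smul, hn x, map_zero]
    · intro a b hab
      by_cases ha : a = 0
      · exact ⟨0, Submodule.zero_mem _, by rw [ha, zero_smul, zero_smul]⟩
      obtain ⟨m, u, rfl⟩ := IsDiscreteValuationRing.eq_unit_mul_pow_irreducible ha hirr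
      have h1 : π ^ m • b ∈ LinearMap.range (α i) := by
        have := Submodule.smul_mem _ ((u⁻¹ : Rˣ) : R) hab
        rwa [smul_smul, ← mul_assoc, Units.inv_mul, one_mul] at this
      obtain ⟨y, hy⟩ := h1
      have h2 : α i y ∈ cSub (π ^ m) (N i) := by rw [hy]; exact smul_mem_cSub _ _
      obtain ⟨y', rfl⟩ := mem_cSub.1 (hpur m i hi y h2)
      refine ⟨α i y', ⟨y', rfl⟩, ?_⟩
      rw [mul_smul, mul_smul, ← hy, map_smul]

end Groth.Agent.Lib.Helper16.FonLaf
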