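import Mathlib
import Groth.Agent.Lib.Helper18.QGor10

/-!
# Four-term free presentation of a reflexive module, locally free cokernel (S18709)
-/

set_option autoImplicit false

universe u

namespace Groth.Agent.Lib.Helper16.FourTerm

open Groth.Agent.Lib.Helper18

section regular

variable {R : Type u} [CommRing R] {P Q : Type u} [AddCommGroup P] [Module R P]
  [AddCommGroup Q] [Module R Q]

/-- If `f ∘ k ∘ f = s • f`, the quotient map `Q → Q ⧸ range f` has a section up to `s`. -/
theorem exists_section_up_to (f : P →ₗ[R] Q) (k : Q →ₗ[R] P) (s : R)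
    (hfk : f ∘ₗ k ∘ₗ f = s • f) :
    ∃ ρ : (Q ⧸ LinearMap.range f) →ₗ[R] Q,
      (LinearMap.range f).mkQ ∘ₗ ρ = s • LinearMap.id := by
  have hle : LinearMap.range f ≤ LinearMap.ker (s • LinearMap.id - f ∘ₗ k : Q →ₗ[R] Q) := by
    rintro x ⟨y, rfl⟩
    rw [LinearMap.mem_ker, LinearMap.sub_apply, LinearMap.smul_apply, LinearMap.id_apply]
    have := LinearMap.congr_fun hfk y
    simp only [LinearMap.comp_apply, LinearMap.smul_apply] at this
    rw [LinearMap.comp_apply, this, sub_self]
  refine ⟨(LinearMap.range f).liftQ _ hle, ?_⟩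
  apply LinearMap.ext
  intro x
  obtain ⟨x, rfl⟩ := (LinearMap.range f).mkQ_surjective x
  rw [LinearMap.comp_apply, Submodule.mkQ_apply, Submodule.mkQ_apply, Submodule.liftQ_apply,
    LinearMap.sub_apply,
    LinearMap.smul_apply, LinearMap.id_apply, LinearMap.smul_apply, LinearMap.id_apply,
    Submodule.Quotient.mk_sub, Submodule.Quotient.mk_smul]
  have : (Submodule.Quotient.mk ((f ∘ₗ k) x) : Q ⧸ LinearMap.range f) = 0 := by
    rw [Submodule.Quotient.mk_eq_zero]
    exact ⟨k x, rfl⟩
  rw [this, sub_zero]

end regular

section loc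

variable {R : Type u} [CommRing R] (S : Submonoid R) {Q G : Type u} [AddCommGroup Q] [Module R Q]
  [AddCommGroup G] [Module R G]

/-- a retract up to an element of `S` localizes to a projective module -/
theorem projective_localizedModule_of_section_up_to [Module.Projective R Q]
    (p : Q →ₗ[R] G) (ρ : G →ₗ[R] Q) (s : S) (h : p ∘ₗ ρ = (s : R) • LinearMap.id) :
    Module.Projective (Localization S) (LocalizedModule S G) := by
  have hu : IsUnit (algebraMap R (Localization S) (s : R)) := IsLocalization.map_units _ s
  obtain ⟨u, hu'⟩ := hu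
  refine Module.Projective.of_split
    (((u⁻¹ : (Localization S)ˣ) : Localization S) • LocalizedModule.map S ρ)
    (LocalizedModule.map S p) ?_
  apply LinearMap.ext
  intro x
  induction x using LocalizedModule.induction_on with
  | h x t =>
    rw [LinearMap.comp_apply, LinearMap.smul_apply, map_smul, LocalizedModule.map_mk,
      LocalizedModule.map_mk, LinearMap.id_apply]
    have h1 : p (ρ x) = (s : R) • x := by
      have := LinearMap.congr_fun h x
      simpa using this
    rw [h1]
    have h2 : LocalizedModule.mk ((s : R) • x) t =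
        (algebraMap R (Localization S) (s : R)) • LocalizedModule.mk x t := by
      rw [algebraMap_smul, LocalizedModule.smul'_mk]
    rw [h2, ← hu', smul_smul, Units.inv_mul, one_smul]

end loc

section main

variable {B : Type u} [CommRing B] [IsNoetherianRing B]

/-- generalized inverse up to an element of `S`, from local projectivity of the cokernel -/
theorem exists_generalized_inverse (S : Submonoid B)
    {D : Type u} [AddCommGroup D] [Module B D] [Module.Finite B D]
    (hproj : Module.Projective (Localization S) (LocalizedModule S D))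
    {n m : ℕ} (h : (Fin m → B) →ₗ[B] (Fin n → B)) (π : (Fin n → B) →ₗ[B] D)
    (hπ : Function.Surjective π) (hex : Function.Exact h π) :
    ∃ (s : S) (K : (Fin n → B) →ₗ[B] (Fin m → B)), h ∘ₗ K ∘ₗ h = (s : B) • h := by
  obtain ⟨σ, hσ⟩ := Module.projective_lifting_property (LocalizedModule.map S π) LinearMap.id
    (LocalizedModule.map_surjective S π hπ)
  haveI : Module.FinitePresentation B D := Module.finitePresentation_of_finite B D
  let g : D →ₗ[B] LocalizedModule S (Fin n → B) :=
    (σ.restrictScalars B) ∘ₗ LocalizedModule.mkLinearMap S D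
  obtain ⟨σ₀, s₁, hσ₀⟩ := Module.FinitePresentation.exists_lift_of_isLocalizedModule S
    (LocalizedModule.mkLinearMap S (Fin n → B)) g
  have hcomp : LocalizedModule.mkLinearMap S D ∘ₗ (π ∘ₗ σ₀) =
      LocalizedModule.mkLinearMap S D ∘ₗ ((s₁ : B) • LinearMap.id) := by
    apply LinearMap.ext
    intro d
    have h1 : LocalizedModule.mkLinearMap S D (π (σ₀ d)) =
        LocalizedModule.map S π (LocalizedModule.mkLinearMap S _ (σ₀ d)) := by
      rw [LocalizedModule.mkLinearMap_apply, LocalizedModule.mkLinearMap_apply,
        LocalizedModule.map_mk]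
    have h2 : LocalizedModule.mkLinearMap S (Fin n → B) (σ₀ d) =
        (s₁ : B) • σ (LocalizedModule.mkLinearMap S D d) := by
      have := LinearMap.congr_fun hσ₀ d
      rw [LinearMap.comp_apply, LinearMap.smul_apply] at this
      rw [this]
      rfl
    have h3 : LocalizedModule.map S π (σ (LocalizedModule.mkLinearMap S D d)) =
        LocalizedModule.mkLinearMap S D d := by
      have := LinearMap.congr_fun hσ (LocalizedModule.mkLinearMap S D d)
      rw [LinearMap.comp_apply, LinearMap.id_apply] at this
      exact this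
    rw [LinearMap.comp_apply, LinearMap.comp_apply, LinearMap.comp_apply, h1, h2,
      LinearMap.map_smul_of_tower, h3, LinearMap.smul_apply, LinearMap.id_apply, map_smul]
  obtain ⟨s₂, hs₂⟩ := Module.Finite.exists_smul_of_comp_eq_of_isLocalizedModule S
    (LocalizedModule.mkLinearMap S D) (π ∘ₗ σ₀) ((s₁ : B) • LinearMap.id) hcomp
  have hσ₁ : ∀ d : D, π (((s₂ : B) • σ₀) d) = ((s₂ * s₁ : S) : B) • d := by
    intro d
    have := LinearMap.congr_fun hs₂ d
    simp only [Submonoid.smul_def, LinearMap.smul_apply, LinearMap.comp_apply,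
      LinearMap.id_apply] at this
    rw [LinearMap.smul_apply, map_smul, this, Submonoid.coe_mul, mul_smul]
  set σ₁ : D →ₗ[B] (Fin n → B) := (s₂ : B) • σ₀ with hσ₁def
  set e₀ : (Fin n → B) →ₗ[B] (Fin n → B) :=
    ((s₂ * s₁ : S) : B) • LinearMap.id - σ₁ ∘ₗ π with he₀def
  have he₀ : ∀ x, e₀ x ∈ LinearMap.range h := by
    intro x
    have : π (e₀ x) = 0 := by
      rw [he₀def, LinearMap.sub_apply, LinearMap.smul_apply, LinearMap.id_apply, map_sub,
        LinearMap.comp_apply, hσ₁, map_smul, sub_self]
    exact (hex (e₀ x)).1 this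
  obtain ⟨K, hK⟩ := Module.projective_lifting_property h.rangeRestrict
    (e₀.codRestrict (LinearMap.range h) he₀) (LinearMap.surjective_rangeRestrict h)
  have hK' : ∀ y, h (K y) = e₀ y := by
    intro y
    have := congrArg Subtype.val (LinearMap.congr_fun hK y)
    exact this
  refine ⟨s₂ * s₁, K, ?_⟩
  apply LinearMap.ext
  intro y
  rw [LinearMap.comp_apply, LinearMap.comp_apply, hK', he₀def, LinearMap.sub_apply,
    LinearMap.smul_apply, LinearMap.id_apply, LinearMap.comp_apply,
    hex.apply_apply_eq_zero, map_zero, sub_zero, LinearMap.smul_apply]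

/-- the localized dual of a module that is locally free is projective -/
theorem projective_localizedModule_dual (S : Submonoid B) (F : Type u) [AddCommGroup F]
    [Module B F] [Module.Finite B F]
    (hfree : Module.Free (Localization S) (LocalizedModule S F)) :
    Module.Projective (Localization S) (LocalizedModule S (Module.Dual B F)) := by
  have e := IsLocalizedModule.iso S (QGor.dualLoc S F)
  let e' := LinearEquiv.extendScalarsOfIsLocalization S (Localization S) e
  exact Module.Projective.of_equiv e'.symm

/-- Main theorem (S18709). -/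
theorem main (J : Ideal B) (F : Type u) [AddCommGroup F] [Module B F] [Module.Finite B F]
    [Module.IsReflexive B F]
    (hU : ∀ q : PrimeSpectrum B, ¬ J ≤ q.asIdeal →
      Module.Free (Localization.AtPrime q.asIdeal) (LocalizedModule q.asIdeal.primeCompl F)) :
    ∃ (n m : ℕ) (g : F →ₗ[B] (Fin n → B)) (h : (Fin n → B) →ₗ[B] (Fin m → B)),
      Function.Injective g ∧ Function.Exact g h ∧
      ∀ q : PrimeSpectrum B, ¬ J ≤ q.asIdeal →
        Module.Free (Localization.AtPrime q.asIdeal)
          (LocalizedModule q.asIdeal.primeCompl ((Fin m → B) ⧸ LinearMap.range h)) := by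
  haveI : Module.Finite B (Module.Dual B F) := QGor.finite_dual (A := B) F
  obtain ⟨n, m, h, π, hπ, hex⟩ := QGor.exists_presentation_succ (A := B) (Module.Dual B F)
  have hdual : Function.Exact π.dualMap h.dualMap := QGor.dualMap_exact h π hex hπ
  have hinj : Function.Injective π.dualMap := LinearMap.dualMap_injective_of_surjective hπ
  let en : (Fin n → B) ≃ₗ[B] Module.Dual B (Fin n → B) := Module.piEquiv (Fin n) B B
  let em : (Fin (m + 1) → B) ≃ₗ[B] Module.Dual B (Fin (m + 1) → B) :=
    Module.piEquiv (Fin (m + 1)) B B
  let g : F →ₗ[B] (Fin n → B) :=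
    en.symm.toLinearMap ∘ₗ π.dualMap ∘ₗ (Module.evalEquiv B F).toLinearMap
  let h' : (Fin n → B) →ₗ[B] (Fin (m + 1) → B) :=
    em.symm.toLinearMap ∘ₗ h.dualMap ∘ₗ en.toLinearMap
  have hg : ∀ x, g x = en.symm (π.dualMap (Module.evalEquiv B F x)) := fun x => rfl
  have hh' : ∀ y, h' y = em.symm (h.dualMap (en y)) := fun y => rfl
  refine ⟨n, m + 1, g, h', ?_, ?_, ?_⟩
  · intro x y hxy
    rw [hg, hg] at hxy
    exact (Module.evalEquiv B F).injective (hinj (en.symm.injective hxy))
  · intro y
    rw [hh']
    constructor
    · intro hy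
      have h1 : h.dualMap (en y) = 0 := by
        have := congrArg em hy
        rwa [LinearEquiv.apply_symm_apply, map_zero] at this
      obtain ⟨d, hd⟩ := (hdual (en y)).1 h1
      obtain ⟨x, rfl⟩ := (Module.evalEquiv B F).surjective d
      refine ⟨x, ?_⟩
      rw [hg, hd, LinearEquiv.symm_apply_apply]
    · rintro ⟨x, rfl⟩
      rw [hg, LinearEquiv.apply_symm_apply, hdual.apply_apply_eq_zero, map_zero]
  · intro q hq
    have hproj := projective_localizedModule_dual q.asIdeal.primeCompl F (hU q hq)
    obtain ⟨s, K, hK⟩ := exists_generalized_inverse q.asIdeal.primeCompl hproj h π hπ hex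
    let K' : (Fin (m + 1) → B) →ₗ[B] (Fin n → B) :=
      en.symm.toLinearMap ∘ₗ K.dualMap ∘ₗ em.toLinearMap
    have hK' : h' ∘ₗ K' ∘ₗ h' = (s : B) • h' := by
      apply LinearMap.ext
      intro x
      have key : ∀ φ : Module.Dual B (Fin n → B),
          h.dualMap (K.dualMap (h.dualMap φ)) = (s : B) • h.dualMap φ := by
        intro φ
        apply LinearMap.ext
        intro z
        have := LinearMap.congr_fun hK z
        simp only [LinearMap.comp_apply, LinearMap.smul_apply] at this
        simp only [LinearMap.dualMap_apply, LinearMap.smul_apply]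
        rw [this, map_smul]
      simp only [LinearMap.comp_apply, LinearMap.smul_apply, hh', K', LinearEquiv.coe_coe,
        LinearEquiv.apply_symm_apply]
      rw [key, map_smul]
    obtain ⟨ρ, hρ⟩ := exists_section_up_to h' K' (s : B) hK'
    haveI := projective_localizedModule_of_section_up_to q.asIdeal.primeCompl
      (LinearMap.range h').mkQ ρ s hρ
    exact Module.free_of_flat_of_isLocalRing

end main

end Groth.Agent.Lib.Helper16.FourTerm
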