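import Mathlib.Algebra.Module.FinitePresentation
import Mathlib.Algebra.Module.LocalizedModule.Exact
import Mathlib.RingTheory.Localization.Module
import Mathlib.RingTheory.Localization.Finiteness

/-!
# Modules free at a prime (helper16)

If `M_p` is a nonzero free `R_p`-module then there is `π : R^t → M`, `t > 0`, with
`(ker π)_p = 0 = (coker π)_p`.
-/

set_option autoImplicit false
universe u

namespace Groth.Agent.Lib.Helper16.LC

section

variable {R : Type u} [CommRing R] [IsNoetherianRing R] (M : Type u) [AddCommGroup M]
  [Module R M] [Module.Finite R M] (p : Ideal R) [p.IsPrime]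

theorem exists_linearMap_pi_localization_bijective
    [Module.Free (Localization.AtPrime p) (LocalizedModule p.primeCompl M)]
    [Nontrivial (LocalizedModule p.primeCompl M)] :
    ∃ (t : ℕ) (π : (Fin t → R) →ₗ[R] M), 0 < t ∧
      Function.Bijective (LocalizedModule.map p.primeCompl π) := by
  classical
  have hfp : Module.FinitePresentation R M := Module.finitePresentation_of_finite R M
  let ι := Module.Free.ChooseBasisIndex (Localization.AtPrime p) (LocalizedModule p.primeCompl M)
  let b := Module.Free.chooseBasis (Localization.AtPrime p) (LocalizedModule p.primeCompl M)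
  let t := Fintype.card ι
  let b' : Module.Basis (Fin t) (Localization.AtPrime p) (LocalizedModule p.primeCompl M) :=
    b.reindex (Fintype.equivFin ι)
  let c : Module.Basis (Fin t) (Localization.AtPrime p)
      (LocalizedModule p.primeCompl (Fin t → R)) :=
    (Pi.basisFun R (Fin t)).ofIsLocalizedModule (Localization.AtPrime p) p.primeCompl
      (LocalizedModule.mkLinearMap p.primeCompl (Fin t → R))
  let l : LocalizedModule p.primeCompl (Fin t → R) ≃ₗ[R] LocalizedModule p.primeCompl M :=
    (c.equiv b' (Equiv.refl _)).restrictScalars R
  have htpos : 0 < t := by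
    by_contra h0
    have ht0 : t = 0 := by omega
    have : IsEmpty (Fin t) := by rw [ht0]; exact Fin.isEmpty
    have hsub : Subsingleton (LocalizedModule p.primeCompl M) :=
      b'.repr.toEquiv.subsingleton
    exact not_subsingleton _ hsub
  obtain ⟨π, s, H⟩ := Module.FinitePresentation.exists_lift_of_isLocalizedModule p.primeCompl
    (LocalizedModule.mkLinearMap p.primeCompl M)
    (l.toLinearMap ∘ₗ LocalizedModule.mkLinearMap p.primeCompl (Fin t → R))
  refine ⟨t, π, htpos, ?_⟩
  have hmap : IsLocalizedModule.map p.primeCompl
      (LocalizedModule.mkLinearMap p.primeCompl (Fin t → R))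
      (LocalizedModule.mkLinearMap p.primeCompl M) π = (s • LinearMap.id) ∘ₗ l.toLinearMap := by
    apply IsLocalizedModule.ext p.primeCompl
      (LocalizedModule.mkLinearMap p.primeCompl (Fin t → R))
      (IsLocalizedModule.map_units (LocalizedModule.mkLinearMap p.primeCompl M))
    apply LinearMap.ext fun x => ?_
    simp only [LinearMap.coe_comp, Function.comp_apply, IsLocalizedModule.map_apply]
    rw [← LinearMap.comp_apply, H]
    simp
  have hbij : Function.Bijective (IsLocalizedModule.map p.primeCompl
      (LocalizedModule.mkLinearMap p.primeCompl (Fin t → R))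
      (LocalizedModule.mkLinearMap p.primeCompl M) π) := by
    rw [hmap]
    exact ((Module.End.isUnit_iff _).mp (IsLocalizedModule.map_units
      (LocalizedModule.mkLinearMap p.primeCompl M) s)).comp l.bijective
  exact hbij

omit [IsNoetherianRing R] [Module.Finite R M] in
/-- Kernel and cokernel of a map which is bijective at `p` vanish at `p`. -/
theorem subsingleton_ker_coker_of_bijective {N : Type u} [AddCommGroup N] [Module R N]
    (π : N →ₗ[R] M) (hbij : Function.Bijective (LocalizedModule.map p.primeCompl π)) :
    Subsingleton (LocalizedModule p.primeCompl (LinearMap.ker π)) ∧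
      Subsingleton (LocalizedModule p.primeCompl (M ⧸ LinearMap.range π)) := by
  constructor
  · have hex := LocalizedModule.map_exact p.primeCompl (LinearMap.ker π).subtype π
      (LinearMap.exact_subtype_ker_map π)
    have hinj := LocalizedModule.map_injective p.primeCompl (LinearMap.ker π).subtype
      (Submodule.injective_subtype _)
    refine ⟨fun x y => ?_⟩
    suffices hz : ∀ z : LocalizedModule p.primeCompl (LinearMap.ker π), z = 0 by
      rw [hz x, hz y]
    intro z
    apply hinj
    rw [map_zero]
    apply hbij.1
    rw [map_zero]
    exact (hex _).mpr ⟨z, rfl⟩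
  · have hex := LocalizedModule.map_exact p.primeCompl π (LinearMap.range π).mkQ
      (LinearMap.exact_map_mkQ_range π)
    have hsurj := LocalizedModule.map_surjective p.primeCompl (LinearMap.range π).mkQ
      (Submodule.mkQ_surjective _)
    refine ⟨fun x y => ?_⟩
    suffices hz : ∀ z : LocalizedModule p.primeCompl (M ⧸ LinearMap.range π), z = 0 by
      rw [hz x, hz y]
    intro z
    obtain ⟨w, rfl⟩ := hsurj z
    obtain ⟨v, rfl⟩ := hbij.2 w
    exact (hex _).mpr ⟨v, rfl⟩

end

end Groth.Agent.Lib.Helper16.LC
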