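import Mathlib

/-!
# Frobenius height of an augmented algebra in characteristic p
-/

set_option autoImplicit false
universe u
open scoped TensorProduct

namespace Groth.Agent.Lib.Helper16.FrobHt

theorem finite_of_frob {R A : Type*} [CommRing R] [CommRing A] [Algebra R A]
    [Algebra.FiniteType R A] (ε : A →ₐ[R] R) (m : ℕ) (hm : 0 < m)
    (h : ∀ a : A, ε a = 0 → a ^ m = 0) : Module.Finite R A := by
  have hint : Algebra.IsIntegral R A := ⟨fun a => by
    have h1 : ε (a - algebraMap R A (ε a)) = 0 := by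
      rw [map_sub, AlgHom.commutes]
      simp
    have h3 : IsIntegral R (a - algebraMap R A (ε a)) := by
      apply IsIntegral.of_pow hm
      rw [h _ h1]
      exact isIntegral_zero
    have h4 := h3.add (isIntegral_algebraMap (x := ε a))
    simpa using h4⟩
  exact Algebra.IsIntegral.finite

theorem isLocalRing_of_frob (p : ℕ) [Fact p.Prime] {R : Type u} [CommRing R] [CharP R p]
    {A : Type u} [CommRing A] [Algebra R A] (K : Type u) [Field K] [Algebra R K]
    (ε : A →ₐ[R] R) (n : ℕ) (h : ∀ a : A, ε a = 0 → a ^ p ^ n = 0) :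
    IsLocalRing (K ⊗[R] A) := by
  let εK : K ⊗[R] A →ₐ[K] K := Algebra.TensorProduct.lift (AlgHom.id K K)
    ((Algebra.ofId R K).comp ε) (fun _ _ => Commute.all _ _)
  have hnt : Nontrivial (K ⊗[R] A) := εK.toRingHom.domain_nontrivial
  have hch : CharP (K ⊗[R] A) p := (CharP.charP_iff_prime_eq_zero (Fact.out)).2 (by
    rw [← map_natCast (algebraMap R (K ⊗[R] A)), CharP.cast_eq_zero, map_zero])
  have key : ∀ y : K ⊗[R] A, (y - algebraMap K _ (εK y)) ^ p ^ n = 0 := by
    intro y
    induction y using TensorProduct.induction_on with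
    | zero =>
      rw [map_zero, map_zero, sub_zero]
      exact zero_pow (pow_ne_zero _ (Fact.out : p.Prime).ne_zero)
    | tmul k a =>
      have h1 : k ⊗ₜ[R] a - algebraMap K _ (εK (k ⊗ₜ[R] a)) =
          k ⊗ₜ[R] (a - algebraMap R A (ε a)) := by
        have h2 : εK (k ⊗ₜ[R] a) = k * algebraMap R K (ε a) := by
          simp [εK, Algebra.TensorProduct.lift_tmul, Algebra.ofId_apply]
        rw [h2, Algebra.TensorProduct.algebraMap_apply, TensorProduct.tmul_sub]
        congr 1
        rw [Algebra.algebraMap_eq_smul_one (ε a), Algebra.algebraMap_eq_smul_one (ε a),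
          TensorProduct.tmul_smul, mul_smul_comm, mul_one]
        simp [TensorProduct.smul_tmul']
      have h3 : ε (a - algebraMap R A (ε a)) = 0 := by
        rw [map_sub, AlgHom.commutes]
        simp
      rw [h1, Algebra.TensorProduct.tmul_pow, h _ h3, TensorProduct.tmul_zero]
    | add y₁ y₂ h₁ h₂ =>
      have h3 : (y₁ + y₂) - algebraMap K _ (εK (y₁ + y₂)) =
          (y₁ - algebraMap K _ (εK y₁)) + (y₂ - algebraMap K _ (εK y₂)) := by
        rw [map_add, map_add]
        ring
      rw [h3, add_pow_char_pow, h₁, h₂, add_zero]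
  apply IsLocalRing.of_isUnit_or_isUnit_one_sub_self
  intro x
  by_cases hc : εK x = 0
  · right
    have hx : IsNilpotent x := ⟨p ^ n, by
      have := key x
      rwa [hc, map_zero, sub_zero] at this⟩
    exact hx.isUnit_one_sub
  · left
    have hnil : IsNilpotent (x - algebraMap K _ (εK x)) := ⟨p ^ n, key x⟩
    have hu : IsUnit (algebraMap K (K ⊗[R] A) (εK x)) := (IsUnit.mk0 _ hc).map _
    have hx : x = algebraMap K _ (εK x) + (x - algebraMap K _ (εK x)) := by ring
    rw [hx]
    exact hnil.isUnit_add_left_of_commute hu (Commute.all _ _)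

theorem frob_of_local (p : ℕ) [Fact p.Prime] {R : Type u} [CommRing R] [IsNoetherianRing R]
    {A : Type u} [CommRing A] [Algebra R A] [Algebra.FiniteType R A] (ε : A →ₐ[R] R)
    (hloc : ∀ (K : Type u) [Field K] [IsAlgClosed K] [Algebra R K], IsLocalRing (K ⊗[R] A)) :
    ∃ n : ℕ, ∀ a : A, ε a = 0 → a ^ p ^ n = 0 := by
  have hnil : ∀ a : A, ε a = 0 → a ∈ nilradical A := by
    intro a ha
    rw [nilradical_eq_sInf, Ideal.mem_sInf]
    intro q hq
    have hqp : q.IsPrime := hq
    let L := FractionRing (A ⧸ q)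
    let K := AlgebraicClosure L
    let f : A →+* K := (algebraMap L K).comp ((algebraMap (A ⧸ q) L).comp (Ideal.Quotient.mk q))
    letI : Algebra R K := (f.comp (algebraMap R A)).toAlgebra
    have hloc' := hloc K
    let fA : A →ₐ[R] K := { f with commutes' := fun r => rfl }
    let φ₁ : K ⊗[R] A →ₐ[K] K := Algebra.TensorProduct.lift (AlgHom.id K K) fA
      (fun _ _ => Commute.all _ _)
    let φ₂ : K ⊗[R] A →ₐ[K] K := Algebra.TensorProduct.lift (AlgHom.id K K)
      ((Algebra.ofId R K).comp ε) (fun _ _ => Commute.all _ _)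
    have hs₁ : Function.Surjective φ₁.toRingHom := fun k => ⟨k ⊗ₜ 1, by simp [φ₁]⟩
    have hs₂ : Function.Surjective φ₂.toRingHom := fun k => ⟨k ⊗ₜ 1, by simp [φ₂]⟩
    have hm₁ : (RingHom.ker φ₁.toRingHom).IsMaximal := RingHom.ker_isMaximal_of_surjective _ hs₁
    have hm₂ : (RingHom.ker φ₂.toRingHom).IsMaximal := RingHom.ker_isMaximal_of_surjective _ hs₂
    have heq : RingHom.ker φ₁.toRingHom = RingHom.ker φ₂.toRingHom := by
      rw [IsLocalRing.eq_maximalIdeal hm₁, IsLocalRing.eq_maximalIdeal hm₂]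
    have h2 : (1 : K) ⊗ₜ[R] a ∈ RingHom.ker φ₂.toRingHom := by
      rw [RingHom.mem_ker]
      simp [φ₂, ha]
    rw [← heq, RingHom.mem_ker] at h2
    have h3 : f a = 0 := by simpa [φ₁, fA] using h2
    have hinj : Function.Injective ((algebraMap L K).comp (algebraMap (A ⧸ q) L)) :=
      (algebraMap L K).injective.comp (IsFractionRing.injective (A ⧸ q) L)
    have h4 : Ideal.Quotient.mk q a = 0 := hinj (by rw [map_zero]; exact h3)
    exact Ideal.Quotient.eq_zero_iff_mem.1 h4
  have hnoeth : IsNoetherianRing A := Algebra.FiniteType.isNoetherianRing R A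
  obtain ⟨r, hr⟩ := IsNoetherianRing.isNilpotent_nilradical A
  refine ⟨r, fun a ha => ?_⟩
  have h1 : a ^ r ∈ (nilradical A) ^ r := Ideal.pow_mem_pow (hnil a ha) r
  rw [hr] at h1
  have h2 : a ^ r = 0 := by simpa using h1
  have h3 : r ≤ p ^ r := (Nat.lt_pow_self (Fact.out : p.Prime).one_lt).le
  rw [← Nat.sub_add_cancel h3, pow_add, h2, mul_zero]

theorem main (p : ℕ) [Fact p.Prime] (R : Type u) [CommRing R] [CharP R p]
    [IsNoetherianRing R] (A : Type u) [CommRing A] [HopfAlgebra R A] [Algebra.FiniteType R A] :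
    (∃ n : ℕ, ∀ a : A, Bialgebra.counitAlgHom R A a = 0 → a ^ p ^ n = 0) ↔
      (Module.Finite R A ∧ ∀ (K : Type u) [Field K] [IsAlgClosed K] [Algebra R K],
        IsLocalRing (K ⊗[R] A)) := by
  constructor
  · rintro ⟨n, hn⟩
    refine ⟨finite_of_frob (Bialgebra.counitAlgHom R A) (p ^ n)
      (pow_pos (Fact.out : p.Prime).pos _) hn, ?_⟩
    intro K _ _ _
    exact isLocalRing_of_frob p K (Bialgebra.counitAlgHom R A) n hn
  · rintro ⟨_, hloc⟩
    exact frob_of_local p (Bialgebra.counitAlgHom R A) hloc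

end Groth.Agent.Lib.Helper16.FrobHt
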