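import Mathlib

/-!
# graded Jordan form: projections
-/

set_option autoImplicit false

namespace Groth.Agent.Lib.Helper16.GJ

open DirectSum

variable {k : Type*} [Field k] {Λ : Type*} [AddCommGroup Λ] [DecidableEq Λ]
  {V : Type*} [AddCommGroup V] [Module k V]
  (𝒱 : Λ → Submodule k V) [DirectSum.Decomposition 𝒱]

/-- projection to the graded piece -/
noncomputable def pr (ν : Λ) : V →ₗ[k] V where
  toFun x := ((DirectSum.decompose 𝒱 x) ν : V)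
  map_add' x y := by simp [DirectSum.decompose_add]
  map_smul' c x := by
    rw [DirectSum.decompose_smul]
    rfl

theorem pr_apply (ν : Λ) (x : V) : pr 𝒱 ν x = ((DirectSum.decompose 𝒱 x) ν : V) := rfl

theorem pr_mem (ν : Λ) (x : V) : pr 𝒱 ν x ∈ 𝒱 ν := Subtype.mem _

theorem pr_of_mem_same {ν : Λ} {x : V} (hx : x ∈ 𝒱 ν) : pr 𝒱 ν x = x :=
  DirectSum.decompose_of_mem_same 𝒱 hx

theorem pr_of_mem_ne {ν ν' : Λ} {x : V} (hx : x ∈ 𝒱 ν') (h : ν' ≠ ν) : pr 𝒱 ν x = 0 :=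
  DirectSum.decompose_of_mem_ne 𝒱 hx h

theorem sum_pr (x : V) : ∃ s : Finset Λ, x = ∑ ν ∈ s, pr 𝒱 ν x ∧ ∀ ν, ν ∉ s → pr 𝒱 ν x = 0 := by
  classical
  refine ⟨(DirectSum.decompose 𝒱 x).support, (DirectSum.sum_support_decompose 𝒱 x).symm, ?_⟩
  intro ν hν
  rw [DFinsupp.notMem_support_iff] at hν
  rw [pr_apply, hν]
  rfl

variable (A : Module.End k V) (χ : Λ) (hhom : ∀ (μ : Λ) (v : V), v ∈ 𝒱 μ → A v ∈ 𝒱 (μ + χ))

include hhom in
theorem pr_comm (ν : Λ) (x : V) : pr 𝒱 (ν + χ) (A x) = A (pr 𝒱 ν x) := by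
  classical
  obtain ⟨s, hx, hs⟩ := sum_pr 𝒱 x
  conv_lhs => rw [hx]
  rw [map_sum, map_sum]
  by_cases hν : ν ∈ s
  · rw [Finset.sum_eq_single ν]
    · exact pr_of_mem_same 𝒱 (hhom ν _ (pr_mem 𝒱 ν x))
    · intro ν' _ hne
      exact pr_of_mem_ne 𝒱 (hhom ν' _ (pr_mem 𝒱 ν' x)) (fun h => hne (add_right_cancel h))
    · intro h; exact absurd hν h
  · rw [hs ν hν, map_zero]
    apply Finset.sum_eq_zero
    intro ν' hν'
    have hne : ν' ≠ ν := fun h => hν (h ▸ hν')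
    exact pr_of_mem_ne 𝒱 (hhom ν' _ (pr_mem 𝒱 ν' x)) (fun h => hne (add_right_cancel h))

include hhom in
theorem pow_mem (j : ℕ) {ν : Λ} {x : V} (hx : x ∈ 𝒱 ν) : (A ^ j) x ∈ 𝒱 (ν + j • χ) := by
  induction j with
  | zero => simpa using hx
  | succ j ih =>
    rw [pow_succ', Module.End.mul_apply, succ_nsmul, ← add_assoc]
    exact hhom _ _ ih

include hhom in
theorem pr_pow_comm (j : ℕ) (ν : Λ) (x : V) :
    pr 𝒱 (ν + j • χ) ((A ^ j) x) = (A ^ j) (pr 𝒱 ν x) := by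
  induction j with
  | zero => simp
  | succ j ih =>
    rw [pow_succ', Module.End.mul_apply, Module.End.mul_apply, succ_nsmul, ← add_assoc,
      pr_comm 𝒱 A χ hhom, ih]

theorem pow_apply_eq_zero_of_le {N m : ℕ} (h : N ≤ m) {x : V} (hx : (A ^ N) x = 0) :
    (A ^ m) x = 0 := by
  obtain ⟨j, rfl⟩ := Nat.exists_eq_add_of_le h
  rw [add_comm, pow_add, Module.End.mul_apply, hx, map_zero]

end Groth.Agent.Lib.Helper16.GJ
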