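import Mathlib
import Groth.Agent.Lib.Helper16.GJ1

/-!
# graded Jordan form: main induction
-/

set_option autoImplicit false

namespace Groth.Agent.Lib.Helper16.GJ

open DirectSum Module

universe w
variable {k : Type*} [Field k] {Λ : Type*} [AddCommGroup Λ] [DecidableEq Λ]
  {V : Type w} [AddCommGroup V] [Module k V] [FiniteDimensional k V]
  (𝒱 : Λ → Submodule k V) [DirectSum.Decomposition 𝒱]
  (A : Module.End k V) (χ : Λ) (hhom : ∀ (μ : Λ) (v : V), v ∈ 𝒱 μ → A v ∈ 𝒱 (μ + χ))

/-- the chain lemma -/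
theorem chain_zero (N : ℕ) (v u : V) (hN : (A ^ N) v = 0) (hu : u = (A ^ (N - 1)) v)
    (φ : V →ₗ[k] k) (hφ : φ u ≠ 0) (c : Fin N → k)
    (hc : ∀ j : Fin N, φ ((A ^ (j : ℕ)) (∑ l : Fin N, c l • (A ^ (l : ℕ)) v)) = 0) : c = 0 := by
  have key : ∀ m : ℕ, ∀ l : Fin N, (l : ℕ) < m → c l = 0 := by
    intro m
    induction m with
    | zero => intro l hl; omega
    | succ m ih =>
      intro l hl
      rcases Nat.lt_succ_iff_lt_or_eq.mp hl with h | h
      · exact ih l h
      · have hlN := l.isLt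
        have hj : N - 1 - (l : ℕ) < N := by omega
        have h1 := hc ⟨N - 1 - (l : ℕ), hj⟩
        rw [map_sum, map_sum] at h1
        rw [Finset.sum_eq_single l] at h1
        · rw [map_smul, map_smul, ← Module.End.mul_apply, ← pow_add] at h1
          have e : N - 1 - (l : ℕ) + (l : ℕ) = N - 1 := by omega
          simp only [e] at h1
          rw [← hu, smul_eq_mul] at h1
          rcases mul_eq_zero.mp h1 with h2 | h2
          · exact h2
          · exact absurd h2 hφ
        · intro l' _ hne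
          rcases lt_or_gt_of_ne (fun h' => hne (Fin.ext h')) with hlt | hgt
          · rw [ih l' (by omega), zero_smul, map_zero, map_zero]
          · rw [map_smul, ← Module.End.mul_apply, ← pow_add,
              pow_apply_eq_zero_of_le A (by simp only; omega) hN, smul_zero, map_zero]
        · intro h'; exact absurd (Finset.mem_univ l) h'
  funext l
  exact key N l l.isLt


include hhom in
theorem main_aux (hA : IsNilpotent A) : ∀ d : ℕ, ∀ D : Submodule k V, (∀ x ∈ D, A x ∈ D) →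
    (∀ x ∈ D, ∀ ν, pr 𝒱 ν x ∈ D) → finrank k D = d →
    ∃ (ι : Type w) (_ : Fintype ι) (n : ι → ℕ) (top : ι → V), (∀ i, top i ∈ D) ∧
      (∀ i, ∃ μ, top i ∈ 𝒱 μ) ∧ (∀ i, (A ^ (n i + 1)) (top i) = 0) ∧
      Submodule.span k {y | ∃ i l, l ≤ n i ∧ y = (A ^ l) (top i)} = D ∧
      ∑ i, (n i + 1) = d := by
  classical
  intro d
  induction d using Nat.strong_induction_on with
  | _ d ih =>
  intro D hDA hDgr hDd
  by_cases hD : D = ⊥
  · subst hD
    refine ⟨PEmpty, inferInstance, fun i => i.elim, fun i => i.elim, fun i => i.elim,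
      fun i => i.elim, fun i => i.elim, ?_, ?_⟩
    · rw [eq_bot_iff, Submodule.span_le]
      rintro y ⟨i, _⟩
      exact i.elim
    · rw [← hDd]; simp
  -- nilpotency index on D
  have hnil : ∃ N : ℕ, ∀ x ∈ D, (A ^ N) x = 0 := by
    obtain ⟨N, hN⟩ := hA
    exact ⟨N, fun x _ => by rw [hN]; rfl⟩
  set N := Nat.find hnil with hNdef
  have hN : ∀ x ∈ D, (A ^ N) x = 0 := Nat.find_spec hnil
  have hN0 : N ≠ 0 := by
    intro h0
    apply hD
    rw [eq_bot_iff]
    intro x hx
    have := hN x hx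
    rw [h0, pow_zero] at this
    exact this
  have hmin : ¬ ∀ x ∈ D, (A ^ (N - 1)) x = 0 := Nat.find_min hnil (by omega)
  push Not at hmin
  obtain ⟨x, hxD, hx⟩ := hmin
  obtain ⟨s, hxs, -⟩ := sum_pr 𝒱 x
  have hex : ∃ ν ∈ s, (A ^ (N - 1)) (pr 𝒱 ν x) ≠ 0 := by
    by_contra hcon
    push Not at hcon
    apply hx
    rw [hxs, map_sum]
    exact Finset.sum_eq_zero hcon
  obtain ⟨ν, -, hν⟩ := hex
  set v := pr 𝒱 ν x with hv
  have hvD : v ∈ D := hDgr x hxD ν
  have hvν : v ∈ 𝒱 ν := pr_mem 𝒱 ν x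
  set u := (A ^ (N - 1)) v with hu
  set μ := ν + (N - 1) • χ with hμ
  have huμ : u ∈ 𝒱 μ := pow_mem 𝒱 A χ hhom (N - 1) hvν
  obtain ⟨ψ, hψ⟩ : ∃ ψ : Module.Dual k V, ψ u ≠ 0 := by
    by_contra hcon
    push Not at hcon
    exact hν ((Module.forall_dual_apply_eq_zero_iff k u).mp hcon)
  set φ : V →ₗ[k] k := ψ ∘ₗ pr 𝒱 μ with hφ
  have hφu : φ u ≠ 0 := by
    rw [hφ, LinearMap.comp_apply, pr_of_mem_same 𝒱 huμ]; exact hψ
  let Φ : V →ₗ[k] (Fin N → k) := LinearMap.pi (fun j : Fin N => φ ∘ₗ (A ^ (j : ℕ)))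
  have hΦ : ∀ y, y ∈ LinearMap.ker Φ ↔ ∀ j : Fin N, φ ((A ^ (j : ℕ)) y) = 0 := by
    intro y
    rw [LinearMap.mem_ker]
    constructor
    · intro h j; exact congrFun h j
    · intro h; funext j; exact h j
  set D' := D ⊓ LinearMap.ker Φ with hD'
  -- A-stability
  have hApowD : ∀ (j : ℕ) (y : V), y ∈ D → (A ^ j) y ∈ D := by
    intro j
    induction j with
    | zero => intro y hy; simpa using hy
    | succ j ihj =>
      intro y hy
      rw [pow_succ', Module.End.mul_apply]
      exact hDA _ (ihj y hy)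
  have hD'A : ∀ y ∈ D', A y ∈ D' := by
    intro y hy
    have hyD : y ∈ D := hy.1
    have hyK : y ∈ LinearMap.ker Φ := hy.2
    refine ⟨hDA y hyD, ?_⟩
    rw [hΦ] at hyK
    apply (hΦ _).mpr
    intro j
    rw [← Module.End.mul_apply, ← pow_succ]
    by_cases hj : (j : ℕ) + 1 < N
    · exact hyK ⟨j + 1, hj⟩
    · have : N ≤ (j : ℕ) + 1 := by omega
      rw [pow_apply_eq_zero_of_le A this (hN y hyD), map_zero]
  have hD'gr : ∀ y ∈ D', ∀ ν', pr 𝒱 ν' y ∈ D' := by
    intro y hy ν'
    have hyD : y ∈ D := hy.1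
    have hyK : y ∈ LinearMap.ker Φ := hy.2
    refine ⟨hDgr y hyD ν', ?_⟩
    rw [hΦ] at hyK
    apply (hΦ _).mpr
    intro j
    have hmem : (A ^ (j : ℕ)) (pr 𝒱 ν' y) ∈ 𝒱 (ν' + (j : ℕ) • χ) :=
      pow_mem 𝒱 A χ hhom j (pr_mem 𝒱 ν' y)
    rw [hφ, LinearMap.comp_apply]
    by_cases hdeg : ν' + (j : ℕ) • χ = μ
    · have h1 : (A ^ (j : ℕ)) (pr 𝒱 ν' y) = pr 𝒱 μ ((A ^ (j : ℕ)) y) := by
        rw [← hdeg, pr_pow_comm 𝒱 A χ hhom]
      rw [pr_of_mem_same 𝒱 (hdeg ▸ hmem), h1]
      exact hyK j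
    · rw [pr_of_mem_ne 𝒱 hmem hdeg, map_zero]
  -- the chain
  have hvN : (A ^ N) v = 0 := hN v hvD
  have hchain : ∀ c : Fin N → k, (∑ l : Fin N, c l • (A ^ (l : ℕ)) v) ∈ D' → c = 0 := by
    intro c hc
    apply chain_zero A N v u hvN hu φ hφu c
    intro j
    exact (hΦ _).mp hc.2 j
  have hli : LinearIndependent k (fun l : Fin N => (A ^ (l : ℕ)) v) := by
    rw [Fintype.linearIndependent_iff]
    intro c hc
    have := hchain c (by rw [hc]; exact zero_mem _)
    intro i; rw [this]; rfl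
  set C := Submodule.span k (Set.range (fun l : Fin N => (A ^ (l : ℕ)) v)) with hC
  have hCN : finrank k C = N := by
    rw [hC, finrank_span_eq_card hli, Fintype.card_fin]
  have hCD : C ≤ D := by
    rw [hC, Submodule.span_le]
    rintro _ ⟨l, rfl⟩
    exact hApowD l v hvD
  have hCD' : C ⊓ D' = ⊥ := by
    rw [eq_bot_iff]
    intro y hy
    have hyC : y ∈ C := hy.1
    have hyD' : y ∈ D' := hy.2
    obtain ⟨c, rfl⟩ := (Submodule.mem_span_range_iff_exists_fun k).mp hyC
    have := hchain c hyD'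
    rw [this]
    simp
  have hdim1 : finrank k D ≤ finrank k D' + N := by
    have h1 := Submodule.finrank_sup_add_finrank_inf_eq D (LinearMap.ker Φ)
    have h2 := LinearMap.finrank_range_add_finrank_ker Φ
    have h3 : finrank k (LinearMap.range Φ) ≤ N := by
      refine (Submodule.finrank_le _).trans ?_
      simp
    have h4 : finrank k ↥(D ⊔ LinearMap.ker Φ) ≤ finrank k V := Submodule.finrank_le _
    rw [← hD'] at h1
    omega
  have hD'D : D' ≤ D := inf_le_left
  have hsup : C ⊔ D' = D := by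
    apply Submodule.eq_of_le_of_finrank_le (sup_le hCD hD'D)
    have h1 := Submodule.finrank_sup_add_finrank_inf_eq C D'
    rw [hCD', finrank_bot] at h1
    omega
  have hdim2 : finrank k D' + N = d := by
    have h1 := Submodule.finrank_sup_add_finrank_inf_eq C D'
    rw [hCD', finrank_bot, hsup] at h1
    omega
  -- induction hypothesis
  obtain ⟨ι, _, n, top, htD, hthom, htN, htspan, htsum⟩ :=
    ih (finrank k D') (by omega) D' hD'A hD'gr rfl
  refine ⟨Option ι, inferInstance, fun o => o.elim (N - 1) n, fun o => o.elim v top, ?_, ?_, ?_, ?_, ?_⟩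
  · intro o
    cases o with
    | none => exact hvD
    | some i => exact hD'D (htD i)
  · intro o
    cases o with
    | none => exact ⟨ν, hvν⟩
    | some i => exact hthom i
  · intro o
    cases o with
    | none =>
      simp only [Option.elim_none]
      rw [Nat.sub_add_cancel (Nat.one_le_iff_ne_zero.mpr hN0)]
      exact hvN
    | some i => exact htN i
  · rw [← hsup, ← htspan, hC, ← Submodule.span_union]
    congr 1
    ext y
    simp only [Set.mem_setOf_eq, Set.mem_union, Set.mem_range]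
    constructor
    · rintro ⟨o, l, hl, rfl⟩
      cases o with
      | none =>
        left
        simp only [Option.elim_none] at hl ⊢
        exact ⟨⟨l, by omega⟩, rfl⟩
      | some i =>
        right
        exact ⟨i, l, hl, rfl⟩
    · rintro (⟨l, rfl⟩ | ⟨i, l, hl, rfl⟩)
      · exact ⟨none, l, by simp only [Option.elim_none]; have := l.isLt; omega, rfl⟩
      · exact ⟨some i, l, hl, rfl⟩
  · rw [Fintype.sum_option]
    simp only [Option.elim_none, Option.elim_some]
    rw [htsum]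
    omega

end Groth.Agent.Lib.Helper16.GJ
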