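import Mathlib
import Groth.Agent.Lib.Helper16.GJ2

/-!
# graded Jordan form: S18983 main
-/

set_option autoImplicit false

namespace Groth.Agent.Lib.Helper16.GJ

open DirectSum Module

universe u v w

theorem main (k : Type u) [Field k] (Λ : Type v) [AddCommGroup Λ] [DecidableEq Λ]
    (V : Type w) [AddCommGroup V] [Module k V] [FiniteDimensional k V]
    (𝒱 : Λ → Submodule k V) (h𝒱 : DirectSum.IsInternal 𝒱)
    (A : Module.End k V) (hA : IsNilpotent A) (χ : Λ)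
    (hhom : ∀ (μ : Λ) (v : V), v ∈ 𝒱 μ → A v ∈ 𝒱 (μ + χ)) :
    ∃ (ι : Type w) (_ : Finite ι) (n : ι → ℕ) (b : Module.Basis (Σ i : ι, Fin (n i + 1)) k V),
      (∀ (i : ι) (l : Fin (n i + 1)), ∃ μ : Λ, b ⟨i, l⟩ ∈ 𝒱 μ) ∧
      (∀ i : ι, A (b ⟨i, 0⟩) = 0) ∧
      ∀ (i : ι) (l : Fin (n i)), A (b ⟨i, l.succ⟩) = b ⟨i, l.castSucc⟩ := by
  classical
  have := h𝒱.chooseDecomposition
  obtain ⟨ι, _, n, top, -, hthom, htN, htspan, htsum⟩ :=
    main_aux 𝒱 A χ hhom hA (finrank k (⊤ : Submodule k V)) ⊤ (fun _ _ => Submodule.mem_top)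
      (fun _ _ _ => Submodule.mem_top) rfl
  let F : (Σ i : ι, Fin (n i + 1)) → V := fun p => (A ^ (n p.1 - (p.2 : ℕ))) (top p.1)
  have hspan : ⊤ ≤ Submodule.span k (Set.range F) := by
    rw [← htspan]
    apply Submodule.span_mono
    rintro y ⟨i, l, hl, rfl⟩
    refine ⟨⟨i, ⟨n i - l, by omega⟩⟩, ?_⟩
    simp only [F]
    congr 2
    omega
  have hcard : Fintype.card (Σ i : ι, Fin (n i + 1)) = finrank k V := by
    rw [Fintype.card_sigma]
    simp only [Fintype.card_fin]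
    rw [htsum, finrank_top]
  let b := basisOfTopLeSpanOfCardEqFinrank F hspan hcard
  have hb : ∀ p, b p = F p := by
    intro p
    simp only [b, coe_basisOfTopLeSpanOfCardEqFinrank]
  refine ⟨ι, inferInstance, n, b, ?_, ?_, ?_⟩
  · intro i l
    obtain ⟨μ, hμ⟩ := hthom i
    refine ⟨μ + (n i - (l : ℕ)) • χ, ?_⟩
    rw [hb]
    exact pow_mem 𝒱 A χ hhom _ hμ
  · intro i
    rw [hb]
    simp only [F, Fin.val_zero, Nat.sub_zero]
    rw [← Module.End.mul_apply, ← pow_succ']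
    exact htN i
  · intro i l
    rw [hb, hb]
    simp only [F, Fin.val_succ, Fin.val_castSucc]
    rw [← Module.End.mul_apply, ← pow_succ']
    congr 2
    have := l.isLt
    omega

end Groth.Agent.Lib.Helper16.GJ
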