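import Groth.Agent.Lib.Helper16.DepthTransport
import Groth.Agent.Lib.Helper16.DepthLocalize
import Groth.Agent.Lib.Helper18.CM3
import Mathlib.RingTheory.Support

/-!
# Support of a localized module (helper16)

`P ∈ Supp (S⁻¹M)` iff the contraction of `P` lies in `Supp M`; and the resulting bound
`ht (p/p₀) ≤ dim M_p` for `p₀ ∈ Supp M`, `p₀ ≤ p`.
-/

set_option autoImplicit false
universe u

namespace Groth.Agent.Lib.Helper16.Supp

open Groth.Agent.Lib.Helper16.Depth

variable {A : Type u} [CommRing A] (S : Submonoid A) (M : Type u) [AddCommGroup M] [Module A M]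

theorem mem_support_localizedModule_iff (P : PrimeSpectrum (Localization S)) :
    P ∈ Module.support (Localization S) (LocalizedModule S M) ↔
      PrimeSpectrum.comap (algebraMap A (Localization S)) P ∈ Module.support A M := by
  rw [Module.mem_support_iff, Module.mem_support_iff]
  have hloc := isLocalizedModule_comp_mkLinearMap' S M P.asIdeal
  let e := IsLocalizedModule.linearEquiv
    (P.asIdeal.comap (algebraMap A (Localization S))).primeCompl
    (LocalizedModule.mkLinearMap (P.asIdeal.comap (algebraMap A (Localization S))).primeCompl M)
    ((LocalizedModule.mkLinearMap P.asIdeal.primeCompl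
          (LocalizedModule S M)).restrictScalars A ∘ₗ
        LocalizedModule.mkLinearMap S M)
  exact e.symm.toEquiv.nontrivial_congr

/-- `ht (p/p₀) ≤ dim M_p` for primes `p₀ ≤ p` with `p₀` in the support of `M`. -/
theorem height_map_le_supportDim [IsNoetherianRing A] [Module.Finite A M] (p₀ p : Ideal A)
    [p₀.IsPrime] [p.IsPrime] (h : p₀ ≤ p) (h0 : Module.annihilator A M ≤ p₀) :
    (((p.map (Ideal.Quotient.mk p₀)).height : ℕ∞) : WithBot ℕ∞) ≤
      Module.supportDim (Localization.AtPrime p) (LocalizedModule p.primeCompl M) := by
  have hdisj : Disjoint (p.primeCompl : Set A) (p₀ : Set A) := by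
    rw [Set.disjoint_left]
    intro x hx hx0
    exact hx (h hx0)
  have hPprime : (p₀.map (algebraMap A (Localization.AtPrime p))).IsPrime :=
    IsLocalization.isPrime_of_isPrime_disjoint p.primeCompl _ p₀ inferInstance hdisj
  have hcomap : (p₀.map (algebraMap A (Localization.AtPrime p))).comap
      (algebraMap A (Localization.AtPrime p)) = p₀ :=
    IsLocalization.under_map_of_isPrime_disjoint p.primeCompl _ inferInstance hdisj
  let P : PrimeSpectrum (Localization.AtPrime p) :=
    ⟨p₀.map (algebraMap A (Localization.AtPrime p)), hPprime⟩
  have hP : P ∈ Module.support (Localization.AtPrime p) (LocalizedModule p.primeCompl M) := by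
    rw [mem_support_localizedModule_iff p.primeCompl M P, Module.mem_support_iff_of_finite]
    change Module.annihilator A M ≤ (p₀.map (algebraMap A (Localization.AtPrime p))).comap
      (algebraMap A (Localization.AtPrime p))
    rw [hcomap]
    exact h0
  have h1 := Groth.Agent.Lib.Helper18.CM.ringKrullDim_quotient_le_supportDim_of_mem_support
    (LocalizedModule p.primeCompl M) P hP
  rw [← ringKrullDim_localization_quotient_map p₀ p h]
  exact h1

end Groth.Agent.Lib.Helper16.Supp
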