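import Groth.Agent.Lib.Helper16.FinLenRad
import Groth.Agent.Lib.Helper16.SupportLocalize
import Groth.Agent.Lib.Helper16.LocCohDepth
import Groth.Agent.Lib.Helper16.LocCohGrothVanish
import Groth.Agent.Lib.Helper18.CMCat
import Groth.Agent.Lib.Helper18.CatHt
import Groth.Agent.Lib.Helper18.Codepth
import Groth.Agent.Lib.Helper11.GorCM2

/-!
# Generalized Cohen-Macaulay modules over quotients of Gorenstein local rings (helper16)

* height_map_add_ringKrullDim : in a catenary local ring, ht(p/q) + dim R/p = dim R/q.
* nontrivial_H_depth : H^j(M_p) vanishes below depth M_p and is nonzero at the depth.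
* genCM_iff : H^i_m(M) of finite length for i < dim M iff M equidimensional and M_p CM for p not maximal.
-/

set_option autoImplicit false
universe u

namespace Groth.Agent.Lib.Helper16.GenCM

open IsLocalRing

variable {R : Type u} [CommRing R] [IsNoetherianRing R] [IsLocalRing R]

/-- If `R` is a quotient of a Cohen–Macaulay local ring, then for primes `q ≤ p` of `R`,
`ht(p/q) + dim R/p = dim R/q`. -/
theorem height_map_add_ringKrullDim (hcat : CAlg.IsCatenary R) (q p : Ideal R) [hq : q.IsPrime]
    [hp : p.IsPrime] (hqp : q ≤ p) :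
    (((p.map (Ideal.Quotient.mk q)).height : ℕ∞) : WithBot ℕ∞) + ringKrullDim (R ⧸ p) =
      ringKrullDim (R ⧸ q) := by
  have hnt : Nontrivial (R ⧸ q) := Ideal.Quotient.nontrivial_iff.mpr hq.ne_top
  have hloc : IsLocalRing (R ⧸ q) :=
    IsLocalRing.of_surjective' (Ideal.Quotient.mk q) Ideal.Quotient.mk_surjective
  have hcat' : CAlg.IsCatenary (R ⧸ q) :=
    Groth.Agent.Lib.Helper12.Codim.isCatenary_of_surjective (Ideal.Quotient.mk q)
      Ideal.Quotient.mk_surjective hcat
  have hprime : (p.map (Ideal.Quotient.mk q)).IsPrime :=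
    Ideal.map_isPrime_of_surjective Ideal.Quotient.mk_surjective (by rwa [Ideal.mk_ker])
  have h := Groth.Agent.Lib.Helper18.CatHt.height_add_ringKrullDim_quotient (R ⧸ q) hcat'
    (Groth.Agent.Lib.Helper18.CatHt.isEquidim_of_isDomain (R ⧸ q)) (p.map (Ideal.Quotient.mk q))
  rw [← h]
  congr 1
  exact (ringKrullDim_eq_of_ringEquiv (DoubleQuot.quotQuotEquivQuotOfLE hqp)).symm


variable (M : Type u) [AddCommGroup M] [Module R M] [Module.Finite R M]

omit [IsLocalRing R] in
/-- Vanishing of `H^j(M_p)` below the depth and nonvanishing at the depth. -/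
theorem nontrivial_H_depth (p : Ideal R) [hp : p.IsPrime] (hMp : Module.annihilator R M ≤ p) :
    Nontrivial (LocalizedModule p.primeCompl M) ∧
    ∃ d : ℕ, LocCoh.depth (Localization.AtPrime p) (LocalizedModule p.primeCompl M) = d ∧
      Nontrivial (LocCoh.H (maximalIdeal (Localization.AtPrime p)) d
        (LocalizedModule p.primeCompl M)) ∧
      ∀ j < d, Subsingleton (LocCoh.H (maximalIdeal (Localization.AtPrime p)) j
        (LocalizedModule p.primeCompl M)) := by
  have hsupp : (⟨p, hp⟩ : PrimeSpectrum R) ∈ Module.support R M :=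
    Module.mem_support_iff_of_finite.mpr hMp
  have hnt : Nontrivial (LocalizedModule p.primeCompl M) := Module.mem_support_iff.mp hsupp
  have hnoeth : IsNoetherianRing (Localization.AtPrime p) :=
    IsLocalization.isNoetherianRing p.primeCompl _ inferInstance
  refine ⟨hnt, ?_⟩
  obtain ⟨d, hd⟩ := ENat.ne_top_iff_exists.mp
    (Groth.Agent.Lib.Helper18.CM.depth_ne_top (R := Localization.AtPrime p)
      (LocalizedModule p.primeCompl M))
  have hIM := Groth.Agent.Lib.Helper18.CM.maximalIdeal_smul_top_ne_top
    (R := Localization.AtPrime p) (LocalizedModule p.primeCompl M)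
  refine ⟨d, hd.symm, ?_, fun j hj => ?_⟩
  · exact LC.nontrivial_H_of_idealDepth_eq _ _ hIM d hd.symm
  · exact LC.subsingleton_H_of_lt_idealDepth _ _ hIM d (le_of_eq hd) j hj


omit [IsNoetherianRing R] in
/-- If the maximal ideal is minimal over `Ann M` then `dim M ≤ 0`. -/
theorem supportDim_le_zero_of_maximalIdeal_mem_minimalPrimes
    (hmin : maximalIdeal R ∈ (Module.annihilator R M).minimalPrimes) :
    Module.supportDim R M ≤ 0 := by
  rw [Module.supportDim_eq_ringKrullDim_quotient_annihilator]
  have : Ring.KrullDimLE 0 (R ⧸ Module.annihilator R M) := by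
    rw [Ideal.krullDimLE_zero_quotient_iff_forall_minimalPrimes_isMaximal]
    intro J hJ
    have hJp : J.IsPrime := hJ.1.1
    have : J = maximalIdeal R :=
      le_antisymm (le_maximalIdeal hJp.ne_top) (hmin.2 hJ.1 (le_maximalIdeal hJp.ne_top))
    rw [this]
    infer_instance
  exact_mod_cast Ring.krullDimLE_iff.mp this

/-- **Generalized Cohen–Macaulay modules** over a quotient of a Gorenstein local ring. -/
theorem genCM_iff (S : Type u) [CommRing S] [LocCoh.IsGorensteinLocalRing S] (g : S →+* R)
    (hg : Function.Surjective g) (n : ℕ) (hn : Module.supportDim R M = n) :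
    (∀ i : ℕ, i < n → IsFiniteLength R (LocCoh.H (maximalIdeal R) i M)) ↔
      ((∀ p ∈ (Module.annihilator R M).minimalPrimes, ringKrullDim (R ⧸ p) = n) ∧
        ∀ (p : Ideal R) [p.IsPrime], p ≠ maximalIdeal R → Module.annihilator R M ≤ p →
          LocCoh.IsCohenMacaulayModule (Localization.AtPrime p)
            (LocalizedModule p.primeCompl M)) := by
  have key : (∀ i : ℕ, i < n → IsFiniteLength R (LocCoh.H (maximalIdeal R) i M)) ↔
      ∀ (p : Ideal R) [p.IsPrime], p ≠ maximalIdeal R → ∀ e j : ℕ,
        ringKrullDim (R ⧸ p) = e → j + e < n →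
        Subsingleton (LocCoh.H (maximalIdeal (Localization.AtPrime p)) j
          (LocalizedModule p.primeCompl M)) := by
    constructor
    · intro h p hp hpm e j he hje
      exact (FinLenRad.isFiniteLength_H_iff S g hg M (j + e)).mp (h _ hje) ⟨p, hp⟩ hpm e j he rfl
    · intro h i hi
      rw [FinLenRad.isFiniteLength_H_iff S g hg M i]
      intro p hpm e j he hje
      have := p.2
      exact h p.asIdeal hpm e j he (hje ▸ hi)
  rw [key]
  constructor
  · intro h
    constructor
    · intro p hpmin
      have hp : p.IsPrime := hpmin.1.1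
      have hle : ringKrullDim (R ⧸ p) ≤ n :=
        hn ▸ Groth.Agent.Lib.Helper18.CM.ringKrullDim_quotient_le_supportDim M p hpmin.1.2
      obtain ⟨e, he⟩ := Groth.Agent.Lib.Helper18.CM.exists_nat_eq_ringKrullDim_quotient p
      refine le_antisymm hle ?_
      rw [he]
      by_contra hlt
      have hlt' : e < n := by
        rw [not_le] at hlt
        exact_mod_cast hlt
      by_cases hpm : p = maximalIdeal R
      · subst hpm
        have h0 := supportDim_le_zero_of_maximalIdeal_mem_minimalPrimes M hpmin
        rw [hn] at h0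
        have : n ≤ 0 := by exact_mod_cast h0
        omega
      · obtain ⟨hnt, d, hd, hH, -⟩ := nontrivial_H_depth M p hpmin.1.2
        have hnoeth : IsNoetherianRing (Localization.AtPrime p) :=
          IsLocalization.isNoetherianRing p.primeCompl _ inferInstance
        have h0 := Groth.Agent.Lib.Helper18.CM.supportDim_localizedModule_eq_zero_of_mem_minimalPrimes
          p M hpmin
        have hdle := Groth.Agent.Lib.Helper18.CM.depth_le_supportDim (R := Localization.AtPrime p)
          (LocalizedModule p.primeCompl M)
        rw [hd, h0] at hdle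
        have hd0 : d = 0 := by
          have : d ≤ 0 := by exact_mod_cast hdle
          omega
        subst hd0
        have := h p hpm e 0 he (by omega)
        exact not_subsingleton _ this
    · intro p hp hpm hMp
      obtain ⟨hnt, d, hd, hH, -⟩ := nontrivial_H_depth M p hMp
      have hnoeth : IsNoetherianRing (Localization.AtPrime p) :=
        IsLocalization.isNoetherianRing p.primeCompl _ inferInstance
      obtain ⟨e, he⟩ := Groth.Agent.Lib.Helper18.CM.exists_nat_eq_ringKrullDim_quotient p
      have hsupp : (⟨p, hp⟩ : PrimeSpectrum R) ∈ Module.support R M :=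
        Module.mem_support_iff_of_finite.mpr hMp
      have h1 := Groth.Agent.Lib.Helper18.CM.supportDim_localizedModule_add_le M p hsupp
      have h2 := Groth.Agent.Lib.Helper18.CM.depth_le_supportDim (R := Localization.AtPrime p)
        (LocalizedModule p.primeCompl M)
      obtain ⟨s, hs⟩ := Groth.Agent.Lib.Helper18.CM.exists_nat_eq_supportDim
        (R := Localization.AtPrime p) (LocalizedModule p.primeCompl M)
      rw [hs, he, hn] at h1
      rw [hd, hs] at h2
      have h1' : s + e ≤ n := by exact_mod_cast h1
      have h2' : d ≤ s := by exact_mod_cast h2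
      have h3 : ¬ d + e < n := fun hlt => not_subsingleton _ (h p hpm e d he hlt)
      unfold LocCoh.IsCohenMacaulayModule
      rw [hs, hd]
      have : s = d := by omega
      rw [this]
      rfl
  · rintro ⟨h2a, h2b⟩ p hp hpm e j he hje
    by_cases hMp : Module.annihilator R M ≤ p
    · obtain ⟨hnt, d, hd, -, hvan⟩ := nontrivial_H_depth M p hMp
      apply hvan
      obtain ⟨q, hqmin, hqp⟩ := Ideal.exists_minimalPrimes_le hMp
      have hq : q.IsPrime := hqmin.1.1
      have hcatS : CAlg.IsCatenary S := Groth.Agent.Lib.Helper18.CMCat.isCatenary_of_CM S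
        (Groth.Agent.Lib.Helper11.GorCM.isCohenMacaulayLocalRing_of_gorenstein S).supportDim_eq_depth
      have hcat : CAlg.IsCatenary R :=
        Groth.Agent.Lib.Helper12.Codim.isCatenary_of_surjective g hg hcatS
      have h3 := height_map_add_ringKrullDim hcat q p hqp
      rw [h2a q hqmin, he] at h3
      have h4 := Groth.Agent.Lib.Helper16.Supp.height_map_le_supportDim M q p hqp hqmin.1.2
      have hCM := h2b p hpm hMp
      unfold LocCoh.IsCohenMacaulayModule at hCM
      rw [hd] at hCM
      rw [hCM] at h4
      have h5 : (p.map (Ideal.Quotient.mk q)).height ≤ (d : ℕ∞) := by exact_mod_cast h4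
      obtain ⟨t, ht⟩ := ENat.ne_top_iff_exists.mp (ne_top_of_le_ne_top (ENat.natCast_ne_top d) h5)
      rw [← ht] at h3 h5
      have h3' : t + e = n := by exact_mod_cast h3
      have h5' : t ≤ d := by exact_mod_cast h5
      omega
    · have : Subsingleton (LocalizedModule p.primeCompl M) := by
        by_contra hns
        rw [not_subsingleton_iff_nontrivial] at hns
        exact hMp (Module.mem_support_iff_of_finite.mp
          (Module.mem_support_iff (p := ⟨p, hp⟩).mpr hns))
      exact LC.subsingleton_H_of_subsingleton _ j _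

end Groth.Agent.Lib.Helper16.GenCM
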