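import Groth.Agent.Lib.Helper16.GorensteinTopLC
import Groth.Agent.Lib.Helper11.GorCM
import Groth.Agent.Lib.Helper25.MatlisDual

/-!
# Zero-dimensional Gorenstein local rings and the socle (helper16)

`length_socle_eq_one_of_isGorenstein`, `injective_of_length_socle_eq_one`,
`isGorenstein_of_length_socle_eq_one`: an Artinian local ring is Gorenstein iff its socle is simple.
-/

set_option autoImplicit false
universe u
open CategoryTheory Abelian IsLocalRing

namespace Groth.Agent.Lib.Helper16.GorArt

open Groth.Agent.Lib.Helper25 InjHull

variable (R : Type u) [CommRing R] [IsLocalRing R] [IsNoetherianRing R]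

/-- `Ext^0(k, R) ≃ socle of R` -/
noncomputable def ext0ResidueEquivSocle :
    Ext.{u} (ModuleCat.of R (ResidueField R)) (ModuleCat.of R R) 0 ≃ₗ[R]
      LocCoh.torsionBy (maximalIdeal R) R :=
  ((Ext.linearEquiv₀ (R := R)).trans (ModuleCat.homLinearEquiv (S := R))).trans
    (homResidueEquivSocle R)

omit [IsNoetherianRing R] in
/-- a zero-dimensional Gorenstein local ring has simple socle -/
theorem length_socle_eq_one_of_isGorenstein (hG : LocCoh.IsGorensteinLocalRing R)
    (hdim : ringKrullDim R = 0) :
    Module.length R (LocCoh.torsionBy (maximalIdeal R) R) = 1 := by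
  have h := Groth.Agent.Lib.Helper16.GorTop.length_ext_residueField (R := R) (n := 0)
    (by simpa using hdim)
  rwa [(ext0ResidueEquivSocle R).length_eq] at h

/-- an Artinian local ring with simple socle is self-injective -/
theorem injective_of_length_socle_eq_one [IsArtinianRing R]
    (h : Module.length R (LocCoh.torsionBy (maximalIdeal R) R) = 1) :
    Module.Injective R R := by
  obtain ⟨E, _, _, f, hf⟩ := exists_isInjectiveHull (R := R) (ResidueField R)
  have hpt : LocCoh.IsPowerTorsion (maximalIdeal R) R := isPowerTorsion_of_isArtinian
  have hfin := finite_socle_of_isArtinian (R := R) (M := R)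
  have hrank : Module.finrank (R ⧸ maximalIdeal R) (LocCoh.torsionBy (maximalIdeal R) R) = 1 := by
    have h1 := length_eq_finrank_quotient (R := R) (LocCoh.torsionBy (maximalIdeal R) R)
    rw [h] at h1
    exact_mod_cast h1.symm
  obtain ⟨g, hg⟩ := exists_injective_to_pi_of_isPowerTorsion f hf hpt 1 hrank
  have hflR : IsFiniteLength R R := isFiniteLength_iff_isNoetherian_isArtinian.mpr ⟨inferInstance, inferInstance⟩
  have hlenE : Module.length R E = Module.length R R := by
    rw [← length_hom_eq_length f hf hflR, (LinearMap.ringLmapEquivSelf R R E).length_eq]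
  have hlen1 : Module.length R (Fin 1 → E) = Module.length R R := by
    rw [Module.length_pi, hlenE]; simp
  have hne : Module.length R R ≠ ⊤ := Module.length_ne_top_iff.mpr hflR
  have hsurj : Function.Surjective g := by
    have hadd := Module.length_eq_add_of_exact g (LinearMap.range g).mkQ hg
      (Submodule.mkQ_surjective _) (LinearMap.exact_map_mkQ_range g)
    rw [hlen1] at hadd
    have h0 : Module.length R ((Fin 1 → E) ⧸ LinearMap.range g) = 0 := by
      have : Module.length R R + 0 = Module.length R R +
          Module.length R ((Fin 1 → E) ⧸ LinearMap.range g) := by rw [add_zero]; exact hadd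
      exact (ENat.add_right_injective_of_ne_top hne this).symm
    rw [Module.length_eq_zero_iff, Submodule.Quotient.subsingleton_iff,
      LinearMap.range_eq_top] at h0
    exact h0
  have := hf.isInjective
  have hpi : Module.Injective R (Fin 1 → E) := inferInstance
  exact Module.Baer.iff_injective.mp (Module.Baer.of_equiv
    (LinearEquiv.ofBijective g ⟨hg, hsurj⟩).symm (Module.Baer.iff_injective.mpr hpi))

theorem isGorenstein_of_length_socle_eq_one [IsArtinianRing R]
    (h : Module.length R (LocCoh.torsionBy (maximalIdeal R) R) = 1) :
    LocCoh.IsGorensteinLocalRing R := by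
  have hinj := injective_of_length_socle_eq_one R h
  have : Injective (ModuleCat.of R R) := Module.injective_object_of_injective_module R R
  exact { exists_hasInjectiveDimensionLT := ⟨1, inferInstance⟩ }

end Groth.Agent.Lib.Helper16.GorArt
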