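import Mathlib
import Groth.Agent.Lib.Helper16.GorBC3

/-!
# Residue fields of finite type algebras over a field are f.g. field extensions (helper16)
-/

set_option autoImplicit false
set_option linter.unusedSectionVars false
set_option linter.style.haveILetI false
universe u
open IsLocalRing TensorProduct Polynomial

namespace Groth.Agent.Lib.Helper16.GorBC

/-- residue fields of a finite type algebra over a field are finitely generated field extensions -/
theorem residueField_fg (k C : Type u) [Field k] [CommRing C] [Algebra k C]
    [Algebra.FiniteType k C] (p : Ideal C) [p.IsPrime] :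
    ∃ s : Finset p.ResidueField, IntermediateField.adjoin k (s : Set p.ResidueField) = ⊤ := by
  classical
  obtain ⟨s, hs⟩ := (Algebra.FiniteType.out : (⊤ : Subalgebra k C).FG)
  refine ⟨s.image (algebraMap C p.ResidueField), ?_⟩
  rw [eq_top_iff]
  intro x _
  have hC : ∀ c : C, algebraMap C p.ResidueField c ∈ IntermediateField.adjoin k
      ((s.image (algebraMap C p.ResidueField) : Finset _) : Set p.ResidueField) := by
    intro c
    have hc : c ∈ Algebra.adjoin k (s : Set C) := by rw [hs]; trivial
    induction hc using Algebra.adjoin_induction with
    | mem x hx =>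
      apply IntermediateField.subset_adjoin
      rw [Finset.coe_image]
      exact ⟨x, hx, rfl⟩
    | algebraMap r =>
      rw [← IsScalarTower.algebraMap_apply]
      exact IntermediateField.algebraMap_mem _ r
    | add x y _ _ hx hy =>
      rw [map_add]
      exact add_mem hx hy
    | mul x y _ _ hx hy =>
      rw [map_mul]
      exact mul_mem hx hy
  obtain ⟨a, b, hb, rfl⟩ := IsFractionRing.div_surjective (A := C ⧸ p) x
  obtain ⟨a, rfl⟩ := Ideal.Quotient.mk_surjective a
  obtain ⟨b, rfl⟩ := Ideal.Quotient.mk_surjective b
  have ha' : algebraMap (C ⧸ p) p.ResidueField (Ideal.Quotient.mk p a) =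
      algebraMap C p.ResidueField a := by
    rw [← Ideal.Quotient.algebraMap_eq, ← IsScalarTower.algebraMap_apply]
  have hb' : algebraMap (C ⧸ p) p.ResidueField (Ideal.Quotient.mk p b) =
      algebraMap C p.ResidueField b := by
    rw [← Ideal.Quotient.algebraMap_eq, ← IsScalarTower.algebraMap_apply]
  rw [ha', hb']
  exact div_mem (hC a) (hC b)

end Groth.Agent.Lib.Helper16.GorBC
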