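import Groth.Agent.Lib.Helper16.GorOver2

/-!
# Ext^1(M,M) = Hom(M^{-1}, O/M^{-1}) for overrings of a one-dimensional Gorenstein local domain (helper16)
-/

set_option autoImplicit false
universe u
open CategoryTheory Abelian IsLocalRing

namespace Groth.Agent.Lib.Helper16.GorOver

open Groth.Agent.Lib.Helper16 Groth.Agent.Lib

section main

variable {O : Type u} [CommRing O] [IsDomain O] [LocCoh.IsGorensteinLocalRing O]
  {K : Type u} [Field K] [Algebra O K] [IsFractionRing O K]

theorem main' (hdim : ringKrullDim O = 1) (Mk : Submodule O K) (hone : (1 : K) ∈ Mk)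
    (hmul : ∀ x ∈ Mk, ∀ y ∈ Mk, x * y ∈ Mk) [Module.Finite O ↥Mk] :
    Nonempty (Ext.{u} (ModuleCat.of O ↥Mk) (ModuleCat.of O ↥Mk) 1 ≃+
      (↥((1 : Submodule O K) / Mk) →ₗ[O]
        (O ⧸ Submodule.comap (Algebra.linearMap O K) ((1 : Submodule O K) / Mk)))) := by
  obtain ⟨Ck, hCkdef⟩ : ∃ Ck, Ck = (1 : Submodule O K) / Mk := ⟨_, rfl⟩
  rw [← hCkdef]
  have hmemC : ∀ x, x ∈ Ck ↔ ∀ y ∈ Mk, x * y ∈ (1 : Submodule O K) := by
    intro x
    rw [hCkdef]
    exact Iff.rfl
  have halg : ∀ o : O, algebraMap O K o ∈ Mk := by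
    intro o
    rw [Algebra.algebraMap_eq_smul_one]
    exact Mk.smul_mem o hone
  have hMk0 : Mk ≠ ⊥ := by
    intro h
    rw [h, Submodule.mem_bot] at hone
    exact one_ne_zero hone
  have hCk0 : Ck ≠ ⊥ := by
    have hfg : Mk.FG := Module.Finite.iff_fg.1 inferInstance
    obtain ⟨d, hd, hdI⟩ := FractionalIdeal.isFractional_of_fg (S := nonZeroDivisors O) hfg
    intro hbot
    have hmem : algebraMap O K d ∈ Ck := by
      rw [hmemC]
      intro m hm
      obtain ⟨o, ho⟩ := hdI m hm
      rw [Submodule.mem_one]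
      exact ⟨o, by rw [ho, Algebra.smul_def]⟩
    rw [hbot, Submodule.mem_bot] at hmem
    exact algebraMap_ne_zero (nonZeroDivisors.ne_zero hd) hmem
  have hCk1 : Ck ≤ 1 := by
    intro x hx
    have := (hmemC x).1 hx 1 hone
    rwa [mul_one] at this
  have hfinCk : Module.Finite O ↥Ck := by
    rw [hCkdef]
    exact finite_one_div Mk hMk0
  have hfinX : Module.Finite O ↥((1 : Submodule O K) / Ck) := finite_one_div Ck hCk0
  have hExtM := subsingleton_ext_one_of_torsionFree hdim ↥Mk (torsionFree_submodule Mk)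
  have hExtC := subsingleton_ext_one_of_torsionFree hdim ↥Ck (torsionFree_submodule Ck)
  have hExtX := subsingleton_ext_one_of_torsionFree hdim ↥((1 : Submodule O K) / Ck)
    (torsionFree_submodule _)
  have hle : Mk ≤ (1 : Submodule O K) / Ck := by
    intro m hm c hc
    rw [mul_comm]
    exact (hmemC c).1 hc m hm
  -- reflexivity
  have hrefl : (1 : Submodule O K) / Ck = Mk := by
    apply le_antisymm _ hle
    let j : ↥Mk →ₗ[O] ↥((1 : Submodule O K) / Ck) := Submodule.inclusion hle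
    have hjinj : Function.Injective j := Submodule.inclusion_injective hle
    have hres : ∀ f : ↥Mk →ₗ[O] O, ∃ f' : ↥((1 : Submodule O K) / Ck) →ₗ[O] O, f' ∘ₗ j = f := by
      intro f
      obtain ⟨⟨z, hz⟩, rfl⟩ := dualMap_surjective Mk hMk0 f
      have hzC : z ∈ Ck := by
        rw [hCkdef]
        exact hz
      have hz' : z ∈ (1 : Submodule O K) / ((1 : Submodule O K) / Ck) := by
        intro x hx
        rw [mul_comm]
        exact hx z hzC
      refine ⟨dualMap _ ⟨z, hz'⟩, ?_⟩
      apply LinearMap.ext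
      intro m
      apply IsFractionRing.injective O K
      rw [LinearMap.comp_apply, dualMap_apply, dualMap_apply]
      rfl
    have hN := subsingleton_ext_coker j hjinj O hExtX hres
    obtain ⟨c, hcC, hc0⟩ := Submodule.exists_mem_ne_zero_of_ne_bot hCk0
    obtain ⟨c₀, rfl⟩ := Submodule.mem_one.1 (hCk1 hcC)
    have hc₀ : c₀ ≠ 0 := fun h => hc0 (by rw [h, map_zero])
    obtain ⟨k, hk⟩ := exists_pow_maximalIdeal_le hdim c₀ hc₀
    have hpt : LocCoh.IsPowerTorsion (maximalIdeal O)
        (↥((1 : Submodule O K) / Ck) ⧸ LinearMap.range j) := by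
      intro n
      obtain ⟨x, rfl⟩ := Submodule.mkQ_surjective _ n
      refine ⟨k, fun a ha => ?_⟩
      obtain ⟨t, rfl⟩ := Ideal.mem_span_singleton'.1 (hk ha)
      rw [← map_smul, Submodule.mkQ_apply, Submodule.Quotient.mk_eq_zero]
      have hx1 : x.1 * algebraMap O K c₀ ∈ (1 : Submodule O K) :=
        Submodule.mem_div_iff_forall_mul_mem.1 x.2 _ hcC
      obtain ⟨o, ho⟩ := Submodule.mem_one.1 hx1
      have hmem : (((t * c₀) • x : ↥((1 : Submodule O K) / Ck)) : K) ∈ Mk := by
        rw [Submodule.coe_smul, Algebra.smul_def, map_mul, mul_assoc, mul_comm (algebraMap O K c₀),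
          ← ho, ← map_mul]
        exact halg _
      exact ⟨⟨_, hmem⟩, Subtype.ext rfl⟩
    have hsub := subsingleton_of_ext_one hdim _ hpt hN
    intro x hx
    have h0 : Submodule.mkQ (LinearMap.range j) ⟨x, hx⟩ = 0 := Subsingleton.elim _ _
    rw [Submodule.mkQ_apply, Submodule.Quotient.mk_eq_zero] at h0
    obtain ⟨m, hm⟩ := h0
    have h1 : (m : K) = x := congrArg Subtype.val hm
    rw [← h1]
    exact m.2
  have hJ : ∀ (g : ↥Ck →ₗ[O] O) (b : ↥Ck),
      g b ∈ Submodule.comap (Algebra.linearMap O K) Ck := by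
    intro g b
    obtain ⟨⟨z, hz⟩, rfl⟩ := dualMap_surjective Ck hCk0 g
    rw [Submodule.mem_comap]
    change algebraMap O K _ ∈ Ck
    rw [dualMap_apply, hmemC]
    intro m hm
    have hzM : z ∈ Mk := by
      rw [← hrefl]
      exact hz
    have h1 := (hmemC b.1).1 b.2 (z * m) (hmul z hzM m hm)
    have h2 : z * (b : K) * m = (b : K) * (z * m) := by ring
    rw [h2]
    exact h1
  let eA : ↥Mk ≃ₗ[O] (↥Ck →ₗ[O] O) :=
    (LinearEquiv.ofEq Mk ((1 : Submodule O K) / Ck) hrefl.symm).trans (dualEquiv Ck hCk0)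
  let eJ : ↥(Submodule.comap (Algebra.linearMap O K) Ck) ≃ₗ[O] (↥Mk →ₗ[O] O) :=
    (comapEquiv Ck hCk1).trans ((LinearEquiv.ofEq Ck ((1 : Submodule O K) / Mk) hCkdef).trans
      (dualEquiv Mk hMk0))
  exact nonempty_ext_self_equiv ↥Mk ↥Ck (Submodule.comap (Algebra.linearMap O K) Ck)
    hExtM hExtC eA eJ hJ

theorem main (hdim : ringKrullDim O = 1) (hfin : Module.Finite O ↥(integralClosure O K))
    (M : Subalgebra O K) (hM : M ≤ integralClosure O K) :
    Nonempty (Ext.{u} (ModuleCat.of O ↥M) (ModuleCat.of O ↥M) 1 ≃+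
      (↥((1 : Submodule O K) / Subalgebra.toSubmodule M) →ₗ[O]
        (O ⧸ Submodule.comap (Algebra.linearMap O K)
          ((1 : Submodule O K) / Subalgebra.toSubmodule M)))) := by
  have hN : IsNoetherian O ↥(integralClosure O K) := isNoetherian_of_isNoetherianRing_of_finite O _
  have hfinM : Module.Finite O ↥M :=
    Module.Finite.of_injective (Subalgebra.inclusion hM).toLinearMap
      (Subalgebra.inclusion_injective hM)
  have hfinMk : Module.Finite O ↥(Subalgebra.toSubmodule M) :=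
    Module.Finite.equiv (Subalgebra.toSubmoduleEquiv M).symm
  obtain ⟨e⟩ := main' hdim (Subalgebra.toSubmodule M) M.one_mem (fun x hx y hy => M.mul_mem hx hy)
  let i : ModuleCat.of O ↥M ≅ ModuleCat.of O ↥(Subalgebra.toSubmodule M) :=
    (Subalgebra.toSubmoduleEquiv M).symm.toModuleIso
  exact ⟨((preEquiv i _ 1).trans (postEquiv _ i 1)).trans e⟩

end main

end Groth.Agent.Lib.Helper16.GorOver
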