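import Groth.Agent.Lib.Helper16.LocCohBasic

/-!
# Long exact sequence of local cohomology (helper16)

For a short exact sequence `S` in `ModuleCat R` (`hS : S.ShortExact`), with
`Hmap I p f := ((localCohomology I p).map f).hom`:
* `Hcomp I β i n h` : the map `H^i_I(M) → H^n_I(N)` induced by `β : Ext^j(M,N)`, `Hcomp_ι`.
* `δ I hS p : H^p_I(S.X₃) →ₗ[R] H^{p+1}_I(S.X₁)`, `δ_ι`.
* `Hmap_exact₂`, `Hmap_exact₃`, `Hmap_exact₁`, `Hmap_zero_injective`,
  `Hmap_g_f`, `δ_Hmap_g`, `Hmap_f_δ`.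
* `trans_trans`, `trans_refl`, `trans_comp`, `ι_eq_ι_iff`, `Hmap_ι`.
-/

set_option autoImplicit false
universe u
open CategoryTheory Opposite Limits

namespace Groth.Agent.Lib.Helper16.LC

variable {R : Type u} [CommRing R] (I : Ideal R)

theorem quotMap_comp {k l m : ℕ} (h₁ : k ≤ l) (h₂ : l ≤ m) :
    quotMap I h₂ ≫ quotMap I h₁ = quotMap I (h₁.trans h₂) := by
  apply ModuleCat.hom_ext
  apply LinearMap.ext
  intro y
  obtain ⟨r, rfl⟩ := Ideal.Quotient.mk_surjective y
  rfl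

theorem quotMap_refl (k : ℕ) : quotMap I (le_refl k) = 𝟙 (Q I k) := by
  apply ModuleCat.hom_ext
  apply LinearMap.ext
  intro y
  obtain ⟨r, rfl⟩ := Ideal.Quotient.mk_surjective y
  rfl

section
variable (i : ℕ) (M : ModuleCat.{u} R)

theorem trans_trans {k l m : ℕ} (h₁ : k ≤ l) (h₂ : l ≤ m) (e : E I i M k) :
    trans I i M h₂ (trans I i M h₁ e) = trans I i M (h₁.trans h₂) e := by
  rw [trans_apply, trans_apply, trans_apply, Abelian.Ext.mk₀_comp_mk₀_assoc, quotMap_comp]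

theorem trans_refl (k : ℕ) (e : E I i M k) : trans I i M (le_refl k) e = e := by
  rw [trans_apply, quotMap_refl, Abelian.Ext.mk₀_id_comp]

variable {M} in
theorem trans_comp {N : ModuleCat.{u} R} {j n : ℕ} (hij : i + j = n) {k l : ℕ} (h : k ≤ l)
    (e : E I i M k) (β : Abelian.Ext.{u} M N j) :
    (trans I i M h e).comp β hij = trans I n N h (e.comp β hij) := by
  rw [trans_apply, trans_apply]
  exact Abelian.Ext.comp_assoc _ _ _ (zero_add i) hij (by omega)

/-- Two representatives can be brought to a common stage. -/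
theorem ι_eq_ι_iff {k l : ℕ} (e : E I i M k) (e' : E I i M l) :
    ι I i M k e = ι I i M l e' ↔
      ∃ (m : ℕ) (h₁ : k ≤ m) (h₂ : l ≤ m), trans I i M h₁ e = trans I i M h₂ e' := by
  constructor
  · intro h
    let m₀ := max k l
    have h₁ : k ≤ m₀ := le_max_left _ _
    have h₂ : l ≤ m₀ := le_max_right _ _
    have h0 : ι I i M m₀ (trans I i M h₁ e - trans I i M h₂ e') = 0 := by
      rw [map_sub, ι_trans, ι_trans, h, sub_self]
    obtain ⟨m, hm, hz⟩ := (ι_eq_zero_iff I i M _).mp h0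
    refine ⟨m, h₁.trans hm, h₂.trans hm, ?_⟩
    rw [map_sub, sub_eq_zero, trans_trans, trans_trans] at hz
    exact hz
  · rintro ⟨m, h₁, h₂, h⟩
    rw [← ι_trans I i M h₁ e, ← ι_trans I i M h₂ e', h]

end

/-- Postcomposition with an `Ext` class as an `R`-linear map. -/
noncomputable def postcompLin (X : ModuleCat.{u} R) {M N : ModuleCat.{u} R} {j : ℕ}
    (β : Abelian.Ext.{u} M N j) {i n : ℕ} (h : i + j = n) :
    Abelian.Ext.{u} X M i →ₗ[R] Abelian.Ext.{u} X N n where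
  toFun e := e.comp β h
  map_add' := by intro a b; simp
  map_smul' := by intro r a; simp

@[simp] theorem postcompLin_apply (X : ModuleCat.{u} R) {M N : ModuleCat.{u} R} {j : ℕ}
    (β : Abelian.Ext.{u} M N j) {i n : ℕ} (h : i + j = n) (e : Abelian.Ext.{u} X M i) :
    postcompLin X β h e = e.comp β h := rfl

/-- The map induced on local cohomology by a morphism of modules. -/
noncomputable abbrev Hmap (p : ℕ) {A B : ModuleCat.{u} R} (f : A ⟶ B) :
    (localCohomology I p).obj A →ₗ[R] (localCohomology I p).obj B :=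
  ((localCohomology I p).map f).hom

section delta

variable {M N : ModuleCat.{u} R} {j : ℕ} (β : Abelian.Ext.{u} M N j) (i n : ℕ) (h : i + j = n)

theorem compCocone_nat {k l : ℕ} (hkl : k ≤ l)
    (e' : ((_root_.Ext R (ModuleCat.{u} R) i).obj (op (Q I k))).obj M) :
    ι I n N l ((ExtBridge.oldToNew (Q I l) M i
      (((DM I i M).map ((homOfLE hkl).op.op : op (op k) ⟶ op (op l))).hom e')).comp β h) =
    ι I n N k ((ExtBridge.oldToNew (Q I k) M i e').comp β h) := by
  rw [← trans_old, trans_comp, ι_trans]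

/-- The cocone inducing the map `H^i_I(M) ⟶ H^n_I(N)` given by an `Ext^j(M,N)`-class. -/
noncomputable def compCocone : Cocone (DM I i M) where
  pt := (localCohomology I n).obj N
  ι :=
    { app := fun k => ModuleCat.ofHom ((ι I n N k.unop.unop) ∘ₗ (postcompLin (Q I k.unop.unop) β h) ∘ₗ
        (ExtBridge.oldToNew (Q I k.unop.unop) M i).toLinearMap)
      naturality := by
        intro k l f
        rcases k with ⟨⟨k⟩⟩
        rcases l with ⟨⟨l⟩⟩
        have hkl : k ≤ l := leOfHom f.unop.unop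
        have hf : f = ((homOfLE hkl).op.op : op (op k) ⟶ op (op l)) :=
          Subsingleton.elim _ _
        subst hf
        apply ModuleCat.hom_ext
        apply LinearMap.ext
        intro e'
        exact compCocone_nat I β i n h hkl e' }

/-- The map `H^i_I(M) → H^n_I(N)` induced by a class in `Ext^j(M,N)` (`i + j = n`). -/
noncomputable def Hcomp : (localCohomology I i).obj M →ₗ[R] (localCohomology I n).obj N :=
  ((isColimitCoconeM I i M).desc (compCocone I β i n h)).hom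

theorem Hcomp_ι {k : ℕ} (e : E I i M k) :
    Hcomp I β i n h (ι I i M k e) = ι I n N k (e.comp β h) := by
  obtain ⟨e', rfl⟩ := (ExtBridge.oldToNew (Q I k) M i).surjective e
  rw [ι_old]
  have := (isColimitCoconeM I i M).fac (compCocone I β i n h) (op (op k))
  have h2 := LinearMap.congr_fun (congrArg ModuleCat.Hom.hom this) e'
  rw [ModuleCat.hom_comp, LinearMap.comp_apply] at h2
  exact h2

end delta

theorem Hmap_ι (p : ℕ) {A B : ModuleCat.{u} R} (f : A ⟶ B) {k : ℕ} (e : E I p A k) :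
    Hmap I p f (ι I p A k e) = ι I p B k (e.comp (Abelian.Ext.mk₀ f) (add_zero p)) :=
  ι_naturality I p f e

section les

variable {S : ShortComplex (ModuleCat.{u} R)} (hS : S.ShortExact) (p : ℕ)

/-- The connecting homomorphism of local cohomology. -/
noncomputable def δ : (localCohomology I p).obj S.X₃ →ₗ[R] (localCohomology I (p + 1)).obj S.X₁ :=
  Hcomp I hS.extClass p (p + 1) rfl

theorem δ_ι {k : ℕ} (e : E I p S.X₃ k) :
    δ I hS p (ι I p S.X₃ k e) = ι I (p + 1) S.X₁ k (e.comp hS.extClass rfl) :=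
  Hcomp_ι I hS.extClass p (p + 1) rfl e

include hS in
theorem Hmap_exact₂ (x : (localCohomology I p).obj S.X₂) (hx : Hmap I p S.g x = 0) :
    ∃ y : (localCohomology I p).obj S.X₁, Hmap I p S.f y = x := by
  obtain ⟨k, e, rfl⟩ := ι_jointly_surjective I p S.X₂ x
  rw [Hmap_ι] at hx
  obtain ⟨l, hkl, hl⟩ := (ι_eq_zero_iff I p S.X₃ _).mp hx
  rw [← trans_comp] at hl
  obtain ⟨e₁, he₁⟩ := Abelian.Ext.covariant_sequence_exact₂ (Q I l) hS (trans I p S.X₂ hkl e) hl
  refine ⟨ι I p S.X₁ l e₁, ?_⟩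
  rw [Hmap_ι, he₁, ι_trans]

theorem Hmap_exact₃ (z : (localCohomology I p).obj S.X₃) (hz : δ I hS p z = 0) :
    ∃ y : (localCohomology I p).obj S.X₂, Hmap I p S.g y = z := by
  obtain ⟨k, e, rfl⟩ := ι_jointly_surjective I p S.X₃ z
  rw [δ_ι] at hz
  obtain ⟨l, hkl, hl⟩ := (ι_eq_zero_iff I (p + 1) S.X₁ _).mp hz
  rw [← trans_comp] at hl
  obtain ⟨e₂, he₂⟩ := Abelian.Ext.covariant_sequence_exact₃ (Q I l) hS (trans I p S.X₃ hkl e) rfl hl
  refine ⟨ι I p S.X₂ l e₂, ?_⟩
  rw [Hmap_ι, he₂, ι_trans]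

theorem Hmap_exact₁ (x : (localCohomology I (p + 1)).obj S.X₁) (hx : Hmap I (p + 1) S.f x = 0) :
    ∃ z : (localCohomology I p).obj S.X₃, δ I hS p z = x := by
  obtain ⟨k, e, rfl⟩ := ι_jointly_surjective I (p + 1) S.X₁ x
  rw [Hmap_ι] at hx
  obtain ⟨l, hkl, hl⟩ := (ι_eq_zero_iff I (p + 1) S.X₂ _).mp hx
  rw [← trans_comp] at hl
  obtain ⟨e₃, he₃⟩ := Abelian.Ext.covariant_sequence_exact₁ (Q I l) hS
    (trans I (p + 1) S.X₁ hkl e) hl rfl
  refine ⟨ι I p S.X₃ l e₃, ?_⟩
  rw [δ_ι, he₃, ι_trans]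

include hS in
theorem Hmap_zero_injective : Function.Injective (Hmap I 0 S.f) := by
  rw [injective_iff_map_eq_zero]
  intro x hx
  obtain ⟨k, e, rfl⟩ := ι_jointly_surjective I 0 S.X₁ x
  rw [Hmap_ι] at hx
  obtain ⟨l, hkl, hl⟩ := (ι_eq_zero_iff I 0 S.X₂ _).mp hx
  rw [← trans_comp] at hl
  have : Mono S.f := hS.mono_f
  have h0 := Abelian.Ext.postcomp_mk₀_injective_of_mono (Q I l) S.f
  have : trans I 0 S.X₁ hkl e = 0 := h0 (by simpa using hl)
  rw [← ι_trans I 0 S.X₁ hkl e, this, map_zero]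

theorem Hmap_g_f (y : (localCohomology I p).obj S.X₁) : Hmap I p S.g (Hmap I p S.f y) = 0 := by
  obtain ⟨k, e, rfl⟩ := ι_jointly_surjective I p S.X₁ y
  rw [Hmap_ι, Hmap_ι, Abelian.Ext.comp_assoc_of_third_deg_zero, Abelian.Ext.mk₀_comp_mk₀, S.zero,
    Abelian.Ext.mk₀_zero, Abelian.Ext.comp_zero, map_zero]

theorem δ_Hmap_g (y : (localCohomology I p).obj S.X₂) : δ I hS p (Hmap I p S.g y) = 0 := by
  obtain ⟨k, e, rfl⟩ := ι_jointly_surjective I p S.X₂ y
  rw [Hmap_ι, δ_ι, Abelian.Ext.comp_assoc_of_second_deg_zero, hS.comp_extClass,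
    Abelian.Ext.comp_zero, map_zero]

theorem Hmap_f_δ (z : (localCohomology I p).obj S.X₃) : Hmap I (p + 1) S.f (δ I hS p z) = 0 := by
  obtain ⟨k, e, rfl⟩ := ι_jointly_surjective I p S.X₃ z
  rw [δ_ι, Hmap_ι, Abelian.Ext.comp_assoc_of_third_deg_zero, hS.extClass_comp,
    Abelian.Ext.comp_zero, map_zero]

end les

end Groth.Agent.Lib.Helper16.LC
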