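import Groth.Agent.Lib.Helper16.GorensteinTopLC
import Groth.Agent.Lib.Helper16.LocCohGrothVanish
import Groth.Agent.Lib.Helper16.LocCohIndepBase
import Groth.Agent.Lib.Helper16.LocCohDepth
import Groth.Agent.Lib.Helper16.LocCohLES
import Groth.Agent.Lib.Helper16.LocCohH0
import Groth.Agent.Lib.Helper25.InjQuot
import Groth.Agent.Lib.Helper18.CM2
import Groth.Agent.Lib.Helper11.ReesGor

/-!
# Gorenstein local rings via local cohomology (helper16)

A Noetherian local ring `A` is Gorenstein iff for some `d` the local cohomology `H^i_m(A)` vanishes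
for `i ≠ d` and `H^d_m(A)` is injective (`isGorenstein_iff`).

* `exists_smul_eq_of_injective`: injective modules are divisible by regular elements.
* `SC x`, `shortExact`, `Hmap_f`: the sequence `0 → R → R → R/x → 0` and its effect on `H^p_I`.
* `subsingleton_H_quotient`, `nonempty_equiv_torsionBy`: `H^i_I(R/x)` from `H^i_I(R)`.
* `Hyp A d`, `hyp_quotient`, `isGorenstein_of_hyp`, `hyp_of_isGorenstein`.
-/

set_option autoImplicit false
universe u
open CategoryTheory Opposite Limits IsLocalRing

namespace Groth.Agent.Lib.Helper16.GorLC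

open Groth.Agent.Lib.Helper16.LC Groth.Agent.Lib.Helper16.Depth

section general

variable {R : Type u} [CommRing R] (I : Ideal R) (x : R)

/-- an injective module is divisible by regular elements -/
theorem exists_smul_eq_of_injective (hx : IsSMulRegular R x) (E : Type u) [AddCommGroup E]
    [Module R E] [Module.Injective R E] (y : E) : ∃ z : E, x • z = y := by
  obtain ⟨h, hh⟩ := Module.Injective.extension_property R E R R (LinearMap.lsmul R R x)
    (fun a b hab => hx hab) (LinearMap.toSpanSingleton R E y)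
  refine ⟨h 1, ?_⟩
  have := LinearMap.congr_fun hh 1
  rw [← map_smul, smul_eq_mul, mul_one]
  simpa using this

/-- the short exact sequence `0 → R → R → R/x → 0` -/
theorem exact_lsmul_mkQ :
    Function.Exact (LinearMap.lsmul R R x) (Submodule.mkQ (Ideal.span {x})) := by
  intro y
  rw [Submodule.mkQ_apply, Submodule.Quotient.mk_eq_zero, Ideal.mem_span_singleton']
  constructor
  · rintro ⟨a, rfl⟩
    exact ⟨a, by simp [mul_comm]⟩
  · rintro ⟨a, rfl⟩
    exact ⟨a, by simp [mul_comm]⟩

theorem shortExact (hx : IsSMulRegular R x) :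
    (ModuleCat.shortComplexOfCompEqZero (LinearMap.lsmul R R x) (Submodule.mkQ (Ideal.span {x}))
      (exact_lsmul_mkQ x).linearMap_comp_eq_zero).ShortExact :=
  shortExact_of_linearMaps _ _ (fun _ _ hab => hx hab) (Submodule.mkQ_surjective _)
    (exact_lsmul_mkQ x)

/-- the complex `0 → R → R → R/x → 0` -/
noncomputable abbrev SC : ShortComplex (ModuleCat.{u} R) :=
  ModuleCat.shortComplexOfCompEqZero (LinearMap.lsmul R R x) (Submodule.mkQ (Ideal.span {x}))
    (exact_lsmul_mkQ x).linearMap_comp_eq_zero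

theorem SC_f : (SC x).f = x • 𝟙 (ModuleCat.of R R) := by
  ext
  simp [SC, ModuleCat.shortComplexOfCompEqZero]

theorem Hmap_f (p : ℕ) (z : LocCoh.H I p R) : Hmap I p (SC x).f z = x • z := by
  rw [SC_f]
  exact Hmap_smul_id I p (ModuleCat.of R R) x z

variable (hx : IsSMulRegular R x)

include hx in
/-- vanishing of `H^i_I(R/x)` for `i ≠ d` from vanishing of `H^i_I(R)` for `i ≠ d + 1` and
divisibility of `H^{d+1}_I(R)` -/
theorem subsingleton_H_quotient (d : ℕ)
    (hvan : ∀ i : ℕ, i ≠ d + 1 → Subsingleton (LocCoh.H I i R))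
    (hdiv : ∀ y : LocCoh.H I (d + 1) R, ∃ z : LocCoh.H I (d + 1) R, x • z = y)
    (i : ℕ) (hi : i ≠ d) : Subsingleton (LocCoh.H I i (R ⧸ Ideal.span {x})) := by
  have hS := shortExact x hx
  refine ⟨fun a b => ?_⟩
  suffices hz : ∀ z : LocCoh.H I i (R ⧸ Ideal.span {x}), z = 0 by rw [hz a, hz b]
  intro z
  have hδ : δ I hS i z = 0 := by
    have : Subsingleton (LocCoh.H I (i + 1) R) := hvan (i + 1) (by omega)
    exact Subsingleton.elim _ _
  obtain ⟨y, rfl⟩ := Hmap_exact₃ I hS i z hδ
  by_cases hi' : i = d + 1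
  · subst hi'
    obtain ⟨y', rfl⟩ := hdiv y
    rw [← Hmap_f I x (d + 1) y']
    exact Hmap_g_f I (S := SC x) (d + 1) y'
  · have : Subsingleton (LocCoh.H I i R) := hvan i hi'
    rw [Subsingleton.elim y 0, map_zero]

include hx in
/-- `H^d_I(R/x) ≃ (0 :_{H^{d+1}_I(R)} x)` when `H^d_I(R) = 0` -/
theorem nonempty_equiv_torsionBy (d : ℕ) (hvan : Subsingleton (LocCoh.H I d R)) :
    Nonempty (LocCoh.H I d (R ⧸ Ideal.span {x}) ≃ₗ[R]
      ↥(LocCoh.torsionBy (Ideal.span {x}) (LocCoh.H I (d + 1) R))) := by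
  have hS := shortExact x hx
  have hmem : ∀ z, δ I hS d z ∈ LocCoh.torsionBy (Ideal.span {x}) (LocCoh.H I (d + 1) R) := by
    intro z
    rw [Submodule.mem_torsionBySet_iff]
    rintro ⟨a, ha⟩
    obtain ⟨r, rfl⟩ := Ideal.mem_span_singleton'.mp ha
    change (r * x) • δ I hS d z = 0
    rw [mul_smul, ← Hmap_f I x (d + 1), Hmap_f_δ, smul_zero]
  refine ⟨LinearEquiv.ofBijective ((δ I hS d).codRestrict _ hmem) ⟨?_, ?_⟩⟩
  · rw [injective_iff_map_eq_zero]
    intro z hz
    have hz' : δ I hS d z = 0 := congrArg Subtype.val hz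
    obtain ⟨y, rfl⟩ := Hmap_exact₃ I hS d z hz'
    rw [Subsingleton.elim y 0, map_zero]
  · rintro ⟨w, hw⟩
    have hxw : x • w = 0 := by
      rw [Submodule.mem_torsionBySet_iff] at hw
      exact hw ⟨x, Ideal.mem_span_singleton_self x⟩
    obtain ⟨z, hz⟩ := Hmap_exact₁ I hS d w (by rw [Hmap_f]; exact hxw)
    exact ⟨z, Subtype.ext hz⟩

end general

section loc

/-- `H^i_m(A) = 0` for `i ≠ d` and `H^d_m(A)` injective -/
def Hyp (A : Type u) [CommRing A] [IsLocalRing A] (d : ℕ) : Prop :=
  (∀ i : ℕ, i ≠ d → Subsingleton (LocCoh.H (maximalIdeal A) i A)) ∧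
    Module.Injective A (LocCoh.H (maximalIdeal A) d A)

variable {A : Type u} [CommRing A] [IsNoetherianRing A] [IsLocalRing A]

omit [IsNoetherianRing A] in
theorem map_maximalIdeal_quotient (J : Ideal A) [IsLocalRing (A ⧸ J)] :
    (maximalIdeal A).map (algebraMap A (A ⧸ J)) = maximalIdeal (A ⧸ J) := by
  have hg : Function.Surjective (algebraMap A (A ⧸ J)) := Ideal.Quotient.mk_surjective
  have hker : RingHom.ker (algebraMap A (A ⧸ J)) ≤ maximalIdeal A :=
    IsLocalRing.le_maximalIdeal (RingHom.ker_ne_top _)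
  have h1 : ((maximalIdeal A).map (algebraMap A (A ⧸ J))).comap (algebraMap A (A ⧸ J)) =
      maximalIdeal A := by
    rw [Ideal.comap_map_of_surjective _ hg]
    exact sup_eq_left.2 hker
  rcases Ideal.map_eq_top_or_isMaximal_of_surjective (algebraMap A (A ⧸ J)) hg
    (maximalIdeal.isMaximal A) with h | h
  · exfalso
    rw [h, Ideal.comap_top] at h1
    exact (maximalIdeal.isMaximal A).ne_top h1.symm
  · exact IsLocalRing.eq_maximalIdeal h

theorem hyp_quotient (d : ℕ) (h : Hyp A (d + 1)) (x : A) (hx : IsSMulRegular A x)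
    [IsLocalRing (A ⧸ Ideal.span {x})] : Hyp (A ⧸ Ideal.span {x}) d := by
  obtain ⟨hvan, hinj⟩ := h
  have hdiv : ∀ y : LocCoh.H (maximalIdeal A) (d + 1) A,
      ∃ z : LocCoh.H (maximalIdeal A) (d + 1) A, x • z = y :=
    fun y => exists_smul_eq_of_injective x hx _ y
  have hmap := map_maximalIdeal_quotient (Ideal.span {x})
  have hsemi : ∀ i, DTL.SemiIso A (A ⧸ Ideal.span {x})
      (LocCoh.H (maximalIdeal (A ⧸ Ideal.span {x})) i (A ⧸ Ideal.span {x}))
      (LocCoh.H (maximalIdeal A) i (A ⧸ Ideal.span {x})) := by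
    intro i
    have := DTL.semiIso_H (R := A) (R' := A ⧸ Ideal.span {x}) (maximalIdeal A) i
      (A ⧸ Ideal.span {x})
    rwa [hmap] at this
  constructor
  · intro i hi
    obtain ⟨φ, -⟩ := hsemi i
    have := subsingleton_H_quotient (maximalIdeal A) x hx d hvan hdiv i hi
    exact φ.toEquiv.subsingleton
  · obtain ⟨φ, hφ⟩ := hsemi d
    obtain ⟨e⟩ := nonempty_equiv_torsionBy (maximalIdeal A) x hx d (hvan d (by omega))
    let ψ : LocCoh.H (maximalIdeal (A ⧸ Ideal.span {x})) d (A ⧸ Ideal.span {x}) ≃ₗ[A ⧸ Ideal.span {x}]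
        ↥(LocCoh.torsionBy (Ideal.span {x}) (LocCoh.H (maximalIdeal A) (d + 1) A)) :=
      { (φ.trans e.toAddEquiv) with
        map_smul' := by
          intro b ξ
          obtain ⟨a, rfl⟩ := Ideal.Quotient.mk_surjective b
          change e (φ (Ideal.Quotient.mk (Ideal.span {x}) a • ξ)) =
            Ideal.Quotient.mk (Ideal.span {x}) a • e (φ ξ)
          rw [← Ideal.Quotient.algebraMap_eq, hφ, map_smul, Ideal.Quotient.algebraMap_eq,
            Submodule.torsionBySet.mk_smul] }
    have hT := Helper25.injective_torsionBy (Ideal.span {x}) (LocCoh.H (maximalIdeal A) (d + 1) A)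
    exact Module.Baer.injective (Module.Baer.of_equiv ψ.symm (Module.Baer.of_injective hT))

omit [IsNoetherianRing A] in
theorem eq_zero_or_one_of_mul_self (e : A) (he : e * e = e) : e = 0 ∨ e = 1 := by
  rcases IsLocalRing.isUnit_or_isUnit_one_sub_self e with h | h
  · right
    have : e * e = e * 1 := by rw [he, mul_one]
    exact h.mul_left_cancel this
  · left
    have : (1 - e) * e = (1 - e) * 0 := by rw [mul_zero, sub_mul, one_mul, he, sub_self]
    exact h.mul_left_cancel this

omit [IsNoetherianRing A] in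
theorem smul_top_ne_top : maximalIdeal A • (⊤ : Submodule A A) ≠ ⊤ := by
  rw [smul_eq_mul, Ideal.mul_top]
  exact (maximalIdeal.isMaximal A).ne_top

/-- some local cohomology module of `A` is nonzero -/
theorem exists_nontrivial_H : ∃ n : ℕ, Nontrivial (LocCoh.H (maximalIdeal A) n A) := by
  have hne : LocCoh.depth A A ≠ ⊤ := Groth.Agent.Lib.Helper18.CM.depth_ne_top (R := A) A
  obtain ⟨n, hn⟩ := ENat.ne_top_iff_exists.mp hne
  exact ⟨n, nontrivial_H_of_idealDepth_eq (maximalIdeal A) (ModuleCat.of A A) smul_top_ne_top n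
    hn.symm⟩

theorem isGorenstein_of_hyp_zero (h : Hyp A 0) : LocCoh.IsGorensteinLocalRing A := by
  obtain ⟨hvan, hinj⟩ := h
  let Γ : Submodule A A := DRing.torsionSub (maximalIdeal A) A
  have e0 : LocCoh.H (maximalIdeal A) 0 A ≃ₗ[A] Γ := H0equiv (maximalIdeal A) (ModuleCat.of A A)
  have hΓ : Module.Injective A Γ :=
    Module.Baer.injective (Module.Baer.of_equiv e0 (Module.Baer.of_injective hinj))
  obtain ⟨ρ, hρ⟩ := Module.Injective.extension_property A Γ Γ A Γ.subtype
    Γ.injective_subtype LinearMap.id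
  have hρ' : ∀ t : Γ, ρ (t : A) = t := fun t => LinearMap.congr_fun hρ t
  have hmul : ∀ t : Γ, (t : A) = (t : A) * ((ρ 1 : Γ) : A) := by
    intro t
    have h1 : ρ (t : A) = (t : A) • ρ 1 := by
      rw [← map_smul, smul_eq_mul, mul_one]
    have h2 := congrArg Subtype.val (h1.symm.trans (hρ' t))
    simpa using h2.symm
  rcases eq_zero_or_one_of_mul_self ((ρ 1 : Γ) : A) (by
      have := hmul (ρ 1)
      exact this.symm) with h0 | h1
  · exfalso
    have hΓ0 : ∀ t : Γ, t = 0 := by
      intro t
      apply Subtype.ext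
      rw [hmul t, h0, mul_zero]
      rfl
    have hsub0 : Subsingleton (LocCoh.H (maximalIdeal A) 0 A) :=
      ⟨fun a b => e0.injective ((hΓ0 _).trans (hΓ0 _).symm)⟩
    obtain ⟨n, hn⟩ := exists_nontrivial_H (A := A)
    have : Subsingleton (LocCoh.H (maximalIdeal A) n A) := by
      by_cases hn0 : n = 0
      · subst hn0; exact hsub0
      · exact hvan n hn0
    exact not_subsingleton _ this
  · have h1mem : (1 : A) ∈ Γ := by
      rw [← h1]
      exact (ρ 1).2
    have hΓtop : Γ = ⊤ := by
      rw [eq_top_iff]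
      intro a _
      have := Γ.smul_mem a h1mem
      simpa using this
    have e1 : Γ ≃ₗ[A] A := (LinearEquiv.ofEq _ _ hΓtop).trans Submodule.topEquiv
    have hA : Module.Injective A A :=
      Module.Baer.injective (Module.Baer.of_equiv e1 (Module.Baer.of_injective hΓ))
    have : Injective (ModuleCat.of A A) := Module.injective_object_of_injective_module A A
    exact { exists_hasInjectiveDimensionLT := ⟨1, inferInstance⟩ }

theorem isGorenstein_of_hyp : ∀ (d : ℕ) (A : Type u) [CommRing A] [IsNoetherianRing A]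
    [IsLocalRing A], Hyp A d → LocCoh.IsGorensteinLocalRing A := by
  intro d
  induction d with
  | zero => intro A _ _ _ h; exact isGorenstein_of_hyp_zero h
  | succ d ih =>
    intro A _ _ _ h
    -- the depth is `d + 1`
    have hne : LocCoh.depth A A ≠ ⊤ := Groth.Agent.Lib.Helper18.CM.depth_ne_top (R := A) A
    obtain ⟨n, hn⟩ := ENat.ne_top_iff_exists.mp hne
    have hnt := nontrivial_H_of_idealDepth_eq (maximalIdeal A) (ModuleCat.of A A) smul_top_ne_top
      n hn.symm
    have hnd : n = d + 1 := by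
      by_contra hne'
      exact not_subsingleton _ (h.1 n hne')
    have h1 : ((1 : ℕ) : ℕ∞) ≤ LocCoh.idealDepth (maximalIdeal A) A := by
      change ((1 : ℕ) : ℕ∞) ≤ LocCoh.depth A A
      rw [← hn, hnd]
      exact_mod_cast Nat.le_add_left 1 d
    rw [le_idealDepth_iff] at h1
    rcases h1 with h1 | ⟨rs, hlen, hreg, hmem⟩
    · exact absurd h1 smul_top_ne_top
    obtain ⟨x, rfl⟩ : ∃ x, rs = [x] := List.length_eq_one_iff.mp hlen
    have hx : IsSMulRegular A x := (RingTheory.Sequence.isWeaklyRegular_singleton_iff A x).mp hreg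
    have hxm : x ∈ maximalIdeal A := hmem x (List.mem_singleton_self x)
    have hnt' : Nontrivial (A ⧸ Ideal.span {x}) := by
      apply Ideal.Quotient.nontrivial_iff.mpr
      intro htop
      have : Ideal.span {x} ≤ maximalIdeal A := (Ideal.span_singleton_le_iff_mem _).mpr hxm
      rw [htop] at this
      exact (maximalIdeal.isMaximal A).ne_top (top_le_iff.mp this)
    have hloc : IsLocalRing (A ⧸ Ideal.span {x}) :=
      IsLocalRing.of_surjective' (Ideal.Quotient.mk (Ideal.span {x})) Ideal.Quotient.mk_surjective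
    have hB := ih (A ⧸ Ideal.span {x}) (hyp_quotient d h x hx)
    exact (Groth.Agent.Lib.Helper11.Rees.gorenstein_iff_quotient hxm hx).mpr hB

end loc

section gor

variable (A : Type u) [CommRing A] [LocCoh.IsGorensteinLocalRing A]

theorem hyp_of_isGorenstein : ∃ d : ℕ, Hyp A d := by
  obtain ⟨d, hd⟩ := Groth.Agent.Lib.Helper18.CM.exists_nat_eq_supportDim (R := A) A
  have hn : ringKrullDim A = d := by rw [← Module.supportDim_self_eq_ringKrullDim, hd]
  refine ⟨d, fun i hi => ?_, ?_⟩
  · rcases Nat.lt_or_gt_of_ne hi with hlt | hgt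
    · have hdep := GorTop.depth_eq hn
      exact subsingleton_H_of_lt_idealDepth (maximalIdeal A) (ModuleCat.of A A) smul_top_ne_top d
        hdep.ge i hlt
    · have hdim : Module.supportDim A A < ((d + 1 : ℕ) : WithBot ℕ∞) := by
        rw [hd]
        exact_mod_cast Nat.lt_succ_self d
      exact subsingleton_H_of_supportDim_lt (maximalIdeal A) A (d + 1) hdim i (by omega)
  · obtain ⟨g, hg⟩ := GorTop.exists_hull hn
    exact hg.isInjective

end gor

/-- A Noetherian local ring is Gorenstein iff its local cohomology is concentrated in one degree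
and injective there. -/
theorem isGorenstein_iff (A : Type u) [CommRing A] [IsLocalRing A] [IsNoetherianRing A] :
    LocCoh.IsGorensteinLocalRing A ↔ ∃ d : ℕ, Hyp A d := by
  constructor
  · intro h
    exact hyp_of_isGorenstein A
  · rintro ⟨d, hd⟩
    exact isGorenstein_of_hyp d A hd

end Groth.Agent.Lib.Helper16.GorLC
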