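import Mathlib
import Groth.Prelude.Def_LCI2
import Groth.Agent.Lib.Helper16.H1LCI
import Groth.Agent.Lib.Helper16.KzFlat4
import Groth.Agent.Lib.Helper18.CMFib
import Groth.Agent.Lib.Helper18.NorOpen
import Groth.Agent.Lib.Helper11.GorCM2

/-!
# H1 of NL vanishes for flat lci algebras with generically smooth fibres
-/

set_option autoImplicit false
set_option linter.unusedSectionVars false
universe u

open Algebra

namespace Groth.Agent.Lib.Helper16.H1LCI

open Groth.Agent.Lib.Helper16.CotLoc

/-- elements of a finite projective module over a Noetherian ring killed locally at all associated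
primes of the ring are zero -/
theorem eq_zero_of_forall_associatedPrimes {B : Type u} [CommRing B] [IsNoetherianRing B]
    (N : Type u) [AddCommGroup N] [Module B N] [Module.Finite B N] [Module.Projective B N]
    (y : N) (hy : ∀ p ∈ associatedPrimes B B, ∃ s : B, s ∉ p ∧ s • y = 0) : y = 0 := by
  obtain ⟨m, f', g', -, hg', -⟩ := Module.Finite.exists_comp_eq_id_of_projective B N
  apply hg'
  rw [map_zero]
  funext i
  by_contra hne
  obtain ⟨p, hp, hle⟩ := exists_le_isAssociatedPrime_of_isNoetherianRing B (g' y i) hne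
  obtain ⟨s, hs, hsy⟩ := hy p hp
  apply hs
  apply hle
  rw [Submodule.mem_colon_singleton, Submodule.mem_bot]
  have := congrArg (fun z => g' z i) hsy
  simpa using this

/-- Gorenstein rings are Cohen–Macaulay rings -/
theorem isCohenMacaulayRing_of_isGorensteinRing (C : Type u) [CommRing C]
    [hG : LocCoh.IsGorensteinRing C] : LocCoh.IsCohenMacaulayRing C := by
  refine ⟨fun p hp => ?_⟩
  have := hG.isGorensteinLocalRing_localization p
  exact Groth.Agent.Lib.Helper11.GorCM.isCohenMacaulayLocalRing_of_gorenstein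
    (Localization.AtPrime p)

variable (A : Type u) [CommRing A] [IsNoetherianRing A]
  (P : Type u) [CommRing P] [Algebra A P] [Module.Flat A P]

/-- the fibres of a flat lci ring map are Cohen–Macaulay -/
theorem cm_fibres_of_flat_isLCI (hlci : LCI.IsLCI A P) (p : Ideal A) [p.IsPrime] :
    LocCoh.IsCohenMacaulayRing (p.Fiber P) := by
  have h1 := Groth.Agent.Lib.Helper16.KzFlat.isLCI_baseChange_of_flat A p.ResidueField P hlci
  have hκ : LocCoh.IsGorensteinRing p.ResidueField :=
    Groth.Agent.Lib.Helper16.GorBC.gorRing_of_isRegularRing _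
  have h2 : LocCoh.IsGorensteinRing (p.Fiber P) := Groth.Agent.S1827.result p.ResidueField
    (TensorProduct A p.ResidueField P) hκ h1
  exact isCohenMacaulayRing_of_isGorensteinRing _

/-- associated primes of a flat lci algebra over a Noetherian ring are minimal in their fibre -/
theorem minimal_in_fibre_of_mem_associatedPrimes [IsNoetherianRing P] (hlci : LCI.IsLCI A P)
    (𝔓 : Ideal P) [𝔓.IsPrime] (h𝔓 : 𝔓 ∈ associatedPrimes P P)
    (𝔔 : Ideal P) [𝔔.IsPrime] (hle : 𝔔 ≤ 𝔓)
    (hc : 𝔔.comap (algebraMap A P) = 𝔓.comap (algebraMap A P)) : 𝔔 = 𝔓 := by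
  have hf : ∀ (p : Ideal A) [p.IsPrime], LocCoh.IsCohenMacaulayRing (p.Fiber P) :=
    fun p _ => cm_fibres_of_flat_isLCI A P hlci p
  obtain ⟨d, h1, h2⟩ := Groth.Agent.Lib.Helper18.CMFib.exists_dim_depth_add A P hf 𝔓
  obtain ⟨d', h1', -⟩ := Groth.Agent.Lib.Helper18.CMFib.exists_dim_depth_add A P hf 𝔔
  have hdep : LocCoh.depth (Localization.AtPrime 𝔓) (Localization.AtPrime 𝔓) = 0 :=
    (Groth.Agent.Lib.Helper18.NorOpen.depth_localization_eq_zero_iff 𝔓).mpr h𝔓
  have hd : d = 0 := by
    rw [hdep] at h2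
    have h3 := h2.symm
    rw [add_eq_zero] at h3
    exact_mod_cast h3.2
  subst hd
  rw [hc] at h1'
  have e1 : (𝔓.height : WithBot ℕ∞) ≤ (𝔔.height : WithBot ℕ∞) := by
    rw [h1, h1', Nat.cast_zero, add_zero]
    exact le_add_of_nonneg_right (by positivity)
  have e2 : 𝔓.height ≤ 𝔔.height := by exact_mod_cast e1
  by_contra hne
  have hlt : 𝔔 < 𝔓 := lt_of_le_of_ne hle hne
  have hfin : 𝔔.height ≠ ⊤ := Ideal.height_ne_top (Ideal.IsPrime.ne_top')
  have hfin' : 𝔔.FiniteHeight := ⟨Or.inr hfin⟩
  have := Ideal.height_strict_mono_of_isPrime hlt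
  exact absurd (lt_of_lt_of_le this e2) (lt_irrefl _)

/-- **S18126**: `H_1(NL_{P/A}) = 0` for a flat lci algebra with generically smooth fibres over a
Noetherian ring -/
theorem subsingleton_h1Cotangent_of_flat (hlci : LCI.IsLCI A P)
    (hgs : ∀ 𝔓 : PrimeSpectrum P,
      (∀ 𝔔 : PrimeSpectrum P, 𝔔 ≤ 𝔓 →
          𝔔.asIdeal.comap (algebraMap A P) = 𝔓.asIdeal.comap (algebraMap A P) → 𝔔 = 𝔓) →
        𝔓 ∈ Algebra.smoothLocus A P) :
    Subsingleton (Algebra.H1Cotangent A P) := by
  have hft := hlci.1
  have : IsNoetherianRing P := Algebra.FiniteType.isNoetherianRing A P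
  obtain ⟨n, G, hK⟩ := exists_generators hlci
  have := finite_extension_cotangent G.toExtension hK
  have := projective_extension_cotangent G.toExtension hK
  refine ⟨fun x y => ?_⟩
  suffices h0 : ∀ x : Algebra.H1Cotangent A P, x = 0 by rw [h0 x, h0 y]
  intro x
  apply G.equivH1Cotangent.symm.injective
  rw [map_zero]
  apply Subtype.ext
  apply eq_zero_of_forall_associatedPrimes (B := P) G.toExtension.Cotangent
  intro p hp
  have hpp : p.IsPrime := hp.isPrime
  have hsm : (⟨p, hpp⟩ : PrimeSpectrum P) ∈ Algebra.smoothLocus A P := by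
    apply hgs
    intro 𝔔 hle hc
    apply PrimeSpectrum.ext
    exact minimal_in_fibre_of_mem_associatedPrimes A P hlci p hp 𝔔.asIdeal hle hc
  have hsm' : Algebra.FormallySmooth A (Localization.AtPrime p) := hsm
  have hsub : Subsingleton (Algebra.H1Cotangent A (Localization.AtPrime p)) :=
    Algebra.FormallySmooth.subsingleton_h1Cotangent
  have hloc : IsLocalizedModule p.primeCompl
      (Algebra.H1Cotangent.map A A P (Localization.AtPrime p)) :=
    Algebra.H1Cotangent.isLocalizedModule A (Localization.AtPrime p) p.primeCompl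
  obtain ⟨c, hc⟩ := IsLocalizedModule.exists_of_eq (S := p.primeCompl)
    (f := Algebra.H1Cotangent.map A A P (Localization.AtPrime p)) (x₁ := x) (x₂ := 0)
    (Subsingleton.elim _ _)
  refine ⟨c.1, c.2, ?_⟩
  rw [smul_zero] at hc
  have h2 : (c : P) • x = 0 := hc
  have h3 := congrArg (fun z => (G.equivH1Cotangent.symm z).1) h2
  simpa using h3

end Groth.Agent.Lib.Helper16.H1LCI
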