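import Mathlib
import Groth.Agent.Lib.Helper16.HNF7

/-!
# Hironaka normal flatness: conversions for the local hypothesis (helper16)
-/

set_option autoImplicit false
set_option linter.unusedSectionVars false
set_option linter.unusedVariables false
set_option linter.style.haveILetI false
universe u v

open Pointwise RingTheory.Sequence

namespace Groth.Agent.Lib.Helper16.HNF

section conv

variable {A : Type u} [CommRing A] [IsNoetherianRing A]

theorem le_of_mem_ass (Q P : Ideal A) (hP : P ∈ associatedPrimes A (A ⧸ Q)) : Q ≤ P := by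
  obtain ⟨-, x, hx⟩ := isAssociatedPrime_iff.mp hP
  intro q hq
  rw [hx, Submodule.mem_colon_singleton, Submodule.mem_bot]
  obtain ⟨a, rfl⟩ := Ideal.Quotient.mk_surjective x
  rw [Algebra.smul_def, Ideal.Quotient.algebraMap_eq, ← map_mul, Ideal.Quotient.eq_zero_iff_mem]
  exact Ideal.mul_mem_right _ _ hq

theorem map_mem_ass (R Q P : Ideal A) (hRQ : R ≤ Q) (hP : P ∈ associatedPrimes A (A ⧸ Q)) :
    P.map (Ideal.Quotient.mk R) ∈
      associatedPrimes (A ⧸ R) ((A ⧸ R) ⧸ Q.map (Ideal.Quotient.mk R)) := by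
  have hQP := le_of_mem_ass Q P hP
  obtain ⟨hprime, x, hx⟩ := isAssociatedPrime_iff.mp hP
  obtain ⟨a, rfl⟩ := Ideal.Quotient.mk_surjective x
  have hRP : R ≤ P := hRQ.trans hQP
  have hp : (P.map (Ideal.Quotient.mk R)).IsPrime :=
    Ideal.map_isPrime_of_surjective Ideal.Quotient.mk_surjective (by rw [Ideal.mk_ker]; exact hRP)
  rw [AssociatedPrimes.mem_iff, isAssociatedPrime_iff]
  refine ⟨hp, Ideal.Quotient.mk _ (Ideal.Quotient.mk R a), ?_⟩
  ext b'
  obtain ⟨b, rfl⟩ := Ideal.Quotient.mk_surjective b'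
  rw [Ideal.mem_quotient_iff_mem hRP, hx, Submodule.mem_colon_singleton, Submodule.mem_bot,
    Submodule.mem_colon_singleton, Submodule.mem_bot]
  rw [Algebra.smul_def, Ideal.Quotient.algebraMap_eq, ← map_mul, Ideal.Quotient.eq_zero_iff_mem]
  have h1 : (Ideal.Quotient.mk R) b •
      (Ideal.Quotient.mk (Ideal.map (Ideal.Quotient.mk R) Q)) ((Ideal.Quotient.mk R) a) =
      Ideal.Quotient.mk (Ideal.map (Ideal.Quotient.mk R) Q) (Ideal.Quotient.mk R (b * a)) := by
    rw [map_mul, map_mul]
    rfl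
  rw [h1, Ideal.Quotient.eq_zero_iff_mem, Ideal.mem_quotient_iff_mem hRQ]

theorem algebraMapSubmonoid_primeCompl (R P : Ideal A) [P.IsPrime] (hRP : R ≤ P)
    [(P.map (Ideal.Quotient.mk R)).IsPrime] :
    Algebra.algebraMapSubmonoid (A ⧸ R) P.primeCompl =
      (P.map (Ideal.Quotient.mk R)).primeCompl := by
  ext b'
  obtain ⟨b, rfl⟩ := Ideal.Quotient.mk_surjective b'
  rw [Ideal.mem_primeCompl_iff, Ideal.mem_quotient_iff_mem hRP]
  constructor
  · rintro ⟨c, hc, hcb⟩
    have hcb' : Ideal.Quotient.mk R c = Ideal.Quotient.mk R b := hcb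
    intro hb
    apply hc
    have h1 : c - b ∈ R := Ideal.Quotient.eq.mp hcb'
    have : c = (c - b) + b := by ring
    rw [this]
    exact P.add_mem (hRP h1) hb
  · intro hb
    exact ⟨b, hb, rfl⟩

/-- conversion of the local flatness hypothesis -/
theorem flat_Gn_localizedModule (R P : Ideal A) [P.IsPrime] (hRP : R ≤ P)
    [(P.map (Ideal.Quotient.mk R)).IsPrime]
    (M : Type u) [AddCommGroup M] [Module A M] (k : ℕ)
    (h : Module.Flat (Localization.AtPrime (P.map (Ideal.Quotient.mk R)))
      (LocalizedModule (P.map (Ideal.Quotient.mk R)).primeCompl (Gn R M k))) :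
    Module.Flat (A ⧸ R) (Gn R (LocalizedModule P.primeCompl M) k) := by
  have hsurj : Function.Surjective (algebraMap A (A ⧸ R)) := Ideal.Quotient.mk_surjective
  let lam' : Gn R M k →ₗ[A ⧸ R] Gn R (LocalizedModule P.primeCompl M) k :=
    (lam P.primeCompl R M k).extendScalarsOfSurjective hsurj
  haveI : IsLocalizedModule P.primeCompl (lam'.restrictScalars A) :=
    isLocalizedModule_lam P.primeCompl R M k
  have hloc : IsLocalizedModule (Algebra.algebraMapSubmonoid (A ⧸ R) P.primeCompl) lam' :=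
    IsLocalizedModule.of_restrictScalars P.primeCompl lam'
  rw [algebraMapSubmonoid_primeCompl R P hRP] at hloc
  let e : LocalizedModule (P.map (Ideal.Quotient.mk R)).primeCompl (Gn R M k) ≃ₗ[A ⧸ R]
      Gn R (LocalizedModule P.primeCompl M) k :=
    IsLocalizedModule.iso (P.map (Ideal.Quotient.mk R)).primeCompl lam'
  have h1 : Module.Flat (A ⧸ R)
      (LocalizedModule (P.map (Ideal.Quotient.mk R)).primeCompl (Gn R M k)) :=
    Module.Flat.trans (A ⧸ R) (Localization.AtPrime (P.map (Ideal.Quotient.mk R))) _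
  exact Module.Flat.of_linearEquiv e.symm

end conv

end Groth.Agent.Lib.Helper16.HNF
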