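import Mathlib
import Groth.Agent.Lib.Helper16.LocCohBasic
import Groth.Prelude.Def_DualLC

/-!
# Element-level description of local cohomology with supports in a specialization-stable set (helper16)
-/

set_option autoImplicit false

universe u

open CategoryTheory Opposite Limits

namespace Groth.Agent.Lib.Helper16.HT

open Groth.Agent.Lib.Helper16.ExtBridge

variable {A : Type u} [CommRing A] (T : Set (PrimeSpectrum A)) (i : ℕ)

theorem idealsIn_hom_ext {J J' : Dual2.IdealsIn T} (f g : J ⟶ J') : f = g := by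
  apply InducedCategory.hom_ext
  exact Subsingleton.elim _ _

/-- morphisms of `IdealsIn T` from inequalities -/
def homOfLE' {J J' : Dual2.IdealsIn T} (h : J.obj ≤ J'.obj) : J ⟶ J' :=
  ObjectProperty.homMk (homOfLE h)

theorem le_of_hom' {J J' : Dual2.IdealsIn T} (f : J ⟶ J') : J.obj ≤ J'.obj := leOfHom f.hom

/-- the infimum of two members of `IdealsIn T` -/
def inf' (J J' : Dual2.IdealsIn T) : Dual2.IdealsIn T :=
  ⟨J.obj ⊓ J'.obj, by
    show PrimeSpectrum.zeroLocus ((J.obj ⊓ J'.obj : Ideal A) : Set A) ⊆ T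
    rw [PrimeSpectrum.zeroLocus_inf]
    exact Set.union_subset J.property J'.property⟩

/-- the top ideal as a member -/
def top' : Dual2.IdealsIn T :=
  ⟨⊤, by
    show PrimeSpectrum.zeroLocus ((⊤ : Ideal A) : Set A) ⊆ T
    rw [Submodule.top_coe, PrimeSpectrum.zeroLocus_univ]
    exact Set.empty_subset _⟩

instance : IsFiltered (Dual2.IdealsIn T)ᵒᵖ where
  cocone_objs X Y := ⟨op (inf' T X.unop Y.unop),
    (homOfLE' T (J := inf' T X.unop Y.unop) (J' := X.unop) inf_le_left).op,
    (homOfLE' T (J := inf' T X.unop Y.unop) (J' := Y.unop) inf_le_right).op, trivial⟩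
  cocone_maps X Y f g := ⟨Y, 𝟙 Y, by
    have : f = g := by
      apply Quiver.Hom.unop_inj
      exact idealsIn_hom_ext T _ _
    rw [this]⟩
  nonempty := ⟨op (top' T)⟩

/-- The diagram defining `HT`. -/
noncomputable abbrev D : (Dual2.IdealsIn T)ᵒᵖ ⥤ ModuleCat.{u} A ⥤ ModuleCat.{u} A :=
  localCohomology.diagram.{u, u} (Dual2.idealsInDiagram T) i

variable (M : ModuleCat.{u} A)

/-- the evaluated diagram -/
noncomputable abbrev DM : (Dual2.IdealsIn T)ᵒᵖ ⥤ ModuleCat.{u} A :=
  D T i ⋙ (evaluation _ _).obj M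

/-- the evaluated colimit cocone -/
noncomputable def coconeM : Cocone (DM T i M) :=
  ((evaluation _ _).obj M).mapCocone (colimit.cocone (D T i))

/-- the evaluated colimit cocone is colimit -/
noncomputable def isColimitCoconeM : IsColimit (coconeM T i M) :=
  isColimitOfPreserves ((evaluation _ _).obj M) (colimit.isColimit (D T i))

/-- `A ⧸ J` as an object of `ModuleCat A`. -/
noncomputable abbrev Q (J : Ideal A) : ModuleCat.{u} A := ModuleCat.of A (A ⧸ J)

/-- The projection `A/J' ⟶ A/J` for `J' ≤ J`. -/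
noncomputable def quotMap {J' J : Ideal A} (h : J' ≤ J) : Q J' ⟶ Q J :=
  ModuleCat.ofHom (Submodule.mapQ J' J LinearMap.id (by simpa using h))

theorem quotMap_apply {J' J : Ideal A} (h : J' ≤ J) (r : A) :
    (quotMap h).hom (Ideal.Quotient.mk J' r) = Ideal.Quotient.mk J r := rfl

theorem ringModIdeals_map {J' J : Dual2.IdealsIn T} (f : J' ⟶ J) :
    (localCohomology.ringModIdeals (Dual2.idealsInDiagram T)).map f = quotMap (le_of_hom' T f) := rfl

theorem quotMap_comp {J₁ J₂ J₃ : Ideal A} (h₁ : J₁ ≤ J₂) (h₂ : J₂ ≤ J₃) :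
    quotMap h₁ ≫ quotMap h₂ = quotMap (h₁.trans h₂) := by
  apply ModuleCat.hom_ext
  apply LinearMap.ext
  intro x
  obtain ⟨r, rfl⟩ := Ideal.Quotient.mk_surjective x
  rfl

theorem quotMap_refl (J : Ideal A) : quotMap (le_refl J) = 𝟙 (Q J) := by
  apply ModuleCat.hom_ext
  apply LinearMap.ext
  intro x
  obtain ⟨r, rfl⟩ := Ideal.Quotient.mk_surjective x
  rfl

/-- The `J`-th term of the direct system: the (new) `Ext^i(A/J, M)`. -/
abbrev E (J : Ideal A) : Type u := Abelian.Ext.{u} (Q J) M i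

/-- Transition maps of the direct system. -/
noncomputable def trans {J' J : Ideal A} (h : J' ≤ J) : E i M J →ₗ[A] E i M J' where
  toFun e := (Abelian.Ext.mk₀ (quotMap h)).comp e (zero_add i)
  map_add' := by intro a b; simp
  map_smul' := by intro r a; simp

theorem trans_apply {J' J : Ideal A} (h : J' ≤ J) (e : E i M J) :
    trans i M h e = (Abelian.Ext.mk₀ (quotMap h)).comp e (zero_add i) := rfl

theorem trans_trans {J₁ J₂ J₃ : Ideal A} (h₁ : J₁ ≤ J₂) (h₂ : J₂ ≤ J₃) (e : E i M J₃) :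
    trans i M h₁ (trans i M h₂ e) = trans i M (h₁.trans h₂) e := by
  rw [trans_apply, trans_apply, trans_apply, Abelian.Ext.mk₀_comp_mk₀_assoc, quotMap_comp]

theorem trans_refl (J : Ideal A) (e : E i M J) : trans i M (le_refl J) e = e := by
  rw [trans_apply, quotMap_refl, Abelian.Ext.mk₀_id_comp]

variable {M} in
theorem trans_comp {N : ModuleCat.{u} A} {j n : ℕ} (hij : i + j = n) {J' J : Ideal A} (h : J' ≤ J)
    (e : E i M J) (β : Abelian.Ext.{u} M N j) :
    (trans i M h e).comp β hij = trans n N h (e.comp β hij) := by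
  rw [trans_apply, trans_apply]
  exact Abelian.Ext.comp_assoc _ _ _ (zero_add i) hij (by omega)

/-- The type of `HT`. -/
noncomputable abbrev H : ModuleCat.{u} A :=
  (localCohomology.ofDiagram.{u, u} (Dual2.idealsInDiagram T) i).obj M

/-- The canonical map from the `J`-th term to `HT`. -/
noncomputable def ι (J : Dual2.IdealsIn T) : E i M J.obj →ₗ[A] H T i M :=
  ((coconeM T i M).ι.app (op J)).hom ∘ₗ (oldToNew (Q J.obj) M i).symm.toLinearMap

theorem ι_old {J : Dual2.IdealsIn T}
    (e' : ((_root_.Ext A (ModuleCat.{u} A) i).obj (op (Q J.obj))).obj M) :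
    ι T i M J (oldToNew (Q J.obj) M i e') = ((coconeM T i M).ι.app (op J)).hom e' := by
  simp only [ι, LinearMap.comp_apply]
  erw [LinearEquiv.symm_apply_apply]
  rfl

theorem trans_old {J' J : Dual2.IdealsIn T} (f : J' ⟶ J)
    (e' : ((_root_.Ext A (ModuleCat.{u} A) i).obj (op (Q J.obj))).obj M) :
    trans i M (le_of_hom' T f) (oldToNew (Q J.obj) M i e') =
      oldToNew (Q J'.obj) M i (((DM T i M).map f.op).hom e') :=
  (oldToNew_naturality_X M i (quotMap (le_of_hom' T f)) e').symm

theorem ι_trans {J' J : Dual2.IdealsIn T} (h : J'.obj ≤ J.obj) (e : E i M J.obj) :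
    ι T i M J' (trans i M h e) = ι T i M J e := by
  obtain ⟨e', rfl⟩ := (oldToNew (Q J.obj) M i).surjective e
  have h1 := trans_old T i M (homOfLE' T h) e'
  rw [h1, ι_old, ι_old]
  have hc := (coconeM T i M).w (homOfLE' T h).op
  have hc' := LinearMap.congr_fun (congrArg ModuleCat.Hom.hom hc) e'
  rw [ModuleCat.hom_comp, LinearMap.comp_apply] at hc'
  exact hc'

theorem ι_jointly_surjective (x : H T i M) :
    ∃ (J : Dual2.IdealsIn T) (e : E i M J.obj), ι T i M J e = x := by
  obtain ⟨j, y, hy⟩ := Concrete.isColimit_exists_rep (DM T i M) (isColimitCoconeM T i M) x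
  refine ⟨j.unop, oldToNew (Q j.unop.obj) M i y, ?_⟩
  rw [ι_old]
  exact hy

theorem ι_eq_zero_iff {J : Dual2.IdealsIn T} (e : E i M J.obj) :
    ι T i M J e = 0 ↔ ∃ (J' : Dual2.IdealsIn T) (h : J'.obj ≤ J.obj), trans i M h e = 0 := by
  constructor
  · intro h0
    obtain ⟨e', rfl⟩ := (oldToNew (Q J.obj) M i).surjective e
    rw [ι_old] at h0
    have h1 : ((coconeM T i M).ι.app (op J)).hom e' =
        ((coconeM T i M).ι.app (op J)).hom 0 := by rw [h0]; exact (map_zero _).symm
    obtain ⟨j, f, g, hfg⟩ := (Concrete.isColimit_rep_eq_iff_exists (DM T i M)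
      (isColimitCoconeM T i M) (i := op J) (j := op J) e' 0).mp h1
    refine ⟨j.unop, le_of_hom' T f.unop, ?_⟩
    have h2 := trans_old T i M f.unop e'
    rw [h2]
    have : ((DM T i M).map f).hom e' = 0 := by
      have := hfg
      simp only [map_zero] at this
      exact this
    have h3 : ((DM T i M).map f.unop.op).hom e' = 0 := this
    rw [h3]
    exact map_zero (oldToNew (Q (unop j).obj) M i)
  · rintro ⟨J', h, hl⟩
    rw [← ι_trans T i M h e, hl, map_zero]

/-- Two representatives can be brought to a common stage. -/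
theorem ι_eq_ι_iff {J₁ J₂ : Dual2.IdealsIn T} (e : E i M J₁.obj) (e' : E i M J₂.obj) :
    ι T i M J₁ e = ι T i M J₂ e' ↔
      ∃ (J : Dual2.IdealsIn T) (h₁ : J.obj ≤ J₁.obj) (h₂ : J.obj ≤ J₂.obj),
        trans i M h₁ e = trans i M h₂ e' := by
  constructor
  · intro h
    let J₀ := inf' T J₁ J₂
    have h₁ : J₀.obj ≤ J₁.obj := inf_le_left
    have h₂ : J₀.obj ≤ J₂.obj := inf_le_right
    have h0 : ι T i M J₀ (trans i M h₁ e - trans i M h₂ e') = 0 := by
      rw [map_sub, ι_trans, ι_trans, h, sub_self]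
    obtain ⟨J, hJ, hz⟩ := (ι_eq_zero_iff T i M _).mp h0
    refine ⟨J, hJ.trans h₁, hJ.trans h₂, ?_⟩
    rw [map_sub, sub_eq_zero, trans_trans, trans_trans] at hz
    exact hz
  · rintro ⟨J, h₁, h₂, h⟩
    rw [← ι_trans T i M h₁ e, ← ι_trans T i M h₂ e', h]

variable {M} in
theorem ι_naturality {N : ModuleCat.{u} A} (f : M ⟶ N) {J : Dual2.IdealsIn T} (e : E i M J.obj) :
    ((localCohomology.ofDiagram.{u, u} (Dual2.idealsInDiagram T) i).map f).hom (ι T i M J e) =
      ι T i N J (e.comp (Abelian.Ext.mk₀ f) (add_zero i)) := by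
  obtain ⟨e', rfl⟩ := (oldToNew (Q J.obj) M i).surjective e
  rw [← oldToNew_naturality_Y (Q J.obj) i f e', ι_old, ι_old]
  have hn := (colimit.ι (D T i) (op J)).naturality f
  have hn' := LinearMap.congr_fun (congrArg ModuleCat.Hom.hom hn) e'
  rw [ModuleCat.hom_comp, ModuleCat.hom_comp, LinearMap.comp_apply, LinearMap.comp_apply] at hn'
  exact hn'.symm

end Groth.Agent.Lib.Helper16.HT
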