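import Mathlib
import Groth.Agent.Lib.Helper16.HT1
import Groth.Agent.Lib.Helper16.LocCohLES

/-!
# Long exact sequence and scalar action for local cohomology with supports in a specialization-stable set (helper16)
-/

set_option autoImplicit false

universe u

open CategoryTheory Opposite Limits

namespace Groth.Agent.Lib.Helper16.HT

open Groth.Agent.Lib.Helper16.LC (postcompLin)

variable {A : Type u} [CommRing A] (T : Set (PrimeSpectrum A))

/-- The map induced on `HT` by a morphism of modules. -/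
noncomputable abbrev Hmap (p : ℕ) {M N : ModuleCat.{u} A} (f : M ⟶ N) :
    H T p M →ₗ[A] H T p N :=
  ((localCohomology.ofDiagram.{u, u} (Dual2.idealsInDiagram T) p).map f).hom

section delta

variable {M N : ModuleCat.{u} A} {j : ℕ} (β : Abelian.Ext.{u} M N j) (i n : ℕ) (h : i + j = n)

theorem compCocone_nat {J' J : Dual2.IdealsIn T} (f : J' ⟶ J)
    (e' : ((_root_.Ext A (ModuleCat.{u} A) i).obj (op (Q J.obj))).obj M) :
    ι T n N J' ((ExtBridge.oldToNew (Q J'.obj) M i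
      (((DM T i M).map f.op).hom e')).comp β h) =
    ι T n N J ((ExtBridge.oldToNew (Q J.obj) M i e').comp β h) := by
  rw [← trans_old, trans_comp, ι_trans]

/-- The cocone inducing the map `H^i_T(M) ⟶ H^n_T(N)` given by an `Ext^j(M,N)`-class. -/
noncomputable def compCocone : Cocone (DM T i M) where
  pt := H T n N
  ι :=
    { app := fun k => ModuleCat.ofHom ((ι T n N k.unop) ∘ₗ (postcompLin (Q k.unop.obj) β h) ∘ₗ
        (ExtBridge.oldToNew (Q k.unop.obj) M i).toLinearMap)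
      naturality := by
        intro k l f
        apply ModuleCat.hom_ext
        apply LinearMap.ext
        intro e'
        exact compCocone_nat T β i n h f.unop e' }

/-- The map `H^i_T(M) → H^n_T(N)` induced by a class in `Ext^j(M,N)` (`i + j = n`). -/
noncomputable def Hcomp : H T i M →ₗ[A] H T n N :=
  ((isColimitCoconeM T i M).desc (compCocone T β i n h)).hom

theorem Hcomp_ι {J : Dual2.IdealsIn T} (e : E i M J.obj) :
    Hcomp T β i n h (ι T i M J e) = ι T n N J (e.comp β h) := by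
  obtain ⟨e', rfl⟩ := (ExtBridge.oldToNew (Q J.obj) M i).surjective e
  rw [ι_old]
  have := (isColimitCoconeM T i M).fac (compCocone T β i n h) (op J)
  have h2 := LinearMap.congr_fun (congrArg ModuleCat.Hom.hom this) e'
  rw [ModuleCat.hom_comp, LinearMap.comp_apply] at h2
  exact h2

end delta

theorem Hmap_ι (p : ℕ) {M N : ModuleCat.{u} A} (f : M ⟶ N) {J : Dual2.IdealsIn T}
    (e : E p M J.obj) :
    Hmap T p f (ι T p M J e) = ι T p N J (e.comp (Abelian.Ext.mk₀ f) (add_zero p)) :=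
  ι_naturality T p f e

section les

variable {S : ShortComplex (ModuleCat.{u} A)} (hS : S.ShortExact) (p : ℕ)

/-- The connecting homomorphism. -/
noncomputable def δ : H T p S.X₃ →ₗ[A] H T (p + 1) S.X₁ :=
  Hcomp T hS.extClass p (p + 1) rfl

theorem δ_ι {J : Dual2.IdealsIn T} (e : E p S.X₃ J.obj) :
    δ T hS p (ι T p S.X₃ J e) = ι T (p + 1) S.X₁ J (e.comp hS.extClass rfl) :=
  Hcomp_ι T hS.extClass p (p + 1) rfl e

include hS in
theorem Hmap_exact₂ (x : H T p S.X₂) (hx : Hmap T p S.g x = 0) :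
    ∃ y : H T p S.X₁, Hmap T p S.f y = x := by
  obtain ⟨J, e, rfl⟩ := ι_jointly_surjective T p S.X₂ x
  rw [Hmap_ι] at hx
  obtain ⟨J', hJ, hl⟩ := (ι_eq_zero_iff T p S.X₃ _).mp hx
  rw [← trans_comp] at hl
  obtain ⟨e₁, he₁⟩ := Abelian.Ext.covariant_sequence_exact₂ (Q J'.obj) hS (trans p S.X₂ hJ e) hl
  refine ⟨ι T p S.X₁ J' e₁, ?_⟩
  rw [Hmap_ι, he₁, ι_trans]

theorem Hmap_exact₃ (z : H T p S.X₃) (hz : δ T hS p z = 0) :
    ∃ y : H T p S.X₂, Hmap T p S.g y = z := by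
  obtain ⟨J, e, rfl⟩ := ι_jointly_surjective T p S.X₃ z
  rw [δ_ι] at hz
  obtain ⟨J', hJ, hl⟩ := (ι_eq_zero_iff T (p + 1) S.X₁ _).mp hz
  rw [← trans_comp] at hl
  obtain ⟨e₂, he₂⟩ := Abelian.Ext.covariant_sequence_exact₃ (Q J'.obj) hS (trans p S.X₃ hJ e) rfl hl
  refine ⟨ι T p S.X₂ J' e₂, ?_⟩
  rw [Hmap_ι, he₂, ι_trans]

theorem Hmap_exact₁ (x : H T (p + 1) S.X₁) (hx : Hmap T (p + 1) S.f x = 0) :
    ∃ z : H T p S.X₃, δ T hS p z = x := by
  obtain ⟨J, e, rfl⟩ := ι_jointly_surjective T (p + 1) S.X₁ x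
  rw [Hmap_ι] at hx
  obtain ⟨J', hJ, hl⟩ := (ι_eq_zero_iff T (p + 1) S.X₂ _).mp hx
  rw [← trans_comp] at hl
  obtain ⟨e₃, he₃⟩ := Abelian.Ext.covariant_sequence_exact₁ (Q J'.obj) hS
    (trans (p + 1) S.X₁ hJ e) hl rfl
  refine ⟨ι T p S.X₃ J' e₃, ?_⟩
  rw [δ_ι, he₃, ι_trans]

include hS in
theorem Hmap_zero_injective : Function.Injective (Hmap T 0 S.f) := by
  rw [injective_iff_map_eq_zero]
  intro x hx
  obtain ⟨J, e, rfl⟩ := ι_jointly_surjective T 0 S.X₁ x
  rw [Hmap_ι] at hx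
  obtain ⟨J', hJ, hl⟩ := (ι_eq_zero_iff T 0 S.X₂ _).mp hx
  rw [← trans_comp] at hl
  have : Mono S.f := hS.mono_f
  have h0 := Abelian.Ext.postcomp_mk₀_injective_of_mono (Q J'.obj) S.f
  have : trans 0 S.X₁ hJ e = 0 := h0 (by simpa using hl)
  rw [← ι_trans T 0 S.X₁ hJ e, this, map_zero]

theorem Hmap_g_f (y : H T p S.X₁) : Hmap T p S.g (Hmap T p S.f y) = 0 := by
  obtain ⟨J, e, rfl⟩ := ι_jointly_surjective T p S.X₁ y
  rw [Hmap_ι, Hmap_ι, Abelian.Ext.comp_assoc_of_third_deg_zero, Abelian.Ext.mk₀_comp_mk₀, S.zero,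
    Abelian.Ext.mk₀_zero, Abelian.Ext.comp_zero, map_zero]

theorem δ_Hmap_g (y : H T p S.X₂) : δ T hS p (Hmap T p S.g y) = 0 := by
  obtain ⟨J, e, rfl⟩ := ι_jointly_surjective T p S.X₂ y
  rw [Hmap_ι, δ_ι, Abelian.Ext.comp_assoc_of_second_deg_zero, hS.comp_extClass,
    Abelian.Ext.comp_zero, map_zero]

theorem Hmap_f_δ (z : H T p S.X₃) : Hmap T (p + 1) S.f (δ T hS p z) = 0 := by
  obtain ⟨J, e, rfl⟩ := ι_jointly_surjective T p S.X₃ z
  rw [δ_ι, Hmap_ι, Abelian.Ext.comp_assoc_of_third_deg_zero, hS.extClass_comp,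
    Abelian.Ext.comp_zero, map_zero]

end les

section smul

variable (p : ℕ) (M : ModuleCat.{u} A)

/-- `J` kills `Ext^p(A/J, M)`. -/
theorem smul_E_eq_zero {J : Ideal A} {a : A} (ha : a ∈ J) (e : E p M J) : a • e = 0 := by
  have h1 : a • e = (Abelian.Ext.mk₀ (a • 𝟙 (Q J))).comp e (zero_add p) := by
    rw [Abelian.Ext.mk₀_smul, Abelian.Ext.smul_comp, Abelian.Ext.mk₀_id_comp]
  have h2 : a • 𝟙 (Q J) = 0 := by
    apply ModuleCat.hom_ext
    apply LinearMap.ext
    intro x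
    obtain ⟨r, rfl⟩ := Ideal.Quotient.mk_surjective x
    show a • (Ideal.Quotient.mk J r) = 0
    rw [← Ideal.Quotient.mk_eq_mk, ← Submodule.Quotient.mk_smul, Ideal.Quotient.mk_eq_mk,
      Ideal.Quotient.eq_zero_iff_mem]
    exact J.mul_mem_right r ha
  rw [h1, h2, Abelian.Ext.mk₀_zero, Abelian.Ext.zero_comp]

/-- every element of `H^p_T(M)` is killed by some member of `IdealsIn T`. -/
theorem exists_ideal_kills (x : H T p M) :
    ∃ J : Dual2.IdealsIn T, ∀ a ∈ J.obj, a • x = 0 := by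
  obtain ⟨J, e, rfl⟩ := ι_jointly_surjective T p M x
  refine ⟨J, fun a ha => ?_⟩
  rw [← map_smul, smul_E_eq_zero p M ha, map_zero]

/-- the map induced by multiplication by `a` is multiplication by `a`. -/
theorem Hmap_smul_id (a : A) (x : H T p M) : Hmap T p (a • 𝟙 M) x = a • x := by
  obtain ⟨J, e, rfl⟩ := ι_jointly_surjective T p M x
  rw [Hmap_ι, Abelian.Ext.mk₀_smul, Abelian.Ext.comp_smul, Abelian.Ext.comp_mk₀_id, map_smul]

end smul

end Groth.Agent.Lib.Helper16.HT
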