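import Mathlib
import Groth.Agent.Lib.Helper16.HT2

/-!
# Degree zero local cohomology with supports in a specialization-stable set (helper16)
-/

set_option autoImplicit false

universe u

open CategoryTheory Opposite Limits

namespace Groth.Agent.Lib.Helper16.HT

variable {A : Type u} [CommRing A] (T : Set (PrimeSpectrum A)) (M : ModuleCat.{u} A)

/-- Evaluate a degree-zero Ext class `A/J → M` at `1`. -/
noncomputable def ev1 (J : Ideal A) : E 0 M J →ₗ[A] M where
  toFun e := (Abelian.Ext.linearEquiv₀ (R := A) e).hom (1 : A ⧸ J)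
  map_add' := by intro a b; simp
  map_smul' := by intro r a; simp

theorem ev1_apply (J : Ideal A) (e : E 0 M J) :
    ev1 M J e = (Abelian.Ext.linearEquiv₀ (R := A) e).hom (1 : A ⧸ J) := rfl

theorem ev1_mk₀ (J : Ideal A) (φ : Q J ⟶ M) :
    ev1 M J (Abelian.Ext.mk₀ φ) = φ.hom (1 : A ⧸ J) := by
  rw [ev1_apply]
  have : Abelian.Ext.linearEquiv₀ (R := A) (Abelian.Ext.mk₀ φ) = φ := by
    apply (Abelian.Ext.linearEquiv₀ (R := A)).symm.injective
    simp
  rw [this]

theorem ev1_trans {J' J : Ideal A} (h : J' ≤ J) (e : E 0 M J) :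
    ev1 M J' (trans 0 M h e) = ev1 M J e := by
  obtain ⟨φ, rfl⟩ : ∃ φ : Q J ⟶ M, Abelian.Ext.mk₀ φ = e :=
    ⟨Abelian.Ext.linearEquiv₀ (R := A) e, Abelian.Ext.mk₀_linearEquiv₀_apply e⟩
  rw [trans_apply, Abelian.Ext.mk₀_comp_mk₀, ev1_mk₀, ev1_mk₀]
  rfl

section desc

variable (i : ℕ) {X : ModuleCat.{u} A} (φ : ∀ J : Dual2.IdealsIn T, E i M J.obj →ₗ[A] X)
  (hφ : ∀ (J' J : Dual2.IdealsIn T) (h : J'.obj ≤ J.obj) (e : E i M J.obj),
    φ J' (trans i M h e) = φ J e)

/-- A compatible family of linear maps out of the `Ext` groups induces a cocone. -/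
noncomputable def descCocone : Cocone (DM T i M) where
  pt := X
  ι :=
    { app := fun k => ModuleCat.ofHom ((φ k.unop) ∘ₗ
        (ExtBridge.oldToNew (Q k.unop.obj) M i).toLinearMap)
      naturality := by
        intro k l f
        apply ModuleCat.hom_ext
        apply LinearMap.ext
        intro e'
        change φ l.unop (ExtBridge.oldToNew (Q l.unop.obj) M i
          (((DM T i M).map f.unop.op).hom e')) =
          φ k.unop (ExtBridge.oldToNew (Q k.unop.obj) M i e')
        rw [← trans_old, hφ] }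

/-- The linear map out of `HT` induced by a compatible family. -/
noncomputable def descH : H T i M →ₗ[A] X :=
  ((isColimitCoconeM T i M).desc (descCocone T M i φ hφ)).hom

theorem descH_ι {J : Dual2.IdealsIn T} (e : E i M J.obj) :
    descH T M i φ hφ (ι T i M J e) = φ J e := by
  obtain ⟨e', rfl⟩ := (ExtBridge.oldToNew (Q J.obj) M i).surjective e
  rw [ι_old]
  have := (isColimitCoconeM T i M).fac (descCocone T M i φ hφ) (op J)
  have h2 := LinearMap.congr_fun (congrArg ModuleCat.Hom.hom this) e'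
  rw [ModuleCat.hom_comp, LinearMap.comp_apply] at h2
  exact h2

end desc

/-- The canonical map `H^0_T(M) → M`. -/
noncomputable def H0toM : H T 0 M →ₗ[A] M :=
  descH T M 0 (fun J => ev1 M J.obj) (fun _ _ h e => ev1_trans M h e)

theorem H0toM_ι {J : Dual2.IdealsIn T} (e : E 0 M J.obj) :
    H0toM T M (ι T 0 M J e) = ev1 M J.obj e :=
  descH_ι T M 0 _ _ e

theorem smul_ev1_eq_zero {J : Ideal A} (e : E 0 M J) {a : A} (ha : a ∈ J) :
    a • ev1 M J e = 0 := by
  rw [← map_smul, smul_E_eq_zero 0 M ha, map_zero]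

theorem ev1_injective (J : Ideal A) : Function.Injective (ev1 M J) := by
  rw [injective_iff_map_eq_zero]
  intro e he
  obtain ⟨φ, rfl⟩ : ∃ φ : Q J ⟶ M, Abelian.Ext.mk₀ φ = e :=
    ⟨Abelian.Ext.linearEquiv₀ (R := A) e, Abelian.Ext.mk₀_linearEquiv₀_apply e⟩
  rw [ev1_mk₀] at he
  have : φ = 0 := by
    apply ModuleCat.hom_ext
    apply LinearMap.ext
    intro y
    obtain ⟨r, rfl⟩ := Ideal.Quotient.mk_surjective y
    have h1 : (Ideal.Quotient.mk J) r = r • (1 : A ⧸ J) := by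
      rw [Algebra.smul_def, mul_one]; rfl
    rw [h1, map_smul, he, smul_zero]
    rfl
  rw [this, Abelian.Ext.mk₀_zero]

theorem H0toM_injective : Function.Injective (H0toM T M) := by
  rw [injective_iff_map_eq_zero]
  intro x hx
  obtain ⟨J, e, rfl⟩ := ι_jointly_surjective T 0 M x
  rw [H0toM_ι] at hx
  have : e = 0 := ev1_injective M J.obj (by rw [hx, map_zero])
  rw [this, map_zero]

theorem exists_ev1_eq {m : M} {J : Ideal A} (hm : ∀ a ∈ J, a • m = 0) :
    ∃ e : E 0 M J, ev1 M J e = m := by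
  let φ : (A ⧸ J) →ₗ[A] M := Submodule.liftQ J (LinearMap.toSpanSingleton A M m) (by
    intro a ha
    rw [LinearMap.mem_ker, LinearMap.toSpanSingleton_apply]
    exact hm a ha)
  refine ⟨Abelian.Ext.mk₀ (ModuleCat.ofHom φ), ?_⟩
  rw [ev1_mk₀]
  change φ (Submodule.Quotient.mk (1 : A)) = m
  rw [Submodule.liftQ_apply, LinearMap.toSpanSingleton_apply, one_smul]

/-- the image of `H0toM` consists of the elements killed by a member of `IdealsIn T`. -/
theorem mem_range_H0toM_iff (m : M) :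
    m ∈ LinearMap.range (H0toM T M) ↔ ∃ J : Dual2.IdealsIn T, ∀ a ∈ J.obj, a • m = 0 := by
  constructor
  · rintro ⟨x, rfl⟩
    obtain ⟨J, e, rfl⟩ := ι_jointly_surjective T 0 M x
    refine ⟨J, fun a ha => ?_⟩
    rw [H0toM_ι]
    exact smul_ev1_eq_zero M e ha
  · rintro ⟨J, hJ⟩
    obtain ⟨e, he⟩ := exists_ev1_eq M hJ
    exact ⟨ι T 0 M J e, by rw [H0toM_ι, he]⟩

variable {M} in
theorem H0toM_naturality {N : ModuleCat.{u} A} (f : M ⟶ N) (x : H T 0 M) :
    H0toM T N (Hmap T 0 f x) = f.hom (H0toM T M x) := by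
  obtain ⟨J, e, rfl⟩ := ι_jointly_surjective T 0 M x
  rw [Hmap_ι, H0toM_ι, H0toM_ι]
  obtain ⟨φ, rfl⟩ : ∃ φ : Q J.obj ⟶ M, Abelian.Ext.mk₀ φ = e :=
    ⟨Abelian.Ext.linearEquiv₀ (R := A) e, Abelian.Ext.mk₀_linearEquiv₀_apply e⟩
  rw [Abelian.Ext.mk₀_comp_mk₀, ev1_mk₀, ev1_mk₀]
  rfl

/-- `H^0_T(M)` is finite for `M` Noetherian. -/
theorem finite_H_zero [IsNoetherianRing A] [Module.Finite A M] : Module.Finite A (H T 0 M) :=
  Module.Finite.of_injective (H0toM T M) (H0toM_injective T M)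

/-- `H^0_T(M) = 0` when no nonzero element is killed by a member of `IdealsIn T`. -/
theorem subsingleton_H_zero
    (h : ∀ m : M, (∃ J : Dual2.IdealsIn T, ∀ a ∈ J.obj, a • m = 0) → m = 0) :
    Subsingleton (H T 0 M) := by
  refine ⟨fun x y => ?_⟩
  apply H0toM_injective T M
  rw [h _ ((mem_range_H0toM_iff T M _).mp ⟨x, rfl⟩), h _ ((mem_range_H0toM_iff T M _).mp ⟨y, rfl⟩)]

end Groth.Agent.Lib.Helper16.HT
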