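import Mathlib
import Groth.Agent.Lib.Helper16.HT3
import Groth.Agent.Lib.Helper16.LocCohTorsion

/-!
# Vanishing of higher local cohomology with supports in T for modules killed by an ideal with zero locus in T (helper16)
-/

set_option autoImplicit false

universe u

open CategoryTheory Opposite Limits

namespace Groth.Agent.Lib.Helper16.HT

variable {A : Type u} [CommRing A] (T : Set (PrimeSpectrum A))

/-- powers of a member of `IdealsIn T` are members -/
def pow' (J : Dual2.IdealsIn T) {l : ℕ} (hl : l ≠ 0) : Dual2.IdealsIn T :=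
  ⟨J.obj ^ l, by
    show PrimeSpectrum.zeroLocus ((J.obj ^ l : Ideal A) : Set A) ⊆ T
    rw [PrimeSpectrum.zeroLocus_pow _ hl]
    exact J.property⟩

/-- products of members of `IdealsIn T` are members -/
def mul' (J J' : Dual2.IdealsIn T) : Dual2.IdealsIn T :=
  ⟨J.obj * J'.obj, by
    show PrimeSpectrum.zeroLocus ((J.obj * J'.obj : Ideal A) : Set A) ⊆ T
    rw [PrimeSpectrum.zeroLocus_mul]
    exact Set.union_subset J.property J'.property⟩

theorem LC_quotMap_eq (I : Ideal A) {k l : ℕ} (h : k ≤ l) :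
    LC.quotMap I h = quotMap (Ideal.pow_le_pow_right h : I ^ l ≤ I ^ k) := by
  apply ModuleCat.hom_ext
  apply LinearMap.ext
  intro x
  obtain ⟨r, rfl⟩ := Ideal.Quotient.mk_surjective x
  rfl

theorem LC_trans_eq (I : Ideal A) (i : ℕ) (M : ModuleCat.{u} A) {k l : ℕ} (h : k ≤ l)
    (e : LC.E I i M k) :
    LC.trans I i M h e = trans i M (Ideal.pow_le_pow_right h : I ^ l ≤ I ^ k) e := by
  rw [LC.trans_apply, trans_apply, LC_quotMap_eq]

variable [IsNoetherianRing A]

/-- Higher local cohomology with supports in `T` of a module killed by a member of `IdealsIn T`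
vanishes. -/
theorem subsingleton_H_succ_of_kills (p : ℕ) (N : ModuleCat.{u} A)
    (J0 : Dual2.IdealsIn T) (hN : ∀ a ∈ J0.obj, ∀ n : N, a • n = 0) :
    Subsingleton (H T (p + 1) N) := by
  refine ⟨fun x y => ?_⟩
  suffices hz : ∀ x : H T (p + 1) N, x = 0 by rw [hz x, hz y]
  intro x
  obtain ⟨J, e, rfl⟩ := ι_jointly_surjective T (p + 1) N x
  let I : Dual2.IdealsIn T := inf' T J J0
  have hIJ : I.obj ≤ J.obj := inf_le_left
  have hI0 : I.obj ≤ J0.obj := inf_le_right
  have htors : ∀ m : N, m ∈ DRing.torsionSub I.obj N := fun m =>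
    ⟨1, fun a ha => hN a (hI0 (by simpa using ha)) m⟩
  have hsub : Subsingleton (LocCoh.H I.obj (p + 1) N) :=
    LC.subsingleton_H_succ_of_torsion I.obj p N htors
  have h1 : I.obj ^ 1 ≤ J.obj := by rw [pow_one]; exact hIJ
  let e1 : LC.E I.obj (p + 1) N 1 := trans (p + 1) N h1 e
  have h0 : LC.ι I.obj (p + 1) N 1 e1 = 0 := Subsingleton.elim (α := LocCoh.H I.obj (p + 1) N) _ _
  obtain ⟨l, hl, hz⟩ := (LC.ι_eq_zero_iff I.obj (p + 1) N e1).mp h0
  rw [LC_trans_eq, trans_trans] at hz
  have hl0 : l ≠ 0 := by omega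
  have hle : (pow' T I hl0).obj ≤ J.obj := (Ideal.pow_le_pow_right hl).trans h1
  rw [← ι_trans T (p + 1) N (J' := pow' T I hl0) hle e]
  have : trans (p + 1) N hle e = 0 := hz
  rw [this, map_zero]

end Groth.Agent.Lib.Helper16.HT
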