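import Mathlib
import Groth.Agent.Lib.Helper16.HT4

/-!
# Annihilators of local cohomology with supports in T; regular elements in the torsion-free case (helper16)
-/

set_option autoImplicit false

universe u

open CategoryTheory Opposite Limits

namespace Groth.Agent.Lib.Helper16.HT

open Groth.Agent.Lib.Helper16.Depth (shortExact_of_linearMaps)

variable {A : Type u} [CommRing A] (T : Set (PrimeSpectrum A))

/-- if `a • b • x = 0` for `a ∈ J₁`, `b ∈ J₂` then `J₁ * J₂` kills `x`. -/
theorem kills_mul {X : Type u} [AddCommGroup X] [Module A X] (J₁ J₂ : Ideal A) (x : X)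
    (h : ∀ a ∈ J₁, ∀ b ∈ J₂, a • b • x = 0) : ∀ c ∈ J₁ * J₂, c • x = 0 := by
  have hle : J₁ * J₂ ≤ LinearMap.ker (LinearMap.toSpanSingleton A X x) := by
    rw [Ideal.mul_le]
    intro a ha b hb
    rw [LinearMap.mem_ker, LinearMap.toSpanSingleton_apply, mul_smul]
    exact h a ha b hb
  intro c hc
  have := hle hc
  rwa [LinearMap.mem_ker, LinearMap.toSpanSingleton_apply] at this

/-- A finite module all of whose elements are killed by members of `IdealsIn T` is killed by a
single member. -/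
theorem exists_common_kill (X : Type u) [AddCommGroup X] [Module A X] [Module.Finite A X]
    (h : ∀ x : X, ∃ J : Dual2.IdealsIn T, ∀ a ∈ J.obj, a • x = 0) :
    ∃ J : Dual2.IdealsIn T, ∀ a ∈ J.obj, ∀ x : X, a • x = 0 := by
  classical
  obtain ⟨s, hs⟩ := (Module.finite_def (R := A) (M := X)).mp inferInstance
  have key : ∀ s : Finset X, ∃ J : Dual2.IdealsIn T, ∀ x ∈ s, ∀ a ∈ J.obj, a • x = 0 := by
    intro s
    induction s using Finset.induction_on with
    | empty => exact ⟨top' T, fun x hx => by simp at hx⟩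
    | insert y s _ ih =>
      obtain ⟨J₁, h₁⟩ := ih
      obtain ⟨J₂, h₂⟩ := h y
      refine ⟨inf' T J₁ J₂, fun x hx a ha => ?_⟩
      rcases Finset.mem_insert.mp hx with rfl | hx
      · exact h₂ a ha.2
      · exact h₁ x hx a ha.1
  obtain ⟨J, hJ⟩ := key s
  refine ⟨J, fun a ha x => ?_⟩
  have hx : x ∈ Submodule.span A (s : Set X) := by rw [hs]; trivial
  induction hx using Submodule.span_induction with
  | mem y hy => exact hJ y hy a ha
  | zero => exact smul_zero a
  | add y z _ _ hy hz => rw [smul_add, hy, hz, add_zero]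
  | smul r y _ hy => rw [smul_comm, hy, smul_zero]

/-- The submodule of elements killed by a member of `IdealsIn T`. -/
def torsT (M : Type u) [AddCommGroup M] [Module A M] : Submodule A M where
  carrier := {m | ∃ J : Dual2.IdealsIn T, ∀ a ∈ J.obj, a • m = 0}
  zero_mem' := ⟨top' T, fun a _ => smul_zero a⟩
  add_mem' := by
    rintro m m' ⟨J, hJ⟩ ⟨J', hJ'⟩
    refine ⟨inf' T J J', fun a ha => ?_⟩
    rw [smul_add, hJ a ha.1, hJ' a ha.2, add_zero]
  smul_mem' := by
    rintro r m ⟨J, hJ⟩
    refine ⟨J, fun a ha => ?_⟩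
    rw [smul_comm, hJ a ha, smul_zero]

theorem mem_torsT {M : Type u} [AddCommGroup M] [Module A M] (m : M) :
    m ∈ torsT T M ↔ ∃ J : Dual2.IdealsIn T, ∀ a ∈ J.obj, a • m = 0 := Iff.rfl

section

variable [IsNoetherianRing A]

/-- (1) ⇒ (2), one degree. -/
theorem exists_kill_of_finite (p : ℕ) (M : ModuleCat.{u} A) [Module.Finite A (H T p M)] :
    ∃ J : Dual2.IdealsIn T, ∀ a ∈ J.obj, ∀ x : H T p M, a • x = 0 :=
  exists_common_kill T (H T p M) (exists_ideal_kills T p M)

/-- (1) ⇒ (2). -/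
theorem exists_kill_of_finite_le (n : ℕ) (M : ModuleCat.{u} A)
    (h : ∀ i ≤ n, Module.Finite A (H T i M)) :
    ∃ J : Dual2.IdealsIn T, ∀ i ≤ n, ∀ a ∈ J.obj, ∀ x : H T i M, a • x = 0 := by
  induction n with
  | zero =>
    haveI := h 0 le_rfl
    obtain ⟨J, hJ⟩ := exists_kill_of_finite T 0 M
    refine ⟨J, fun i hi => ?_⟩
    obtain rfl : i = 0 := by omega
    exact hJ
  | succ n ih =>
    obtain ⟨J₁, h₁⟩ := ih (fun i hi => h i (by omega))
    haveI := h (n + 1) le_rfl
    obtain ⟨J₂, h₂⟩ := exists_kill_of_finite T (n + 1) M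
    refine ⟨inf' T J₁ J₂, fun i hi a ha x => ?_⟩
    rcases Nat.lt_or_ge i (n + 1) with hlt | hge
    · exact h₁ i (by omega) a ha.1 x
    · obtain rfl : i = n + 1 := by omega
      exact h₂ a ha.2 x

/-- The torsion-free case of (2) ⇒ (1): existence of a regular element. -/
theorem exists_regular_mem (hT : StableUnderSpecialization T)
    (M : Type u) [AddCommGroup M] [Module A M] [Module.Finite A M]
    (htf : torsT T M = ⊥) (J : Dual2.IdealsIn T) :
    ∃ f ∈ J.obj, IsSMulRegular M f := by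
  classical
  have hfin := associatedPrimes.finite A M
  have hnot : ∀ p ∈ associatedPrimes A M, ¬ J.obj ≤ p := by
    intro p hp hJp
    obtain ⟨hpprime, m, hm⟩ := (isAssociatedPrime_iff).mp hp
    have hm0 : m ≠ 0 := by
      rintro rfl
      apply hpprime.ne_top
      rw [hm, eq_top_iff]
      intro r _
      rw [Submodule.mem_colon_singleton]
      simp
    have hpT : (⟨p, hpprime⟩ : PrimeSpectrum A) ∈ T := J.property (by
      rw [PrimeSpectrum.mem_zeroLocus]
      exact hJp)
    let P : Dual2.IdealsIn T := ⟨p, by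
      show PrimeSpectrum.zeroLocus (p : Set A) ⊆ T
      intro q hq
      rw [PrimeSpectrum.mem_zeroLocus] at hq
      have hle : (⟨p, hpprime⟩ : PrimeSpectrum A) ≤ q := hq
      exact hT ((PrimeSpectrum.le_iff_specializes _ _).mp hle) hpT⟩
    have hmem : m ∈ torsT T M := ⟨P, fun a ha => by
      have : a ∈ p := ha
      rw [hm, Submodule.mem_colon_singleton] at this
      simpa using this⟩
    rw [htf, Submodule.mem_bot] at hmem
    exact hm0 hmem
  have hprime : ∀ i ∈ hfin.toFinset, i ≠ (⊥ : Ideal A) → i ≠ (⊥ : Ideal A) → i.IsPrime := by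
    intro i hi _ _
    rw [Set.Finite.mem_toFinset] at hi
    exact hi.isPrime
  have hns : ¬ ((J.obj : Set A) ⊆ ⋃ i ∈ (hfin.toFinset : Set (Ideal A)), (i : Set A)) := by
    intro hsub
    obtain ⟨i, hi, hIi⟩ := (Ideal.subset_union_prime
      (f := fun i : Ideal A => i) ⊥ ⊥ hprime).mp hsub
    rw [Set.Finite.mem_toFinset] at hi
    exact hnot i hi hIi
  obtain ⟨r, hrI, hr⟩ := Set.not_subset.mp hns
  refine ⟨r, hrI, ?_⟩
  by_contra hreg
  have hmem : r ∈ ({ r : A | IsSMulRegular M r }ᶜ : Set A) := hreg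
  rw [← biUnion_associatedPrimes_eq_compl_regular A M] at hmem
  obtain ⟨P', hP', hrP'⟩ := Set.mem_iUnion₂.mp hmem
  apply hr
  exact Set.mem_biUnion (Finset.mem_coe.mpr (hfin.mem_toFinset.mpr hP')) hrP'

end

end Groth.Agent.Lib.Helper16.HT
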