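import Mathlib
import Groth.Agent.Lib.Helper16.HT5

/-!
# Faltings-type finiteness criterion for local cohomology with supports in a specialization-stable subset (helper16)
-/

set_option autoImplicit false

universe u

open CategoryTheory Opposite Limits

namespace Groth.Agent.Lib.Helper16.HT

open Groth.Agent.Lib.Helper16.Depth (shortExact_of_linearMaps)

variable {A : Type u} [CommRing A] [IsNoetherianRing A] (T : Set (PrimeSpectrum A))

/-- Step B: the torsion-free case of the induction step. -/
theorem finite_of_kills_of_torsionFree (hT : StableUnderSpecialization T) (n : ℕ)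
    (ih : ∀ (M : Type u) [AddCommGroup M] [Module A M] [Module.Finite A M] (J : Dual2.IdealsIn T),
      (∀ i ≤ n, ∀ a ∈ J.obj, ∀ x : H T i (ModuleCat.of A M), a • x = 0) →
      ∀ i ≤ n, Module.Finite A (H T i (ModuleCat.of A M)))
    (M : Type u) [AddCommGroup M] [Module A M] [Module.Finite A M] (htf : torsT T M = ⊥)
    (J : Dual2.IdealsIn T)
    (hJ : ∀ i ≤ n + 1, ∀ a ∈ J.obj, ∀ x : H T i (ModuleCat.of A M), a • x = 0) :
    ∀ i ≤ n + 1, Module.Finite A (H T i (ModuleCat.of A M)) := by
  obtain ⟨f, hfJ, hreg⟩ := exists_regular_mem T hT M htf J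
  let μ : M →ₗ[A] M := f • LinearMap.id
  have hμinj : Function.Injective μ := hreg
  have hS := shortExact_of_linearMaps μ (LinearMap.range μ).mkQ hμinj
    (Submodule.mkQ_surjective _) (LinearMap.exact_map_mkQ_range μ)
  have hSf : ∀ (p : ℕ) (x : H T p (ModuleCat.of A M)),
      Hmap T p (ModuleCat.ofHom μ) x = f • x := by
    intro p x
    have : ModuleCat.ofHom μ = f • 𝟙 (ModuleCat.of A M) := by
      apply ModuleCat.hom_ext
      apply LinearMap.ext
      intro m
      rfl
    rw [this]
    exact Hmap_smul_id T p _ f x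
  have hkill : ∀ i ≤ n, ∀ c ∈ (mul' T J J).obj,
      ∀ x : H T i (ModuleCat.of A (M ⧸ LinearMap.range μ)), c • x = 0 := by
    intro i hi c hc x
    refine kills_mul J.obj J.obj x ?_ c hc
    intro a ha b hb
    have h1 : δ T hS i (b • x) = 0 := by
      rw [map_smul]
      exact hJ (i + 1) (by omega) b hb _
    obtain ⟨y, hy⟩ := Hmap_exact₃ T hS i (b • x) h1
    rw [← hy, ← map_smul, hJ i (by omega) a ha y, map_zero]
  have hfin := ih (M ⧸ LinearMap.range μ) (mul' T J J) hkill
  intro i hi
  rcases Nat.eq_zero_or_pos i with rfl | hpos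
  · exact finite_H_zero T _
  · obtain ⟨k, rfl⟩ : ∃ k, i = k + 1 := ⟨i - 1, by omega⟩
    haveI := hfin k (by omega)
    refine Module.Finite.of_surjective (δ T hS k) ?_
    intro x
    exact Hmap_exact₁ T hS k x (by
      have := hSf (k + 1) x
      rw [hJ (k + 1) hi f hfJ x] at this
      exact this)

/-- (2) ⇒ (1). -/
theorem finite_of_kills (hT : StableUnderSpecialization T) (n : ℕ) :
    ∀ (M : Type u) [AddCommGroup M] [Module A M] [Module.Finite A M] (J : Dual2.IdealsIn T),
      (∀ i ≤ n, ∀ a ∈ J.obj, ∀ x : H T i (ModuleCat.of A M), a • x = 0) →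
      ∀ i ≤ n, Module.Finite A (H T i (ModuleCat.of A M)) := by
  induction n with
  | zero =>
    intro M _ _ _ J hJ i hi
    obtain rfl : i = 0 := by omega
    exact finite_H_zero T _
  | succ n ih =>
    intro M _ _ _ J hJ
    let N : Submodule A M := torsT T M
    have hS := shortExact_of_linearMaps N.subtype N.mkQ N.injective_subtype
      (Submodule.mkQ_surjective N) (LinearMap.exact_subtype_mkQ N)
    obtain ⟨J0, hJ0⟩ := exists_common_kill T N (fun x => by
      obtain ⟨J1, h1⟩ := x.2
      exact ⟨J1, fun a ha => Subtype.ext (h1 a ha)⟩)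
    have hNvan : ∀ p, Subsingleton (H T (p + 1) (ModuleCat.of A N)) := fun p =>
      subsingleton_H_succ_of_kills T p (ModuleCat.of A N) J0 hJ0
    have htf : torsT T (M ⧸ N) = ⊥ := by
      rw [eq_bot_iff]
      rintro m' ⟨J1, h1⟩
      obtain ⟨m, rfl⟩ := Submodule.Quotient.mk_surjective N m'
      rw [Submodule.mem_bot, Submodule.Quotient.mk_eq_zero]
      refine ⟨mul' T J0 J1, kills_mul J0.obj J1.obj m ?_⟩
      intro b hb a ha
      have hmem : a • m ∈ N := by
        rw [← Submodule.Quotient.mk_eq_zero, Submodule.Quotient.mk_smul]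
        exact h1 a ha
      exact congrArg Subtype.val (hJ0 b hb ⟨a • m, hmem⟩)
    have hinj : ∀ p, Function.Injective (Hmap T (p + 1) (ModuleCat.ofHom N.mkQ)) := by
      intro p
      rw [injective_iff_map_eq_zero]
      intro x hx
      obtain ⟨y, rfl⟩ := Hmap_exact₂ T hS (p + 1) x hx
      haveI := hNvan p
      rw [Subsingleton.elim y 0, map_zero]
    have hsurj : ∀ p, Function.Surjective (Hmap T p (ModuleCat.ofHom N.mkQ)) := by
      intro p z
      haveI := hNvan p
      exact Hmap_exact₃ T hS p z (Subsingleton.elim _ _)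
    have hJ' : ∀ i ≤ n + 1, ∀ a ∈ J.obj, ∀ x : H T i (ModuleCat.of A (M ⧸ N)), a • x = 0 := by
      intro i hi a ha x
      obtain ⟨y, rfl⟩ := hsurj i x
      rw [← map_smul, hJ i hi a ha y, map_zero]
    have hfin' := finite_of_kills_of_torsionFree T hT n ih (M ⧸ N) htf J hJ'
    intro i hi
    rcases Nat.eq_zero_or_pos i with rfl | hpos
    · exact finite_H_zero T _
    · obtain ⟨k, rfl⟩ : ∃ k, i = k + 1 := ⟨i - 1, by omega⟩
      haveI := hfin' (k + 1) hi
      exact Module.Finite.of_injective (Hmap T (k + 1) (ModuleCat.ofHom N.mkQ)) (hinj k)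

/-- Faltings-type criterion for supports in a specialization-stable subset. -/
theorem finite_iff_exists_kills (hT : StableUnderSpecialization T)
    (M : Type u) [AddCommGroup M] [Module A M] [Module.Finite A M] (n : ℕ) :
    (∀ i : ℕ, i ≤ n → Module.Finite A (Dual2.HT T i M)) ↔
      ∃ J : Ideal A, PrimeSpectrum.zeroLocus (J : Set A) ⊆ T ∧
        ∀ i : ℕ, i ≤ n → ∀ a ∈ J, ∀ x : Dual2.HT T i M, a • x = 0 := by
  constructor
  · intro h
    obtain ⟨J, hJ⟩ := exists_kill_of_finite_le T n (ModuleCat.of A M) h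
    exact ⟨J.obj, J.property, hJ⟩
  · rintro ⟨J, hJT, hJ⟩
    exact finite_of_kills T hT n M ⟨J, hJT⟩ hJ

end Groth.Agent.Lib.Helper16.HT
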