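import Mathlib

/-!
# Hermite normal form over k[[t]]: flags and triangular families
-/

set_option autoImplicit false

namespace Groth.Agent.Lib.Helper16.Her

open PowerSeries Matrix

variable {k : Type*} [Field k] {r : ℕ}

/-- the flag: vectors whose first `n` coordinates vanish -/
def Fl (k : Type*) [Field k] (r : ℕ) (n : ℕ) : Submodule (PowerSeries k) (Fin r → PowerSeries k) where
  carrier := {w | ∀ i : Fin r, i.val < n → w i = 0}
  add_mem' := by
    intro a b ha hb i hi
    simp [ha i hi, hb i hi]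
  zero_mem' := by intro i _; rfl
  smul_mem' := by
    intro c a ha i hi
    simp [ha i hi]

theorem mem_Fl (n : ℕ) (w : Fin r → PowerSeries k) : w ∈ Fl k r n ↔ ∀ i : Fin r, i.val < n → w i = 0 :=
  Iff.rfl

theorem Fl_mono {n m : ℕ} (h : n ≤ m) : Fl k r m ≤ Fl k r n := by
  intro w hw i hi
  exact hw i (lt_of_lt_of_le hi h)

theorem eq_zero_of_mem_Fl (w : Fin r → PowerSeries k) (hw : w ∈ Fl k r r) : w = 0 := by
  funext i
  exact hw i i.isLt

/-- `IsTri H e`: `H` is upper triangular with diagonal `X ^ e i`. -/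
def IsTri (H : Matrix (Fin r) (Fin r) (PowerSeries k)) (e : Fin r → ℕ) : Prop :=
  (∀ i, H i i = X ^ e i) ∧ ∀ i j, j < i → H i j = 0

/-- `IsRed H e`: entries above the diagonal in column `j` have no terms of degree `≥ e j`. -/
def IsRed (H : Matrix (Fin r) (Fin r) (PowerSeries k)) (e : Fin r → ℕ) : Prop :=
  ∀ i j, i < j → ∀ n, e j ≤ n → coeff n (H i j) = 0

theorem row_mem_Fl {H : Matrix (Fin r) (Fin r) (PowerSeries k)} {e : Fin r → ℕ} (hH : IsTri H e)
    (i : Fin r) : H i ∈ Fl k r i.val := by
  intro j hj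
  exact hH.2 i j hj

/-- Lemma D: coefficients of a combination of rows of a triangular matrix lying in the flag. -/
theorem tri_coeff {H : Matrix (Fin r) (Fin r) (PowerSeries k)} {e : Fin r → ℕ} (hH : IsTri H e)
    (c : Fin r → PowerSeries k) (n : ℕ) (hw : c ᵥ* H ∈ Fl k r n) :
    (∀ j : Fin r, j.val < n → c j = 0) ∧ ∀ i : Fin r, i.val = n → (c ᵥ* H) i = c i * X ^ e i := by
  have key : ∀ m : ℕ, m ≤ n → ∀ j : Fin r, j.val < m → c j = 0 := by
    intro m
    induction m with
    | zero => intro _ j hj; omega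
    | succ m ih =>
      intro hm j hj
      rcases Nat.lt_succ_iff_lt_or_eq.mp hj with h | h
      · exact ih (by omega) j h
      · have h0 : (c ᵥ* H) j = 0 := hw j (by omega)
        have h1 : (c ᵥ* H) j = c j * X ^ e j := by
          rw [Matrix.vecMul, dotProduct]
          rw [Finset.sum_eq_single j]
          · simp only [hH.1 j]
          · intro b _ hb
            rcases lt_or_gt_of_ne hb with hlt | hgt
            · rw [ih (by omega) b (by rw [← h]; exact hlt), zero_mul]
            · show c b * H b j = 0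
              rw [hH.2 b j hgt, mul_zero]
          · intro hj; exact absurd (Finset.mem_univ j) hj
        rw [h1] at h0
        rcases mul_eq_zero.mp h0 with h2 | h2
        · exact h2
        · exact absurd h2 (pow_ne_zero _ X_ne_zero)
  refine ⟨key n le_rfl, ?_⟩
  intro i hi
  rw [Matrix.vecMul, dotProduct]
  rw [Finset.sum_eq_single i]
  · simp only [hH.1 i]
  · intro b _ hb
    rcases lt_or_gt_of_ne hb with hlt | hgt
    · rw [key n le_rfl b (by rw [← hi]; exact hlt), zero_mul]
    · show c b * H b i = 0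
      rw [hH.2 b i hgt, mul_zero]
  · intro hj; exact absurd (Finset.mem_univ i) hj

/-- Lemma B: a family `h j ∈ L ∩ Fl j` with the divisibility property generates `L`. -/
theorem gen_of_family (L : Submodule (PowerSeries k) (Fin r → PowerSeries k))
    (h : Fin r → (Fin r → PowerSeries k)) (e : Fin r → ℕ)
    (hL : ∀ j, h j ∈ L) (hF : ∀ j : Fin r, h j ∈ Fl k r j.val) (hd : ∀ j, h j j = X ^ e j)
    (hdiv : ∀ (j : Fin r) (w : Fin r → PowerSeries k), w ∈ L → w ∈ Fl k r j.val → X ^ e j ∣ w j)
    (w : Fin r → PowerSeries k) (hw : w ∈ L) :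
    ∃ c : Fin r → PowerSeries k, w = c ᵥ* (Matrix.of h) := by
  have key : ∀ m : ℕ, ∀ n : ℕ, n + m = r → ∀ w : Fin r → PowerSeries k, w ∈ L → w ∈ Fl k r n →
      ∃ c : Fin r → PowerSeries k, w = c ᵥ* (Matrix.of h) := by
    intro m
    induction m with
    | zero =>
      intro n hn w _ hwF
      have hnr : n = r := by omega
      have : w = 0 := eq_zero_of_mem_Fl w (Fl_mono (le_of_eq hnr.symm) hwF)
      exact ⟨0, by rw [this, Matrix.zero_vecMul]⟩
    | succ m ih =>
      intro n hn w hwL hwF
      have hnr : n < r := by omega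
      obtain ⟨a, ha⟩ := hdiv ⟨n, hnr⟩ w hwL hwF
      have hw' : w - a • h ⟨n, hnr⟩ ∈ Fl k r (n + 1) := by
        intro i hi
        rcases Nat.lt_succ_iff_lt_or_eq.mp hi with h1 | h1
        · simp [hwF i h1, hF ⟨n, hnr⟩ i h1]
        · have : i = ⟨n, hnr⟩ := Fin.ext h1
          subst this
          simp only [Pi.sub_apply, Pi.smul_apply, smul_eq_mul, hd, ha]
          ring
      obtain ⟨c, hc⟩ := ih (n + 1) (by omega) _ (L.sub_mem hwL (L.smul_mem a (hL _))) hw'
      refine ⟨c + Pi.single ⟨n, hnr⟩ a, ?_⟩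
      rw [Matrix.add_vecMul, ← hc, Matrix.single_vecMul]
      ext i
      simp
  exact key r 0 (by omega) w hw (by intro i hi; omega)

end Groth.Agent.Lib.Helper16.Her
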