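import Mathlib
import Groth.Agent.Lib.Helper16.Her1

/-!
# Hermite normal form over k[[t]]: existence
-/

set_option autoImplicit false

namespace Groth.Agent.Lib.Helper16.Her

open PowerSeries Matrix

variable {k : Type*} [Field k] {r : ℕ}

/-- Lemma A -/
theorem exists_pivot (M : Matrix (Fin r) (Fin r) (PowerSeries k)) (hM : M.det ≠ 0) (j : Fin r) :
    ∃ (e : ℕ) (h : Fin r → PowerSeries k), h ∈ LinearMap.range M.vecMulLinear ∧ h ∈ Fl k r j.val ∧
      h j = X ^ e ∧ ∀ w : Fin r → PowerSeries k, w ∈ LinearMap.range M.vecMulLinear →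
        w ∈ Fl k r j.val → X ^ e ∣ w j := by
  classical
  set L := LinearMap.range M.vecMulLinear with hL
  let I : Ideal (PowerSeries k) :=
    Submodule.map (LinearMap.proj (R := PowerSeries k) (φ := fun _ : Fin r => PowerSeries k) j)
      (L ⊓ Fl k r j.val)
  have hI : I ≠ ⊥ := by
    have h1 : M.det • (Pi.single j 1 : Fin r → PowerSeries k) ∈ L ⊓ Fl k r j.val := by
      constructor
      · refine ⟨(Pi.single j 1 : Fin r → PowerSeries k) ᵥ* M.adjugate, ?_⟩
        rw [Matrix.vecMulLinear_apply, Matrix.vecMul_vecMul, Matrix.adjugate_mul,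
          Matrix.vecMul_smul, Matrix.vecMul_one]
      · intro i hi
        have : i ≠ j := fun h => by rw [h] at hi; exact lt_irrefl _ hi
        simp [Pi.single_eq_of_ne this]
    have h2 : M.det ∈ I := by
      refine ⟨_, h1, ?_⟩
      simp
    intro hbot
    rw [hbot] at h2
    exact hM ((Submodule.mem_bot _).mp h2)
  obtain ⟨e, he⟩ := IsDiscreteValuationRing.ideal_eq_span_pow_irreducible hI
    (X_irreducible (R := k))
  have hXe : X ^ e ∈ I := by rw [he]; exact Ideal.mem_span_singleton_self _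
  obtain ⟨h, ⟨hhL, hhF⟩, hhj⟩ := hXe
  refine ⟨e, h, hhL, hhF, hhj, ?_⟩
  intro w hwL hwF
  have : w j ∈ I := ⟨w, ⟨hwL, hwF⟩, rfl⟩
  rw [he] at this
  exact Ideal.mem_span_singleton.mp this

/-- Lemma C -/
theorem exists_reduced_row (L : Submodule (PowerSeries k) (Fin r → PowerSeries k))
    (h : Fin r → (Fin r → PowerSeries k)) (e : Fin r → ℕ)
    (hL : ∀ j, h j ∈ L) (hF : ∀ j : Fin r, h j ∈ Fl k r j.val) (hd : ∀ j, h j j = X ^ e j)
    (i : Fin r) :
    ∃ w : Fin r → PowerSeries k, w ∈ L ∧ w ∈ Fl k r i.val ∧ w i = X ^ e i ∧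
      ∀ j : Fin r, i < j → ∀ n, e j ≤ n → coeff n (w j) = 0 := by
  have key : ∀ m : ℕ, ∃ w : Fin r → PowerSeries k, w ∈ L ∧ w ∈ Fl k r i.val ∧ w i = X ^ e i ∧
      ∀ j : Fin r, i < j → j.val < m → ∀ n, e j ≤ n → coeff n (w j) = 0 := by
    intro m
    induction m with
    | zero => exact ⟨h i, hL i, hF i, hd i, fun j _ hj => absurd hj (Nat.not_lt_zero _)⟩
    | succ m ih =>
      obtain ⟨w, hwL, hwF, hwi, hwr⟩ := ih
      by_cases hm : i.val < m ∧ m < r
      · obtain ⟨hm1, hm2⟩ := hm
        set j₀ : Fin r := ⟨m, hm2⟩ with hj₀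
        have hdvd : X ^ e j₀ ∣ w j₀ - ((trunc (e j₀) (w j₀) : Polynomial k) : PowerSeries k) := by
          rw [X_pow_dvd_iff]
          intro n hn
          rw [map_sub, Polynomial.coeff_coe, coeff_trunc, if_pos hn, sub_self]
        obtain ⟨q, hq⟩ := hdvd
        refine ⟨w - q • h j₀, L.sub_mem hwL (L.smul_mem q (hL j₀)),
          (Fl k r i.val).sub_mem hwF ((Fl k r i.val).smul_mem q (Fl_mono (le_of_lt hm1) (hF j₀))),
          ?_, ?_⟩
        · have : h j₀ i = 0 := hF j₀ i hm1
          simp [this, hwi]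
        · intro j hij hj n hn
          rcases Nat.lt_succ_iff_lt_or_eq.mp hj with h1 | h1
          · have : h j₀ j = 0 := hF j₀ j h1
            simp only [Pi.sub_apply, Pi.smul_apply, this, smul_zero, sub_zero]
            exact hwr j hij h1 n hn
          · have hjj : j = j₀ := Fin.ext h1
            subst hjj
            have e1 : (w - q • h j₀) j₀ = ((trunc (e j₀) (w j₀) : Polynomial k) : PowerSeries k) := by
              simp only [Pi.sub_apply, Pi.smul_apply, smul_eq_mul, hd]
              rw [mul_comm, ← hq]; ring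
            rw [e1, Polynomial.coeff_coe, coeff_trunc, if_neg (not_lt.mpr hn)]
      · refine ⟨w, hwL, hwF, hwi, ?_⟩
        intro j hij hj n hn
        rcases Nat.lt_succ_iff_lt_or_eq.mp hj with h1 | h1
        · exact hwr j hij h1 n hn
        · exfalso
          apply hm
          refine ⟨?_, ?_⟩
          · rw [← h1]; exact hij
          · rw [← h1]; exact j.isLt
  obtain ⟨w, h1, h2, h3, h4⟩ := key r
  exact ⟨w, h1, h2, h3, fun j hij => h4 j hij j.isLt⟩

theorem mul_eq_zero_of_det_ne_zero (M Y : Matrix (Fin r) (Fin r) (PowerSeries k)) (hM : M.det ≠ 0)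
    (h : Y * M = 0) : Y = 0 := by
  have h1 : Y * M * M.adjugate = 0 := by rw [h, Matrix.zero_mul]
  rw [Matrix.mul_assoc, Matrix.mul_adjugate, Matrix.mul_smul, Matrix.mul_one] at h1
  apply Matrix.ext
  intro i j
  have := congrFun (congrFun h1 i) j
  simp only [Matrix.smul_apply, smul_eq_mul, Matrix.zero_apply] at this
  rcases mul_eq_zero.mp this with h2 | h2
  · exact absurd h2 hM
  · exact h2

/-- existence of the Hermite form -/
theorem exists_hermite (M : Matrix (Fin r) (Fin r) (PowerSeries k)) (hM : M.det ≠ 0) :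
    ∃ (H N : Matrix (Fin r) (Fin r) (PowerSeries k)) (e : Fin r → ℕ),
      IsTri H e ∧ IsRed H e ∧ IsUnit N ∧ N * M = H := by
  classical
  set L := LinearMap.range M.vecMulLinear with hL
  choose e h hhL hhF hhd hdiv using exists_pivot M hM
  choose h' h'L h'F h'd h'red using exists_reduced_row L h e hhL hhF hhd
  choose n hn using h'L
  let H : Matrix (Fin r) (Fin r) (PowerSeries k) := Matrix.of h'
  let N : Matrix (Fin r) (Fin r) (PowerSeries k) := Matrix.of n
  have hNM : N * M = H := by
    apply Matrix.ext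
    intro i j
    have := congrFun (hn i) j
    rw [Matrix.vecMulLinear_apply] at this
    exact this
  have hHtri : IsTri H e := ⟨fun i => h'd i, fun i j hji => h'F i j hji⟩
  have hHred : IsRed H e := fun i j hij n hn' => h'red i j hij n hn'
  refine ⟨H, N, e, hHtri, hHred, ?_, hNM⟩
  -- rows of M in terms of H
  have hrow : ∀ i : Fin r, ∃ c : Fin r → PowerSeries k, M i = c ᵥ* H := by
    intro i
    apply gen_of_family L h' e (fun j => ⟨n j, hn j⟩) h'F h'd hdiv
    refine ⟨Pi.single i 1, ?_⟩
    rw [Matrix.vecMulLinear_apply, Matrix.single_vecMul]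
    ext j; simp
  choose c hc using hrow
  let N' : Matrix (Fin r) (Fin r) (PowerSeries k) := Matrix.of c
  have hN'H : N' * H = M := by
    apply Matrix.ext
    intro i j
    have := congrFun (hc i) j
    exact this.symm
  have h1 : (N' * N - 1) * M = 0 := by
    rw [Matrix.sub_mul, Matrix.mul_assoc, hNM, hN'H, Matrix.one_mul, sub_self]
  have h2 := mul_eq_zero_of_det_ne_zero M _ hM h1
  exact (Matrix.isUnit_iff_isUnit_det N).mpr (Matrix.isUnit_det_of_left_inverse (sub_eq_zero.mp h2))

end Groth.Agent.Lib.Helper16.Her
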