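import Mathlib
import Groth.Agent.Lib.Helper16.Her2

/-!
# Hermite normal form over k[[t]]: uniqueness, S14038
-/

set_option autoImplicit false

namespace Groth.Agent.Lib.Helper16.Her

open PowerSeries Matrix

variable {k : Type*} [Field k] {r : ℕ}

theorem exp_le (H₁ H₂ U : Matrix (Fin r) (Fin r) (PowerSeries k)) (e₁ e₂ : Fin r → ℕ)
    (ht₁ : IsTri H₁ e₁) (ht₂ : IsTri H₂ e₂) (hU : H₂ = U * H₁) (i : Fin r) : e₁ i ≤ e₂ i := by
  have hrow : H₂ i = U i ᵥ* H₁ := by rw [hU]; exact Matrix.mul_apply_eq_vecMul U H₁ i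
  have hF : U i ᵥ* H₁ ∈ Fl k r i.val := by rw [← hrow]; exact row_mem_Fl ht₂ i
  have h1 := (tri_coeff ht₁ (U i) i.val hF).2 i rfl
  rw [← hrow, ht₂.1 i] at h1
  by_contra hlt
  push Not at hlt
  have hdvd : (X : PowerSeries k) ^ e₁ i ∣ X ^ e₂ i := ⟨U i i, by rw [h1]; ring⟩
  have := (X_pow_dvd_iff.mp hdvd) (e₂ i) hlt
  rw [coeff_X_pow_self] at this
  exact one_ne_zero this

theorem row_eq (H₁ H₂ U : Matrix (Fin r) (Fin r) (PowerSeries k)) (e : Fin r → ℕ)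
    (ht₁ : IsTri H₁ e) (hr₁ : IsRed H₁ e) (ht₂ : IsTri H₂ e) (hr₂ : IsRed H₂ e)
    (hU : H₂ = U * H₁) (i : Fin r) : H₂ i = H₁ i := by
  have hrow : H₂ i = U i ᵥ* H₁ := by rw [hU]; exact Matrix.mul_apply_eq_vecMul U H₁ i
  set c : Fin r → PowerSeries k := U i - Pi.single i 1 with hc
  have hd : H₂ i - H₁ i = c ᵥ* H₁ := by
    rw [hc, Matrix.sub_vecMul, ← hrow, Matrix.single_vecMul]
    funext j; simp
  have key : ∀ m : ℕ, H₂ i - H₁ i ∈ Fl k r m := by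
    intro m
    induction m with
    | zero =>
      intro j hj
      exact absurd hj (Nat.not_lt_zero _)
    | succ m ih =>
      intro j hj
      rcases Nat.lt_succ_iff_lt_or_eq.mp hj with h1 | h1
      · exact ih j h1
      · rcases lt_trichotomy j i with hji | hji | hij
        · simp [ht₁.2 i j hji, ht₂.2 i j hji]
        · subst hji
          simp [ht₁.1, ht₂.1]
        · have hF : c ᵥ* H₁ ∈ Fl k r j.val := by rw [← hd, h1]; exact ih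
          have h2 := (tri_coeff ht₁ c j.val hF).2 j rfl
          rw [← hd] at h2
          have hdvd : (X : PowerSeries k) ^ e j ∣ (H₂ i - H₁ i) j := ⟨c j, by rw [h2]; ring⟩
          ext n
          rw [map_zero]
          rcases lt_or_ge n (e j) with hn | hn
          · exact (X_pow_dvd_iff.mp hdvd) n hn
          · rw [Pi.sub_apply, map_sub, hr₁ i j hij n hn, hr₂ i j hij n hn, sub_zero]
  have hz : H₂ i - H₁ i = 0 := by
    apply eq_zero_of_mem_Fl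
    exact key r
  exact sub_eq_zero.mp hz

theorem hermite_unique (M H₁ H₂ N₁ N₂ : Matrix (Fin r) (Fin r) (PowerSeries k)) (e₁ e₂ : Fin r → ℕ)
    (ht₁ : IsTri H₁ e₁) (hr₁ : IsRed H₁ e₁) (hu₁ : IsUnit N₁) (h₁ : N₁ * M = H₁)
    (ht₂ : IsTri H₂ e₂) (hr₂ : IsRed H₂ e₂) (hu₂ : IsUnit N₂) (h₂ : N₂ * M = H₂) : H₁ = H₂ := by
  obtain ⟨u₁, rfl⟩ := hu₁
  obtain ⟨u₂, rfl⟩ := hu₂
  obtain ⟨V₁, hV₁⟩ : ∃ V₁ : Matrix (Fin r) (Fin r) (PowerSeries k),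
      V₁ * (u₁ : Matrix (Fin r) (Fin r) (PowerSeries k)) = 1 :=
    ⟨((u₁⁻¹ : (Matrix (Fin r) (Fin r) (PowerSeries k))ˣ) : Matrix (Fin r) (Fin r) (PowerSeries k)),
      Units.inv_mul u₁⟩
  obtain ⟨V₂, hV₂⟩ : ∃ V₂ : Matrix (Fin r) (Fin r) (PowerSeries k),
      V₂ * (u₂ : Matrix (Fin r) (Fin r) (PowerSeries k)) = 1 :=
    ⟨((u₂⁻¹ : (Matrix (Fin r) (Fin r) (PowerSeries k))ˣ) : Matrix (Fin r) (Fin r) (PowerSeries k)),
      Units.inv_mul u₂⟩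
  have hU : H₂ = ((u₂ : Matrix (Fin r) (Fin r) (PowerSeries k)) * V₁) * H₁ := by
    rw [← h₁, ← h₂, Matrix.mul_assoc, ← Matrix.mul_assoc V₁, hV₁, Matrix.one_mul]
  have hU' : H₁ = ((u₁ : Matrix (Fin r) (Fin r) (PowerSeries k)) * V₂) * H₂ := by
    rw [← h₁, ← h₂, Matrix.mul_assoc, ← Matrix.mul_assoc V₂, hV₂, Matrix.one_mul]
  have he : e₁ = e₂ := by
    funext i
    exact le_antisymm (exp_le H₁ H₂ _ e₁ e₂ ht₁ ht₂ hU i) (exp_le H₂ H₁ _ e₂ e₁ ht₂ ht₁ hU' i)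
  subst he
  apply Matrix.ext
  intro i j
  exact (congrFun (row_eq H₁ H₂ _ e₁ ht₁ hr₁ ht₂ hr₂ hU i) j).symm

/-- the statement of S14038 -/
theorem S14038_main (M : Matrix (Fin r) (Fin r) (PowerSeries k)) (hM : M.det ≠ 0) :
    ∃! H : Matrix (Fin r) (Fin r) (PowerSeries k),
      (∃ e : Fin r → ℕ, (∀ i, H i i = PowerSeries.X ^ e i) ∧ (∀ i j, j < i → H i j = 0) ∧
        (∀ i j, i < j → ∀ n, e j ≤ n → PowerSeries.coeff n (H i j) = 0)) ∧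
      ∃ N : Matrix (Fin r) (Fin r) (PowerSeries k), IsUnit N ∧ N * M = H := by
  obtain ⟨H, N, e, ht, hr, hu, hNM⟩ := exists_hermite M hM
  refine ⟨H, ⟨⟨e, ht.1, ht.2, hr⟩, N, hu, hNM⟩, ?_⟩
  rintro H' ⟨⟨e', h1, h2, h3⟩, N', hu', hNM'⟩
  exact hermite_unique M H' H N' N e' e ⟨h1, h2⟩ h3 hu' hNM' ht hr hu hNM

end Groth.Agent.Lib.Helper16.Her
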