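import Mathlib
import Groth.Agent.Lib.Helper16.Her3

/-!
# column operations over k[[t^p]] on a Hermite form
-/

set_option autoImplicit false

namespace Groth.Agent.Lib.Helper16.Her

open PowerSeries Matrix

variable {k : Type*} [Field k]

/-- block matrix `[[1, s], [0, P']]` -/
noncomputable def consMat {r : ℕ} (s : Fin r → PowerSeries k) (P' : Matrix (Fin r) (Fin r) (PowerSeries k)) :
    Matrix (Fin (r + 1)) (Fin (r + 1)) (PowerSeries k) :=
  fun i j => Fin.cases (Fin.cases 1 s j) (fun i' => Fin.cases 0 (fun j' => P' i' j') j) i

@[simp] theorem consMat_zero_zero {r : ℕ} (s : Fin r → PowerSeries k) (P') :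
    consMat s P' 0 0 = 1 := rfl
@[simp] theorem consMat_zero_succ {r : ℕ} (s : Fin r → PowerSeries k) (P') (j : Fin r) :
    consMat s P' 0 j.succ = s j := rfl
@[simp] theorem consMat_succ_zero {r : ℕ} (s : Fin r → PowerSeries k) (P') (i : Fin r) :
    consMat s P' i.succ 0 = 0 := rfl
@[simp] theorem consMat_succ_succ {r : ℕ} (s : Fin r → PowerSeries k) (P') (i j : Fin r) :
    consMat s P' i.succ j.succ = P' i j := rfl

theorem Pcol (p : ℕ) : ∀ (r : ℕ) (e : Fin r → ℕ) (H : Matrix (Fin r) (Fin r) (PowerSeries k)),
    IsTri H e → IsRed H e →
    ∃ P : Matrix (Fin r) (Fin r) (PowerSeries k),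
      ((∀ i, P i i = 1) ∧ (∀ i j, j < i → P i j = 0)) ∧
      (∀ i j n, ¬ p ∣ n → coeff n (P i j) = 0) ∧
      (∀ i j, i < j → ∀ n, e j ≤ n + e i → coeff n (P i j) = 0) ∧
      IsTri (H * P) e ∧
      (∀ i j, i < j → ∀ n, (e j ≤ n ∨ (e i ≤ n ∧ n % p = e i % p)) →
        coeff n ((H * P) i j) = 0) := by
  intro r
  induction r with
  | zero =>
    intro e H _ _
    exact ⟨1, ⟨fun i => i.elim0, fun i => i.elim0⟩, fun i => i.elim0, fun i => i.elim0,
      ⟨fun i => i.elim0, fun i => i.elim0⟩, fun i => i.elim0⟩
  | succ r ih =>
    intro e H ht hr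
    set H' : Matrix (Fin r) (Fin r) (PowerSeries k) := fun i j => H i.succ j.succ with hH'
    set e' : Fin r → ℕ := fun i => e i.succ with he'
    have ht' : IsTri H' e' :=
      ⟨fun i => ht.1 i.succ, fun i j hji => ht.2 i.succ j.succ (Fin.succ_lt_succ_iff.mpr hji)⟩
    have hr' : IsRed H' e' :=
      fun i j hij n hn => hr i.succ j.succ (Fin.succ_lt_succ_iff.mpr hij) n hn
    obtain ⟨P', ⟨hPd, hPl⟩, hPp, hPc, hPt, hPe⟩ := ih e' H' ht' hr'
    -- row 0 contributions
    set g : Fin r → PowerSeries k := fun j' => ∑ i' : Fin r, H 0 i'.succ * P' i' j' with hg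
    have hG : ∀ (j' : Fin r) (N : ℕ), e j'.succ ≤ N → coeff N (g j') = 0 := by
      intro j' N hN
      rw [hg]
      simp only [map_sum]
      apply Finset.sum_eq_zero
      intro i' _
      rcases lt_trichotomy i' j' with h | h | h
      · rw [coeff_mul]
        apply Finset.sum_eq_zero
        rintro ⟨a, b⟩ hab
        have hab' : a + b = N := Finset.HasAntidiagonal.mem_antidiagonal.mp hab
        simp only
        by_cases ha : e i'.succ ≤ a
        · rw [hr 0 i'.succ (Fin.succ_pos i') a ha, zero_mul]
        · rw [hPc i' j' h b (by simp only [he']; omega), mul_zero]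
      · subst h
        rw [hPd i', mul_one]
        exact hr 0 i'.succ (Fin.succ_pos i') N hN
      · rw [hPl i' j' h, mul_zero, map_zero]
    set s : Fin r → PowerSeries k := fun j' =>
      PowerSeries.mk fun m => if p ∣ m then - coeff (m + e 0) (g j') else 0 with hs
    have hscoeff : ∀ j' m, coeff m (s j') = if p ∣ m then - coeff (m + e 0) (g j') else 0 := by
      intro j' m; rw [hs]; simp only [coeff_mk]
    -- entries of the product
    have h00 : (H * consMat s P') 0 0 = X ^ e 0 := by
      rw [Matrix.mul_apply, Fin.sum_univ_succ]
      simp [ht.1 0]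
    have h0s : ∀ j', (H * consMat s P') 0 (Fin.succ j') = X ^ e 0 * s j' + g j' := by
      intro j'
      rw [Matrix.mul_apply, Fin.sum_univ_succ]
      simp [ht.1 0, hg]
    have hs0 : ∀ i', (H * consMat s P') (Fin.succ i') 0 = 0 := by
      intro i'
      rw [Matrix.mul_apply, Fin.sum_univ_succ]
      simp [ht.2 i'.succ 0 (Fin.succ_pos i')]
    have hss : ∀ i' j', (H * consMat s P') (Fin.succ i') (Fin.succ j') = (H' * P') i' j' := by
      intro i' j'
      rw [Matrix.mul_apply, Fin.sum_univ_succ, Matrix.mul_apply]
      simp [ht.2 i'.succ 0 (Fin.succ_pos i'), hH']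
    refine ⟨consMat s P', ⟨?_, ?_⟩, ?_, ?_, ⟨?_, ?_⟩, ?_⟩
    · intro i
      induction i using Fin.cases with
      | zero => rfl
      | succ i' => exact hPd i'
    · intro i j hji
      induction i using Fin.cases with
      | zero => exact absurd hji (Fin.not_lt_zero j)
      | succ i' =>
        induction j using Fin.cases with
        | zero => rfl
        | succ j' => exact hPl i' j' (Fin.succ_lt_succ_iff.mp hji)
    · intro i j n hn
      induction i using Fin.cases with
      | zero =>
        induction j using Fin.cases with
        | zero =>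
          simp only [consMat_zero_zero, coeff_one]
          rw [if_neg]
          rintro rfl
          exact hn (dvd_zero p)
        | succ j' =>
          simp only [consMat_zero_succ, hscoeff, if_neg hn]
      | succ i' =>
        induction j using Fin.cases with
        | zero => simp
        | succ j' => exact hPp i' j' n hn
    · intro i j hij n hn
      induction i using Fin.cases with
      | zero =>
        induction j using Fin.cases with
        | zero => exact absurd hij (lt_irrefl _)
        | succ j' =>
          simp only [consMat_zero_succ, hscoeff]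
          split_ifs
          · rw [hG j' (n + e 0) hn, neg_zero]
          · rfl
      | succ i' =>
        induction j using Fin.cases with
        | zero => exact absurd hij (Fin.not_lt_zero _)
        | succ j' => exact hPc i' j' (Fin.succ_lt_succ_iff.mp hij) n hn
    · intro i
      induction i using Fin.cases with
      | zero => exact h00
      | succ i' => rw [hss]; exact hPt.1 i'
    · intro i j hji
      induction i using Fin.cases with
      | zero => exact absurd hji (Fin.not_lt_zero j)
      | succ i' =>
        induction j using Fin.cases with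
        | zero => exact hs0 i'
        | succ j' => rw [hss]; exact hPt.2 i' j' (Fin.succ_lt_succ_iff.mp hji)
    · intro i j hij n hn
      induction i using Fin.cases with
      | zero =>
        induction j using Fin.cases with
        | zero => exact absurd hij (lt_irrefl _)
        | succ j' =>
          rw [h0s, map_add, coeff_X_pow_mul', hscoeff]
          rcases hn with hn | ⟨hn1, hn2⟩
          · rw [hG j' n hn, add_zero]
            split_ifs with h1 h2
            · rw [Nat.sub_add_cancel h1, hG j' n hn, neg_zero]
            · rfl
            · rfl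
          · have hdvd : p ∣ n - e 0 := Nat.dvd_of_mod_eq_zero (Nat.sub_mod_eq_zero_of_mod_eq hn2)
            rw [if_pos hn1, if_pos hdvd, Nat.sub_add_cancel hn1, neg_add_cancel]
      | succ i' =>
        induction j using Fin.cases with
        | zero => exact absurd hij (Fin.not_lt_zero _)
        | succ j' =>
          rw [hss]
          exact hPe i' j' (Fin.succ_lt_succ_iff.mp hij) n hn

end Groth.Agent.Lib.Helper16.Her
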