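import Mathlib
import Groth.Agent.Lib.Helper16.Her4

/-!
# S14044 main
-/

set_option autoImplicit false

namespace Groth.Agent.Lib.Helper16.Her

open PowerSeries Matrix

variable {k : Type*} [Field k]

theorem S14044_main (p : ℕ) (r : ℕ) (M : Matrix (Fin r) (Fin r) (PowerSeries k))
    (hM : M.det ≠ 0) :
    ∃ (N P : Matrix (Fin r) (Fin r) (PowerSeries k)) (e : Fin r → ℕ), IsUnit N ∧ IsUnit P ∧
      (∀ i j n, ¬ p ∣ n → PowerSeries.coeff n (P i j) = 0) ∧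
      (∀ i, (N * M * P) i i = PowerSeries.X ^ e i) ∧ (∀ i j, j < i → (N * M * P) i j = 0) ∧
      (∀ i j, i < j → ∀ n, (e j ≤ n ∨ (e i ≤ n ∧ n % p = e i % p)) →
        PowerSeries.coeff n ((N * M * P) i j) = 0) := by
  obtain ⟨H, N, e, ht, hr, hu, hNM⟩ := exists_hermite M hM
  obtain ⟨P, ⟨hPd, hPl⟩, hPp, -, hPt, hPe⟩ := Pcol p r e H ht hr
  refine ⟨N, P, e, hu, ?_, hPp, ?_, ?_, ?_⟩
  · rw [Matrix.isUnit_iff_isUnit_det]
    have htri : P.IsUpperTriangular := fun i j hji => hPl i j hji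
    rw [Matrix.det_of_isUpperTriangular htri]
    simp [hPd]
  · rw [hNM]; exact hPt.1
  · rw [hNM]; exact hPt.2
  · rw [hNM]; exact hPe

end Groth.Agent.Lib.Helper16.Her
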