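import Groth.Agent.Lib.Helper16.HilbLen2

/-!
# l(Hom(I,R/J)) + l(R/(I:J)) = l(R/J) + l(R/I) over a 2-dimensional regular local ring (helper16)
-/

set_option autoImplicit false
universe u
open CategoryTheory Abelian IsLocalRing

namespace Groth.Agent.Lib.Helper16.HilbLen

open Groth.Agent.Lib.Helper16 Groth.Agent.Lib

section cm

theorem isCohenMacaulayLocalRing_of_dim_zero (A : Type u) [CommRing A] [IsLocalRing A]
    [IsNoetherianRing A] (h0 : ringKrullDim A = 0) : LocCoh.IsCohenMacaulayLocalRing A := by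
  have hsd : Module.supportDim A A = 0 := by
    rw [Module.supportDim_self_eq_ringKrullDim, h0]
  have hle := Helper18.CM.depth_le_supportDim (R := A) A
  rw [hsd] at hle
  have hd : LocCoh.depth A A = 0 := by
    have h1 : ((LocCoh.depth A A : ℕ∞) : WithBot ℕ∞) ≤ ((0 : ℕ∞) : WithBot ℕ∞) := hle
    rw [WithBot.coe_le_coe] at h1
    exact nonpos_iff_eq_zero.1 h1
  exact { supportDim_eq_depth := by rw [hsd, hd]; rfl }

end cm

section aux

theorem enat_aux (a x z : ℕ∞) (r : ℕ) (ha : a ≠ ⊤) (hxle : x ≤ (r + 1 : ℕ) * a)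
    (h : x + r * a = (r + 1 : ℕ) * a + z) : x = a + z ∧ z ≠ ⊤ := by
  lift a to ℕ using ha
  have hxfin : x ≠ ⊤ := by
    intro hx
    rw [hx, top_le_iff] at hxle
    have : ((r + 1 : ℕ) : ℕ∞) * (a : ℕ∞) = (((r + 1) * a : ℕ) : ℕ∞) := by push_cast; rfl
    rw [this] at hxle
    exact ENat.coe_ne_top _ hxle
  lift x to ℕ using hxfin
  have hzfin : z ≠ ⊤ := by
    intro hz
    rw [hz, add_top] at h
    have : (x : ℕ∞) + (r : ℕ∞) * (a : ℕ∞) = ((x + r * a : ℕ) : ℕ∞) := by push_cast; rfl
    rw [this] at h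
    exact ENat.coe_ne_top _ h
  refine ⟨?_, hzfin⟩
  lift z to ℕ using hzfin
  have h' : x + r * a = (r + 1) * a + z := by exact_mod_cast h
  have h'' : (r + 1) * a = r * a + a := by ring
  have : x = a + z := by omega
  exact_mod_cast this

end aux

section main

variable (R : Type u) [CommRing R] [IsRegularLocalRing R]

theorem top_case (J : Ideal R) :
    Module.length R (↥(⊤ : Ideal R) →ₗ[R] (R ⧸ J)) + Module.length R (R ⧸ (⊤ : Ideal R).colon J) =
      Module.length R (R ⧸ J) + Module.length R (R ⧸ (⊤ : Ideal R)) := by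
  have h1 : Module.length R (↥(⊤ : Ideal R) →ₗ[R] (R ⧸ J)) = Module.length R (R ⧸ J) :=
    ((LinearEquiv.arrowCongr (Submodule.topEquiv : ↥(⊤ : Submodule R R) ≃ₗ[R] R)
      (LinearEquiv.refl R (R ⧸ J))).trans (LinearMap.ringLmapEquivSelf R R (R ⧸ J))).length_eq
  have h2 : (⊤ : Ideal R).colon J = ⊤ := by
    rw [eq_top_iff]
    intro x _
    rw [Submodule.mem_colon]
    intro p _
    exact Submodule.mem_top
  rw [h1, h2]

theorem main (hdim : ringKrullDim R = 2) (I J : Ideal R)
    (hI : Module.length R (R ⧸ I) < ⊤) (hJ : Module.length R (R ⧸ J) < ⊤) :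
    Module.length R (↥I →ₗ[R] (R ⧸ J)) + Module.length R (R ⧸ I.colon J) =
      Module.length R (R ⧸ J) + Module.length R (R ⧸ I) := by
  classical
  by_cases hItop : I = ⊤
  · subst hItop
    exact top_case R J
  -- `R/I` is a zero-dimensional local ring
  have hnt : Nontrivial (R ⧸ I) := Ideal.Quotient.nontrivial_iff.2 hItop
  have hloc : IsLocalRing (R ⧸ I) :=
    IsLocalRing.of_surjective' (Ideal.Quotient.mk I) Ideal.Quotient.mk_surjective
  have hflI : IsFiniteLength R (R ⧸ I) := Module.length_ne_top_iff.1 hI.ne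
  have hartI : IsArtinianRing (R ⧸ I) :=
    isArtinian_of_tower R (isFiniteLength_iff_isNoetherian_isArtinian.1 hflI).2
  have h0 : ringKrullDim (R ⧸ I) = 0 :=
    le_antisymm (Ring.krullDimLE_iff.1 inferInstance) ringKrullDim_nonneg_of_nontrivial
  have hCM : LocCoh.IsCohenMacaulayLocalRing (R ⧸ I) := isCohenMacaulayLocalRing_of_dim_zero _ h0
  have hcodim : ringKrullDim (R ⧸ I) + 2 = ringKrullDim R := by
    rw [h0, hdim, zero_add]
  obtain ⟨r, φ, hspan, -, hinj, hrange⟩ := HB.exists_hilbertBurch R I hcodim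
  set Δ : Fin (r + 1) → R := fun i => (-1 : R) ^ (i : ℕ) * (φ.submatrix i.succAbove id).det
    with hΔ
  -- the presentation `0 → R^r → R^{r+1} → I → 0`
  have hlc : ∀ c, Fintype.linearCombination R Δ c ∈ I := by
    intro c
    rw [← hspan]
    have : Fintype.linearCombination R Δ c ∈ LinearMap.range (Fintype.linearCombination R Δ) :=
      LinearMap.mem_range_self _ c
    rw [Fintype.range_linearCombination] at this
    exact this
  let g : (Fin (r + 1) → R) →ₗ[R] I := (Fintype.linearCombination R Δ).codRestrict I hlc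
  have hg : Function.Surjective g := by
    rintro ⟨x, hx⟩
    have hx' : x ∈ LinearMap.range (Fintype.linearCombination R Δ) := by
      rw [Fintype.range_linearCombination]
      rw [← hspan] at hx
      exact hx
    obtain ⟨c, hc⟩ := hx'
    exact ⟨c, Subtype.ext hc⟩
  have hex2 : Function.Exact φ.mulVecLin g := by
    intro y
    have h1 : g y = 0 ↔ y ∈ LinearMap.ker (Fintype.linearCombination R Δ) := by
      rw [LinearMap.mem_ker]
      exact ⟨fun h => congrArg Subtype.val h, fun h => Subtype.ext h⟩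
    rw [h1, ← hrange]
    exact Iff.rfl
  have hS2 := Depth.shortExact_of_linearMaps φ.mulVecLin g hinj hg hex2
  set S2 := ModuleCat.shortComplexOfCompEqZero φ.mulVecLin g hex2.linearMap_comp_eq_zero
  have hP2 : Projective S2.X₂ := ExtBC.projective_of_free R (Fin (r + 1) → R)
  -- the sequence `0 → I → R → R/I → 0`
  have hS1 := Depth.shortExact_of_linearMaps (Submodule.subtype I) (Submodule.mkQ I)
    (Submodule.subtype_injective I) (Submodule.mkQ_surjective I) (LinearMap.exact_subtype_mkQ I)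
  set S1 := ModuleCat.shortComplexOfCompEqZero (Submodule.subtype I) (Submodule.mkQ I)
    (LinearMap.exact_subtype_mkQ I).linearMap_comp_eq_zero
  have hP1 : Projective S1.X₂ := ExtBC.projective_of_free R R
  set N : ModuleCat.{u} R := ModuleCat.of R (R ⧸ J) with hN
  -- lengths from the long exact sequences
  have hles := length_les hS2 N
  have e1 : Module.length R (Ext.{u} S2.X₃ N 0) = Module.length R (↥I →ₗ[R] (R ⧸ J)) :=
    (ext0LinearEquiv S2.X₃ N).length_eq
  have e2 : Module.length R (Ext.{u} S2.X₁ N 0) = r * Module.length R (R ⧸ J) :=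
    length_ext0_pi r (R ⧸ J)
  have e3 : Module.length R (Ext.{u} S2.X₂ N 0) = (r + 1 : ℕ) * Module.length R (R ⧸ J) :=
    length_ext0_pi (r + 1) (R ⧸ J)
  have e4 : Module.length R (Ext.{u} S1.X₁ N 1) = Module.length R (Ext.{u} S1.X₃ N 2) :=
    (connEquiv hS1 N 0).length_eq
  have hpd : HasProjectiveDimensionLT (ModuleCat.of R (R ⧸ I)) (2 + 1) :=
    Helper4.hasProjectiveDimensionLT_of_isRegularLocalRing_of_finite R 2
      (by rw [hdim]; rfl) (R ⧸ I)
  have h3 : ∀ Y : ModuleCat.{u} R, Subsingleton (Ext.{u} (ModuleCat.of R (R ⧸ I)) Y 3) :=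
    fun Y => HasProjectiveDimensionLT.subsingleton _ 3 3 le_rfl Y
  obtain ⟨eq⟩ := nonempty_quot_equiv (ModuleCat.of R (R ⧸ I)) h3 J
  have e5 : Module.length R (Ext.{u} S1.X₃ N 2) =
      Module.length R (Ext.{u} (ModuleCat.of R (R ⧸ I)) (ModuleCat.of R R) 2 ⧸
        (J • (⊤ : Submodule R (Ext.{u} (ModuleCat.of R (R ⧸ I)) (ModuleCat.of R R) 2)))) :=
    eq.length_eq.symm
  have e6 : Module.length R (Ext.{u} S2.X₃ N 1) = Module.length R (Ext.{u} S1.X₁ N 1) := rfl
  rw [e1, e2, e3, e6, e4, e5] at hles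
  -- finiteness
  have hxle : Module.length R (↥I →ₗ[R] (R ⧸ J)) ≤ (r + 1 : ℕ) * Module.length R (R ⧸ J) := by
    rw [← e1, ← e3]
    exact Module.length_le_of_injective (res₀ S2 N) (res₀_injective hS2 N)
  obtain ⟨hxz, hzfin⟩ := enat_aux _ _ _ r hJ.ne hxle hles
  -- duality
  obtain ⟨E, _, _, f, hf⟩ := Helper25.exists_isInjectiveHull (R := R) (ResidueField R)
  obtain ⟨ed⟩ := nonempty_dual_equiv R hdim (R ⧸ I) hflI f hf
  have hzt := length_quot_smul_eq f hf (R ⧸ I)
    (Ext.{u} (ModuleCat.of R (R ⧸ I)) (ModuleCat.of R R) 2) ed J (Module.length_ne_top_iff.1 hzfin)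
  rw [hxz, hzt, ← length_colon I J, add_assoc]

end main

end Groth.Agent.Lib.Helper16.HilbLen
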