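import Mathlib
import Groth.Agent.Lib.Helper25.InjLoc
import Groth.Agent.Lib.Helper25.InjIndec

/-!
# Local extension criterion for injectivity and flat base change of injectives
-/

set_option autoImplicit false
set_option linter.style.haveILetI false
set_option linter.unusedSectionVars false

universe u

namespace Groth.Agent.Lib.Helper16.InjCrit

open InjHull Groth.Agent.Lib.Helper25 IsLocalRing TensorProduct

variable {B : Type u} [CommRing B] [IsNoetherianRing B]

/-- **Local extension criterion for injectivity** over a Noetherian ring: `M` is injective as soon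
as for every prime `q`, every linear map from the maximal ideal of `B_q` to `M_q` is
multiplication by an element (i.e. `Ext¹(κ(q), M_q) = 0`). -/
theorem injective_of_forall_prime_extends (M : Type u) [AddCommGroup M] [Module B M]
    (H : ∀ (q : Ideal B) [q.IsPrime]
      (φ : maximalIdeal (Localization.AtPrime q) →ₗ[Localization.AtPrime q]
        LocalizedModule q.primeCompl M),
      ∃ y : LocalizedModule q.primeCompl M, ∀ a, φ a = (a : Localization.AtPrime q) • y) :
    Module.Injective B M := by
  obtain ⟨E, _, _, f, hf⟩ := exists_isInjectiveHull (R := B) M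
  have hE := hf.isInjective
  suffices hsurj : Function.Surjective f by
    exact injective_of_linearEquiv (LinearEquiv.ofBijective f ⟨hf.injective, hsurj⟩).symm hE
  by_contra hns
  -- the cokernel is nonzero
  have hC : ∃ c : E ⧸ LinearMap.range f, c ≠ 0 := by
    by_contra hcon
    simp only [ne_eq, not_exists, not_not] at hcon
    apply hns
    intro e
    have := hcon (Submodule.Quotient.mk e)
    rwa [Submodule.Quotient.mk_eq_zero] at this
  obtain ⟨c0, hc0⟩ := hC
  obtain ⟨q, hq, -⟩ := exists_le_isAssociatedPrime_of_isNoetherianRing (R := B) c0 hc0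
  rw [isAssociatedPrime_iff] at hq
  obtain ⟨hqp, c, hqc⟩ := hq
  obtain ⟨e, rfl⟩ := Submodule.Quotient.mk_surjective _ c
  have hmem : ∀ b : B, b ∈ q ↔ b • e ∈ LinearMap.range f := by
    intro b
    rw [hqc, Submodule.mem_colon_singleton, Submodule.mem_bot, ← Submodule.Quotient.mk_smul,
      Submodule.Quotient.mk_eq_zero]
  -- localize
  let S := q.primeCompl
  let L := Localization.AtPrime q
  let fq : LocalizedModule S M →ₗ[L] LocalizedModule S E := LocalizedModule.map S f
  have hfq : IsEssentialInj fq := essInj_localizedModule_map S hf.toIsEssentialInj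
  let e' : LocalizedModule S E := LocalizedModule.mk e 1
  have hrange : ∀ a : L, a ∈ maximalIdeal L → a • e' ∈ LinearMap.range fq := by
    intro a ha
    obtain ⟨r, s, rfl⟩ := IsLocalization.exists_mk'_eq S a
    have hr : r ∈ q := by
      rwa [IsLocalization.AtPrime.mk'_mem_maximal_iff L q] at ha
    obtain ⟨m, hm⟩ := (hmem r).1 hr
    refine ⟨LocalizedModule.mk m s, ?_⟩
    change LocalizedModule.map S f (LocalizedModule.mk m s) = _
    rw [LocalizedModule.map_mk, hm]
    change _ = IsLocalization.mk' L r s • LocalizedModule.mk e 1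
    rw [← Localization.mk_eq_mk', LocalizedModule.mk_smul_mk, mul_one]
  let φ : maximalIdeal L →ₗ[L] LocalizedModule S M :=
    (LinearEquiv.ofInjective fq hfq.injective).symm.toLinearMap ∘ₗ
      (LinearMap.codRestrict (LinearMap.range fq)
        ((LinearMap.toSpanSingleton L _ e') ∘ₗ (maximalIdeal L).subtype)
        (fun a => by simpa using hrange a a.2))
  have hφ : ∀ a : maximalIdeal L, fq (φ a) = (a : L) • e' := by
    intro a
    change fq ((LinearEquiv.ofInjective fq hfq.injective).symm _) = _
    have := (LinearEquiv.ofInjective fq hfq.injective).apply_symm_apply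
      ((LinearMap.codRestrict (LinearMap.range fq)
        ((LinearMap.toSpanSingleton L _ e') ∘ₗ (maximalIdeal L).subtype)
        (fun a => by simpa using hrange a a.2)) a)
    have h2 := congrArg Subtype.val this
    simp only [LinearEquiv.ofInjective_apply] at h2
    exact h2
  obtain ⟨y, hy⟩ := H q φ
  -- z = e' - fq y is killed by the maximal ideal, hence lies in the range
  have hz : e' - fq y ∈ LinearMap.range fq := by
    by_cases hz0 : e' - fq y = 0
    · rw [hz0]; exact Submodule.zero_mem _
    obtain ⟨b, hb0, hbr⟩ := ((isEssentialInj_iff fq).1 hfq).2 _ hz0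
    have hbu : IsUnit b := by
      by_contra hnu
      have hbm : b ∈ maximalIdeal L := (IsLocalRing.mem_maximalIdeal b).2 hnu
      apply hb0
      rw [smul_sub, ← map_smul, ← hy ⟨b, hbm⟩, hφ ⟨b, hbm⟩, sub_self]
    obtain ⟨u, rfl⟩ := hbu
    have := (LinearMap.range fq).smul_mem (↑u⁻¹ : L) hbr
    rwa [smul_smul, Units.inv_mul, one_smul] at this
  have he' : e' ∈ LinearMap.range fq := by
    have := (LinearMap.range fq).add_mem hz ⟨y, rfl⟩
    rwa [sub_add_cancel] at this
  obtain ⟨x, hx⟩ := he'
  induction x using LocalizedModule.induction_on with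
  | h m s =>
    change LocalizedModule.map S f (LocalizedModule.mk m s) = LocalizedModule.mk e 1 at hx
    rw [LocalizedModule.map_mk, LocalizedModule.mk_eq] at hx
    obtain ⟨t, ht⟩ := hx
    have hts : ((t * s : S) : B) ∈ q := by
      rw [hmem]
      refine ⟨(t : B) • m, ?_⟩
      simp only [Submonoid.smul_def, one_smul] at ht
      rw [map_smul, ht, Submonoid.coe_mul, mul_smul]
    exact (t * s).2 hts

section Ext

variable {A : Type u} [CommRing A] [IsNoetherianRing A]
  {L : Type u} [CommRing L] [Algebra A L] [Module.Flat A L]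
  (I : Type u) [AddCommGroup I] [Module A I] [Module.Injective A I]

/-- every `L`-linear map `L ⊗ p → L ⊗ I` (with `L` flat over the Noetherian ring `A`, `I`
injective) is, on pure tensors `1 ⊗ a`, multiplication by a fixed element. -/
theorem exists_smul_of_tensor_ideal (p : Ideal A) (ψ : L ⊗[A] p →ₗ[L] L ⊗[A] I) :
    ∃ y : L ⊗[A] I, ∀ (s : L) (a : p), ψ (s ⊗ₜ a) = (s * algebraMap A L a) • y := by
  have hfp : Module.FinitePresentation A p := Module.finitePresentation_of_finite A p
  have hbc := Module.FinitePresentation.isBaseChange_map A p I L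
  induction ψ using hbc.inductionOn with
  | zero => exact ⟨0, fun s a => by simp⟩
  | tmul f₀ =>
    obtain ⟨g', hg'⟩ := Module.Baer.of_injective (inferInstance : Module.Injective A I) p f₀
    refine ⟨1 ⊗ₜ g' 1, fun s a => ?_⟩
    change (f₀.baseChange L) (s ⊗ₜ a) = _
    rw [LinearMap.baseChange_tmul, ← hg' a a.2, TensorProduct.smul_tmul', smul_eq_mul, mul_one]
    have : g' (a : A) = (a : A) • g' 1 := by
      rw [← map_smul, smul_eq_mul, mul_one]
    rw [this, ← TensorProduct.smul_tmul, Algebra.smul_def, mul_comm]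
  | smul t ψ ih =>
    obtain ⟨y, hy⟩ := ih
    refine ⟨t • y, fun s a => ?_⟩
    rw [LinearMap.smul_apply, hy, smul_smul, smul_smul, mul_comm]
  | add ψ₁ ψ₂ ih₁ ih₂ =>
    obtain ⟨y₁, hy₁⟩ := ih₁
    obtain ⟨y₂, hy₂⟩ := ih₂
    refine ⟨y₁ + y₂, fun s a => ?_⟩
    rw [LinearMap.add_apply, hy₁, hy₂, smul_add]

/-- the extension property for maps out of an ideal of `L` extended from `A`. -/
theorem exists_smul_of_map_ideal (p : Ideal A) (𝔪 : Ideal L) (h𝔪 : 𝔪 = p.map (algebraMap A L))
    (φ : 𝔪 →ₗ[L] L ⊗[A] I) : ∃ y : L ⊗[A] I, ∀ a : 𝔪, φ a = (a : L) • y := by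
  let π₀ : L ⊗[A] p →ₗ[L] L := LinearMap.liftBaseChange L ((Algebra.linearMap A L) ∘ₗ p.subtype)
  have hπ₀ : ∀ (s : L) (a : p), π₀ (s ⊗ₜ a) = s * algebraMap A L a := by
    intro s a
    simp [π₀]
  have hmem : ∀ τ, π₀ τ ∈ 𝔪 := by
    intro τ
    induction τ using TensorProduct.induction_on with
    | zero => simp
    | tmul s a =>
      rw [hπ₀, h𝔪]
      exact Ideal.mul_mem_left _ _ (Ideal.mem_map_of_mem _ a.2)
    | add x y hx hy => rw [map_add]; exact 𝔪.add_mem hx hy
  let π : L ⊗[A] p →ₗ[L] 𝔪 := LinearMap.codRestrict 𝔪 π₀ hmem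
  have hsurj : ∀ x : 𝔪, ∃ τ, π₀ τ = (x : L) := by
    rintro ⟨x, hx⟩
    change ∃ τ, π₀ τ = x
    rw [h𝔪, Ideal.map] at hx
    induction hx using Submodule.span_induction with
    | mem x hx =>
      obtain ⟨a, ha, rfl⟩ := hx
      exact ⟨1 ⊗ₜ ⟨a, ha⟩, by rw [hπ₀, one_mul]⟩
    | zero => exact ⟨0, map_zero _⟩
    | add x y _ _ hx hy =>
      obtain ⟨τ₁, h₁⟩ := hx
      obtain ⟨τ₂, h₂⟩ := hy
      exact ⟨τ₁ + τ₂, by rw [map_add, h₁, h₂]⟩
    | smul t x _ hx =>
      obtain ⟨τ, h⟩ := hx
      exact ⟨t • τ, by rw [map_smul, h]⟩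
  obtain ⟨y, hy⟩ := exists_smul_of_tensor_ideal I p (φ ∘ₗ π)
  refine ⟨y, fun x => ?_⟩
  obtain ⟨τ, hτ⟩ := hsurj x
  have hx : x = π τ := Subtype.ext hτ.symm
  have key : ∀ τ, (φ ∘ₗ π) τ = π₀ τ • y := by
    intro τ
    induction τ using TensorProduct.induction_on with
    | zero => simp
    | tmul s a => rw [hy, hπ₀]
    | add x y hx hy => rw [map_add, map_add, hx, hy, add_smul]
  rw [hx]
  exact key τ

end Ext

section Main

variable (A B : Type u) [CommRing A] [CommRing B] [Algebra A B] [IsNoetherianRing A]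
  [IsNoetherianRing B] [Module.Flat A B]

/-- **Base change of injectives along flat maps with `p B_q = q B_q`.** -/
theorem injective_baseChange
    (h : ∀ q : PrimeSpectrum B, Ideal.map (algebraMap B (Localization.AtPrime q.asIdeal))
      ((q.asIdeal.comap (algebraMap A B)).map (algebraMap A B)) =
        IsLocalRing.maximalIdeal (Localization.AtPrime q.asIdeal))
    (I : Type u) [AddCommGroup I] [Module A I] [Module.Injective A I] :
    Module.Injective B (B ⊗[A] I) := by
  apply injective_of_forall_prime_extends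
  intro q _ φ
  let L := Localization.AtPrime q
  have hfl : Module.Flat B L := IsLocalization.flat L q.primeCompl
  have hflA : Module.Flat A L := Module.Flat.trans A B L
  let g : B ⊗[A] I →ₗ[B] L ⊗[A] I := AlgebraTensorModule.rTensor A I (Algebra.linearMap B L)
  have hg : IsLocalizedModule q.primeCompl g := inferInstance
  let e₀ : LocalizedModule q.primeCompl (B ⊗[A] I) ≃ₗ[B] L ⊗[A] I :=
    IsLocalizedModule.iso q.primeCompl g
  let e : LocalizedModule q.primeCompl (B ⊗[A] I) ≃ₗ[L] L ⊗[A] I :=
    LinearEquiv.extendScalarsOfIsLocalization q.primeCompl L e₀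
  have h𝔪 : maximalIdeal L = (q.comap (algebraMap A B)).map (algebraMap A L) := by
    rw [← h ⟨q, inferInstance⟩, Ideal.map_map, ← IsScalarTower.algebraMap_eq]
  obtain ⟨y, hy⟩ := exists_smul_of_map_ideal I (q.comap (algebraMap A B)) (maximalIdeal L) h𝔪
    (e.toLinearMap ∘ₗ φ)
  refine ⟨e.symm y, fun a => ?_⟩
  rw [← map_smul, ← hy a, LinearMap.comp_apply, LinearEquiv.coe_coe, LinearEquiv.symm_apply_apply]

end Main

end Groth.Agent.Lib.Helper16.InjCrit
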