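import Mathlib
import Groth.Agent.Lib.Helper25.InjLocPrime

/-!
# Injective modules over Noetherian rings as filtered colimits of finite modules over Artinian algebras
-/

set_option autoImplicit false
set_option linter.style.haveILetI false
set_option linter.unusedSectionVars false

universe u

namespace Groth.Agent.Lib.Helper16.InjFil

open InjHull Groth.Agent.Lib.Helper25 IsLocalRing

/-- the property: finite module over some Artinian algebra. -/
def FinArt (A : Type u) [CommRing A] (N : Type u) [AddCommGroup N] [Module A N] : Prop :=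
  ∃ (B : Type u) (_ : CommRing B) (_ : Algebra A B) (_ : IsArtinianRing B)
    (_ : Module B N) (_ : IsScalarTower A B N), Module.Finite B N

section Basic

variable {A : Type u} [CommRing A]

theorem FinArt.of_linearEquiv {N N' : Type u} [AddCommGroup N] [Module A N] [AddCommGroup N']
    [Module A N'] (e : N ≃ₗ[A] N') (h : FinArt A N) : FinArt A N' := by
  obtain ⟨B, _, _, _, _, _, hfin⟩ := h
  let inst : Module B N' := e.symm.toAddEquiv.module B
  have hsm : ∀ (b : B) (x : N'), b • x = e (b • e.symm x) := fun b x => rfl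
  have htower : IsScalarTower A B N' := by
    refine ⟨fun a b x => ?_⟩
    rw [hsm, hsm, smul_assoc, map_smul]
  let eB : N ≃ₗ[B] N' :=
    { e.toAddEquiv with
      map_smul' := fun b x => by
        change e (b • x) = e (b • e.symm (e x))
        rw [LinearEquiv.symm_apply_apply] }
  exact ⟨B, inferInstance, inferInstance, inferInstance, inst, htower, Module.Finite.equiv eB⟩

lemma isArtinianRing_quotient_pow {R : Type u} [CommRing R] [IsNoetherianRing R] [IsLocalRing R]
    (t : ℕ) : IsArtinianRing (R ⧸ maximalIdeal R ^ t) := by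
  rcases Nat.eq_zero_or_pos t with rfl | ht
  · have : Subsingleton (R ⧸ maximalIdeal R ^ 0) := by
      rw [pow_zero, Ideal.one_eq_top]; exact Ideal.Quotient.subsingleton_iff.2 rfl
    infer_instance
  · apply IsLocalRing.quotient_artinian_of_mem_minimalPrimes_of_isLocalRing
    refine ⟨⟨inferInstance, Ideal.pow_le_self ht.ne'⟩, fun q hq hqm => ?_⟩
    haveI := hq.1
    exact Ideal.IsPrime.le_of_pow_le hq.2

end Basic

section Local

variable {R : Type u} [CommRing R] [IsLocalRing R] [IsNoetherianRing R]
  {E : Type u} [AddCommGroup E] [Module R E]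

/-- over a Noetherian local ring, the `m^n`-torsion of the hull of the residue field is a finite
module over the Artinian ring `R/m^n`. -/
theorem finite_torsionBySet_hull (f : ResidueField R →ₗ[R] E) (hf : IsInjectiveHull f) (n : ℕ) :
    ∃ (_ : Module (R ⧸ maximalIdeal R ^ n)
        (Submodule.torsionBySet R E ((maximalIdeal R ^ n : Ideal R) : Set R)))
      (_ : IsScalarTower R (R ⧸ maximalIdeal R ^ n)
        (Submodule.torsionBySet R E ((maximalIdeal R ^ n : Ideal R) : Set R))),
      Module.Finite (R ⧸ maximalIdeal R ^ n)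
        (Submodule.torsionBySet R E ((maximalIdeal R ^ n : Ideal R) : Set R)) := by
  have hart : IsArtinian R E := isArtinian_of_isInjectiveHull f hf
  have hartR := isArtinianRing_quotient_pow (R := R) n
  have htors : Module.IsTorsionBySet R
      (Submodule.torsionBySet R E ((maximalIdeal R ^ n : Ideal R) : Set R))
      ((maximalIdeal R ^ n : Ideal R) : Set R) := Submodule.torsionBySet_isTorsionBySet _
  let inst : Module (R ⧸ maximalIdeal R ^ n)
      (Submodule.torsionBySet R E ((maximalIdeal R ^ n : Ideal R) : Set R)) := htors.module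
  have htower : IsScalarTower R (R ⧸ maximalIdeal R ^ n)
      (Submodule.torsionBySet R E ((maximalIdeal R ^ n : Ideal R) : Set R)) := htors.isScalarTower
  have hart' : IsArtinian (R ⧸ maximalIdeal R ^ n)
      (Submodule.torsionBySet R E ((maximalIdeal R ^ n : Ideal R) : Set R)) :=
    isArtinian_of_tower R inferInstance
  exact ⟨inst, htower, ((IsArtinianRing.tfae (R := R ⧸ maximalIdeal R ^ n)
    (M := Submodule.torsionBySet R E ((maximalIdeal R ^ n : Ideal R) : Set R))).out 0 2).2 hart'⟩

end Local

section Prime

variable {A : Type u} [CommRing A] [IsNoetherianRing A] (p : Ideal A) [hp : p.IsPrime]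
  {E : Type u} [AddCommGroup E] [Module A E]

/-- the hull of `A/p` is an increasing union of submodules which are finite over Artinian
`A`-algebras (`A_p/p^n A_p`). -/
theorem exists_filtration_hull (f : (A ⧸ p) →ₗ[A] E) (hf : IsInjectiveHull f) :
    ∃ T : ℕ → Submodule A E, Monotone T ∧ (∀ x : E, ∃ n, x ∈ T n) ∧ ∀ n, FinArt A (T n) := by
  let S := p.primeCompl
  let R := Localization.AtPrime p
  let E' := LocalizedModule S E
  have hdisj : Disjoint (p : Set A) S := by
    rw [Set.disjoint_left]
    intro a ha hS
    exact hS ha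
  have hbij : Function.Bijective (LocalizedModule.mkLinearMap S E) :=
    mkLinearMap_bijective_of_disjoint S p f hf hdisj
  let e : E ≃ₗ[A] E' := LinearEquiv.ofBijective _ hbij
  obtain ⟨g, hg⟩ := exists_hull_localization_quotient S p f hf
  have hmax : maximalIdeal R = p.map (algebraMap A R) :=
    (Localization.AtPrime.map_eq_maximalIdeal).symm
  let g' : ResidueField R →ₗ[R] E' := g ∘ₗ (Submodule.quotEquivOfEq _ _ hmax).toLinearMap
  have hg' : IsInjectiveHull g' :=
    ⟨essInj_comp (isEssentialInj_of_bijective (Submodule.quotEquivOfEq _ _ hmax).bijective)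
      hg.toIsEssentialInj, hg.isInjective⟩
  have hpt := isPowerTorsion_of_isInjectiveHull g' hg'
  let T' : ℕ → Submodule R E' := fun n =>
    Submodule.torsionBySet R E' ((maximalIdeal R ^ n : Ideal R) : Set R)
  have hT'mono : Monotone T' := by
    intro n n' h
    exact Submodule.torsionBySet_le_torsionBySet_of_subset (Ideal.pow_le_pow_right h)
  let T : ℕ → Submodule A E := fun n => ((T' n).restrictScalars A).comap e.toLinearMap
  refine ⟨T, ?_, ?_, ?_⟩
  · intro n n' h x hx
    exact hT'mono h hx
  · intro x
    obtain ⟨n, hn⟩ := hpt (e x)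
    refine ⟨n, ?_⟩
    change e x ∈ T' n
    rw [Submodule.mem_torsionBySet_iff]
    intro a
    exact hn a a.2
  · intro n
    obtain ⟨inst, htower, hfin⟩ := finite_torsionBySet_hull g' hg' n
    have eT : T n ≃ₗ[A] (T' n) := (e.ofSubmodule' ((T' n).restrictScalars A)).trans
      ((Submodule.restrictScalarsEquiv A R E' (T' n)).restrictScalars A)
    refine FinArt.of_linearEquiv eT.symm ?_
    refine ⟨R ⧸ maximalIdeal R ^ n, inferInstance, inferInstance, isArtinianRing_quotient_pow n,
      inst, ?_, hfin⟩
    refine ⟨fun a b x => ?_⟩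
    have h1 : ∀ y : T' n, a • y = (algebraMap A R a) • y := fun y => by
      rw [algebraMap_smul]
    change ((a • b) • x : T' n) = a • (b • x : T' n)
    rw [h1, ← smul_assoc, algebraMap_smul]

end Prime

section Pi

variable {A : Type u} [CommRing A]

theorem finite_pi' {κ : Type u} [Fintype κ] [DecidableEq κ] (B : κ → Type u)
    [∀ k, CommRing (B k)] (N : κ → Type u) [∀ k, AddCommGroup (N k)] [∀ k, Module (B k) (N k)]
    (h : ∀ k, Module.Finite (B k) (N k)) : Module.Finite (∀ k, B k) (∀ k, N k) := by
  classical
  choose G hG using fun k => (h k).1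
  refine ⟨⟨Finset.univ.biUnion fun k => (G k).image (Pi.single k), ?_⟩⟩
  rw [eq_top_iff]
  intro x _
  have hx : x = ∑ k, Pi.single k (x k) := by
    ext j
    simp [Finset.sum_apply]
  rw [hx]
  refine Submodule.sum_mem _ fun k _ => ?_
  have hk : x k ∈ Submodule.span (B k) (G k : Set (N k)) := by rw [hG k]; trivial
  generalize x k = y at hk
  induction hk using Submodule.span_induction with
  | mem y hy =>
    apply Submodule.subset_span
    simp only [Finset.coe_biUnion, Finset.coe_univ, Set.mem_univ, Set.iUnion_true, Set.mem_iUnion,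
      Finset.coe_image, Set.mem_image, Finset.mem_coe]
    exact ⟨k, y, hy, rfl⟩
  | zero => rw [Pi.single_zero]; exact Submodule.zero_mem _
  | add y z _ _ hy hz => rw [Pi.single_add]; exact Submodule.add_mem _ hy hz
  | smul b y _ hy =>
    have : Pi.single k (b • y) = (Pi.single k b : ∀ k, B k) • (Pi.single k y : ∀ k, N k) := by
      ext j
      by_cases hj : j = k
      · subst hj; simp
      · simp [hj]
    rw [this]
    exact Submodule.smul_mem _ _ hy

theorem FinArt.pi {κ : Type u} [Fintype κ] [DecidableEq κ] (N : κ → Type u)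
    [∀ k, AddCommGroup (N k)] [∀ k, Module A (N k)] (h : ∀ k, FinArt A (N k)) :
    FinArt A (∀ k, N k) := by
  choose B i1 i2 i3 i4 i5 i6 using h
  letI : ∀ k, CommRing (B k) := i1
  letI : ∀ k, Algebra A (B k) := i2
  haveI : ∀ k, IsArtinianRing (B k) := i3
  letI : ∀ k, Module (B k) (N k) := i4
  haveI : ∀ k, IsScalarTower A (B k) (N k) := i5
  refine ⟨∀ k, B k, inferInstance, inferInstance, inferInstance, inferInstance, ?_,
    finite_pi' B N i6⟩
  refine ⟨fun a b x => ?_⟩
  ext k
  exact smul_assoc a (b k) (x k)

end Pi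

section Indep

variable {A : Type u} [CommRing A] {J : Type u} [AddCommGroup J] [Module A J]

/-- an independent finite family of submodules: the sup is the product. -/
theorem nonempty_pi_equiv_iSup {κ : Type u} [Fintype κ] [DecidableEq κ] (P : κ → Submodule A J)
    (h : iSupIndep P) : Nonempty ((∀ k, P k) ≃ₗ[A] ↥(⨆ k, P k)) := by
  classical
  let ψ : (∀ k, P k) →ₗ[A] J :=
    (DFinsupp.lsum ℕ (fun k => (P k).subtype)) ∘ₗ
      (DFinsupp.linearEquivFunOnFintype (R := A) (M := fun k => P k)).symm.toLinearMap
  have hinj : Function.Injective ψ := by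
    have h1 := h.dfinsupp_lsum_injective
    exact h1.comp (DFinsupp.linearEquivFunOnFintype (R := A) (M := fun k => P k)).symm.injective
  have hrange : LinearMap.range ψ = ⨆ k, P k := by
    rw [LinearMap.range_comp, LinearEquiv.range, Submodule.map_top,
      ← Submodule.iSup_eq_range_dfinsupp_lsum]
  exact ⟨(LinearEquiv.ofInjective ψ hinj).trans (LinearEquiv.ofEq _ _ hrange)⟩

end Indep

section Colim

open CategoryTheory Limits

/-- Elementwise criterion for a cocone over a filtered diagram of modules to be a colimit. -/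
noncomputable def isColimitOfElementwise {R : Type u} [CommRing R] {Λ : Type u} [SmallCategory Λ]
    [IsFiltered Λ] (D : Λ ⥤ ModuleCat.{u} R) (t : Cocone D)
    (hsurj : ∀ x : t.pt, ∃ (l : Λ) (y : D.obj l), (t.ι.app l).hom y = x)
    (hinj : ∀ (l : Λ) (y : D.obj l), (t.ι.app l).hom y = 0 →
      ∃ (m : Λ) (h : l ⟶ m), (D.map h).hom y = 0) : IsColimit t := by
  have hc := colimit.isColimit D
  have hfac : ∀ (l : Λ) (y : D.obj l), (hc.desc t).hom ((colimit.ι D l).hom y) =
      (t.ι.app l).hom y := by
    intro l y
    have := hc.fac t l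
    exact LinearMap.congr_fun (congrArg ModuleCat.Hom.hom this) y
  have hiso : IsIso (hc.desc t) := by
    rw [ConcreteCategory.isIso_iff_bijective]
    constructor
    · change Function.Injective (hc.desc t).hom
      rw [injective_iff_map_eq_zero]
      intro z hz
      obtain ⟨l, y, rfl⟩ := Concrete.isColimit_exists_rep D hc z
      have hz' : (hc.desc t).hom ((colimit.ι D l).hom y) = 0 := hz
      rw [hfac] at hz'
      obtain ⟨m, h, hm⟩ := hinj l y hz'
      have hw := colimit.w D h
      have : (colimit.ι D l).hom y = (colimit.ι D m).hom ((D.map h).hom y) := by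
        rw [← hw]
        rfl
      change (colimit.ι D l).hom y = 0
      rw [this, hm, map_zero]
    · intro x
      obtain ⟨l, y, rfl⟩ := hsurj x
      exact ⟨(colimit.ι D l).hom y, hfac l y⟩
  exact IsColimit.ofPointIso hc

variable {A : Type u} [CommRing A] {J : Type u} [AddCommGroup J] [Module A J]

/-- a directed (monotone) family of submodules exhausting `J` presents `J` as a filtered
colimit. -/
theorem exists_isColimit_of_monotone {Λ : Type u} [PartialOrder Λ] [IsDirected Λ (· ≤ ·)]
    [Nonempty Λ] (N : Λ → Submodule A J) (hN : Monotone N) (hex : ∀ x : J, ∃ l, x ∈ N l) :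
    ∃ (D : Λ ⥤ ModuleCat.{u} A) (c : Cocone D) (_ : IsColimit c),
      Nonempty (c.pt ≅ ModuleCat.of A J) ∧ ∀ l, D.obj l = ModuleCat.of A (N l) := by
  let D : Λ ⥤ ModuleCat.{u} A :=
    { obj := fun l => ModuleCat.of A (N l)
      map := fun {l m} h => ModuleCat.ofHom (Submodule.inclusion (hN (leOfHom h)))
      map_id := fun l => by
        ext x
        rfl
      map_comp := fun {l m n} f g => by
        ext x
        rfl }
  let c : Cocone D :=
    { pt := ModuleCat.of A J
      ι := { app := fun l => ModuleCat.ofHom (N l).subtype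
             naturality := fun {l m} f => by
               ext x
               rfl } }
  refine ⟨D, c, ?_, ⟨Iso.refl _⟩, fun l => rfl⟩
  refine isColimitOfElementwise D c ?_ ?_
  · intro x
    obtain ⟨l, hl⟩ := hex x
    exact ⟨l, ⟨x, hl⟩, rfl⟩
  · intro l y hy
    refine ⟨l, 𝟙 l, ?_⟩
    have : (y : J) = 0 := hy
    have hy0 : y = 0 := Subtype.ext this
    rw [hy0, map_zero]

end Colim

section Main

open CategoryTheory Limits

variable (A : Type u) [CommRing A] [IsNoetherianRing A]
  (J : Type u) [AddCommGroup J] [Module A J] [Module.Injective A J]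

/-- an injective module over a Noetherian ring is a directed union of submodules which are
finite over Artinian algebras. -/
theorem exists_directed_finArt :
    ∃ (Λ : Type u) (_ : PartialOrder Λ) (_ : IsDirected Λ (· ≤ ·)) (_ : Nonempty Λ)
      (N : Λ → Submodule A J), Monotone N ∧ (∀ x : J, ∃ l, x ∈ N l) ∧ ∀ l, FinArt A (N l) := by
  classical
  obtain ⟨S, hint, hgood⟩ := exists_isInternal_indecomposable_aux J
    (inferInstance : Module.Injective A J)
  have hint' := hint inferInstance
  rw [DirectSum.isInternal_submodule_iff_iSupIndep_and_iSup_eq_top] at hint'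
  obtain ⟨hind, htop⟩ := hint'
  have hdata : ∀ i : S, ∃ T : ℕ → Submodule A (i : Submodule A J), Monotone T ∧
      (∀ x, ∃ n, x ∈ T n) ∧ ∀ n, FinArt A (T n) := by
    intro i
    obtain ⟨p, hp, f, hf⟩ := exists_hull_quotient_of_indecomposable (hgood i).1 (hgood i).2
    exact exists_filtration_hull p f hf
  choose T hTmono hTex hTfin using hdata
  let T' : S → ℕ → Submodule A J := fun i n => (T i n).map (i : Submodule A J).subtype
  have hT'le : ∀ i n, T' i n ≤ (i : Submodule A J) := by
    intro i n x hx
    obtain ⟨y, -, rfl⟩ := hx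
    exact y.2
  have hT'mono : ∀ i, Monotone (T' i) := fun i n n' h => Submodule.map_mono (hTmono i h)
  have hT'fin : ∀ i n, FinArt A (T' i n) := fun i n =>
    FinArt.of_linearEquiv (Submodule.equivMapOfInjective _
      (i : Submodule A J).subtype_injective (T i n)) (hTfin i n)
  let N : Finset S × ℕ → Submodule A J := fun l => ⨆ i ∈ l.1, T' i l.2
  refine ⟨Finset S × ℕ, inferInstance, inferInstance, inferInstance, N, ?_, ?_, ?_⟩
  · rintro ⟨s, n⟩ ⟨s', n'⟩ ⟨hs, hn⟩
    exact iSup₂_le fun i hi => le_iSup₂_of_le i (hs hi) (hT'mono i hn)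
  · intro x
    have hx : x ∈ ⨆ i : S, (i : Submodule A J) := by rw [htop]; trivial
    obtain ⟨s, hs⟩ := Submodule.exists_finset_of_mem_iSup _ hx
    rw [Submodule.mem_iSup_finset_iff_exists_sum] at hs
    obtain ⟨μ, rfl⟩ := hs
    choose ν hν using fun i : S => hTex i (μ i)
    refine ⟨(s, s.sup ν), ?_⟩
    refine Submodule.sum_mem _ fun i hi => ?_
    refine Submodule.mem_iSup_of_mem i (Submodule.mem_iSup_of_mem hi ?_)
    exact ⟨μ i, hTmono i (Finset.le_sup hi) (hν i), rfl⟩
  · rintro ⟨s, n⟩
    have hindep : iSupIndep (fun i : s => T' i.1 n) := by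
      have h1 : iSupIndep (fun i : s => ((i : S) : Submodule A J)) :=
        hind.comp (f := fun i : s => (i : S)) Subtype.val_injective
      exact h1.mono fun i => hT'le i.1 n
    obtain ⟨e⟩ := nonempty_pi_equiv_iSup (fun i : s => T' i.1 n) hindep
    have heq : (⨆ i : s, T' i.1 n) = N (s, n) := by
      change _ = ⨆ i ∈ s, T' i n
      rw [iSup_subtype']
    refine FinArt.of_linearEquiv (e.trans (LinearEquiv.ofEq _ _ heq)) ?_
    exact FinArt.pi _ fun i => hT'fin i.1 n

/-- **Injective modules over Noetherian rings are filtered colimits of finite modules over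
Artinian algebras.** -/
theorem injective_isFilteredColimit_finArt :
    ∃ (ι : Type u) (_ : SmallCategory ι) (_ : IsFiltered ι) (D : ι ⥤ ModuleCat.{u} A)
      (c : Cocone D) (_ : IsColimit c), Nonempty (c.pt ≅ ModuleCat.of A J) ∧
      ∀ i : ι, ∃ (B : Type u) (_ : CommRing B) (_ : Algebra A B) (_ : IsArtinianRing B)
        (_ : Module B (D.obj i)) (_ : IsScalarTower A B (D.obj i)), Module.Finite B (D.obj i) := by
  obtain ⟨Λ, _, _, _, N, hN, hex, hfin⟩ := exists_directed_finArt A J
  obtain ⟨D, c, hc, hiso, hobj⟩ := exists_isColimit_of_monotone N hN hex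
  refine ⟨Λ, inferInstance, inferInstance, D, c, hc, hiso, fun l => ?_⟩
  have := hfin l
  rw [hobj l]
  exact this

end Main

end Groth.Agent.Lib.Helper16.InjFil
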