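import Mathlib

/-!
# charpoly of A-1, N^2, cB
-/

set_option autoImplicit false

namespace Groth.Agent.Lib.Helper16.Intg

open Polynomial Matrix

section mat
variable {R : Type*} [CommRing R] {m : Type*} [Fintype m] [DecidableEq m]

theorem charpoly_comp (A : Matrix m m R) (q : R[X]) :
    A.charpoly.comp q = (Matrix.scalar m q - (C : R →+* R[X]).mapMatrix A).det := by
  rw [← coe_compRingHom_apply, Matrix.charpoly, RingHom.map_det]
  congr 1
  ext i j
  by_cases h : i = j
  · subst h
    simp
  · simp [h]

theorem charpoly_eq_det (A : Matrix m m R) :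
    A.charpoly = (Matrix.scalar m (X : R[X]) - (C : R →+* R[X]).mapMatrix A).det := by
  have := charpoly_comp A X
  rwa [comp_X] at this

theorem charpoly_sub_one (A : Matrix m m R) : (A - 1).charpoly = A.charpoly.comp (X + 1) := by
  rw [charpoly_comp, charpoly_eq_det]
  congr 1
  rw [map_sub, map_add, map_one, map_one]
  abel

theorem charpoly_sq (N : Matrix m m R) :
    expand R 2 (N ^ 2).charpoly
      = N.charpoly * ((-1) ^ Fintype.card m * N.charpoly.comp (-X)) := by
  rw [expand_eq_comp_X_pow, charpoly_comp, charpoly_comp, charpoly_eq_det, ← Matrix.det_smul,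
    ← Matrix.det_mul]
  congr 1
  have hc : Commute (Matrix.scalar m (X : R[X])) ((C : R →+* R[X]).mapMatrix N) :=
    Matrix.scalar_commute _ (fun _ => Commute.all _ _) _
  have e1 : (-1 : R[X]) • (Matrix.scalar m (-X : R[X]) - (C : R →+* R[X]).mapMatrix N)
      = Matrix.scalar m (X : R[X]) + (C : R →+* R[X]).mapMatrix N := by
    rw [map_neg]
    simp only [smul_sub, neg_smul, one_smul, neg_neg, sub_neg_eq_add]
  rw [e1, map_pow, map_pow, ← hc.mul_self_sub_mul_self_eq']
  rw [pow_two, pow_two]

theorem charpoly_smul_comp (c : R) (B : Matrix m m R) :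
    (c • B).charpoly.comp (C c * X) = C c ^ Fintype.card m * B.charpoly := by
  rw [charpoly_comp, charpoly_eq_det, ← Matrix.det_smul]
  congr 1
  ext i j
  by_cases h : i = j
  · subst h
    simp [mul_sub]
  · simp [h]

theorem coeff_charpoly_smul [IsDomain R] (c : R) (hc : c ≠ 0) (B : Matrix m m R) (j : ℕ)
    (hj : j ≤ Fintype.card m) :
    (c • B).charpoly.coeff j = c ^ (Fintype.card m - j) * B.charpoly.coeff j := by
  have h := congrArg (fun p => p.coeff j) (charpoly_smul_comp c B)
  simp only [comp_C_mul_X_coeff, ← C_pow, coeff_C_mul] at h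
  have h2 : c ^ Fintype.card m = c ^ (Fintype.card m - j) * c ^ j := by
    rw [← pow_add, Nat.sub_add_cancel hj]
  rw [h2] at h
  have h3 : (c • B).charpoly.coeff j * c ^ j
      = (c ^ (Fintype.card m - j) * B.charpoly.coeff j) * c ^ j := by
    rw [h]; ring
  exact mul_right_cancel₀ (pow_ne_zero _ hc) h3

end mat

end Groth.Agent.Lib.Helper16.Intg
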