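import Mathlib
import Groth.Agent.Lib.Helper16.Intg1

/-!
# even polynomial H, padic divisibility
-/

set_option autoImplicit false

namespace Groth.Agent.Lib.Helper16.Intg

open Polynomial Matrix

/-- the even polynomial `(-1)^d f(1+z) f(1-z)` -/
noncomputable def HH (f : ℤ[X]) : ℤ[X] :=
  f.comp (X + 1) * ((-1) ^ f.natDegree * (f.comp (X + 1)).comp (-X))

theorem HH_comp_neg (f : ℤ[X]) : (HH f).comp (-X) = HH f := by
  unfold HH
  rw [mul_comp, mul_comp, pow_comp, neg_comp, one_comp, comp_assoc (f.comp (X + 1)) (-X) (-X),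
    neg_comp, X_comp, neg_neg, comp_X]
  ring

theorem HH_odd (f : ℤ[X]) (k : ℕ) (hk : ¬ 2 ∣ k) : (HH f).coeff k = 0 := by
  have h := congrArg (fun p => p.coeff k) (HH_comp_neg f)
  have e : (-X : ℤ[X]) = C (-1) * X := by simp
  simp only [e, comp_C_mul_X_coeff] at h
  have hodd : Odd k := Nat.odd_iff.mpr (by omega)
  rw [hodd.neg_one_pow] at h
  linarith

theorem natDegree_g1 (f : ℤ[X]) : (f.comp (X + 1)).natDegree = f.natDegree := by
  rw [natDegree_comp]
  have : (X + 1 : ℤ[X]).natDegree = 1 := by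
    have := natDegree_X_add_C (1 : ℤ)
    simpa using this
  rw [this, mul_one]

theorem natDegree_g2 (f : ℤ[X]) : ((f.comp (X + 1)).comp (-X)).natDegree = f.natDegree := by
  rw [natDegree_comp, natDegree_g1, natDegree_neg, natDegree_X, mul_one]

theorem lead_g1 (f : ℤ[X]) (hf : f.Monic) : (f.comp (X + 1)).leadingCoeff = 1 := by
  have : (X + 1 : ℤ[X]).natDegree = 1 := by
    have := natDegree_X_add_C (1 : ℤ)
    simpa using this
  rw [leadingCoeff_comp (by rw [this]; exact one_ne_zero), hf.leadingCoeff]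
  have h2 : (X + 1 : ℤ[X]).leadingCoeff = 1 := by
    have := leadingCoeff_X_add_C (1 : ℤ)
    simpa using this
  rw [h2]; simp

theorem lead_g2 (f : ℤ[X]) (hf : f.Monic) :
    ((f.comp (X + 1)).comp (-X)).leadingCoeff = (-1) ^ f.natDegree := by
  rw [leadingCoeff_comp (by rw [natDegree_neg, natDegree_X]; exact one_ne_zero), lead_g1 f hf,
    natDegree_g1, leadingCoeff_neg, leadingCoeff_X, one_mul]

theorem HH_natDegree_le (f : ℤ[X]) : (HH f).natDegree ≤ 2 * f.natDegree := by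
  unfold HH
  refine natDegree_mul_le.trans ?_
  have h1 : ((-1 : ℤ[X]) ^ f.natDegree * (f.comp (X + 1)).comp (-X)).natDegree ≤ f.natDegree := by
    refine natDegree_mul_le.trans ?_
    rw [natDegree_g2]
    have : ((-1 : ℤ[X]) ^ f.natDegree).natDegree = 0 := by
      rcases neg_one_pow_eq_or ℤ[X] f.natDegree with h | h <;> rw [h] <;> simp
    omega
  rw [natDegree_g1]
  omega

theorem HH_coeff_top (f : ℤ[X]) (hf : f.Monic) : (HH f).coeff (2 * f.natDegree) = 1 := by
  have e : HH f = (-1) ^ f.natDegree * (f.comp (X + 1) * (f.comp (X + 1)).comp (-X)) := by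
    unfold HH; ring
  have e2 : ((-1 : ℤ[X]) ^ f.natDegree) = C ((-1) ^ f.natDegree) := by simp
  rw [e, e2, coeff_C_mul]
  have : 2 * f.natDegree = (f.comp (X + 1)).natDegree + ((f.comp (X + 1)).comp (-X)).natDegree := by
    rw [natDegree_g1, natDegree_g2]; ring
  rw [this, coeff_mul_degree_add_degree, lead_g1 f hf, lead_g2 f hf, one_mul, ← pow_add,
    ← two_mul]
  simp

theorem aeval_HH {K : Type*} [Field K] (f : ℤ[X]) (α : K) (hα : aeval α f = 0) :
    aeval (α - 1) (HH f) = 0 := by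
  unfold HH
  rw [map_mul, aeval_comp]
  simp [hα]

/-- arithmetic lemma: divisibility can be checked `ℓ`-adically -/
theorem dvd_of_padic (a : ℤ) (N : ℕ)
    (h : ∀ (ℓ : ℕ) [Fact ℓ.Prime], ℓ ∣ N → ((N : ℤ) : ℤ_[ℓ]) ∣ ((a : ℤ) : ℤ_[ℓ])) : (N : ℤ) ∣ a := by
  rw [Int.natCast_dvd, Nat.dvd_iff_prime_pow_dvd_dvd]
  intro p k hp hpk
  rcases Nat.eq_zero_or_pos k with rfl | hk
  · simp
  have hpN : p ∣ N := dvd_trans (dvd_pow_self p hk.ne') hpk
  have _inst : Fact p.Prime := ⟨hp⟩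
  have h1 := h p hpN
  have h2 : ((p : ℤ_[p]) ^ k) ∣ ((N : ℤ) : ℤ_[p]) := by
    obtain ⟨c, hc⟩ := hpk
    refine ⟨(c : ℤ_[p]), ?_⟩
    rw [hc]; push_cast; ring
  have h3 := (PadicInt.pow_p_dvd_int_iff k a).mp (dvd_trans h2 h1)
  rw [← Int.natCast_dvd_natCast]
  rw [Int.natCast_pow]
  exact (Int.dvd_natAbs).mpr h3

end Groth.Agent.Lib.Helper16.Intg
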