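import Mathlib
import Groth.Agent.Lib.Helper16.Intg2

/-!
# integrality of (alpha-1)/sqrt n
-/

set_option autoImplicit false

namespace Groth.Agent.Lib.Helper16.Intg

open Polynomial Matrix

theorem coeff_dvd (n : ℕ) (hn : 0 < n) (g : ℕ) (f : ℤ[X]) (hf : f.Monic) (ℓ : ℕ) [Fact ℓ.Prime]
    (A B : Matrix (Fin g) (Fin g) ℤ_[ℓ])
    (hA : A.charpoly = f.map (Int.castRingHom ℤ_[ℓ]))
    (hB : (A - 1) ^ 2 = (n : ℤ_[ℓ]) • B) (j : ℕ) (hj : j ≤ f.natDegree) :
    (n : ℤ_[ℓ]) ^ (f.natDegree - j) ∣ (((HH f).coeff (2 * j) : ℤ) : ℤ_[ℓ]) := by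
  have hd : f.natDegree = g := by
    have h1 := hf.natDegree_map (Int.castRingHom ℤ_[ℓ])
    rw [← hA, Matrix.charpoly_natDegree_eq_dim, Fintype.card_fin] at h1
    exact h1.symm
  have hmap : (HH f).map (Int.castRingHom ℤ_[ℓ]) = expand ℤ_[ℓ] 2 ((A - 1) ^ 2).charpoly := by
    rw [charpoly_sq, charpoly_sub_one, hA, Fintype.card_fin, ← hd]
    unfold HH
    simp only [Polynomial.map_mul, Polynomial.map_comp, Polynomial.map_pow, Polynomial.map_neg,
      Polynomial.map_one, Polynomial.map_add, Polynomial.map_X]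
  have h1 : (((HH f).coeff (2 * j) : ℤ) : ℤ_[ℓ])
      = ((HH f).map (Int.castRingHom ℤ_[ℓ])).coeff (2 * j) := by
    rw [coeff_map]; rfl
  rw [h1, hmap, coeff_expand_mul' (by norm_num), hB,
    coeff_charpoly_smul _ (by exact_mod_cast hn.ne') _ _ (by rw [Fintype.card_fin, ← hd]; exact hj),
    Fintype.card_fin, hd]
  exact dvd_mul_right _ _

theorem main (n : ℕ) (hn : 0 < n) (g : ℕ) (f : Polynomial ℤ)
    (hf : f.Monic)
    (hA : ∀ (ℓ : ℕ) [Fact ℓ.Prime], ℓ ∣ n → ∃ A : Matrix (Fin g) (Fin g) ℤ_[ℓ],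
      A.charpoly = f.map (Int.castRingHom ℤ_[ℓ]) ∧
        ∃ B : Matrix (Fin g) (Fin g) ℤ_[ℓ], (A - 1) ^ 2 = (n : ℤ_[ℓ]) • B)
    (K : Type*) [Field K] [CharZero K] (α s : K) (hα : Polynomial.aeval α f = 0)
    (hs : s ^ 2 = (n : K)) :
    IsIntegral ℤ ((α - 1) / s) := by
  set d := f.natDegree with hd
  have hdiv : ∀ j, j ≤ d → ((n ^ (d - j) : ℕ) : ℤ) ∣ (HH f).coeff (2 * j) := by
    intro j hj
    apply dvd_of_padic
    intro ℓ _ hℓ
    have hℓn : ℓ ∣ n := (Fact.out : ℓ.Prime).dvd_of_dvd_pow hℓ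
    obtain ⟨A, hA1, B, hB⟩ := hA ℓ hℓn
    have := coeff_dvd n hn g f hf ℓ A B hA1 hB j hj
    push_cast
    exact this
  -- the quotients
  let c : ℕ → ℤ := fun j => (HH f).coeff (2 * j) / ((n : ℤ) ^ (d - j))
  have hc : ∀ j, j ≤ d → (HH f).coeff (2 * j) = (n : ℤ) ^ (d - j) * c j := by
    intro j hj
    have := hdiv j hj
    rw [Nat.cast_pow] at this
    exact (Int.mul_ediv_cancel' this).symm
  have hcd : c d = 1 := by
    have := hc d le_rfl
    rw [HH_coeff_top f hf, Nat.sub_self, pow_zero, one_mul] at this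
    exact this.symm
  -- the contracted polynomial
  set G := contract 2 (HH f) with hG
  have hGcoeff : ∀ j, G.coeff j = (HH f).coeff (2 * j) := by
    intro j
    rw [hG, coeff_contract (by norm_num), mul_comm]
  have hexp : expand ℤ 2 G = HH f := by
    ext k
    rw [coeff_expand (by norm_num)]
    split_ifs with h
    · rw [hGcoeff, Nat.mul_div_cancel' h]
    · exact (HH_odd f k h).symm
  have hGdeg : G.natDegree < d + 1 := by
    rw [Nat.lt_succ_iff, natDegree_le_iff_coeff_eq_zero]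
    intro N hN
    rw [hGcoeff]
    apply coeff_eq_zero_of_natDegree_lt
    have := HH_natDegree_le f
    omega
  have hG0 : aeval ((α - 1) ^ 2) G = 0 := by
    rw [← expand_aeval, hexp]
    exact aeval_HH f α hα
  rw [aeval_eq_sum_range' hGdeg] at hG0
  -- the monic polynomial
  set γ : K := (α - 1) ^ 2 / (n : K) with hγ
  have hnK : (n : K) ≠ 0 := by exact_mod_cast hn.ne'
  have hy : (α - 1) ^ 2 = (n : K) * γ := by rw [hγ]; field_simp
  have hterm : ∀ j ∈ Finset.range (d + 1),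
      G.coeff j • ((α - 1) ^ 2) ^ j = (n : K) ^ d * ((c j : K) * γ ^ j) := by
    intro j hj
    have hj' : j ≤ d := Nat.lt_succ_iff.mp (Finset.mem_range.mp hj)
    rw [hGcoeff, hc j hj', hy, zsmul_eq_mul, mul_pow]
    push_cast
    have : (n : K) ^ d = (n : K) ^ (d - j) * (n : K) ^ j := by
      rw [← pow_add, Nat.sub_add_cancel hj']
    rw [this]; ring
  rw [Finset.sum_congr rfl hterm, ← Finset.mul_sum] at hG0
  have hsum : ∑ j ∈ Finset.range (d + 1), (c j : K) * γ ^ j = 0 := by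
    rcases mul_eq_zero.mp hG0 with h | h
    · exact absurd h (pow_ne_zero _ hnK)
    · exact h
  rw [Finset.sum_range_succ, hcd, Finset.sum_range] at hsum
  let Q : ℤ[X] := X ^ d + ∑ j : Fin d, C (c j) * X ^ (j : ℕ)
  have hQm : Q.Monic := monic_X_pow_add (degree_sum_fin_lt _)
  have hQ0 : aeval γ Q = 0 := by
    simp only [Q, map_add, map_pow, aeval_X, map_sum, map_mul, aeval_C]
    rw [add_comm]
    simpa using hsum
  have hint : IsIntegral ℤ γ := ⟨Q, hQm, by rw [← aeval_def]; exact hQ0⟩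
  have hβ : ((α - 1) / s) ^ 2 = γ := by
    rw [div_pow, hs]
  rw [← hβ] at hint
  exact hint.of_pow (by norm_num)

end Groth.Agent.Lib.Helper16.Intg
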