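import Mathlib
import Groth.Agent.Lib.Helper20.KummerRegular
import Groth.Agent.Lib.Helper21.RegularLocal

/-!
# Cyclic covers (KC1): generic lemmas
-/

set_option autoImplicit false
universe u

namespace Groth.Agent.Lib.Helper16.KC

open Polynomial

/-- The zero ring is regular. -/
theorem isRegularRing_of_subsingleton (R : Type u) [CommRing R] [Subsingleton R] :
    IsRegularRing R := by
  refine ⟨fun p hp => ?_⟩
  exact absurd ((Ideal.eq_top_iff_one p).mpr (by
    rw [Subsingleton.elim (1 : R) 0]; exact p.zero_mem)) hp.ne_top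

/-- A regular ring is reduced. -/
theorem isReduced_of_isRegularRing (R : Type u) [CommRing R] [IsRegularRing R] : IsReduced R := by
  refine isReduced_ofLocalizationMaximal R (fun P hP => ?_)
  have : IsRegularLocalRing (Localization.AtPrime P) := inferInstance
  have : IsDomain (Localization.AtPrime P) :=
    Groth.Agent.Lib.Helper21.isDomain_of_isRegularLocalRing _
  infer_instance

open Groth.Agent.Lib.Helper20.KummerRegular in
theorem isSMulRegular_root' {A : Type u} [CommRing A] (s : A) (e : ℕ) (hs : IsSMulRegular A s)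
    (he : 0 < e) :
    IsSMulRegular (AdjoinRoot (kf s e)) (AdjoinRoot.root (kf s e)) := by
  have hfree : Module.Free A (AdjoinRoot (kf s e)) := (kf_monic s e he).free_adjoinRoot
  have hpow : IsSMulRegular (AdjoinRoot (kf s e)) ((AdjoinRoot.root (kf s e)) ^ e) := by
    rw [root_pow]
    exact IsSMulRegular.of_flat hs
  obtain ⟨m, rfl⟩ := Nat.exists_eq_succ_of_ne_zero he.ne'
  rw [pow_succ'] at hpow
  intro x y hxy
  apply hpow
  simp only [smul_eq_mul] at hxy ⊢
  rw [mul_comm _ (AdjoinRoot.root (kf s (m + 1)) ^ m), mul_assoc, mul_assoc, hxy]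

open Groth.Agent.Lib.Helper20.KummerRegular in
/-- Kummer covers of regular rings, without the domain hypothesis. -/
theorem isRegularRing_adjoinRoot' {A : Type u} [CommRing A] [IsRegularRing A]
    (s : A) (hs : IsSMulRegular A s) (hreg : IsRegularRing (A ⧸ Ideal.span {s}))
    (e : ℕ) (he : 0 < e) (heu : IsUnit (e : A)) :
    IsRegularRing (AdjoinRoot (X ^ e - C s : A[X])) := by
  change IsRegularRing (AdjoinRoot (kf s e))
  have hfin : Module.Finite A (AdjoinRoot (kf s e)) := (kf_monic s e he).finite_adjoinRoot
  have hfree : Module.Free A (AdjoinRoot (kf s e)) := (kf_monic s e he).free_adjoinRoot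
  have hnoeth : IsNoetherianRing (AdjoinRoot (kf s e)) :=
    Algebra.FiniteType.isNoetherianRing A _
  obtain ⟨u, hu⟩ := heu.exists_right_inv
  have hunr := formallyUnramified_away s e he u hu
  have hsub := (Algebra.basicOpen_subset_unramifiedLocus_iff (R := A)
    (f := AdjoinRoot.root (kf s e))).mpr hunr
  have hquot : IsRegularRing (AdjoinRoot (kf s e) ⧸ Ideal.span {AdjoinRoot.root (kf s e)}) :=
    IsRegularRing.of_ringEquiv (quotRootEquiv s e he).symm
  refine ⟨fun q hq => ?_⟩
  by_cases htq : AdjoinRoot.root (kf s e) ∈ q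
  · exact isRegularLocalRing_of_mem_of_quotient _ (isSMulRegular_root' s e hs he) hquot q htq
  · have hmem : (⟨q, hq⟩ : PrimeSpectrum (AdjoinRoot (kf s e))) ∈
        Algebra.unramifiedLocus A (AdjoinRoot (kf s e)) := hsub htq
    exact isRegularLocalRing_of_isUnramifiedAt q hmem

/-- If `s` is an element of `R` with `R/(s)` reduced, and `K` is an `R`-algebra with injective
structure map in which `s` becomes a unit and every element is of the form `r/s^n`, then `R` is
integrally closed in `K`. -/
theorem mem_range_of_isIntegral {R K : Type*} [CommRing R] [CommRing K] [Algebra R K]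
    (hinj : Function.Injective (algebraMap R K)) (s : R)
    (hsK : IsUnit (algebraMap R K s))
    (hrad : (Ideal.span {s}).IsRadical)
    (hgen : ∀ x : K, ∃ n : ℕ, algebraMap R K s ^ n * x ∈ (algebraMap R K).range)
    (x : K) (hx : IsIntegral R x) : x ∈ (algebraMap R K).range := by
  classical
  have hn := Nat.find_spec (hgen x)
  by_cases h0 : Nat.find (hgen x) = 0
  · rw [h0, pow_zero, one_mul] at hn
    exact hn
  · exfalso
    obtain ⟨m, hm⟩ := Nat.exists_eq_succ_of_ne_zero h0
    obtain ⟨y, hy⟩ := hn
    obtain ⟨P, hPm, hPx⟩ := hx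
    set n := Nat.find (hgen x) with hndef
    have h1 : eval₂ (algebraMap R K) (algebraMap R K (s ^ n) * x) (scaleRoots P (s ^ n)) = 0 :=
      scaleRoots_eval₂_eq_zero _ hPx
    rw [map_pow, ← hy, eval₂_at_apply] at h1
    have h2 : eval y (scaleRoots P (s ^ n)) = 0 := hinj (by rw [h1, map_zero])
    have hmem : y ^ P.natDegree ∈ Ideal.span {s} := by
      rw [eval_eq_sum_range, natDegree_scaleRoots, Finset.sum_range_succ,
        coeff_scaleRoots_natDegree, hPm.leadingCoeff, one_mul] at h2
      have h3 : y ^ P.natDegree = - ∑ i ∈ Finset.range P.natDegree,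
          (scaleRoots P (s ^ n)).coeff i * y ^ i := by
        rw [eq_neg_iff_add_eq_zero, add_comm]; exact h2
      rw [h3]
      refine (Ideal.span {s}).neg_mem (Ideal.sum_mem _ (fun i hi => ?_))
      rw [coeff_scaleRoots]
      have hi' : i < P.natDegree := Finset.mem_range.mp hi
      have : (s ^ n) ^ (P.natDegree - i) = s * s ^ (n * (P.natDegree - i) - 1) := by
        rw [← pow_mul, ← pow_succ']
        congr 1
        have : 0 < n * (P.natDegree - i) := Nat.mul_pos (by omega) (by omega)
        omega
      rw [this]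
      refine Ideal.mul_mem_right _ _ (Ideal.mul_mem_left _ _ ?_)
      exact Ideal.mul_mem_right _ _ (Ideal.subset_span rfl)
    have hy2 : y ∈ Ideal.span {s} := hrad ⟨P.natDegree, hmem⟩
    obtain ⟨z, hz⟩ := Ideal.mem_span_singleton.mp hy2
    have hlt : m < n := by omega
    refine Nat.find_min (hgen x) hlt ⟨z, ?_⟩
    have h4 : algebraMap R K s * (algebraMap R K s ^ m * x) = algebraMap R K s * algebraMap R K z := by
      rw [← mul_assoc, ← pow_succ', show m + 1 = n from hm.symm, ← hy, hz, map_mul]
    exact (hsK.mul_left_cancel h4).symm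

end Groth.Agent.Lib.Helper16.KC
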