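import Mathlib

/-!
# Cyclic covers (KC2): generic lemmas
-/

set_option autoImplicit false
universe u

namespace Groth.Agent.Lib.Helper16.KC

/-- Bezout data for coprime `α'`, `N'`. -/
theorem exists_bezout (α' N' : ℕ) (hN' : 0 < N') (hc : Nat.Coprime α' N') :
    ∃ (a : ℕ) (b : ℤ), (a : ℤ) * α' = b * N' + 1 := by
  by_cases h1 : N' = 1
  · exact ⟨0, -1, by subst h1; simp⟩
  · obtain ⟨m, -, hm⟩ := Nat.exists_mul_mod_eq_one_of_coprime hc (by omega)
    refine ⟨m, ((α' * m / N' : ℕ) : ℤ), ?_⟩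
    have h2 := Nat.div_add_mod (α' * m) N'
    rw [hm] at h2
    generalize α' * m / N' = q at h2 ⊢
    have h3 : ((N' * q + 1 : ℕ) : ℤ) = ((α' * m : ℕ) : ℤ) := by rw [h2]
    push_cast at h3
    linarith

theorem key_identity (d N' α' a : ℕ) (b : ℤ) (hab : (a : ℤ) * α' = b * N' + 1) (l j : ℕ) :
    (N' : ℤ) * ((l : ℤ) * α' + j * b -
      (((l * N' + j * a) / (d * N') : ℕ) : ℤ) * ((d * α' : ℕ) : ℤ)) =
      (α' : ℤ) * (((l * N' + j * a) % (d * N') : ℕ) : ℤ) - j := by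
  have hX := Nat.mod_add_div (l * N' + j * a) (d * N')
  generalize (l * N' + j * a) % (d * N') = i at hX ⊢
  generalize (l * N' + j * a) / (d * N') = q at hX ⊢
  have hX' : (i : ℤ) + ((d : ℤ) * N') * (q : ℤ) = (l : ℤ) * N' + j * a := by
    exact_mod_cast hX
  push_cast
  linear_combination (-(j : ℤ)) * hab - (α' : ℤ) * hX'

theorem floor_eq (d N' α' a : ℕ) (b : ℤ) (hd : 0 < d) (hN' : 0 < N')
    (hab : (a : ℤ) * α' = b * N' + 1) (l j : ℕ) (hj : j < N') :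
    ((((l * N' + j * a) % (d * N')) * (d * α') / (d * N') : ℕ) : ℤ) =
      (l : ℤ) * α' + j * b - (((l * N' + j * a) / (d * N') : ℕ) : ℤ) * ((d * α' : ℕ) : ℤ) ∧
    ((α' : ℤ) * (((l * N' + j * a) % (d * N') : ℕ) : ℤ)) % (N' : ℤ) = j := by
  have hk := key_identity d N' α' a b hab l j
  set i := (l * N' + j * a) % (d * N') with hi
  set z : ℤ := (l : ℤ) * α' + j * b -
    (((l * N' + j * a) / (d * N') : ℕ) : ℤ) * ((d * α' : ℕ) : ℤ) with hz
  have hN'z : (0 : ℤ) < N' := by exact_mod_cast hN'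
  have h1 : ((α' : ℤ) * (i : ℤ)) / (N' : ℤ) = z ∧ ((α' : ℤ) * (i : ℤ)) % (N' : ℤ) = j := by
    rw [Int.ediv_emod_unique hN'z]
    refine ⟨by linarith, by positivity, by exact_mod_cast hj⟩
  refine ⟨?_, h1.2⟩
  rw [← h1.1]
  have h2 : i * (d * α') / (d * N') = (i * α') / N' := by
    rw [show i * (d * α') = d * (i * α') by ring]
    exact Nat.mul_div_mul_left _ _ hd
  rw [h2, Int.natCast_div]
  push_cast
  rw [mul_comm]

theorem sigma_injective (d N' α' a : ℕ) (b : ℤ) (hd : 0 < d) (hN' : 0 < N')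
    (hab : (a : ℤ) * α' = b * N' + 1) (l j l' j' : ℕ) (hl : l < d) (hl' : l' < d)
    (hj : j < N') (hj' : j' < N')
    (h : (l * N' + j * a) % (d * N') = (l' * N' + j' * a) % (d * N')) : l = l' ∧ j = j' := by
  have h1 := (floor_eq d N' α' a b hd hN' hab l j hj).2
  have h2 := (floor_eq d N' α' a b hd hN' hab l' j' hj').2
  rw [h] at h1
  have hjj : j = j' := by
    have : (j : ℤ) = j' := by rw [← h1, ← h2]
    exact_mod_cast this
  subst hjj
  refine ⟨?_, rfl⟩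
  have h3 : l * N' + j * a ≡ l' * N' + j * a [MOD d * N'] := h
  have h4 : l * N' ≡ l' * N' [MOD d * N'] := Nat.ModEq.add_right_cancel' _ h3
  have h5 : l ≡ l' [MOD d] := Nat.ModEq.mul_right_cancel' hN'.ne' h4
  exact Nat.ModEq.eq_of_lt_of_lt h5 hl hl'

/-- The reindexing map. -/
def sigma (d N' a : ℕ) (hd : 0 < d) (hN' : 0 < N') : Fin d × Fin N' → Fin (d * N') :=
  fun k => ⟨(k.1.1 * N' + k.2.1 * a) % (d * N'), Nat.mod_lt _ (Nat.mul_pos hd hN')⟩

theorem sigma_bijective (d N' α' a : ℕ) (b : ℤ) (hd : 0 < d) (hN' : 0 < N')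
    (hab : (a : ℤ) * α' = b * N' + 1) : Function.Bijective (sigma d N' a hd hN') := by
  rw [Fintype.bijective_iff_injective_and_card]
  refine ⟨?_, by simp⟩
  rintro ⟨⟨l, hl⟩, ⟨j, hj⟩⟩ ⟨⟨l', hl'⟩, ⟨j', hj'⟩⟩ h
  have h' : (l * N' + j * a) % (d * N') = (l' * N' + j' * a) % (d * N') := by
    simpa [sigma] using congrArg Fin.val h
  obtain ⟨rfl, rfl⟩ := sigma_injective d N' α' a b hd hN' hab l j l' j' hl hl' hj hj' h'
  rfl

end Groth.Agent.Lib.Helper16.KC
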