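import Mathlib
import Groth.Agent.Lib.Helper16.KC1
import Groth.Agent.Lib.Helper16.KC2

/-!
# Cyclic covers (KC3): the model C = B[W,S]/(W^d-u, S^N'-W^a f) and its embedding
-/

set_option autoImplicit false
universe u

namespace Groth.Agent.Lib.Helper16.KC

open Polynomial
open Groth.Agent.Lib.Helper20.KummerRegular

section Units
variable {K : Type u} [CommRing K] (Tu Fu Uu : Kˣ) (N α : ℕ)

/-- the monomial `Tu^x * Fu^y` -/
def E (x y : ℤ) : Kˣ := Tu ^ x * Fu ^ y

theorem E_mul (x y x' y' : ℤ) : E Tu Fu x y * E Tu Fu x' y' = E Tu Fu (x + x') (y + y') := by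
  simp only [E, zpow_add]
  exact mul_mul_mul_comm _ _ _ _

theorem E_zpow (x y : ℤ) (n : ℤ) : E Tu Fu x y ^ n = E Tu Fu (n * x) (n * y) := by
  simp only [E, mul_zpow, ← zpow_mul]
  rw [mul_comm x, mul_comm y]

theorem E_pow (x y : ℤ) (n : ℕ) :
    HPow.hPow (E Tu Fu x y) n = E Tu Fu ((n : ℤ) * x) ((n : ℤ) * y) := by
  rw [← zpow_natCast, E_zpow]

theorem E_zero : E Tu Fu 0 0 = 1 := by simp [E]

theorem E_mul_F (x y : ℤ) : E Tu Fu x y * Fu = E Tu Fu x (y + 1) := by
  simp only [E, zpow_add_one, mul_assoc]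

theorem E_shift (hT : Tu ^ N = Uu * Fu ^ α) (x y : ℤ) (q : ℕ) :
    E Tu Fu (x + q * N) y = Uu ^ q * E Tu Fu x (y + q * α) := by
  have h1 : Tu ^ ((q : ℤ) * (N : ℤ)) = Uu ^ q * Fu ^ ((q : ℤ) * (α : ℤ)) := by
    rw [mul_comm (q : ℤ) (N : ℤ), zpow_mul, zpow_natCast, zpow_natCast, hT, mul_pow,
      mul_comm (q : ℤ) (α : ℤ), zpow_mul, zpow_natCast, zpow_natCast]
  simp only [E, zpow_add, h1]
  generalize Tu ^ x = A
  generalize Uu ^ q = U'
  generalize Fu ^ ((q : ℤ) * (α : ℤ)) = F1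
  generalize Fu ^ y = F2
  rw [mul_left_comm A U' F1, mul_assoc, mul_assoc, mul_comm F1 F2]

end Units

section Main

variable {B K : Type u} [CommRing B] [CommRing K] [Algebra B K]
variable (f : B) (u : Bˣ) (d N' α' a : ℕ) (b : ℤ)

/-- `B₁ = B[W]/(W^d - u)` -/
abbrev B1 : Type u := AdjoinRoot (kf (u : B) d)

/-- the element `W^a f` of `B₁` -/
noncomputable abbrev sC : B1 u d := AdjoinRoot.root (kf (u : B) d) ^ a * AdjoinRoot.of (kf (u : B) d) f

/-- `C = B₁[S]/(S^N' - W^a f)` -/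
abbrev CC : Type u := AdjoinRoot (kf (sC f u d a) N')

variable (Tu Fu : Kˣ)

/-- exponents `c_i = ⌊i α / N⌋` -/
def cExp (i : ℕ) : ℕ := i * (d * α') / (d * N')

/-- the generators `e_i = t^i f^{-c_i}` -/
noncomputable def eGen (i : ℕ) : K := ((E Tu Fu (i : ℤ) (-(cExp d N' α' i : ℤ)) : Kˣ) : K)

variable {f u d N' α' a b Tu Fu}
variable (hF : (Fu : K) = algebraMap B K f)
  (hT : Tu ^ (d * N') = Units.map (algebraMap B K : B →* K) u * Fu ^ (d * α'))
  (hab : (a : ℤ) * α' = b * N' + 1)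

include hT in
theorem w_pow : ((E Tu Fu (N' : ℤ) (-(α' : ℤ)) : Kˣ) : K) ^ d = algebraMap B K (u : B) := by
  rw [← Units.val_pow_eq_pow_val, E_pow]
  have h := E_shift Tu Fu (Units.map (algebraMap B K : B →* K) u) (d * N') (d * α') hT 0
    (-((d * α' : ℕ) : ℤ)) 1
  have h2 : E Tu Fu ((d : ℤ) * (N' : ℤ)) ((d : ℤ) * -(α' : ℤ)) =
      E Tu Fu (0 + ((1 : ℕ) : ℤ) * ((d * N' : ℕ) : ℤ)) (-((d * α' : ℕ) : ℤ)) := by
    congr 1 <;> push_cast <;> ring
  rw [h2, h, pow_one]
  have h3 : (-((d * α' : ℕ) : ℤ) + ((1 : ℕ) : ℤ) * ((d * α' : ℕ) : ℤ)) = 0 := by push_cast; ring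
  rw [h3, E_zero, mul_one]
  rfl

include hF hab in
theorem s_pow : ((E Tu Fu (a : ℤ) (-b) : Kˣ) : K) ^ N' =
    ((E Tu Fu (N' : ℤ) (-(α' : ℤ)) : Kˣ) : K) ^ a * algebraMap B K f := by
  rw [← hF, ← Units.val_pow_eq_pow_val, ← Units.val_pow_eq_pow_val, ← Units.val_mul, E_pow, E_pow]
  congr 1
  rw [E_mul_F]
  congr 1
  · ring
  · linear_combination hab

/-- `Φ₁ : B₁ → K`, `W ↦ t^N' f^{-α'}` -/
noncomputable def Phi1 (hT : Tu ^ (d * N') = Units.map (algebraMap B K : B →* K) u * Fu ^ (d * α')) :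
    B1 u d →ₐ[B] K :=
  AdjoinRoot.liftAlgHom (kf (u : B) d) (Algebra.ofId B K)
    ((E Tu Fu (N' : ℤ) (-(α' : ℤ)) : Kˣ) : K) (by
      rw [eval₂_sub, eval₂_pow, eval₂_X, eval₂_C, sub_eq_zero]
      exact w_pow hT)

theorem Phi1_root : Phi1 hT (AdjoinRoot.root (kf (u : B) d)) =
    ((E Tu Fu (N' : ℤ) (-(α' : ℤ)) : Kˣ) : K) :=
  AdjoinRoot.liftAlgHom_root _ _ _ _

/-- `Φ : C → K`, `S ↦ t^a f^{-b}` -/
noncomputable def Phi (hF : (Fu : K) = algebraMap B K f)
    (hT : Tu ^ (d * N') = Units.map (algebraMap B K : B →* K) u * Fu ^ (d * α'))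
    (hab : (a : ℤ) * α' = b * N' + 1) : CC f u d N' a →ₐ[B] K :=
  AdjoinRoot.liftAlgHom (kf (sC f u d a) N') (Phi1 hT)
    ((E Tu Fu (a : ℤ) (-b) : Kˣ) : K) (by
      rw [eval₂_sub, eval₂_pow, eval₂_X, eval₂_C, sub_eq_zero]
      change _ = (Phi1 hT) (sC f u d a)
      rw [map_mul, map_pow, Phi1_root]
      have : (Phi1 hT) (AdjoinRoot.of (kf (u : B) d) f) = algebraMap B K f :=
        (Phi1 hT).commutes f
      rw [this]
      exact s_pow hF hab)

theorem Phi_root : Phi hF hT hab (AdjoinRoot.root (kf (sC f u d a) N')) =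
    ((E Tu Fu (a : ℤ) (-b) : Kˣ) : K) :=
  AdjoinRoot.liftAlgHom_root _ _ _ _

theorem Phi_of (x : B1 u d) : Phi hF hT hab (AdjoinRoot.of (kf (sC f u d a) N') x) = Phi1 hT x :=
  AdjoinRoot.liftAlgHom_of _ _ _ _ _

section Basis

variable [IsDomain B] (hd : 0 < d) (hN' : 0 < N')

omit [IsDomain B] in
theorem kf_natDegree {A : Type u} [CommRing A] [Nontrivial A] (s : A) (e : ℕ) :
    (kf s e).natDegree = e := natDegree_X_pow_sub_C

include hd in
theorem nontrivial_B1 : Nontrivial (B1 u d) := by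
  have hdeg : (kf (u : B) d).degree ≠ 0 := by
    rw [degree_X_pow_sub_C hd]
    exact_mod_cast hd.ne'
  exact (AdjoinRoot.of.injective_of_degree_ne_zero hdeg).nontrivial

/-- the basis `W^l` of `B₁` over `B` -/
noncomputable def basis1 : Module.Basis (Fin d) B (B1 u d) :=
  (AdjoinRoot.powerBasis' (kf_monic (u : B) d hd)).basis.reindex
    (finCongr ((AdjoinRoot.powerBasis'_dim _).trans (kf_natDegree (u : B) d)))

theorem basis1_apply (l : Fin d) : basis1 (u := u) hd l = AdjoinRoot.root (kf (u : B) d) ^ (l : ℕ) := by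
  simp [basis1, Module.Basis.reindex_apply, PowerBasis.basis_eq_pow]

/-- the basis `S^j` of `C` over `B₁` -/
noncomputable def basis2 : Module.Basis (Fin N') (B1 u d) (CC f u d N' a) :=
  haveI := nontrivial_B1 (u := u) hd
  (AdjoinRoot.powerBasis' (kf_monic (sC f u d a) N' hN')).basis.reindex
    (finCongr ((AdjoinRoot.powerBasis'_dim _).trans (kf_natDegree (sC f u d a) N')))

theorem basis2_apply (j : Fin N') :
    basis2 (f := f) (a := a) hd hN' j = AdjoinRoot.root (kf (sC f u d a) N') ^ (j : ℕ) := by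
  simp [basis2, Module.Basis.reindex_apply, PowerBasis.basis_eq_pow]

/-- the basis `W^l S^j` of `C` over `B` -/
noncomputable def basisC : Module.Basis (Fin d × Fin N') B (CC f u d N' a) :=
  (basis1 (u := u) hd).smulTower (basis2 (f := f) (a := a) hd hN')

theorem basisC_apply (k : Fin d × Fin N') :
    basisC (f := f) (a := a) hd hN' k =
      AdjoinRoot.of (kf (sC f u d a) N') (AdjoinRoot.root (kf (u : B) d) ^ (k.1 : ℕ)) *
        AdjoinRoot.root (kf (sC f u d a) N') ^ (k.2 : ℕ) := by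
  rw [basisC, Module.Basis.smulTower_apply, basis1_apply, basis2_apply, Algebra.smul_def]
  rfl

theorem Phi_basisC (k : Fin d × Fin N') :
    Phi hF hT hab (basisC (f := f) (a := a) hd hN' k) =
      algebraMap B K (((u ^ ((k.1.1 * N' + k.2.1 * a) / (d * N')) : Bˣ) : B)) *
        eGen d N' α' Tu Fu (sigma d N' a hd hN' k).1 := by
  obtain ⟨⟨l, hl⟩, ⟨j, hj⟩⟩ := k
  rw [basisC_apply, map_mul, Phi_of, map_pow, Phi1_root, map_pow, Phi_root]
  simp only [sigma, eGen]
  have hX := Nat.mod_add_div (l * N' + j * a) (d * N')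
  have hfl := (floor_eq d N' α' a b hd hN' hab l j hj).1
  set i := (l * N' + j * a) % (d * N') with hi
  set q := (l * N' + j * a) / (d * N') with hq
  rw [← Units.val_pow_eq_pow_val, ← Units.val_pow_eq_pow_val, ← Units.val_mul, E_pow, E_pow, E_mul]
  have h1 : E Tu Fu ((l : ℤ) * (N' : ℤ) + (j : ℤ) * (a : ℤ)) ((l : ℤ) * -(α' : ℤ) + (j : ℤ) * -b) =
      E Tu Fu ((i : ℤ) + (q : ℤ) * ((d * N' : ℕ) : ℤ)) ((l : ℤ) * -(α' : ℤ) + (j : ℤ) * -b) := by
    congr 1
    have : ((i + d * N' * q : ℕ) : ℤ) = ((l * N' + j * a : ℕ) : ℤ) := by rw [hX]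
    push_cast at this ⊢
    linarith
  rw [h1, E_shift Tu Fu (Units.map (algebraMap B K : B →* K) u) (d * N') (d * α') hT, Units.val_mul]
  congr 1
  · rw [← map_pow, Units.coe_map]
    rfl
  · congr 2
    unfold cExp
    rw [hfl]
    ring

omit [IsDomain B] in
theorem cExp_le (i : ℕ) (hi : i < d * N') : cExp d N' α' i ≤ d * α' := by
  unfold cExp
  apply Nat.div_le_of_le_mul
  exact Nat.mul_le_mul_right _ hi.le

omit [IsDomain B] in
include hF in
theorem eGen_mul (i : ℕ) (hi : i < d * N') :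
    eGen d N' α' Tu Fu i * (algebraMap B K f) ^ (d * α') =
      algebraMap B K (f ^ (d * α' - cExp d N' α' i)) * (Tu : K) ^ i := by
  have hc := cExp_le (α' := α') i hi
  rw [map_pow, ← hF, ← Units.val_pow_eq_pow_val, ← Units.val_pow_eq_pow_val,
    ← Units.val_pow_eq_pow_val, eGen, ← Units.val_mul, ← Units.val_mul]
  congr 1
  unfold E
  rw [zpow_natCast, mul_assoc, mul_comm (Tu ^ i)]
  congr 1
  rw [← zpow_natCast Fu (d * α'), ← zpow_add, ← zpow_natCast Fu (d * α' - cExp d N' α' i)]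
  congr 1
  push_cast [Nat.cast_sub hc]
  ring

include hF in
theorem eGen_li (hf : f ≠ 0)
    (hLI : LinearIndependent B (fun i : Fin (d * N') => (Tu : K) ^ (i : ℕ))) :
    LinearIndependent B (fun i : Fin (d * N') => eGen d N' α' Tu Fu i) := by
  rw [Fintype.linearIndependent_iff] at hLI ⊢
  intro g hg i
  have h1 : ∑ i : Fin (d * N'), (g i * f ^ (d * α' - cExp d N' α' i)) • (Tu : K) ^ (i : ℕ) = 0 := by
    have h2 := congrArg (fun x => x * (algebraMap B K f) ^ (d * α')) hg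
    simp only [zero_mul, Finset.sum_mul] at h2
    rw [← h2]
    refine Finset.sum_congr rfl (fun i _ => ?_)
    rw [Algebra.smul_def, Algebra.smul_def, mul_assoc, eGen_mul hF i i.2, map_mul, mul_assoc]
  have h3 := hLI _ h1 i
  exact (mul_eq_zero.mp h3).resolve_right (pow_ne_zero _ hf)

include hF hd hN' in
theorem Phi_injective (hf : f ≠ 0)
    (hLI : LinearIndependent B (fun i : Fin (d * N') => (Tu : K) ^ (i : ℕ))) :
    Function.Injective (Phi (a := a) hF hT hab) := by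
  have hσ := (sigma_bijective d N' α' a b hd hN' hab).1
  have hli := (eGen_li (α' := α') hF hf hLI).comp _ hσ
  have hli2 := hli.units_smul
    (fun k : Fin d × Fin N' => u ^ ((k.1.1 * N' + k.2.1 * a) / (d * N')))
  rw [Fintype.linearIndependent_iff] at hli2
  rw [injective_iff_map_eq_zero]
  intro x hx
  have hrepr := (basisC (f := f) (a := a) hd hN').sum_repr x
  rw [← hrepr, map_sum] at hx
  have h0 : ∀ k, (basisC (f := f) (a := a) hd hN').repr x k = 0 := by
    apply hli2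
    rw [← hx]
    refine Finset.sum_congr rfl (fun k _ => ?_)
    rw [map_smul, Phi_basisC hF hT hab hd hN' k]
    simp only [Pi.smul_apply', Function.comp_apply, Units.smul_def, Algebra.smul_def]
  rw [← hrepr]
  exact Finset.sum_eq_zero (fun k _ => by rw [h0 k, zero_smul])

omit [IsDomain B] in
theorem eGen_eq (i : ℕ) :
    eGen d N' α' Tu Fu i = (Tu : K) ^ i * ((Fu⁻¹ : Kˣ) : K) ^ (cExp d N' α' i) := by
  rw [eGen, E, Units.val_mul, zpow_natCast, Units.val_pow_eq_pow_val, zpow_neg, zpow_natCast,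
    ← inv_pow, Units.val_pow_eq_pow_val]

omit [IsDomain B] in
theorem eGen_mul' (i : ℕ) :
    eGen d N' α' Tu Fu i * (Fu : K) ^ (cExp d N' α' i) = (Tu : K) ^ i := by
  rw [eGen_eq, mul_assoc, ← mul_pow, ← Units.val_mul, inv_mul_cancel, Units.val_one, one_pow,
    mul_one]

include hd hN' in
theorem eGen_mem_range (i : Fin (d * N')) :
    eGen d N' α' Tu Fu i ∈ (Phi (a := a) hF hT hab).range := by
  obtain ⟨k, hk⟩ := (sigma_bijective d N' α' a b hd hN' hab).2 i
  rw [AlgHom.mem_range]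
  refine ⟨(((u ^ ((k.1.1 * N' + k.2.1 * a) / (d * N')))⁻¹ : Bˣ) : B) •
    basisC (f := f) (a := a) hd hN' k, ?_⟩
  rw [map_smul, Phi_basisC hF hT hab hd hN' k, hk, Algebra.smul_def, ← mul_assoc, ← map_mul,
    ← Units.val_mul, inv_mul_cancel, Units.val_one, map_one, one_mul]

include hd hN' in
theorem Phi_range :
    (Phi (a := a) hF hT hab).range =
      Algebra.adjoin B (Set.range fun i : Fin (d * N') => eGen d N' α' Tu Fu i) := by
  apply le_antisymm
  · intro x hx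
    obtain ⟨c, rfl⟩ := (AlgHom.mem_range _).mp hx
    rw [← (basisC (f := f) (a := a) hd hN').sum_repr c, map_sum]
    refine Subalgebra.sum_mem _ (fun k _ => ?_)
    rw [map_smul, Phi_basisC hF hT hab hd hN' k]
    refine Subalgebra.smul_mem _ (Subalgebra.mul_mem _ (Subalgebra.algebraMap_mem _ _) ?_) _
    exact Algebra.subset_adjoin ⟨_, rfl⟩
  · apply Algebra.adjoin_le
    rintro _ ⟨i, rfl⟩
    exact eGen_mem_range hF hT hab hd hN' i

include hd hN' in
theorem exists_pow_mul_mem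
    (hgen : ∀ x : K, ∃ m : ℕ, x * (Fu : K) ^ m ∈
      Submodule.span B (Set.range fun i : Fin (d * N') => (Tu : K) ^ (i : ℕ))) (x : K) :
    ∃ n : ℕ, (Phi (a := a) hF hT hab (AdjoinRoot.root (kf (sC f u d a) N'))) ^ n * x ∈
      (Phi (a := a) hF hT hab).range := by
  obtain ⟨m, hm⟩ := hgen x
  have hspan : Submodule.span B (Set.range fun i : Fin (d * N') => (Tu : K) ^ (i : ℕ)) ≤
      Subalgebra.toSubmodule (Phi (a := a) hF hT hab).range := by
    rw [Submodule.span_le]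
    rintro _ ⟨i, rfl⟩
    change (Tu : K) ^ (i : ℕ) ∈ (Phi (a := a) hF hT hab).range
    rw [← eGen_mul' (d := d) (N' := N') (α' := α') (Fu := Fu) i, hF, ← map_pow]
    exact Subalgebra.mul_mem _ (eGen_mem_range hF hT hab hd hN' i) (Subalgebra.algebraMap_mem _ _)
  have hy := hspan hm
  refine ⟨N' * m, ?_⟩
  rw [Phi_root, pow_mul, s_pow hF hab, mul_pow, ← hF, mul_assoc, mul_comm _ x]
  refine Subalgebra.mul_mem _ (Subalgebra.pow_mem _ (Subalgebra.pow_mem _ ?_ _) _) hy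
  exact (AlgHom.mem_range _).mpr
    ⟨AdjoinRoot.of _ (AdjoinRoot.root (kf (u : B) d)), by rw [Phi_of, Phi1_root]⟩

end Basis

end Main

end Groth.Agent.Lib.Helper16.KC
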