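import Mathlib
import Groth.Agent.Lib.Helper16.KC3

/-!
# Cyclic covers (KC4)
-/

set_option autoImplicit false
universe u

namespace Groth.Agent.Lib.Helper16.KC

open Polynomial
open Groth.Agent.Lib.Helper20.KummerRegular

section Reg

variable {B : Type u} [CommRing B] [IsDomain B] [IsRegularRing B]
variable (f : B) (u : Bˣ) (d N' a : ℕ)

theorem isRegularRing_quot_unit {A : Type u} [CommRing A] [IsNoetherianRing A] (v : A)
    (hv : IsUnit v) : IsRegularRing (A ⧸ Ideal.span {v}) := by
  have : Subsingleton (A ⧸ Ideal.span {v}) := by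
    rw [Ideal.Quotient.subsingleton_iff, Ideal.span_singleton_eq_top]
    exact hv
  exact isRegularRing_of_subsingleton _

omit [IsDomain B] in
theorem isRegularRing_B1 (hd : 0 < d) (hdu : IsUnit ((d : ℕ) : B)) : IsRegularRing (B1 u d) :=
  isRegularRing_adjoinRoot' (u : B) (u.isUnit.isSMulRegular B)
    (isRegularRing_quot_unit _ u.isUnit) d hd hdu

omit [IsRegularRing B] [IsDomain B] in
theorem isUnit_root1 (hd : 0 < d) : IsUnit (AdjoinRoot.root (kf (u : B) d)) := by
  rw [← isUnit_pow_iff hd.ne', root_pow]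
  exact u.isUnit.map _

omit [IsRegularRing B] in
theorem isSMulRegular_sC (hd : 0 < d) (hf : f ≠ 0) : IsSMulRegular (B1 u d) (sC f u d a) := by
  have hfree : Module.Free B (B1 u d) := (kf_monic (u : B) d hd).free_adjoinRoot
  have h1 : IsSMulRegular (B1 u d) (AdjoinRoot.of (kf (u : B) d) f) := by
    have hf' : IsSMulRegular B f := fun x y h => mul_left_cancel₀ hf h
    exact IsSMulRegular.of_flat hf'
  exact IsSMulRegular.mul (((isUnit_root1 u d hd).pow a).isSMulRegular _) h1

omit [IsDomain B] in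
theorem isRegularRing_quot_sC (hd : 0 < d) (hdu : IsUnit ((d : ℕ) : B))
    (hregf : IsRegularRing (B ⧸ Ideal.span {f})) :
    IsRegularRing (B1 u d ⧸ Ideal.span {sC f u d a}) := by
  have h1 : Ideal.span {sC f u d a} =
      (Ideal.span {f}).map (AdjoinRoot.of (kf (u : B) d)) := by
    rw [Ideal.map_span, Set.image_singleton]
    exact Ideal.span_singleton_mul_left_unit ((isUnit_root1 u d hd).pow a) _
  have h2 : (kf (u : B) d).map (Ideal.Quotient.mk (Ideal.span {f})) =
      kf (Ideal.Quotient.mk (Ideal.span {f}) (u : B)) d := by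
    simp [kf, Polynomial.map_sub, Polynomial.map_pow]
  have h3 : IsRegularRing (AdjoinRoot (kf (Ideal.Quotient.mk (Ideal.span {f}) (u : B)) d)) := by
    have hu' : IsUnit (Ideal.Quotient.mk (Ideal.span {f}) (u : B)) := u.isUnit.map _
    refine isRegularRing_adjoinRoot' _ (hu'.isSMulRegular _) (isRegularRing_quot_unit _ hu') d hd ?_
    have := hdu.map (Ideal.Quotient.mk (Ideal.span {f}))
    rwa [map_natCast] at this
  let e1 : (B1 u d ⧸ Ideal.span {sC f u d a}) ≃+*
      (B1 u d ⧸ (Ideal.span {f}).map (AdjoinRoot.of (kf (u : B) d))) := Ideal.quotEquivOfEq h1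
  let e2 := (AdjoinRoot.quotEquivQuotMap (kf (u : B) d) (Ideal.span {f})).toRingEquiv
  have h3' : @IsRegularRing ((B ⧸ Ideal.span {f})[X] ⧸
      Ideal.span {Polynomial.map (Ideal.Quotient.mk (Ideal.span {f})) (kf (u : B) d)})
      (Ideal.Quotient.commRing _) := by
    rw [h2]; exact h3
  exact @IsRegularRing.of_ringEquiv _ (Ideal.Quotient.commRing _) _ _ (e1.trans e2).symm h3'

theorem isRegularRing_CC (hd : 0 < d) (hN' : 0 < N') (hf : f ≠ 0)
    (hdu : IsUnit ((d : ℕ) : B)) (hN'u : IsUnit ((N' : ℕ) : B))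
    (hregf : IsRegularRing (B ⧸ Ideal.span {f})) : IsRegularRing (CC f u d N' a) := by
  have := isRegularRing_B1 u d hd hdu
  refine isRegularRing_adjoinRoot' (sC f u d a) (isSMulRegular_sC f u d a hd hf)
    (isRegularRing_quot_sC f u d a hd hdu hregf) N' hN' ?_
  have := hN'u.map (algebraMap B (B1 u d))
  rwa [map_natCast] at this

omit [IsDomain B] in
theorem isRadical_span_root2 (hd : 0 < d) (hN' : 0 < N')
    (hdu : IsUnit ((d : ℕ) : B))
    (hregf : IsRegularRing (B ⧸ Ideal.span {f})) :
    (Ideal.span {AdjoinRoot.root (kf (sC f u d a) N')}).IsRadical := by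
  rw [Ideal.isRadical_iff_quotient_reduced]
  have h1 := isRegularRing_quot_sC f u d a hd hdu hregf
  have h2 : IsRegularRing (CC f u d N' a ⧸ Ideal.span {AdjoinRoot.root (kf (sC f u d a) N')}) :=
    IsRegularRing.of_ringEquiv (quotRootEquiv (sC f u d a) N' hN').symm
  exact isReduced_of_isRegularRing _

end Reg

end Groth.Agent.Lib.Helper16.KC
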