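import Mathlib
import Groth.Agent.Lib.Helper16.KC4

/-!
# Cyclic covers (KC5)
-/

set_option autoImplicit false
universe u

namespace Groth.Agent.Lib.Helper16.KC

open Polynomial
open Groth.Agent.Lib.Helper20.KummerRegular

theorem exists_coprime_decomp (α N : ℕ) (hN : 0 < N) :
    ∃ d α' N', 0 < d ∧ 0 < N' ∧ Nat.Coprime α' N' ∧ α = d * α' ∧ N = d * N' := by
  obtain ⟨g, m', n', hg, hc, h1, h2⟩ := Nat.exists_coprime' (m := α) (n := N)
    (Nat.gcd_pos_of_pos_right _ hN)
  refine ⟨g, m', n', hg, ?_, hc, by rw [h1, mul_comm], by rw [h2, mul_comm]⟩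
  rcases Nat.eq_zero_or_pos n' with h | h
  · rw [h, zero_mul] at h2; omega
  · exact h

theorem main_abstract {B K : Type u} [CommRing B] [IsDomain B] [IsRegularRing B] [CommRing K]
    [Algebra B K] (f : B) (u : Bˣ) (hf : f ≠ 0) (hregf : IsRegularRing (B ⧸ Ideal.span {f}))
    (N α : ℕ) (hN : 0 < N) (hNu : IsUnit ((N : ℕ) : B)) (Tu Fu : Kˣ)
    (hF : (Fu : K) = algebraMap B K f)
    (hT : Tu ^ N = Units.map (algebraMap B K : B →* K) u * Fu ^ α)
    (hLI : LinearIndependent B (fun i : Fin N => (Tu : K) ^ (i : ℕ)))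
    (hgen : ∀ x : K, ∃ m : ℕ, x * (Fu : K) ^ m ∈
      Submodule.span B (Set.range fun i : Fin N => (Tu : K) ^ (i : ℕ))) :
    ∃ (C : Type u) (_ : CommRing C) (_ : Algebra B C) (Φ : C →ₐ[B] K),
      Function.Injective Φ ∧ Module.Finite B C ∧ IsRegularRing C ∧
      Φ.range = Algebra.adjoin B (Set.range fun i : Fin N =>
        (Tu : K) ^ (i : ℕ) * ((Fu⁻¹ : Kˣ) : K) ^ ((i : ℕ) * α / N)) ∧
      ∀ x : K, IsIntegral B x → x ∈ Φ.range := by
  obtain ⟨d, α', N', hd, hN', hc, rfl, rfl⟩ := exists_coprime_decomp α N hN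
  obtain ⟨a, b, hab⟩ := exists_bezout α' N' hN' hc
  have hdu : IsUnit ((d : ℕ) : B) := by
    rw [Nat.cast_mul] at hNu
    exact isUnit_of_mul_isUnit_left hNu
  have hN'u : IsUnit ((N' : ℕ) : B) := by
    rw [Nat.cast_mul] at hNu
    exact isUnit_of_mul_isUnit_right hNu
  have hinj := Phi_injective (a := a) hF hT hab hd hN' hf hLI
  refine ⟨CC f u d N' a, inferInstance, inferInstance, Phi (a := a) hF hT hab, hinj, ?_,
    isRegularRing_CC f u d N' a hd hN' hf hdu hN'u hregf, ?_, ?_⟩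
  · have h1 : Module.Finite B (B1 u d) := (kf_monic (u : B) d hd).finite_adjoinRoot
    have h2 : Module.Finite (B1 u d) (CC f u d N' a) :=
      (kf_monic (sC f u d a) N' hN').finite_adjoinRoot
    exact Module.Finite.trans (B1 u d) _
  · rw [Phi_range hF hT hab hd hN']
    congr 2
    funext i
    rw [eGen_eq]
    rfl
  · intro x hx
    let _ : Algebra (CC f u d N' a) K := (Phi (a := a) hF hT hab).toRingHom.toAlgebra
    have : IsScalarTower B (CC f u d N' a) K :=
      IsScalarTower.of_algebraMap_eq (fun r => ((Phi (a := a) hF hT hab).commutes r).symm)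
    have hx' : IsIntegral (CC f u d N' a) x := hx.tower_top
    have hmem := mem_range_of_isIntegral (R := CC f u d N' a) (K := K) hinj
      (AdjoinRoot.root (kf (sC f u d a) N'))
      (by
        change IsUnit (Phi (a := a) hF hT hab (AdjoinRoot.root (kf (sC f u d a) N')))
        rw [Phi_root]
        exact Units.isUnit _)
      (isRadical_span_root2 f u d N' a hd hN' hdu hregf)
      (by
        intro y
        obtain ⟨n, hn⟩ := exists_pow_mul_mem hF hT hab hd hN' hgen y
        obtain ⟨c, hc⟩ := (AlgHom.mem_range _).mp hn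
        exact ⟨n, c, hc⟩)
      x hx'
    obtain ⟨c, hc⟩ := hmem
    exact (AlgHom.mem_range _).mpr ⟨c, hc⟩

end Groth.Agent.Lib.Helper16.KC
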