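import Mathlib
import Groth.Agent.Lib.Helper16.KC5

/-!
# Cyclic covers (KC6): the concrete statement
-/

set_option autoImplicit false
universe u

namespace Groth.Agent.Lib.Helper16.KC

open Polynomial
open Groth.Agent.Lib.Helper20.KummerRegular

section

variable (B : Type u) [CommRing B] (u : Bˣ) (f₁ : B) (α N : ℕ)

/-- `A' = B[t]/(t^N - u f^α)` -/
abbrev AA : Type u := AdjoinRoot (kf ((u : B) * f₁ ^ α) N)

/-- the image of `f` in `A'` -/
noncomputable abbrev fAA : AA B u f₁ α N := algebraMap B (AA B u f₁ α N) f₁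

/-- `K = A'[1/f]` -/
abbrev KK : Type u := Localization.Away (fAA B u f₁ α N)

end

theorem cyclicCover (B : Type u) [CommRing B] [IsDomain B] [IsRegularRing B]
    (N : ℕ) (hN : 0 < N) (hNu : IsUnit ((N : ℕ) : B)) (u : Bˣ) (α : ℕ) (f₁ : B) (hf₁ : f₁ ≠ 0)
    (hD : IsRegularRing (B ⧸ Ideal.span ({f₁} : Set B)))
    (A : Subalgebra B (KK B u f₁ α N))
    (hA : A = Algebra.adjoin B (Set.range fun i : Fin N =>
      algebraMap (AA B u f₁ α N) (KK B u f₁ α N)
        (AdjoinRoot.root (kf ((u : B) * f₁ ^ α) N) ^ (i : ℕ)) *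
      IsLocalization.Away.invSelf (S := KK B u f₁ α N) (fAA B u f₁ α N) ^ ((i : ℕ) * α / N))) :
    Module.Finite B A ∧
      IsIntegralClosure A (AA B u f₁ α N) (KK B u f₁ α N) ∧
      ∀ (Q : Ideal A) [Q.IsPrime], IsRegularLocalRing (Localization.AtPrime Q) := by
  have hp : (kf ((u : B) * f₁ ^ α) N).Monic := kf_monic _ _ hN
  have hfree : Module.Free B (AA B u f₁ α N) := hp.free_adjoinRoot
  have hfin : Module.Finite B (AA B u f₁ α N) := hp.finite_adjoinRoot
  -- basic elements of K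
  have hφ : algebraMap B (KK B u f₁ α N) f₁ =
      algebraMap (AA B u f₁ α N) (KK B u f₁ α N) (fAA B u f₁ α N) :=
    IsScalarTower.algebraMap_apply B (AA B u f₁ α N) (KK B u f₁ α N) f₁
  have hfι : algebraMap B (KK B u f₁ α N) f₁ *
      IsLocalization.Away.invSelf (S := KK B u f₁ α N) (fAA B u f₁ α N) = 1 := by
    rw [hφ]; exact IsLocalization.Away.mul_invSelf (fAA B u f₁ α N)
  let Fu : (KK B u f₁ α N)ˣ := Units.mkOfMulEqOne _ _ hfι
  have hF : (Fu : KK B u f₁ α N) = algebraMap B (KK B u f₁ α N) f₁ := rfl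
  have hFinv : ((Fu⁻¹ : (KK B u f₁ α N)ˣ) : KK B u f₁ α N) =
      IsLocalization.Away.invSelf (S := KK B u f₁ α N) (fAA B u f₁ α N) := rfl
  have htN : (algebraMap (AA B u f₁ α N) (KK B u f₁ α N)
      (AdjoinRoot.root (kf ((u : B) * f₁ ^ α) N))) ^ N =
      algebraMap B (KK B u f₁ α N) (u : B) * (Fu : KK B u f₁ α N) ^ α := by
    rw [← map_pow, root_pow, hF, ← map_pow, ← map_mul]
    exact (IsScalarTower.algebraMap_apply B (AA B u f₁ α N) _ _).symm
  have htu : IsUnit (algebraMap (AA B u f₁ α N) (KK B u f₁ α N)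
      (AdjoinRoot.root (kf ((u : B) * f₁ ^ α) N))) := by
    rw [← isUnit_pow_iff hN.ne', htN]
    exact (u.isUnit.map _).mul (Fu.isUnit.pow α)
  let Tu : (KK B u f₁ α N)ˣ := htu.unit
  have hTu : (Tu : KK B u f₁ α N) = algebraMap (AA B u f₁ α N) (KK B u f₁ α N)
      (AdjoinRoot.root (kf ((u : B) * f₁ ^ α) N)) := rfl
  have hT : Tu ^ N = Units.map (algebraMap B (KK B u f₁ α N) : B →* KK B u f₁ α N) u
      * Fu ^ α := by
    apply Units.ext
    rw [Units.val_pow_eq_pow_val, Units.val_mul, Units.val_pow_eq_pow_val, hTu, htN]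
    rfl
  -- injectivity of A' → K
  have hreg : IsSMulRegular (AA B u f₁ α N) (fAA B u f₁ α N) :=
    IsSMulRegular.of_flat (fun x y h => mul_left_cancel₀ hf₁ h)
  have hinjK : Function.Injective (algebraMap (AA B u f₁ α N) (KK B u f₁ α N)) := by
    apply IsLocalization.injective (KK B u f₁ α N) (M := Submonoid.powers (fAA B u f₁ α N))
    rw [Submonoid.powers_le]
    rw [mem_nonZeroDivisors_iff_right]
    intro x hx
    apply hreg
    simp only [smul_eq_mul, mul_zero]
    rw [mul_comm]; exact hx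
  -- linear independence and generation
  have hdim : (AdjoinRoot.powerBasis' hp).dim = N :=
    (AdjoinRoot.powerBasis'_dim _).trans (kf_natDegree _ N)
  have hLI0 : LinearIndependent B
      (fun i : Fin N => AdjoinRoot.root (kf ((u : B) * f₁ ^ α) N) ^ (i : ℕ)) := by
    have h1 := (AdjoinRoot.powerBasis' hp).basis.linearIndependent
    have h2 := h1.comp _ (finCongr hdim.symm).injective
    have h3 : (fun i : Fin N => AdjoinRoot.root (kf ((u : B) * f₁ ^ α) N) ^ (i : ℕ)) =
        (AdjoinRoot.powerBasis' hp).basis ∘ (finCongr hdim.symm) := by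
      funext i
      simp
    rw [h3]; exact h2
  have hspan0 : Submodule.span B
      (Set.range fun i : Fin N => AdjoinRoot.root (kf ((u : B) * f₁ ^ α) N) ^ (i : ℕ)) = ⊤ := by
    have h1 := (AdjoinRoot.powerBasis' hp).basis.span_eq
    rw [← h1]
    congr 1
    ext x
    constructor
    · rintro ⟨i, rfl⟩
      exact ⟨finCongr hdim.symm i, by simp [PowerBasis.basis_eq_pow]⟩
    · rintro ⟨i, rfl⟩
      exact ⟨finCongr hdim i, by simp [PowerBasis.basis_eq_pow]⟩
  let L : AA B u f₁ α N →ₗ[B] KK B u f₁ α N :=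
    (IsScalarTower.toAlgHom B (AA B u f₁ α N) (KK B u f₁ α N)).toLinearMap
  have hLcomp : (fun i : Fin N => (Tu : KK B u f₁ α N) ^ (i : ℕ)) =
      L ∘ (fun i : Fin N => AdjoinRoot.root (kf ((u : B) * f₁ ^ α) N) ^ (i : ℕ)) := by
    funext i
    simp [L, hTu]
  have hLI : LinearIndependent B (fun i : Fin N => (Tu : KK B u f₁ α N) ^ (i : ℕ)) := by
    rw [hLcomp]
    exact hLI0.map' L (LinearMap.ker_eq_bot.mpr hinjK)
  have hgen : ∀ x : KK B u f₁ α N, ∃ m : ℕ, x * (Fu : KK B u f₁ α N) ^ m ∈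
      Submodule.span B (Set.range fun i : Fin N => (Tu : KK B u f₁ α N) ^ (i : ℕ)) := by
    intro x
    obtain ⟨⟨y, ⟨_, m, rfl⟩⟩, hy⟩ := IsLocalization.surj (Submonoid.powers (fAA B u f₁ α N)) x
    refine ⟨m, ?_⟩
    have h1 : y ∈ Submodule.span B
        (Set.range fun i : Fin N => AdjoinRoot.root (kf ((u : B) * f₁ ^ α) N) ^ (i : ℕ)) := by
      rw [hspan0]; trivial
    have h2 := Submodule.apply_mem_span_image_of_mem_span L h1
    rw [← Set.range_comp, ← hLcomp] at h2
    have h3 : x * (Fu : KK B u f₁ α N) ^ m = L y := by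
      rw [hF, hφ, ← map_pow]; exact hy
    rw [h3]
    exact h2
  obtain ⟨C, _, _, Φ, hinj, hfinC, hregC, hrange, hint⟩ :=
    main_abstract f₁ u hf₁ hD N α hN hNu Tu Fu hF hT hLI hgen
  have hA' : A = Φ.range := by
    rw [hA, hrange]
    congr 2
    funext i
    rw [hTu, hFinv, map_pow]
  subst hA'
  let e : C ≃ₐ[B] Φ.range := AlgEquiv.ofInjective Φ hinj
  have hfinA : Module.Finite B Φ.range := Module.Finite.equiv e.toLinearEquiv
  refine ⟨hfinA, ?_, ?_⟩
  · have hint1 : Algebra.IsIntegral B (AA B u f₁ α N) := Algebra.IsIntegral.of_finite B _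
    refine ⟨Subtype.val_injective, ?_⟩
    intro x
    constructor
    · intro hx
      have hx' : IsIntegral B x := isIntegral_trans x hx
      exact ⟨⟨x, hint x hx'⟩, rfl⟩
    · rintro ⟨y, rfl⟩
      have hy : IsIntegral B y := IsIntegral.of_finite B y
      have hy' : IsIntegral B (algebraMap Φ.range (KK B u f₁ α N) y) :=
        hy.map (Φ.range.val)
      exact hy'.tower_top
  · have : IsRegularRing Φ.range := IsRegularRing.of_ringEquiv e.toRingEquiv
    intro Q _
    infer_instance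

end Groth.Agent.Lib.Helper16.KC
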