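import Mathlib
import Groth.Agent.Lib.Helper16.LocCohTorsion
import Groth.Agent.Lib.Helper16.LocCohLES
import Groth.Agent.Lib.Helper16.LocCohH0

/-!
# Local cohomology vanishing lemmas in module form (for S18726)
-/

set_option autoImplicit false

universe u
open CategoryTheory

namespace Groth.Agent.Lib.Helper16.KolH2

open Groth.Agent.Lib.Helper16.LC Groth.Agent.Lib.Helper16.Depth

section les

variable {R : Type u} [CommRing R] (I : Ideal R)
  {X₁ X₂ X₃ : Type u} [AddCommGroup X₁] [Module R X₁] [AddCommGroup X₂] [Module R X₂]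
  [AddCommGroup X₃] [Module R X₃]
  (f : X₁ →ₗ[R] X₂) (g : X₂ →ₗ[R] X₃) (hf : Function.Injective f) (hg : Function.Surjective g)
  (hfg : Function.Exact f g)

include hf hg hfg

theorem subsingleton_H_X₃ (p : ℕ) (h2 : Subsingleton (LocCoh.H I p X₂))
    (h1 : Subsingleton (LocCoh.H I (p + 1) X₁)) : Subsingleton (LocCoh.H I p X₃) := by
  have hS := shortExact_of_linearMaps f g hf hg hfg
  refine ⟨fun x y => ?_⟩
  suffices hz : ∀ z : LocCoh.H I p X₃, z = 0 by rw [hz x, hz y]
  intro z
  obtain ⟨y, rfl⟩ := Hmap_exact₃ I hS p z (h1.elim _ _)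
  have hy : y = 0 := h2.elim _ _
  rw [hy, map_zero]

theorem subsingleton_H_X₂ (p : ℕ) (h1 : Subsingleton (LocCoh.H I p X₁))
    (h3 : Subsingleton (LocCoh.H I p X₃)) : Subsingleton (LocCoh.H I p X₂) := by
  have hS := shortExact_of_linearMaps f g hf hg hfg
  refine ⟨fun x y => ?_⟩
  suffices hz : ∀ z : LocCoh.H I p X₂, z = 0 by rw [hz x, hz y]
  intro z
  obtain ⟨y, rfl⟩ := Hmap_exact₂ I hS p z (h3.elim _ _)
  have hy : y = 0 := h1.elim _ _
  rw [hy, map_zero]

end les

section tors

variable {R : Type u} [CommRing R] (I : Ideal R)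

theorem eq_zero_of_mem_torsionSub (T : Type u) [AddCommGroup T] [Module R T]
    (h : Subsingleton (LocCoh.H I 0 T)) (t : T) (ht : t ∈ DRing.torsionSub I T) : t = 0 := by
  obtain ⟨k, hk⟩ := ht
  obtain ⟨e, he⟩ := exists_ev1_eq I (ModuleCat.of R T) hk
  have h0 : ι I 0 (ModuleCat.of R T) k e = 0 := h.elim _ _
  have h2 := H0toM_ι I (ModuleCat.of R T) e
  rw [h0, map_zero, he] at h2
  exact h2.symm

theorem subsingleton_H_of_subsingleton (X : Type u) [AddCommGroup X] [Module R X] [Subsingleton X]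
    (p : ℕ) : Subsingleton (LocCoh.H I p X) := by
  apply subsingleton_H_of_forall
  intro k
  refine ⟨fun a b => ?_⟩
  suffices hz : ∀ e : E I p (ModuleCat.of R X) k, e = 0 by rw [hz a, hz b]
  intro e
  have hz : Limits.IsZero (ModuleCat.of R X) := ModuleCat.isZero_of_subsingleton _
  have : e = e.comp (Abelian.Ext.mk₀ (𝟙 (ModuleCat.of R X))) (add_zero p) := by
    rw [Abelian.Ext.comp_mk₀_id]
  rw [this, hz.eq_of_src (𝟙 _) 0, Abelian.Ext.mk₀_zero, Abelian.Ext.comp_zero]

theorem subsingleton_H_of_eq_top (hI : I = ⊤) (X : Type u) [AddCommGroup X] [Module R X]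
    (p : ℕ) : Subsingleton (LocCoh.H I p X) := by
  apply subsingleton_H_of_forall
  intro k
  have hsub : Subsingleton (R ⧸ I ^ k) := by
    rw [hI, Ideal.top_pow]
    exact Ideal.Quotient.subsingleton_iff.mpr rfl
  have hz : Limits.IsZero (Q I k) := by
    have : Subsingleton (Q I k) := hsub
    exact ModuleCat.isZero_of_subsingleton _
  refine ⟨fun a b => ?_⟩
  suffices hzero : ∀ e : E I p (ModuleCat.of R X) k, e = 0 by rw [hzero a, hzero b]
  intro e
  have : e = (Abelian.Ext.mk₀ (𝟙 (Q I k))).comp e (zero_add p) := by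
    rw [Abelian.Ext.mk₀_id_comp]
  rw [this, hz.eq_of_src (𝟙 _) 0, Abelian.Ext.mk₀_zero, Abelian.Ext.zero_comp]

end tors

section loc

variable {B : Type u} [CommRing B] [IsNoetherianRing B] [IsLocalRing B] (J : Ideal B)
  (X : Type u) [AddCommGroup X] [Module B X] [Module.Finite B X]

theorem subsingleton_H_of_lt_idealDepth' (n : ℕ) (hn : (n : ℕ∞) ≤ LocCoh.idealDepth J X)
    (i : ℕ) (hi : i < n) : Subsingleton (LocCoh.H J i X) := by
  by_cases hJtop : J = ⊤
  · exact subsingleton_H_of_eq_top J hJtop X i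
  have hJ : J ≤ IsLocalRing.maximalIdeal B := IsLocalRing.le_maximalIdeal hJtop
  by_cases hIM : J • (⊤ : Submodule B X) = ⊤
  · have hbot : (⊤ : Submodule B X) = ⊥ := by
      apply Submodule.eq_bot_of_le_smul_of_le_jacobson_bot J ⊤ Module.Finite.fg_top hIM.ge
      rw [IsLocalRing.jacobson_eq_maximalIdeal ⊥ bot_ne_top]
      exact hJ
    have : Subsingleton X := by
      refine ⟨fun a b => ?_⟩
      have ha : a ∈ (⊤ : Submodule B X) := trivial
      have hb : b ∈ (⊤ : Submodule B X) := trivial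
      rw [hbot, Submodule.mem_bot] at ha hb
      rw [ha, hb]
    exact subsingleton_H_of_subsingleton J X i
  · exact subsingleton_H_of_lt_idealDepth J X hIM n hn i hi

end loc

end Groth.Agent.Lib.Helper16.KolH2
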