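import Mathlib
import Groth.Agent.Lib.Helper18.QGor5
import Groth.Agent.Lib.Helper16.KolH2a

/-!
# Algebra lemmas for S18726 (torsion criterion, flat localization, kernel depth, quotient maps)
-/

set_option autoImplicit false

universe u
open IsLocalRing TensorProduct Pointwise

namespace Groth.Agent.Lib.Helper16.KolH2

open Groth.Agent.Lib.Helper18.QGor Groth.Agent.Lib.Helper18.FamCyc

section torsion

variable {B : Type u} [CommRing B] [IsNoetherianRing B] (J : Ideal B)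
  {X : Type u} [AddCommGroup X] [Module B X]

theorem mem_torsionSub_of_forall_prime (y : X)
    (h : ∀ q : PrimeSpectrum B, ¬ J ≤ q.asIdeal → ∃ s : B, s ∉ q.asIdeal ∧ s • y = 0) :
    y ∈ DRing.torsionSub J X := by
  let 𝔠 : Ideal B := Submodule.colon (⊥ : Submodule B X) {y}
  have hrad : J ≤ 𝔠.radical := by
    rw [Ideal.radical_eq_sInf]
    apply le_sInf
    rintro P ⟨hP1, hP2⟩
    by_contra hJP
    obtain ⟨s, hs, hsy⟩ := h ⟨P, hP2⟩ hJP
    apply hs
    apply hP1
    rw [Submodule.mem_colon_singleton, Submodule.mem_bot]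
    exact hsy
  obtain ⟨n, hn⟩ := Ideal.exists_pow_le_of_le_radical_of_fg hrad (IsNoetherian.noetherian J)
  refine ⟨n, fun a ha => ?_⟩
  have := hn ha
  rw [Submodule.mem_colon_singleton, Submodule.mem_bot] at this
  exact this

end torsion

section flatloc

variable {A : Type u} [CommRing A] {B : Type u} [CommRing B] [Algebra A B]
  {X₁ X₂ X₃ : Type u} [AddCommGroup X₁] [Module B X₁] [Module A X₁] [IsScalarTower A B X₁]
  [AddCommGroup X₂] [Module B X₂] [Module A X₂] [IsScalarTower A B X₂]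
  [AddCommGroup X₃] [Module B X₃] [Module A X₃] [IsScalarTower A B X₃]
  (ι : X₁ →ₗ[B] X₂) (π : X₂ →ₗ[B] X₃) (hι : Function.Injective ι) (hπ : Function.Surjective π)
  (hex : Function.Exact ι π)

include hι hπ hex in
theorem exists_smul_mem_of_flat_localized (q : Ideal B) [q.IsPrime]
    (hflat : Module.Flat A (LocalizedModule q.primeCompl X₃)) (I : Ideal A)
    (x : X₁) (hx : ι x ∈ I • (⊤ : Submodule A X₂)) :
    ∃ s : B, s ∉ q ∧ s • x ∈ I • (⊤ : Submodule A X₁) := by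
  set S := q.primeCompl
  have h1 := mem_smul_top_of_flat
    ((LocalizedModule.map S ι).restrictScalars A) ((LocalizedModule.map S π).restrictScalars A)
    (LocalizedModule.map_injective S ι hι) (LocalizedModule.map_surjective S π hπ)
    (LocalizedModule.map_exact S ι π hex) I (LocalizedModule.mk x (1 : S))
    (by
      change LocalizedModule.map S ι (LocalizedModule.mk x 1) ∈ _
      rw [LocalizedModule.map_mk]
      exact mk_mem_smul_top S _ hx)
  obtain ⟨s, hs, hsx⟩ := exists_smul_mem_of_mk_mem S I x h1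
  exact ⟨s, hs, hsx⟩

include hπ in
omit [Module A X₂] [IsScalarTower A B X₂] [Module A X₃] [IsScalarTower A B X₃] in
theorem exists_mem_sm_map_eq (I : Ideal A) :
    ∀ z ∈ SM B X₃ I, ∃ w ∈ SM B X₂ I, π w = z := by
  intro z hz
  induction hz using Submodule.smul_induction_on' with
  | smul b hb y _ =>
    obtain ⟨y', rfl⟩ := hπ y
    exact ⟨b • y', Submodule.smul_mem_smul hb Submodule.mem_top, map_smul _ _ _⟩
  | add u _ v _ hu hv =>
    obtain ⟨w₁, hw₁, h₁⟩ := hu
    obtain ⟨w₂, hw₂, h₂⟩ := hv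
    exact ⟨w₁ + w₂, Submodule.add_mem _ hw₁ hw₂, by rw [map_add, h₁, h₂]⟩

end flatloc

section kerdepth

variable {B : Type u} [CommRing B] [IsNoetherianRing B] (J : Ideal B)
  {X Y : Type u} [AddCommGroup X] [Module B X] [Module.Finite B X]
  [AddCommGroup Y] [Module B Y] [Module.Finite B Y]

theorem exact_subtype_ker_rangeRestrict (φ : X →ₗ[B] Y) :
    Function.Exact (LinearMap.ker φ).subtype φ.rangeRestrict := by
  intro y
  constructor
  · intro h
    have h' : φ y = 0 := by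
      have := congrArg Subtype.val h
      simpa using this
    exact ⟨⟨y, h'⟩, rfl⟩
  · rintro ⟨⟨z, hz⟩, rfl⟩
    apply Subtype.ext
    simpa using hz

theorem two_le_idealDepth_ker (φ : X →ₗ[B] Y)
    (hX : 2 ≤ LocCoh.idealDepth J X) (hY : 1 ≤ LocCoh.idealDepth J Y) :
    2 ≤ LocCoh.idealDepth J (LinearMap.ker φ) := by
  have hR : ((0 + 1 : ℕ) : ℕ∞) ≤ LocCoh.idealDepth J (LinearMap.range φ) :=
    le_idealDepth_X₁ J (LinearMap.range φ).subtype (LinearMap.range φ).mkQ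
      (Submodule.injective_subtype _) (Submodule.mkQ_surjective _)
      (LinearMap.exact_subtype_mkQ _) 0 (by exact_mod_cast hY) (by simp)
  have hK : ((1 + 1 : ℕ) : ℕ∞) ≤ LocCoh.idealDepth J (LinearMap.ker φ) :=
    le_idealDepth_X₁ J (LinearMap.ker φ).subtype φ.rangeRestrict
      (Submodule.injective_subtype _) (LinearMap.surjective_rangeRestrict φ)
      (exact_subtype_ker_rangeRestrict φ) 1 (by exact_mod_cast hX) (by exact_mod_cast hR)
  exact_mod_cast hK

end kerdepth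

section quotmaps

variable {A : Type u} [CommRing A] [IsLocalRing A] {B : Type u} [CommRing B] [Algebra A B]
  (M : Type u) [AddCommGroup M] [Module B M]

/-- the projection `M/𝔞M → M/𝔟M` -/
noncomputable def proj {𝔞 𝔟 : Ideal A} (h : 𝔞 ≤ 𝔟) : (M ⧸ SM B M 𝔞) →ₗ[B] (M ⧸ SM B M 𝔟) :=
  Submodule.mapQ _ _ LinearMap.id (fun _ hx => sm_mono h hx)

omit [IsLocalRing A] in
theorem proj_mk {𝔞 𝔟 : Ideal A} (h : 𝔞 ≤ 𝔟) (x : M) :
    proj M h (Submodule.Quotient.mk x : M ⧸ SM B M 𝔞) =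
      (Submodule.Quotient.mk x : M ⧸ SM B M 𝔟) := rfl

omit [IsLocalRing A] in
theorem proj_surjective {𝔞 𝔟 : Ideal A} (h : 𝔞 ≤ 𝔟) :
    Function.Surjective (proj (B := B) M h) := by
  intro y
  obtain ⟨x, rfl⟩ := Submodule.Quotient.mk_surjective _ y
  exact ⟨Submodule.Quotient.mk x, rfl⟩

theorem smul_mem_sm_of_mem (𝔞 : Ideal A) (ε : A) (hε : ∀ x ∈ maximalIdeal A, x * ε ∈ 𝔞) (x : M)
    (hx : x ∈ SM B M (maximalIdeal A)) : algebraMap A B ε • x ∈ SM B M 𝔞 := by
  induction hx using Submodule.smul_induction_on' with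
  | smul b hb y _ =>
    rw [← mul_smul]
    exact Submodule.smul_mem_smul (mul_mem_map_of_mem_map_maximalIdeal 𝔞 ε hε b hb)
      Submodule.mem_top
  | add u _ v _ hu hv =>
    rw [smul_add]
    exact Submodule.add_mem _ hu hv

/-- multiplication by `ε`: `M/mM → M/𝔞M` when `mε ⊆ 𝔞` -/
noncomputable def mulEps (𝔞 : Ideal A) (ε : A) (hε : ∀ x ∈ maximalIdeal A, x * ε ∈ 𝔞) :
    (M ⧸ SM B M (maximalIdeal A)) →ₗ[B] (M ⧸ SM B M 𝔞) :=
  Submodule.mapQ _ _ (LinearMap.lsmul B M (algebraMap A B ε))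
    (fun x hx => smul_mem_sm_of_mem M 𝔞 ε hε x hx)

theorem mulEps_mk (𝔞 : Ideal A) (ε : A) (hε : ∀ x ∈ maximalIdeal A, x * ε ∈ 𝔞) (x : M) :
    mulEps (B := B) M 𝔞 ε hε (Submodule.Quotient.mk x) =
      Submodule.Quotient.mk (algebraMap A B ε • x) := rfl

omit [IsLocalRing A] in
theorem sm_sup_span (𝔞 : Ideal A) (ε : A) :
    SM B M (𝔞 ⊔ Ideal.span {ε}) = SM B M 𝔞 ⊔ (algebraMap A B ε) • (⊤ : Submodule B M) := by
  change (Ideal.map (algebraMap A B) (𝔞 ⊔ Ideal.span {ε})) • ⊤ = _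
  rw [Ideal.map_sup, Ideal.map_span, Set.image_singleton, Submodule.sup_smul,
    Submodule.ideal_span_singleton_smul]

omit [IsLocalRing A] in
theorem exists_of_mem_sm_sup_span (𝔞 : Ideal A) (ε : A) (x : M)
    (hx : x ∈ SM B M (𝔞 ⊔ Ideal.span {ε})) :
    ∃ t ∈ SM B M 𝔞, ∃ e : M, x = t + algebraMap A B ε • e := by
  rw [sm_sup_span] at hx
  obtain ⟨w, hw, v, hv, hwv⟩ := Submodule.mem_sup.1 hx
  obtain ⟨y, -, rfl⟩ := (Submodule.mem_smul_pointwise_iff_exists _ _ _).1 hv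
  exact ⟨w, hw, y, hwv.symm⟩

omit [IsLocalRing A] in
theorem smul_mem_sm_sup_span (𝔞 : Ideal A) (ε : A) (x : M) :
    algebraMap A B ε • x ∈ SM B M (𝔞 ⊔ Ideal.span {ε}) :=
  Submodule.smul_mem_smul (Ideal.mem_map_of_mem _
    (Ideal.mem_sup_right (Ideal.subset_span rfl))) Submodule.mem_top

variable [Module A M] [IsScalarTower A B M]

theorem mulEps_injective (K : ∀ (I' : Ideal A) (a : A), a ∉ I' → ∀ x : M,
      a • x ∈ I' • (⊤ : Submodule A M) → x ∈ maximalIdeal A • (⊤ : Submodule A M))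
    (𝔞 : Ideal A) (ε : A) (hε : ∀ x ∈ maximalIdeal A, x * ε ∈ 𝔞) (ha : ε ∉ 𝔞) :
    Function.Injective (mulEps (B := B) M 𝔞 ε hε) := by
  rw [injective_iff_map_eq_zero]
  intro y hy
  obtain ⟨x, rfl⟩ := Submodule.Quotient.mk_surjective _ y
  rw [mulEps_mk, Submodule.Quotient.mk_eq_zero] at hy
  rw [Submodule.Quotient.mk_eq_zero]
  have h1 : ε • x ∈ 𝔞 • (⊤ : Submodule A M) := by
    rw [← mem_map_smul_top_iff (B := B), ← algebraMap_smul B ε x]
    exact hy
  exact (mem_map_smul_top_iff (maximalIdeal A) x).2 (K 𝔞 ε ha x h1)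

omit [Module A M] [IsScalarTower A B M] in
theorem exact_mulEps_proj (𝔞 : Ideal A) (ε : A) (hε : ∀ x ∈ maximalIdeal A, x * ε ∈ 𝔞) :
    Function.Exact (mulEps (B := B) M 𝔞 ε hε)
      (proj M (le_sup_left : 𝔞 ≤ 𝔞 ⊔ Ideal.span {ε})) := by
  intro z
  constructor
  · intro hz
    obtain ⟨x, rfl⟩ := Submodule.Quotient.mk_surjective _ z
    rw [proj_mk, Submodule.Quotient.mk_eq_zero] at hz
    obtain ⟨t, ht, e, hxe⟩ := exists_of_mem_sm_sup_span M 𝔞 ε x hz
    refine ⟨Submodule.Quotient.mk e, ?_⟩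
    rw [mulEps_mk, Submodule.Quotient.eq, hxe]
    have : algebraMap A B ε • e - (t + algebraMap A B ε • e) = -t := by abel
    rw [this]
    exact Submodule.neg_mem _ ht
  · rintro ⟨y, rfl⟩
    obtain ⟨x, rfl⟩ := Submodule.Quotient.mk_surjective _ y
    rw [mulEps_mk, proj_mk, Submodule.Quotient.mk_eq_zero]
    exact smul_mem_sm_sup_span M 𝔞 ε x

end quotmaps

end Groth.Agent.Lib.Helper16.KolH2
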