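import Mathlib
import Groth.Agent.Lib.Helper16.KolH2b

/-!
# The modules F_𝔞 = ker(u mod 𝔞) and their transition maps (for S18726)
-/

set_option autoImplicit false

universe u
open IsLocalRing TensorProduct Pointwise

namespace Groth.Agent.Lib.Helper16.KolH2

open Groth.Agent.Lib.Helper18.QGor Groth.Agent.Lib.Helper18.FamCyc

section defs

variable {A B : Type u} [CommRing A] [CommRing B] [IsLocalRing A] [Algebra A B]
  {E0 E1 : Type u} [AddCommGroup E0] [Module B E0] [AddCommGroup E1] [Module B E1]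
  (u : E0 →ₗ[B] E1)

/-- `u` modulo `𝔞` -/
noncomputable def ub (𝔞 : Ideal A) : (E0 ⧸ SM B E0 𝔞) →ₗ[B] (E1 ⧸ SM B E1 𝔞) :=
  Submodule.mapQ _ _ u (sm_le_comap 𝔞 u)

omit [IsLocalRing A] in
theorem ub_mk (𝔞 : Ideal A) (x : E0) :
    ub u 𝔞 (Submodule.Quotient.mk x) = Submodule.Quotient.mk (u x) := rfl

omit [IsLocalRing A] in
theorem ub_proj {𝔞 𝔟 : Ideal A} (h : 𝔞 ≤ 𝔟) (y : E0 ⧸ SM B E0 𝔞) :
    ub u 𝔟 (proj E0 h y) = proj E1 h (ub u 𝔞 y) := by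
  obtain ⟨x, rfl⟩ := Submodule.Quotient.mk_surjective _ y
  rfl

theorem ub_mulEps (𝔞 : Ideal A) (ε : A) (hε : ∀ x ∈ maximalIdeal A, x * ε ∈ 𝔞)
    (y : E0 ⧸ SM B E0 (maximalIdeal A)) :
    ub u 𝔞 (mulEps E0 𝔞 ε hε y) = mulEps E1 𝔞 ε hε (ub u (maximalIdeal A) y) := by
  obtain ⟨x, rfl⟩ := Submodule.Quotient.mk_surjective _ y
  rw [mulEps_mk, ub_mk, ub_mk, mulEps_mk, map_smul]

/-- `F_𝔞 = ker (u mod 𝔞)` -/
noncomputable abbrev Fa (𝔞 : Ideal A) : Submodule B (E0 ⧸ SM B E0 𝔞) := LinearMap.ker (ub u 𝔞)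

/-- the transition map `F_𝔞 → F_𝔟` -/
noncomputable def gF {𝔞 𝔟 : Ideal A} (h : 𝔞 ≤ 𝔟) : Fa u 𝔞 →ₗ[B] Fa u 𝔟 :=
  (proj E0 h).restrict (fun y hy => by
    rw [LinearMap.mem_ker] at hy ⊢
    rw [ub_proj, hy, map_zero])

omit [IsLocalRing A] in
theorem gF_val {𝔞 𝔟 : Ideal A} (h : 𝔞 ≤ 𝔟) (y : Fa u 𝔞) :
    ((gF u h y : Fa u 𝔟) : E0 ⧸ SM B E0 𝔟) = proj E0 h (y : E0 ⧸ SM B E0 𝔞) := rfl

/-- multiplication by `ε`: `F_m → F_𝔞` -/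
noncomputable def φF (𝔞 : Ideal A) (ε : A) (hε : ∀ x ∈ maximalIdeal A, x * ε ∈ 𝔞) :
    Fa u (maximalIdeal A) →ₗ[B] Fa u 𝔞 :=
  (mulEps E0 𝔞 ε hε).restrict (fun y hy => by
    rw [LinearMap.mem_ker] at hy ⊢
    rw [ub_mulEps, hy, map_zero])

theorem φF_val (𝔞 : Ideal A) (ε : A) (hε : ∀ x ∈ maximalIdeal A, x * ε ∈ 𝔞)
    (y : Fa u (maximalIdeal A)) :
    ((φF u 𝔞 ε hε y : Fa u 𝔞) : E0 ⧸ SM B E0 𝔞) =
      mulEps E0 𝔞 ε hε (y : E0 ⧸ SM B E0 (maximalIdeal A)) := rfl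

variable [Module A E0] [IsScalarTower A B E0] [Module A E1] [IsScalarTower A B E1]

theorem φF_injective
    (K0 : ∀ (I' : Ideal A) (a : A), a ∉ I' → ∀ x : E0,
      a • x ∈ I' • (⊤ : Submodule A E0) → x ∈ maximalIdeal A • (⊤ : Submodule A E0))
    (𝔞 : Ideal A) (ε : A) (hε : ∀ x ∈ maximalIdeal A, x * ε ∈ 𝔞) (ha : ε ∉ 𝔞) :
    Function.Injective (φF u 𝔞 ε hε) := by
  intro a b hab
  apply Subtype.ext
  apply mulEps_injective E0 K0 𝔞 ε hε ha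
  have := congrArg Subtype.val hab
  rw [φF_val, φF_val] at this
  exact this

theorem exact_φF_gF
    (K1 : ∀ (I' : Ideal A) (a : A), a ∉ I' → ∀ x : E1,
      a • x ∈ I' • (⊤ : Submodule A E1) → x ∈ maximalIdeal A • (⊤ : Submodule A E1))
    (𝔞 : Ideal A) (ε : A) (hε : ∀ x ∈ maximalIdeal A, x * ε ∈ 𝔞) (ha : ε ∉ 𝔞) :
    Function.Exact (φF u 𝔞 ε hε)
      (gF u (le_sup_left : 𝔞 ≤ 𝔞 ⊔ Ideal.span {ε})).rangeRestrict := by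
  intro y
  constructor
  · intro h
    have h1 : proj E0 (le_sup_left : 𝔞 ≤ 𝔞 ⊔ Ideal.span {ε}) (y : E0 ⧸ SM B E0 𝔞) = 0 := by
      have h0 : gF u (le_sup_left : 𝔞 ≤ 𝔞 ⊔ Ideal.span {ε}) y = 0 := by
        have := congrArg Subtype.val h
        simpa using this
      rw [← gF_val, h0]
      rfl
    obtain ⟨xb, hxb⟩ := (exact_mulEps_proj E0 𝔞 ε hε _).1 h1
    have hxbF : xb ∈ Fa u (maximalIdeal A) := by
      rw [LinearMap.mem_ker]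
      apply mulEps_injective E1 K1 𝔞 ε hε ha
      rw [← ub_mulEps, hxb, map_zero]
      exact y.2
    refine ⟨⟨xb, hxbF⟩, ?_⟩
    apply Subtype.ext
    rw [φF_val]
    exact hxb
  · rintro ⟨x, rfl⟩
    apply Subtype.ext
    apply Subtype.ext
    change proj E0 (le_sup_left : 𝔞 ≤ 𝔞 ⊔ Ideal.span {ε})
      (mulEps E0 𝔞 ε hε (x : E0 ⧸ SM B E0 (maximalIdeal A))) = 0
    exact (exact_mulEps_proj E0 𝔞 ε hε _).2 ⟨_, rfl⟩

end defs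

end Groth.Agent.Lib.Helper16.KolH2
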