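import Mathlib
import Groth.Agent.Lib.Helper16.KolH2c

/-!
# The step lemma (F_𝔞 → F_𝔟 surjective) and H²_J(F_m) = 0 (for S18726)
-/

set_option autoImplicit false

universe u
open IsLocalRing TensorProduct Pointwise

namespace Groth.Agent.Lib.Helper16.KolH2

open Groth.Agent.Lib.Helper18.QGor Groth.Agent.Lib.Helper18.FamCyc Groth.Agent.Lib.Helper16

section main

variable {A B : Type u} [CommRing A] [CommRing B]
  [IsNoetherianRing A] [IsNoetherianRing B] [IsLocalRing A] [IsLocalRing B] [Algebra A B]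
  [IsLocalHom (algebraMap A B)] (J : Ideal B)
  {F E0 E1 G : Type u} [AddCommGroup F] [Module B F] [Module A F] [IsScalarTower A B F]
  [Module.Finite B F]
  [AddCommGroup E0] [Module B E0] [Module A E0] [IsScalarTower A B E0] [Module.Finite B E0]
  [Module.Flat A E0]
  [AddCommGroup E1] [Module B E1] [Module A E1] [IsScalarTower A B E1] [Module.Finite B E1]
  [Module.Flat A E1]
  [AddCommGroup G] [Module B G] [Module A G] [IsScalarTower A B G] [Module.Finite B G]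
  (f : F →ₗ[B] E0) (u : E0 →ₗ[B] E1) (v : E1 →ₗ[B] G)
  (hf : Function.Injective f) (hfu : Function.Exact f u) (huv : Function.Exact u v)
  (hv : Function.Surjective v)
  (hGU : ∀ q : PrimeSpectrum B, ¬ J ≤ q.asIdeal → FlatCA.FlatAt A q.asIdeal G)

include huv hv hGU in
theorem exists_smul_mem_range_gF (𝔞 : Ideal A) (ε : A)
    (hε : ∀ x ∈ maximalIdeal A, x * ε ∈ 𝔞) (ha : ε ∉ 𝔞)
    (y : Fa u (𝔞 ⊔ Ideal.span {ε})) (q : PrimeSpectrum B) (hq : ¬ J ≤ q.asIdeal) :
    ∃ s : B, s ∉ q.asIdeal ∧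
      s • y ∈ LinearMap.range (gF u (le_sup_left : 𝔞 ≤ 𝔞 ⊔ Ideal.span {ε})) := by
  obtain ⟨yb, hyb⟩ := y
  obtain ⟨x, rfl⟩ := Submodule.Quotient.mk_surjective _ yb
  have hux : u x ∈ SM B E1 (𝔞 ⊔ Ideal.span {ε}) := by
    rw [LinearMap.mem_ker, ub_mk, Submodule.Quotient.mk_eq_zero] at hyb
    exact hyb
  obtain ⟨t, ht, e₁, hte⟩ := exists_of_mem_sm_sup_span E1 𝔞 ε (u x) hux
  have hvt : v t ∈ SM B G 𝔞 := sm_le_comap 𝔞 v ht
  have hv0 : v t + algebraMap A B ε • v e₁ = 0 := by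
    rw [← map_smul, ← map_add, ← hte]
    exact huv.apply_apply_eq_zero x
  have h0 : ε • v e₁ ∈ 𝔞 • (⊤ : Submodule A G) := by
    rw [← mem_map_smul_top_iff (B := B), ← algebraMap_smul B ε (v e₁)]
    have : algebraMap A B ε • v e₁ = - v t := by
      rw [eq_neg_iff_add_eq_zero, add_comm]
      exact hv0
    rw [this]
    exact Submodule.neg_mem _ hvt
  have hflat : Module.Flat A (LocalizedModule q.asIdeal.primeCompl G) := hGU q hq
  have h1 : ε • (LocalizedModule.mk (v e₁) (1 : q.asIdeal.primeCompl)) ∈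
      𝔞 • (⊤ : Submodule A (LocalizedModule q.asIdeal.primeCompl G)) := by
    rw [LocalizedModule.smul'_mk]
    exact mk_mem_smul_top q.asIdeal.primeCompl 𝔞 h0
  have h2 := colon_of_flat 𝔞 ε ha _ h1
  obtain ⟨s, hs, hsv⟩ := exists_smul_mem_of_mk_mem q.asIdeal.primeCompl (maximalIdeal A) (v e₁) h2
  have hsv' : v (s • e₁) ∈ SM B G (maximalIdeal A) := by
    rw [map_smul]
    exact (mem_map_smul_top_iff (maximalIdeal A) _).2 hsv
  obtain ⟨e'', he'', hve''⟩ := exists_mem_sm_map_eq v hv (maximalIdeal A) _ hsv'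
  have hker : v (s • e₁ - e'') = 0 := by rw [map_sub, hve'', sub_self]
  obtain ⟨x', hx'⟩ := (huv _).1 hker
  have hux'' : u (s • x - algebraMap A B ε • x') ∈ SM B E1 𝔞 := by
    have : u (s • x - algebraMap A B ε • x') = s • t + algebraMap A B ε • e'' := by
      rw [map_sub, map_smul, map_smul, hx', hte, smul_add, smul_sub,
        smul_comm s (algebraMap A B ε) e₁]
      abel
    rw [this]
    exact Submodule.add_mem _ (Submodule.smul_mem _ s ht)
      (smul_mem_sm_of_mem E1 𝔞 ε hε e'' he'')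
  refine ⟨s, hs, ⟨⟨Submodule.Quotient.mk (s • x - algebraMap A B ε • x'), ?_⟩, ?_⟩⟩
  · rw [LinearMap.mem_ker, ub_mk, Submodule.Quotient.mk_eq_zero]
    exact hux''
  · apply Subtype.ext
    rw [gF_val]
    change proj E0 (le_sup_left : 𝔞 ≤ 𝔞 ⊔ Ideal.span {ε})
      (Submodule.Quotient.mk (s • x - algebraMap A B ε • x')) =
        s • (Submodule.Quotient.mk x : E0 ⧸ SM B E0 (𝔞 ⊔ Ideal.span {ε}))
    rw [proj_mk, ← Submodule.Quotient.mk_smul, Submodule.Quotient.eq]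
    have : s • x - algebraMap A B ε • x' - s • x = -(algebraMap A B ε • x') := by abel
    rw [this]
    exact Submodule.neg_mem _ (smul_mem_sm_sup_span E0 𝔞 ε x')

include huv hv hGU in
theorem gF_surjective (h0 : 2 ≤ LocCoh.idealDepth J (EGA4.FibMod A B E0))
    (h1 : 1 ≤ LocCoh.idealDepth J (EGA4.FibMod A B E1))
    (hH2m : Subsingleton (LocCoh.H J 2 (Fa u (maximalIdeal A))))
    (𝔞 : Ideal A) (N : ℕ) (hN : maximalIdeal A ^ N ≤ 𝔞) (h𝔞m : 𝔞 ≤ maximalIdeal A)
    (ε : A) (hεm : ε ∈ maximalIdeal A)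
    (hε : ∀ x ∈ maximalIdeal A, x * ε ∈ 𝔞) (ha : ε ∉ 𝔞) :
    Function.Surjective (gF u (le_sup_left : 𝔞 ≤ 𝔞 ⊔ Ideal.span {ε})) := by
  have K0 : ∀ (I' : Ideal A) (a : A), a ∉ I' → ∀ x : E0,
      a • x ∈ I' • (⊤ : Submodule A E0) → x ∈ maximalIdeal A • (⊤ : Submodule A E0) :=
    fun I' a ha x hx => colon_of_flat I' a ha x hx
  have K1 : ∀ (I' : Ideal A) (a : A), a ∉ I' → ∀ x : E1,
      a • x ∈ I' • (⊤ : Submodule A E1) → x ∈ maximalIdeal A • (⊤ : Submodule A E1) :=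
    fun I' a ha x hx => colon_of_flat I' a ha x hx
  have h𝔟m : 𝔞 ⊔ Ideal.span {ε} ≤ maximalIdeal A :=
    sup_le h𝔞m ((Ideal.span_singleton_le_iff_mem _).2 hεm)
  have hN𝔟 : maximalIdeal A ^ N ≤ 𝔞 ⊔ Ideal.span {ε} := hN.trans le_sup_left
  have d0𝔞 : ((2 : ℕ) : ℕ∞) ≤ LocCoh.idealDepth J (E0 ⧸ SM B E0 𝔞) :=
    le_idealDepth_quotient_of_primary J K0 2 (by exact_mod_cast h0) 𝔞 N hN h𝔞m
  have d1𝔞 : ((1 : ℕ) : ℕ∞) ≤ LocCoh.idealDepth J (E1 ⧸ SM B E1 𝔞) :=
    le_idealDepth_quotient_of_primary J K1 1 (by exact_mod_cast h1) 𝔞 N hN h𝔞m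
  have d0𝔟 : ((2 : ℕ) : ℕ∞) ≤ LocCoh.idealDepth J (E0 ⧸ SM B E0 (𝔞 ⊔ Ideal.span {ε})) :=
    le_idealDepth_quotient_of_primary J K0 2 (by exact_mod_cast h0) _ N hN𝔟 h𝔟m
  have d1𝔟 : ((1 : ℕ) : ℕ∞) ≤ LocCoh.idealDepth J (E1 ⧸ SM B E1 (𝔞 ⊔ Ideal.span {ε})) :=
    le_idealDepth_quotient_of_primary J K1 1 (by exact_mod_cast h1) _ N hN𝔟 h𝔟m
  have dF𝔞 : 2 ≤ LocCoh.idealDepth J (Fa u 𝔞) :=
    two_le_idealDepth_ker J (ub u 𝔞) (by exact_mod_cast d0𝔞) (by exact_mod_cast d1𝔞)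
  have dF𝔟 : 2 ≤ LocCoh.idealDepth J (Fa u (𝔞 ⊔ Ideal.span {ε})) :=
    two_le_idealDepth_ker J (ub u _) (by exact_mod_cast d0𝔟) (by exact_mod_cast d1𝔟)
  have H1a : Subsingleton (LocCoh.H J 1 (Fa u 𝔞)) :=
    subsingleton_H_of_lt_idealDepth' J _ 2 (by exact_mod_cast dF𝔞) 1 (by norm_num)
  have H0b : Subsingleton (LocCoh.H J 0 (Fa u (𝔞 ⊔ Ideal.span {ε}))) :=
    subsingleton_H_of_lt_idealDepth' J _ 2 (by exact_mod_cast dF𝔟) 0 (by norm_num)
  have H1R : Subsingleton (LocCoh.H J 1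
      (LinearMap.range (gF u (le_sup_left : 𝔞 ≤ 𝔞 ⊔ Ideal.span {ε})))) :=
    subsingleton_H_X₃ J (φF u 𝔞 ε hε)
      (gF u (le_sup_left : 𝔞 ≤ 𝔞 ⊔ Ideal.span {ε})).rangeRestrict
      (φF_injective u K0 𝔞 ε hε ha)
      (LinearMap.surjective_rangeRestrict _) (exact_φF_gF u K1 𝔞 ε hε ha) 1 H1a hH2m
  have H0T : Subsingleton (LocCoh.H J 0 ((Fa u (𝔞 ⊔ Ideal.span {ε})) ⧸
      LinearMap.range (gF u (le_sup_left : 𝔞 ≤ 𝔞 ⊔ Ideal.span {ε})))) :=
    subsingleton_H_X₃ J
      (LinearMap.range (gF u (le_sup_left : 𝔞 ≤ 𝔞 ⊔ Ideal.span {ε}))).subtype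
      (LinearMap.range (gF u (le_sup_left : 𝔞 ≤ 𝔞 ⊔ Ideal.span {ε}))).mkQ
      (Submodule.injective_subtype _) (Submodule.mkQ_surjective _)
      (LinearMap.exact_subtype_mkQ _) 0 H0b H1R
  intro y
  have hy0 : (Submodule.Quotient.mk y : (Fa u (𝔞 ⊔ Ideal.span {ε})) ⧸
      LinearMap.range (gF u (le_sup_left : 𝔞 ≤ 𝔞 ⊔ Ideal.span {ε}))) = 0 := by
    apply eq_zero_of_mem_torsionSub J _ H0T
    apply mem_torsionSub_of_forall_prime J
    intro q hq
    obtain ⟨s, hs, hsy⟩ := exists_smul_mem_range_gF J u v huv hv hGU 𝔞 ε hε ha y q hq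
    refine ⟨s, hs, ?_⟩
    rw [← Submodule.Quotient.mk_smul, Submodule.Quotient.mk_eq_zero]
    exact hsy
  rw [Submodule.Quotient.mk_eq_zero] at hy0
  exact hy0

include hf hfu huv hv hGU in
theorem subsingleton_H2_Fm (hH2 : Subsingleton (LocCoh.H J 2 (EGA4.FibMod A B F))) :
    Subsingleton (LocCoh.H J 2 (Fa u (maximalIdeal A))) := by
  let θ : (F ⧸ SM B F (maximalIdeal A)) →ₗ[B] Fa u (maximalIdeal A) :=
    (ub f (maximalIdeal A)).codRestrict (Fa u (maximalIdeal A)) (fun y => by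
      obtain ⟨x, rfl⟩ := Submodule.Quotient.mk_surjective _ y
      rw [LinearMap.mem_ker, ub_mk, ub_mk, hfu.apply_apply_eq_zero, Submodule.Quotient.mk_zero])
  have hθ : ∀ x : F, ((θ (Submodule.Quotient.mk x) : Fa u (maximalIdeal A)) :
      E0 ⧸ SM B E0 (maximalIdeal A)) = Submodule.Quotient.mk (f x) := fun x => rfl
  have hQU : ∀ q : PrimeSpectrum B, ¬ J ≤ q.asIdeal →
      Module.Flat A (LocalizedModule q.asIdeal.primeCompl (LinearMap.range u)) := by
    intro q hq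
    have hG : Module.Flat A (LocalizedModule q.asIdeal.primeCompl G) := hGU q hq
    have hE1 : Module.Flat A (LocalizedModule q.asIdeal.primeCompl E1) :=
      flat_localizedModule q.asIdeal.primeCompl
    exact flat_of_exact_of_flat
      ((LocalizedModule.map q.asIdeal.primeCompl (LinearMap.range u).subtype).restrictScalars A)
      ((LocalizedModule.map q.asIdeal.primeCompl v).restrictScalars A)
      (LocalizedModule.map_injective _ _ (Submodule.injective_subtype _))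
      (LocalizedModule.map_surjective _ v hv)
      (LocalizedModule.map_exact _ _ v (exact_subtype_range u v huv))
  have hK : ∀ k : LinearMap.ker θ, k ∈ DRing.torsionSub J (LinearMap.ker θ) := by
    rintro ⟨kb, hkb⟩
    obtain ⟨x, rfl⟩ := Submodule.Quotient.mk_surjective _ kb
    apply mem_torsionSub_of_forall_prime J
    intro q hq
    have hfx : f x ∈ maximalIdeal A • (⊤ : Submodule A E0) := by
      rw [LinearMap.mem_ker] at hkb
      have := congrArg Subtype.val hkb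
      rw [hθ, ZeroMemClass.coe_zero, Submodule.Quotient.mk_eq_zero] at this
      exact (mem_map_smul_top_iff (maximalIdeal A) _).1 this
    obtain ⟨s, hs, hsx⟩ := exists_smul_mem_of_flat_localized f u.rangeRestrict hf
      (LinearMap.surjective_rangeRestrict u) (exact_rangeRestrict f u hfu) q.asIdeal
      (hQU q hq) (maximalIdeal A) x hfx
    refine ⟨s, hs, ?_⟩
    apply Subtype.ext
    change s • (Submodule.Quotient.mk x : F ⧸ SM B F (maximalIdeal A)) = 0
    rw [← Submodule.Quotient.mk_smul, Submodule.Quotient.mk_eq_zero]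
    exact (mem_map_smul_top_iff (maximalIdeal A) _).2 hsx
  have hC : ∀ c : (Fa u (maximalIdeal A)) ⧸ LinearMap.range θ,
      c ∈ DRing.torsionSub J ((Fa u (maximalIdeal A)) ⧸ LinearMap.range θ) := by
    intro c
    obtain ⟨⟨yb, hyb⟩, rfl⟩ := Submodule.Quotient.mk_surjective _ c
    obtain ⟨x, rfl⟩ := Submodule.Quotient.mk_surjective _ yb
    apply mem_torsionSub_of_forall_prime J
    intro q hq
    have hux : u x ∈ maximalIdeal A • (⊤ : Submodule A E1) := by
      rw [LinearMap.mem_ker, ub_mk, Submodule.Quotient.mk_eq_zero] at hyb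
      exact (mem_map_smul_top_iff (maximalIdeal A) _).1 hyb
    obtain ⟨s, hs, hsx⟩ := exists_smul_mem_of_flat_localized (LinearMap.range u).subtype v
      (Submodule.injective_subtype _) hv (exact_subtype_range u v huv) q.asIdeal (hGU q hq)
      (maximalIdeal A) (⟨u x, ⟨x, rfl⟩⟩ : LinearMap.range u) hux
    have hsx' : s • (⟨u x, ⟨x, rfl⟩⟩ : LinearMap.range u) ∈
        SM B (LinearMap.range u) (maximalIdeal A) :=
      (mem_map_smul_top_iff (maximalIdeal A) _).2 hsx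
    obtain ⟨w, hw, hwx⟩ := exists_mem_sm_map_eq u.rangeRestrict
      (LinearMap.surjective_rangeRestrict u) (maximalIdeal A) _ hsx'
    have huw : u w = s • u x := by
      have := congrArg Subtype.val hwx
      simpa using this
    have hker : u (s • x - w) = 0 := by rw [map_sub, map_smul, huw, sub_self]
    obtain ⟨x₀, hx₀⟩ := (hfu _).1 hker
    refine ⟨s, hs, ?_⟩
    rw [← Submodule.Quotient.mk_smul, Submodule.Quotient.mk_eq_zero]
    refine ⟨Submodule.Quotient.mk x₀, ?_⟩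
    apply Subtype.ext
    rw [hθ, hx₀]
    change _ = s • (Submodule.Quotient.mk x : E0 ⧸ SM B E0 (maximalIdeal A))
    rw [← Submodule.Quotient.mk_smul, Submodule.Quotient.eq]
    have : s • x - w - s • x = -w := by abel
    rw [this]
    exact Submodule.neg_mem _ hw
  have H3K : Subsingleton (LocCoh.H J 3 (LinearMap.ker θ)) :=
    LC.subsingleton_H_succ_of_torsion J 2 _ hK
  have H2C : Subsingleton (LocCoh.H J 2 ((Fa u (maximalIdeal A)) ⧸ LinearMap.range θ)) :=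
    LC.subsingleton_H_succ_of_torsion J 1 _ hC
  have H2R : Subsingleton (LocCoh.H J 2 (LinearMap.range θ)) :=
    subsingleton_H_X₃ J (LinearMap.ker θ).subtype θ.rangeRestrict (Submodule.injective_subtype _)
      (LinearMap.surjective_rangeRestrict θ) (exact_subtype_ker_rangeRestrict θ) 2 hH2 H3K
  exact subsingleton_H_X₂ J (LinearMap.range θ).subtype (LinearMap.range θ).mkQ
    (Submodule.injective_subtype _) (Submodule.mkQ_surjective _)
    (LinearMap.exact_subtype_mkQ _) 2 H2R H2C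

end main

end Groth.Agent.Lib.Helper16.KolH2
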