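import Mathlib
import Groth.Agent.Lib.Helper16.KolH2d

/-!
# Kollár's H² flatness criterion: induction on m-primary ideals and Artin–Rees (for S18726)
-/

set_option autoImplicit false

universe u
open IsLocalRing TensorProduct Pointwise

namespace Groth.Agent.Lib.Helper16.KolH2

open Groth.Agent.Lib.Helper18.QGor Groth.Agent.Lib.Helper18.FamCyc Groth.Agent.Lib.Helper16

section final

variable {A B : Type u} [CommRing A] [CommRing B]
  [IsNoetherianRing A] [IsNoetherianRing B] [IsLocalRing A] [IsLocalRing B] [Algebra A B]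
  [IsLocalHom (algebraMap A B)] (J : Ideal B)
  {F E0 E1 G : Type u} [AddCommGroup F] [Module B F] [Module A F] [IsScalarTower A B F]
  [Module.Finite B F]
  [AddCommGroup E0] [Module B E0] [Module A E0] [IsScalarTower A B E0] [Module.Finite B E0]
  [Module.Flat A E0]
  [AddCommGroup E1] [Module B E1] [Module A E1] [IsScalarTower A B E1] [Module.Finite B E1]
  [Module.Flat A E1]
  [AddCommGroup G] [Module B G] [Module A G] [IsScalarTower A B G] [Module.Finite B G]
  (f : F →ₗ[B] E0) (u : E0 →ₗ[B] E1) (v : E1 →ₗ[B] G)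
  (hf : Function.Injective f) (hfu : Function.Exact f u) (huv : Function.Exact u v)
  (hv : Function.Surjective v)
  (hGU : ∀ q : PrimeSpectrum B, ¬ J ≤ q.asIdeal → FlatCA.FlatAt A q.asIdeal G)

include huv hv hGU in
/-- element form of the surjectivity of `F_𝔞 → F_m` for `m`-primary `𝔞` -/
theorem exists_lift_of_primary (h0 : 2 ≤ LocCoh.idealDepth J (EGA4.FibMod A B E0))
    (h1 : 1 ≤ LocCoh.idealDepth J (EGA4.FibMod A B E1))
    (hH2m : Subsingleton (LocCoh.H J 2 (Fa u (maximalIdeal A)))) (N : ℕ) :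
    ∀ (𝔞 : Ideal A), maximalIdeal A ^ N ≤ 𝔞 → 𝔞 ≤ maximalIdeal A →
      ∀ x : E0, u x ∈ SM B E1 (maximalIdeal A) →
        ∃ x' : E0, u x' ∈ SM B E1 𝔞 ∧ x - x' ∈ SM B E0 (maximalIdeal A) := by
  intro 𝔞
  induction 𝔞 using WellFoundedGT.induction with
  | ind 𝔞 ih =>
    intro hN h𝔞m x hx
    by_cases hIm : 𝔞 = maximalIdeal A
    · refine ⟨x, ?_, ?_⟩
      · rw [hIm]
        exact hx
      · rw [sub_self]
        exact Submodule.zero_mem _
    · have hlt : 𝔞 < maximalIdeal A := lt_of_le_of_ne h𝔞m hIm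
      obtain ⟨ε, hεm, hεI, hmul⟩ := exists_socle_elt 𝔞 N hN hlt
      have hlt' : 𝔞 < 𝔞 ⊔ Ideal.span {ε} := by
        refine lt_of_le_of_ne le_sup_left ?_
        intro h
        apply hεI
        rw [h]
        exact Ideal.mem_sup_right (Ideal.subset_span rfl)
      have h𝔟m : 𝔞 ⊔ Ideal.span {ε} ≤ maximalIdeal A :=
        sup_le h𝔞m ((Ideal.span_singleton_le_iff_mem _).2 hεm)
      obtain ⟨x₁, hx₁, hxx₁⟩ := ih (𝔞 ⊔ Ideal.span {ε}) hlt' (hN.trans le_sup_left) h𝔟m x hx
      have hsurj := gF_surjective J u v huv hv hGU h0 h1 hH2m 𝔞 N hN h𝔞m ε hεm hmul hεI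
      obtain ⟨z, hz⟩ := hsurj ⟨Submodule.Quotient.mk x₁, by
        rw [LinearMap.mem_ker, ub_mk, Submodule.Quotient.mk_eq_zero]
        exact hx₁⟩
      obtain ⟨zb, hzb⟩ := z
      obtain ⟨x₂, rfl⟩ := Submodule.Quotient.mk_surjective _ zb
      have hx₂ : u x₂ ∈ SM B E1 𝔞 := by
        rw [LinearMap.mem_ker, ub_mk, Submodule.Quotient.mk_eq_zero] at hzb
        exact hzb
      have h12 : x₂ - x₁ ∈ SM B E0 (𝔞 ⊔ Ideal.span {ε}) := by
        have := congrArg Subtype.val hz
        rw [gF_val] at this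
        change proj E0 (le_sup_left : 𝔞 ≤ 𝔞 ⊔ Ideal.span {ε}) (Submodule.Quotient.mk x₂) =
          Submodule.Quotient.mk x₁ at this
        rw [proj_mk, Submodule.Quotient.eq] at this
        exact this
      refine ⟨x₂, hx₂, ?_⟩
      have : x - x₂ = (x - x₁) - (x₂ - x₁) := by abel
      rw [this]
      exact Submodule.sub_mem _ hxx₁ (sm_mono h𝔟m h12)

include hf hfu huv hv hGU in
/-- **Kollár's criterion**: `H²_J(F/mF) = 0` implies that `G` is flat over `A`. -/
theorem flat_G (h0 : 2 ≤ LocCoh.idealDepth J (EGA4.FibMod A B E0))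
    (h1 : 1 ≤ LocCoh.idealDepth J (EGA4.FibMod A B E1))
    (hH2 : Subsingleton (LocCoh.H J 2 (EGA4.FibMod A B F))) : Module.Flat A G := by
  have hH2m := subsingleton_H2_Fm J f u v hf hfu huv hv hGU hH2
  obtain ⟨c, hc⟩ := Ideal.exists_pow_inf_eq_pow_smul (EGA4.mB A B) (LinearMap.range u)
  have hintQ : ∀ y : LinearMap.range u,
      (LinearMap.range u).subtype y ∈ maximalIdeal A • (⊤ : Submodule A E1) →
        y ∈ maximalIdeal A • (⊤ : Submodule A (LinearMap.range u)) := by
    rintro ⟨_, ⟨x, rfl⟩⟩ hy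
    have hx : u x ∈ SM B E1 (maximalIdeal A) := (mem_map_smul_top_iff (maximalIdeal A) _).2 hy
    obtain ⟨x', hx', hxx'⟩ := exists_lift_of_primary J u v huv hv hGU h0 h1 hH2m (c + 1)
      (maximalIdeal A ^ (c + 1)) le_rfl (Ideal.pow_le_self (Nat.succ_ne_zero c)) x hx
    have h1' : u x' ∈ (EGA4.mB A B) ^ (c + 1) • (⊤ : Submodule B E1) ⊓ LinearMap.range u := by
      refine ⟨?_, ⟨x', rfl⟩⟩
      have : SM B E1 (maximalIdeal A ^ (c + 1)) =
          (EGA4.mB A B) ^ (c + 1) • (⊤ : Submodule B E1) := by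
        change (Ideal.map (algebraMap A B) (maximalIdeal A ^ (c + 1))) • ⊤ = _
        rw [Ideal.map_pow]
      rw [← this]
      exact hx'
    rw [hc (c + 1) (Nat.le_succ c)] at h1'
    have h2 : u x' ∈ (EGA4.mB A B) • (LinearMap.range u) := by
      have hle : (EGA4.mB A B) ^ (c + 1 - c) •
          ((EGA4.mB A B) ^ c • (⊤ : Submodule B E1) ⊓ LinearMap.range u) ≤
            (EGA4.mB A B) • (LinearMap.range u) := by
        have : c + 1 - c = 1 := by omega
        rw [this, pow_one]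
        exact Submodule.smul_mono le_rfl inf_le_right
      exact hle h1'
    have h3 : (⟨u x', ⟨x', rfl⟩⟩ : LinearMap.range u) ∈
        SM B (LinearMap.range u) (maximalIdeal A) :=
      (Submodule.mem_smul_top_iff (EGA4.mB A B) (LinearMap.range u) ⟨u x', ⟨x', rfl⟩⟩).2 h2
    have h4 : u.rangeRestrict (x - x') ∈ SM B (LinearMap.range u) (maximalIdeal A) :=
      sm_le_comap (maximalIdeal A) u.rangeRestrict hxx'
    have h5 : (⟨u x, ⟨x, rfl⟩⟩ : LinearMap.range u) =
        ⟨u x', ⟨x', rfl⟩⟩ + u.rangeRestrict (x - x') := by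
      apply Subtype.ext
      simp
    rw [h5]
    exact (mem_map_smul_top_iff (maximalIdeal A) _).1 (Submodule.add_mem _ h3 h4)
  exact flat_of_exact_of_inter B ((LinearMap.range u).subtype.restrictScalars A)
    (v.restrictScalars A) hv (exact_subtype_range u v huv) hintQ

end final

end Groth.Agent.Lib.Helper16.KolH2
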