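import Groth.Agent.Lib.Helper16.KzInv3
import Groth.Agent.Lib.Helper16.KzComp1

/-!
# Homology of the cone of a zero map splits (helper16)
-/

set_option autoImplicit false
universe u

open CategoryTheory CategoryTheory.Limits CochainComplex Pretriangulated

attribute [local instance] HasDerivedCategory.standard

namespace Groth.Agent.Lib.Helper16.KzApp

open Groth.Agent.Lib.Helper16.KzInv

variable {A : Type u} [CommRing A]

/-- homology of the cone of the zero map splits. -/
theorem nonempty_homology_cone_zero (K : CochainComplex (ModuleCat.{u} A) ℤ) (m : ℤ) :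
    Nonempty ((mappingCone ((0 : A) • 𝟙 K)).homology m ≅ K.homology m ⊞ K.homology (m + 1)) := by
  have hT := tri_dist ((0 : A) • 𝟙 K)
  have hR := rot_of_distTriang _ hT
  have hzero : (DerivedCategory.Q.mapTriangle.obj
      (CochainComplex.mappingCone.triangle ((0 : A) • 𝟙 K)) : Triangle (D A)).rotate.mor₃ = 0 := by
    have h1 : (DerivedCategory.Q.mapTriangle.obj
      (CochainComplex.mappingCone.triangle ((0 : A) • 𝟙 K)) : Triangle (D A)).mor₁ =
        DerivedCategory.Q.map ((0 : A) • 𝟙 K) := rfl
    have h2 : (DerivedCategory.Q.mapTriangle.obj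
      (CochainComplex.mappingCone.triangle ((0 : A) • 𝟙 K)) : Triangle (D A)).mor₁ = 0 := by
      rw [h1, Q_map_smul_id]
      exact zero_smul A _
    change -(CategoryTheory.shiftFunctor (D A) (1 : ℤ)).map
      (DerivedCategory.Q.mapTriangle.obj
        (CochainComplex.mappingCone.triangle ((0 : A) • 𝟙 K)) : Triangle (D A)).mor₁ = 0
    rw [h2, Functor.map_zero, neg_zero]
  obtain ⟨e, -, -⟩ := exists_iso_binaryBiproduct_of_distTriang _ hR hzero
  have : PreservesBinaryBiproducts (DerivedCategory.homologyFunctor (ModuleCat.{u} A) m) :=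
    preservesBinaryBiproducts_of_preservesBiproducts _
  have e1 := (DerivedCategory.homologyFunctorFactors (ModuleCat.{u} A) m).app
    (mappingCone ((0 : A) • 𝟙 K))
  have e2 := (DerivedCategory.homologyFunctorFactors (ModuleCat.{u} A) m).app K
  have e3 := (DerivedCategory.homologyFunctorFactors (ModuleCat.{u} A) (m + 1)).app K
  have e4 := ((DerivedCategory.homologyFunctor (ModuleCat.{u} A) 0).shiftIso 1 m (m + 1)
    (by omega)).app (DerivedCategory.Q.obj K)
  have e5 := (DerivedCategory.homologyFunctor (ModuleCat.{u} A) m).mapIso e ≪≫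
    (DerivedCategory.homologyFunctor (ModuleCat.{u} A) m).mapBiprod _ _
  exact ⟨e1.symm ≪≫ e5 ≪≫ biprod.mapIso e2 (e4 ≪≫ e3)⟩

end Groth.Agent.Lib.Helper16.KzApp
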