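import Groth.Agent.Lib.Helper16.KzApp1
import Groth.Agent.Lib.Helper11.KzCompare

/-!
# Binomial index bookkeeping for Koszul homology of appended sequences (helper16)
-/

set_option autoImplicit false
universe u

open CategoryTheory CategoryTheory.Limits CochainComplex

namespace Groth.Agent.Lib.Helper16.KzApp

open Groth.Agent.Lib.Helper16.KzInv

section comb

/-- a finite index type with degrees whose fibres have binomial cardinalities -/
def IsBinom (r : ℕ) (ι : Type) [Fintype ι] (deg : ι → ℕ) : Prop :=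
  ∀ c : ℕ, Fintype.card {i // deg i = c} = r.choose c

theorem exists_equiv_of_isBinom {r : ℕ} {ι₁ ι₂ : Type} [Fintype ι₁] [Fintype ι₂]
    {deg₁ : ι₁ → ℕ} {deg₂ : ι₂ → ℕ} (h₁ : IsBinom r ι₁ deg₁) (h₂ : IsBinom r ι₂ deg₂) :
    ∃ e : ι₁ ≃ ι₂, ∀ i, deg₂ (e i) = deg₁ i :=
  ⟨Equiv.ofFiberEquiv (fun c => Fintype.equivOfCardEq (by rw [h₁ c, h₂ c])),
    Equiv.ofFiberEquiv_map _⟩

theorem isBinom_sigma (r : ℕ) :
    IsBinom r (Σ j : Fin (r + 1), Fin (r.choose j)) (fun p => p.1.val) := by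
  intro c
  by_cases hc : c < r + 1
  · have e1 : {p : Σ j : Fin (r + 1), Fin (r.choose j) // p.1.val = c} ≃
        {p : Σ j : Fin (r + 1), Fin (r.choose j) // p.1 = ⟨c, hc⟩} :=
      Equiv.subtypeEquivRight (fun p => by rw [Fin.ext_iff])
    have e2 := e1.trans (Equiv.sigmaSubtype (β := fun j : Fin (r + 1) => Fin (r.choose j)) ⟨c, hc⟩)
    rw [Fintype.card_congr e2, Fintype.card_fin]
  · rw [Nat.choose_eq_zero_of_lt (by omega), Fintype.card_eq_zero_iff]
    exact ⟨fun ⟨p, hp⟩ => hc (hp ▸ p.1.isLt)⟩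

theorem isBinom_unit : IsBinom 0 Unit (fun _ => 0) := by
  intro c
  rcases c with _ | c
  · rw [Nat.choose_zero_right, Fintype.card_eq_one_iff]
    exact ⟨⟨(), rfl⟩, fun ⟨_, _⟩ => rfl⟩
  · rw [Nat.choose_zero_succ, Fintype.card_eq_zero_iff]
    exact ⟨fun ⟨_, h⟩ => by simp at h⟩

theorem isBinom_sum {r : ℕ} {ι : Type} [Fintype ι] {deg : ι → ℕ} (h : IsBinom r ι deg) :
    IsBinom (r + 1) (ι ⊕ ι) (Sum.elim deg (fun i => deg i + 1)) := by
  intro c
  have key : Fintype.card {s : ι ⊕ ι // Sum.elim deg (fun i => deg i + 1) s = c} =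
      Fintype.card {a // deg a = c} + Fintype.card {b // deg b + 1 = c} := by
    rw [← Fintype.card_sum]
    exact Fintype.card_congr Equiv.subtypeSum
  rw [key]
  rcases c with _ | c
  · have : Fintype.card {b : ι // deg b + 1 = 0} = 0 := by
      rw [Fintype.card_eq_zero_iff]
      exact ⟨fun ⟨_, hb⟩ => by omega⟩
    rw [this, h 0, Nat.choose_zero_right, Nat.choose_zero_right]
  · have e : {b : ι // deg b + 1 = c + 1} ≃ {b : ι // deg b = c} :=
      Equiv.subtypeEquivRight (fun b => by omega)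
    rw [Fintype.card_congr e, h (c + 1), h c, Nat.choose_succ_succ' r c, add_comm]

end comb

variable {A : Type u} [CommRing A]

section reindex

variable (G : ℤ → Type u) [∀ n, AddCommGroup (G n)] [∀ n, Module A (G n)]

/-- reindexing along a degree-preserving equivalence -/
noncomputable def reindex {ι₁ ι₂ : Type} (f₁ : ι₁ → ℤ) (f₂ : ι₂ → ℤ) (e : ι₁ ≃ ι₂)
    (h : ∀ i, f₂ (e i) = f₁ i) :
    (Π i : ι₁, G (f₁ i)) ≃ₗ[A] (Π i : ι₂, G (f₂ i)) :=
  (LinearEquiv.piCongrRight (fun i => LinearEquiv.cast (R := A) (M := G) (h i).symm)).trans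
    (LinearEquiv.piCongrLeft A (fun i₂ => G (f₂ i₂)) e)

/-- the sum step -/
noncomputable def sumStep {ι : Type} (deg : ι → ℕ) (m : ℤ) :
    ((Π i : ι, G (m + deg i)) × (Π i : ι, G (m + 1 + deg i))) ≃ₗ[A]
      (Π s : ι ⊕ ι, G (m + ((Sum.elim deg (fun i => deg i + 1) s : ℕ) : ℤ))) :=
  (LinearEquiv.prodCongr (LinearEquiv.refl A _)
    (LinearEquiv.piCongrRight (fun i => LinearEquiv.cast (R := A) (M := G)
      (show m + 1 + (deg i : ℤ) = m + ((deg i + 1 : ℕ) : ℤ) by push_cast; ring)))).trans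
  (LinearEquiv.sumPiEquivProdPi A ι ι
    (fun s => G (m + ((Sum.elim deg (fun i => deg i + 1) s : ℕ) : ℤ)))).symm

end reindex

end Groth.Agent.Lib.Helper16.KzApp
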