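import Groth.Agent.Lib.Helper16.KzApp2

/-!
# Koszul homology of ys ++ xs with ys in (xs): induction (helper16)
-/

set_option autoImplicit false
universe u

open CategoryTheory CategoryTheory.Limits CochainComplex

attribute [local instance] HasDerivedCategory.standard

namespace Groth.Agent.Lib.Helper16.KzApp

open Groth.Agent.Lib.Helper16.KzInv Groth.Agent.Lib.Helper16.KzComp

variable {A : Type u} [CommRing A]

theorem main_aux (S : CochainComplex (ModuleCat.{u} A) ℤ) (xs : List A) :
    ∀ ys : List A, (∀ y ∈ ys, y ∈ Ideal.span {a | a ∈ xs}) →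
      ∃ (ι : Type) (_ : Fintype ι) (deg : ι → ℕ), IsBinom ys.length ι deg ∧
        ∀ m : ℤ, Nonempty ((kz (ys ++ xs) S).homology m ≃ₗ[A]
          (Π i : ι, ((kz xs S).homology (m + deg i) : Type u)))
  | [], _ => by
    refine ⟨Unit, inferInstance, fun _ => 0, isBinom_unit, fun m => ?_⟩
    refine ⟨(LinearEquiv.cast (R := A) (M := fun n : ℤ => ((kz xs S).homology n : Type u))
      (show m = m + ((0 : ℕ) : ℤ) by simp)).trans
      (LinearEquiv.funUnique Unit A _).symm⟩
  | y :: ys, hy => by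
    obtain ⟨ι, hι, deg, hB, hH⟩ := main_aux S xs ys (fun z hz => hy z (List.mem_cons_of_mem _ hz))
    refine ⟨ι ⊕ ι, inferInstance, Sum.elim deg (fun i => deg i + 1), isBinom_sum hB, fun m => ?_⟩
    have hmem : y - 0 ∈ Ideal.span {x | x ∈ ys ++ xs} := by
      rw [sub_zero]
      refine Ideal.span_mono ?_ (hy y List.mem_cons_self)
      intro a ha
      exact List.mem_append_right _ ha
    have h1 := dIso_kz_cons_of_sub_mem S (ys ++ xs) 0 y hmem
    obtain ⟨e1⟩ := dIso_nonempty_homologyIso h1 m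
    rw [kz_cons] at e1
    obtain ⟨e2⟩ := nonempty_homology_cone_zero (kz (ys ++ xs) S) m
    obtain ⟨e3⟩ := hH m
    obtain ⟨e4⟩ := hH (m + 1)
    have e5 := (e1 ≪≫ e2 ≪≫ ModuleCat.biprodIsoProd _ _).toLinearEquiv
    exact ⟨(e5.trans (LinearEquiv.prodCongr e3 e4)).trans
      (sumStep (fun n : ℤ => ((kz xs S).homology n : Type u)) deg m)⟩

end Groth.Agent.Lib.Helper16.KzApp
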