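import Groth.Agent.Lib.Helper16.KzApp3

/-!
# Koszul homology of xs ++ ys with ys in (xs) (helper16)
-/

set_option autoImplicit false
universe u

open CategoryTheory CategoryTheory.Limits CochainComplex

attribute [local instance] HasDerivedCategory.standard

namespace Groth.Agent.Lib.Helper16.KzApp

open Groth.Agent.Lib.Helper16.KzInv Groth.Agent.Lib.Helper16.KzComp Groth.Agent.Lib.Helper28.Koszul CohIII

variable {A : Type u} [CommRing A]

theorem main (M : ModuleCat.{u} A) (xs ys : List A)
    (hy : ∀ y ∈ ys, y ∈ Ideal.span {a | a ∈ xs}) (m : ℤ) :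
    Nonempty ((DRing.tensorCx (Koszul.koszul A (xs ++ ys)) M).homology m ≅
      ModuleCat.of A ((j : Fin (ys.length + 1)) → Fin (ys.length.choose j) →
        (DRing.tensorCx (Koszul.koszul A xs) M).homology (m + j))) := by
  set S := (HomologicalComplex.single (ModuleCat.{u} A) (ComplexShape.up ℤ) 0).obj M with hS
  have c1 : ∀ l, DRing.tensorCx (Koszul.koszul A l) M ≅ kz l S := fun l =>
    Groth.Agent.Lib.Helper11.Kz.compareIso M l ≪≫ eqToIso (koszulCx_eq_kz M l)
  obtain ⟨ι, hι, deg, hB, hH⟩ := main_aux S xs ys hy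
  obtain ⟨e, he⟩ := exists_equiv_of_isBinom hB (isBinom_sigma ys.length)
  obtain ⟨d1⟩ := dIso_nonempty_homologyIso
    (dIso_kz_perm S (List.perm_append_comm : (xs ++ ys).Perm (ys ++ xs))) m
  obtain ⟨e3⟩ := hH m
  let G : ℤ → Type u := fun n => ((DRing.tensorCx (Koszul.koszul A xs) M).homology n : Type u)
  have a1 := ((HomologicalComplex.homologyFunctor _ _ m).mapIso (c1 (xs ++ ys)) ≪≫ d1).toLinearEquiv
  have a2 : (Π i : ι, ((kz xs S).homology (m + deg i) : Type u)) ≃ₗ[A] (Π i : ι, G (m + deg i)) :=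
    LinearEquiv.piCongrRight (fun i =>
      ((HomologicalComplex.homologyFunctor _ _ (m + deg i)).mapIso (c1 xs)).symm.toLinearEquiv)
  have a3 := reindex (A := A) G (fun i : ι => m + deg i)
    (fun p : Σ j : Fin (ys.length + 1), Fin (ys.length.choose j) => m + (p.1.val : ℤ)) e
    (fun i => by rw [he i])
  have a4 := LinearEquiv.piCurry A
    (fun (j : Fin (ys.length + 1)) (_ : Fin (ys.length.choose j)) => G (m + (j.val : ℤ)))
  exact ⟨((a1.trans e3).trans (a2.trans (a3.trans a4))).toModuleIso⟩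

end Groth.Agent.Lib.Helper16.KzApp
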