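import Mathlib
import Groth.Prelude.Def_ega3
import Groth.Agent.Lib.Helper28.KoszulTop
import Groth.Agent.Lib.Helper28.KoszulDepth

/-!
# Powers of the variables form a regular sequence in a polynomial ring (helper16)
-/

set_option autoImplicit false
set_option linter.style.haveILetI false
set_option linter.unusedSectionVars false
universe u
open MvPolynomial

namespace Groth.Agent.Lib.Helper16.KzPoly

variable {A : Type u} [CommRing A] {N : ℕ}

/-- the set of exponent vectors `n • e_j`, `j < i` -/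
def expSet (N n i : ℕ) : Set (Fin N →₀ ℕ) := {s | ∃ j : Fin N, (j : ℕ) < i ∧ s = Finsupp.single j n}

theorem ofList_take (n i : ℕ) :
    Ideal.ofList (((List.ofFn (X : Fin N → MvPolynomial (Fin N) A)).map (· ^ n)).take i) =
      Ideal.span ((fun s => monomial s (1 : A)) '' expSet N n i) := by
  unfold Ideal.ofList
  congr 1
  ext r
  simp only [Set.mem_ofPred_eq, Set.mem_image, expSet]
  rw [List.mem_take_iff_getElem]
  constructor
  · rintro ⟨a, ha, rfl⟩
    rw [List.length_map, List.length_ofFn] at ha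
    refine ⟨Finsupp.single ⟨a, (lt_min_iff.1 ha).2⟩ n, ⟨⟨a, (lt_min_iff.1 ha).2⟩, (lt_min_iff.1 ha).1, rfl⟩, ?_⟩
    rw [List.getElem_map, List.getElem_ofFn, X_pow_eq_monomial]
  · rintro ⟨_, ⟨j, hj, rfl⟩, rfl⟩
    refine ⟨j, ?_, ?_⟩
    · rw [List.length_map, List.length_ofFn]; exact lt_min hj j.2
    · rw [List.getElem_map, List.getElem_ofFn, X_pow_eq_monomial]

theorem mem_span_iff (n i : ℕ) (f : MvPolynomial (Fin N) A) :
    f ∈ Ideal.span ((fun s => monomial s (1 : A)) '' expSet N n i) ↔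
      ∀ d ∈ f.support, ∃ j : Fin N, (j : ℕ) < i ∧ n ≤ d j := by
  rw [mem_ideal_span_monomial_image]
  constructor
  · intro h d hd
    obtain ⟨_, ⟨j, hj, rfl⟩, hle⟩ := h d hd
    refine ⟨j, hj, ?_⟩
    have := hle j
    simpa using this
  · intro h d hd
    obtain ⟨j, hj, hle⟩ := h d hd
    refine ⟨_, ⟨j, hj, rfl⟩, ?_⟩
    intro k
    by_cases hk : k = j
    · subst hk; simpa using hle
    · rw [Finsupp.single_apply, if_neg (Ne.symm hk)]; exact Nat.zero_le _

theorem isWeaklyRegular_X_pow (n : ℕ) :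
    RingTheory.Sequence.IsWeaklyRegular (MvPolynomial (Fin N) A)
      ((List.ofFn (X : Fin N → MvPolynomial (Fin N) A)).map (· ^ n)) := by
  refine ⟨fun i hi => ?_⟩
  rw [List.length_map, List.length_ofFn] at hi
  rw [isSMulRegular_on_quot_iff_lsmul_comap_le, List.getElem_map, List.getElem_ofFn, smul_eq_mul,
    Ideal.mul_top, ofList_take]
  intro f hf
  rw [Submodule.mem_comap, LinearMap.lsmul_apply, smul_eq_mul, mem_span_iff] at hf
  rw [mem_span_iff]
  intro d hd
  have hmem : Finsupp.single (⟨i, hi⟩ : Fin N) n + d ∈ ((X (⟨i, hi⟩ : Fin N)) ^ n * f).support := by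
    rw [mem_support_iff, X_pow_eq_monomial, coeff_monomial_mul, one_mul]
    exact mem_support_iff.mp hd
  obtain ⟨j, hj, hle⟩ := hf _ hmem
  refine ⟨j, hj, ?_⟩
  have hij : (⟨i, hi⟩ : Fin N) ≠ j := by
    intro h
    rw [← h] at hj
    exact lt_irrefl _ hj
  rwa [Finsupp.add_apply, Finsupp.single_apply, if_neg hij, zero_add] at hle

end Groth.Agent.Lib.Helper16.KzPoly
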