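import Mathlib
import Groth.Prelude.Def_ega3
import Groth.Agent.Lib.Helper28.KoszulTop
import Groth.Agent.Lib.Helper28.KoszulDepth

/-!
# Top Koszul cohomology with naturality along the transition maps (helper16)
-/

set_option autoImplicit false
set_option linter.style.haveILetI false
set_option linter.unusedSectionVars false
universe u
open CategoryTheory CategoryTheory.Limits CochainComplex HomComplex CohIII
open Groth.Agent.Lib.Helper28.Koszul

namespace Groth.Agent.Lib.Helper16.KzPoly

variable {R : Type u} [CommRing R]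

theorem subsingleton_pos (M : ModuleCat.{u} R) :
    ∀ (fs : List R) (n : ℤ), 0 < n → Subsingleton ((koszulCx M fs).X n) := by
  intro fs
  induction fs with
  | nil =>
    intro n hn
    exact ModuleCat.subsingleton_of_isZero
      (HomologicalComplex.isZero_single_obj_X (ComplexShape.up ℤ) 0 _ n (by omega))
  | cons f fs ih =>
    intro n hn
    rw [koszulCx_cons]
    exact subsingleton_cone_X _ n (ih (n + 1) (by omega)) (ih n hn)

/-- the degree-zero term of the Koszul complex is `M` -/
noncomputable def ev (M : ModuleCat.{u} R) : ∀ fs : List R, M ≃ₗ[R] (koszulCx M fs).X 0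
  | [] => (HomologicalComplex.singleObjXSelf (ComplexShape.up ℤ) 0 M).symm.toLinearEquiv
  | f :: fs => (ev M fs).trans
      (coneSndEquiv (f • 𝟙 (koszulCx M fs)) (subsingleton_pos M fs 1 one_pos)).symm

theorem coneSnd_ev_cons (M : ModuleCat.{u} R) (f : R) (fs : List R) (x : M) :
    coneSnd (f • 𝟙 (koszulCx M fs)) 0 (ev M (f :: fs) x) = ev M fs x := by
  change coneSndEquiv (f • 𝟙 (koszulCx M fs)) (subsingleton_pos M fs 1 one_pos)
    ((coneSndEquiv (f • 𝟙 (koszulCx M fs)) (subsingleton_pos M fs 1 one_pos)).symm (ev M fs x)) = _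
  rw [LinearEquiv.apply_symm_apply]

theorem range_d_cone (K : CochainComplex (ModuleCat.{u} R) ℤ) (f : R) (M : ModuleCat.{u} R)
    (e : M ≃ₗ[R] K.X 0) (I : Ideal R) (h1 : Subsingleton (K.X 1))
    (hrange : Submodule.map e.toLinearMap (I • (⊤ : Submodule R M)) =
      LinearMap.range (K.d (-1) 0).hom) :
    Submodule.map (e.trans (coneSndEquiv (f • 𝟙 K) h1).symm).toLinearMap
        ((Ideal.span {f} ⊔ I) • (⊤ : Submodule R M)) =
      LinearMap.range ((mappingCone (f • 𝟙 K)).d (-1) 0).hom := by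
  apply Submodule.map_injective_of_injective (coneSndEquiv (f • 𝟙 K) h1).injective
  have hR := map_coneSnd_range_d K f
  change Submodule.map (coneSndEquiv (f • 𝟙 K) h1).toLinearMap
    (LinearMap.range ((mappingCone (f • 𝟙 K)).d (-1) 0).hom) = _ at hR
  rw [hR, ← Submodule.map_comp]
  have hcomp : (coneSndEquiv (f • 𝟙 K) h1).toLinearMap ∘ₗ
      (e ≪≫ₗ (coneSndEquiv (f • 𝟙 K) h1).symm).toLinearMap = e.toLinearMap := by
    ext x
    simp
  rw [hcomp, Submodule.sup_smul, Submodule.map_sup, hrange,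
    Submodule.ideal_span_singleton_smul, Submodule.map_pointwise_smul, Submodule.map_top,
    LinearEquiv.range]

theorem range_d (M : ModuleCat.{u} R) : ∀ fs : List R,
    Submodule.map (ev M fs).toLinearMap (Ideal.ofList fs • (⊤ : Submodule R M)) =
      LinearMap.range ((koszulCx M fs).d (-1) 0).hom := by
  intro fs
  induction fs with
  | nil =>
    rw [Ideal.ofList_nil, Submodule.bot_smul, Submodule.map_bot]
    have : (koszulCx M []).d (-1) 0 = 0 := rfl
    rw [this]
    exact (LinearMap.range_zero).symm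
  | cons f fs ih =>
    rw [Ideal.ofList_cons]
    exact range_d_cone (koszulCx M fs) f M (ev M fs) _ (subsingleton_pos M fs 1 one_pos) ih

theorem trans_ev (M : ModuleCat.{u} R) (n m : ℕ) (h : n ≤ m) : ∀ (fs : List R) (x : M),
    (koszulTrans M n m h fs).f 0 (ev M (fs.map (· ^ n)) x) =
      ev M (fs.map (· ^ m)) ((fs.map (· ^ (m - n))).prod • x) := by
  intro fs
  induction fs with
  | nil =>
    intro x
    simp only [List.map_nil, List.prod_nil, one_smul]
    rfl
  | cons f fs ih =>
    intro x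
    have h1 : Subsingleton ((koszulCx M (fs.map (· ^ m))).X 1) := subsingleton_pos M _ 1 one_pos
    apply (coneSndEquiv (f ^ m • 𝟙 (koszulCx M (fs.map (· ^ m)))) h1).injective
    change coneSnd (f ^ m • 𝟙 (koszulCx M (fs.map (· ^ m)))) 0 _ =
      coneSnd (f ^ m • 𝟙 (koszulCx M (fs.map (· ^ m)))) 0 _
    have e1 := coneSnd_ev_cons M (f ^ m) (fs.map (· ^ m)) (((f :: fs).map (· ^ (m - n))).prod • x)
    have e2 := coneSnd_ev_cons M (f ^ n) (fs.map (· ^ n)) x
    change coneSnd _ 0 (ev M ((f :: fs).map (· ^ m)) _) = _ at e1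
    rw [e1]
    change coneSnd (f ^ m • 𝟙 (koszulCx M (fs.map (· ^ m)))) 0
      ((mappingCone.map (f ^ n • 𝟙 (koszulCx M (fs.map (· ^ n))))
      (f ^ m • 𝟙 (koszulCx M (fs.map (· ^ m)))) (koszulTrans M n m h fs)
      (f ^ (m - n) • koszulTrans M n m h fs) _).f 0 (ev M (f ^ n :: fs.map (· ^ n)) x)) = _
    rw [coneSnd_map, e2]
    change f ^ (m - n) • (koszulTrans M n m h fs).f 0 (ev M (fs.map (· ^ n)) x) = _
    rw [ih, ← map_smul, smul_smul, List.map_cons, List.prod_cons]


theorem homologyZeroEquiv_eq (K : CochainComplex (ModuleCat.{u} R) ℤ) (h1 : Subsingleton (K.X 1))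
    (z : K.homology 0) (x : K.X 0) (hzx : K.homologyι 0 z = K.pOpcycles 0 x) :
    homologyZeroEquiv K h1 z = Submodule.Quotient.mk x := by
  unfold homologyZeroEquiv
  simp only [LinearEquiv.trans_apply, LinearEquiv.ofBijective_apply]
  rw [show (ModuleCat.Hom.hom (K.homologyι 0)) z = (K.pOpcycles 0).hom x from hzx]
  have h2 : (LinearMap.quotKerEquivOfSurjective (K.pOpcycles 0).hom
      (Groth.Agent.Lib.Helper28.FlatCx.pOpcycles_surjective K 0)).symm ((K.pOpcycles 0).hom x) =
      Submodule.Quotient.mk x := by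
    rw [LinearEquiv.symm_apply_eq]
    rfl
  rw [h2]
  rfl


/-- top Koszul cohomology is `M/(fs)M` -/
noncomputable def top (M : ModuleCat.{u} R) (fs : List R) :
    (koszulCx M fs).homology 0 ≃ₗ[R] (M ⧸ (Ideal.ofList fs • (⊤ : Submodule R M))) :=
  (homologyZeroEquiv _ (subsingleton_pos M fs 1 one_pos)).trans
    (Submodule.Quotient.equiv _ _ (ev M fs) (range_d M fs)).symm

theorem top_eq (M : ModuleCat.{u} R) (fs : List R) (z : (koszulCx M fs).homology 0) (x : M)
    (hzx : (koszulCx M fs).homologyι 0 z = (koszulCx M fs).pOpcycles 0 (ev M fs x)) :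
    top M fs z = Submodule.Quotient.mk x := by
  unfold top
  rw [LinearEquiv.trans_apply, homologyZeroEquiv_eq _ _ z _ hzx, LinearEquiv.symm_apply_eq]
  rfl

theorem exists_rep (M : ModuleCat.{u} R) (fs : List R) (z : (koszulCx M fs).homology 0) :
    ∃ x : M, (koszulCx M fs).homologyι 0 z = (koszulCx M fs).pOpcycles 0 (ev M fs x) := by
  obtain ⟨y, hy⟩ := Groth.Agent.Lib.Helper28.FlatCx.pOpcycles_surjective (koszulCx M fs) 0
    ((koszulCx M fs).homologyι 0 z)
  obtain ⟨x, rfl⟩ := (ev M fs).surjective y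
  exact ⟨x, hy.symm⟩

theorem rep_trans (M : ModuleCat.{u} R) (n m : ℕ) (h : n ≤ m) (fs : List R)
    (z : (koszulCx M (fs.map (· ^ n))).homology 0) (x : M)
    (hzx : (koszulCx M (fs.map (· ^ n))).homologyι 0 z =
      (koszulCx M (fs.map (· ^ n))).pOpcycles 0 (ev M (fs.map (· ^ n)) x)) :
    (koszulCx M (fs.map (· ^ m))).homologyι 0
        (HomologicalComplex.homologyMap (koszulTrans M n m h fs) 0 z) =
      (koszulCx M (fs.map (· ^ m))).pOpcycles 0
        (ev M (fs.map (· ^ m)) ((fs.map (· ^ (m - n))).prod • x)) := by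
  have e1 := congr($(HomologicalComplex.homologyι_naturality (koszulTrans M n m h fs) 0) z)
  have e2 := congr($(HomologicalComplex.p_opcyclesMap (koszulTrans M n m h fs) 0)
    (ev M (fs.map (· ^ n)) x))
  simp only [ModuleCat.hom_comp, LinearMap.comp_apply] at e1 e2
  rw [e1, hzx, e2, trans_ev]

theorem prod_mul_mem (fs : List R) (n m : ℕ) (h : n ≤ m) (a : R)
    (ha : a ∈ Ideal.ofList (fs.map (· ^ n))) :
    (fs.map (· ^ (m - n))).prod * a ∈ Ideal.ofList (fs.map (· ^ m)) := by
  unfold Ideal.ofList at ha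
  induction ha using Submodule.span_induction with
  | mem g hg =>
    obtain ⟨f, hf, rfl⟩ := List.mem_map.mp hg
    have hdvd : f ^ (m - n) ∣ (fs.map (· ^ (m - n))).prod :=
      List.dvd_prod (List.mem_map.mpr ⟨f, hf, rfl⟩)
    obtain ⟨c, hc⟩ := hdvd
    have hmem : f ^ m ∈ Ideal.ofList (fs.map (· ^ m)) :=
      Ideal.subset_span (List.mem_map.mpr ⟨f, hf, rfl⟩)
    have : (fs.map (· ^ (m - n))).prod * f ^ n = c * f ^ m := by
      rw [hc, mul_comm (f ^ (m - n)) c, mul_assoc, ← pow_add, Nat.sub_add_cancel h]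
    show (fs.map (· ^ (m - n))).prod * f ^ n ∈ _
    rw [this]
    exact Ideal.mul_mem_left _ _ hmem
  | zero => rw [mul_zero]; exact zero_mem _
  | add x y _ _ hx hy => rw [mul_add]; exact add_mem hx hy
  | smul r x _ hx =>
    rw [smul_eq_mul, mul_left_comm]
    exact Ideal.mul_mem_left _ _ hx

theorem prod_smul_mem (M : ModuleCat.{u} R) (fs : List R) (n m : ℕ) (h : n ≤ m) (y : M)
    (hy : y ∈ Ideal.ofList (fs.map (· ^ n)) • (⊤ : Submodule R M)) :
    (fs.map (· ^ (m - n))).prod • y ∈ Ideal.ofList (fs.map (· ^ m)) • (⊤ : Submodule R M) := by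
  refine Submodule.smul_induction_on hy ?_ ?_
  · intro a ha x _
    rw [smul_smul]
    exact Submodule.smul_mem_smul (prod_mul_mem fs n m h a ha) trivial
  · intro x y hx hy
    rw [smul_add]; exact add_mem hx hy

/-- naturality of the top-degree identification along the transition maps -/
theorem top_trans (M : ModuleCat.{u} R) (n m : ℕ) (h : n ≤ m) (fs : List R)
    (z : (koszulCx M (fs.map (· ^ n))).homology 0) (x : M)
    (hz : top M (fs.map (· ^ n)) z = Submodule.Quotient.mk x) :
    top M (fs.map (· ^ m)) (HomologicalComplex.homologyMap (koszulTrans M n m h fs) 0 z) =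
      Submodule.Quotient.mk ((fs.map (· ^ (m - n))).prod • x) := by
  obtain ⟨x', hx'⟩ := exists_rep M _ z
  have h1 := top_eq M _ z x' hx'
  rw [hz] at h1
  have h2 := top_eq M _ _ _ (rep_trans M n m h fs z x' hx')
  rw [h2, Submodule.Quotient.eq, ← smul_sub]
  apply prod_smul_mem M fs n m h
  rw [← Submodule.Quotient.eq]
  exact h1.symm

end Groth.Agent.Lib.Helper16.KzPoly
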