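import Mathlib

/-!
# Freeness of a direct limit from compatible bases (helper16)
-/

set_option autoImplicit false
set_option linter.style.haveILetI false
set_option linter.unusedSectionVars false
universe u v

namespace Groth.Agent.Lib.Helper16.KzPoly

section Abstract

variable {A : Type u} {S : Type u} [CommRing A] [CommRing S] [Algebra A S]
  {G : ℕ → Type u} [∀ n, AddCommGroup (G n)] [∀ n, Module S (G n)]
  (f : ∀ n m, n ≤ m → G n →ₗ[S] G m) [DirectedSystem G fun i j h => f i j h]
  {σ : Type v} (D : ℕ → Set σ) (E : ∀ n, (σ →₀ A) →+ G n)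

include D E in
theorem free_directLimit (hDmono : ∀ n m, n ≤ m → D n ⊆ D m) (hDex : ∀ a, ∃ n, a ∈ D n)
    (hsmul : ∀ n (r : A) (c : σ →₀ A), E n (r • c) = algebraMap A S r • E n c)
    (h1 : ∀ n m (h : n ≤ m) (c : σ →₀ A), (↑c.support : Set σ) ⊆ D n → f n m h (E n c) = E m c)
    (h2 : ∀ n (y : G n), ∃ c : σ →₀ A, (↑c.support : Set σ) ⊆ D n ∧ y = E n c)
    (h3 : ∀ n (c : σ →₀ A), (↑c.support : Set σ) ⊆ D n → E n c = 0 → c = 0) :
    Module.Free A (RestrictScalars A S (Module.DirectLimit G f)) := by
  classical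
  -- every finitely supported `c` lives at some level
  have hlev : ∀ c : σ →₀ A, ∃ n, (↑c.support : Set σ) ⊆ D n := by
    intro c
    induction c using Finsupp.induction with
    | zero => exact ⟨0, by simp⟩
    | single_add a b c _ _ ih =>
      obtain ⟨n, hn⟩ := ih
      obtain ⟨m, hm⟩ := hDex a
      refine ⟨max n m, fun x hx => ?_⟩
      have hx' := Finsupp.support_add hx
      rw [Finset.mem_union] at hx'
      rcases hx' with hx' | hx'
      · have : x = a := by
          have := Finsupp.support_single_subset hx'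
          simpa using this
        rw [this]
        exact hDmono m _ (le_max_right _ _) hm
      · exact hDmono n _ (le_max_left _ _) (hn hx')
  let lev : (σ →₀ A) → ℕ := fun c => Classical.choose (hlev c)
  have hlevs : ∀ c, (↑c.support : Set σ) ⊆ D (lev c) := fun c => Classical.choose_spec (hlev c)
  let Ψ0 : (σ →₀ A) → Module.DirectLimit G f := fun c =>
    Module.DirectLimit.of S ℕ G f (lev c) (E (lev c) c)
  have hΨ : ∀ (c : σ →₀ A) (n : ℕ), (↑c.support : Set σ) ⊆ D n →
      Ψ0 c = Module.DirectLimit.of S ℕ G f n (E n c) := by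
    intro c n hn
    have e1 : Module.DirectLimit.of S ℕ G f (max (lev c) n) (f (lev c) _ (le_max_left _ _) (E (lev c) c)) =
        Module.DirectLimit.of S ℕ G f (lev c) (E (lev c) c) := Module.DirectLimit.of_f
    have e2 : Module.DirectLimit.of S ℕ G f (max (lev c) n) (f n _ (le_max_right _ _) (E n c)) =
        Module.DirectLimit.of S ℕ G f n (E n c) := Module.DirectLimit.of_f
    change Module.DirectLimit.of S ℕ G f (lev c) (E (lev c) c) = _
    rw [← e1, ← e2, h1 _ _ _ c (hlevs c), h1 _ _ _ c hn]
  let Ψ : (σ →₀ A) →ₗ[A] RestrictScalars A S (Module.DirectLimit G f) :=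
    { toFun := Ψ0
      map_add' := by
        intro c c'
        obtain ⟨n, hn⟩ : ∃ n, (↑c.support : Set σ) ⊆ D n ∧ (↑c'.support : Set σ) ⊆ D n ∧
            (↑(c + c').support : Set σ) ⊆ D n := by
          refine ⟨max (lev c) (max (lev c') (lev (c + c'))), ?_, ?_, ?_⟩
          · exact (hlevs c).trans (hDmono _ _ (le_max_left _ _))
          · exact (hlevs c').trans (hDmono _ _ ((le_max_left _ _).trans (le_max_right _ _)))
          · exact (hlevs (c + c')).trans (hDmono _ _ ((le_max_right _ _).trans (le_max_right _ _)))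
        rw [hΨ c n hn.1, hΨ c' n hn.2.1, hΨ (c + c') n hn.2.2, map_add]
        exact map_add (Module.DirectLimit.of S ℕ G f n) _ _
      map_smul' := by
        intro r c
        obtain ⟨n, hn⟩ : ∃ n, (↑c.support : Set σ) ⊆ D n ∧ (↑(r • c).support : Set σ) ⊆ D n := by
          refine ⟨max (lev c) (lev (r • c)), ?_, ?_⟩
          · exact (hlevs c).trans (hDmono _ _ (le_max_left _ _))
          · exact (hlevs (r • c)).trans (hDmono _ _ (le_max_right _ _))
        rw [hΨ c n hn.1, hΨ (r • c) n hn.2, hsmul]
        exact map_smul (Module.DirectLimit.of S ℕ G f n) _ _ }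
  have hinj : Function.Injective Ψ := by
    refine (injective_iff_map_eq_zero Ψ).mpr ?_
    intro c hc
    have hc' : Module.DirectLimit.of S ℕ G f (lev c) (E (lev c) c) = 0 := hc
    obtain ⟨m, hm, hz⟩ := Module.DirectLimit.of.zero_exact hc'
    have := h1 _ _ hm c (hlevs c)
    rw [hz] at this
    exact h3 m c ((hlevs c).trans (hDmono _ _ hm)) this.symm
  have hsurj : Function.Surjective Ψ := by
    intro z
    obtain ⟨n, y, rfl⟩ := Module.DirectLimit.exists_of (R := S) (G := G) (f := f) z
    obtain ⟨c, hc, rfl⟩ := h2 n y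
    exact ⟨c, hΨ c n hc⟩
  exact Module.Free.of_equiv (LinearEquiv.ofBijective Ψ ⟨hinj, hsurj⟩)

end Abstract

end Groth.Agent.Lib.Helper16.KzPoly
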