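import Mathlib
import Groth.Agent.Lib.Helper16.KzPoly1

/-!
# Monomial facts for the polynomial ring modulo powers of the variables (helper16)
-/

set_option autoImplicit false
set_option linter.style.haveILetI false
set_option linter.unusedSectionVars false
universe u
open MvPolynomial

namespace Groth.Agent.Lib.Helper16.KzPoly

variable {A : Type u} [CommRing A] {N : ℕ}

/-- the exponent vector `(n - 1 - a_j)_j` -/
noncomputable def flip (n : ℕ) (a : Fin N →₀ ℕ) : Fin N →₀ ℕ :=
  Finsupp.equivFunOnFinite.symm (fun j => n - 1 - a j)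

@[simp] theorem flip_apply (n : ℕ) (a : Fin N →₀ ℕ) (j : Fin N) : flip n a j = n - 1 - a j := rfl

/-- the exponent vectors with all entries `< n` -/
def DD (N n : ℕ) : Set (Fin N →₀ ℕ) := {a | ∀ j, a j < n}

theorem DD_mono (n m : ℕ) (h : n ≤ m) : DD N n ⊆ DD N m := fun _ ha j => (ha j).trans_le h

theorem DD_ex (a : Fin N →₀ ℕ) : ∃ n, a ∈ DD N n :=
  ⟨(Finset.univ.sup fun j => a j) + 1, fun j =>
    Nat.lt_succ_of_le (Finset.le_sup (f := fun j => a j) (Finset.mem_univ j))⟩

theorem flip_mem_DD (n : ℕ) (a : Fin N →₀ ℕ) (ha : a ∈ DD N n) : flip n a ∈ DD N n := by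
  intro j
  have := ha j
  rw [flip_apply]
  omega

theorem flip_flip (n : ℕ) (a : Fin N →₀ ℕ) (ha : a ∈ DD N n) : flip n (flip n a) = a := by
  ext j
  have := ha j
  rw [flip_apply, flip_apply]
  omega

theorem flip_injOn (n : ℕ) {a b : Fin N →₀ ℕ} (ha : a ∈ DD N n) (hb : b ∈ DD N n)
    (h : flip n a = flip n b) : a = b := by
  rw [← flip_flip n a ha, ← flip_flip n b hb, h]

/-- the `A`-linear map `c ↦ ∑ c_a T^(n-1-a)` -/
noncomputable def Phi (n : ℕ) : ((Fin N →₀ ℕ) →₀ A) →ₗ[A] MvPolynomial (Fin N) A :=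
  Finsupp.lsum A (fun a => monomial (flip n a))

theorem Phi_apply (n : ℕ) (c : (Fin N →₀ ℕ) →₀ A) :
    Phi n c = c.sum fun a r => monomial (flip n a) r := rfl

theorem Phi_single (n : ℕ) (a : Fin N →₀ ℕ) (r : A) :
    Phi n (Finsupp.single a r) = monomial (flip n a) r := by
  rw [Phi_apply, Finsupp.sum_single_index (by simp)]

theorem coeff_Phi (n : ℕ) (c : (Fin N →₀ ℕ) →₀ A) (hc : (↑c.support : Set (Fin N →₀ ℕ)) ⊆ DD N n)
    (a : Fin N →₀ ℕ) (ha : a ∈ DD N n) : coeff (flip n a) (Phi n c) = c a := by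
  classical
  rw [Phi_apply, Finsupp.sum, coeff_sum]
  simp only [coeff_monomial]
  rw [Finset.sum_eq_single a]
  · rw [if_pos rfl]
  · intro b hb hba
    rw [if_neg]
    intro h
    exact hba (flip_injOn n (hc hb) ha h)
  · intro hna
    rw [if_pos rfl]
    exact Finsupp.notMem_support_iff.mp hna

/-- the monomial ideal `(T_j^n)_j` -/
noncomputable def II (A : Type u) [CommRing A] (N n : ℕ) : Ideal (MvPolynomial (Fin N) A) :=
  Ideal.ofList ((List.ofFn (X : Fin N → MvPolynomial (Fin N) A)).map (· ^ n))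

theorem mem_II (n : ℕ) (p : MvPolynomial (Fin N) A) :
    p ∈ II A N n ↔ ∀ d ∈ p.support, ∃ j : Fin N, n ≤ d j := by
  have h := ofList_take (A := A) (N := N) n N
  rw [List.take_of_length_le (by rw [List.length_map, List.length_ofFn])] at h
  unfold II
  rw [h, mem_span_iff]
  constructor
  · intro H d hd
    obtain ⟨j, _, hj⟩ := H d hd
    exact ⟨j, hj⟩
  · intro H d hd
    obtain ⟨j, hj⟩ := H d hd
    exact ⟨j, j.2, hj⟩

theorem eq_zero_of_Phi_mem (n : ℕ) (c : (Fin N →₀ ℕ) →₀ A)
    (hc : (↑c.support : Set (Fin N →₀ ℕ)) ⊆ DD N n) (h : Phi n c ∈ II A N n) : c = 0 := by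
  by_contra hne
  obtain ⟨a, ha⟩ := Finsupp.support_nonempty_iff.mpr hne
  have haD := hc ha
  have hco := coeff_Phi n c hc a haD
  have hsupp : flip n a ∈ (Phi n c).support := by
    rw [mem_support_iff, hco]
    exact Finsupp.mem_support_iff.mp ha
  obtain ⟨j, hj⟩ := (mem_II n _).mp h _ hsupp
  have := haD j
  rw [flip_apply] at hj
  omega

theorem exists_Phi_sub_mem (n : ℕ) (p : MvPolynomial (Fin N) A) :
    ∃ c : (Fin N →₀ ℕ) →₀ A, (↑c.support : Set (Fin N →₀ ℕ)) ⊆ DD N n ∧ p - Phi n c ∈ II A N n := by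
  classical
  induction p using MvPolynomial.induction_on' with
  | monomial b r =>
    by_cases hb : b ∈ DD N n
    · refine ⟨Finsupp.single (flip n b) r, ?_, ?_⟩
      · intro x hx
        have := Finsupp.support_single_subset hx
        rw [Finset.mem_singleton] at this
        rw [this]
        exact flip_mem_DD n b hb
      · rw [Phi_single, flip_flip n b hb, sub_self]
        exact zero_mem _
    · refine ⟨0, by simp, ?_⟩
      rw [map_zero, sub_zero, mem_II]
      intro d hd
      have hdb : d = b := by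
        have := MvPolynomial.support_monomial_subset hd
        simpa using this
      rw [hdb]
      unfold DD at hb
      simp only [Set.mem_ofPred_eq, not_forall, not_lt] at hb
      exact hb
  | add p q hp hq =>
    obtain ⟨c1, hc1, h1⟩ := hp
    obtain ⟨c2, hc2, h2⟩ := hq
    refine ⟨c1 + c2, ?_, ?_⟩
    · intro x hx
      have := Finsupp.support_add hx
      rw [Finset.mem_union] at this
      rcases this with h | h
      · exact hc1 h
      · exact hc2 h
    · rw [map_add]
      have : p + q - (Phi n c1 + Phi n c2) = (p - Phi n c1) + (q - Phi n c2) := by ring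
      rw [this]
      exact add_mem h1 h2

/-- the monomial `(T_0 ⋯ T_{N-1})^j` -/
theorem prod_map_pow (j : ℕ) :
    ((List.ofFn (X : Fin N → MvPolynomial (Fin N) A)).map (· ^ j)).prod =
      monomial (Finsupp.equivFunOnFinite.symm (fun _ : Fin N => j)) (1 : A) := by
  rw [List.map_ofFn, List.prod_ofFn, MvPolynomial.monomial_eq, map_one, one_mul,
    Finsupp.prod_fintype _ _ (by intro i; exact pow_zero _)]
  rfl

theorem mul_Phi (n m : ℕ) (h : n ≤ m) (c : (Fin N →₀ ℕ) →₀ A)
    (hc : (↑c.support : Set (Fin N →₀ ℕ)) ⊆ DD N n) :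
    ((List.ofFn (X : Fin N → MvPolynomial (Fin N) A)).map (· ^ (m - n))).prod * Phi n c =
      Phi m c := by
  rw [prod_map_pow, Phi_apply, Phi_apply, Finsupp.sum, Finsupp.sum, Finset.mul_sum]
  refine Finset.sum_congr rfl fun a ha => ?_
  rw [monomial_mul, one_mul]
  have hs : (Finsupp.equivFunOnFinite.symm fun _ : Fin N => m - n) + flip n a = flip m a := by
    ext j
    have := hc ha j
    rw [Finsupp.add_apply, flip_apply, flip_apply]
    change m - n + (n - 1 - a j) = _
    omega
  rw [hs]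

end Groth.Agent.Lib.Helper16.KzPoly
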