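import Mathlib
import Groth.Agent.Lib.Helper16.KzPoly1
import Groth.Agent.Lib.Helper16.KzPoly2
import Groth.Agent.Lib.Helper16.KzPoly3
import Groth.Agent.Lib.Helper16.KzPoly4
import Groth.Agent.Lib.Helper28.KoszulRegular

/-!
# Direct-limit Koszul cohomology of a polynomial ring with respect to the variables (helper16)
-/

set_option autoImplicit false
set_option linter.style.haveILetI false
set_option linter.unusedSectionVars false
universe u
open MvPolynomial CategoryTheory CohIII

namespace Groth.Agent.Lib.Helper16.KzPoly

section ListPow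

variable {R : Type u} [CommRing R]

theorem prod_pow_zero (fs : List R) : (fs.map (· ^ 0)).prod = 1 := by
  apply List.prod_eq_one
  intro x hx
  obtain ⟨f, _, rfl⟩ := List.mem_map.mp hx
  exact pow_zero f

theorem prod_pow_add (fs : List R) (a b : ℕ) :
    (fs.map (· ^ a)).prod * (fs.map (· ^ b)).prod = (fs.map (· ^ (a + b))).prod := by
  induction fs with
  | nil => simp
  | cons f fs ih =>
    simp only [List.map_cons, List.prod_cons]
    rw [← ih, pow_add]
    ring

end ListPow

variable (A : Type u) [CommRing A] (N : ℕ)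

/-- the polynomial ring as a module over itself -/
noncomputable abbrev MM : ModuleCat.{u} (MvPolynomial (Fin N) A) :=
  ModuleCat.of (MvPolynomial (Fin N) A) (MvPolynomial (Fin N) A)

/-- the list of variables -/
noncomputable abbrev xs : List (MvPolynomial (Fin N) A) :=
  List.ofFn (fun j : Fin N => (X j : MvPolynomial (Fin N) A))

/-- the directed system of Koszul cohomologies of the powers, in degree `k` -/
noncomputable abbrev GG (k : ℤ) (n : ℕ) : Type u :=
  ((koszulCx (MM A N) ((xs A N).map (· ^ n))).homology k : Type u)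

/-- its transition maps -/
noncomputable abbrev TT (k : ℤ) (n m : ℕ) (h : n ≤ m) :
    GG A N k n →ₗ[MvPolynomial (Fin N) A] GG A N k m :=
  (HomologicalComplex.homologyMap (koszulTrans (MM A N) n m h (xs A N)) k).hom

theorem subsingleton_lim (k : ℤ) (hk : k ≠ 0) :
    Subsingleton (Module.DirectLimit (GG A N k) (TT A N k)) := by
  have hsub : ∀ n, Subsingleton (GG A N k n) := by
    intro n
    exact ModuleCat.subsingleton_of_isZero
      (Groth.Agent.Lib.Helper28.Koszul.isZero_homology_koszulCx_of_isWeaklyRegular _
        (MvPolynomial (Fin N) A) (isWeaklyRegular_X_pow n) k hk)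
  refine subsingleton_of_forall_eq 0 fun z => ?_
  obtain ⟨n, y, rfl⟩ := Module.DirectLimit.exists_of z
  rw [Subsingleton.elim y 0, map_zero]

theorem smul_top_eq (n : ℕ) :
    (Ideal.ofList ((xs A N).map (· ^ n)) • (⊤ : Submodule (MvPolynomial (Fin N) A) (MM A N))) =
      II A N n := by
  change Ideal.ofList ((xs A N).map (· ^ n)) • (⊤ : Ideal (MvPolynomial (Fin N) A)) = _
  rw [smul_eq_mul, Ideal.mul_top]
  rfl

instance directedSystem : DirectedSystem (GG A N 0) fun i j h => TT A N 0 i j h where
  map_self := by
    intro n z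
    obtain ⟨x, hx⟩ := Submodule.Quotient.mk_surjective _ (top (MM A N) ((xs A N).map (· ^ n)) z)
    apply (top (MM A N) ((xs A N).map (· ^ n))).injective
    have := top_trans (MM A N) n n le_rfl (xs A N) z x hx.symm
    rw [Nat.sub_self, prod_pow_zero, one_smul] at this
    exact this.trans hx
  map_map := by
    intro k j i hij hjk z
    obtain ⟨x, hx⟩ := Submodule.Quotient.mk_surjective _ (top (MM A N) ((xs A N).map (· ^ i)) z)
    apply (top (MM A N) ((xs A N).map (· ^ k))).injective
    have h1 := top_trans (MM A N) i j hij (xs A N) z x hx.symm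
    have h2 := top_trans (MM A N) j k hjk (xs A N) _ _ h1
    have h3 := top_trans (MM A N) i k (hij.trans hjk) (xs A N) z x hx.symm
    rw [smul_smul, prod_pow_add, show k - j + (j - i) = k - i by omega] at h2
    exact h2.trans h3.symm

/-- the additive maps `c ↦ [∑ c_a T^(n-1-a)]` into the top Koszul cohomology of `T^n` -/
noncomputable def EE (n : ℕ) : ((Fin N →₀ ℕ) →₀ A) →+ GG A N 0 n :=
  ((top (MM A N) ((xs A N).map (· ^ n))).symm.toLinearMap.toAddMonoidHom.comp
    (Submodule.mkQ _).toAddMonoidHom).comp (Phi n).toAddMonoidHom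

theorem top_EE (n : ℕ) (c : (Fin N →₀ ℕ) →₀ A) :
    top (MM A N) ((xs A N).map (· ^ n)) (EE A N n c) = Submodule.Quotient.mk (Phi n c) := by
  change top (MM A N) ((xs A N).map (· ^ n))
    ((top (MM A N) ((xs A N).map (· ^ n))).symm (Submodule.Quotient.mk (Phi n c))) = _
  rw [LinearEquiv.apply_symm_apply]

theorem free_lim :
    Module.Free A (RestrictScalars A (MvPolynomial (Fin N) A)
      (Module.DirectLimit (GG A N 0) (TT A N 0))) := by
  apply free_directLimit (TT A N 0) (DD N) (EE A N) DD_mono DD_ex
  · intro n r c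
    apply (top (MM A N) ((xs A N).map (· ^ n))).injective
    rw [top_EE, LinearEquiv.map_smul, top_EE, LinearMap.map_smul, ← Submodule.Quotient.mk_smul,
      algebraMap_smul]
  · intro n m h c hc
    apply (top (MM A N) ((xs A N).map (· ^ m))).injective
    have := top_trans (MM A N) n m h (xs A N) _ _ (top_EE A N n c)
    rw [top_EE]
    refine this.trans ?_
    congr 1
    exact mul_Phi n m h c hc
  · intro n y
    obtain ⟨p, hp⟩ := Submodule.Quotient.mk_surjective _ (top (MM A N) ((xs A N).map (· ^ n)) y)
    obtain ⟨c, hc, hmem⟩ := exists_Phi_sub_mem (A := A) n p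
    refine ⟨c, hc, ?_⟩
    apply (top (MM A N) ((xs A N).map (· ^ n))).injective
    rw [top_EE, ← hp, Submodule.Quotient.eq, smul_top_eq]
    exact hmem
  · intro n c hc h0
    have := top_EE A N n c
    rw [h0, map_zero] at this
    have hmem : Phi n c ∈ II A N n := by
      rw [← smul_top_eq]
      exact (Submodule.Quotient.mk_eq_zero _).mp this.symm
    exact eq_zero_of_Phi_mem n c hc hmem

theorem free_lim' (k : ℤ) (hk : k = 0) :
    Module.Free A (RestrictScalars A (MvPolynomial (Fin N) A)
      (Module.DirectLimit (GG A N k) (TT A N k))) := by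
  subst hk
  exact free_lim A N

end Groth.Agent.Lib.Helper16.KzPoly
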