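import Mathlib
import Groth.Prelude.Def_Koszul
import Groth.Prelude.Def_LCI2
import Groth.Agent.Lib.Helper16.KzReg1

/-!
# Finite type algebras between regular rings are local complete intersections
-/

set_option autoImplicit false
set_option linter.unusedSectionVars false
set_option linter.unusedVariables false
set_option linter.unusedSimpArgs false
universe u
open CategoryTheory CategoryTheory.Limits TensorProduct

namespace Groth.Agent.Lib.Helper16.KzComp

open Groth.Agent.Lib.Helper16.KzLoc

/-- in a regular ring, an ideal with regular quotient is Koszul-regular -/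
theorem isKoszulRegularIdeal_of_isRegularRing (P : Type u) [CommRing P] [IsRegularRing P]
    (I : Ideal P) [IsRegularRing (P ⧸ I)] : LCI.IsKoszulRegularIdeal I := by
  have hN : IsNoetherianRing P := inferInstance
  rw [isKoszulRegularIdeal_iff]
  intro 𝔭 h𝔭
  set p : Ideal P := 𝔭.asIdeal with hpdef
  have hpP : p.IsPrime := 𝔭.2
  set T := Localization.AtPrime p with hTdef
  have hT : IsRegularLocalRing T := inferInstance
  set q : Ideal (P ⧸ I) := p.map (Ideal.Quotient.mk I) with hqdef
  have hq : q.IsPrime := Ideal.map_isPrime_of_surjective Ideal.Quotient.mk_surjective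
    (by rw [Ideal.mk_ker]; exact h𝔭)
  have hpq : p = q.comap (Ideal.Quotient.mk I) := by
    rw [hqdef, Ideal.comap_map_of_surjective _ Ideal.Quotient.mk_surjective,
      ← RingHom.ker_eq_comap_bot, Ideal.mk_ker, sup_eq_left.2 h𝔭]
  have hsub : Algebra.algebraMapSubmonoid (P ⧸ I) p.primeCompl = q.primeCompl := by
    ext c
    constructor
    · rintro ⟨b, hb, rfl⟩
      intro hc
      apply hb
      rw [hpq]
      exact hc
    · intro hc
      obtain ⟨b, rfl⟩ := Ideal.Quotient.mk_surjective c
      refine ⟨b, ?_, rfl⟩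
      intro hb
      apply hc
      rw [hpq] at hb
      exact hb
  have hloc : IsLocalization q.primeCompl (T ⧸ I.map (algebraMap P T)) := by
    rw [← hsub]
    infer_instance
  have hTI : IsRegularLocalRing (T ⧸ I.map (algebraMap P T)) :=
    IsRegularLocalRing.of_ringEquiv (IsLocalization.algEquiv q.primeCompl
      (Localization.AtPrime q) (T ⧸ I.map (algebraMap P T))).toRingEquiv
  obtain ⟨d, hd⟩ := Groth.Agent.Lib.Helper21.exists_nat_eq_ringKrullDim (R := T)
  obtain ⟨x, c, hc, hx, hI⟩ :=
    Groth.Agent.Lib.Helper21.exists_generators_of_regular_quotient T d hd (I.map (algebraMap P T))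
  have hreg := Groth.Agent.Lib.Helper21.isRegular_ofFn_of_span_eq_maximalIdeal d T hd x hx
  set lam : List T := List.ofFn (fun i : Fin c => x (Fin.castLE hc i)) with hlamdef
  have htake : lam = (List.ofFn x).take c := by
    apply List.ext_getElem
    · simp [lam, hc]
    · intro i h1 h2
      simp [lam]
  have hlam : RingTheory.Sequence.IsWeaklyRegular T lam := by
    have h1 := hreg.toIsWeaklyRegular
    rw [← List.take_append_drop c (List.ofFn x),
      RingTheory.Sequence.isWeaklyRegular_append_iff] at h1
    rw [htake]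
    exact h1.1
  have hK : LCI.IsKoszulRegularSeq T lam := kreg_of_isWeaklyRegular _ hlam
  have hspan : Ideal.ofList lam = I.map (algebraMap P T) := by
    rw [hI, Ideal.ofList]
    congr 1
    ext b
    simp [lam, List.mem_ofFn]
  obtain ⟨l₀, hl₀⟩ := exists_list_of_isLocalization p.primeCompl T lam
  have hK' : LCI.IsKoszulRegularSeq T (l₀.map (algebraMap P T)) := kreg_of_forall₂_unit hl₀ hK
  have hof : Ideal.ofList (l₀.map (algebraMap P T)) = Ideal.ofList lam :=
    ofList_eq_of_forall₂_unit hl₀
  have h1 : KregLoc l₀ p.primeCompl := (kreg_iff_kregLoc l₀ p.primeCompl T).mp hK'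
  have h2 : LocEq p.primeCompl I (Ideal.ofList l₀) := by
    rw [← map_eq_map_iff p.primeCompl T, ← span_mem_list_eq, ← hspan, ← hof]
  obtain ⟨g₁, hg₁, hk⟩ := exists_kregLoc_powers_of_atPrime l₀ p h1
  obtain ⟨g₂, hg₂, hl⟩ := exists_locEq_powers_of_atPrime I (Ideal.ofList l₀)
    (IsNoetherian.noetherian I) (ofList_fg l₀) p h2
  refine ⟨g₁ * g₂, ?_, l₀, hk.mul_right g₂, ?_⟩
  · intro hmem
    rcases hpP.mem_or_mem hmem with h | h
    · exact hg₁ h
    · exact hg₂ h
  · rw [mul_comm]
    exact hl.mul_right g₁


/-- a finite type algebra between regular rings is a local complete intersection -/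
theorem isLCI_of_isRegularRing (A B : Type u) [CommRing A] [CommRing B] [Algebra A B]
    [IsRegularRing A] [IsRegularRing B] [hft : Algebra.FiniteType A B] : LCI.IsLCI A B := by
  refine ⟨hft, ?_⟩
  obtain ⟨n, f, hf⟩ := Algebra.FiniteType.iff_quotient_mvPolynomial''.mp hft
  refine ⟨n, f, hf, ?_⟩
  have : IsRegularRing (MvPolynomial (Fin n) A ⧸ RingHom.ker f.toRingHom) :=
    IsRegularRing.of_ringEquiv (RingHom.quotientKerEquivOfSurjective (f := f.toRingHom) hf).symm
  exact isKoszulRegularIdeal_of_isRegularRing _ _

end Groth.Agent.Lib.Helper16.KzComp
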