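import Groth.Agent.Lib.Helper16.GorAnnTr
import Groth.Agent.Lib.Helper16.DepthLocalize
import Groth.Agent.Lib.Helper16.LocCohIndepBase

/-!
# Local cohomology of localizations: model independence and generization (helper16)

* subsingleton_H_iff_of_isLocalizedModule : vanishing of H^j of a localization at p is independent of the model.
* subsingleton_H_localization_localization : H^j((M_s)_P) = 0 iff H^j(M_{P cap A}) = 0.
* subsingleton_H_of_le : if A_{p'} is a quotient of a Gorenstein local ring, ht(p'/p) = t and H^{j+t}(M_{p'}) = 0 then H^j(M_p) = 0.
-/

set_option autoImplicit false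
universe u
open IsLocalRing

namespace Groth.Agent.Lib.Helper16.LCGen

open Groth.Agent.Lib.Helper16.LC Groth.Agent.Lib.Helper16.DTL

section model

variable {R : Type u} [CommRing R] [IsNoetherianRing R] (p : Ideal R) [p.IsPrime]
  (M : Type u) [AddCommGroup M] [Module R M]

/-- Vanishing of local cohomology (support in the closed point) of a localization of `M` at `p`
does not depend on the chosen model `(B, T)` of `(R_p, M_p)`. -/
theorem subsingleton_H_iff_of_isLocalizedModule
    (B : Type u) [CommRing B] [Algebra R B] [IsLocalization.AtPrime B p] [IsLocalRing B]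
    (T : Type u) [AddCommGroup T] [Module R T] [Module B T] [IsScalarTower R B T]
    (g : M →ₗ[R] T) [IsLocalizedModule p.primeCompl g] (j : ℕ) :
    Subsingleton (LocCoh.H (maximalIdeal B) j T) ↔
      Subsingleton (LocCoh.H (maximalIdeal (Localization.AtPrime p)) j
        (LocalizedModule p.primeCompl M)) := by
  let σ : Localization.AtPrime p ≃ₐ[R] B :=
    IsLocalization.algEquiv p.primeCompl (Localization.AtPrime p) B
  let algRpB : Algebra (Localization.AtPrime p) B := σ.toRingHom.toAlgebra
  let modRpT : Module (Localization.AtPrime p) T :=
    Module.compHom T (algebraMap (Localization.AtPrime p) B)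
  have tower1 : IsScalarTower (Localization.AtPrime p) B T :=
    IsScalarTower.of_algebraMap_smul fun r x => rfl
  have tower2 : IsScalarTower R (Localization.AtPrime p) T := by
    refine IsScalarTower.of_algebraMap_smul fun r x => ?_
    change σ (algebraMap R (Localization.AtPrime p) r) • x = r • x
    rw [σ.commutes, algebraMap_smul]
  let e : LocalizedModule p.primeCompl M ≃ₗ[R] T := IsLocalizedModule.iso p.primeCompl g
  let e' : LocalizedModule p.primeCompl M ≃ₗ[Localization.AtPrime p] T :=
    LinearEquiv.extendScalarsOfIsLocalization p.primeCompl (Localization.AtPrime p) e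
  have hnoeRp : IsNoetherianRing (Localization.AtPrime p) :=
    IsLocalization.isNoetherianRing p.primeCompl _ inferInstance
  have hnoeB : IsNoetherianRing B := IsLocalization.isNoetherianRing p.primeCompl B inferInstance
  have hmax : (maximalIdeal (Localization.AtPrime p)).map
      (algebraMap (Localization.AtPrime p) B) = maximalIdeal B :=
    IsLocalRing.map_maximalIdeal_of_surjective σ.toRingHom σ.surjective
  obtain ⟨ψ, -⟩ := semiIso_H (R := Localization.AtPrime p) (R' := B)
    (maximalIdeal (Localization.AtPrime p)) j T
  rw [hmax] at ψ
  let E := HcongrEquiv (maximalIdeal (Localization.AtPrime p)) j e'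
  constructor
  · intro h
    have h1 : Subsingleton (LocCoh.H (maximalIdeal (Localization.AtPrime p)) j T) :=
      ψ.symm.toEquiv.subsingleton
    exact E.toEquiv.subsingleton
  · intro h
    have h1 : Subsingleton (LocCoh.H (maximalIdeal (Localization.AtPrime p)) j T) :=
      E.symm.toEquiv.subsingleton
    exact ψ.toEquiv.subsingleton

end model

section double

variable {A : Type u} [CommRing A] [IsNoetherianRing A] (s : Ideal A) [s.IsPrime]
  (M : Type u) [AddCommGroup M] [Module A M]

/-- `H^j((M_s)_P) = 0 ↔ H^j(M_{P ∩ A}) = 0`. -/
theorem subsingleton_H_localization_localization (P : Ideal (Localization.AtPrime s)) [P.IsPrime]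
    (j : ℕ) :
    Subsingleton (LocCoh.H (maximalIdeal (Localization.AtPrime P)) j
        (LocalizedModule P.primeCompl (LocalizedModule s.primeCompl M))) ↔
      Subsingleton (LocCoh.H
        (maximalIdeal (Localization.AtPrime (P.comap (algebraMap A (Localization.AtPrime s))))) j
        (LocalizedModule (P.comap (algebraMap A (Localization.AtPrime s))).primeCompl M)) := by
  have := Depth.isLocalizedModule_comp_mkLinearMap s M P
  exact subsingleton_H_iff_of_isLocalizedModule
    (P.comap (algebraMap A (Localization.AtPrime s))) M (Localization.AtPrime P) _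
    ((LocalizedModule.mkLinearMap P.primeCompl
          (LocalizedModule s.primeCompl M)).restrictScalars A ∘ₗ
        LocalizedModule.mkLinearMap s.primeCompl M) j

omit [IsNoetherianRing A] in
theorem subsingleton_H_congr_ideal {q q' : Ideal A} [hq : q.IsPrime] [hq' : q'.IsPrime]
    (h : q = q') (j : ℕ) :
    Subsingleton (LocCoh.H (maximalIdeal (Localization.AtPrime q)) j
        (LocalizedModule q.primeCompl M)) ↔
      Subsingleton (LocCoh.H (maximalIdeal (Localization.AtPrime q')) j
        (LocalizedModule q'.primeCompl M)) := by
  subst h
  exact Iff.rfl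

/-- **Generization**: if `A_{p'}` is a quotient of a Gorenstein local ring, `p ≤ p'` are primes with
`ht(p'/p) = t` and `H^{j+t}(M_{p'}) = 0`, then `H^j(M_p) = 0`. -/
theorem subsingleton_H_of_le [Module.Finite A M] (p p' : Ideal A) [p.IsPrime] [p'.IsPrime]
    (hpp' : p ≤ p') (S : Type u) [CommRing S] [LocCoh.IsGorensteinLocalRing S]
    (g : S →+* Localization.AtPrime p') (hg : Function.Surjective g) (t j : ℕ)
    (ht : (p'.map (Ideal.Quotient.mk p)).height = t)
    (h : Subsingleton (LocCoh.H (maximalIdeal (Localization.AtPrime p')) (j + t)
      (LocalizedModule p'.primeCompl M))) :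
    Subsingleton (LocCoh.H (maximalIdeal (Localization.AtPrime p)) j
      (LocalizedModule p.primeCompl M)) := by
  have hnoe : IsNoetherianRing (Localization.AtPrime p') :=
    IsLocalization.isNoetherianRing p'.primeCompl _ inferInstance
  let _ : Algebra S (Localization.AtPrime p') := g.toAlgebra
  let _ : Module S (LocalizedModule p'.primeCompl M) := Module.compHom _ g
  have : IsScalarTower S (Localization.AtPrime p') (LocalizedModule p'.primeCompl M) :=
    IsScalarTower.of_algebraMap_smul (fun r x => rfl)
  have hdisj : Disjoint (p'.primeCompl : Set A) (p : Set A) := by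
    rw [Set.disjoint_left]
    intro x hx hx0
    exact hx (hpp' hx0)
  have hP : (p.map (algebraMap A (Localization.AtPrime p'))).IsPrime :=
    IsLocalization.isPrime_of_isPrime_disjoint p'.primeCompl _ p inferInstance hdisj
  have hcomap : (p.map (algebraMap A (Localization.AtPrime p'))).comap
      (algebraMap A (Localization.AtPrime p')) = p :=
    IsLocalization.under_map_of_isPrime_disjoint p'.primeCompl _ inferInstance hdisj
  have key := (GorAnnTr.le_radical_annihilator_H_iff (S := S) hg
    (LocalizedModule p'.primeCompl M) ⊤ (j + t)).mp ?_
      (p.map (algebraMap A (Localization.AtPrime p'))) ?_ j ?_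
  · rw [subsingleton_H_localization_localization p' M
      (p.map (algebraMap A (Localization.AtPrime p'))) j] at key
    exact (subsingleton_H_congr_ideal M hcomap j).mp key
  · rw [Module.annihilator_eq_top_iff.mpr h, Ideal.radical_top]
  · intro hle
    exact hP.ne_top (top_le_iff.mp hle)
  · rw [Depth.ringKrullDim_localization_quotient_map p p' hpp', ht]
    push_cast
    rfl

end double

end Groth.Agent.Lib.Helper16.LCGen
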