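import Mathlib

/-!
# index computations for free Z_l-modules
-/

set_option autoImplicit false

namespace Groth.Agent.Lib.Helper16.Lat

open TensorProduct

section X
variable (ℓ : ℕ) [Fact ℓ.Prime]
variable (N : Type*) [AddCommGroup N] [Module ℤ_[ℓ] N] [Module.Free ℤ_[ℓ] N] [Module.Finite ℤ_[ℓ] N]

theorem card_quot_smul :
    Nat.card (N ⧸ (IsLocalRing.maximalIdeal ℤ_[ℓ] • (⊤ : Submodule ℤ_[ℓ] N)))
      = ℓ ^ Module.finrank ℤ_[ℓ] N := by
  rw [← Nat.card_congr (quotTensorEquivQuotSMul N (IsLocalRing.maximalIdeal ℤ_[ℓ])).toEquiv]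
  have h1 := Module.natCard_eq_pow_finrank (K := IsLocalRing.ResidueField ℤ_[ℓ])
    (V := IsLocalRing.ResidueField ℤ_[ℓ] ⊗[ℤ_[ℓ]] N)
  rw [Module.finrank_baseChange, Nat.card_congr PadicInt.residueField.toEquiv, Nat.card_zmod] at h1
  exact h1

variable {N}

theorem range_smul_eq (U : N →ₗ[ℤ_[ℓ]] N) (hU : Function.Surjective U) :
    LinearMap.range ((ℓ : ℤ_[ℓ]) • U)
      = IsLocalRing.maximalIdeal ℤ_[ℓ] • (⊤ : Submodule ℤ_[ℓ] N) := by
  rw [PadicInt.maximalIdeal_eq_span_p, Submodule.ideal_span_singleton_smul]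
  ext x
  constructor
  · rintro ⟨y, rfl⟩
    exact Submodule.smul_mem_pointwise_smul _ _ _ Submodule.mem_top
  · intro hx
    obtain ⟨z, -, rfl⟩ := (Submodule.mem_smul_pointwise_iff_exists _ _ _).mp hx
    obtain ⟨y, rfl⟩ := hU z
    exact ⟨y, rfl⟩

theorem index_pow (h : N →ₗ[ℤ_[ℓ]] N) (hinj : Function.Injective h) (i : ℕ) :
    (LinearMap.range (h ^ i)).toAddSubgroup.index
      = (LinearMap.range h).toAddSubgroup.index ^ i := by
  induction i with
  | zero =>
    simp [Module.End.one_eq_id]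
  | succ i ih =>
    have hinji : Function.Injective ((h ^ i : N →ₗ[ℤ_[ℓ]] N)).toAddMonoidHom := by
      have : Function.Injective ((h ^ i : N →ₗ[ℤ_[ℓ]] N)) := by
        rw [Module.End.coe_pow]; exact hinj.iterate i
      exact this
    have e1 : (LinearMap.range (h ^ (i + 1))).toAddSubgroup
        = (LinearMap.range h).toAddSubgroup.map ((h ^ i : N →ₗ[ℤ_[ℓ]] N)).toAddMonoidHom := by
      ext x
      simp only [Submodule.mem_toAddSubgroup, LinearMap.mem_range, AddSubgroup.mem_map,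
        LinearMap.toAddMonoidHom_coe]
      constructor
      · rintro ⟨y, rfl⟩
        exact ⟨h y, ⟨y, rfl⟩, by rw [pow_succ]; rfl⟩
      · rintro ⟨_, ⟨y, rfl⟩, rfl⟩
        exact ⟨y, by rw [pow_succ]; rfl⟩
    have e2 : (LinearMap.range (h ^ i)).toAddSubgroup
        = (⊤ : AddSubgroup N).map ((h ^ i : N →ₗ[ℤ_[ℓ]] N)).toAddMonoidHom := by
      ext x
      simp only [Submodule.mem_toAddSubgroup, LinearMap.mem_range, AddSubgroup.mem_map,
        LinearMap.toAddMonoidHom_coe, AddSubgroup.mem_top, true_and]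
    have hle : (LinearMap.range (h ^ (i + 1))).toAddSubgroup
        ≤ (LinearMap.range (h ^ i)).toAddSubgroup := by
      rintro x ⟨y, rfl⟩
      exact ⟨h y, by rw [pow_succ]; rfl⟩
    have key : (LinearMap.range (h ^ (i + 1))).toAddSubgroup.relIndex
        (LinearMap.range (h ^ i)).toAddSubgroup = (LinearMap.range h).toAddSubgroup.index := by
      rw [e1, e2, AddSubgroup.relIndex_map_map_of_injective _ _ hinji,
        AddSubgroup.relIndex_top_right]
    rw [← AddSubgroup.relIndex_mul_index hle, key, ih]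
    ring

theorem lemmaX (h U : N →ₗ[ℤ_[ℓ]] N) (k : ℕ) (hk : 0 < k) (hU : Function.Surjective U)
    (hhU : h ^ k = (ℓ : ℤ_[ℓ]) • U) :
    ∃ r : ℕ, r * k = Module.finrank ℤ_[ℓ] N ∧ Nat.card (N ⧸ LinearMap.range h) = ℓ ^ r := by
  have hp : ℓ.Prime := Fact.out
  have hUinj : Function.Injective U := OrzechProperty.injective_of_surjective_endomorphism U hU
  have hℓ0 : (ℓ : ℤ_[ℓ]) ≠ 0 := by exact_mod_cast hp.ne_zero
  have hinj : Function.Injective h := by
    rw [← LinearMap.ker_eq_bot, LinearMap.ker_eq_bot']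
    intro x hx
    have h1 : (h ^ k) x = 0 := by
      obtain ⟨k', rfl⟩ : ∃ k', k = k' + 1 := ⟨k - 1, by omega⟩
      rw [pow_succ, Module.End.mul_apply, hx, map_zero]
    rw [hhU, LinearMap.smul_apply, smul_eq_zero] at h1
    rcases h1 with h1 | h1
    · exact absurd h1 hℓ0
    · exact hUinj (by rw [h1, map_zero])
  have h1 := index_pow ℓ h hinj k
  rw [hhU, range_smul_eq ℓ U hU] at h1
  have h2 : (IsLocalRing.maximalIdeal ℤ_[ℓ] • (⊤ : Submodule ℤ_[ℓ] N)).toAddSubgroup.index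
      = ℓ ^ Module.finrank ℤ_[ℓ] N := by
    rw [← card_quot_smul ℓ N]
    rfl
  rw [h2] at h1
  have h3 : (LinearMap.range h).toAddSubgroup.index ∣ ℓ ^ Module.finrank ℤ_[ℓ] N := by
    rw [h1]; exact dvd_pow_self _ hk.ne'
  obtain ⟨r, -, hr⟩ := (Nat.dvd_prime_pow hp).mp h3
  refine ⟨r, ?_, ?_⟩
  · rw [hr, ← pow_mul] at h1
    exact (Nat.pow_right_injective hp.two_le h1).symm
  · rw [← hr]; rfl

end X

end Groth.Agent.Lib.Helper16.Lat
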