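import Mathlib
import Groth.Agent.Lib.Helper16.Lat1

/-!
# key lemma: torsion of M/fM via an idempotent
-/

set_option autoImplicit false

namespace Groth.Agent.Lib.Helper16.Lat

section K
variable (ℓ : ℕ) [Fact ℓ.Prime]
variable {M : Type*} [AddCommGroup M] [Module ℤ_[ℓ] M] [Module.Free ℤ_[ℓ] M] [Module.Finite ℤ_[ℓ] M]

theorem mem_range_iff (E : Module.End ℤ_[ℓ] M) (hE : E * E = E) (x : M) :
    x ∈ LinearMap.range E ↔ E x = x := by
  constructor
  · rintro ⟨y, rfl⟩
    have := congrArg (fun g : Module.End ℤ_[ℓ] M => g y) hE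
    exact this
  · intro h; exact ⟨x, h⟩

theorem mem_torsion_iff' (f E W : Module.End ℤ_[ℓ] M) (hEf : E * f = f)
    (hW : (ℓ : ℤ_[ℓ]) • E = f * W) (x : M) :
    (LinearMap.range f).mkQ x ∈ Submodule.torsion ℤ_[ℓ] (M ⧸ LinearMap.range f) ↔ E x = x := by
  have hp : ℓ.Prime := Fact.out
  have hℓ0 : (ℓ : ℤ_[ℓ]) ≠ 0 := by exact_mod_cast hp.ne_zero
  rw [Submodule.mem_torsion_iff]
  constructor
  · rintro ⟨a, ha⟩
    rw [Submonoid.smul_def, ← map_smul, Submodule.mkQ_apply, Submodule.Quotient.mk_eq_zero] at ha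
    obtain ⟨y, hy⟩ := ha
    have h1 : E (f y) = f y := congrArg (fun g : Module.End ℤ_[ℓ] M => g y) hEf
    have h2 : (a : ℤ_[ℓ]) • (E x - x) = 0 := by
      rw [smul_sub, ← map_smul, ← hy, h1, sub_self]
    rcases smul_eq_zero.mp h2 with h3 | h3
    · exact absurd h3 (nonZeroDivisors.coe_ne_zero a)
    · exact sub_eq_zero.mp h3
  · intro hx
    refine ⟨⟨(ℓ : ℤ_[ℓ]), mem_nonZeroDivisors_of_ne_zero hℓ0⟩, ?_⟩
    change (ℓ : ℤ_[ℓ]) • (LinearMap.range f).mkQ x = 0
    rw [← map_smul, Submodule.mkQ_apply, Submodule.Quotient.mk_eq_zero]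
    refine ⟨W x, ?_⟩
    have := congrArg (fun g : Module.End ℤ_[ℓ] M => g x) hW
    simp only [LinearMap.smul_apply, Module.End.mul_apply] at this
    rw [← this, hx]

theorem key (f E W : Module.End ℤ_[ℓ] M) (hE : E * E = E) (hfE : f * E = f) (hEf : E * f = f)
    (hW : (ℓ : ℤ_[ℓ]) • E = f * W) (hWf : W * f = f * W)
    (k : ℕ) (hk : 0 < k) (U : Module.End ℤ_[ℓ] M)
    (hUmem : ∀ x, E x = x → E (U x) = U x)
    (hUsurj : ∀ y, E y = y → ∃ x, E x = x ∧ U x = y)
    (hfk : ∀ x, E x = x → (f ^ k) x = (ℓ : ℤ_[ℓ]) • U x)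
    (c : ℕ) (hc : c = Module.finrank ℤ_[ℓ] M - Module.finrank ℤ_[ℓ] (LinearMap.ker f)) :
    (∀ x ∈ Submodule.torsion ℤ_[ℓ] (M ⧸ LinearMap.range f), (ℓ : ℤ_[ℓ]) • x = 0) ∧
      ∃ r : ℕ, r * k = c ∧
        Nat.card (Submodule.torsion ℤ_[ℓ] (M ⧸ LinearMap.range f)) = ℓ ^ r := by
  have hp : ℓ.Prime := Fact.out
  have hℓ0 : (ℓ : ℤ_[ℓ]) ≠ 0 := by exact_mod_cast hp.ne_zero
  have happ : ∀ {g₁ g₂ : Module.End ℤ_[ℓ] M}, g₁ = g₂ → ∀ x, g₁ x = g₂ x := by
    intro g₁ g₂ h x; rw [h]
  constructor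
  · intro q hq
    obtain ⟨x, rfl⟩ := (LinearMap.range f).mkQ_surjective q
    have hx := (mem_torsion_iff' ℓ f E W hEf hW x).mp hq
    rw [← map_smul, Submodule.mkQ_apply, Submodule.Quotient.mk_eq_zero]
    refine ⟨W x, ?_⟩
    have := happ hW x
    simp only [LinearMap.smul_apply, Module.End.mul_apply] at this
    rw [← this, hx]
  · -- the submodule N
    set N := LinearMap.range E with hN
    have hmem : ∀ x, x ∈ N ↔ E x = x := mem_range_iff ℓ E hE
    have hNf : ∀ x ∈ N, f x ∈ N := by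
      intro x _
      rw [hmem]
      exact happ hEf x
    have hNU : ∀ x ∈ N, U x ∈ N := by
      intro x hx
      rw [hmem] at hx ⊢
      exact hUmem x hx
    set h : N →ₗ[ℤ_[ℓ]] N := f.restrict hNf with hh
    set U' : N →ₗ[ℤ_[ℓ]] N := U.restrict hNU with hU'
    have hU'surj : Function.Surjective U' := by
      rintro ⟨y, hy⟩
      obtain ⟨x, hx, hxy⟩ := hUsurj y ((hmem y).mp hy)
      exact ⟨⟨x, (hmem x).mpr hx⟩, Subtype.ext hxy⟩
    have hpow : h ^ k = (ℓ : ℤ_[ℓ]) • U' := by
      rw [hh, Module.End.pow_restrict]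
      ext ⟨x, hx⟩
      simp only [LinearMap.restrict_coe_apply, LinearMap.smul_apply, Submodule.coe_smul, hU']
      exact hfk x ((hmem x).mp hx)
    obtain ⟨r, hr1, hr2⟩ := lemmaX ℓ h U' k hk hU'surj hpow
    refine ⟨r, ?_, ?_⟩
    · rw [hr1, hc]
      have hker : LinearMap.ker f = LinearMap.ker E := by
        ext x
        simp only [LinearMap.mem_ker]
        constructor
        · intro hx
          have h1 := happ hW x
          simp only [LinearMap.smul_apply, Module.End.mul_apply] at h1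
          have h2 := happ hWf x
          simp only [Module.End.mul_apply] at h2
          rw [← h2, hx, map_zero] at h1
          rcases smul_eq_zero.mp h1 with h3 | h3
          · exact absurd h3 hℓ0
          · exact h3
        · intro hx
          have h1 := happ hfE x
          simp only [Module.End.mul_apply] at h1
          rw [← h1, hx, map_zero]
      rw [hker]
      have h1 := (E : M →ₗ[ℤ_[ℓ]] M).quotKerEquivRange.finrank_eq
      have h2 := Submodule.finrank_quotient_add_finrank (LinearMap.ker E)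
      rw [← hN] at h1
      omega
    · rw [← hr2]
      -- the comparison map
      let ψ : N →ₗ[ℤ_[ℓ]] (M ⧸ LinearMap.range f) := (LinearMap.range f).mkQ ∘ₗ N.subtype
      have hkerψ : LinearMap.ker ψ = LinearMap.range h := by
        ext ⟨x, hx⟩
        simp only [LinearMap.mem_ker, ψ, LinearMap.coe_comp, Function.comp_apply,
          Submodule.coe_subtype, Submodule.mkQ_apply, Submodule.Quotient.mk_eq_zero,
          LinearMap.mem_range]
        constructor
        · rintro ⟨y, hy⟩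
          refine ⟨⟨E y, ⟨y, rfl⟩⟩, Subtype.ext ?_⟩
          rw [hh]
          simp only [LinearMap.restrict_coe_apply]
          have := happ hfE y
          simp only [Module.End.mul_apply] at this
          rw [this, hy]
        · rintro ⟨⟨y, hy⟩, hy2⟩
          refine ⟨y, ?_⟩
          have := congrArg Subtype.val hy2
          rw [hh] at this
          simpa using this
      have hrangeψ : LinearMap.range ψ
          = Submodule.torsion ℤ_[ℓ] (M ⧸ LinearMap.range f) := by
        ext q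
        obtain ⟨x, rfl⟩ := (LinearMap.range f).mkQ_surjective q
        rw [mem_torsion_iff' ℓ f E W hEf hW x]
        constructor
        · rintro ⟨⟨y, hy⟩, hy2⟩
          have hy3 : (LinearMap.range f).mkQ y = (LinearMap.range f).mkQ x := hy2
          have hy4 := (mem_torsion_iff' ℓ f E W hEf hW y).mpr ((hmem y).mp hy)
          rw [hy3] at hy4
          exact (mem_torsion_iff' ℓ f E W hEf hW x).mp hy4
        · intro hx
          exact ⟨⟨x, (hmem x).mpr hx⟩, rfl⟩
      rw [← hrangeψ, ← hkerψ]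
      exact (Nat.card_congr ψ.quotKerEquivRange.toEquiv).symm

end K

end Groth.Agent.Lib.Helper16.Lat
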