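import Mathlib
import Groth.Agent.Lib.Helper16.Lat2

/-!
# case l = 2
-/

set_option autoImplicit false

namespace Groth.Agent.Lib.Helper16.Lat

section C
variable {ℓ : ℕ} [Fact ℓ.Prime]
variable {M : Type*} [AddCommGroup M] [Module ℤ_[ℓ] M] [Module.Free ℤ_[ℓ] M] [Module.Finite ℤ_[ℓ] M]

theorem end_smul_cancel (c : ℤ_[ℓ]) (hc : c ≠ 0) (X : Module.End ℤ_[ℓ] M) (h : c • X = 0) :
    X = 0 := by
  ext x
  have := congrArg (fun g : Module.End ℤ_[ℓ] M => g x) h
  simp only [LinearMap.smul_apply, LinearMap.zero_apply] at this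
  rcases smul_eq_zero.mp this with h1 | h1
  · exact absurd h1 hc
  · exact h1

end C

section two
variable {M : Type*} [AddCommGroup M] [Module ℤ_[2] M] [Module.Free ℤ_[2] M] [Module.Finite ℤ_[2] M]

theorem case2a (a f B : Module.End ℤ_[2] M) (ha : a * a = 1) (hf : f = a - 1)
    (hB : f = (2 : ℤ_[2]) • B)
    (c : ℕ) (hc : c = Module.finrank ℤ_[2] M - Module.finrank ℤ_[2] (LinearMap.ker f)) :
    (∀ x ∈ Submodule.torsion ℤ_[2] (M ⧸ LinearMap.range f), ((2 : ℕ) : ℤ_[2]) • x = 0) ∧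
      ∃ r : ℕ, r * 1 = c ∧
        Nat.card (Submodule.torsion ℤ_[2] (M ⧸ LinearMap.range f)) = 2 ^ r := by
  have h2 : (2 : ℤ_[2]) ≠ 0 := two_ne_zero
  have hff : f * f = -((2 : ℤ_[2]) • f) := by
    rw [hf]
    have : (a - 1) * (a - 1) = a * a - a - a + 1 := by noncomm_ring
    rw [this, ha]
    module
  have hBB : B * B = -B := by
    have h4 : (4 : ℤ_[2]) • (B * B + B) = 0 := by
      have e1 : f * f = (4 : ℤ_[2]) • (B * B) := by
        rw [hB, smul_mul_smul_comm]; norm_num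
      rw [e1, hB] at hff
      rw [smul_add, hff, smul_smul]
      module
    have := end_smul_cancel (4 : ℤ_[2]) (by norm_num) _ h4
    exact eq_neg_of_add_eq_zero_left this
  have hBx : ∀ x, (-B) x = x → B x = -x := by
    intro x hx
    rw [LinearMap.neg_apply] at hx
    exact neg_eq_iff_eq_neg.mp hx
  refine key 2 f (-B) (-1) ?_ ?_ ?_ ?_ ?_ 1 one_pos (-1) ?_ ?_ ?_ c hc
  · rw [neg_mul_neg, hBB]
  · rw [hB, mul_neg, smul_mul_assoc, hBB]; module
  · rw [hB, neg_mul, mul_smul_comm, hBB]; module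
  · rw [hB, mul_neg, mul_one]; push_cast; module
  · simp
  · intro x hx; simpa using hBx x hx
  · intro y hy
    refine ⟨-y, ?_, by simp⟩
    rw [map_neg, hy]
  · intro x hx
    rw [pow_one, hB]
    simp only [LinearMap.smul_apply, LinearMap.neg_apply, Module.End.one_apply]
    rw [hBx x hx]
    push_cast; rfl

theorem case2b (a f B : Module.End ℤ_[2] M) (ha : a * a = 1) (hf : f = a - 1)
    (hB : f ^ 2 = (4 : ℤ_[2]) • B)
    (c : ℕ) (hc : c = Module.finrank ℤ_[2] M - Module.finrank ℤ_[2] (LinearMap.ker f)) :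
    (∀ x ∈ Submodule.torsion ℤ_[2] (M ⧸ LinearMap.range f), ((2 : ℕ) : ℤ_[2]) • x = 0) ∧
      ∃ r : ℕ, r * 1 = c ∧
        Nat.card (Submodule.torsion ℤ_[2] (M ⧸ LinearMap.range f)) = 2 ^ r := by
  have hff : f * f = -((2 : ℤ_[2]) • f) := by
    rw [hf]
    have : (a - 1) * (a - 1) = a * a - a - a + 1 := by noncomm_ring
    rw [this, ha]
    module
  have h1 : (2 : ℤ_[2]) • (f - (2 : ℤ_[2]) • (-B)) = 0 := by
    rw [pow_two, hff] at hB
    have : (2 : ℤ_[2]) • f = -((4 : ℤ_[2]) • B) := by rw [← hB, neg_neg]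
    rw [smul_sub, this, smul_smul]
    module
  have h2 := end_smul_cancel (2 : ℤ_[2]) two_ne_zero _ h1
  exact case2a a f (-B) ha hf (sub_eq_zero.mp h2) c hc

end two

end Groth.Agent.Lib.Helper16.Lat
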