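import Mathlib
import Groth.Agent.Lib.Helper16.Lat3

/-!
# case l = 3 and main theorem for S18599
-/

set_option autoImplicit false

namespace Groth.Agent.Lib.Helper16.Lat

section three
variable {M : Type*} [AddCommGroup M] [Module ℤ_[3] M] [Module.Free ℤ_[3] M] [Module.Finite ℤ_[3] M]

theorem case3 (a f B : Module.End ℤ_[3] M) (ha : a * (a * a) = 1) (hf : f = a - 1)
    (hB : f ^ 2 = (3 : ℤ_[3]) • B)
    (c : ℕ) (hc : c = Module.finrank ℤ_[3] M - Module.finrank ℤ_[3] (LinearMap.ker f)) :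
    (∀ x ∈ Submodule.torsion ℤ_[3] (M ⧸ LinearMap.range f), ((3 : ℕ) : ℤ_[3]) • x = 0) ∧
      ∃ r : ℕ, r * 2 = c ∧
        Nat.card (Submodule.torsion ℤ_[3] (M ⧸ LinearMap.range f)) = 3 ^ r := by
  have h3 : (3 : ℤ_[3]) ≠ 0 := by exact_mod_cast (by norm_num : (3 : ℕ) ≠ 0)
  have haf : a = f + 1 := by rw [hf]; abel
  -- the norm element
  obtain ⟨Nn, hNn⟩ : ∃ Nn : Module.End ℤ_[3] M, Nn = a * a + a + 1 := ⟨_, rfl⟩
  have hfN : f * Nn = 0 := by
    rw [hf, hNn]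
    have : (a - 1) * (a * a + a + 1) = a * (a * a) - 1 := by noncomm_ring
    rw [this, ha, sub_self]
  have hNf : Nn * f = 0 := by
    rw [hf, hNn]
    have : (a * a + a + 1) * (a - 1) = a * (a * a) - 1 := by noncomm_ring
    rw [this, ha, sub_self]
  have hNn2 : Nn = f * f + (3 : ℤ_[3]) • f + (3 : ℤ_[3]) • 1 := by
    rw [hNn, haf]
    have : (f + 1) * (f + 1) + (f + 1) + 1 = f * f + (f + f + f) + (1 + 1 + 1) := by noncomm_ring
    rw [this]
    module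
  obtain ⟨E', hE'⟩ : ∃ E' : Module.End ℤ_[3] M, E' = B + f + 1 := ⟨_, rfl⟩
  have hN3 : Nn = (3 : ℤ_[3]) • E' := by
    rw [hNn2, hE', ← pow_two, hB]
    module
  have hfE' : f * E' = 0 := by
    apply end_smul_cancel (3 : ℤ_[3]) h3
    rw [← mul_smul_comm, ← hN3, hfN]
  have hE'f : E' * f = 0 := by
    apply end_smul_cancel (3 : ℤ_[3]) h3
    rw [← smul_mul_assoc, ← hN3, hNf]
  have hBE' : B * E' = 0 := by
    apply end_smul_cancel (3 : ℤ_[3]) h3
    rw [← smul_mul_assoc, ← hB, pow_two, mul_assoc, hfE', mul_zero]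
  have hE'E' : E' * E' = E' := by
    have h0 : E' * E' = (B + f + 1) * E' := by rw [← hE']
    rw [h0, add_mul, add_mul, one_mul, hBE', hfE', zero_add, zero_add]
  -- pointwise facts
  have hE'a : ∀ x, E' (a x) = E' x := by
    intro x
    have h1 : (E' * f) x = 0 := by rw [hE'f]; rfl
    have hax : a x = f x + x := by rw [haf]; rfl
    rw [hax, map_add]
    rw [Module.End.mul_apply] at h1
    rw [h1, zero_add]
  have hEx : ∀ x, (1 - E') x = x ↔ E' x = 0 := by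
    intro x
    rw [LinearMap.sub_apply, Module.End.one_apply]
    constructor
    · intro h; exact sub_eq_self.mp h
    · intro h; rw [h, sub_zero]
  have ha3 : ∀ y, a (a (a y)) = y := by
    intro y
    have := congrArg (fun g : Module.End ℤ_[3] M => g y) ha
    simpa using this
  refine key 3 f (1 - E') (-(f + (3 : ℤ_[3]) • 1)) ?_ ?_ ?_ ?_ ?_ 2 two_pos (-a) ?_ ?_ ?_ c hc
  · have : (1 - E') * (1 - E') = 1 - E' - E' + E' * E' := by noncomm_ring
    rw [this, hE'E']; abel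
  · rw [mul_sub, mul_one, hfE', sub_zero]
  · rw [sub_mul, one_mul, hE'f, sub_zero]
  · have e1 : ((3 : ℕ) : ℤ_[3]) • (1 - E') = (3 : ℤ_[3]) • 1 - Nn := by
      rw [hN3]; push_cast; module
    rw [e1, hNn2]
    have : f * -(f + (3 : ℤ_[3]) • 1) = -(f * f) - (3 : ℤ_[3]) • f := by
      rw [mul_neg, mul_add, mul_smul_comm, mul_one]; abel
    rw [this]; abel
  · rw [neg_mul, mul_neg, add_mul, mul_add, smul_mul_assoc, mul_smul_comm, one_mul, mul_one]
  · intro x hx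
    rw [hEx] at hx ⊢
    rw [LinearMap.neg_apply, map_neg, hE'a, hx, neg_zero]
  · intro y hy
    rw [hEx] at hy
    refine ⟨-(a (a y)), ?_, ?_⟩
    · rw [hEx, map_neg, hE'a, hE'a, hy, neg_zero]
    · rw [LinearMap.neg_apply, map_neg, neg_neg, ha3]
  · intro x hx
    rw [hEx] at hx
    have h1 : Nn x = 0 := by rw [hN3, LinearMap.smul_apply, hx, smul_zero]
    rw [hNn2] at h1
    simp only [LinearMap.add_apply, LinearMap.smul_apply, Module.End.mul_apply,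
      Module.End.one_apply] at h1
    rw [pow_two, Module.End.mul_apply, LinearMap.neg_apply, haf, LinearMap.add_apply,
      Module.End.one_apply]
    push_cast
    have h2 : f (f x) = -((3 : ℤ_[3]) • f x + (3 : ℤ_[3]) • x) := by
      rw [eq_neg_iff_add_eq_zero, ← add_assoc]; exact h1
    rw [h2, smul_neg, smul_add]

end three

theorem main (ℓ : ℕ) [Fact ℓ.Prime]
    (M : Type*) [AddCommGroup M] [Module ℤ_[ℓ] M] [Module.Free ℤ_[ℓ] M] [Module.Finite ℤ_[ℓ] M]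
    (A : M ≃ₗ[ℤ_[ℓ]] M) (hA : A ^ ℓ = 1) (f : Module.End ℤ_[ℓ] M) (hf : f = (A : M →ₗ[ℤ_[ℓ]] M) - 1)
    (hcase : (ℓ = 2 ∧ ∃ B : Module.End ℤ_[ℓ] M, f = (2 : ℤ_[ℓ]) • B) ∨
      (ℓ = 2 ∧ ∃ B : Module.End ℤ_[ℓ] M, f ^ 2 = (4 : ℤ_[ℓ]) • B) ∨
      (ℓ = 3 ∧ ∃ B : Module.End ℤ_[ℓ] M, f ^ 2 = (3 : ℤ_[ℓ]) • B))
    (c : ℕ) (hc : c = Module.finrank ℤ_[ℓ] M - Module.finrank ℤ_[ℓ] (LinearMap.ker f)) :
    (∀ x ∈ Submodule.torsion ℤ_[ℓ] (M ⧸ LinearMap.range f), (ℓ : ℤ_[ℓ]) • x = 0) ∧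
      ∃ r : ℕ, r * (ℓ - 1) = c ∧
        Nat.card (Submodule.torsion ℤ_[ℓ] (M ⧸ LinearMap.range f)) = ℓ ^ r := by
  rcases hcase with ⟨rfl, B, hB⟩ | ⟨rfl, B, hB⟩ | ⟨rfl, B, hB⟩
  · have ha : (A : M →ₗ[ℤ_[2]] M) * (A : M →ₗ[ℤ_[2]] M) = 1 := by
      ext x
      have := congrArg (fun g : M ≃ₗ[ℤ_[2]] M => g x) hA
      simpa [pow_succ] using this
    exact case2a _ f B ha hf hB c hc
  · have ha : (A : M →ₗ[ℤ_[2]] M) * (A : M →ₗ[ℤ_[2]] M) = 1 := by
      ext x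
      have := congrArg (fun g : M ≃ₗ[ℤ_[2]] M => g x) hA
      simpa [pow_succ] using this
    exact case2b _ f B ha hf hB c hc
  · have ha : (A : M →ₗ[ℤ_[3]] M) * ((A : M →ₗ[ℤ_[3]] M) * (A : M →ₗ[ℤ_[3]] M)) = 1 := by
      ext x
      have := congrArg (fun g : M ≃ₗ[ℤ_[3]] M => g x) hA
      simpa [pow_succ] using this
    exact case3 _ f B ha hf hB c hc

end Groth.Agent.Lib.Helper16.Lat
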