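import Groth.Agent.Lib.Helper16.Liaison3
import Groth.Agent.Lib.Helper16.GorArtDual

/-!
# Liaison IV: double linkage c : (c : I) = I (helper16)

* double_annihilator_core : local core at a minimal prime of a Gorenstein ring.
* colon_colon_eq : if R/c is Gorenstein, c ≤ I and Ass(R/I) consists of minimal primes of c, then c : (c : I) = I.
-/

set_option autoImplicit false
universe u
open IsLocalRing

namespace Groth.Agent.Lib.Helper16.Liaison

section core

variable {A : Type u} [CommRing A] [hG : LocCoh.IsGorensteinRing A]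

/-- Local core of the double annihilator property at a minimal prime of a Gorenstein ring. -/
theorem double_annihilator_core {𝔭 : Ideal A} (h𝔭 : 𝔭 ∈ minimalPrimes A) (I : Ideal A) (x : A)
    (h1 : ∀ a : A, (∀ i ∈ I, a * i = 0) → x * a = 0)
    (h2 : ∀ t : A, t * x ∈ I → t ∈ 𝔭) : False := by
  have hnoe : IsNoetherianRing A := hG.toIsNoetherian
  have hprime : 𝔭.IsPrime := h𝔭.1.1
  let B := Localization.AtPrime 𝔭
  have hGB : LocCoh.IsGorensteinLocalRing B := hG.isGorensteinLocalRing_localization 𝔭
  have hnoeB : IsNoetherianRing B := IsLocalization.isNoetherianRing 𝔭.primeCompl _ inferInstance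
  have hdim : ringKrullDim B = 0 := by
    rw [IsLocalization.AtPrime.ringKrullDim_eq_height 𝔭 B, Ideal.height_eq_zero_iff.mpr h𝔭]
    rfl
  -- the image of `x` is not in `I B`
  have hb : algebraMap A B x ∉ I.map (algebraMap A B) := by
    intro hmem
    obtain ⟨⟨i, s⟩, hs⟩ := (IsLocalization.mem_map_algebraMap_iff 𝔭.primeCompl B).mp hmem
    have h3 : algebraMap A B (x * s.1 - i.1) = 0 := by
      rw [map_sub, map_mul, hs, sub_self]
    obtain ⟨t, ht⟩ := (IsLocalization.map_eq_zero_iff 𝔭.primeCompl B _).mp h3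
    have h4 : (t.1 * s.1) * x ∈ I := by
      have : (t.1 * s.1) * x = t.1 * (x * s.1 - i.1) + t.1 * i.1 := by ring
      rw [this, ht, zero_add]
      exact I.mul_mem_left _ i.2
    exact (t * s).2 (h2 _ h4)
  obtain ⟨y, hyJ, hyb⟩ := GorArt.exists_mul_ne_zero_of_notMem B hGB hdim
    (I.map (algebraMap A B)) hb
  obtain ⟨⟨a, s⟩, rfl⟩ := IsLocalization.mk'_surjective 𝔭.primeCompl y
  -- replace `y` by the numerator
  have hya : ∀ z : B, IsLocalization.mk' B a s * z = 0 ↔ algebraMap A B a * z = 0 := by
    intro z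
    have hu : IsUnit (algebraMap A B s.1) := IsLocalization.map_units B s
    rw [← IsLocalization.mk'_spec' B a s, mul_assoc]
    exact (hu.mul_right_eq_zero).symm
  -- clear denominators on generators of `I`
  obtain ⟨gens, hgens⟩ := (IsNoetherian.noetherian I : I.FG)
  have hgen : ∀ g ∈ gens, ∃ u : 𝔭.primeCompl, u.1 * (a * g) = 0 := by
    intro g hg
    have hgI : g ∈ I := hgens ▸ Submodule.subset_span hg
    have h3 : algebraMap A B (a * g) = 0 := by
      rw [map_mul, ← hya]
      exact hyJ _ (Ideal.mem_map_of_mem _ hgI)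
    exact (IsLocalization.map_eq_zero_iff 𝔭.primeCompl B _).mp h3
  choose! u hu using hgen
  let U : 𝔭.primeCompl := ∏ g ∈ gens, u g
  have hUa : ∀ i ∈ I, (U.1 * a) * i = 0 := by
    intro i hi
    rw [← hgens] at hi
    refine Submodule.span_induction ?_ ?_ ?_ ?_ hi
    · intro g hg
      have hdvd : (u g).1 ∣ U.1 := by
        have := Finset.dvd_prod_of_mem (fun g => ((u g : 𝔭.primeCompl) : A)) hg
        have hcoe : (U : A) = ∏ g ∈ gens, ((u g : 𝔭.primeCompl) : A) := by
          change ((∏ g ∈ gens, u g : 𝔭.primeCompl) : A) = _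
          exact Submonoid.coe_finsetProd 𝔭.primeCompl u gens
        rw [hcoe]
        exact this
      obtain ⟨w, hw⟩ := hdvd
      rw [hw]
      have := hu g hg
      calc (u g).1 * w * a * g = w * ((u g).1 * (a * g)) := by ring
        _ = 0 := by rw [this, mul_zero]
    · rw [mul_zero]
    · intro p q _ _ hp hq
      rw [mul_add, hp, hq, add_zero]
    · intro r p _ hp
      rw [smul_eq_mul, mul_left_comm, hp, mul_zero]
  have h5 := h1 (U.1 * a) hUa
  apply hyb
  rw [hya]
  have hu' : IsUnit (algebraMap A B U.1) := IsLocalization.map_units B U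
  have h6 : algebraMap A B U.1 * (algebraMap A B a * algebraMap A B x) = 0 := by
    rw [← map_mul, ← map_mul]
    have : U.1 * (a * x) = x * (U.1 * a) := by ring
    rw [this, h5, map_zero]
  exact (hu'.mul_right_eq_zero).mp h6

end core

section double

variable {R : Type u} [CommRing R] [IsNoetherianRing R] (𝔠 I : Ideal R)

/-- **Double linkage**: if `R/𝔠` is Gorenstein, `𝔠 ≤ I` and every associated prime of `R/I` is
minimal over `𝔠`, then `𝔠 : (𝔠 : I) = I`. -/
theorem colon_colon_eq [hG : LocCoh.IsGorensteinRing (R ⧸ 𝔠)] (h𝔠I : 𝔠 ≤ I)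
    (hass : ∀ P ∈ associatedPrimes R (R ⧸ I), P ∈ 𝔠.minimalPrimes) :
    𝔠.colon ((𝔠.colon (I : Set R) : Ideal R) : Set R) = I := by
  apply le_antisymm
  · intro x hx
    by_contra hxI
    obtain ⟨P, hP, hle⟩ := exists_associatedPrime_of_notMem I hxI
    have hPmin := hass P hP
    have hsurj : Function.Surjective (Ideal.Quotient.mk 𝔠) := Ideal.Quotient.mk_surjective
    have hpmin : P.map (Ideal.Quotient.mk 𝔠) ∈ minimalPrimes (R ⧸ 𝔠) := by
      have h1 := Ideal.minimalPrimes_map_of_surjective hsurj 𝔠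
      rw [Ideal.mk_ker, sup_idem, Ideal.map_quotient_self] at h1
      change P.map (Ideal.Quotient.mk 𝔠) ∈ (⊥ : Ideal (R ⧸ 𝔠)).minimalPrimes
      rw [h1]
      exact ⟨P, hPmin, rfl⟩
    refine double_annihilator_core hpmin (I.map (Ideal.Quotient.mk 𝔠)) (Ideal.Quotient.mk 𝔠 x)
      ?_ ?_
    · intro ab hab
      obtain ⟨a, rfl⟩ := hsurj ab
      have ha : a ∈ 𝔠.colon (I : Set R) := by
        rw [Submodule.mem_colon]
        intro s hs
        have := hab _ (Ideal.mem_map_of_mem (Ideal.Quotient.mk 𝔠) hs)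
        rw [← map_mul, Ideal.Quotient.eq_zero_iff_mem] at this
        exact this
      rw [Submodule.mem_colon] at hx
      have := hx a ha
      rw [← map_mul, Ideal.Quotient.eq_zero_iff_mem]
      exact this
    · intro tb htb
      obtain ⟨t, rfl⟩ := hsurj tb
      rw [← map_mul, ← Ideal.mem_comap, Ideal.comap_map_of_surjective _ hsurj,
        ← RingHom.ker_eq_comap_bot, Ideal.mk_ker, sup_eq_left.mpr h𝔠I] at htb
      exact Ideal.mem_map_of_mem _ (hle t htb)
  · intro x hx
    rw [Submodule.mem_colon]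
    intro a ha
    have ha' : a ∈ 𝔠.colon (I : Set R) := ha
    rw [Submodule.mem_colon] at ha'
    have := ha' x hx
    rw [smul_eq_mul] at this ⊢
    rwa [mul_comm]

end double

end Groth.Agent.Lib.Helper16.Liaison
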