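import Groth.Agent.Lib.Helper16.Liaison5

/-!
# Liaison VI: basic double links (helper16)

* notMem_of_mem_minimalPrimes_of_colon_eq, bdl_height : J + fI has the same height as I.
* bdlMul, bdlProj, bdlMul_injective, bdl_exact : the exact sequence 0 -> R/I -> R/(J+fI) -> R/(J+fR) -> 0.
* associatedPrimes_subset_bdl, associatedPrimes_bdl_subset.
* depth_quot_map_eq_zero_of_mem_associatedPrimes : depth of R_p/bR_p is zero at associated primes of R/b.
* height_eq_of_mem_associatedPrimes_sup_span, bdl_unmixed_iff.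
-/

set_option autoImplicit false
set_option linter.unusedSectionVars false
universe u
open IsLocalRing MvPolynomial

namespace Groth.Agent.Lib.Helper16.Liaison

section bdl

variable {R : Type u} [CommRing R] [IsNoetherianRing R]

/-- If `J : f = J` then `f` lies in no minimal prime of `J`. -/
theorem notMem_of_mem_minimalPrimes_of_colon_eq (J : Ideal R) (f : R) (hJf : J.colon {f} = J)
    {P : Ideal R} (hP : P ∈ J.minimalPrimes) : f ∉ P := by
  intro hfP
  have hass := mem_associatedPrimes_of_mem_minimalPrimes J hP le_rfl hP.1.2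
  rw [AssociatedPrimes.mem_iff, isAssociatedPrime_iff] at hass
  obtain ⟨hPp, y, hy⟩ := hass
  obtain ⟨x, rfl⟩ := Ideal.Quotient.mk_surjective y
  rw [hy, Submodule.mem_colon_singleton, Submodule.mem_bot] at hfP
  change Ideal.Quotient.mk J (f * x) = 0 at hfP
  rw [Ideal.Quotient.eq_zero_iff_mem, mul_comm, ← GorQuot.mem_colon_singleton', hJf] at hfP
  have h1 : (1 : R) ∈ P := by
    rw [hy, Submodule.mem_colon_singleton, Submodule.mem_bot, one_smul]
    exact Ideal.Quotient.eq_zero_iff_mem.mpr hfP
  exact hPp.ne_top ((Ideal.eq_top_iff_one _).mpr h1)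

/-- Basic double link: `J + fI` has the same height as `I`. -/
theorem bdl_height (J I : Ideal R) (h : ℕ) (hJI : J ≤ I) (hJh : J.height = h)
    (hIh : I.height = h + 1) (f : R) (hJf : J.colon {f} = J) :
    (J ⊔ Ideal.span {f} * I).height = h + 1 := by
  apply le_antisymm
  · rw [← hIh]
    exact Ideal.height_mono (sup_le hJI Ideal.mul_le_right)
  · rw [Ideal.height_eq_inf_minimalPrimes]
    refine le_iInf₂ fun P hP => ?_
    have hPp : P.IsPrime := hP.1.1
    have hJP : J ≤ P := le_sup_left.trans hP.1.2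
    have hmul : Ideal.span {f} * I ≤ P := le_sup_right.trans hP.1.2
    rcases (Ideal.IsPrime.mul_le hPp).mp hmul with hf | hI
    · obtain ⟨P₀, hP₀, hP₀P⟩ := Ideal.exists_minimalPrimes_le hJP
      have hP₀p : P₀.IsPrime := hP₀.1.1
      have hfP : f ∈ P := hf (Ideal.mem_span_singleton_self f)
      have hfP₀ := notMem_of_mem_minimalPrimes_of_colon_eq J f hJf hP₀
      have hlt : P₀ < P := lt_of_le_of_ne hP₀P (fun h => hfP₀ (h ▸ hfP))
      have h1 := Ideal.height_add_one_le_of_lt_of_isPrime hlt
      have h2 : (h : ℕ∞) ≤ P₀.height := hJh ▸ Ideal.height_mono hP₀.1.2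
      exact (add_le_add_left h2 1).trans h1
    · rw [← hIh]
      exact Ideal.height_mono hI

/-- multiplication by `f` as a map `R/I → R/(J + fI)` -/
noncomputable def bdlMul (J I : Ideal R) (f : R) :
    (R ⧸ I) →ₗ[R] (R ⧸ (J ⊔ Ideal.span {f} * I)) :=
  Submodule.mapQ I (J ⊔ Ideal.span {f} * I) (LinearMap.lsmul R R f) (by
    intro r hr
    rw [Submodule.mem_comap, LinearMap.lsmul_apply, smul_eq_mul]
    exact Ideal.mem_sup_right (Ideal.mul_mem_mul (Ideal.mem_span_singleton_self f) hr))

theorem bdlMul_mk (J I : Ideal R) (f r : R) :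
    bdlMul J I f (Ideal.Quotient.mk I r) = Ideal.Quotient.mk _ (f * r) := rfl

theorem bdl_le (J I : Ideal R) (f : R) : J ⊔ Ideal.span {f} * I ≤ J ⊔ Ideal.span {f} :=
  sup_le_sup_left Ideal.mul_le_left _

/-- the projection `R/(J + fI) → R/(J + fR)` -/
noncomputable def bdlProj (J I : Ideal R) (f : R) :
    (R ⧸ (J ⊔ Ideal.span {f} * I)) →ₗ[R] (R ⧸ (J ⊔ Ideal.span {f})) :=
  Submodule.mapQ (J ⊔ Ideal.span {f} * I) (J ⊔ Ideal.span {f}) LinearMap.id (by
    intro r hr
    exact bdl_le J I f hr)

theorem bdlProj_mk (J I : Ideal R) (f r : R) :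
    bdlProj J I f (Ideal.Quotient.mk _ r) = Ideal.Quotient.mk _ r := rfl

theorem bdlMul_injective (J I : Ideal R) (f : R) (hJI : J ≤ I) (hJf : J.colon {f} = J) :
    Function.Injective (bdlMul J I f) := by
  rw [← LinearMap.ker_eq_bot, LinearMap.ker_eq_bot']
  intro m hm
  obtain ⟨r, rfl⟩ := Ideal.Quotient.mk_surjective m
  rw [bdlMul_mk, Ideal.Quotient.eq_zero_iff_mem] at hm
  obtain ⟨j, hj, y, hy, hjy⟩ := Submodule.mem_sup.mp hm
  obtain ⟨i, hi, rfl⟩ := Ideal.mem_span_singleton_mul.mp hy
  have h1 : r - i ∈ J.colon {f} := by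
    rw [GorQuot.mem_colon_singleton']
    have : (r - i) * f = j := by
      have e : f * r = j + f * i := hjy.symm
      calc (r - i) * f = f * r - f * i := by ring
        _ = j := by rw [e]; ring
    rw [this]
    exact hj
  rw [hJf] at h1
  rw [Ideal.Quotient.eq_zero_iff_mem]
  have : r = (r - i) + i := by ring
  rw [this]
  exact I.add_mem (hJI h1) hi

theorem bdl_exact (J I : Ideal R) (f : R) :
    Function.Exact (bdlMul J I f) (bdlProj J I f) := by
  intro y
  obtain ⟨r, rfl⟩ := Ideal.Quotient.mk_surjective y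
  rw [bdlProj_mk, Ideal.Quotient.eq_zero_iff_mem]
  constructor
  · intro hr
    obtain ⟨j, hj, z, hz, hjz⟩ := Submodule.mem_sup.mp hr
    obtain ⟨t, rfl⟩ := Ideal.mem_span_singleton'.mp hz
    refine ⟨Ideal.Quotient.mk I t, ?_⟩
    rw [bdlMul_mk, Ideal.Quotient.eq]
    have : f * t - r = -j := by rw [← hjz]; ring
    rw [this]
    exact (Ideal.neg_mem_iff _).mpr (Ideal.mem_sup_left hj)
  · rintro ⟨m, hm⟩
    obtain ⟨t, rfl⟩ := Ideal.Quotient.mk_surjective m
    rw [bdlMul_mk, Ideal.Quotient.eq] at hm
    have : r = f * t - (f * t - r) := by ring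
    rw [this]
    exact Ideal.sub_mem _ (Ideal.mem_sup_right (Ideal.mul_mem_right _ _
      (Ideal.mem_span_singleton_self f))) (bdl_le J I f hm)

theorem associatedPrimes_subset_bdl (J I : Ideal R) (f : R) (hJI : J ≤ I)
    (hJf : J.colon {f} = J) :
    associatedPrimes R (R ⧸ I) ⊆ associatedPrimes R (R ⧸ (J ⊔ Ideal.span {f} * I)) :=
  associatedPrimes.subset_of_injective (bdlMul_injective J I f hJI hJf)

theorem associatedPrimes_bdl_subset (J I : Ideal R) (f : R) (hJI : J ≤ I)
    (hJf : J.colon {f} = J) :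
    associatedPrimes R (R ⧸ (J ⊔ Ideal.span {f} * I)) ⊆
      associatedPrimes R (R ⧸ I) ∪ associatedPrimes R (R ⧸ (J ⊔ Ideal.span {f})) :=
  associatedPrimes.subset_union_of_exact (bdlMul_injective J I f hJI hJf) (bdl_exact J I f)

end bdl

section locdepth

open Groth.Agent.Lib.Helper18.CM

variable {R : Type u} [CommRing R] [IsNoetherianRing R]

/-- For an associated prime `p` of `R/𝔟`, the `R_p`-module `R_p/𝔟R_p` has depth zero. -/
theorem depth_quot_map_eq_zero_of_mem_associatedPrimes (𝔟 : Ideal R) {p : Ideal R} [hp : p.IsPrime]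
    (hass : p ∈ associatedPrimes R (R ⧸ 𝔟)) :
    LocCoh.depth (Localization.AtPrime p)
      (Localization.AtPrime p ⧸ 𝔟.map (algebraMap R (Localization.AtPrime p))) = 0 := by
  have heq : Submodule.localized' (Localization.AtPrime p) p.primeCompl
      (Algebra.linearMap R (Localization.AtPrime p)) 𝔟 =
      𝔟.map (algebraMap R (Localization.AtPrime p)) :=
    Ideal.localized'_eq_map (Localization.AtPrime p) p.primeCompl 𝔟
  have h1 : maximalIdeal (Localization.AtPrime p) ∈ associatedPrimes (Localization.AtPrime p)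
      (Localization.AtPrime p ⧸ Submodule.localized' (Localization.AtPrime p) p.primeCompl
        (Algebra.linearMap R (Localization.AtPrime p)) 𝔟) := by
    rw [← Module.associatedPrimes.preimage_comap_associatedPrimes_eq_associatedPrimes_of_isLocalizedModule
      p.primeCompl (Localization.AtPrime p)
      (Submodule.toLocalizedQuotient' (Localization.AtPrime p) p.primeCompl
        (Algebra.linearMap R (Localization.AtPrime p)) 𝔟)]
    have e : Ideal.comap (algebraMap R (Localization.AtPrime p))
        (maximalIdeal (Localization.AtPrime p)) = p :=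
      IsLocalization.AtPrime.under_maximalIdeal (Localization.AtPrime p) p
    rw [Set.mem_preimage, e]
    exact hass
  rw [← depth_eq_zero_iff] at h1
  rw [← h1]
  exact (depth_congr (Submodule.quotEquivOfEq _ _ heq)).symm

end locdepth

section poly

open Groth.Agent.Lib.Helper18.CM

variable {K : Type u} [Field K] {N : ℕ}

/-- If `R/J` is Cohen–Macaulay with `J` homogeneous of height `h` and `f` is a nonzerodivisor on
`R/J`, every associated prime of `R/(J + fR)` has height `h + 1`. -/
theorem height_eq_of_mem_associatedPrimes_sup_span (J : Ideal (MvPolynomial (Fin N) K))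
    (hJ : J.IsHomogeneous (GrSyz.stdGr K (Fin N)))
    [hCMJ : LocCoh.IsCohenMacaulayRing (MvPolynomial (Fin N) K ⧸ J)] (h : ℕ) (hJh : J.height = h)
    (f : MvPolynomial (Fin N) K) (hJf : J.colon {f} = J) {p : Ideal (MvPolynomial (Fin N) K)}
    (hp : p ∈ associatedPrimes (MvPolynomial (Fin N) K)
      (MvPolynomial (Fin N) K ⧸ (J ⊔ Ideal.span {f}))) : p.height = h + 1 := by
  have hpp : p.IsPrime := IsAssociatedPrime.isPrime hp
  have h𝔟p : J ⊔ Ideal.span {f} ≤ p := by
    have := annihilator_le_of_mem_associatedPrimes _ hp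
    rwa [Ideal.annihilator_quotient] at this
  have hJp : J ≤ p := le_sup_left.trans h𝔟p
  have hfp : f ∈ p := h𝔟p (Ideal.mem_sup_right (Ideal.mem_span_singleton_self f))
  have hGT := RegGor.isGorensteinLocalRing_of_isRegularLocalRing (Localization.AtPrime p)
  have hCMT : LocCoh.IsCohenMacaulayLocalRing (Localization.AtPrime p) :=
    Groth.Agent.Lib.Helper11.GorCM.isCohenMacaulayLocalRing_of_gorenstein _
  have hd0 := depth_quot_map_eq_zero_of_mem_associatedPrimes (J ⊔ Ideal.span {f}) hp
  have hmap : (J ⊔ Ideal.span {f}).map (algebraMap _ (Localization.AtPrime p)) =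
      J.map (algebraMap _ (Localization.AtPrime p)) ⊔
        Ideal.span {algebraMap _ (Localization.AtPrime p) f} := by
    rw [Ideal.map_sup]
    congr 1
    rw [Ideal.map_span, Set.image_singleton]
  -- the Cohen–Macaulay local ring `T/JT`
  have hqJ : (p.map (Ideal.Quotient.mk J)).IsPrime :=
    Ideal.map_isPrime_of_surjective Ideal.Quotient.mk_surjective (by rwa [Ideal.mk_ker])
  have hcomap : p = (p.map (Ideal.Quotient.mk J)).comap (Ideal.Quotient.mk J) := by
    rw [Ideal.comap_map_of_surjective _ Ideal.Quotient.mk_surjective, ← RingHom.ker_eq_comap_bot,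
      Ideal.mk_ker, sup_eq_left.mpr hJp]
  have hCM0 := hCMJ.isCohenMacaulayLocalRing_localization (p.map (Ideal.Quotient.mk J))
  have hCM1 : LocCoh.IsCohenMacaulayLocalRing (Localization.AtPrime p ⧸
      J.map (algebraMap _ (Localization.AtPrime p))) :=
    cm_of_ringEquiv (locQuotEquiv J (p.map (Ideal.Quotient.mk J)) p hcomap) hCM0
  have hN := GorQuot.cm_module_of_cm_ring _ hCM1
  have hfm : algebraMap _ (Localization.AtPrime p) f ∈ maximalIdeal (Localization.AtPrime p) := by
    rw [IsLocalization.AtPrime.to_map_mem_maximal_iff (Localization.AtPrime p) p]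
    exact hfp
  have hreg : IsSMulRegular (Localization.AtPrime p ⧸ J.map (algebraMap _ (Localization.AtPrime p)))
      (algebraMap _ (Localization.AtPrime p) f) := by
    rw [GorQuot.isSMulRegular_quotient_iff]
    intro t ht
    rw [mul_comm, ← GorQuot.mem_colon_singleton',
      ← map_colon_singleton p.primeCompl (Localization.AtPrime p) J f, hJf] at ht
    exact ht
  have hd1 := depth_quotSMulTop (Localization.AtPrime p ⧸
    J.map (algebraMap _ (Localization.AtPrime p))) hfm hreg
  rw [depth_congr (GorQuot.quotSMulTopEquiv _ _), ← hmap, hd0, zero_add] at hd1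
  unfold LocCoh.IsCohenMacaulayModule at hN
  rw [← hd1, Module.supportDim_quotient_eq_ringKrullDim] at hN
  have h2 := add_ringKrullDim_quot_map p hCMT J hJp h
    (fun P hP => (height_eq_of_mem_minimalPrimes_cm J hJ hP).trans hJh)
  rw [hN, IsLocalization.AtPrime.ringKrullDim_eq_height p (Localization.AtPrime p)] at h2
  have h3 : ((h + 1 : ℕ) : ℕ∞) = p.height := by exact_mod_cast h2
  rw [← h3]
  push_cast
  rfl

/-- Basic double links preserve unmixedness. -/
theorem bdl_unmixed_iff (J I : Ideal (MvPolynomial (Fin N) K))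
    (hJ : J.IsHomogeneous (GrSyz.stdGr K (Fin N))) (h : ℕ) (hJI : J ≤ I) (hJh : J.height = h)
    [LocCoh.IsCohenMacaulayRing (MvPolynomial (Fin N) K ⧸ J)]
    (f : MvPolynomial (Fin N) K) (hJf : J.colon {f} = J) :
    (∀ p ∈ associatedPrimes (MvPolynomial (Fin N) K) (MvPolynomial (Fin N) K ⧸ I),
        p.height = h + 1) ↔
      ∀ p ∈ associatedPrimes (MvPolynomial (Fin N) K)
        (MvPolynomial (Fin N) K ⧸ (J ⊔ Ideal.span {f} * I)), p.height = h + 1 := by
  constructor
  · intro hI p hp
    rcases associatedPrimes_bdl_subset J I f hJI hJf hp with h1 | h1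
    · exact hI p h1
    · exact height_eq_of_mem_associatedPrimes_sup_span J hJ h hJh f hJf h1
  · intro hI p hp
    exact hI p (associatedPrimes_subset_bdl J I f hJI hJf hp)

end poly

end Groth.Agent.Lib.Helper16.Liaison
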