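import Groth.Agent.Lib.Helper16.Liaison6
import Groth.Agent.Lib.Helper16.LocCohLES
import Groth.Agent.Lib.Helper16.LocCohDepth
import Groth.Agent.Lib.Helper16.LocCohFaltingsLocal
import Groth.Agent.Lib.Helper16.LocCohLocalize
import Groth.Agent.Lib.Helper18.CMRing

/-!
# Liaison VII: local cohomology of basic double links (helper16)

* irrel_eq_irr : the irrelevant ideal of the standard grading is the kernel of the constant coefficient.
* exists_list_lift, le_idealDepth_irr_quot : depth of a homogeneous Cohen-Macaulay quotient at the irrelevant ideal.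
* subsingleton_H_irr_quot, subsingleton_H_irr_quot_sup : vanishing of local cohomology below the dimension.
* nonempty_H_equiv_bdl : H^i_m(R/(J + fI)) = H^i_m(R/I) for i + 1 < N - ht J.
-/

set_option autoImplicit false
set_option linter.unusedSectionVars false
universe u
open IsLocalRing MvPolynomial RingTheory.Sequence

namespace Groth.Agent.Lib.Helper16.Liaison

section irrel

variable (K : Type u) [Field K] (N : ℕ)

theorem weight_one_pos (d : Fin N →₀ ℕ) (hd : d ≠ 0) :
    0 < Finsupp.weight (fun _ : Fin N => (1 : ℤ)) d := by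
  rw [Finsupp.weight_apply, Finsupp.sum]
  obtain ⟨i, hi⟩ : ∃ i, d i ≠ 0 := by
    by_contra hcon
    push Not at hcon
    exact hd (Finsupp.ext hcon)
  have hmem : i ∈ d.support := Finsupp.mem_support_iff.mpr hi
  have h1 : (0 : ℤ) < d i • (1 : ℤ) := by
    rw [nsmul_eq_mul, mul_one]
    exact_mod_cast Nat.pos_of_ne_zero hi
  exact Finset.sum_pos' (fun j _ => by rw [nsmul_eq_mul, mul_one]; exact_mod_cast Nat.zero_le _)
    ⟨i, hmem, h1⟩

/-- the irrelevant ideal of the standard grading is the kernel of the constant coefficient -/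
theorem irrel_eq_irr : (GrSyz.irrel (GrSyz.stdGr K (Fin N))).toIdeal = irr K N := by
  apply le_antisymm
  · change Ideal.span _ ≤ _
    rw [Ideal.span_le]
    rintro r ⟨n, hn, hr⟩
    change constantCoeff r = 0
    rw [constantCoeff_eq]
    apply MvPolynomial.IsWeightedHomogeneous.coeff_eq_zero ((GrSyz.mem_stdGr_iff K (Fin N) n r).mp hr)
    rw [map_zero]
    exact hn.ne
  · intro a ha
    have h0 : coeff 0 a = 0 := by
      have : constantCoeff a = 0 := ha
      rwa [constantCoeff_eq] at this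
    rw [← MvPolynomial.support_sum_monomial_coeff a]
    refine Ideal.sum_mem _ fun d hd => ?_
    have hd0 : d ≠ 0 := by
      rintro rfl
      exact (MvPolynomial.mem_support_iff.1 hd) h0
    refine Ideal.subset_span ⟨Finsupp.weight (fun _ : Fin N => (1 : ℤ)) d, weight_one_pos N d hd0, ?_⟩
    exact MvPolynomial.isWeightedHomogeneous_monomial _ d _ rfl

end irrel

section depth

open Groth.Agent.Lib.Helper16.Depth Groth.Agent.Lib.Helper18.CM

theorem exists_list_lift {R A : Type u} [CommRing R] [CommRing A] (π : R →+* A)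
    (m : Ideal R) (hπ : Function.Surjective π) :
    ∀ ys : List A, (∀ y ∈ ys, y ∈ m.map π) → ∃ xs : List R, xs.map π = ys ∧ ∀ x ∈ xs, x ∈ m := by
  intro ys
  induction ys with
  | nil => exact fun _ => ⟨[], rfl, by simp⟩
  | cons y ys ih =>
    intro hys
    obtain ⟨xs, hxs, hmem⟩ := ih (fun z hz => hys z (List.mem_cons_of_mem _ hz))
    obtain ⟨x, hx, hxy⟩ := (Ideal.mem_map_iff_of_surjective π hπ).mp (hys y List.mem_cons_self)
    refine ⟨x :: xs, by rw [List.map_cons, hxy, hxs], ?_⟩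
    intro z hz
    rcases List.mem_cons.mp hz with rfl | hz
    · exact hx
    · exact hmem z hz

variable {K : Type u} [Field K] {N : ℕ}

/-- the depth of a homogeneous Cohen–Macaulay quotient at the irrelevant ideal -/
theorem le_idealDepth_irr_quot (J : Ideal (MvPolynomial (Fin N) K))
    (hJ : J.IsHomogeneous (GrSyz.stdGr K (Fin N))) (hJtop : J ≠ ⊤)
    [hCM : LocCoh.IsCohenMacaulayRing (MvPolynomial (Fin N) K ⧸ J)] (h : ℕ) (hJh : J.height = h) :
    ((N - h : ℕ) : ℕ∞) ≤ LocCoh.idealDepth (irr K N) (MvPolynomial (Fin N) K ⧸ J) := by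
  have hJm : J ≤ irr K N := le_irr_of_isHomogeneous hJ hJtop
  have hmprime : ((irr K N).map (Ideal.Quotient.mk J)).IsPrime :=
    Ideal.map_isPrime_of_surjective Ideal.Quotient.mk_surjective (by rwa [Ideal.mk_ker])
  obtain ⟨P, hP, hPm⟩ := Ideal.exists_minimalPrimes_le hJm
  have hCMloc := hCM.isCohenMacaulayLocalRing_localization ((irr K N).map (Ideal.Quotient.mk J))
  have h1 := height_add_eq_of_mem_minimalPrimes_cm K (MvPolynomial (Fin N) K) J (irr K N) hP hPm
    hCMloc
  have hdimR : ringKrullDim (MvPolynomial (Fin N) K) = N := by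
    rw [MvPolynomial.ringKrullDim_of_isNoetherianRing, ringKrullDim_eq_zero_of_field, zero_add,
      Nat.card_eq_fintype_card, Fintype.card_fin]
  rw [hdimR, (height_eq_of_mem_minimalPrimes_cm J hJ hP).trans hJh,
    IsLocalization.AtPrime.ringKrullDim_eq_height ((irr K N).map (Ideal.Quotient.mk J))
      (Localization.AtPrime ((irr K N).map (Ideal.Quotient.mk J)))] at h1
  have h1' : (h : ℕ∞) + ((irr K N).map (Ideal.Quotient.mk J)).height = N := by exact_mod_cast h1
  have hht : ((irr K N).map (Ideal.Quotient.mk J)).height = ((N - h : ℕ) : ℕ∞) := by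
    obtain ⟨k, hk⟩ := ENat.ne_top_iff_exists.mp
      (Ideal.height_ne_top (I := (irr K N).map (Ideal.Quotient.mk J)) hmprime.ne_top)
    rw [← hk] at h1' ⊢
    have : h + k = N := by exact_mod_cast h1'
    have : k = N - h := by omega
    rw [this]
  have h2 := Groth.Agent.Lib.Helper18.CM.height_le_idealDepth_of_isCohenMacaulayRing
    ((irr K N).map (Ideal.Quotient.mk J)) hmprime.ne_top
  rw [hht, le_idealDepth_iff] at h2
  rcases h2 with h2 | ⟨ys, hlen, hreg, hmem⟩
  · exfalso
    rw [smul_eq_mul, Ideal.mul_top] at h2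
    exact hmprime.ne_top h2
  obtain ⟨xs, hxs, hxmem⟩ := exists_list_lift (Ideal.Quotient.mk J) (irr K N)
    Ideal.Quotient.mk_surjective ys hmem
  rw [le_idealDepth_iff]
  right
  refine ⟨xs, by rw [← hlen, ← hxs, List.length_map], ?_, hxmem⟩
  rw [← hxs] at hreg
  exact (isWeaklyRegular_map_algebraMap_iff (MvPolynomial (Fin N) K ⧸ J)
    (MvPolynomial (Fin N) K ⧸ J) xs).mp hreg

end depth

section vanish

open Groth.Agent.Lib.Helper16.LC Groth.Agent.Lib.Helper16.Depth

theorem isSMulRegular_quotient_iff' {T : Type u} [CommRing T] (𝔞 : Ideal T) (x : T) :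
    IsSMulRegular (T ⧸ 𝔞) x ↔ ∀ t, x * t ∈ 𝔞 → t ∈ 𝔞 := by
  rw [isSMulRegular_iff_right_eq_zero_of_smul]
  constructor
  · intro h t ht
    have := h (Ideal.Quotient.mk 𝔞 t) (by
      rw [← Ideal.Quotient.mk_eq_mk, ← Submodule.Quotient.mk_smul, Ideal.Quotient.mk_eq_mk,
        smul_eq_mul]
      exact Ideal.Quotient.eq_zero_iff_mem.mpr ht)
    exact Ideal.Quotient.eq_zero_iff_mem.mp this
  · intro h m hm
    obtain ⟨t, rfl⟩ := Ideal.Quotient.mk_surjective m
    rw [← Ideal.Quotient.mk_eq_mk, ← Submodule.Quotient.mk_smul, Ideal.Quotient.mk_eq_mk,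
      smul_eq_mul, Ideal.Quotient.eq_zero_iff_mem] at hm
    exact Ideal.Quotient.eq_zero_iff_mem.mpr (h t hm)

variable {K : Type u} [Field K] {N : ℕ}

theorem subsingleton_H_irr_quot (J : Ideal (MvPolynomial (Fin N) K))
    (hJ : J.IsHomogeneous (GrSyz.stdGr K (Fin N))) (hJtop : J ≠ ⊤)
    [hCM : LocCoh.IsCohenMacaulayRing (MvPolynomial (Fin N) K ⧸ J)] (h : ℕ) (hJh : J.height = h)
    (j : ℕ) (hj : j < N - h) :
    Subsingleton (LocCoh.H (irr K N) j (MvPolynomial (Fin N) K ⧸ J)) := by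
  have hJm : J ≤ irr K N := le_irr_of_isHomogeneous hJ hJtop
  have hIM : (irr K N) • (⊤ : Submodule (MvPolynomial (Fin N) K) (MvPolynomial (Fin N) K ⧸ J)) ≠
      ⊤ := by
    intro htop
    have hall : ∀ m ∈ (irr K N • ⊤ : Submodule (MvPolynomial (Fin N) K)
        (MvPolynomial (Fin N) K ⧸ J)), ∃ r ∈ irr K N, Ideal.Quotient.mk J r = m := by
      intro m hm
      refine Submodule.smul_induction_on hm ?_ ?_
      · intro a ha m' _
        obtain ⟨t, rfl⟩ := Ideal.Quotient.mk_surjective m'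
        exact ⟨a * t, Ideal.mul_mem_right _ _ ha, rfl⟩
      · rintro x y ⟨r, hr, rfl⟩ ⟨r', hr', rfl⟩
        exact ⟨r + r', Ideal.add_mem _ hr hr', map_add _ _ _⟩
    obtain ⟨r, hr, hr1⟩ := hall (Ideal.Quotient.mk J 1) (by rw [htop]; exact Submodule.mem_top)
    rw [Ideal.Quotient.eq] at hr1
    have h1 : (1 : MvPolynomial (Fin N) K) ∈ irr K N := by
      have : (1 : MvPolynomial (Fin N) K) = r - (r - 1) := by ring
      rw [this]
      exact Ideal.sub_mem _ hr (hJm hr1)
    exact (irr_isMaximal K N).ne_top ((Ideal.eq_top_iff_one _).mpr h1)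
  exact subsingleton_H_of_lt_idealDepth (irr K N) _ hIM (N - h)
    (le_idealDepth_irr_quot J hJ hJtop h hJh) j hj

theorem subsingleton_H_irr_quot_sup (J : Ideal (MvPolynomial (Fin N) K))
    (hJ : J.IsHomogeneous (GrSyz.stdGr K (Fin N))) (hJtop : J ≠ ⊤)
    [hCM : LocCoh.IsCohenMacaulayRing (MvPolynomial (Fin N) K ⧸ J)] (h : ℕ) (hJh : J.height = h)
    (f : MvPolynomial (Fin N) K) (hJf : J.colon {f} = J) (j : ℕ) (hj : j + 1 < N - h) :
    Subsingleton (LocCoh.H (irr K N) j (MvPolynomial (Fin N) K ⧸ (J ⊔ Ideal.span {f}))) := by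
  have hreg : IsSMulRegular (MvPolynomial (Fin N) K ⧸ J) f := by
    rw [isSMulRegular_quotient_iff']
    intro t ht
    rw [mul_comm, ← GorQuot.mem_colon_singleton', hJf] at ht
    exact ht
  obtain ⟨g, d, -, hex2, -⟩ := exists_les_of_isSMulRegular (irr K N)
    (MvPolynomial (Fin N) K ⧸ J) f hreg j
  have h1 := subsingleton_H_irr_quot J hJ hJtop h hJh j (by omega)
  have h2 := subsingleton_H_irr_quot J hJ hJtop h hJh (j + 1) hj
  have h3 : Subsingleton (LocCoh.H (irr K N) j (QuotSMulTop f (MvPolynomial (Fin N) K ⧸ J))) := by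
    refine ⟨fun a b => ?_⟩
    suffices hz : ∀ z : LocCoh.H (irr K N) j (QuotSMulTop f (MvPolynomial (Fin N) K ⧸ J)), z = 0 by
      rw [hz a, hz b]
    intro z
    obtain ⟨y, rfl⟩ := (hex2 z).mp (Subsingleton.elim _ _)
    rw [Subsingleton.elim y 0, map_zero]
  exact (DTL.HcongrEquiv (irr K N) j (GorQuot.quotSMulTopEquiv J f)).symm.toEquiv.subsingleton

/-- Basic double link: `H^i_𝔪(R/(J + fI)) ≃ H^i_𝔪(R/I)` for `i + 1 < N - h`. -/
theorem nonempty_H_equiv_bdl (J I : Ideal (MvPolynomial (Fin N) K))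
    (hJ : J.IsHomogeneous (GrSyz.stdGr K (Fin N))) (hJI : J ≤ I)
    [hCM : LocCoh.IsCohenMacaulayRing (MvPolynomial (Fin N) K ⧸ J)] (h : ℕ) (hJh : J.height = h)
    (f : MvPolynomial (Fin N) K) (hJf : J.colon {f} = J) (i : ℕ) (hi : i + 1 < N - h) :
    Nonempty (LocCoh.H (irr K N) i (MvPolynomial (Fin N) K ⧸ (J ⊔ Ideal.span {f} * I))
      ≃ₗ[MvPolynomial (Fin N) K] LocCoh.H (irr K N) i (MvPolynomial (Fin N) K ⧸ I)) := by
  have hJtop : J ≠ ⊤ := by
    rintro rfl
    rw [Ideal.height_top] at hJh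
    exact ENat.top_ne_natCast h hJh
  have hS := shortExact_of_linearMaps (bdlMul J I f) (bdlProj J I f)
    (bdlMul_injective J I f hJI hJf) (by
      intro y
      obtain ⟨r, rfl⟩ := Ideal.Quotient.mk_surjective y
      exact ⟨Ideal.Quotient.mk _ r, rfl⟩) (bdl_exact J I f)
  have h3 : ∀ j, j ≤ i → Subsingleton (LocCoh.H (irr K N) j
      (MvPolynomial (Fin N) K ⧸ (J ⊔ Ideal.span {f}))) := fun j hj =>
    subsingleton_H_irr_quot_sup J hJ hJtop h hJh f hJf j (by omega)
  have hinj : Function.Injective (Hmap (irr K N) i (ModuleCat.ofHom (bdlMul J I f))) := by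
    cases i with
    | zero => exact Hmap_zero_injective (irr K N) hS
    | succ p =>
      rw [injective_iff_map_eq_zero]
      intro x hx
      obtain ⟨z, rfl⟩ := Hmap_exact₁ (irr K N) hS p x hx
      have := h3 p (by omega)
      rw [Subsingleton.elim z 0, map_zero]
  have hsurj : Function.Surjective (Hmap (irr K N) i (ModuleCat.ofHom (bdlMul J I f))) := by
    intro y
    have := h3 i le_rfl
    exact Hmap_exact₂ (irr K N) hS i y (Subsingleton.elim _ _)
  exact ⟨(LinearEquiv.ofBijective _ ⟨hinj, hsurj⟩).symm⟩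

end vanish

end Groth.Agent.Lib.Helper16.Liaison
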