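import Mathlib
import Groth.Agent.Lib.Helper16.LiftA

/-!
# Trivialization map A ⊗ B₀ → B is bijective for flat B
-/

set_option autoImplicit false
universe u

namespace Groth.Agent.Lib.Helper16.LiftA

open TensorProduct IsLocalRing

theorem map_mem_smul_top {R : Type*} [CommRing R] {M N : Type*} [AddCommGroup M] [Module R M]
    [AddCommGroup N] [Module R N] (f : M →ₗ[R] N) (I : Ideal R) {w : M}
    (hw : w ∈ I • (⊤ : Submodule R M)) : f w ∈ I • (⊤ : Submodule R N) := by
  refine Submodule.smul_induction_on hw ?_ ?_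
  · intro r hr n _
    rw [map_smul]
    exact Submodule.smul_mem_smul hr trivial
  · intro x y hx hy
    rw [map_add]
    exact add_mem hx hy

variable {k : Type u} [Field k] {A : Type u} [CommRing A] [Algebra k A] [IsLocalRing A]
  {B : Type u} [CommRing B] [Algebra A B] [Algebra k B] [IsScalarTower k A B]

variable (A B) in
/-- the ideal `m_A B`. -/
abbrev mB : Ideal B := (maximalIdeal A).map (algebraMap A B)

theorem mem_mB_iff (b : B) : b ∈ mB A B ↔ b ∈ (maximalIdeal A) • (⊤ : Submodule A B) := by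
  rw [Ideal.smul_top_eq_map]
  rfl

/-- the map `A ⊗ B₀ → B` attached to `u : B₀ → B`. -/
noncomputable def Psi (u : (B ⧸ mB A B) →ₐ[k] B) : A ⊗[k] (B ⧸ mB A B) →ₐ[A] B :=
  Algebra.TensorProduct.lift (Algebra.ofId A B) u (fun _ _ => Commute.all _ _)

theorem Psi_tmul (u : (B ⧸ mB A B) →ₐ[k] B) (a : A) (x : B ⧸ mB A B) :
    Psi u (a ⊗ₜ x) = algebraMap A B a * u x := by
  unfold Psi
  rw [Algebra.TensorProduct.lift_tmul]
  rfl

theorem exists_one_tmul (hres : ∀ a : A, ∃ c : k, a - algebraMap k A c ∈ maximalIdeal A)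
    (z : A ⊗[k] (B ⧸ mB A B)) :
    ∃ x : B ⧸ mB A B, z - 1 ⊗ₜ x ∈ (maximalIdeal A) • (⊤ : Submodule A (A ⊗[k] (B ⧸ mB A B))) := by
  induction z using TensorProduct.induction_on with
  | zero => exact ⟨0, by simp⟩
  | tmul a x =>
    obtain ⟨c, hc⟩ := hres a
    refine ⟨c • x, ?_⟩
    have h1 : a ⊗ₜ[k] x - (1 : A) ⊗ₜ[k] (c • x) = (a - algebraMap k A c) • ((1 : A) ⊗ₜ[k] x) := by
      rw [TensorProduct.smul_tmul', smul_eq_mul, mul_one, TensorProduct.sub_tmul,
        ← TensorProduct.smul_tmul, Algebra.smul_def, mul_one]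
    rw [h1]
    exact Submodule.smul_mem_smul hc trivial
  | add z1 z2 h1 h2 =>
    obtain ⟨x1, hx1⟩ := h1
    obtain ⟨x2, hx2⟩ := h2
    refine ⟨x1 + x2, ?_⟩
    have : z1 + z2 - (1 : A) ⊗ₜ[k] (x1 + x2) = (z1 - 1 ⊗ₜ x1) + (z2 - 1 ⊗ₜ x2) := by
      rw [TensorProduct.tmul_add]; abel
    rw [this]
    exact add_mem hx1 hx2

theorem Psi_bijective [Module.Flat A B] (hnil : IsNilpotent (maximalIdeal A))
    (hres : ∀ a : A, ∃ c : k, a - algebraMap k A c ∈ maximalIdeal A)
    (u : (B ⧸ mB A B) →ₐ[k] B)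
    (hinj : ∀ x, u x ∈ mB A B → x = 0) (hsurj : ∀ y : B, ∃ x, y - u x ∈ mB A B) :
    Function.Bijective (Psi u) := by
  have := bijective_of_mod (Psi u).toLinearMap (maximalIdeal A) hnil ?_ ?_
  · exact this
  · intro y
    obtain ⟨x, hx⟩ := hsurj y
    refine ⟨1 ⊗ₜ x, ?_⟩
    rw [AlgHom.toLinearMap_apply, Psi_tmul, map_one, one_mul, ← mem_mB_iff]
    exact hx
  · intro z hz
    obtain ⟨x, hx⟩ := exists_one_tmul hres z
    have h1 := map_mem_smul_top (Psi u).toLinearMap (maximalIdeal A) hx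
    rw [map_sub, AlgHom.toLinearMap_apply, AlgHom.toLinearMap_apply, Psi_tmul, map_one, one_mul] at h1
    have h2 : u x ∈ (maximalIdeal A) • (⊤ : Submodule A B) := by
      have := sub_mem hz h1
      rwa [AlgHom.toLinearMap_apply, sub_sub_cancel] at this
    rw [← mem_mB_iff] at h2
    have hx0 := hinj x h2
    rw [hx0, TensorProduct.tmul_zero, sub_zero] at hx
    exact hx

end Groth.Agent.Lib.Helper16.LiftA
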