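import Mathlib
import Groth.Agent.Lib.Helper16.LiftB

/-!
# Lifting automorphisms of a deformation of a formally smooth algebra over a small extension
-/

set_option autoImplicit false
universe u

namespace Groth.Agent.Lib.Helper16.LiftA

open TensorProduct IsLocalRing

variable {k : Type u} [Field k] {A : Type u} [CommRing A] [Algebra k A] [IsLocalRing A]
  {B : Type u} [CommRing B] [Algebra A B] [Algebra k B] [IsScalarTower k A B]

theorem main_aux [IsArtinianRing A]
    (hres : ∀ a : A, ∃ c : k, a - algebraMap k A c ∈ IsLocalRing.maximalIdeal A)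
    (t : A) (ht : t ∈ IsLocalRing.maximalIdeal A)
    (htm : ∀ a ∈ IsLocalRing.maximalIdeal A, a * t = 0)
    [Module.Flat A B]
    (hsm : Algebra.FormallySmooth k (B ⧸ (IsLocalRing.maximalIdeal A).map (algebraMap A B)))
    (tB : Ideal B) (htB : tB = Ideal.span {algebraMap A B t})
    (σ : (B ⧸ tB) ≃ₐ[A] (B ⧸ tB)) :
    ∃ τ : B ≃ₐ[A] B, ∀ b : B,
      Ideal.Quotient.mk tB (τ b) = σ (Ideal.Quotient.mk tB b) := by
  classical
  -- nilpotency
  have hnil : IsNilpotent (maximalIdeal A) := by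
    have := IsArtinianRing.isNilpotent_jacobson_bot (R := A)
    rwa [IsLocalRing.jacobson_eq_maximalIdeal ⊥ bot_ne_top] at this
  have hnilB : IsNilpotent (mB A B) := by
    obtain ⟨N, hN⟩ := hnil
    refine ⟨N, ?_⟩
    rw [← Ideal.map_pow, hN]
    exact Ideal.map_bot
  have hnilt : IsNilpotent tB := by
    refine ⟨2, ?_⟩
    rw [htB, Ideal.span_singleton_pow, ← map_pow, pow_two, htm t ht, map_zero]
    exact Ideal.span_singleton_eq_bot.2 rfl
  have htle : tB ≤ mB A B := by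
    rw [htB, Ideal.span_le, Set.singleton_subset_iff]
    exact Ideal.mem_map_of_mem _ ht
  -- the section
  let s : (B ⧸ mB A B) →ₐ[k] B := Algebra.FormallySmooth.lift (mB A B) hnilB (AlgHom.id k _)
  have hs : ∀ x, Ideal.Quotient.mk (mB A B) (s x) = x := fun x =>
    Algebra.FormallySmooth.mk_lift (mB A B) hnilB (AlgHom.id k _) x
  let σ' : (B ⧸ mB A B) →ₐ[k] (B ⧸ tB) :=
    ((σ.restrictScalars k : (B ⧸ tB) ≃ₐ[k] (B ⧸ tB)) : (B ⧸ tB) →ₐ[k] (B ⧸ tB)).comp
      ((Ideal.Quotient.mkₐ k tB).comp s)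
  let τ₀ : (B ⧸ mB A B) →ₐ[k] B := Algebra.FormallySmooth.lift tB hnilt σ'
  have hτ₀ : ∀ x, Ideal.Quotient.mk tB (τ₀ x) = σ (Ideal.Quotient.mk tB (s x)) := fun x =>
    Algebra.FormallySmooth.mk_lift tB hnilt σ' x
  -- m • ⊤ in the quotient by t
  have hF : ∀ b : B, Ideal.Quotient.mk tB b ∈ (maximalIdeal A) • (⊤ : Submodule A (B ⧸ tB)) ↔
      b ∈ mB A B := by
    intro b
    constructor
    · intro hb
      have hmap : (maximalIdeal A) • (⊤ : Submodule A (B ⧸ tB)) =
          ((maximalIdeal A) • (⊤ : Submodule A B)).map (Ideal.Quotient.mkₐ A tB).toLinearMap := by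
        rw [Submodule.map_smul'', Submodule.map_top, LinearMap.range_eq_top.2]
        exact Ideal.Quotient.mk_surjective
      rw [hmap] at hb
      obtain ⟨b', hb', hbb'⟩ := hb
      rw [SetLike.mem_coe, ← mem_mB_iff] at hb'
      have h2 : b - b' ∈ tB := by
        rw [← Ideal.Quotient.eq]
        exact hbb'.symm
      have : b = b' + (b - b') := by abel
      rw [this]
      exact add_mem hb' (htle h2)
    · intro hb
      rw [mem_mB_iff] at hb
      exact map_mem_smul_top (Ideal.Quotient.mkₐ A tB).toLinearMap _ hb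
  -- conditions for s
  have hs_inj : ∀ x, s x ∈ mB A B → x = 0 := by
    intro x hx
    rw [← hs x]
    exact Ideal.Quotient.eq_zero_iff_mem.2 hx
  have hs_surj : ∀ y : B, ∃ x, y - s x ∈ mB A B := by
    intro y
    refine ⟨Ideal.Quotient.mk _ y, ?_⟩
    rw [← Ideal.Quotient.eq, hs]
  -- conditions for τ₀
  have hσmem : ∀ (φ : (B ⧸ tB) ≃ₐ[A] (B ⧸ tB)) (w : B ⧸ tB),
      w ∈ (maximalIdeal A) • (⊤ : Submodule A (B ⧸ tB)) →
      φ w ∈ (maximalIdeal A) • (⊤ : Submodule A (B ⧸ tB)) := fun φ w hw =>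
    map_mem_smul_top φ.toLinearMap _ hw
  have hτ_inj : ∀ x, τ₀ x ∈ mB A B → x = 0 := by
    intro x hx
    apply hs_inj
    rw [← hF]
    have h1 := (hF _).2 hx
    rw [hτ₀] at h1
    have h2 := hσmem σ.symm _ h1
    rwa [AlgEquiv.symm_apply_apply] at h2
  have hτ_surj : ∀ y : B, ∃ x, y - τ₀ x ∈ mB A B := by
    intro y
    obtain ⟨w', hw'⟩ := Ideal.Quotient.mk_surjective (σ.symm (Ideal.Quotient.mk tB y))
    refine ⟨Ideal.Quotient.mk _ w', ?_⟩
    rw [← hF, map_sub, hτ₀]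
    have h1 : w' - s (Ideal.Quotient.mk (mB A B) w') ∈ mB A B := by
      rw [← Ideal.Quotient.eq, hs]
    have h2 := hσmem σ _ ((hF _).2 h1)
    rw [map_sub, map_sub, hw', AlgEquiv.apply_symm_apply] at h2
    exact h2
  have hb1 := Psi_bijective hnil hres s hs_inj hs_surj
  have hb2 := Psi_bijective hnil hres τ₀ hτ_inj hτ_surj
  let e1 : A ⊗[k] (B ⧸ mB A B) ≃ₐ[A] B := AlgEquiv.ofBijective (Psi s) hb1
  let e2 : A ⊗[k] (B ⧸ mB A B) ≃ₐ[A] B := AlgEquiv.ofBijective (Psi τ₀) hb2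
  have hkey : ∀ z : A ⊗[k] (B ⧸ mB A B),
      Ideal.Quotient.mk tB (Psi τ₀ z) = σ (Ideal.Quotient.mk tB (Psi s z)) := by
    intro z
    induction z using TensorProduct.induction_on with
    | zero => simp
    | tmul a x =>
      rw [Psi_tmul, Psi_tmul, map_mul, map_mul, hτ₀]
      have h1 : Ideal.Quotient.mk tB (algebraMap A B a) = algebraMap A (B ⧸ tB) a := rfl
      rw [h1, ← Algebra.smul_def, ← Algebra.smul_def, map_smul]
    | add z1 z2 h1 h2 =>
      rw [map_add, map_add, map_add, map_add, h1, h2, map_add]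
  refine ⟨e1.symm.trans e2, fun b => ?_⟩
  have h3 : (e1.symm.trans e2) b = Psi τ₀ (e1.symm b) := rfl
  rw [h3, hkey]
  congr 2
  exact e1.apply_symm_apply b

theorem main [IsArtinianRing A]
    (hres : ∀ a : A, ∃ c : k, a - algebraMap k A c ∈ IsLocalRing.maximalIdeal A)
    (t : A) (ht : t ∈ IsLocalRing.maximalIdeal A)
    (htm : ∀ a ∈ IsLocalRing.maximalIdeal A, a * t = 0)
    [Module.Flat A B]
    (hsm : Algebra.FormallySmooth k (B ⧸ (IsLocalRing.maximalIdeal A).map (algebraMap A B)))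
    (σ : (B ⧸ Ideal.span {algebraMap A B t}) ≃ₐ[A] (B ⧸ Ideal.span {algebraMap A B t})) :
    ∃ τ : B ≃ₐ[A] B, ∀ b : B,
      Ideal.Quotient.mk (Ideal.span {algebraMap A B t}) (τ b) =
        σ (Ideal.Quotient.mk (Ideal.span {algebraMap A B t}) b) :=
  main_aux hres t ht htm hsm _ rfl σ

end Groth.Agent.Lib.Helper16.LiftA
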