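import Mathlib

/-!
# Tensor squares of localizations: L ⊗ L is a localization of P ⊗ P, and L is the base change of P
-/

set_option autoImplicit false
set_option linter.unusedSectionVars false
set_option linter.style.haveILetI false
universe u

open TensorProduct

namespace Groth.Agent.Lib.Helper16.Loc2

variable (A P L : Type u) [CommRing A] [CommRing P] [CommRing L] [Algebra A P] [Algebra A L]
  [Algebra P L] [IsScalarTower A P L]

/-- `P ⊗ P → L ⊗ P` -/
noncomputable def phi1 : P ⊗[A] P →ₐ[A] L ⊗[A] P :=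
  Algebra.TensorProduct.map (IsScalarTower.toAlgHom A P L) (AlgHom.id A P)

/-- `L ⊗ P → L ⊗ L` -/
noncomputable def phi2 : L ⊗[A] P →ₐ[A] L ⊗[A] L :=
  Algebra.TensorProduct.map (AlgHom.id A L) (IsScalarTower.toAlgHom A P L)

/-- `P ⊗ P → L ⊗ L` -/
noncomputable def phi : P ⊗[A] P →ₐ[A] L ⊗[A] L :=
  Algebra.TensorProduct.map (IsScalarTower.toAlgHom A P L) (IsScalarTower.toAlgHom A P L)

@[simp] theorem phi1_tmul (x y : P) : phi1 A P L (x ⊗ₜ y) = algebraMap P L x ⊗ₜ y := by
  simp [phi1]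

@[simp] theorem phi2_tmul (x : L) (y : P) : phi2 A P L (x ⊗ₜ y) = x ⊗ₜ algebraMap P L y := by
  simp [phi2]

@[simp] theorem phi_tmul (x y : P) :
    phi A P L (x ⊗ₜ y) = algebraMap P L x ⊗ₜ algebraMap P L y := by
  simp [phi]

theorem phi2_comp_phi1 : (phi2 A P L).comp (phi1 A P L) = phi A P L := by
  apply Algebra.TensorProduct.ext'
  intro x y
  simp

section main

variable [Algebra (P ⊗[A] P) (L ⊗[A] L)]
  (hPL : ∀ t, algebraMap (P ⊗[A] P) (L ⊗[A] L) t = phi A P L t)

include hPL in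
/-- `L ⊗ L` is a localization of `P ⊗ P` -/
theorem exists_isLocalization (M : Submonoid P) [IsLocalization M L] :
    ∃ S₂ : Submonoid (P ⊗[A] P), IsLocalization S₂ (L ⊗[A] L) := by
  letI i1 : Algebra (P ⊗[A] P) (L ⊗[A] P) := (phi1 A P L).toRingHom.toAlgebra
  letI i2 : Algebra (L ⊗[A] P) (L ⊗[A] L) := (phi2 A P L).toRingHom.toAlgebra
  haveI t12 : IsScalarTower (P ⊗[A] P) (L ⊗[A] P) (L ⊗[A] L) :=
    IsScalarTower.of_algebraMap_eq (fun t => by
      rw [hPL, ← phi2_comp_phi1]
      rfl)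
  haveI t1 : IsScalarTower P (P ⊗[A] P) (L ⊗[A] P) := IsScalarTower.of_algebraMap_eq (fun x => by
    change _ = phi1 A P L (algebraMap P (P ⊗[A] P) x)
    rw [Algebra.TensorProduct.algebraMap_apply, Algebra.TensorProduct.algebraMap_apply,
      phi1_tmul]
    rfl)
  haveI t2 : IsScalarTower L (L ⊗[A] P) (L ⊗[A] L) := IsScalarTower.of_algebraMap_eq (fun x => by
    change _ = phi2 A P L (algebraMap L (L ⊗[A] P) x)
    rw [Algebra.TensorProduct.algebraMap_apply, Algebra.TensorProduct.algebraMap_apply,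
      phi2_tmul, map_one])
  haveI h1 : IsLocalization (Algebra.algebraMapSubmonoid (P ⊗[A] P) M) (L ⊗[A] P) :=
    IsLocalization.tensorProduct_tensorProduct A P M L (by
      ext y
      change phi1 A P L ((1 : P) ⊗ₜ y) = (1 : L) ⊗ₜ y
      rw [phi1_tmul, map_one])
  haveI h2 : IsLocalization (M.map (Algebra.TensorProduct.includeRight (R := A) (A := L)))
      (L ⊗[A] L) :=
    IsLocalization.tensorProduct_tensorProduct_right A L M L (by
      ext y
      change phi2 A P L ((1 : L) ⊗ₜ y) = (1 : L) ⊗ₜ algebraMap P L y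
      rw [phi2_tmul])
  exact ⟨_, IsLocalization.localization_localization_isLocalization
    (Algebra.algebraMapSubmonoid (P ⊗[A] P) M)
    (M.map (Algebra.TensorProduct.includeRight (R := A) (A := L))) (L ⊗[A] L)⟩

end main

section bc

variable [Algebra (P ⊗[A] P) (L ⊗[A] L)]
  (hPL : ∀ t, algebraMap (P ⊗[A] P) (L ⊗[A] L) t = phi A P L t)
  [Algebra (P ⊗[A] P) P] (hP : ∀ x y : P, algebraMap (P ⊗[A] P) P (x ⊗ₜ y) = x * y)
  [Algebra (L ⊗[A] L) L] (hL : ∀ x y : L, algebraMap (L ⊗[A] L) L (x ⊗ₜ y) = x * y)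

/-- `L ⊗ P → L` -/
noncomputable def psi1 : L ⊗[A] P →ₐ[A] L :=
  Algebra.TensorProduct.lift (AlgHom.id A L) (IsScalarTower.toAlgHom A P L)
    (fun _ _ => Commute.all _ _)

@[simp] theorem psi1_tmul (x : L) (y : P) : psi1 A P L (x ⊗ₜ y) = x * algebraMap P L y := by
  simp [psi1]

/-- generic two-step localization of a module -/
theorem isBaseChange_two_step {R R₁ T N L : Type u} [CommRing R] [CommRing R₁] [CommRing T]
    [Algebra R R₁] [Algebra R₁ T] [Algebra R T] [IsScalarTower R R₁ T]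
    [AddCommGroup N] [Module R N] [AddCommGroup L] [Module R L] [Module R₁ L] [Module T L]
    [IsScalarTower R R₁ L] [IsScalarTower R₁ T L] [IsScalarTower R T L]
    (S₁ : Submonoid R) [IsLocalization S₁ R₁] (S₂ : Submonoid R₁) [IsLocalization S₂ T]
    (f : N →ₗ[R] L) (hf : IsLocalizedModule S₁ f) : IsBaseChange T f := by
  have ha' : IsBaseChange R₁ f := (isLocalizedModule_iff_isBaseChange S₁ R₁ f).mp hf
  have hb : IsLocalizedModule S₂ (LinearMap.id : L →ₗ[R₁] L) := isLocalizedModule_id S₂ L T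
  have hb' : IsBaseChange T (LinearMap.id : L →ₗ[R₁] L) :=
    (isLocalizedModule_iff_isBaseChange S₂ T _).mp hb
  have h3 := IsBaseChange.comp ha' hb'
  have h4 : (LinearMap.id : L →ₗ[R₁] L).restrictScalars R ∘ₗ f = f := by
    ext x
    rfl
  rw [h4] at h3
  exact h3

include hPL hP hL in
/-- `L` is the base change of the `P ⊗ P`-module `P` to `L ⊗ L` -/
theorem nonempty_baseChange_equiv (M : Submonoid P) [IsLocalization M L] :
    Nonempty ((L ⊗[A] L) ⊗[P ⊗[A] P] P ≃ₗ[L ⊗[A] L] L) := by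
  letI i1 : Algebra (P ⊗[A] P) (L ⊗[A] P) := (phi1 A P L).toRingHom.toAlgebra
  letI i2 : Algebra (L ⊗[A] P) (L ⊗[A] L) := (phi2 A P L).toRingHom.toAlgebra
  haveI t12 : IsScalarTower (P ⊗[A] P) (L ⊗[A] P) (L ⊗[A] L) :=
    IsScalarTower.of_algebraMap_eq (fun t => by
      rw [hPL, ← phi2_comp_phi1]
      rfl)
  haveI t1 : IsScalarTower P (P ⊗[A] P) (L ⊗[A] P) := IsScalarTower.of_algebraMap_eq (fun x => by
    change _ = phi1 A P L (algebraMap P (P ⊗[A] P) x)
    rw [Algebra.TensorProduct.algebraMap_apply, Algebra.TensorProduct.algebraMap_apply,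
      phi1_tmul]
    rfl)
  haveI t2 : IsScalarTower L (L ⊗[A] P) (L ⊗[A] L) := IsScalarTower.of_algebraMap_eq (fun x => by
    change _ = phi2 A P L (algebraMap L (L ⊗[A] P) x)
    rw [Algebra.TensorProduct.algebraMap_apply, Algebra.TensorProduct.algebraMap_apply,
      phi2_tmul, map_one])
  haveI h1 : IsLocalization (Algebra.algebraMapSubmonoid (P ⊗[A] P) M) (L ⊗[A] P) :=
    IsLocalization.tensorProduct_tensorProduct A P M L (by
      ext y
      change phi1 A P L ((1 : P) ⊗ₜ y) = (1 : L) ⊗ₜ y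
      rw [phi1_tmul, map_one])
  haveI h2 : IsLocalization (M.map (Algebra.TensorProduct.includeRight (R := A) (A := L)))
      (L ⊗[A] L) :=
    IsLocalization.tensorProduct_tensorProduct_right A L M L (by
      ext y
      change phi2 A P L ((1 : L) ⊗ₜ y) = (1 : L) ⊗ₜ algebraMap P L y
      rw [phi2_tmul])
  letI mR₁ : Module (L ⊗[A] P) L := Module.compHom L (algebraMap (L ⊗[A] P) (L ⊗[A] L))
  letI mR : Module (P ⊗[A] P) L := Module.compHom L (algebraMap (P ⊗[A] P) (L ⊗[A] L))
  haveI s1 : IsScalarTower (L ⊗[A] P) (L ⊗[A] L) L :=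
    IsScalarTower.of_algebraMap_smul (fun r x => rfl)
  haveI s2 : IsScalarTower (P ⊗[A] P) (L ⊗[A] L) L :=
    IsScalarTower.of_algebraMap_smul (fun r x => rfl)
  haveI s3 : IsScalarTower (P ⊗[A] P) (L ⊗[A] P) L :=
    IsScalarTower.of_algebraMap_smul (fun r x => by
      change algebraMap (L ⊗[A] P) (L ⊗[A] L) (algebraMap (P ⊗[A] P) (L ⊗[A] P) r) • x =
        algebraMap (P ⊗[A] P) (L ⊗[A] L) r • x
      rw [← IsScalarTower.algebraMap_apply])
  have hsmul : ∀ (r : P ⊗[A] P) (y : L),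
      r • y = algebraMap (L ⊗[A] L) L (algebraMap (P ⊗[A] P) (L ⊗[A] L) r) * y := fun r y => by
    rw [← Algebra.smul_def]
    rfl
  haveI s4 : IsScalarTower (P ⊗[A] P) P L := IsScalarTower.of_algebraMap_smul (fun r y => by
    rw [hsmul, Algebra.smul_def]
    congr 1
    rw [hPL]
    induction r using TensorProduct.induction_on with
    | zero => simp
    | add a b ha hb => rw [map_add, map_add, map_add, map_add, ha, hb]
    | tmul x y => rw [hP, phi_tmul, hL, map_mul])
  -- step a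
  have hsub : Algebra.algebraMapSubmonoid P (Algebra.algebraMapSubmonoid (P ⊗[A] P) M) = M := by
    ext x
    constructor
    · rintro ⟨_, ⟨y, hy, rfl⟩, rfl⟩
      rw [Algebra.TensorProduct.algebraMap_apply, hP, Algebra.algebraMap_self, RingHom.id_apply,
        mul_one]
      exact hy
    · intro hx
      refine ⟨algebraMap P (P ⊗[A] P) x, ⟨x, hx, rfl⟩, ?_⟩
      rw [Algebra.TensorProduct.algebraMap_apply, hP, Algebra.algebraMap_self, RingHom.id_apply,
        mul_one]
  haveI hloc : IsLocalizedModule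
      (Algebra.algebraMapSubmonoid P (Algebra.algebraMapSubmonoid (P ⊗[A] P) M))
      (Algebra.linearMap P L) := by
    rw [hsub]
    infer_instance
  have ha : IsLocalizedModule (Algebra.algebraMapSubmonoid (P ⊗[A] P) M)
      ((Algebra.linearMap P L).restrictScalars (P ⊗[A] P)) :=
    IsLocalizedModule.restrictScalars (Algebra.algebraMapSubmonoid (P ⊗[A] P) M)
      (Algebra.linearMap P L)
  have hbc : IsBaseChange (L ⊗[A] L) ((Algebra.linearMap P L).restrictScalars (P ⊗[A] P)) :=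
    isBaseChange_two_step (Algebra.algebraMapSubmonoid (P ⊗[A] P) M)
      (M.map (Algebra.TensorProduct.includeRight (R := A) (A := L))) _ ha
  exact ⟨hbc.equiv⟩

end bc

end Groth.Agent.Lib.Helper16.Loc2
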