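import Mathlib
import Groth.Agent.Lib.Helper16.DepthExt

/-!
# Projective dimension of a finite module over a Noetherian ring is local
-/

set_option autoImplicit false
set_option linter.unusedSectionVars false
universe u

open CategoryTheory

namespace Groth.Agent.Lib.Helper16.PDR

open Groth.Agent.Lib.Helper16.Depth

variable {R : Type u} [CommRing R] [IsNoetherianRing R]

/-- projective dimension of a finite module over a Noetherian ring is local -/
theorem hasProjectiveDimensionLT_of_forall_maximal :
    ∀ (t : ℕ) (M : Type u) [AddCommGroup M] [Module R M] [Module.Finite R M],
      (∀ (m : Ideal R) [m.IsMaximal], HasProjectiveDimensionLT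
        (ModuleCat.of (Localization.AtPrime m) (LocalizedModule m.primeCompl M)) (t + 1)) →
      HasProjectiveDimensionLT (ModuleCat.of R M) (t + 1) := by
  intro t
  induction t with
  | zero =>
    intro M _ _ _ h
    rw [zero_add, ← projective_iff_hasProjectiveDimensionLT_one, ← IsProjective.iff_projective]
    have hfp : Module.FinitePresentation R M := Module.finitePresentation_of_finite R M
    apply Module.projective_of_localization_maximal
    intro m hm
    have := h m
    rw [zero_add, ← projective_iff_hasProjectiveDimensionLT_one, ← IsProjective.iff_projective]
      at this
    exact this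
  | succ t ih =>
    intro M _ _ _ h
    obtain ⟨n, π, hπ⟩ := Module.Finite.exists_fin' R M
    have hS := LinearMap.shortExact_shortComplexKer hπ
    have hproj : Projective (π.shortComplexKer).X₂ := by
      rw [← IsProjective.iff_projective]
      change Module.Projective R (Fin n → R)
      infer_instance
    apply (hS.hasProjectiveDimensionLT_X₃_iff t hproj).mpr
    change HasProjectiveDimensionLT (ModuleCat.of R (LinearMap.ker π)) (t + 1)
    apply ih
    intro m hm
    have hexloc : Function.Exact (LocalizedModule.map m.primeCompl (LinearMap.ker π).subtype)
        (LocalizedModule.map m.primeCompl π) :=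
      LocalizedModule.map_exact m.primeCompl _ _ (LinearMap.exact_subtype_ker_map π)
    have hS' := shortExact_of_linearMaps (R := Localization.AtPrime m)
      (N' := LocalizedModule m.primeCompl (LinearMap.ker π))
      (N := LocalizedModule m.primeCompl (Fin n → R))
      (N'' := LocalizedModule m.primeCompl M)
      (LocalizedModule.map m.primeCompl (LinearMap.ker π).subtype)
      (LocalizedModule.map m.primeCompl π)
      (LocalizedModule.map_injective _ _ (Submodule.injective_subtype _))
      (LocalizedModule.map_surjective _ _ hπ) hexloc
    have hfreeF : Module.Free (Localization.AtPrime m)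
        (LocalizedModule m.primeCompl (Fin n → R)) :=
      Module.free_of_isLocalizedModule m.primeCompl
        (LocalizedModule.mkLinearMap m.primeCompl (Fin n → R))
    have hprojF : Projective (ModuleCat.of (Localization.AtPrime m)
        (LocalizedModule m.primeCompl (Fin n → R))) :=
      (IsProjective.iff_projective _).mp inferInstance
    exact (hS'.hasProjectiveDimensionLT_X₃_iff t hprojF).mp (h m)

end Groth.Agent.Lib.Helper16.PDR
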