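import Mathlib
import Groth.Agent.Lib.Helper16.PDTransport

/-!
# Transfer of projective dimension between two models of a localization at a prime
-/

set_option autoImplicit false
set_option linter.unusedSectionVars false
set_option linter.style.haveILetI false
universe u

open CategoryTheory

namespace Groth.Agent.Lib.Helper16.PDR

/-- transfer of projective dimension between two models of the localization at a prime -/
theorem hasProjectiveDimensionLT_of_isLocalization_atPrime {R : Type u} [CommRing R]
    (p : Ideal R) [p.IsPrime] (T₁ T₂ : Type u) [CommRing T₁] [CommRing T₂] [Algebra R T₁]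
    [Algebra R T₂] [IsLocalization.AtPrime T₁ p] [IsLocalization.AtPrime T₂ p]
    {N N₁ N₂ : Type u} [AddCommGroup N] [Module R N] [AddCommGroup N₁] [Module R N₁]
    [Module T₁ N₁] [IsScalarTower R T₁ N₁] [AddCommGroup N₂] [Module R N₂] [Module T₂ N₂]
    [IsScalarTower R T₂ N₂]
    (f₁ : N →ₗ[R] N₁) (h₁ : IsBaseChange T₁ f₁) (f₂ : N →ₗ[R] N₂) (h₂ : IsBaseChange T₂ f₂) (t : ℕ)
    (h : HasProjectiveDimensionLT (ModuleCat.of T₁ N₁) t) :
    HasProjectiveDimensionLT (ModuleCat.of T₂ N₂) t := by
  let e : T₁ ≃ₐ[R] T₂ := IsLocalization.algEquiv p.primeCompl T₁ T₂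
  letI : Algebra T₁ T₂ := e.toAlgHom.toRingHom.toAlgebra
  haveI : IsScalarTower R T₁ T₂ := IsScalarTower.of_algebraMap_eq (fun r => (e.commutes r).symm)
  haveI : Module.Flat T₁ T₂ := by
    let e' : T₂ ≃ₗ[T₁] T₁ :=
      { toFun := e.symm
        map_add' := map_add _
        map_smul' := fun a x => by
          change e.symm (e a * x) = a * e.symm x
          rw [map_mul, AlgEquiv.symm_apply_apply]
        invFun := e
        left_inv := e.apply_symm_apply
        right_inv := e.symm_apply_apply }
    exact Module.Flat.of_linearEquiv e'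
  exact hasProjectiveDimensionLT_of_isBaseChange_tower f₁ h₁ f₂ h₂ t h

end Groth.Agent.Lib.Helper16.PDR
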