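import Mathlib
import Groth.Agent.Lib.Helper16.PDLocal2

/-!
# Transfer of projective dimension along flat base change and localization at primes
-/

set_option autoImplicit false
set_option linter.unusedSectionVars false
set_option linter.style.haveILetI false
universe u

open CategoryTheory TensorProduct

namespace Groth.Agent.Lib.Helper16.PDR

/-- localization of a module preserves bounds on the projective dimension -/
theorem hasProjectiveDimensionLT_localizedModule {T : Type u} [CommRing T]
    (N : Type u) [AddCommGroup N] [Module T N] (𝔓 : Ideal T) [𝔓.IsPrime] (t : ℕ)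
    (h : HasProjectiveDimensionLT (ModuleCat.of T N) t) :
    HasProjectiveDimensionLT (ModuleCat.of (Localization.AtPrime 𝔓)
      (LocalizedModule 𝔓.primeCompl N)) t := by
  haveI : Module.Flat T (Localization.AtPrime 𝔓) :=
    IsLocalization.flat (Localization.AtPrime 𝔓) 𝔓.primeCompl
  have h1 : IsBaseChange T (LinearMap.id : N →ₗ[T] N) := IsBaseChange.of_equiv (TensorProduct.lid T N)
    (fun x => by simp)
  have h2 : IsBaseChange (Localization.AtPrime 𝔓) (LocalizedModule.mkLinearMap 𝔓.primeCompl N) :=
    (isLocalizedModule_iff_isBaseChange 𝔓.primeCompl _ _).mp inferInstance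
  have key := hasProjectiveDimensionLT_of_isBaseChange_tower (R := T) (A := T)
    (B := Localization.AtPrime 𝔓) (M := N) (N₁ := N) (N₂ := LocalizedModule 𝔓.primeCompl N)
    (LinearMap.id : N →ₗ[T] N) h1
    (LocalizedModule.mkLinearMap 𝔓.primeCompl N) h2 t h
  exact key

/-- transport along a linear equivalence -/
theorem hasProjectiveDimensionLT_localizedModule_of_linearEquiv {T : Type u} [CommRing T]
    {N N' : Type u} [AddCommGroup N] [Module T N] [AddCommGroup N'] [Module T N']
    (e : N ≃ₗ[T] N') (𝔓 : Ideal T) [𝔓.IsPrime] (t : ℕ)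
    (h : HasProjectiveDimensionLT (ModuleCat.of (Localization.AtPrime 𝔓)
      (LocalizedModule 𝔓.primeCompl N)) t) :
    HasProjectiveDimensionLT (ModuleCat.of (Localization.AtPrime 𝔓)
      (LocalizedModule 𝔓.primeCompl N')) t := by
  have h1 : IsBaseChange (Localization.AtPrime 𝔓) (LocalizedModule.mkLinearMap 𝔓.primeCompl N) :=
    (isLocalizedModule_iff_isBaseChange 𝔓.primeCompl _ _).mp inferInstance
  have h2 : IsBaseChange (Localization.AtPrime 𝔓)
      ((LocalizedModule.mkLinearMap 𝔓.primeCompl N') ∘ₗ e.toLinearMap) :=
    (isLocalizedModule_iff_isBaseChange 𝔓.primeCompl _ _).mp inferInstance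
  have key := hasProjectiveDimensionLT_of_isBaseChange_tower (R := T) (A := Localization.AtPrime 𝔓)
    (B := Localization.AtPrime 𝔓) (M := N) (N₁ := LocalizedModule 𝔓.primeCompl N)
    (N₂ := LocalizedModule 𝔓.primeCompl N')
    (LocalizedModule.mkLinearMap 𝔓.primeCompl N) h1
    ((LocalizedModule.mkLinearMap 𝔓.primeCompl N') ∘ₗ e.toLinearMap) h2 t h
  exact key

/-- flat base change followed by localization -/
theorem hasProjectiveDimensionLT_atPrime_of_flat' {R T : Type u} [CommRing R] [CommRing T]
    [Algebra R T] [Module.Flat R T] {M N : Type u} [AddCommGroup M] [Module R M]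
    [AddCommGroup N] [Module R N] [Module T N] [IsScalarTower R T N]
    (f : M →ₗ[R] N) (hf : IsBaseChange T f)
    (𝔓 : Ideal T) [𝔓.IsPrime] (t : ℕ)
    (h : HasProjectiveDimensionLT
      (ModuleCat.of (Localization.AtPrime (𝔓.comap (algebraMap R T)))
        (LocalizedModule (𝔓.comap (algebraMap R T)).primeCompl M)) t) :
    HasProjectiveDimensionLT (ModuleCat.of (Localization.AtPrime 𝔓)
      (LocalizedModule 𝔓.primeCompl N)) t := by
  let p := 𝔓.comap (algebraMap R T)
  let algAB : Algebra (Localization.AtPrime p) (Localization.AtPrime 𝔓) :=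
    (Localization.localRingHom p 𝔓 (algebraMap R T) rfl).toAlgebra
  have tower : IsScalarTower R (Localization.AtPrime p) (Localization.AtPrime 𝔓) := by
    refine IsScalarTower.of_algebraMap_eq fun r => ?_
    change _ = Localization.localRingHom p 𝔓 (algebraMap R T) rfl
      (algebraMap R (Localization.AtPrime p) r)
    rw [Localization.localRingHom_to_map,
      ← IsScalarTower.algebraMap_apply R T (Localization.AtPrime 𝔓)]
  haveI : Module.Flat T (Localization.AtPrime 𝔓) :=
    IsLocalization.flat (Localization.AtPrime 𝔓) 𝔓.primeCompl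
  have hflatR : Module.Flat R (Localization.AtPrime 𝔓) :=
    Module.Flat.trans R T (Localization.AtPrime 𝔓)
  have hflat : Module.Flat (Localization.AtPrime p) (Localization.AtPrime 𝔓) :=
    (Module.flat_iff_of_isLocalization (Localization.AtPrime p) p.primeCompl
      (Localization.AtPrime 𝔓)).mpr hflatR
  have hf' : IsBaseChange (Localization.AtPrime p) (LocalizedModule.mkLinearMap p.primeCompl M) :=
    (isLocalizedModule_iff_isBaseChange p.primeCompl _ _).mp inferInstance
  have h₂ : IsBaseChange (Localization.AtPrime 𝔓)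
      (LocalizedModule.mkLinearMap 𝔓.primeCompl N) :=
    (isLocalizedModule_iff_isBaseChange 𝔓.primeCompl _ _).mp inferInstance
  have hg := IsBaseChange.comp hf h₂
  exact hasProjectiveDimensionLT_of_isBaseChange_tower
    (LocalizedModule.mkLinearMap p.primeCompl M) hf' _ hg t h

theorem hasProjectiveDimensionLT_atPrime_of_flat {R T : Type u} [CommRing R] [CommRing T]
    [Algebra R T] [Module.Flat R T] (M : Type u) [AddCommGroup M] [Module R M]
    (𝔓 : Ideal T) [𝔓.IsPrime] (t : ℕ)
    (h : HasProjectiveDimensionLT
      (ModuleCat.of (Localization.AtPrime (𝔓.comap (algebraMap R T)))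
        (LocalizedModule (𝔓.comap (algebraMap R T)).primeCompl M)) t) :
    HasProjectiveDimensionLT (ModuleCat.of (Localization.AtPrime 𝔓)
      (LocalizedModule 𝔓.primeCompl (T ⊗[R] M))) t :=
  hasProjectiveDimensionLT_atPrime_of_flat' (TensorProduct.mk R T M 1)
    (TensorProduct.isBaseChange R M T) 𝔓 t h

/-- for a localization `T` of `R`, the localizations at corresponding primes agree -/
theorem hasProjectiveDimensionLT_atPrime_comap_of_isLocalization' {R T : Type u} [CommRing R]
    [CommRing T] [Algebra R T] (S : Submonoid R) [IsLocalization S T]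
    {M N : Type u} [AddCommGroup M] [Module R M]
    [AddCommGroup N] [Module R N] [Module T N] [IsScalarTower R T N]
    (f : M →ₗ[R] N) (hf : IsBaseChange T f)
    (𝔓 : Ideal T) [𝔓.IsPrime] (t : ℕ)
    (h : HasProjectiveDimensionLT (ModuleCat.of (Localization.AtPrime 𝔓)
      (LocalizedModule 𝔓.primeCompl N)) t) :
    HasProjectiveDimensionLT
      (ModuleCat.of (Localization.AtPrime (𝔓.comap (algebraMap R T)))
        (LocalizedModule (𝔓.comap (algebraMap R T)).primeCompl M)) t := by
  let p := 𝔓.comap (algebraMap R T)
  haveI : IsLocalization.AtPrime (Localization.AtPrime 𝔓) p :=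
    IsLocalization.isLocalization_isLocalization_atPrime_isLocalization S
      (Localization.AtPrime 𝔓) 𝔓
  have hf' : IsBaseChange (Localization.AtPrime p) (LocalizedModule.mkLinearMap p.primeCompl M) :=
    (isLocalizedModule_iff_isBaseChange p.primeCompl _ _).mp inferInstance
  have h₂ : IsBaseChange (Localization.AtPrime 𝔓)
      (LocalizedModule.mkLinearMap 𝔓.primeCompl N) :=
    (isLocalizedModule_iff_isBaseChange 𝔓.primeCompl _ _).mp inferInstance
  have hg := IsBaseChange.comp hf h₂
  exact hasProjectiveDimensionLT_of_isLocalization_atPrime p (Localization.AtPrime 𝔓)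
    (Localization.AtPrime p) _ hg _ hf' t h

theorem hasProjectiveDimensionLT_atPrime_comap_of_isLocalization {R T : Type u} [CommRing R]
    [CommRing T] [Algebra R T] (S : Submonoid R) [IsLocalization S T]
    (M : Type u) [AddCommGroup M] [Module R M]
    (𝔓 : Ideal T) [𝔓.IsPrime] (t : ℕ)
    (h : HasProjectiveDimensionLT (ModuleCat.of (Localization.AtPrime 𝔓)
      (LocalizedModule 𝔓.primeCompl (T ⊗[R] M))) t) :
    HasProjectiveDimensionLT
      (ModuleCat.of (Localization.AtPrime (𝔓.comap (algebraMap R T)))
        (LocalizedModule (𝔓.comap (algebraMap R T)).primeCompl M)) t :=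
  hasProjectiveDimensionLT_atPrime_comap_of_isLocalization' S (TensorProduct.mk R T M 1)
    (TensorProduct.isBaseChange R M T) 𝔓 t h

end Groth.Agent.Lib.Helper16.PDR
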