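import Mathlib
import Groth.Agent.Lib.Helper16.Loc2
import Groth.Agent.Lib.Helper16.PDTransport2
import Groth.Agent.Lib.Helper16.PDLocal

/-!
# Projective dimension of the diagonal under localization (local transfer, local-to-global)
-/

set_option autoImplicit false
set_option linter.unusedSectionVars false
set_option linter.style.haveILetI false
universe u

open TensorProduct CategoryTheory

namespace Groth.Agent.Lib.Helper16.Loc2

variable (A P L : Type u) [CommRing A] [CommRing P] [CommRing L] [Algebra A P] [Algebra A L]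
  [Algebra P L] [IsScalarTower A P L]
  [Algebra (P ⊗[A] P) (L ⊗[A] L)]
  (hPL : ∀ t, algebraMap (P ⊗[A] P) (L ⊗[A] L) t = phi A P L t)
  [Algebra (P ⊗[A] P) P] (hP : ∀ x y : P, algebraMap (P ⊗[A] P) P (x ⊗ₜ y) = x * y)
  [Algebra (L ⊗[A] L) L] (hL : ∀ x y : L, algebraMap (L ⊗[A] L) L (x ⊗ₜ y) = x * y)

include hPL hP hL in
/-- from the diagonal of `L` to the diagonal of `P`, locally -/
theorem pd_comap_of_pd (M : Submonoid P) [IsLocalization M L]
    (𝔓 : Ideal (L ⊗[A] L)) [𝔓.IsPrime] (t : ℕ)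
    (h : HasProjectiveDimensionLT (ModuleCat.of (L ⊗[A] L) L) t) :
    HasProjectiveDimensionLT
      (ModuleCat.of (Localization.AtPrime (𝔓.comap (algebraMap (P ⊗[A] P) (L ⊗[A] L))))
        (LocalizedModule (𝔓.comap (algebraMap (P ⊗[A] P) (L ⊗[A] L))).primeCompl P)) t := by
  obtain ⟨S₂, hS₂⟩ := exists_isLocalization A P L hPL M
  obtain ⟨e⟩ := nonempty_baseChange_equiv A P L hPL hP hL M
  have h1 := PDR.hasProjectiveDimensionLT_localizedModule L 𝔓 t h
  have h2 := PDR.hasProjectiveDimensionLT_localizedModule_of_linearEquiv e.symm 𝔓 t h1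
  exact PDR.hasProjectiveDimensionLT_atPrime_comap_of_isLocalization S₂ P 𝔓 t h2

include hPL hP hL in
/-- from the diagonal of `P` to the diagonal of `L`, locally -/
theorem pd_atPrime_of_pd_comap (M : Submonoid P) [IsLocalization M L]
    (𝔓 : Ideal (L ⊗[A] L)) [𝔓.IsPrime] (t : ℕ)
    (h : HasProjectiveDimensionLT
      (ModuleCat.of (Localization.AtPrime (𝔓.comap (algebraMap (P ⊗[A] P) (L ⊗[A] L))))
        (LocalizedModule (𝔓.comap (algebraMap (P ⊗[A] P) (L ⊗[A] L))).primeCompl P)) t) :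
    HasProjectiveDimensionLT (ModuleCat.of (Localization.AtPrime 𝔓)
      (LocalizedModule 𝔓.primeCompl L)) t := by
  obtain ⟨S₂, hS₂⟩ := exists_isLocalization A P L hPL M
  obtain ⟨e⟩ := nonempty_baseChange_equiv A P L hPL hP hL M
  haveI : Module.Flat (P ⊗[A] P) (L ⊗[A] L) := IsLocalization.flat (L ⊗[A] L) S₂
  have h1 := PDR.hasProjectiveDimensionLT_atPrime_of_flat P 𝔓 t h
  exact PDR.hasProjectiveDimensionLT_localizedModule_of_linearEquiv e 𝔓 t h1

include hPL hP hL in
/-- local-to-global: the diagonal of an `Away` localization has finite projective dimension -/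
theorem pd_diagonal_away [IsNoetherianRing (P ⊗[A] P)] (g : P) [IsLocalization.Away g L]
    (s : P ⊗[A] P) (n : ℕ)
    (hs : ∀ (p : Ideal (P ⊗[A] P)) [p.IsPrime], s ∉ p → HasProjectiveDimensionLT
      (ModuleCat.of (Localization.AtPrime p) (LocalizedModule p.primeCompl P)) (n + 1))
    (hgs : ∀ (p : Ideal (P ⊗[A] P)) [p.IsPrime], RingHom.ker (algebraMap (P ⊗[A] P) P) ≤ p →
      s ∈ p → g ⊗ₜ[A] (1 : P) ∈ p) :
    HasProjectiveDimensionLT (ModuleCat.of (L ⊗[A] L) L) (n + 1) := by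
  obtain ⟨S₂, hS₂⟩ := exists_isLocalization A P L hPL (Submonoid.powers g)
  haveI : IsNoetherianRing (L ⊗[A] L) := IsLocalization.isNoetherianRing S₂ (L ⊗[A] L) inferInstance
  have hsurj : Function.Surjective (algebraMap (L ⊗[A] L) L) := fun x =>
    ⟨x ⊗ₜ 1, by rw [hL, mul_one]⟩
  haveI : Module.Finite (L ⊗[A] L) L :=
    Module.Finite.of_surjective (Algebra.linearMap (L ⊗[A] L) L) hsurj
  apply PDR.hasProjectiveDimensionLT_of_forall_maximal n L
  intro 𝔓 h𝔓
  apply pd_atPrime_of_pd_comap A P L hPL hP hL (Submonoid.powers g) 𝔓 (n + 1)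
  by_cases hsp : s ∈ 𝔓.comap (algebraMap (P ⊗[A] P) (L ⊗[A] L))
  · have hker : ¬ RingHom.ker (algebraMap (P ⊗[A] P) P) ≤
        𝔓.comap (algebraMap (P ⊗[A] P) (L ⊗[A] L)) := by
      intro hle
      have h1 := hgs _ hle hsp
      rw [Ideal.mem_comap, hPL, phi_tmul, map_one] at h1
      have hu : IsUnit (algebraMap P L g) := IsLocalization.Away.algebraMap_isUnit g
      have hu2 : IsUnit ((algebraMap P L g) ⊗ₜ[A] (1 : L)) :=
        hu.map (Algebra.TensorProduct.includeLeft : L →ₐ[A] L ⊗[A] L)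
      exact h𝔓.ne_top (Ideal.eq_top_of_isUnit_mem _ h1 hu2)
    obtain ⟨x, hxker, hxp⟩ := SetLike.not_le_iff_exists.mp hker
    haveI : Subsingleton (LocalizedModule
        (𝔓.comap (algebraMap (P ⊗[A] P) (L ⊗[A] L))).primeCompl P) := by
      rw [LocalizedModule.subsingleton_iff]
      intro m
      refine ⟨x, hxp, ?_⟩
      rw [Algebra.smul_def, (RingHom.mem_ker).mp hxker, zero_mul]
    have hz : HasProjectiveDimensionLT
        (ModuleCat.of (Localization.AtPrime (𝔓.comap (algebraMap (P ⊗[A] P) (L ⊗[A] L))))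
          (LocalizedModule (𝔓.comap (algebraMap (P ⊗[A] P) (L ⊗[A] L))).primeCompl P)) 0 :=
      (ModuleCat.isZero_of_subsingleton _).hasProjectiveDimensionLT_zero
    exact hasProjectiveDimensionLT_of_ge _ 0 (n + 1) (Nat.zero_le _)
  · exact hs _ hsp

end Groth.Agent.Lib.Helper16.Loc2
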