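import Groth.Agent.Lib.Helper16.LocCohXSeq
import Groth.Agent.S15426

/-!
# `H^i_a(M) → H^i_a(M_b)` is the localization at `b` (helper16)

* `smul_pow_bijective_H_localizedModule`, `xβ_eq_zero_iff`, `exists_pow_smul_mem_range_xβ`,
  `isLocalizedModule_xβ`, `nonempty_coker_xβ_equiv`, `mem_range_xα_iff`,
  `nonempty_ker_xα_equiv_H_one`.
-/

set_option autoImplicit false
universe u
open CategoryTheory Opposite Limits

namespace Groth.Agent.Lib.Helper16.LC

open Groth.Agent.Lib.Helper16.Depth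

variable {R : Type u} [CommRing R] (a : Ideal R) (b : R)

theorem smul_pow_bijective_H_localizedModule (M : Type u) [AddCommGroup M] [Module R M]
    (p k : ℕ) :
    Function.Bijective
      (fun v : LocCoh.H a p (LocalizedModule (Submonoid.powers b) M) => b ^ k • v) := by
  let N := LocalizedModule (Submonoid.powers b) M
  let φ : N ≃ₗ[R] N :=
    LinearEquiv.ofBijective (LinearMap.lsmul R N (b ^ k)) (smul_pow_bijective_localizedModule b M k)
  have hφ : ModuleCat.ofHom φ.toLinearMap = (b ^ k) • 𝟙 (ModuleCat.of R N) := by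
    apply ModuleCat.hom_ext
    apply LinearMap.ext
    intro y
    rfl
  have h1 : ∀ z : LocCoh.H a p N, Hmap a p (ModuleCat.ofHom φ.toLinearMap) z = b ^ k • z := by
    intro z
    rw [hφ, Hmap_smul_id]
  have hc1 : ModuleCat.ofHom φ.toLinearMap ≫ ModuleCat.ofHom φ.symm.toLinearMap =
      𝟙 (ModuleCat.of R N) := by
    apply ModuleCat.hom_ext
    apply LinearMap.ext
    intro y
    exact φ.symm_apply_apply y
  have hc2 : ModuleCat.ofHom φ.symm.toLinearMap ≫ ModuleCat.ofHom φ.toLinearMap =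
      𝟙 (ModuleCat.of R N) := by
    apply ModuleCat.hom_ext
    apply LinearMap.ext
    intro y
    exact φ.apply_symm_apply y
  constructor
  · intro z z' hzz
    have h2 : Hmap a p (ModuleCat.ofHom φ.toLinearMap) z =
        Hmap a p (ModuleCat.ofHom φ.toLinearMap) z' := by
      rw [h1, h1]
      exact hzz
    have h3 := congrArg (Hmap a p (ModuleCat.ofHom φ.symm.toLinearMap)) h2
    rw [← Hmap_comp, ← Hmap_comp, hc1, Hmap_id, Hmap_id] at h3
    exact h3
  · intro z
    refine ⟨Hmap a p (ModuleCat.ofHom φ.symm.toLinearMap) z, ?_⟩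
    change b ^ k • Hmap a p (ModuleCat.ofHom φ.symm.toLinearMap) z = z
    rw [← h1, ← Hmap_comp, hc2, Hmap_id]

variable [IsNoetherianRing R]

omit [IsNoetherianRing R] in
theorem exists_pow_smul_eq_zero_H_sup_span (M : Type u) [AddCommGroup M] [Module R M] (p : ℕ)
    (t : LocCoh.H (a ⊔ Ideal.span {b}) p M) : ∃ n : ℕ, b ^ n • t = 0 := by
  obtain ⟨n, hn⟩ := Groth.Agent.S15426.result R (a ⊔ Ideal.span {b}) p M t
  exact ⟨n, hn _ (Ideal.pow_mem_pow (Ideal.mem_sup_right (Ideal.mem_span_singleton_self b)) n)⟩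

theorem xβ_eq_zero_iff (i : ℕ) (M : Type u) [AddCommGroup M] [Module R M] (u : LocCoh.H a i M) :
    xβ a b i M u = 0 ↔ ∃ n : ℕ, b ^ n • u = 0 := by
  constructor
  · intro hu
    obtain ⟨t, rfl⟩ := x_exact a b i M u hu
    obtain ⟨n, hn⟩ := exists_pow_smul_eq_zero_H_sup_span a b M i t
    exact ⟨n, by rw [← map_smul, hn, map_zero]⟩
  · rintro ⟨n, hn⟩
    apply (smul_pow_bijective_H_localizedModule a b M i n).1
    change b ^ n • xβ a b i M u = b ^ n • 0
    rw [← map_smul, hn, map_zero, smul_zero]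

theorem mem_range_xα_iff (i : ℕ) (M : Type u) [AddCommGroup M] [Module R M] (u : LocCoh.H a i M) :
    u ∈ LinearMap.range (xα a b i M) ↔ ∃ n : ℕ, b ^ n • u = 0 := by
  rw [← xβ_eq_zero_iff]
  constructor
  · rintro ⟨t, rfl⟩
    exact xβ_xα a b i M t
  · intro hu
    obtain ⟨t, ht⟩ := x_exact a b i M u hu
    exact ⟨t, ht⟩

theorem exists_pow_smul_mem_range_xβ (i : ℕ) (M : Type u) [AddCommGroup M] [Module R M]
    (v : LocCoh.H a i (LocalizedModule (Submonoid.powers b) M)) :
    ∃ n : ℕ, b ^ n • v ∈ LinearMap.range (xβ a b i M) := by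
  obtain ⟨e⟩ := x_coker_ker a b i M
  obtain ⟨n, hn⟩ := exists_pow_smul_eq_zero_H_sup_span a b M (i + 1)
    (e (Submodule.Quotient.mk v) : LocCoh.H (a ⊔ Ideal.span {b}) (i + 1) M)
  refine ⟨n, ?_⟩
  have h1 : b ^ n • e (Submodule.Quotient.mk v) = 0 := Subtype.ext hn
  rw [← map_smul, LinearEquiv.map_eq_zero_iff, ← Submodule.Quotient.mk_smul,
    Submodule.Quotient.mk_eq_zero] at h1
  exact h1

/-- The map `H^i_a(M) → H^i_a(M_b)` is a localization at the powers of `b`. -/
theorem isLocalizedModule_xβ (i : ℕ) (M : Type u) [AddCommGroup M] [Module R M] :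
    IsLocalizedModule (Submonoid.powers b) (xβ a b i M) := by
  refine ⟨?_, ?_, ?_⟩
  · rintro ⟨_, k, rfl⟩
    rw [Module.End.isUnit_iff]
    exact smul_pow_bijective_H_localizedModule a b M i k
  · intro v
    obtain ⟨n, u, hu⟩ := exists_pow_smul_mem_range_xβ a b i M v
    exact ⟨(u, ⟨b ^ n, ⟨n, rfl⟩⟩), hu.symm⟩
  · intro x₁ x₂ h
    have h0 : xβ a b i M (x₁ - x₂) = 0 := by rw [map_sub, h, sub_self]
    obtain ⟨n, hn⟩ := (xβ_eq_zero_iff a b i M _).mp h0
    refine ⟨⟨b ^ n, ⟨n, rfl⟩⟩, ?_⟩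
    change b ^ n • x₁ = b ^ n • x₂
    rw [← sub_eq_zero, ← smul_sub, hn]

theorem nonempty_coker_xβ_equiv (i : ℕ) (M : Type u) [AddCommGroup M] [Module R M] :
    Nonempty ((LocCoh.H a i (LocalizedModule (Submonoid.powers b) M) ⧸
        LinearMap.range (xβ a b i M)) ≃ₗ[R]
      (LocalizedModule (Submonoid.powers b) (LocCoh.H a i M) ⧸
        LinearMap.range (LocalizedModule.mkLinearMap (Submonoid.powers b) (LocCoh.H a i M)))) := by
  have hloc := isLocalizedModule_xβ a b i M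
  let e := IsLocalizedModule.iso (Submonoid.powers b) (xβ a b i M)
  have hcomp : e.toLinearMap ∘ₗ
      LocalizedModule.mkLinearMap (Submonoid.powers b) (LocCoh.H a i M) = xβ a b i M := by
    rw [← IsLocalizedModule.iso_symm_comp (Submonoid.powers b) (xβ a b i M)]
    apply LinearMap.ext
    intro z
    exact e.apply_symm_apply _
  have hmap : (LinearMap.range
      (LocalizedModule.mkLinearMap (Submonoid.powers b) (LocCoh.H a i M))).map e.toLinearMap =
      LinearMap.range (xβ a b i M) := by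
    rw [← LinearMap.range_comp, hcomp]
  exact ⟨(Submodule.Quotient.equiv _ _ e hmap).symm⟩

/-- `ker (H^{i+1}_{a+Rb}(M) → H^{i+1}_a(M)) ≅ H^1_{Rb}(H^i_a(M))`. -/
theorem nonempty_ker_xα_equiv_H_one (i : ℕ) (M : Type u) [AddCommGroup M] [Module R M] :
    Nonempty (LinearMap.ker (xα a b (i + 1) M) ≃ₗ[R]
      LocCoh.H (Ideal.span {b}) 1 (LocCoh.H a i M)) := by
  obtain ⟨e1⟩ := x_coker_ker a b i M
  obtain ⟨e2⟩ := nonempty_coker_xβ_equiv a b i M
  obtain ⟨e3⟩ := nonempty_coker_equiv_H_one b (LocCoh.H a i M)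
  exact ⟨e1.symm.trans (e2.trans e3)⟩

end Groth.Agent.Lib.Helper16.LC
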