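import Groth.Agent.Lib.Helper16.LocCohGrothVanish
import Groth.Agent.Lib.Helper16.LocCohIndepBase
import Groth.Agent.Lib.Helper16.LocCohXSeqLoc
import Mathlib.RingTheory.Ideal.Height
import Mathlib.RingTheory.KrullDimension.Module

/-!
# Vanishing of `H^i_c(M_x)` for `x ∈ 𝔪`, `i ≥ dim R` (helper16)

* `ringKrullDim_away_lt` : `dim R_x < dim R` for `x` in the maximal ideal of a local ring of finite
  dimension.
* `subsingleton_H_localizedModule_powers_of_mem` : `H^i_c(M_x) = 0` for `i ≥ dim R`, `x ∈ 𝔪`.
* `xα_surjective_of_mem_maximalIdeal` : `H^i_{c + xR}(M) → H^i_c(M)` is onto for `i ≥ dim R`.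
-/

set_option autoImplicit false
universe u

namespace Groth.Agent.Lib.Helper16.LC

open IsLocalRing Groth.Agent.Lib.Helper16.DTL

variable {R : Type u} [CommRing R] [IsNoetherianRing R] [IsLocalRing R]

omit [IsNoetherianRing R] in
theorem ringKrullDim_away_lt (n : ℕ) (hn : ringKrullDim R = n) (x : R)
    (hx : x ∈ maximalIdeal R) :
    ringKrullDim (Localization (Submonoid.powers x)) < (n : WithBot ℕ∞) := by
  have hm : ((maximalIdeal R).height : WithBot ℕ∞) = n := by
    rw [IsLocalRing.maximalIdeal_height_eq_ringKrullDim, hn]
  have hm' : (maximalIdeal R).height = (n : ℕ∞) := by exact_mod_cast hm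
  have key : ∀ P : Ideal (Localization (Submonoid.powers x)), P.IsPrime →
      P.height + 1 ≤ (n : ℕ∞) := by
    intro P hP
    rw [← IsLocalization.height_under (Submonoid.powers x) P, ← hm']
    have hq : (P.under R).IsPrime := Ideal.comap_isPrime _ _
    apply Ideal.height_add_one_le_of_lt_of_isPrime
    apply lt_of_le_of_ne (le_maximalIdeal hq.ne_top)
    intro heq
    have hxP : algebraMap R (Localization (Submonoid.powers x)) x ∈ P := by
      have : x ∈ P.under R := heq ▸ hx
      exact this
    apply hP.ne_top
    apply Ideal.eq_top_of_isUnit_mem _ hxP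
    exact IsLocalization.map_units (Localization (Submonoid.powers x))
      (⟨x, Submonoid.mem_powers x⟩ : Submonoid.powers x)
  cases n with
  | zero =>
    have : ringKrullDim (Localization (Submonoid.powers x)) ≤ ⊥ := by
      rw [ringKrullDim_le_iff_height_le]
      intro P hP
      have := key P hP
      simp at this
    exact lt_of_le_of_lt this (WithBot.bot_lt_coe _)
  | succ k =>
    have : ringKrullDim (Localization (Submonoid.powers x)) ≤ (k : WithBot ℕ∞) := by
      rw [ringKrullDim_le_iff_height_le]
      intro P hP
      have h1 := key P hP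
      have h2 : P.height ≤ (k : ℕ∞) := by
        have h3 : P.height + 1 ≤ (k : ℕ∞) + 1 := by exact_mod_cast h1
        exact (ENat.add_le_add_iff_right ENat.one_ne_top).mp h3
      exact_mod_cast h2
    refine lt_of_le_of_lt this ?_
    exact_mod_cast Nat.lt_succ_self k

theorem subsingleton_H_localizedModule_powers_of_mem (n : ℕ) (hn : ringKrullDim R = n) (x : R)
    (hx : x ∈ maximalIdeal R) (c : Ideal R) (M : Type u) [AddCommGroup M] [Module R M] (i : ℕ)
    (hi : n ≤ i) :
    Subsingleton (LocCoh.H c i (LocalizedModule (Submonoid.powers x) M)) := by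
  have : IsNoetherianRing (Localization (Submonoid.powers x)) :=
    IsLocalization.isNoetherianRing (Submonoid.powers x) _ inferInstance
  obtain ⟨φ, -⟩ := semiIso_H (R' := Localization (Submonoid.powers x)) c i
    (LocalizedModule (Submonoid.powers x) M)
  have hdim : Module.supportDim (Localization (Submonoid.powers x))
      (LocalizedModule (Submonoid.powers x) M) < (n : WithBot ℕ∞) :=
    lt_of_le_of_lt (Module.supportDim_le_ringKrullDim _ _) (ringKrullDim_away_lt n hn x hx)
  have := subsingleton_H_of_supportDim_lt
    (c.map (algebraMap R (Localization (Submonoid.powers x))))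
    (LocalizedModule (Submonoid.powers x) M) n hdim i hi
  exact φ.symm.toEquiv.subsingleton

theorem xα_surjective_of_mem_maximalIdeal (n : ℕ) (hn : ringKrullDim R = n) (x : R)
    (hx : x ∈ maximalIdeal R) (c : Ideal R) (M : Type u) [AddCommGroup M] [Module R M] (i : ℕ)
    (hi : n ≤ i) : Function.Surjective (xα c x i M) := by
  intro u
  have := subsingleton_H_localizedModule_powers_of_mem n hn x hx c M i hi
  exact x_exact c x i M u (this.elim _ _)

end Groth.Agent.Lib.Helper16.LC
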