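import Groth.Agent.Lib.Helper16.DTBaseChange

set_option autoImplicit false
universe u
open CategoryTheory Opposite Limits TensorProduct

namespace Groth.Agent.Lib.Helper16.DTL

open Groth.Agent.Lib.Helper16.LC Groth.Agent.Lib.Helper16.Depth

section acyclic

variable {R R' : Type u} [CommRing R] [CommRing R'] [Algebra R R'] [IsNoetherianRing R]
  [IsNoetherianRing R']

/-- `H^1_I(N) = 0` iff `η_N` is surjective. -/
theorem subsingleton_H_one_iff_toDT_surjective {A : Type u} [CommRing A] (I : Ideal A) (N : Type u)
    [AddCommGroup N] [Module A N] :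
    Subsingleton (LocCoh.H I 1 N) ↔ Function.Surjective (LocCoh.toDT I N) := by
  rw [← LinearMap.range_eq_top, ← ker_θ, LinearMap.ker_eq_top]
  constructor
  · intro h
    apply LinearMap.ext
    intro z
    exact h.elim _ _
  · intro h
    refine ⟨fun a b => ?_⟩
    suffices hz : ∀ z : LocCoh.H I 1 N, z = 0 by rw [hz a, hz b]
    intro z
    obtain ⟨x, rfl⟩ := θ_surjective I (ModuleCat.of A N) z
    rw [h, LinearMap.zero_apply]

/-- `H^1_{IR'}(M') = 0 ↔ H^1_I(M') = 0`. -/
theorem subsingleton_H_one_extended_iff (I : Ideal R) (M' : Type u) [AddCommGroup M']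
    [Module R' M'] [Module R M'] [IsScalarTower R R' M'] :
    Subsingleton (LocCoh.H (I.map (algebraMap R R')) 1 M') ↔ Subsingleton (LocCoh.H I 1 M') := by
  obtain ⟨ε, -, hε⟩ := exists_DT_map_addEquiv (R' := R') I M'
  rw [subsingleton_H_one_iff_toDT_surjective, subsingleton_H_one_iff_toDT_surjective]
  have h1 : ⇑(LocCoh.toDT I M') = ε ∘ ⇑(LocCoh.toDT (I.map (algebraMap R R')) M') := by
    funext m
    exact (hε m).symm
  rw [h1]
  constructor
  · intro h
    exact ε.surjective.comp h
  · intro h
    have := ε.symm.surjective.comp h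
    have h2 : ⇑ε.symm ∘ ⇑ε ∘ ⇑(LocCoh.toDT (I.map (algebraMap R R')) M') =
        ⇑(LocCoh.toDT (I.map (algebraMap R R')) M') := by
      funext m
      simp
    rw [h2] at this
    exact this

/-- An injective `R'`-module is `Γ_I`-acyclic as an `R`-module. -/
theorem subsingleton_H_restrictScalars_of_injective (I : Ideal R) (E' : Type u) [AddCommGroup E']
    [Module R' E'] [Module R E'] [IsScalarTower R R' E'] [Module.Injective R' E'] (i : ℕ) :
    Subsingleton (LocCoh.H I (i + 1) E') := by
  refine subsingleton_H_of_family E' Set.univ (fun _ _ _ _ => trivial) (fun _ _ _ _ => trivial)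
    trivial ?_ ?_ i I trivial
  · intro c _
    obtain ⟨s, hs⟩ := (IsNoetherian.noetherian c : c.FG)
    exact ⟨s, fun _ _ => trivial, hs⟩
  · intro c _
    rw [← subsingleton_H_one_extended_iff (R' := R') c E']
    have : Injective (ModuleCat.of R' E') := Module.injective_object_of_injective_module R' E'
    exact subsingleton_H_of_injective _ (ModuleCat.of R' E') 0

end acyclic

end Groth.Agent.Lib.Helper16.DTL
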