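import Groth.Agent.Lib.Helper16.LocCohLES
import Groth.Agent.Lib.Helper16.LocCohH0
import Groth.Prelude.Def_DualLC

/-!
# The comparison maps `H^i_{I'}(M) → H^i_I(M)` for `I ≤ I'` (helper16)

* `qLE h k : R/I^k ⟶ R/I'^k`, `cmp h i M : H^i_{I'}(M) →ₗ H^i_I(M)` (`= (Dual2.HmapOfLE h i).app M`).
* `cmp_ι` : the comparison map on representatives.
* `cmp_Hmap` : naturality; `cmp_δ` : compatibility with connecting maps.
* `δ_naturality` : naturality of `δ` for morphisms of short exact sequences.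
* `H0toM_cmp`, `cmp_zero_injective`.
-/

set_option autoImplicit false
universe u
open CategoryTheory Opposite Limits

namespace Groth.Agent.Lib.Helper16.LC

open Groth.Agent.Lib.Helper16.ExtBridge

variable {R : Type u} [CommRing R] {I I' : Ideal R} (h : I ≤ I')

/-- The projection `R/I^k ⟶ R/I'^k` for `I ≤ I'`. -/
noncomputable def qLE (k : ℕ) : Q I k ⟶ Q I' k := (Dual2.quotMapOfLE h).app (op k)

theorem qLE_apply (k : ℕ) (r : R) :
    (qLE h k).hom (Ideal.Quotient.mk (I ^ k) r) = Ideal.Quotient.mk (I' ^ k) r := rfl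

theorem quotMap_qLE {k l : ℕ} (hkl : k ≤ l) :
    quotMap I hkl ≫ qLE h k = qLE h l ≫ quotMap I' hkl := by
  apply ModuleCat.hom_ext
  apply LinearMap.ext
  intro y
  obtain ⟨r, rfl⟩ := Ideal.Quotient.mk_surjective y
  rfl

/-- The comparison map as a linear map. -/
noncomputable abbrev cmp (i : ℕ) (M : ModuleCat.{u} R) :
    (localCohomology I' i).obj M →ₗ[R] (localCohomology I i).obj M :=
  ((Dual2.HmapOfLE h i).app M).hom

theorem cmp_ι (i : ℕ) (M : ModuleCat.{u} R) {k : ℕ} (e : E I' i M k) :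
    cmp h i M (ι I' i M k e) = ι I i M k ((Abelian.Ext.mk₀ (qLE h k)).comp e (zero_add i)) := by
  obtain ⟨e', rfl⟩ := (oldToNew (Q I' k) M i).surjective e
  rw [ι_old, ← oldToNew_naturality_X M i (qLE h k) e', ι_old]
  have h1 := ι_colimMap (Functor.whiskerRight (NatTrans.op (Dual2.quotMapOfLE h))
    (_root_.Ext R (ModuleCat.{u} R) i)) (op (op k))
  have h2 := congrArg (fun t => NatTrans.app t M) h1
  have h3 := congrArg (fun t => (ModuleCat.Hom.hom t) e') h2
  exact h3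

theorem cmp_Hmap (i : ℕ) {M N : ModuleCat.{u} R} (f : M ⟶ N) (x : (localCohomology I' i).obj M) :
    cmp h i N (Hmap I' i f x) = Hmap I i f (cmp h i M x) := by
  have := (Dual2.HmapOfLE h i).naturality f
  have h2 := congrArg (fun t => (ModuleCat.Hom.hom t) x) this
  exact h2

theorem cmp_Hcomp {M N : ModuleCat.{u} R} {j : ℕ} (β : Abelian.Ext.{u} M N j) (i n : ℕ)
    (hij : i + j = n) (x : (localCohomology I' i).obj M) :
    cmp h n N (Hcomp I' β i n hij x) = Hcomp I β i n hij (cmp h i M x) := by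
  obtain ⟨k, e, rfl⟩ := ι_jointly_surjective I' i M x
  rw [Hcomp_ι, cmp_ι, cmp_ι, Hcomp_ι]
  congr 1
  exact (Abelian.Ext.comp_assoc _ _ _ (zero_add i) hij (by omega)).symm

theorem cmp_δ {S : ShortComplex (ModuleCat.{u} R)} (hS : S.ShortExact) (p : ℕ)
    (z : (localCohomology I' p).obj S.X₃) :
    cmp h (p + 1) S.X₁ (δ I' hS p z) = δ I hS p (cmp h p S.X₃ z) :=
  cmp_Hcomp h hS.extClass p (p + 1) rfl z

variable (I) in
theorem δ_naturality {S₁ S₂ : ShortComplex (ModuleCat.{u} R)} (h₁ : S₁.ShortExact)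
    (h₂ : S₂.ShortExact) (φ : S₁ ⟶ S₂) (p : ℕ) (z : (localCohomology I p).obj S₁.X₃) :
    Hmap I (p + 1) φ.τ₁ (δ I h₁ p z) = δ I h₂ p (Hmap I p φ.τ₃ z) := by
  obtain ⟨k, e, rfl⟩ := ι_jointly_surjective I p S₁.X₃ z
  rw [δ_ι, Hmap_ι, Hmap_ι, δ_ι]
  congr 1
  rw [Abelian.Ext.comp_assoc e h₁.extClass (Abelian.Ext.mk₀ φ.τ₁) rfl (add_zero _) (by omega),
    ShortComplex.ShortExact.extClass_naturality h₁ h₂ φ,
    Abelian.Ext.comp_assoc e (Abelian.Ext.mk₀ φ.τ₃) h₂.extClass (add_zero p) (zero_add 1)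
      (by omega)]

theorem H0toM_cmp (M : ModuleCat.{u} R) (x : (localCohomology I' 0).obj M) :
    H0toM I M (cmp h 0 M x) = H0toM I' M x := by
  obtain ⟨k, e, rfl⟩ := ι_jointly_surjective I' 0 M x
  rw [cmp_ι, H0toM_ι, H0toM_ι]
  obtain ⟨φ, rfl⟩ := Abelian.Ext.mk₀_bijective _ _ |>.2 e
  rw [Abelian.Ext.mk₀_comp_mk₀, ev1_mk₀, ev1_mk₀]
  rfl

theorem cmp_zero_injective (M : ModuleCat.{u} R) : Function.Injective (cmp h 0 M) := by
  intro x y hxy
  apply H0toM_injective I' M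
  rw [← H0toM_cmp h, ← H0toM_cmp h, hxy]

end Groth.Agent.Lib.Helper16.LC
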