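import Groth.Agent.Lib.Helper16.LocCohLocalVanish

/-!
# Comparison maps and local vanishing (helper16)

For `I ≤ I'` in a Noetherian ring and any module `M`: if `H^i_{pA_p}(M_p) = 0` for the primes
`p ⊇ I`, `p ⊉ I'`, then `H^i_{I'}(M) → H^i_I(M)` is surjective; if `H^{i-1}_{pA_p}(M_p) = 0` for
these primes, it is injective.
-/

set_option autoImplicit false
universe u
open CategoryTheory Opposite Limits

namespace Groth.Agent.Lib.Helper16.LC

section aux

variable {R : Type u} [CommRing R]

/-- If `r` acts bijectively on `X`, it acts bijectively on every localization of `X`. -/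
theorem smul_bijective_localizedModule (S : Submonoid R) (X : Type u) [AddCommGroup X]
    [Module R X] (r : R) (h : Function.Bijective (fun x : X => r • x)) :
    Function.Bijective (fun y : LocalizedModule S X => r • y) := by
  let f := LocalizedModule.mkLinearMap S X
  constructor
  · intro y₁ y₂ hy
    have hsub : r • (y₁ - y₂) = 0 := by
      rw [smul_sub]
      exact sub_eq_zero.mpr hy
    obtain ⟨⟨x, s⟩, hxs⟩ := IsLocalizedModule.mk'_surjective S f (y₁ - y₂)
    change IsLocalizedModule.mk' f x s = y₁ - y₂ at hxs
    rw [← hxs, ← IsLocalizedModule.mk'_smul, IsLocalizedModule.mk'_eq_zero'] at hsub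
    obtain ⟨t, ht⟩ := hsub
    have h1 : r • (t • x) = 0 := by
      rw [smul_comm]
      exact ht
    have h2 : t • x = 0 := h.1 (by simpa using h1)
    have h3 : IsLocalizedModule.mk' f x s = 0 :=
      (IsLocalizedModule.mk'_eq_zero' f s).mpr ⟨t, h2⟩
    rw [hxs] at h3
    exact sub_eq_zero.mp h3
  · intro y
    obtain ⟨⟨x, s⟩, hxs⟩ := IsLocalizedModule.mk'_surjective S f y
    change IsLocalizedModule.mk' f x s = y at hxs
    obtain ⟨x', hx'⟩ := h.2 x
    refine ⟨IsLocalizedModule.mk' f x' s, ?_⟩
    change r • IsLocalizedModule.mk' f x' s = y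
    rw [← IsLocalizedModule.mk'_smul, ← hxs]
    congr 1

/-- Localizing at `S'` and then at `S ≥ S'` is localizing at `S`. -/
theorem isLocalizedModule_comp_of_le (S' S : Submonoid R) (hle : S' ≤ S) (M : Type u)
    [AddCommGroup M] [Module R M] :
    IsLocalizedModule S (LocalizedModule.mkLinearMap S (LocalizedModule S' M) ∘ₗ
      LocalizedModule.mkLinearMap S' M) := by
  let f := LocalizedModule.mkLinearMap S' M
  let g := LocalizedModule.mkLinearMap S (LocalizedModule S' M)
  refine ⟨fun s => IsLocalizedModule.map_units g s, ?_, ?_⟩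
  · intro y
    obtain ⟨⟨x, s⟩, hxs⟩ := IsLocalizedModule.surj S g y
    obtain ⟨⟨m, t⟩, hmt⟩ := IsLocalizedModule.surj S' f x
    refine ⟨(m, ⟨(t : R), hle t.2⟩ * s), ?_⟩
    change (((t : R) * (s : R)) • y) = g (f m)
    change s • y = g x at hxs
    change t • x = f m at hmt
    rw [mul_smul]
    change (t : R) • (s • y) = g (f m)
    rw [hxs, ← hmt]
    exact (map_smul g (t : R) x).symm
  · intro m₁ m₂ hm
    change g (f m₁) = g (f m₂) at hm
    obtain ⟨s, hs⟩ := IsLocalizedModule.exists_of_eq (S := S) (f := g) hm
    have hs' : f ((s : R) • m₁) = f ((s : R) • m₂) := by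
      rw [map_smul, map_smul]
      exact hs
    obtain ⟨t, ht⟩ := IsLocalizedModule.exists_of_eq (S := S') (f := f) hs'
    refine ⟨⟨(t : R), hle t.2⟩ * s, ?_⟩
    change ((t : R) * (s : R)) • m₁ = ((t : R) * (s : R)) • m₂
    rw [mul_smul, mul_smul]
    exact ht

end aux

variable {A : Type u} [CommRing A] [IsNoetherianRing A]

omit [IsNoetherianRing A] in
/-- Vanishing of `H^i_{pA_p}((M_b)_p)`. -/
theorem subsingleton_H_maximalIdeal_localizedModule_localizedModule (M : Type u) [AddCommGroup M]
    [Module A M] (b : A) (p : Ideal A) [p.IsPrime] (i : ℕ)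
    (h : b ∉ p → Subsingleton (LocCoh.H (IsLocalRing.maximalIdeal (Localization.AtPrime p)) i
      (LocalizedModule p.primeCompl M))) :
    Subsingleton (LocCoh.H (IsLocalRing.maximalIdeal (Localization.AtPrime p)) i
      (LocalizedModule p.primeCompl (LocalizedModule (Submonoid.powers b) M))) := by
  by_cases hbp : b ∈ p
  · have hmem : algebraMap A (Localization.AtPrime p) b ∈
        IsLocalRing.maximalIdeal (Localization.AtPrime p) :=
      (IsLocalization.AtPrime.to_map_mem_maximal_iff (Localization.AtPrime p) p b).mpr hbp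
    refine subsingleton_H_of_mem_of_smul_bijective _ _ hmem _ (fun k => ?_) i
    have hbij := smul_bijective_localizedModule p.primeCompl
      (LocalizedModule (Submonoid.powers b) M) (b ^ k)
      (smul_pow_bijective_localizedModule b M k)
    have heq : (fun y : LocalizedModule p.primeCompl (LocalizedModule (Submonoid.powers b) M) =>
        (algebraMap A (Localization.AtPrime p) b) ^ k • y) = fun y => b ^ k • y := by
      funext y
      rw [← map_pow, algebraMap_smul]
    rw [heq]
    exact hbij
  · have hsub := h hbp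
    have hle : Submonoid.powers b ≤ p.primeCompl := by
      rintro _ ⟨n, rfl⟩
      exact fun hn => hbp (Ideal.IsPrime.mem_of_pow_mem inferInstance n hn)
    have hloc := isLocalizedModule_comp_of_le (Submonoid.powers b) p.primeCompl hle M
    let e := IsLocalizedModule.linearEquiv p.primeCompl
      (LocalizedModule.mkLinearMap p.primeCompl M)
      (LocalizedModule.mkLinearMap p.primeCompl (LocalizedModule (Submonoid.powers b) M) ∘ₗ
        LocalizedModule.mkLinearMap (Submonoid.powers b) M)
    let e' := LinearEquiv.extendScalarsOfIsLocalization p.primeCompl (Localization.AtPrime p) e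
    exact (DTL.HcongrEquiv (IsLocalRing.maximalIdeal (Localization.AtPrime p)) i
      e').symm.toEquiv.subsingleton

theorem cmp_surjective_of_forall_prime (I I' : Ideal A) (h : I ≤ I') (M : Type u)
    [AddCommGroup M] [Module A M] (i : ℕ)
    (hP : ∀ p : PrimeSpectrum A, I ≤ p.asIdeal → ¬ I' ≤ p.asIdeal →
      Subsingleton (LocCoh.H (IsLocalRing.maximalIdeal (Localization.AtPrime p.asIdeal)) i
        (LocalizedModule p.asIdeal.primeCompl M))) :
    Function.Surjective (cmp h i (ModuleCat.of A M)) := by
  apply cmp_surjective_of_forall i M I I' h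
  intro c b hIc _ hb
  apply subsingleton_H_of_forall_prime i _ c
  intro p _ hcp
  apply subsingleton_H_maximalIdeal_localizedModule_localizedModule M b p i
  intro hbp
  exact hP ⟨p, inferInstance⟩ (hIc.trans hcp) (fun hI' => hbp (hI' hb))

theorem cmp_injective_of_forall_prime (I I' : Ideal A) (h : I ≤ I') (M : Type u)
    [AddCommGroup M] [Module A M] (i : ℕ)
    (hP : ∀ p : PrimeSpectrum A, I ≤ p.asIdeal → ¬ I' ≤ p.asIdeal → ∀ j : ℕ, j + 1 = i →
      Subsingleton (LocCoh.H (IsLocalRing.maximalIdeal (Localization.AtPrime p.asIdeal)) j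
        (LocalizedModule p.asIdeal.primeCompl M))) :
    Function.Injective (cmp h i (ModuleCat.of A M)) := by
  apply cmp_injective_of_forall i M I I' h
  intro c b hIc _ hb j hj
  apply subsingleton_H_of_forall_prime j _ c
  intro p _ hcp
  apply subsingleton_H_maximalIdeal_localizedModule_localizedModule M b p j
  intro hbp
  exact hP ⟨p, inferInstance⟩ (hIc.trans hcp) (fun hI' => hbp (hI' hb)) j hj

end Groth.Agent.Lib.Helper16.LC
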