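import Groth.Agent.Lib.Helper16.ExtDirectedColim
import Groth.Agent.Lib.Helper16.LocCohLES
import Groth.Agent.Lib.Helper16.DTBasic

/-!
# Local cohomology, `Γ_I` and the ideal transform commute with directed colimits (helper16)
-/

set_option autoImplicit false
universe u
open CategoryTheory Limits Opposite

namespace Groth.Agent.Lib.Helper16.ExtColim

variable {R : Type u} [CommRing R]

/-- Elementwise criterion for a cocone over a filtered diagram of modules to be a colimit. -/
noncomputable def isColimitOfElementwise {Λ : Type u} [SmallCategory Λ] [IsFiltered Λ]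
    (D : Λ ⥤ ModuleCat.{u} R) (t : Cocone D)
    (hsurj : ∀ x : t.pt, ∃ (l : Λ) (y : D.obj l), (t.ι.app l).hom y = x)
    (hinj : ∀ (l : Λ) (y : D.obj l), (t.ι.app l).hom y = 0 →
      ∃ (m : Λ) (h : l ⟶ m), (D.map h).hom y = 0) : IsColimit t := by
  have hc := colimit.isColimit D
  have hfac : ∀ (l : Λ) (y : D.obj l), (hc.desc t).hom ((colimit.ι D l).hom y) =
      (t.ι.app l).hom y := by
    intro l y
    have := hc.fac t l
    exact LinearMap.congr_fun (congrArg ModuleCat.Hom.hom this) y
  have hiso : IsIso (hc.desc t) := by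
    rw [ConcreteCategory.isIso_iff_bijective]
    constructor
    · change Function.Injective (hc.desc t).hom
      rw [injective_iff_map_eq_zero]
      intro z hz
      obtain ⟨l, y, rfl⟩ := Concrete.isColimit_exists_rep D hc z
      have hz' : (hc.desc t).hom ((colimit.ι D l).hom y) = 0 := hz
      rw [hfac] at hz'
      obtain ⟨m, h, hm⟩ := hinj l y hz'
      have hw := colimit.w D h
      have : (colimit.ι D l).hom y = (colimit.ι D m).hom ((D.map h).hom y) := by
        rw [← hw]
        rfl
      change (colimit.ι D l).hom y = 0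
      rw [this, hm, map_zero]
    · intro x
      obtain ⟨l, y, rfl⟩ := hsurj x
      exact ⟨(colimit.ι D l).hom y, hfac l y⟩
  exact IsColimit.ofPointIso hc

variable [IsNoetherianRing R] (I : Ideal R) (Λ : Type u) [PartialOrder Λ] [IsDirected Λ (· ≤ ·)]
  [Nonempty Λ]

open Groth.Agent.Lib.Helper16.LC in
/-- Local cohomology commutes with directed colimits. -/
theorem preservesColimitsOfShape_localCohomology (i : ℕ) :
    PreservesColimitsOfShape Λ (localCohomology I i) := by
  refine ⟨fun {F} => ⟨fun {c} hc => ⟨isColimitOfElementwise _ _ ?_ ?_⟩⟩⟩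
  · intro x
    obtain ⟨k, e, rfl⟩ := ι_jointly_surjective I i c.pt x
    obtain ⟨l, e', he'⟩ := (ext_colim hc i (Q I k)).1 e
    refine ⟨l, ι I i (F.obj l) k e', ?_⟩
    rw [Functor.mapCocone_ι_app, ι_naturality, he']
  · intro l y hy
    obtain ⟨k, e', rfl⟩ := ι_jointly_surjective I i (F.obj l) y
    rw [Functor.mapCocone_ι_app, ι_naturality] at hy
    obtain ⟨k', hk, hz⟩ := (ι_eq_zero_iff I i c.pt _).mp hy
    rw [← trans_comp] at hz
    obtain ⟨m, h, hm⟩ := (ext_colim hc i (Q I k')).2 l _ hz
    refine ⟨m, homOfLE h, ?_⟩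
    change ((localCohomology I i).map (F.map (homOfLE h))).hom _ = 0
    rw [ι_naturality, ← ι_trans I i _ hk, ← trans_comp, hm, map_zero]

/-- `Γ_I` commutes with directed colimits. -/
theorem preservesColimitsOfShape_gammaI : PreservesColimitsOfShape Λ (DRing.gammaI I) := by
  refine ⟨fun {F} => ⟨fun {c} hc => ⟨isColimitOfElementwise _ _ ?_ ?_⟩⟩⟩
  · rintro ⟨x, n, hn⟩
    obtain ⟨l, y, rfl⟩ := exists_rep hc x
    let f : ↥(I ^ n) →ₗ[R] F.obj l := LinearMap.toSpanSingleton R (F.obj l) y ∘ₗ (I ^ n).subtype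
    have hf : (c.ι.app l).hom ∘ₗ f = 0 := by
      ext ⟨a, ha⟩
      simp only [f, LinearMap.comp_apply, Submodule.subtype_apply,
        LinearMap.toSpanSingleton_apply, map_smul, LinearMap.zero_apply]
      exact hn a ha
    obtain ⟨m, h, hm⟩ := exists_map_comp_eq_zero hc f hf
    have hmem : (F.map (homOfLE h)).hom y ∈ DRing.torsionSub I (F.obj m) := by
      refine ⟨n, fun a ha => ?_⟩
      have h1 : (F.map (homOfLE h)).hom (a • y) = 0 := LinearMap.congr_fun hm ⟨a, ha⟩
      rw [← map_smul]
      exact h1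
    refine ⟨m, ⟨(F.map (homOfLE h)).hom y, hmem⟩, ?_⟩
    apply Subtype.ext
    change (c.ι.app m).hom ((F.map (homOfLE h)).hom y) = (c.ι.app l).hom y
    exact ι_map h y
  · rintro l ⟨y, hy⟩ h0
    have h0' : (c.ι.app l).hom y = 0 := congrArg Subtype.val h0
    obtain ⟨m, h, hm⟩ := exists_map_eq_zero hc y h0'
    refine ⟨m, homOfLE h, ?_⟩
    apply Subtype.ext
    exact hm

open Groth.Agent.Lib.Helper16.DTL in
/-- The ideal transform commutes with directed colimits. -/
theorem preservesColimitsOfShape_idealTransform :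
    PreservesColimitsOfShape Λ (LocCoh.idealTransform I) := by
  refine ⟨fun {F} => ⟨fun {c} hc => ⟨isColimitOfElementwise _ _ ?_ ?_⟩⟩⟩
  · intro x
    obtain ⟨k, g, rfl⟩ := κ_jointly_surjective I c.pt x
    obtain ⟨l, f, hf⟩ := exists_factor hc g.hom
    refine ⟨l, κ I (F.obj l) k (ModuleCat.ofHom f), ?_⟩
    rw [Functor.mapCocone_ι_app, κ_naturality]
    congr 1
    apply ModuleCat.hom_ext
    exact hf
  · intro l y hy
    obtain ⟨k, f, rfl⟩ := κ_jointly_surjective I (F.obj l) y
    rw [Functor.mapCocone_ι_app, κ_naturality] at hy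
    obtain ⟨k', hk, hz⟩ := (κ_eq_zero_iff I c.pt _).mp hy
    have hz' : (c.ι.app l).hom ∘ₗ (incl I hk ≫ f).hom = 0 := by
      have := congrArg ModuleCat.Hom.hom hz
      rw [← Category.assoc] at this
      exact this
    obtain ⟨m, h, hm⟩ := exists_map_comp_eq_zero hc (incl I hk ≫ f).hom hz'
    refine ⟨m, homOfLE h, ?_⟩
    change ((LocCoh.idealTransform I).map (F.map (homOfLE h))).hom _ = 0
    rw [κ_naturality, ← κ_incl I _ hk]
    have : incl I hk ≫ f ≫ F.map (homOfLE h) = 0 := by
      rw [← Category.assoc]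
      apply ModuleCat.hom_ext
      exact hm
    rw [this, map_zero]

end Groth.Agent.Lib.Helper16.ExtColim
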