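import Groth.Agent.Lib.Helper16.LocCohFlatInj
import Mathlib.LinearAlgebra.TensorProduct.Pi

set_option autoImplicit false
universe u
open CategoryTheory Opposite Limits TensorProduct

namespace Groth.Agent.Lib.Helper16.DTL

open Groth.Agent.Lib.Helper16.LC Groth.Agent.Lib.Helper16.Depth

section gamma

variable {R R' : Type u} [CommRing R] [CommRing R'] [Algebra R R'] [IsNoetherianRing R]
  [Module.Flat R R']
variable (I : Ideal R) (M : Type u) [AddCommGroup M] [Module R M]

omit [IsNoetherianRing R] in
theorem baseChange_subtype_injective (N : Submodule R M) :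
    Function.Injective (N.subtype.baseChange R') := by
  rw [LinearMap.baseChange_eq_ltensor]
  exact Module.Flat.lTensor_preserves_injective_linearMap _ (Submodule.injective_subtype _)

omit [IsNoetherianRing R] [Module.Flat R R'] in
theorem range_baseChange_torsionSub_le :
    LinearMap.range ((DRing.torsionSub I M).subtype.baseChange R') ≤
      DRing.torsionSub (I.map (algebraMap R R')) (R' ⊗[R] M) := by
  rintro _ ⟨t, rfl⟩
  induction t using TensorProduct.induction_on with
  | zero => rw [map_zero]; exact Submodule.zero_mem _
  | tmul r' m =>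
    rw [LinearMap.baseChange_tmul, torsionSub_map_carrier]
    obtain ⟨n, hn⟩ := m.2
    refine ⟨n, fun a ha => ?_⟩
    rw [Submodule.subtype_apply, TensorProduct.smul_tmul', TensorProduct.smul_tmul, hn a ha,
      TensorProduct.tmul_zero]
  | add y z hy hz => rw [map_add]; exact Submodule.add_mem _ hy hz

theorem torsionSub_le_range_baseChange :
    DRing.torsionSub (I.map (algebraMap R R')) (R' ⊗[R] M) ≤
      LinearMap.range ((DRing.torsionSub I M).subtype.baseChange R') := by
  classical
  intro x hx
  rw [torsionSub_map_carrier] at hx
  obtain ⟨n, hn⟩ := hx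
  obtain ⟨s, hs⟩ := (IsNoetherian.noetherian (I ^ n) : (I ^ n).FG)
  let φ : M →ₗ[R] (s → M) := LinearMap.pi (fun a => LinearMap.lsmul R M (a : R))
  have hker : LinearMap.ker φ ≤ DRing.torsionSub I M := by
    intro m hm
    refine ⟨n, fun a ha => ?_⟩
    rw [← hs] at ha
    refine Submodule.span_induction (p := fun a _ => a • m = 0) ?_ ?_ ?_ ?_ ha
    · intro b hb
      exact congrFun hm ⟨b, hb⟩
    · exact zero_smul _ _
    · intro y z _ _ hy hz
      rw [add_smul, hy, hz, add_zero]
    · intro c y _ hy
      rw [smul_eq_mul, mul_smul, hy, smul_zero]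
  have hex : Function.Exact ((LinearMap.ker φ).subtype.lTensor R') (φ.lTensor R') :=
    Module.Flat.lTensor_exact R' (LinearMap.exact_subtype_ker_map φ)
  have hx0 : (φ.lTensor R') x = 0 := by
    apply (TensorProduct.piRight R R R' (fun _ : s => M)).injective
    rw [map_zero]
    have key : ∀ y : R' ⊗[R] M, (TensorProduct.piRight R R R' (fun _ : s => M))
        ((φ.lTensor R') y) = fun a : s => ((a : R) • y : R' ⊗[R] M) := by
      intro y
      induction y using TensorProduct.induction_on with
      | zero =>
        funext a
        simp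
      | tmul r' m =>
        funext a
        simp [φ]
      | add y z hy hz =>
        rw [map_add, map_add, hy, hz]
        funext a
        simp
    rw [key x]
    funext a
    exact hn a (hs ▸ Submodule.subset_span a.2)
  obtain ⟨t, rfl⟩ := (hex x).mp hx0
  refine ⟨(Submodule.inclusion hker).lTensor R' t, ?_⟩
  rw [LinearMap.baseChange_eq_ltensor, ← LinearMap.comp_apply, ← LinearMap.lTensor_comp]
  rfl

theorem range_baseChange_torsionSub :
    LinearMap.range ((DRing.torsionSub I M).subtype.baseChange R') =
      DRing.torsionSub (I.map (algebraMap R R')) (R' ⊗[R] M) :=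
  le_antisymm (range_baseChange_torsionSub_le I M) (torsionSub_le_range_baseChange I M)

end gamma

end Groth.Agent.Lib.Helper16.DTL
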