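import Groth.Agent.Lib.Helper16.LocCohBaseRing
import Mathlib.Algebra.Module.FinitePresentation

set_option autoImplicit false
universe u
open CategoryTheory Opposite Limits TensorProduct

namespace Groth.Agent.Lib.Helper16.DTL

open Groth.Agent.Lib.Helper16.LC Groth.Agent.Lib.Helper16.Depth

section flatinj

variable {R R' : Type u} [CommRing R] [CommRing R'] [Algebra R R'] [IsNoetherianRing R]
  [Module.Flat R R']
variable (I : Ideal R) (E : Type u) [AddCommGroup E] [Module R E] [Module.Injective R E]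

/-- every `R'`-linear map `R' ⊗ I → R' ⊗ E` is multiplication by an element. -/
theorem exists_smul_of_baseChange_ideal (φ : R' ⊗[R] I →ₗ[R'] R' ⊗[R] E) :
    ∃ x : R' ⊗[R] E, ∀ (r' : R') (a : I), φ (r' ⊗ₜ[R] a) = (r' * algebraMap R R' (a : R)) • x := by
  have : Module.FinitePresentation R I := Module.finitePresentation_of_finite R I
  have hbc := Module.FinitePresentation.isBaseChange_map R I E R'
  refine hbc.inductionOn φ (fun φ => ∃ x : R' ⊗[R] E, ∀ (r' : R') (a : I),
    φ (r' ⊗ₜ[R] a) = (r' * algebraMap R R' (a : R)) • x) ?_ ?_ ?_ ?_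
  · exact ⟨0, fun r' a => by simp⟩
  · intro f
    obtain ⟨h, hh⟩ := Module.Injective.extension_property R E I R I.subtype
      (Submodule.injective_subtype _) f
    refine ⟨(1 : R') ⊗ₜ[R] h 1, fun r' a => ?_⟩
    have h1 : f a = (a : R) • h 1 := by
      rw [← map_smul, smul_eq_mul, mul_one]
      exact (LinearMap.congr_fun hh a).symm
    change r' ⊗ₜ[R] f a = _
    rw [h1, TensorProduct.smul_tmul', smul_eq_mul, mul_one, ← TensorProduct.smul_tmul,
      Algebra.smul_def, mul_comm]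
  · rintro s φ ⟨x, hx⟩
    refine ⟨s • x, fun r' a => ?_⟩
    rw [LinearMap.smul_apply, hx, smul_comm]
  · rintro φ ψ ⟨x, hx⟩ ⟨y, hy⟩
    refine ⟨x + y, fun r' a => ?_⟩
    rw [LinearMap.add_apply, hx, hy, smul_add]

omit [IsNoetherianRing R] [Module.Flat R R'] in
theorem range_liftBaseChange_ideal :
    LinearMap.range (((Algebra.linearMap R R').comp I.subtype).liftBaseChange R') =
      I.map (algebraMap R R') := by
  rw [LinearMap.range_liftBaseChange]
  change Submodule.span R' _ = Ideal.span _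
  congr 1
  ext x
  constructor
  · rintro ⟨⟨a, ha⟩, rfl⟩
    exact ⟨a, ha, rfl⟩
  · rintro ⟨a, ha, rfl⟩
    exact ⟨⟨a, ha⟩, rfl⟩

/-- every `R'`-linear map `IR' → R' ⊗ E` is multiplication by an element. -/
theorem exists_smul_eq_of_extended (g : ↥(I.map (algebraMap R R')) →ₗ[R'] R' ⊗[R] E) :
    ∃ x : R' ⊗[R] E, ∀ b : ↥(I.map (algebraMap R R')), g b = (b : R') • x := by
  let μ : R' ⊗[R] I →ₗ[R'] R' := ((Algebra.linearMap R R').comp I.subtype).liftBaseChange R'
  have hμ : ∀ t, μ t ∈ I.map (algebraMap R R') := by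
    intro t
    rw [← range_liftBaseChange_ideal]
    exact ⟨t, rfl⟩
  let μ' : R' ⊗[R] I →ₗ[R'] ↥(I.map (algebraMap R R')) := μ.codRestrict _ hμ
  obtain ⟨x, hx⟩ := exists_smul_of_baseChange_ideal I E (g ∘ₗ μ')
  refine ⟨x, ?_⟩
  have key : ∀ t : R' ⊗[R] I, g (μ' t) = μ t • x := by
    intro t
    induction t using TensorProduct.induction_on with
    | zero => simp
    | tmul r' a =>
      have e2 : μ (r' ⊗ₜ[R] a) = r' • algebraMap R R' (a : R) :=
        LinearMap.liftBaseChange_tmul _ _ _ _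
      rw [e2, smul_eq_mul]
      exact hx r' a
    | add y z hy hz => rw [map_add, map_add, map_add, add_smul, hy, hz]
  rintro ⟨b, hb⟩
  have hb' := hb
  rw [← range_liftBaseChange_ideal] at hb'
  obtain ⟨t, rfl⟩ := hb'
  exact key t

theorem lsmul_flip_surjective_of_extended :
    Function.Surjective (((LinearMap.lsmul R' (R' ⊗[R] E)).domRestrict
      (Ideal.map (algebraMap R R') I)).flip) := by
  intro g
  obtain ⟨x, hx⟩ := exists_smul_eq_of_extended I E g
  refine ⟨x, ?_⟩
  apply LinearMap.ext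
  intro b
  exact (hx b).symm

variable [IsNoetherianRing R']

/-- `R' ⊗ E` is `Γ_{IR'}`-acyclic for flat `R'` and injective `E`. -/
theorem subsingleton_H_baseChange_of_flat_injective (i : ℕ) :
    Subsingleton (LocCoh.H (I.map (algebraMap R R')) (i + 1) (R' ⊗[R] E)) := by
  refine subsingleton_H_of_family (R' ⊗[R] E) (Set.range (Ideal.map (algebraMap R R')))
    ?_ ?_ ?_ ?_ ?_ i _ ⟨I, rfl⟩
  · rintro _ ⟨a, rfl⟩ _ ⟨b, rfl⟩
    exact ⟨a ⊔ b, Ideal.map_sup _ _ _⟩
  · rintro _ ⟨a, rfl⟩ _ ⟨b, rfl⟩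
    exact ⟨a * b, Ideal.map_mul _ _ _⟩
  · exact ⟨⊥, Ideal.map_bot⟩
  · classical
    rintro _ ⟨c, rfl⟩
    obtain ⟨s, hs⟩ := (IsNoetherian.noetherian c : c.FG)
    refine ⟨s.image (algebraMap R R'), ?_, ?_⟩
    · intro x hx
      obtain ⟨y, -, rfl⟩ := Finset.mem_image.mp hx
      refine ⟨Ideal.span {y}, ?_⟩
      rw [Ideal.map_span, Set.image_singleton]
    · rw [Finset.coe_image, ← Ideal.map_span]
      congr 1
  · rintro _ ⟨c, rfl⟩
    rw [subsingleton_H_one_iff_toDT_surjective]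
    intro y
    obtain ⟨k, f, rfl⟩ := κ_jointly_surjective (c.map (algebraMap R R'))
      (ModuleCat.of R' (R' ⊗[R] E)) y
    have hpow : (c.map (algebraMap R R')) ^ k = (c ^ k).map (algebraMap R R') :=
      (Ideal.map_pow _ c k).symm
    obtain ⟨x, hx⟩ := exists_smul_eq_of_extended (c ^ k) E
      (f.hom ∘ₗ (LinearEquiv.ofEq _ _ hpow).symm.toLinearMap)
    refine ⟨x, ?_⟩
    rw [toDT_eq _ _ x k]
    congr 1
    apply ModuleCat.hom_ext
    apply LinearMap.ext
    intro b
    exact (hx (LinearEquiv.ofEq _ _ hpow b)).symm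

end flatinj

end Groth.Agent.Lib.Helper16.DTL
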