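import Groth.Agent.Lib.Helper16.LocCohCompareIso
import Groth.Agent.Lib.Helper16.LocCohLocalize
import Groth.Agent.Lib.Helper16.FaltingsAnnAux
import Mathlib.RingTheory.Ideal.MinimalPrime.Localization

/-!
# Local-to-global vanishing of local cohomology (helper16)

`subsingleton_H_of_forall_prime` : for a Noetherian ring `R`, an ideal `a` and any `R`-module `N`,
if `H^i_{pR_p}(N_p) = 0` for every prime `p ⊇ a` then `H^i_a(N) = 0`.
-/

set_option autoImplicit false
universe u
open CategoryTheory Opposite Limits

namespace Groth.Agent.Lib.Helper16.LC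

variable {R : Type u} [CommRing R] [IsNoetherianRing R]

theorem subsingleton_H_of_forall_prime (i : ℕ) (N : Type u) [AddCommGroup N] [Module R N]
    (a : Ideal R)
    (hyp : ∀ (p : Ideal R) [p.IsPrime], a ≤ p →
      Subsingleton (LocCoh.H (IsLocalRing.maximalIdeal (Localization.AtPrime p)) i
        (LocalizedModule p.primeCompl N))) :
    Subsingleton (LocCoh.H a i N) := by
  induction a using WellFoundedGT.induction with
  | ind a ih =>
  by_cases htop : a = ⊤
  · rw [htop]
    exact subsingleton_H_top i N
  suffices hz : ∀ ξ : LocCoh.H a i N, ξ = 0 from ⟨fun x y => by rw [hz x, hz y]⟩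
  intro ξ
  by_contra hξ
  have hA : ∀ b : R, b ∉ a → ∀ n : ℕ, b ^ n • ξ ≠ 0 := by
    intro b hb n hn
    have hlt : a < a ⊔ Ideal.span {b} := by
      refine lt_of_le_of_ne le_sup_left (fun heq => hb ?_)
      rw [heq]
      exact Ideal.mem_sup_right (Ideal.mem_span_singleton_self b)
    have hsub := ih (a ⊔ Ideal.span {b}) hlt (fun p _ hp => hyp p (le_sup_left.trans hp))
    obtain ⟨t, ht⟩ := (mem_range_xα_iff a b i N ξ).mpr ⟨n, hn⟩
    rw [hsub.elim t 0, map_zero] at ht
    exact hξ ht.symm
  obtain ⟨p, hpmin⟩ := Ideal.nonempty_minimalPrimes htop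
  have hp : p.IsPrime := hpmin.1.1
  have hnoe : IsNoetherianRing (Localization.AtPrime p) :=
    IsLocalization.isNoetherianRing p.primeCompl _ inferInstance
  have hle : a.map (algebraMap R (Localization.AtPrime p)) ≤
      IsLocalRing.maximalIdeal (Localization.AtPrime p) := by
    rw [← Localization.AtPrime.map_eq_maximalIdeal]
    exact Ideal.map_mono hpmin.1.2
  have hrad : IsLocalRing.maximalIdeal (Localization.AtPrime p) ≤
      (a.map (algebraMap R (Localization.AtPrime p))).radical := by
    rw [IsLocalization.AtPrime.radical_map_of_mem_minimalPrimes (Localization.AtPrime p) p a hpmin,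
      Localization.AtPrime.map_eq_maximalIdeal]
  have h1 : Subsingleton (LocCoh.H (a.map (algebraMap R (Localization.AtPrime p))) i
      (LocalizedModule p.primeCompl N)) :=
    subsingleton_H_of_le_radical i (LocalizedModule p.primeCompl N) _ _ hle hrad
      (hyp p hpmin.1.2)
  obtain ⟨e⟩ := DTL.nonempty_localized_H_equiv a p.primeCompl N i
  have h2 : Subsingleton (LocalizedModule p.primeCompl (LocCoh.H a i N)) :=
    e.toEquiv.subsingleton
  have h3 : LocalizedModule.mkLinearMap p.primeCompl (LocCoh.H a i N) ξ = 0 := h2.elim _ _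
  obtain ⟨⟨s, hs⟩, hsξ⟩ := (IsLocalizedModule.eq_zero_iff p.primeCompl
    (LocalizedModule.mkLinearMap p.primeCompl (LocCoh.H a i N))).mp h3
  have hsa : s ∈ a := by
    by_contra hsa
    refine hA s hsa 1 ?_
    rw [pow_one]
    exact hsξ
  exact hs (hpmin.1.2 hsa)

end Groth.Agent.Lib.Helper16.LC
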