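import Groth.Agent.Lib.Helper16.LocCohCd

set_option autoImplicit false
universe u
open CategoryTheory Opposite Limits

namespace Groth.Agent.Lib.Helper16.LC

open Groth.Agent.Lib.Helper16.Depth

section universal

variable {R : Type u} [CommRing R] [IsNoetherianRing R]

/-- A universal class in `Ext^{i+1}(X, -)` for `X` finitely generated. -/
theorem exists_universal_ext :
    ∀ (i : ℕ) (X : Type u) [AddCommGroup X] [Module R X] [Module.Finite R X],
      ∃ (Z : Type u) (_ : AddCommGroup Z) (_ : Module R Z)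
        (ξ : Abelian.Ext.{u} (ModuleCat.of R X) (ModuleCat.of R Z) (i + 1)),
        ∀ (N : ModuleCat.{u} R) (y : Abelian.Ext.{u} (ModuleCat.of R X) N (i + 1)),
          ∃ g : ModuleCat.of R Z ⟶ N, y = ξ.comp (Abelian.Ext.mk₀ g) (add_zero (i + 1)) := by
  intro i
  induction i with
  | zero =>
    intro X _ _ _
    obtain ⟨r, π, hπ⟩ := Module.Finite.exists_fin' R X
    have hS := shortExact_of_linearMaps (LinearMap.ker π).subtype π
      (Submodule.injective_subtype _) hπ (LinearMap.exact_subtype_ker_map π)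
    have hproj : Projective (ModuleCat.of R (Fin r → R)) :=
      (IsProjective.iff_projective _).mp inferInstance
    refine ⟨LinearMap.ker π, inferInstance, inferInstance, hS.extClass, ?_⟩
    intro N y
    obtain ⟨e₁, he₁⟩ := Abelian.Ext.contravariant_sequence_exact₃ hS _ y
      (Abelian.Ext.eq_zero_of_projective _) (add_zero 1)
    obtain ⟨g, rfl⟩ := (Abelian.Ext.mk₀_bijective.{u} _ _).2 e₁
    exact ⟨g, he₁.symm⟩
  | succ i ih =>
    intro X _ _ _
    obtain ⟨r, π, hπ⟩ := Module.Finite.exists_fin' R X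
    have hS := shortExact_of_linearMaps (LinearMap.ker π).subtype π
      (Submodule.injective_subtype _) hπ (LinearMap.exact_subtype_ker_map π)
    have hproj : Projective (ModuleCat.of R (Fin r → R)) :=
      (IsProjective.iff_projective _).mp inferInstance
    obtain ⟨Z, _, _, ξ, hξ⟩ := ih (LinearMap.ker π)
    refine ⟨Z, inferInstance, inferInstance, hS.extClass.comp ξ (add_comm 1 (i + 1)), ?_⟩
    intro N y
    obtain ⟨e₁, he₁⟩ := Abelian.Ext.contravariant_sequence_exact₃ hS _ y
      (Abelian.Ext.eq_zero_of_projective _) (add_comm 1 (i + 1))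
    obtain ⟨g, hg⟩ := hξ N e₁
    refine ⟨g, ?_⟩
    rw [← he₁, hg, Abelian.Ext.comp_assoc_of_third_deg_zero]

end universal

section transition

variable {R : Type u} [CommRing R] [IsNoetherianRing R] (I : Ideal R)

/-- Uniform vanishing of transition maps above the cohomological dimension. -/
theorem exists_trans_eq_zero_of_cdLE (e : ℕ) (he : LocCoh.CdLE R I e) (n : ℕ) :
    ∃ (m : ℕ) (hm : n < m), ∀ (N : ModuleCat.{u} R) (i : ℕ), e < i →
      ∀ ε : E I i N n, trans I i N (Nat.le_of_lt hm) ε = 0 := by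
  have : Module.Finite R (R ⧸ I ^ n) := Module.Finite.quotient R _
  obtain ⟨Z, _, _, ξ, hξ⟩ := exists_universal_ext (R := R) e (R ⧸ I ^ n)
  have hZ : Subsingleton (LocCoh.H I (e + 1) Z) := he Z (e + 1) (Nat.lt_succ_self e)
  obtain ⟨m₀, hm₀, h0⟩ := (ι_eq_zero_iff I (e + 1) (ModuleCat.of R Z) ξ).mp (hZ.elim _ _)
  refine ⟨m₀ + 1, Nat.lt_succ_of_le hm₀, ?_⟩
  have hξ0 : trans I (e + 1) (ModuleCat.of R Z) (Nat.le_of_lt (Nat.lt_succ_of_le hm₀)) ξ = 0 := by
    rw [← trans_trans I (e + 1) (ModuleCat.of R Z) hm₀ (Nat.le_succ m₀), h0, map_zero]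
  -- induction on `i - (e+1)`
  suffices H : ∀ (j : ℕ) (N : ModuleCat.{u} R) (ε : E I (e + 1 + j) N n),
      trans I (e + 1 + j) N (Nat.le_of_lt (Nat.lt_succ_of_le hm₀)) ε = 0 by
    intro N i hi ε
    obtain ⟨j, rfl⟩ : ∃ j, i = e + 1 + j := ⟨i - (e + 1), by omega⟩
    exact H j N ε
  intro j
  induction j with
  | zero =>
    intro N ε
    obtain ⟨g, rfl⟩ := hξ N ε
    rw [← trans_comp, hξ0, Abelian.Ext.zero_comp]
  | succ j ih =>
    intro N ε
    obtain ⟨T, _, _, f, hf, hTinj⟩ := exists_injective_embedding (R := R) N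
    have hS := shortExact_of_linearMaps f (LinearMap.range f).mkQ hf
      (Submodule.mkQ_surjective _) (LinearMap.exact_map_mkQ_range f)
    have : Injective (ModuleCat.of R T) := Module.injective_object_of_injective_module R T
    have hT : Subsingleton (Abelian.Ext.{u} (Q I n) (ModuleCat.of R T) (e + 1 + j + 1)) :=
      Abelian.Ext.subsingleton_of_injective _ _ _
    obtain ⟨x₃, hx₃⟩ := Abelian.Ext.covariant_sequence_exact₁ (Q I n) hS ε (hT.elim _ _)
      (n₀ := e + 1 + j) rfl
    rw [← hx₃, ← trans_comp, ih, Abelian.Ext.zero_comp]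

end transition

end Groth.Agent.Lib.Helper16.LC
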