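import Mathlib.LinearAlgebra.Isomorphisms
import Mathlib.LinearAlgebra.Quotient.Basic
import Mathlib.Algebra.Module.Submodule.Ker
import Mathlib.Algebra.Module.Submodule.Range
import Mathlib.Algebra.Module.Submodule.Equiv

/-!
# Diagram chases for the long exact sequence of three connected sequences of functors (helper16)

Pure linear algebra: the inductive steps in the construction of a long exact sequence
`T^i → U^i → V^i → T^{i+1}` from a "short exact sequence" of cohomological functors, by dimension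
shifting along `0 → M → J → C → 0`.
-/

set_option autoImplicit false

namespace Groth.Agent.Lib.Helper16.XAbs

variable {R : Type*} [CommRing R]

section estep

variable {TC TM UJ UC UM VJ VC VM : Type*}
  [AddCommGroup TC] [Module R TC] [AddCommGroup TM] [Module R TM]
  [AddCommGroup UJ] [Module R UJ] [AddCommGroup UC] [Module R UC] [AddCommGroup UM] [Module R UM]
  [AddCommGroup VJ] [Module R VJ] [AddCommGroup VC] [Module R VC] [AddCommGroup VM] [Module R VM]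
  (δT : TC →ₗ[R] TM) (Ug : UJ →ₗ[R] UC) (δU : UC →ₗ[R] UM) (Vg : VJ →ₗ[R] VC)
  (δV : VC →ₗ[R] VM) (αC : TC →ₗ[R] UC) (αM : TM →ₗ[R] UM) (βJ : UJ →ₗ[R] VJ)
  (βC : UC →ₗ[R] VC) (βM : UM →ₗ[R] VM)

include δT Ug δU Vg δV αC βJ βC in
theorem estep (hδU : Function.Surjective δU) (hV : ∀ v, δV v = 0 → ∃ w, Vg w = v)
    (hβJ : Function.Surjective βJ) (hsq1 : ∀ u, βC (Ug u) = Vg (βJ u))
    (hsq2 : ∀ u, δV (βC u) = βM (δU u)) (hsq3 : ∀ t, αM (δT t) = δU (αC t))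
    (hδUg : ∀ u, δU (Ug u) = 0) (hEC : ∀ u, βC u = 0 → ∃ t, αC t = u) :
    ∀ y, βM y = 0 → ∃ x, αM x = y := by
  intro y hy
  obtain ⟨u, rfl⟩ := hδU y
  have h1 : δV (βC u) = 0 := by rw [hsq2, hy]
  obtain ⟨w, hw⟩ := hV _ h1
  obtain ⟨u', rfl⟩ := hβJ w
  have h0 : βC (u - Ug u') = 0 := by rw [map_sub, hsq1, hw, sub_self]
  obtain ⟨t, ht⟩ := hEC _ h0
  exact ⟨δT t, by rw [hsq3, ht, map_sub, hδUg, sub_zero]⟩

include Ug δU Vg δV βJ βC in
theorem qstep_coker (hδV : Function.Surjective δV) (hδU : Function.Surjective δU)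
    (hV : ∀ v, δV v = 0 → ∃ w, Vg w = v) (hβJ : Function.Surjective βJ)
    (hsq1 : ∀ u, βC (Ug u) = Vg (βJ u)) (hsq2 : ∀ u, δV (βC u) = βM (δU u)) :
    Nonempty ((VM ⧸ LinearMap.range βM) ≃ₗ[R] (VC ⧸ LinearMap.range βC)) := by
  let f : VC →ₗ[R] (VM ⧸ LinearMap.range βM) := (LinearMap.range βM).mkQ ∘ₗ δV
  have hf : Function.Surjective f := (Submodule.mkQ_surjective _).comp hδV
  have hker : LinearMap.ker f = LinearMap.range βC := by
    ext v
    rw [LinearMap.mem_ker, LinearMap.comp_apply, Submodule.mkQ_apply,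
      Submodule.Quotient.mk_eq_zero]
    constructor
    · rintro ⟨y, hy⟩
      obtain ⟨u, rfl⟩ := hδU y
      have h0 : δV (v - βC u) = 0 := by rw [map_sub, hsq2, hy, sub_self]
      obtain ⟨w, hw⟩ := hV _ h0
      obtain ⟨u', rfl⟩ := hβJ w
      refine ⟨u + Ug u', ?_⟩
      rw [map_add, hsq1, hw, add_sub_cancel]
    · rintro ⟨u, rfl⟩
      exact ⟨δU u, (hsq2 u).symm⟩
  exact ⟨((Submodule.quotEquivOfEq _ _ hker.symm).trans
    (f.quotKerEquivOfSurjective hf)).symm⟩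

end estep

section qker

variable {TC TM UC UM : Type*}
  [AddCommGroup TC] [Module R TC] [AddCommGroup TM] [Module R TM]
  [AddCommGroup UC] [Module R UC] [AddCommGroup UM] [Module R UM]
  (δT : TC →ₗ[R] TM) (δU : UC →ₗ[R] UM) (αC : TC →ₗ[R] UC) (αM : TM →ₗ[R] UM)

include δU in
theorem qstep_ker (hδT : Function.Bijective δT) (hδU : Function.Injective δU)
    (hsq3 : ∀ t, αM (δT t) = δU (αC t)) :
    Nonempty (LinearMap.ker αM ≃ₗ[R] LinearMap.ker αC) := by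
  let e := LinearEquiv.ofBijective δT hδT
  have hmap : (LinearMap.ker αC).map (e : TC →ₗ[R] TM) = LinearMap.ker αM := by
    ext x
    rw [Submodule.mem_map, LinearMap.mem_ker]
    constructor
    · rintro ⟨t, ht, rfl⟩
      change αM (δT t) = 0
      rw [hsq3, LinearMap.mem_ker.mp ht, map_zero]
    · intro hx
      obtain ⟨t, rfl⟩ := hδT.2 x
      refine ⟨t, ?_, rfl⟩
      rw [LinearMap.mem_ker]
      apply hδU
      rw [← hsq3, hx, map_zero]
  exact ⟨((e.submoduleMap (LinearMap.ker αC)).trans (LinearEquiv.ofEq _ _ hmap)).symm⟩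

end qker

section q0

variable {TJ TC TM UM UJ UC UM1 VM VJ VC : Type*}
  [AddCommGroup TJ] [Module R TJ] [AddCommGroup TC] [Module R TC] [AddCommGroup TM] [Module R TM]
  [AddCommGroup UM] [Module R UM] [AddCommGroup UJ] [Module R UJ] [AddCommGroup UC] [Module R UC]
  [AddCommGroup UM1] [Module R UM1]
  [AddCommGroup VM] [Module R VM] [AddCommGroup VJ] [Module R VJ] [AddCommGroup VC] [Module R VC]
  (Tg : TJ →ₗ[R] TC) (δT : TC →ₗ[R] TM)
  (Uj : UM →ₗ[R] UJ) (Ug : UJ →ₗ[R] UC) (δU : UC →ₗ[R] UM1)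
  (Vj : VM →ₗ[R] VJ) (Vg : VJ →ₗ[R] VC)
  (αJ : TJ →ₗ[R] UJ) (αC : TC →ₗ[R] UC) (αM1 : TM →ₗ[R] UM1)
  (βM : UM →ₗ[R] VM) (βJ : UJ →ₗ[R] VJ) (βC : UC →ₗ[R] VC)

include Tg δT Uj Ug δU Vj Vg αJ αC βM βJ βC in
theorem q0 (hδT : Function.Surjective δT)
    (hT3 : ∀ t, δT t = 0 → ∃ s, Tg s = t) (hT3' : ∀ s, δT (Tg s) = 0)
    (hU3 : ∀ u, δU u = 0 → ∃ w, Ug w = u) (hU3' : ∀ w, δU (Ug w) = 0)
    (hU2 : ∀ u, Ug u = 0 → ∃ m, Uj m = u) (hU2' : ∀ m, Ug (Uj m) = 0)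
    (hV2 : ∀ v, Vg v = 0 → ∃ m, Vj m = v) (hV2' : ∀ m, Vg (Vj m) = 0)
    (hVj : Function.Injective Vj) (hαC : Function.Injective αC)
    (hEJ : ∀ u, βJ u = 0 → ∃ t, αJ t = u) (hEJ' : ∀ t, βJ (αJ t) = 0)
    (hEC : ∀ u, βC u = 0 → ∃ t, αC t = u) (hEC' : ∀ t, βC (αC t) = 0)
    (hβJ : Function.Surjective βJ)
    (sq1 : ∀ s, αC (Tg s) = Ug (αJ s)) (sq2 : ∀ t, αM1 (δT t) = δU (αC t))
    (sq3 : ∀ m, βJ (Uj m) = Vj (βM m)) (sq4 : ∀ u, βC (Ug u) = Vg (βJ u)) :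
    Nonempty ((VM ⧸ LinearMap.range βM) ≃ₗ[R] LinearMap.ker αM1) := by
  let W : Submodule R UJ := (LinearMap.range Vj).comap βJ
  let eV := LinearEquiv.ofInjective Vj hVj
  let eα := LinearEquiv.ofInjective αC hαC
  have hW1 : ∀ u : W, βJ u ∈ LinearMap.range Vj := fun u => u.2
  have hW2 : ∀ u : W, Ug u ∈ LinearMap.range αC := by
    intro u
    obtain ⟨v, hv⟩ := hW1 u
    have : βC (Ug u) = 0 := by rw [sq4, ← hv, hV2']
    obtain ⟨t, ht⟩ := hEC _ this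
    exact ⟨t, ht⟩
  let χ₀ : W →ₗ[R] VM :=
    eV.symm.toLinearMap ∘ₗ (βJ.comp W.subtype).codRestrict (LinearMap.range Vj) hW1
  let τ₀ : W →ₗ[R] TC :=
    eα.symm.toLinearMap ∘ₗ (Ug.comp W.subtype).codRestrict (LinearMap.range αC) hW2
  have hχ₀ : ∀ u : W, Vj (χ₀ u) = βJ u := by
    intro u
    have : (eV (χ₀ u) : VJ) = βJ u := by
      change (eV (eV.symm _) : VJ) = _
      rw [LinearEquiv.apply_symm_apply]
      rfl
    exact this
  have hτ₀ : ∀ u : W, αC (τ₀ u) = Ug u := by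
    intro u
    have : (eα (τ₀ u) : UC) = Ug u := by
      change (eα (eα.symm _) : UC) = _
      rw [LinearEquiv.apply_symm_apply]
      rfl
    exact this
  let χ : W →ₗ[R] (VM ⧸ LinearMap.range βM) := (LinearMap.range βM).mkQ ∘ₗ χ₀
  have hψmem : ∀ u : W, (δT ∘ₗ τ₀) u ∈ LinearMap.ker αM1 := by
    intro u
    rw [LinearMap.mem_ker, LinearMap.comp_apply, sq2, hτ₀, hU3']
  let ψ : W →ₗ[R] LinearMap.ker αM1 := (δT ∘ₗ τ₀).codRestrict (LinearMap.ker αM1) hψmem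
  have hχsurj : Function.Surjective χ := by
    intro y
    obtain ⟨v, rfl⟩ := Submodule.mkQ_surjective _ y
    obtain ⟨u, hu⟩ := hβJ (Vj v)
    have huW : u ∈ W := ⟨v, hu.symm⟩
    refine ⟨⟨u, huW⟩, ?_⟩
    have : χ₀ ⟨u, huW⟩ = v := hVj (by rw [hχ₀]; exact hu)
    change (LinearMap.range βM).mkQ (χ₀ ⟨u, huW⟩) = _
    rw [this]
  have hψsurj : Function.Surjective ψ := by
    rintro ⟨x, hx⟩
    rw [LinearMap.mem_ker] at hx
    obtain ⟨t, rfl⟩ := hδT x
    have h1 : δU (αC t) = 0 := by rw [← sq2, hx]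
    obtain ⟨u, hu⟩ := hU3 _ h1
    have h2 : Vg (βJ u) = 0 := by rw [← sq4, hu, hEC']
    obtain ⟨v, hv⟩ := hV2 _ h2
    have huW : u ∈ W := ⟨v, hv⟩
    refine ⟨⟨u, huW⟩, ?_⟩
    apply Subtype.ext
    change δT (τ₀ ⟨u, huW⟩) = δT t
    have : τ₀ ⟨u, huW⟩ = t := hαC (by rw [hτ₀]; exact hu)
    rw [this]
  have hker : LinearMap.ker χ = LinearMap.ker ψ := by
    ext u
    have hL : u ∈ LinearMap.ker χ ↔ ∃ (s : TJ) (m : UM), (u : UJ) = αJ s + Uj m := by
      rw [LinearMap.mem_ker]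
      change (LinearMap.range βM).mkQ (χ₀ u) = 0 ↔ _
      rw [Submodule.mkQ_apply, Submodule.Quotient.mk_eq_zero]
      constructor
      · rintro ⟨m, hm⟩
        have h1 : βJ ((u : UJ) - Uj m) = 0 := by
          rw [map_sub, sq3, hm, hχ₀, sub_self]
        obtain ⟨s, hs⟩ := hEJ _ h1
        exact ⟨s, m, by rw [hs, sub_add_cancel]⟩
      · rintro ⟨s, m, hsm⟩
        refine ⟨m, hVj ?_⟩
        rw [hχ₀, hsm, map_add, hEJ', zero_add, sq3]
    have hR : u ∈ LinearMap.ker ψ ↔ ∃ (s : TJ) (m : UM), (u : UJ) = αJ s + Uj m := by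
      rw [LinearMap.mem_ker]
      have h0 : ψ u = 0 ↔ δT (τ₀ u) = 0 := by
        constructor
        · intro h
          exact congrArg Subtype.val h
        · intro h
          exact Subtype.ext h
      rw [h0]
      constructor
      · intro h
        obtain ⟨s, hs⟩ := hT3 _ h
        have h1 : Ug ((u : UJ) - αJ s) = 0 := by
          rw [map_sub, ← sq1, hs, hτ₀, sub_self]
        obtain ⟨m, hm⟩ := hU2 _ h1
        exact ⟨s, m, by rw [hm, add_sub_cancel]⟩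
      · rintro ⟨s, m, hsm⟩
        have : τ₀ u = Tg s := hαC (by rw [hτ₀, hsm, map_add, hU2', add_zero, sq1])
        rw [this, hT3']
    rw [hL, hR]
  exact ⟨((χ.quotKerEquivOfSurjective hχsurj).symm.trans
    (Submodule.quotEquivOfEq _ _ hker)).trans (ψ.quotKerEquivOfSurjective hψsurj)⟩

end q0

end Groth.Agent.Lib.Helper16.XAbs
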