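import Groth.Agent.Lib.Helper16.LocCohXSeqBase
import Groth.Agent.Lib.Helper16.XSeqAbstract
import Groth.Agent.Lib.Helper16.LocCohFaltingsProj

/-!
# The sequence `H^i_{a+Rb}(M) → H^i_a(M) → H^i_a(M_b) → H^{i+1}_{a+Rb}(M)` (helper16)

* `x_exact` : exactness at `H^i_a(M)`.
* `x_coker_ker` : `coker (H^i_a(M) → H^i_a(M_b)) ≅ ker (H^{i+1}_{a+Rb}(M) → H^{i+1}_a(M))`.
-/

set_option autoImplicit false
universe u
open CategoryTheory Opposite Limits

namespace Groth.Agent.Lib.Helper16.LC

open Groth.Agent.Lib.Helper16.Depth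

section shift

variable {R : Type u} [CommRing R] (b : R)
variable {M J : Type u} [AddCommGroup M] [Module R M] [AddCommGroup J] [Module R J]
  (j : M →ₗ[R] J)

/-- The quotient map `J → J / M`. -/
noncomputable abbrev sg : J →ₗ[R] (J ⧸ LinearMap.range j) := (LinearMap.range j).mkQ

/-- The localized inclusion. -/
noncomputable abbrev sjb :
    LocalizedModule (Submonoid.powers b) M →ₗ[R] LocalizedModule (Submonoid.powers b) J :=
  IsLocalizedModule.map (Submonoid.powers b) (LocalizedModule.mkLinearMap (Submonoid.powers b) M)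
    (LocalizedModule.mkLinearMap (Submonoid.powers b) J) j

/-- The localized quotient map. -/
noncomputable abbrev sgb :
    LocalizedModule (Submonoid.powers b) J →ₗ[R]
      LocalizedModule (Submonoid.powers b) (J ⧸ LinearMap.range j) :=
  IsLocalizedModule.map (Submonoid.powers b) (LocalizedModule.mkLinearMap (Submonoid.powers b) J)
    (LocalizedModule.mkLinearMap (Submonoid.powers b) (J ⧸ LinearMap.range j)) (sg j)

theorem sS_shortExact (hj : Function.Injective j) :
    (ModuleCat.shortComplexOfCompEqZero j (sg j)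
      (LinearMap.exact_map_mkQ_range j).linearMap_comp_eq_zero).ShortExact :=
  shortExact_of_linearMaps j (sg j) hj (Submodule.mkQ_surjective _)
    (LinearMap.exact_map_mkQ_range j)

theorem sSb_exact : Function.Exact (sjb b j) (sgb b j) :=
  IsLocalizedModule.map_exact (Submonoid.powers b) _ _ _ j (sg j)
    (LinearMap.exact_map_mkQ_range j)

theorem sSb_shortExact (hj : Function.Injective j) :
    (ModuleCat.shortComplexOfCompEqZero (sjb b j) (sgb b j)
      (sSb_exact b j).linearMap_comp_eq_zero).ShortExact :=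
  shortExact_of_linearMaps (sjb b j) (sgb b j)
    (IsLocalizedModule.map_injective (Submonoid.powers b) _ _ j hj)
    (IsLocalizedModule.map_surjective (Submonoid.powers b) _ _ (sg j)
      (Submodule.mkQ_surjective _))
    (sSb_exact b j)

/-- The localization morphism between the two short complexes. -/
noncomputable def sφ :
    ModuleCat.shortComplexOfCompEqZero j (sg j)
      (LinearMap.exact_map_mkQ_range j).linearMap_comp_eq_zero ⟶
    ModuleCat.shortComplexOfCompEqZero (sjb b j) (sgb b j)
      (sSb_exact b j).linearMap_comp_eq_zero :=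
  ShortComplex.homMk (xℓ b M) (xℓ b J) (xℓ b (J ⧸ LinearMap.range j))
    (by
      apply ModuleCat.hom_ext
      apply LinearMap.ext
      intro m
      exact IsLocalizedModule.map_apply (Submonoid.powers b)
        (LocalizedModule.mkLinearMap (Submonoid.powers b) M)
        (LocalizedModule.mkLinearMap (Submonoid.powers b) J) j m)
    (by
      apply ModuleCat.hom_ext
      apply LinearMap.ext
      intro m
      exact IsLocalizedModule.map_apply (Submonoid.powers b)
        (LocalizedModule.mkLinearMap (Submonoid.powers b) J)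
        (LocalizedModule.mkLinearMap (Submonoid.powers b) (J ⧸ LinearMap.range j)) (sg j) m)

variable (a : Ideal R)

theorem sq_j (p : ℕ) (m : LocCoh.H a p M) :
    xβ a b p J (Hmap a p (ModuleCat.ofHom j) m) =
      Hmap a p (ModuleCat.ofHom (sjb b j)) (xβ a b p M m) := by
  have h := (sφ b j).comm₁₂
  have h1 := Hmap_comp a p (ModuleCat.ofHom j) (xℓ b J) m
  have h2 := Hmap_comp a p (xℓ b M) (ModuleCat.ofHom (sjb b j)) m
  rw [← h1, ← h2]
  exact congrArg (fun t => Hmap a p t m) h.symm

theorem sq_g (p : ℕ) (u : LocCoh.H a p J) :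
    xβ a b p (J ⧸ LinearMap.range j) (Hmap a p (ModuleCat.ofHom (sg j)) u) =
      Hmap a p (ModuleCat.ofHom (sgb b j)) (xβ a b p J u) := by
  have h := (sφ b j).comm₂₃
  have h1 := Hmap_comp a p (ModuleCat.ofHom (sg j)) (xℓ b (J ⧸ LinearMap.range j)) u
  have h2 := Hmap_comp a p (xℓ b J) (ModuleCat.ofHom (sgb b j)) u
  rw [← h1, ← h2]
  exact congrArg (fun t => Hmap a p t u) h.symm

theorem sq_δ (hj : Function.Injective j) (p : ℕ) (u : LocCoh.H a p (J ⧸ LinearMap.range j)) :
    δ a (sSb_shortExact b j hj) p (xβ a b p (J ⧸ LinearMap.range j) u) =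
      xβ a b (p + 1) M (δ a (sS_shortExact j hj) p u) :=
  (δ_naturality a (sS_shortExact j hj) (sSb_shortExact b j hj) (sφ b j) p u).symm

end shift

section main

variable {R : Type u} [CommRing R] [IsNoetherianRing R] (a : Ideal R) (b : R)

omit [IsNoetherianRing R] in
theorem δ_surjective_of_injective (c : Ideal R) {M J : Type u} [AddCommGroup M] [Module R M]
    [AddCommGroup J] [Module R J] [Module.Injective R J] (j : M →ₗ[R] J)
    (hj : Function.Injective j) (p : ℕ) : Function.Surjective (δ c (sS_shortExact j hj) p) := by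
  have hJobj : Injective (ModuleCat.of R J) := Module.injective_object_of_injective_module R J
  have hsub : Subsingleton ((localCohomology c (p + 1)).obj (ModuleCat.of R J)) :=
    subsingleton_H_of_injective c (ModuleCat.of R J) p
  intro x
  exact Hmap_exact₁ c (sS_shortExact j hj) p x (hsub.elim _ _)

omit [IsNoetherianRing R] in
theorem δ_bijective_of_injective (c : Ideal R) {M J : Type u} [AddCommGroup M] [Module R M]
    [AddCommGroup J] [Module R J] [Module.Injective R J] (j : M →ₗ[R] J)
    (hj : Function.Injective j) (p : ℕ) :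
    Function.Bijective (δ c (sS_shortExact j hj) (p + 1)) := by
  have hJobj : Injective (ModuleCat.of R J) := Module.injective_object_of_injective_module R J
  exact δ_bijective_of_subsingleton c (sS_shortExact j hj) (p + 1)
    (subsingleton_H_of_injective c (ModuleCat.of R J) p)
    (subsingleton_H_of_injective c (ModuleCat.of R J) (p + 1))

theorem δb_surjective_of_injective {M J : Type u} [AddCommGroup M] [Module R M]
    [AddCommGroup J] [Module R J] [Module.Injective R J] (j : M →ₗ[R] J)
    (hj : Function.Injective j) (p : ℕ) :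
    Function.Surjective (δ a (sSb_shortExact b j hj) p) := by
  have hsub := subsingleton_H_localizedModule_of_injective a b J p
  intro x
  exact Hmap_exact₁ a (sSb_shortExact b j hj) p x (hsub.elim _ _)

theorem xβ_surjective_of_injective (J : Type u) [AddCommGroup J] [Module R J]
    [Module.Injective R J] (p : ℕ) : Function.Surjective (xβ a b p J) := by
  cases p with
  | zero => exact xβ_zero_surjective_of_injective a b J
  | succ p =>
    have hsub := subsingleton_H_localizedModule_of_injective a b J p
    intro x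
    exact ⟨0, hsub.elim _ _⟩

/-- Exactness of `H^i_{a+Rb}(M) → H^i_a(M) → H^i_a(M_b)` at the middle term. -/
theorem x_exact (i : ℕ) : ∀ (M : Type u) [AddCommGroup M] [Module R M] (y : LocCoh.H a i M),
    xβ a b i M y = 0 → ∃ x, xα a b i M x = y := by
  induction i with
  | zero =>
    intro M _ _ y hy
    exact x_exact_zero a b M y hy
  | succ i ih =>
    intro M _ _
    obtain ⟨J, _, _, j, hj, hJinj⟩ := exists_injective_embedding (R := R) M
    exact XAbs.estep (δ (a ⊔ Ideal.span {b}) (sS_shortExact j hj) i)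
      (Hmap a i (ModuleCat.ofHom (sg j))) (δ a (sS_shortExact j hj) i)
      (Hmap a i (ModuleCat.ofHom (sgb b j))) (δ a (sSb_shortExact b j hj) i)
      (xα a b i (J ⧸ LinearMap.range j)) (xα a b (i + 1) M) (xβ a b i J)
      (xβ a b i (J ⧸ LinearMap.range j)) (xβ a b (i + 1) M)
      (δ_surjective_of_injective a j hj i)
      (fun v hv => Hmap_exact₃ a (sSb_shortExact b j hj) i v hv)
      (xβ_surjective_of_injective a b J i)
      (fun u => sq_g b j a i u)
      (fun u => sq_δ b j a hj i u)
      (fun t => cmp_δ _ (sS_shortExact j hj) i t)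
      (fun u => δ_Hmap_g a (sS_shortExact j hj) i u)
      (fun u hu => ih (J ⧸ LinearMap.range j) u hu)

/-- `coker (H^i_a(M) → H^i_a(M_b)) ≅ ker (H^{i+1}_{a+Rb}(M) → H^{i+1}_a(M))`. -/
theorem x_coker_ker (i : ℕ) : ∀ (M : Type u) [AddCommGroup M] [Module R M],
    Nonempty ((LocCoh.H a i (LocalizedModule (Submonoid.powers b) M) ⧸
      LinearMap.range (xβ a b i M)) ≃ₗ[R] LinearMap.ker (xα a b (i + 1) M)) := by
  induction i with
  | zero =>
    intro M _ _
    obtain ⟨J, _, _, j, hj, hJinj⟩ := exists_injective_embedding (R := R) M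
    exact XAbs.q0 (Hmap (a ⊔ Ideal.span {b}) 0 (ModuleCat.ofHom (sg j)))
      (δ (a ⊔ Ideal.span {b}) (sS_shortExact j hj) 0)
      (Hmap a 0 (ModuleCat.ofHom j)) (Hmap a 0 (ModuleCat.ofHom (sg j)))
      (δ a (sS_shortExact j hj) 0)
      (Hmap a 0 (ModuleCat.ofHom (sjb b j))) (Hmap a 0 (ModuleCat.ofHom (sgb b j)))
      (xα a b 0 J) (xα a b 0 (J ⧸ LinearMap.range j)) (xα a b 1 M)
      (xβ a b 0 M) (xβ a b 0 J) (xβ a b 0 (J ⧸ LinearMap.range j))
      (δ_surjective_of_injective _ j hj 0)
      (fun t ht => Hmap_exact₃ _ (sS_shortExact j hj) 0 t ht)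
      (fun s => δ_Hmap_g _ (sS_shortExact j hj) 0 s)
      (fun u hu => Hmap_exact₃ a (sS_shortExact j hj) 0 u hu)
      (fun w => δ_Hmap_g a (sS_shortExact j hj) 0 w)
      (fun u hu => Hmap_exact₂ a (sS_shortExact j hj) 0 u hu)
      (fun m => Hmap_g_f a (S := ModuleCat.shortComplexOfCompEqZero j (sg j)
        (LinearMap.exact_map_mkQ_range j).linearMap_comp_eq_zero) 0 m)
      (fun v hv => Hmap_exact₂ a (sSb_shortExact b j hj) 0 v hv)
      (fun m => Hmap_g_f a (S := ModuleCat.shortComplexOfCompEqZero (sjb b j) (sgb b j)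
        (sSb_exact b j).linearMap_comp_eq_zero) 0 m)
      (Hmap_zero_injective a (sSb_shortExact b j hj))
      (xα_zero_injective a b _)
      (fun u hu => x_exact_zero a b J u hu)
      (fun t => xβ_xα a b 0 J t)
      (fun u hu => x_exact_zero a b (J ⧸ LinearMap.range j) u hu)
      (fun t => xβ_xα a b 0 (J ⧸ LinearMap.range j) t)
      (xβ_zero_surjective_of_injective a b J)
      (fun s => cmp_Hmap _ 0 (ModuleCat.ofHom (sg j)) s)
      (fun t => cmp_δ _ (sS_shortExact j hj) 0 t)
      (fun m => sq_j b j a 0 m)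
      (fun u => sq_g b j a 0 u)
  | succ i ih =>
    intro M _ _
    obtain ⟨J, _, _, j, hj, hJinj⟩ := exists_injective_embedding (R := R) M
    obtain ⟨e1⟩ := XAbs.qstep_coker
      (Hmap a i (ModuleCat.ofHom (sg j))) (δ a (sS_shortExact j hj) i)
      (Hmap a i (ModuleCat.ofHom (sgb b j))) (δ a (sSb_shortExact b j hj) i)
      (xβ a b i J) (xβ a b i (J ⧸ LinearMap.range j)) (xβ a b (i + 1) M)
      (δb_surjective_of_injective a b j hj i)
      (δ_surjective_of_injective a j hj i)
      (fun v hv => Hmap_exact₃ a (sSb_shortExact b j hj) i v hv)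
      (xβ_surjective_of_injective a b J i)
      (fun u => sq_g b j a i u)
      (fun u => sq_δ b j a hj i u)
    obtain ⟨e2⟩ := ih (J ⧸ LinearMap.range j)
    obtain ⟨e3⟩ := XAbs.qstep_ker (δ (a ⊔ Ideal.span {b}) (sS_shortExact j hj) (i + 1))
      (δ a (sS_shortExact j hj) (i + 1)) (xα a b (i + 1) (J ⧸ LinearMap.range j))
      (xα a b (i + 1 + 1) M)
      (δ_bijective_of_injective _ j hj i)
      (δ_bijective_of_injective a j hj i).1
      (fun t => cmp_δ _ (sS_shortExact j hj) (i + 1) t)
    exact ⟨e1.trans (e2.trans e3.symm)⟩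

end main

end Groth.Agent.Lib.Helper16.LC
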