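import Groth.Agent.Lib.Helper16.LocalDuality

/-!
# Local duality with coefficients (helper16)

`R` Noetherian, `I` an ideal, `n : ℕ`, `K` an `R`-module, `E` an injective `R`-module and
`t : H^n_I(K) → E` a linear map ("trace").  The Yoneda pairing followed by `t` gives natural maps
`Θ : H^i_I(M) → Hom_R(Ext^j_R(M, K), E)` for `i + j = n`.  If

* `H^{n+1}_I(X) = 0` for every module `X`,
* `H^i_I(R) = 0` for `i < n`,
* `Θ` is bijective for `M = R`, `j = 0`,

then `Θ` is bijective for every finite `R`-module `M` (`bijective_Θ`), and every linear map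
`Ext^{n+1}(M, K) → E` vanishes (`dual_ext_succ_eq_zero`).
-/

set_option autoImplicit false
universe u
open CategoryTheory Abelian

namespace Groth.Agent.Lib.Helper16.LDK

open Groth.Agent.Lib.Helper16.LC Groth.Agent.Lib.Helper16.Depth Groth.Agent.Lib.Helper16.LD
open Groth.Agent.Lib.Helper16.ExtRep

variable {R : Type u} [CommRing R] (I : Ideal R) {n : ℕ} (K : ModuleCat.{u} R)
  {E : Type u} [AddCommGroup E] [Module R E] (t : (localCohomology I n).obj K →ₗ[R] E)

section pairing

/-- The pairing `H^i_I(M) → Hom(Ext^j(M, K), E)`, `i + j = n`. -/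
noncomputable def Θ {i j : ℕ} (h : i + j = n) (M : ModuleCat.{u} R) :
    (localCohomology I i).obj M →ₗ[R] (Ext.{u} M K j →ₗ[R] E) where
  toFun z :=
    { toFun := fun e => t (Hcomp I e i n h z)
      map_add' := fun e e' => by rw [Hcomp_add, map_add]
      map_smul' := fun r e => by rw [Hcomp_smul, map_smul]; rfl }
  map_add' := by
    intro z z'
    apply LinearMap.ext
    intro e
    change t (Hcomp I e i n h (z + z')) = t (Hcomp I e i n h z) + t (Hcomp I e i n h z')
    rw [map_add, map_add]
  map_smul' := by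
    intro r z
    apply LinearMap.ext
    intro e
    change t (Hcomp I e i n h (r • z)) = r • t (Hcomp I e i n h z)
    rw [map_smul, map_smul]

theorem Θ_apply {i j : ℕ} (h : i + j = n) (M : ModuleCat.{u} R)
    (z : (localCohomology I i).obj M) (e : Ext.{u} M K j) :
    Θ I K t h M z e = t (Hcomp I e i n h z) := rfl

theorem Θ_mk₀ {M : ModuleCat.{u} R} (z : (localCohomology I n).obj M) (f : M ⟶ K) :
    Θ I K t (add_zero n) M z (Ext.mk₀ f) = t (Hmap I n f z) := by
  rw [Θ_apply, Hcomp_mk₀]

/-- naturality of the pairing in `M` -/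
theorem Θ_naturality {i j : ℕ} (h : i + j = n) {M N : ModuleCat.{u} R} (f : M ⟶ N)
    (z : (localCohomology I i).obj M) (e : Ext.{u} N K j) :
    Θ I K t h N (Hmap I i f z) e = Θ I K t h M z ((Ext.mk₀ f).comp e (zero_add j)) := by
  rw [Θ_apply, Θ_apply, ← Hcomp_mk₀,
    Hcomp_comp I (Ext.mk₀ f) e (zero_add j) i i n (add_zero i) h h]

/-- compatibility of the pairing with connecting maps -/
theorem Θ_δ {i j : ℕ} (h : i + 1 + j = n) {S : ShortComplex (ModuleCat.{u} R)}
    (hS : S.ShortExact) (z : (localCohomology I i).obj S.X₃)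
    (e : Ext.{u} S.X₁ K j) {j' : ℕ} (hj : 1 + j = j') (h' : i + j' = n) :
    Θ I K t h' S.X₃ z (hS.extClass.comp e hj) = Θ I K t h S.X₁ (δ I hS i z) e := by
  rw [Θ_apply, Θ_apply, δ]
  exact congrArg t (Hcomp_comp I hS.extClass e hj i (i + 1) n rfl h h' z)

end pairing

section free

variable (hR : Function.Bijective (Θ I K t (add_zero n) (ModuleCat.of R R)))

include hR

theorem Θ_free_injective (a : ℕ) :
    Function.Injective (Θ I K t (add_zero n) (ModuleCat.of R (Fin a → R))) := by
  rw [injective_iff_map_eq_zero]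
  intro z hz
  rw [H_decomp I n R a z]
  refine Finset.sum_eq_zero fun j _ => ?_
  have : Hmap I n (pr R a j) z = 0 := by
    apply hR.1
    rw [map_zero]
    apply LinearMap.ext
    intro e
    rw [Θ_naturality, hz]
    rfl
  rw [this, map_zero]

theorem Θ_free_surjective (a : ℕ) :
    Function.Surjective (Θ I K t (add_zero n) (ModuleCat.of R (Fin a → R))) := by
  intro ψ
  have hw : ∀ j : Fin a, ∃ w : (localCohomology I n).obj (ModuleCat.of R R),
      Θ I K t (add_zero n) (ModuleCat.of R R) w =
        ψ ∘ₗ Ext.precompOfLinear (Ext.mk₀ (pr R a j)) R K (zero_add 0) := fun j => hR.2 _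
  choose w hw using hw
  refine ⟨∑ j : Fin a, Hmap I n (inj R a j) (w j), ?_⟩
  apply LinearMap.ext
  intro e
  rw [map_sum, LinearMap.sum_apply]
  have h1 : ∀ j : Fin a, Θ I K t (add_zero n) (ModuleCat.of R (Fin a → R))
      (Hmap I n (inj R a j) (w j)) e =
      ψ ((Ext.mk₀ (pr R a j)).comp ((Ext.mk₀ (inj R a j)).comp e (zero_add 0)) (zero_add 0)) := by
    intro j
    rw [Θ_naturality, hw j]
    rfl
  simp_rw [h1]
  rw [← map_sum]
  congr 1
  exact (ext_decomp R a e).symm

end free

section claimA

variable [IsNoetherianRing R]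
  (hvan : ∀ X : ModuleCat.{u} R, Subsingleton ((localCohomology I (n + 1)).obj X))
  (hE : Module.Injective R E)
  (hR : Function.Bijective (Θ I K t (add_zero n) (ModuleCat.of R R)))

include hE hR in
omit [IsNoetherianRing R] in
theorem Θ_zero_surjective (M : Type u) [AddCommGroup M] [Module R M] [Module.Finite R M] :
    Function.Surjective (Θ I K t (add_zero n) (ModuleCat.of R M)) := by
  intro ψ
  obtain ⟨a, σ, hσ⟩ := Module.Finite.exists_fin' R M
  have hS := LinearMap.shortExact_shortComplexKer hσ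
  have : Epi (ModuleCat.ofHom σ) := hS.epi_g
  let res : Ext.{u} (ModuleCat.of R M) K 0 →ₗ[R] Ext.{u} (ModuleCat.of R (Fin a → R)) K 0 :=
    Ext.precompOfLinear (Ext.mk₀ (ModuleCat.ofHom σ)) R K (zero_add 0)
  have hres : Function.Injective res :=
    Ext.precomp_mk₀_injective_of_epi K (ModuleCat.ofHom σ)
  obtain ⟨ψF, hψF⟩ := Module.Injective.out res hres ψ
  obtain ⟨y, hy⟩ := Θ_free_surjective I K t hR a ψF
  refine ⟨Hmap I n (ModuleCat.ofHom σ) y, ?_⟩
  apply LinearMap.ext
  intro e
  rw [Θ_naturality, hy]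
  exact hψF e

include hvan hE hR in
theorem Θ_zero_injective (M : Type u) [AddCommGroup M] [Module R M] [Module.Finite R M] :
    Function.Injective (Θ I K t (add_zero n) (ModuleCat.of R M)) := by
  rw [injective_iff_map_eq_zero]
  intro z hz
  obtain ⟨a, σ, hσ⟩ := Module.Finite.exists_fin' R M
  have hS := LinearMap.shortExact_shortComplexKer hσ
  obtain ⟨y, rfl⟩ : ∃ y, Hmap I n (ModuleCat.ofHom σ) y = z := by
    have := hvan σ.shortComplexKer.X₁
    exact Hmap_exact₃ I hS n z (Subsingleton.elim _ _)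
  let resK : Ext.{u} (ModuleCat.of R (Fin a → R)) K 0 →ₗ[R]
      Ext.{u} (ModuleCat.of R (LinearMap.ker σ)) K 0 :=
    Ext.precompOfLinear (Ext.mk₀ σ.shortComplexKer.f) R K (zero_add 0)
  let φ := Θ I K t (add_zero n) (ModuleCat.of R (Fin a → R)) y
  have hker : LinearMap.ker resK ≤ LinearMap.ker φ := by
    intro e he
    rw [LinearMap.mem_ker] at he ⊢
    obtain ⟨e₃, he₃⟩ := Ext.contravariant_sequence_exact₂ hS K e he
    rw [← he₃]
    have := Θ_naturality I K t (add_zero n) (ModuleCat.ofHom σ) y e₃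
    rw [hz] at this
    exact this.symm
  let φbar : (Ext.{u} (ModuleCat.of R (Fin a → R)) K 0 ⧸ LinearMap.ker resK) →ₗ[R] E :=
    (LinearMap.ker resK).liftQ φ hker
  let resbar : (Ext.{u} (ModuleCat.of R (Fin a → R)) K 0 ⧸ LinearMap.ker resK) →ₗ[R]
      Ext.{u} (ModuleCat.of R (LinearMap.ker σ)) K 0 :=
    (LinearMap.ker resK).liftQ resK le_rfl
  have hresbar : Function.Injective resbar := by
    rw [← LinearMap.ker_eq_bot]
    exact Submodule.ker_liftQ_eq_bot _ _ _ le_rfl
  obtain ⟨ψK, hψK⟩ := Module.Injective.out resbar hresbar φbar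
  have hfinK : Module.Finite R (LinearMap.ker σ) := inferInstance
  obtain ⟨w, hw⟩ := Θ_zero_surjective I K t hE hR (LinearMap.ker σ) ψK
  have hyw : Hmap I n σ.shortComplexKer.f w = y := by
    apply Θ_free_injective I K t hR a
    apply LinearMap.ext
    intro e
    rw [Θ_naturality, hw]
    have := hψK (Submodule.Quotient.mk e)
    exact this
  rw [← hyw]
  exact Hmap_g_f (S := σ.shortComplexKer) I n w

end claimA

section step

variable [IsNoetherianRing R]
  (hlow : ∀ i < n, Subsingleton ((localCohomology I i).obj (ModuleCat.of R R)))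

include hlow in
theorem Θ_step {i j j' : ℕ} (h : i + 1 + j = n) (hj : 1 + j = j') (h' : i + j' = n)
    (hP : ∀ (X : Type u) [AddCommGroup X] [Module R X] [Module.Finite R X],
      Function.Bijective (Θ I K t h (ModuleCat.of R X)))
    (M : Type u) [AddCommGroup M] [Module R M] [Module.Finite R M] :
    Function.Bijective (Θ I K t h' (ModuleCat.of R M)) := by
  obtain ⟨a, σ, hσ⟩ := Module.Finite.exists_fin' R M
  have hS := LinearMap.shortExact_shortComplexKer hσ
  have hfinK : Module.Finite R (LinearMap.ker σ) := inferInstance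
  have hi : i < n := by omega
  have hHF : Subsingleton ((localCohomology I i).obj σ.shortComplexKer.X₂) :=
    subsingleton_H_free I (hlow i hi) a
  have hExtF : Subsingleton (Ext.{u} σ.shortComplexKer.X₂ K j') := by
    have e : j' = j + 1 := by omega
    rw [e]
    have : Projective σ.shortComplexKer.X₂ := by
      change Projective (ModuleCat.of R (Fin a → R))
      infer_instance
    exact Ext.subsingleton_of_projective _ _ _
  have hconn : ∀ x₃ : Ext.{u} σ.shortComplexKer.X₃ K j',
      ∃ x₁ : Ext.{u} σ.shortComplexKer.X₁ K j, hS.extClass.comp x₁ hj = x₃ :=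
    fun x₃ => Ext.contravariant_sequence_exact₃ hS K x₃ (Subsingleton.elim _ _) hj
  have hPK := hP (LinearMap.ker σ)
  have hPF := hP (Fin a → R)
  constructor
  · rw [injective_iff_map_eq_zero]
    intro z hz
    have hδ : δ I hS i z = 0 := by
      apply hPK.1
      rw [map_zero]
      apply LinearMap.ext
      intro e
      have := Θ_δ I K t h hS z e hj h'
      rw [← this, hz]
      rfl
    obtain ⟨y, hy⟩ := Hmap_exact₃ I hS i z hδ
    rw [← hy, Subsingleton.elim y 0, map_zero]
  · intro ψ
    let conn : Ext.{u} σ.shortComplexKer.X₁ K j →ₗ[R] Ext.{u} σ.shortComplexKer.X₃ K j' :=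
      Ext.precompOfLinear hS.extClass R K hj
    obtain ⟨w, hw⟩ := hPK.2 (ψ ∘ₗ conn)
    have hfw : Hmap I (i + 1) σ.shortComplexKer.f w = 0 := by
      apply hPF.1
      rw [map_zero]
      apply LinearMap.ext
      intro e
      rw [Θ_naturality, hw]
      change ψ (hS.extClass.comp ((Ext.mk₀ σ.shortComplexKer.f).comp e (zero_add j)) hj) = 0
      rw [hS.extClass_comp_assoc, map_zero]
    obtain ⟨z, hzw⟩ := Hmap_exact₁ I hS i w hfw
    refine ⟨z, ?_⟩
    apply LinearMap.ext
    intro e
    obtain ⟨e₁, rfl⟩ := hconn e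
    have := Θ_δ I K t h hS z e₁ hj h'
    rw [this, hzw, hw]
    rfl

end step

section main

variable [IsNoetherianRing R]
  (hvan : ∀ X : ModuleCat.{u} R, Subsingleton ((localCohomology I (n + 1)).obj X))
  (hE : Module.Injective R E)
  (hlow : ∀ i < n, Subsingleton ((localCohomology I i).obj (ModuleCat.of R R)))
  (hR : Function.Bijective (Θ I K t (add_zero n) (ModuleCat.of R R)))

include hvan hE hlow hR in
/-- **Local duality with coefficients**: the pairing is perfect on finite modules. -/
theorem bijective_Θ :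
    ∀ (j i : ℕ) (h : i + j = n) (M : Type u) [AddCommGroup M] [Module R M] [Module.Finite R M],
      Function.Bijective (Θ I K t h (ModuleCat.of R M)) := by
  intro j
  induction j with
  | zero =>
    intro i h M _ _ _
    have hi : i = n := by omega
    subst hi
    exact ⟨Θ_zero_injective I K t hvan hE hR M, Θ_zero_surjective I K t hE hR M⟩
  | succ j ih =>
    intro i h M _ _ _
    exact Θ_step I K t hlow (by omega : i + 1 + j = n) (add_comm 1 j) h
      (fun X _ _ _ => ih (i + 1) _ X) M

include hvan hE hlow hR in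
/-- every linear map `Ext^{n+1}(M, K) → E` vanishes, for `M` finite -/
theorem dual_ext_succ_eq_zero (M : Type u) [AddCommGroup M] [Module R M] [Module.Finite R M]
    (ψ : Ext.{u} (ModuleCat.of R M) K (n + 1) →ₗ[R] E) : ψ = 0 := by
  obtain ⟨a, σ, hσ⟩ := Module.Finite.exists_fin' R M
  have hS := LinearMap.shortExact_shortComplexKer hσ
  have hfinK : Module.Finite R (LinearMap.ker σ) := inferInstance
  have hExtF : Subsingleton (Ext.{u} σ.shortComplexKer.X₂ K (n + 1)) := by
    have : Projective σ.shortComplexKer.X₂ := by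
      change Projective (ModuleCat.of R (Fin a → R))
      infer_instance
    exact Ext.subsingleton_of_projective _ _ _
  have hconn : ∀ x₃ : Ext.{u} σ.shortComplexKer.X₃ K (n + 1),
      ∃ x₁ : Ext.{u} σ.shortComplexKer.X₁ K n, hS.extClass.comp x₁ (add_comm 1 n) = x₃ :=
    fun x₃ => Ext.contravariant_sequence_exact₃ hS K x₃ (Subsingleton.elim _ _) (add_comm 1 n)
  have hPK := bijective_Θ I K t hvan hE hlow hR n 0 (zero_add n) (LinearMap.ker σ)
  have hPF := bijective_Θ I K t hvan hE hlow hR n 0 (zero_add n) (Fin a → R)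
  let conn : Ext.{u} σ.shortComplexKer.X₁ K n →ₗ[R] Ext.{u} σ.shortComplexKer.X₃ K (n + 1) :=
    Ext.precompOfLinear hS.extClass R K (add_comm 1 n)
  obtain ⟨w, hw⟩ := hPK.2 (ψ ∘ₗ conn)
  have hfw : Hmap I 0 σ.shortComplexKer.f w = 0 := by
    apply hPF.1
    rw [map_zero]
    apply LinearMap.ext
    intro e
    rw [Θ_naturality, hw]
    change ψ (hS.extClass.comp ((Ext.mk₀ σ.shortComplexKer.f).comp e (zero_add n))
      (add_comm 1 n)) = 0
    rw [hS.extClass_comp_assoc, map_zero]
  have hw0 : w = 0 := Hmap_zero_injective I hS (by rw [hfw, map_zero])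
  apply LinearMap.ext
  intro e
  obtain ⟨e₁, rfl⟩ := hconn e
  have : (ψ ∘ₗ conn) e₁ = 0 := by rw [← hw, hw0, map_zero]; rfl
  exact this

end main

end Groth.Agent.Lib.Helper16.LDK
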