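import Mathlib.RingTheory.Artinian.Module
import Mathlib.Algebra.Module.Torsion.Basic
import Groth.Prelude.Def_Wider

/-!
# Melkersson's lemma (helper16)
-/

set_option autoImplicit false
universe u v

namespace Groth.Agent.Lib.Helper16.Melk

section principal

variable {R : Type u} [CommRing R] {A : Type v} [AddCommGroup A] [Module R A] (x : R)

/-- the `k`-th graded piece of `B` w.r.t. the `x`-torsion filtration, embedded in `(0 :_A x)`. -/
def gr (k : ℕ) (B : Submodule R A) : Submodule R A :=
  (B ⊓ Submodule.torsionBy R A (x ^ (k + 1))).map ((x ^ k) • (LinearMap.id : A →ₗ[R] A))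

theorem mem_gr {k : ℕ} {B : Submodule R A} {u : A} :
    u ∈ gr x k B ↔ ∃ b ∈ B, x ^ (k + 1) • b = 0 ∧ x ^ k • b = u := by
  constructor
  · rintro ⟨b, ⟨hb, hb0⟩, rfl⟩
    exact ⟨b, hb, (Submodule.mem_torsionBy_iff _ _).mp hb0, rfl⟩
  · rintro ⟨b, hb, hb0, rfl⟩
    exact ⟨b, ⟨hb, (Submodule.mem_torsionBy_iff _ _).mpr hb0⟩, rfl⟩

theorem gr_le_torsionBy (k : ℕ) (B : Submodule R A) : gr x k B ≤ Submodule.torsionBy R A x := by
  intro u hu
  obtain ⟨b, -, hb0, rfl⟩ := (mem_gr x).mp hu
  rw [Submodule.mem_torsionBy_iff, smul_smul, ← pow_succ']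
  exact hb0

theorem gr_mono (k : ℕ) {B B' : Submodule R A} (h : B' ≤ B) : gr x k B' ≤ gr x k B := by
  intro u hu
  obtain ⟨b, hb, hb0, rfl⟩ := (mem_gr x).mp hu
  exact (mem_gr x).mpr ⟨b, h hb, hb0, rfl⟩

theorem gr_succ_le (k : ℕ) (B : Submodule R A) : gr x (k + 1) B ≤ gr x k B := by
  intro u hu
  obtain ⟨b, hb, hb0, rfl⟩ := (mem_gr x).mp hu
  refine (mem_gr x).mpr ⟨x • b, B.smul_mem x hb, ?_, ?_⟩
  · rw [smul_smul, ← pow_succ]
    exact hb0
  · rw [smul_smul, ← pow_succ]

theorem gr_anti {k k' : ℕ} (h : k ≤ k') (B : Submodule R A) : gr x k' B ≤ gr x k B := by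
  induction h with
  | refl => exact le_rfl
  | step _ ih => exact (gr_succ_le x _ B).trans ih

theorem eq_of_gr_eq (htors : ∀ a : A, ∃ k : ℕ, x ^ k • a = 0) {B B' : Submodule R A} (h : B' ≤ B)
    (hgr : ∀ k, gr x k B = gr x k B') : B = B' := by
  refine le_antisymm ?_ h
  have key : ∀ (k : ℕ) (b : A), b ∈ B → x ^ k • b = 0 → b ∈ B' := by
    intro k
    induction k with
    | zero =>
      intro b _ hb0
      rw [pow_zero, one_smul] at hb0
      rw [hb0]
      exact B'.zero_mem
    | succ k ih =>
      intro b hb hb0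
      have h1 : x ^ k • b ∈ gr x k B := (mem_gr x).mpr ⟨b, hb, hb0, rfl⟩
      rw [hgr k] at h1
      obtain ⟨b', hb', hb'0, hbb'⟩ := (mem_gr x).mp h1
      have h2 : b - b' ∈ B' := by
        apply ih (b - b') (B.sub_mem hb (h hb'))
        rw [smul_sub, hbb', sub_self]
      have : b = (b - b') + b' := by abel
      rw [this]
      exact B'.add_mem h2 hb'
  intro b hb
  obtain ⟨k, hk⟩ := htors b
  exact key k b hb hk

/-- antitone sequences of submodules inside an Artinian submodule stabilize. -/
theorem stabilizes_of_le (K : Submodule R A) [IsArtinian R K] (g : ℕ → Submodule R A)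
    (hanti : Antitone g) (hle : ∀ n, g n ≤ K) : ∃ n, ∀ m, n ≤ m → g m = g n := by
  let f : ℕ →o (Submodule R K)ᵒᵈ :=
    { toFun := fun n => OrderDual.toDual ((g n).comap K.subtype)
      monotone' := fun a b hab => by
        change (g b).comap K.subtype ≤ (g a).comap K.subtype
        exact Submodule.comap_mono (hanti hab) }
  obtain ⟨n, hn⟩ := IsArtinian.monotone_stabilizes f
  refine ⟨n, fun m hm => ?_⟩
  have h1 : (g n).comap K.subtype = (g m).comap K.subtype := hn m hm
  have h2 := congrArg (Submodule.map K.subtype) h1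
  rw [Submodule.map_comap_subtype, Submodule.map_comap_subtype, inf_eq_right.mpr (hle n),
    inf_eq_right.mpr (hle m)] at h2
  exact h2.symm

/-- **Melkersson's lemma**, principal case. -/
theorem isArtinian_of_torsionBy (htors : ∀ a : A, ∃ k : ℕ, x ^ k • a = 0)
    [IsArtinian R (Submodule.torsionBy R A x)] : IsArtinian R A := by
  rw [← monotone_stabilizes_iff_artinian]
  intro f
  let B : ℕ → Submodule R A := fun j => OrderDual.ofDual (f j)
  have hB : Antitone B := fun a b hab => f.monotone hab
  -- the diagonal
  obtain ⟨j0, hj0⟩ := stabilizes_of_le (Submodule.torsionBy R A x) (fun j => gr x j (B j))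
    (fun a b hab => (gr_anti x hab (B b)).trans (gr_mono x a (hB hab)))
    (fun j => gr_le_torsionBy x j (B j))
  -- finitely many rows
  have hrows : ∀ K0 : ℕ, ∃ J, j0 ≤ J ∧ ∀ k, k < K0 → ∀ j, J ≤ j → gr x k (B j) = gr x k (B J) := by
    intro K0
    induction K0 with
    | zero => exact ⟨j0, le_rfl, fun k hk => absurd hk (Nat.not_lt_zero k)⟩
    | succ K0 ih =>
      obtain ⟨J, hJ, hJ'⟩ := ih
      obtain ⟨J2, hJ2⟩ := stabilizes_of_le (Submodule.torsionBy R A x) (fun j => gr x K0 (B j))
        (fun a b hab => gr_mono x K0 (hB hab)) (fun j => gr_le_torsionBy x K0 (B j))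
      refine ⟨max J J2, hJ.trans (le_max_left _ _), fun k hk j hj => ?_⟩
      rcases Nat.lt_succ_iff_lt_or_eq.mp hk with hk' | rfl
      · rw [hJ' k hk' j ((le_max_left _ _).trans hj), hJ' k hk' (max J J2) (le_max_left _ _)]
      · have e1 : gr x k (B j) = gr x k (B J2) := hJ2 j ((le_max_right _ _).trans hj)
        have e2 : gr x k (B (max J J2)) = gr x k (B J2) := hJ2 _ (le_max_right _ _)
        rw [e1, e2]
  obtain ⟨J, hJ0, hJ⟩ := hrows j0
  refine ⟨J, fun j hj => ?_⟩
  change B J = B j
  refine eq_of_gr_eq x htors (hB hj) (fun k => ?_)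
  by_cases hk : k < j0
  · exact (hJ k hk j hj).symm
  · have hk' : j0 ≤ k := Nat.le_of_not_lt hk
    -- both equal the stable diagonal value
    have sandwich : ∀ j', j0 ≤ j' → gr x k (B j') = gr x j0 (B j0) := by
      intro j' hj'
      apply le_antisymm
      · exact (gr_anti x hk' (B j')).trans (gr_mono x j0 (hB hj'))
      · have h1 : gr x (max j' k) (B (max j' k)) = gr x j0 (B j0) :=
          hj0 (max j' k) (hj'.trans (le_max_left _ _))
        rw [← h1]
        exact (gr_mono x _ (hB (le_max_left j' k))).trans (gr_anti x (le_max_right j' k) (B j'))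
    rw [sandwich J hJ0, sandwich j (hJ0.trans hj)]

end principal

section ideal

variable {R : Type u} [CommRing R]

theorem isArtinian_of_torsionBy_span (s : Finset R) :
    ∀ (M : Type v) [AddCommGroup M] [Module R M],
      LocCoh.IsPowerTorsion (Ideal.span (s : Set R)) M →
      IsArtinian R (LocCoh.torsionBy (Ideal.span (s : Set R)) M) → IsArtinian R M := by
  classical
  induction s using Finset.induction_on with
  | empty =>
    intro M _ _ _ hA
    have htop : LocCoh.torsionBy (Ideal.span ((∅ : Finset R) : Set R)) M = ⊤ := by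
      rw [eq_top_iff]
      intro m _
      rw [Submodule.mem_torsionBySet_iff]
      rintro ⟨a, ha⟩
      rw [Finset.coe_empty, Ideal.span_empty] at ha
      change a • m = 0
      rw [(Ideal.mem_bot.mp ha), zero_smul]
    rw [htop] at hA
    exact isArtinian_of_linearEquiv (Submodule.topEquiv : (⊤ : Submodule R M) ≃ₗ[R] M)
  | insert x s hx ih =>
    intro M _ _ hM hA
    have hxa : x ∈ Ideal.span ((insert x s : Finset R) : Set R) :=
      Ideal.subset_span (by simp)
    have hle : Ideal.span (s : Set R) ≤ Ideal.span ((insert x s : Finset R) : Set R) :=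
      Ideal.span_mono (by simp)
    have h1 : IsArtinian R (Submodule.torsionBy R M x) := by
      apply ih (Submodule.torsionBy R M x)
      · intro m
        obtain ⟨n, hn⟩ := hM m.1
        refine ⟨n, fun r hr => ?_⟩
        apply Subtype.ext
        exact hn r (Ideal.pow_right_mono hle n hr)
      · let φ : LocCoh.torsionBy (Ideal.span (s : Set R)) (Submodule.torsionBy R M x) →ₗ[R]
            LocCoh.torsionBy (Ideal.span ((insert x s : Finset R) : Set R)) M :=
          LinearMap.codRestrict _ ((Submodule.torsionBy R M x).subtype ∘ₗ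
            (LocCoh.torsionBy (Ideal.span (s : Set R)) (Submodule.torsionBy R M x)).subtype) (by
            intro u
            rw [Submodule.mem_torsionBySet_iff]
            rintro ⟨r, hr⟩
            change r • ((u : Submodule.torsionBy R M x) : M) = 0
            refine Submodule.span_induction
              (p := fun r _ => r • ((u : Submodule.torsionBy R M x) : M) = 0) ?_ ?_ ?_ ?_ hr
            · intro y hy
              rcases Finset.mem_insert.mp (Finset.mem_coe.mp hy) with hyx | hys
              · rw [hyx]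
                exact (Submodule.mem_torsionBy_iff _ _).mp (u : Submodule.torsionBy R M x).2
              · have h2 := (Submodule.mem_torsionBySet_iff _ _).mp u.2
                  ⟨y, Ideal.subset_span (Finset.mem_coe.mpr hys)⟩
                exact congrArg Subtype.val h2
            · exact zero_smul _ _
            · intro y z _ _ hy hz
              rw [add_smul, hy, hz, add_zero]
            · intro c y _ hy
              rw [smul_eq_mul, mul_smul, hy, smul_zero])
        refine isArtinian_of_injective φ ?_
        intro u v huv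
        apply Subtype.ext
        apply Subtype.ext
        have h3 : ((φ u : LocCoh.torsionBy _ M) : M) = ((φ v : LocCoh.torsionBy _ M) : M) :=
          congrArg _ huv
        exact h3
    refine isArtinian_of_torsionBy x (fun m => ?_)
    obtain ⟨n, hn⟩ := hM m
    exact ⟨n, hn _ (Ideal.pow_mem_pow hxa n)⟩

/-- **Melkersson's lemma** for a finitely generated ideal. -/
theorem isArtinian_of_isPowerTorsion (a : Ideal R) (ha : a.FG) (M : Type v) [AddCommGroup M]
    [Module R M] (hM : LocCoh.IsPowerTorsion a M) (hA : IsArtinian R (LocCoh.torsionBy a M)) :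
    IsArtinian R M := by
  obtain ⟨s, rfl⟩ := ha
  exact isArtinian_of_torsionBy_span s M hM hA

end ideal

end Groth.Agent.Lib.Helper16.Melk
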