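import Groth.Agent.Lib.Helper16.Milnor3

/-!
# Milnor sequence: the connecting relation (helper16)
-/

set_option autoImplicit false
universe u
open CategoryTheory Opposite Limits

namespace Groth.Agent.Lib.Helper16.Milnor

section main

variable {K : ℕᵒᵖ ⥤ HomologicalComplex AddCommGrpCat.{u} (ComplexShape.up ℤ)}

/-- The relation defining the connecting map `∏ H^q(A_n) → H^p(lim A_n)`. -/
def Rel (c : Cone K) (q p : ℤ) (g : ∀ n, (A K n).homology q) (h : c.pt.homology p) : Prop :=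
  ∃ (cc b : ∀ n, (A K n).X q) (z : c.pt.X p),
    (∀ n, Rep (A K n) q (cc n) (g n)) ∧
    (∀ n, b n - ((t K n).f q).hom (b (n + 1)) = cc n) ∧
    (∀ n, ((pr c n).f p).hom z = ((A K n).d q p).hom (b n)) ∧ Rep c.pt p z h

variable {c : Cone K} (hc : IsLimit c)
  (hK : ∀ (n : ℕ) (i : ℤ), Function.Surjective ((t K n).f i).hom)

include hc hK in
theorem rel_total {q p : ℤ} (hqp : q + 1 = p) (g : ∀ n, (A K n).homology q) :
    ∃ h, Rel c q p g h := by
  choose cc hcc using fun n => rep_exists q (g n)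
  obtain ⟨b, hb⟩ := solve hK q cc
  have hcompat : ∀ n, ((t K n).f p).hom (((A K (n + 1)).d q p).hom (b (n + 1))) =
      ((A K n).d q p).hom (b n) := by
    intro n
    rw [comm_apply]
    have h1 : ((t K n).f q).hom (b (n + 1)) = b n - cc n := by rw [← hb n]; abel
    rw [h1, map_sub, (hcc n).d_eq_zero p, sub_zero]
  obtain ⟨z, hz⟩ := cx_lim_exists hc p (fun n => ((A K n).d q p).hom (b n)) hcompat
  have hdz : (c.pt.d p (p + 1)).hom z = 0 := by
    apply cx_lim_ext hc
    intro n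
    rw [map_zero, comm_apply, hz n, d_d_apply]
  obtain ⟨h, hh⟩ := rep_of_d_eq_zero rfl z hdz
  exact ⟨h, cc, b, z, hcc, hb, hz, hh⟩

theorem rel_add {q p : ℤ} (g g' : ∀ n, (A K n).homology q) (h h' : c.pt.homology p)
    (h1 : Rel c q p g h) (h2 : Rel c q p g' h') : Rel c q p (g + g') (h + h') := by
  obtain ⟨cc, b, z, hcc, hb, hz, hh⟩ := h1
  obtain ⟨cc', b', z', hcc', hb', hz', hh'⟩ := h2
  refine ⟨fun n => cc n + cc' n, fun n => b n + b' n, z + z', fun n => (hcc n).add (hcc' n),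
    fun n => ?_, fun n => ?_, hh.add hh'⟩
  · beta_reduce
    rw [map_add, ← hb n, ← hb' n]; abel
  · beta_reduce
    rw [map_add, map_add, hz n, hz' n]

theorem rel_neg {q p : ℤ} (g : ∀ n, (A K n).homology q) (h : c.pt.homology p)
    (h1 : Rel c q p g h) : Rel c q p (-g) (-h) := by
  obtain ⟨cc, b, z, hcc, hb, hz, hh⟩ := h1
  refine ⟨fun n => - cc n, fun n => - b n, -z, fun n => (hcc n).neg,
    fun n => ?_, fun n => ?_, hh.neg⟩
  · beta_reduce
    rw [map_neg, ← hb n]; abel
  · beta_reduce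
    rw [map_neg, map_neg, hz n]

include hc hK in
theorem rel_zero_unique {q p : ℤ} (hqp : q + 1 = p) (h : c.pt.homology p)
    (h1 : Rel c q p 0 h) : h = 0 := by
  obtain ⟨cc, b, z, hcc, hb, hz, hh⟩ := h1
  have hcc' : ∀ n, ∃ e : (A K n).X (q - 1), ((A K n).d (q - 1) q).hom e = cc n := fun n =>
    (rep_zero_iff (by omega) (cc n)).1 (hcc n)
  choose e he using hcc'
  obtain ⟨f, hf⟩ := solve hK (q - 1) e
  have hcompat : ∀ n, ((t K n).f q).hom (b (n + 1) - ((A K (n + 1)).d (q - 1) q).hom (f (n + 1))) =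
      b n - ((A K n).d (q - 1) q).hom (f n) := by
    intro n
    rw [map_sub, comm_apply]
    have h1 : ((t K n).f q).hom (b (n + 1)) = b n - cc n := by rw [← hb n]; abel
    have h2 : ((t K n).f (q - 1)).hom (f (n + 1)) = f n - e n := by rw [← hf n]; abel
    rw [h1, h2, map_sub, he n]
    abel
  obtain ⟨w, hw⟩ := cx_lim_exists hc q
    (fun n => b n - ((A K n).d (q - 1) q).hom (f n)) hcompat
  have hdw : (c.pt.d q p).hom w = z := by
    apply cx_lim_ext hc
    intro n
    rw [comm_apply, hw n, map_sub, d_d_apply, sub_zero, hz n]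
  have hz0 : Rep c.pt p z 0 := (rep_zero_iff hqp z).2 ⟨w, hdw⟩
  exact hh.unique hz0

theorem rel_map_eq_zero {q p : ℤ} (hqp : q + 1 = p) (g : ∀ n, (A K n).homology q)
    (h : c.pt.homology p) (h1 : Rel c q p g h) (n : ℕ) :
    (HomologicalComplex.homologyMap (pr c n) p).hom h = 0 := by
  obtain ⟨cc, b, z, hcc, hb, hz, hh⟩ := h1
  have h2 := hh.map (pr c n)
  rw [hz n] at h2
  exact h2.unique ((rep_zero_iff hqp _).2 ⟨b n, rfl⟩)

theorem exists_rel_of_map_eq_zero {q p : ℤ} (hqp : q + 1 = p) (h : c.pt.homology p)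
    (h0 : ∀ n : ℕ, (HomologicalComplex.homologyMap (pr c n) p).hom h = 0) :
    ∃ g, Rel c q p g h := by
  obtain ⟨z, hz⟩ := rep_exists p h
  have hb' : ∀ n, ∃ b : (A K n).X q, ((A K n).d q p).hom b = ((pr c n).f p).hom z := by
    intro n
    have h2 := hz.map (pr c n)
    rw [h0 n] at h2
    exact (rep_zero_iff hqp _).1 h2
  choose b hb using hb'
  have hcyc : ∀ n, ((A K n).d q p).hom (b n - ((t K n).f q).hom (b (n + 1))) = 0 := by
    intro n
    rw [map_sub, ← comm_apply, hb n, hb (n + 1), pr_t, sub_self]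
  choose g hg using fun n => rep_of_d_eq_zero hqp _ (hcyc n)
  exact ⟨g, fun n => b n - ((t K n).f q).hom (b (n + 1)), b, z, hg, fun n => rfl,
    fun n => (hb n).symm, hz⟩

theorem mem_range_of_rel_zero {q p : ℤ} (hqp : q + 1 = p) (g : ∀ n, (A K n).homology q)
    (h1 : Rel c q p g 0) :
    ∃ β : ∀ n, (A K n).homology q, ∀ n,
      β n - (HomologicalComplex.homologyMap (t K n) q).hom (β (n + 1)) = g n := by
  obtain ⟨cc, b, z, hcc, hb, hz, hh⟩ := h1
  obtain ⟨w, hw⟩ := (rep_zero_iff hqp z).1 hh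
  have hcyc : ∀ n, ((A K n).d q p).hom (b n - ((pr c n).f q).hom w) = 0 := by
    intro n
    rw [map_sub, ← comm_apply, hw, hz n, sub_self]
  choose β hβ using fun n => rep_of_d_eq_zero hqp _ (hcyc n)
  refine ⟨β, fun n => ?_⟩
  have h2 := (hβ n).sub ((hβ (n + 1)).map (t K n))
  have h3 : b n - ((pr c n).f q).hom w -
      ((t K n).f q).hom (b (n + 1) - ((pr c (n + 1)).f q).hom w) = cc n := by
    rw [map_sub, pr_t, ← hb n]
    abel
  rw [h3] at h2
  exact h2.unique (hcc n)

theorem rel_zero_of_mem_range {q p : ℤ} (β : ∀ n, (A K n).homology q) :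
    Rel c q p (fun n => β n - (HomologicalComplex.homologyMap (t K n) q).hom (β (n + 1))) 0 := by
  choose m hm using fun n => rep_exists q (β n)
  refine ⟨fun n => m n - ((t K n).f q).hom (m (n + 1)), m, 0,
    fun n => (hm n).sub ((hm (n + 1)).map (t K n)), fun n => rfl, fun n => ?_, rep_zero p⟩
  rw [map_zero, (hm n).d_eq_zero p]

end main

end Groth.Agent.Lib.Helper16.Milnor
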