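import Groth.Prelude.Def_Formal2
import Groth.Agent.Lib.Helper16.Milnor4

/-!
# Milnor sequence for towers of complexes of abelian groups with surjective transition maps (helper16)
-/

set_option autoImplicit false
universe u
open CategoryTheory Opposite Limits

namespace Groth.Agent.Lib.Helper16.Milnor

section main

variable (K : ℕᵒᵖ ⥤ HomologicalComplex AddCommGrpCat.{u} (ComplexShape.up ℤ))

theorem post_apply (p : ℤ) (n : ℕ)
    (h : ((HomologicalComplex.homologyFunctor AddCommGrpCat.{u} (ComplexShape.up ℤ) p).obj (limit K))) :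
    (limit.π (K ⋙ HomologicalComplex.homologyFunctor _ _ p) (op n)).hom
      ((limit.post K (HomologicalComplex.homologyFunctor _ _ p)).hom h) =
      (HomologicalComplex.homologyMap (pr (limit.cone K) n) p).hom h := by
  change (limit.post K (HomologicalComplex.homologyFunctor _ _ p) ≫
    limit.π (K ⋙ HomologicalComplex.homologyFunctor _ _ p) (op n)).hom h = _
  rw [limit.post_π]
  rfl

theorem mem_ker_post_iff (p : ℤ)
    (h : ((HomologicalComplex.homologyFunctor AddCommGrpCat.{u} (ComplexShape.up ℤ) p).obj (limit K))) :
    h ∈ (limit.post K (HomologicalComplex.homologyFunctor _ _ p)).hom.ker ↔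
      ∀ n : ℕ, (HomologicalComplex.homologyMap (pr (limit.cone K) n) p).hom h = 0 := by
  constructor
  · intro h0 n
    have h0' : (limit.post K (HomologicalComplex.homologyFunctor _ _ p)).hom h = 0 := h0
    rw [← post_apply, h0']
    exact map_zero _
  · intro h0
    change (limit.post K (HomologicalComplex.homologyFunctor _ _ p)).hom h = 0
    apply lim_ext (limit.isLimit (K ⋙ HomologicalComplex.homologyFunctor _ _ p))
    intro n
    rw [map_zero]
    exact (post_apply K p n h).trans (h0 n)

theorem milnor
    (hK : ∀ (n : ℕ) (q : ℤ), Function.Surjective ((K.map (homOfLE (Nat.le_succ n)).op).f q).hom)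
    (p q : ℤ) (hqp : q + 1 = p) :
    Function.Surjective (limit.post K (HomologicalComplex.homologyFunctor _ _ p)).hom ∧
      Nonempty ((limit.post K (HomologicalComplex.homologyFunctor _ _ p)).hom.ker ≃+
        Formal2.limOne (fun n => (K.obj (op n)).homology q)
          (fun n => (HomologicalComplex.homologyMap (K.map (homOfLE (Nat.le_succ n)).op) q).hom)) := by
  have hc := limit.isLimit K
  constructor
  · intro y
    have hy : ∀ n : ℕ, (HomologicalComplex.homologyMap (t K n) p).hom
        ((limit.π (K ⋙ HomologicalComplex.homologyFunctor _ _ p) (op (n + 1))).hom y) =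
        (limit.π (K ⋙ HomologicalComplex.homologyFunctor _ _ p) (op n)).hom y := by
      intro n
      have := limit.w (K ⋙ HomologicalComplex.homologyFunctor _ _ p) (homOfLE (Nat.le_succ n)).op
      rw [← this]
      rfl
    obtain ⟨s, hs, hR⟩ := exists_seq (α := fun n => (A K n).X p)
      (fun n x => Rep (A K n) p x
        ((limit.π (K ⋙ HomologicalComplex.homologyFunctor _ _ p) (op n)).hom y))
      (fun n x' x => ((t K n).f p).hom x' = x) (rep_exists p _) (by
        intro n x hx
        obtain ⟨w, hw⟩ := rep_exists p
          ((limit.π (K ⋙ HomologicalComplex.homologyFunctor _ _ p) (op (n + 1))).hom y)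
        have h1 := hw.map (t K n)
        rw [hy n] at h1
        obtain ⟨u, hu⟩ := h1.exists_d_eq_sub hqp hx
        obtain ⟨v, hv⟩ := hK n q u
        refine ⟨w - ((A K (n + 1)).d q p).hom v, hw.sub_d hqp v, ?_⟩
        rw [map_sub, comm_apply]
        rw [show ((t K n).f q).hom v = u from hv, hu]
        abel)
    obtain ⟨z, hz⟩ := cx_lim_exists hc p s hR
    have hdz : ((limit.cone K).pt.d p (p + 1)).hom z = 0 := by
      apply cx_lim_ext hc
      intro n
      rw [map_zero, comm_apply, hz n, (hs n).d_eq_zero]
    obtain ⟨h, hh⟩ := rep_of_d_eq_zero rfl z hdz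
    refine ⟨h, ?_⟩
    apply lim_ext (limit.isLimit (K ⋙ HomologicalComplex.homologyFunctor _ _ p))
    intro n
    have h2 := hh.map (pr (limit.cone K) n)
    rw [hz n] at h2
    exact (post_apply K p n h).trans (h2.unique (hs n))
  · obtain ⟨Φ, hΦ⟩ := exists_hom_of_rel (G := ∀ n, (K.obj (op n)).homology q)
      (H := ((HomologicalComplex.homologyFunctor AddCommGrpCat.{u} (ComplexShape.up ℤ) p).obj (limit K)))
      (Rel (limit.cone K) q p)
      (rel_total hc hK hqp) rel_add rel_neg (rel_zero_unique hc hK hqp)
    have hrange : Φ.range = (limit.post K (HomologicalComplex.homologyFunctor _ _ p)).hom.ker := by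
      ext h
      constructor
      · rintro ⟨g, rfl⟩
        exact (mem_ker_post_iff K p _).2 (fun n => rel_map_eq_zero hqp g _ ((hΦ g _).2 rfl) n)
      · intro hh
        have h0 := (mem_ker_post_iff K p h).1 hh
        obtain ⟨g, hg⟩ := exists_rel_of_map_eq_zero hqp h h0
        exact ⟨g, (hΦ g h).1 hg⟩
    have hker : Φ.ker = (Formal2.towerDiff (fun n => (K.obj (op n)).homology q)
        (fun n => (HomologicalComplex.homologyMap (K.map (homOfLE (Nat.le_succ n)).op) q).hom)).range := by
      ext g
      rw [AddMonoidHom.mem_ker, AddMonoidHom.mem_range, ← hΦ]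
      constructor
      · intro h0
        obtain ⟨β, hβ⟩ := mem_range_of_rel_zero hqp g h0
        exact ⟨β, funext hβ⟩
      · rintro ⟨β, rfl⟩
        exact rel_zero_of_mem_range β
    exact ⟨(AddEquiv.addSubgroupCongr hrange).symm.trans
      ((QuotientAddGroup.quotientKerEquivRange Φ).symm.trans
        (QuotientAddGroup.quotientAddEquivOfEq hker))⟩

end main

end Groth.Agent.Lib.Helper16.Milnor
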