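import Groth.Agent.Lib.Helper16.DepthExt
import Groth.Prelude.Def_EGA4b
import Mathlib.RingTheory.LocalRing.Module

/-!
# Normal flatness along a nilpotent ideal (helper16)

For a Noetherian local ring `A`, a nilpotent ideal `I` and a finite nonzero `A`-module `M`
normally flat along `I`: `dim M = dim A/I` and `depth M = depth A/I`.

* `subsingleton_ext_of_retract`, `subsingleton_ext_of_subsingleton`, `subsingleton_ext_pi`:
  vanishing of `Ext` for retracts, zero modules, finite powers.
* `Mn`, `Gn`, `shortExact`: the filtration `I^n M`, the graded pieces, and the short exact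
  sequences `0 → I^(n+1) M → I^n M → gr_n → 0`.
* `exists_equiv`, `exists_top_piece`: the pieces are free over `A/I`; the last nonzero `I^n M` is
  free of positive rank over `A/I`.
* `depth_eq`, `supportDim_eq`.
-/

set_option autoImplicit false
universe u v w

open CategoryTheory RingTheory.Sequence CategoryTheory.Abelian

namespace Groth.Agent.Lib.Helper16.NormalFlat

open Groth.Agent.Lib.Helper16.Depth

section ext

variable {R : Type u} [CommRing R]

theorem subsingleton_ext_of_retract {X N Q : Type u} [AddCommGroup X] [Module R X]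
    [AddCommGroup N] [Module R N] [AddCommGroup Q] [Module R Q] (s : N →ₗ[R] Q) (p : Q →ₗ[R] N)
    (hps : p ∘ₗ s = LinearMap.id) (i : ℕ)
    (h : Subsingleton (Ext.{u} (ModuleCat.of R X) (ModuleCat.of R Q) i)) :
    Subsingleton (Ext.{u} (ModuleCat.of R X) (ModuleCat.of R N) i) := by
  refine ⟨fun a b => ?_⟩
  suffices hz : ∀ z : Ext.{u} (ModuleCat.of R X) (ModuleCat.of R N) i, z = 0 by rw [hz a, hz b]
  intro z
  have hid : ModuleCat.ofHom s ≫ ModuleCat.ofHom p = 𝟙 (ModuleCat.of R N) := by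
    rw [← ModuleCat.ofHom_comp, hps]; rfl
  have h1 : z = (z.comp (Ext.mk₀ (ModuleCat.ofHom s)) (add_zero i)).comp
      (Ext.mk₀ (ModuleCat.ofHom p)) (add_zero i) := by
    rw [Ext.comp_assoc_of_third_deg_zero, Ext.mk₀_comp_mk₀, hid, Ext.comp_mk₀_id]
  rw [h1, h.elim (z.comp (Ext.mk₀ (ModuleCat.ofHom s)) (add_zero i)) 0, Ext.zero_comp]

theorem subsingleton_ext_of_subsingleton {X N : Type u} [AddCommGroup X] [Module R X]
    [AddCommGroup N] [Module R N] [Subsingleton N] (i : ℕ) :
    Subsingleton (Ext.{u} (ModuleCat.of R X) (ModuleCat.of R N) i) := by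
  have hz : Limits.IsZero (ModuleCat.of R N) := ModuleCat.isZero_of_subsingleton _
  refine ⟨fun a b => ?_⟩
  suffices hz' : ∀ e : Ext.{u} (ModuleCat.of R X) (ModuleCat.of R N) i, e = 0 by rw [hz' a, hz' b]
  intro e
  have : e = e.comp (Ext.mk₀ (𝟙 (ModuleCat.of R N))) (add_zero i) := by rw [Ext.comp_mk₀_id]
  rw [this, hz.eq_of_src (𝟙 _) 0, Ext.mk₀_zero, Ext.comp_zero]

theorem subsingleton_ext_pi {X N : Type u} [AddCommGroup X] [Module R X]
    [AddCommGroup N] [Module R N] (i : ℕ)
    (h : Subsingleton (Ext.{u} (ModuleCat.of R X) (ModuleCat.of R N) i)) (r : ℕ) :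
    Subsingleton (Ext.{u} (ModuleCat.of R X) (ModuleCat.of R (Fin r → N)) i) := by
  induction r with
  | zero => exact subsingleton_ext_of_subsingleton i
  | succ r ih =>
    have hex : Function.Exact (LinearMap.single R (fun _ : Fin (r + 1) => N) 0)
        (LinearMap.funLeft R N (Fin.succ : Fin r → Fin (r + 1))) := by
      intro v
      constructor
      · intro hv
        refine ⟨v 0, ?_⟩
        ext j
        refine Fin.cases ?_ (fun j' => ?_) j
        · simp
        · have := congrFun hv j'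
          simp only [LinearMap.funLeft_apply, Pi.zero_apply] at this
          simp [this]
      · rintro ⟨x, rfl⟩
        ext j
        simp [LinearMap.funLeft_apply]
    have hinj : Function.Injective (LinearMap.single R (fun _ : Fin (r + 1) => N) 0) :=
      fun a b hab => Pi.single_injective (M := fun _ : Fin (r + 1) => N) 0 hab
    have hsurj : Function.Surjective (LinearMap.funLeft R N (Fin.succ : Fin r → Fin (r + 1))) :=
      LinearMap.funLeft_surjective_of_injective R N _ (Fin.succ_injective r)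
    have hS := shortExact_of_linearMaps _ _ hinj hsurj hex
    exact ext_X₂ hS (ModuleCat.of R X) i h ih

end ext

section main

variable {A : Type u} [CommRing A] (I : Ideal A)
  (M : Type u) [AddCommGroup M] [Module A M]

/-- the `I`-adic filtration of `M` -/
abbrev Mn (n : ℕ) : Submodule A M := I ^ n • (⊤ : Submodule A M)

/-- the graded pieces -/
abbrev Gn (n : ℕ) : Type u := ↥(Mn I M n) ⧸ (I • (⊤ : Submodule A ↥(Mn I M n)))

theorem Mn_succ_le (n : ℕ) : Mn I M (n + 1) ≤ Mn I M n := by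
  rw [Mn, Mn, pow_succ', mul_smul]
  exact Submodule.smul_le_right

theorem mem_smul_top_iff (n : ℕ) (x : ↥(Mn I M n)) :
    x ∈ I • (⊤ : Submodule A ↥(Mn I M n)) ↔ (x : M) ∈ Mn I M (n + 1) := by
  have h1 : Submodule.map (Mn I M n).subtype (I • (⊤ : Submodule A ↥(Mn I M n))) =
      Mn I M (n + 1) := by
    rw [Submodule.map_smul'', Submodule.map_subtype_top, Mn, Mn, pow_succ', mul_smul]
  rw [← h1]
  constructor
  · intro hx
    exact ⟨x, hx, rfl⟩
  · rintro ⟨y, hy, hxy⟩
    have : y = x := Subtype.ext hxy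
    rwa [← this]

theorem exact_incl_mkQ (n : ℕ) :
    Function.Exact (Submodule.inclusion (Mn_succ_le I M n))
      (Submodule.mkQ (I • (⊤ : Submodule A ↥(Mn I M n)))) := by
  intro y
  rw [Submodule.mkQ_apply, Submodule.Quotient.mk_eq_zero, mem_smul_top_iff]
  constructor
  · intro hy
    exact ⟨⟨y, hy⟩, Subtype.ext rfl⟩
  · rintro ⟨x, rfl⟩
    exact x.2

theorem shortExact (n : ℕ) :
    (ModuleCat.shortComplexOfCompEqZero (Submodule.inclusion (Mn_succ_le I M n))
      (Submodule.mkQ (I • (⊤ : Submodule A ↥(Mn I M n))))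
      (exact_incl_mkQ I M n).linearMap_comp_eq_zero).ShortExact :=
  shortExact_of_linearMaps _ _ (Submodule.inclusion_injective _) (Submodule.mkQ_surjective _)
    (exact_incl_mkQ I M n)

end main

section loc

/-- vanishing of `Ext^i(k, X)` for `i < t` -/
def P (A : Type u) [CommRing A] [IsLocalRing A] (X : Type u) [AddCommGroup X] [Module A X]
    (t : ℕ) : Prop :=
  ∀ i : ℕ, i < t → Subsingleton (Ext.{u} (ModuleCat.of A (A ⧸ IsLocalRing.maximalIdeal A))
    (ModuleCat.of A X) i)

variable {A : Type u} [CommRing A] [IsNoetherianRing A] [IsLocalRing A] (I : Ideal A)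
  (M : Type u) [AddCommGroup M] [Module A M] [Module.Finite A M]

omit [IsNoetherianRing A] in
theorem ne_top_of_isNilpotent (hI : IsNilpotent I) : I ≠ ⊤ := by
  rintro rfl
  obtain ⟨N, hN⟩ := hI
  rw [Ideal.top_pow] at hN
  exact top_ne_bot hN

theorem exists_equiv (hI : IsNilpotent I) (hM : EGA4.IsNormallyFlat I M) (n : ℕ) :
    ∃ r : ℕ, Nonempty (Gn I M n ≃ₗ[A] (Fin r → A ⧸ I)) := by
  have hne : I ≠ ⊤ := ne_top_of_isNilpotent I hI
  have : Nontrivial (A ⧸ I) := Ideal.Quotient.nontrivial_iff.mpr hne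
  have hflat : Module.Flat (A ⧸ I) (Gn I M n) := hM n
  have hfin : Module.Finite (A ⧸ I) (Gn I M n) := Module.Finite.of_restrictScalars_finite A _ _
  have hfree : Module.Free (A ⧸ I) (Gn I M n) := Module.free_of_flat_of_isLocalRing
  exact ⟨_, ⟨(Module.finBasis (A ⧸ I) (Gn I M n)).equivFun.restrictScalars A⟩⟩

theorem P_Gn (hI : IsNilpotent I) (hM : EGA4.IsNormallyFlat I M) (t : ℕ) (hP : P A (A ⧸ I) t)
    (n : ℕ) : P A (Gn I M n) t := by
  obtain ⟨r, ⟨e⟩⟩ := exists_equiv I M hI hM n
  intro i hi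
  exact subsingleton_ext_of_retract (e : Gn I M n →ₗ[A] (Fin r → A ⧸ I))
    (e.symm : (Fin r → A ⧸ I) →ₗ[A] Gn I M n) (by ext x; simp) i
    (subsingleton_ext_pi i (hP i hi) r)

omit [IsNoetherianRing A] [IsLocalRing A] [Module.Finite A M] in
theorem Mn_eq_bot {N : ℕ} (hN : I ^ N = 0) (n : ℕ) (hn : N ≤ n) : Mn I M n = ⊥ := by
  have : I ^ n = ⊥ := by
    rw [← Nat.sub_add_cancel hn, pow_add, hN]
    simp
  rw [Mn, this, Submodule.bot_smul]

theorem P_Mn (hI : IsNilpotent I) (hM : EGA4.IsNormallyFlat I M) (t : ℕ) (hP : P A (A ⧸ I) t)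
    (n : ℕ) : P A (↥(Mn I M n)) t := by
  obtain ⟨N, hN⟩ := hI
  have key : ∀ d n : ℕ, N ≤ n + d → P A (↥(Mn I M n)) t := by
    intro d
    induction d with
    | zero =>
      intro n hn i _
      have : Subsingleton ↥(Mn I M n) := by
        rw [Mn_eq_bot I M hN n (by omega)]
        infer_instance
      exact subsingleton_ext_of_subsingleton i
    | succ d ih =>
      intro n hn i hi
      exact ext_X₂ (shortExact I M n) _ i (ih (n + 1) (by omega) i hi)
        (P_Gn I M ⟨N, hN⟩ hM t hP n i hi)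
  exact key N n (by omega)

omit [IsNoetherianRing A] [IsLocalRing A] [Module.Finite A M] in
theorem Mn_zero : Mn I M 0 = ⊤ := by
  rw [Mn, pow_zero, Ideal.one_eq_top, Submodule.top_smul]

/-- `M_0 ≃ M` -/
noncomputable def equivZero : ↥(Mn I M 0) ≃ₗ[A] M :=
  (LinearEquiv.ofEq _ _ (Mn_zero I M)) ≪≫ₗ Submodule.topEquiv

theorem exists_top_piece [Nontrivial M] (hI : IsNilpotent I) (hM : EGA4.IsNormallyFlat I M) :
    ∃ (n r : ℕ), Nonempty (↥(Mn I M n) ≃ₗ[A] (Fin (r + 1) → A ⧸ I)) := by
  obtain ⟨N, hN⟩ := id hI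
  have hex : ∃ n, Mn I M n = ⊥ := ⟨N, Mn_eq_bot I M hN N le_rfl⟩
  classical
  have h0 : Nat.find hex ≠ 0 := by
    intro h
    have := Nat.find_spec hex
    rw [h, Mn_zero] at this
    exact top_ne_bot this
  obtain ⟨n, hn⟩ := Nat.exists_eq_succ_of_ne_zero h0
  have hn1 : Mn I M (n + 1) = ⊥ := by
    have := Nat.find_spec hex
    rwa [hn] at this
  have hn0 : Mn I M n ≠ ⊥ := Nat.find_min hex (by omega)
  have hbot : I • (⊤ : Submodule A ↥(Mn I M n)) = ⊥ := by
    rw [eq_bot_iff]
    intro x hx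
    rw [mem_smul_top_iff, hn1, Submodule.mem_bot] at hx
    rw [Submodule.mem_bot]
    exact Subtype.ext hx
  obtain ⟨r, ⟨e⟩⟩ := exists_equiv I M hI hM n
  have e' : ↥(Mn I M n) ≃ₗ[A] (Fin r → A ⧸ I) :=
    (Submodule.quotEquivOfEqBot _ hbot).symm ≪≫ₗ e
  cases r with
  | zero =>
    exfalso
    apply hn0
    rw [eq_bot_iff]
    intro x hx
    have : (⟨x, hx⟩ : ↥(Mn I M n)) = 0 := e'.injective (Subsingleton.elim _ _)
    rw [Submodule.mem_bot]
    exact congrArg Subtype.val this
  | succ r => exact ⟨n, r, ⟨e'⟩⟩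

theorem P_self_of_P [Nontrivial M] (hI : IsNilpotent I) (hM : EGA4.IsNormallyFlat I M) (t : ℕ)
    (hP : P A M t) : P A (A ⧸ I) t := by
  induction t with
  | zero => intro i hi; omega
  | succ t ih =>
    have h1 : P A (A ⧸ I) t := ih (fun i hi => hP i (by omega))
    have h2 := P_Mn I M hI hM t h1
    have h3 := P_Gn I M hI hM t h1
    have hall : ∀ n : ℕ, Subsingleton (Ext.{u} (ModuleCat.of A (A ⧸ IsLocalRing.maximalIdeal A))
        (ModuleCat.of A ↥(Mn I M n)) t) := by
      intro n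
      induction n with
      | zero =>
        exact subsingleton_ext_of_retract ((equivZero I M : ↥(Mn I M 0) →ₗ[A] M))
          ((equivZero I M).symm : M →ₗ[A] ↥(Mn I M 0)) (by ext x; simp) t (hP t (by omega))
      | succ n ihn =>
        cases t with
        | zero => exact ext_X₁_zero (shortExact I M n) _ ihn
        | succ s => exact ext_X₁_succ (shortExact I M n) _ s (h3 n s (by omega)) ihn
    obtain ⟨n, r, ⟨e⟩⟩ := exists_top_piece I M hI hM
    have hpi : Subsingleton (Ext.{u} (ModuleCat.of A (A ⧸ IsLocalRing.maximalIdeal A))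
        (ModuleCat.of A (Fin (r + 1) → A ⧸ I)) t) :=
      subsingleton_ext_of_retract (e.symm : (Fin (r + 1) → A ⧸ I) →ₗ[A] ↥(Mn I M n))
        (e : ↥(Mn I M n) →ₗ[A] (Fin (r + 1) → A ⧸ I)) (by ext x; simp) t (hall n)
    have hself : Subsingleton (Ext.{u} (ModuleCat.of A (A ⧸ IsLocalRing.maximalIdeal A))
        (ModuleCat.of A (A ⧸ I)) t) :=
      subsingleton_ext_of_retract (LinearMap.single A (fun _ : Fin (r + 1) => A ⧸ I) 0)
        (LinearMap.proj 0) (by ext; simp) t hpi
    intro i hi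
    rcases Nat.lt_succ_iff_lt_or_eq.mp hi with h | rfl
    · exact h1 i h
    · exact hself

theorem P_of_P_self (hI : IsNilpotent I) (hM : EGA4.IsNormallyFlat I M) (t : ℕ)
    (hP : P A (A ⧸ I) t) : P A M t := by
  intro i hi
  exact subsingleton_ext_of_retract ((equivZero I M).symm : M →ₗ[A] ↥(Mn I M 0))
    ((equivZero I M : ↥(Mn I M 0) →ₗ[A] M)) (by ext x; simp) i (P_Mn I M hI hM t hP 0 i hi)

theorem depth_eq [Nontrivial M] (hI : IsNilpotent I) (hM : EGA4.IsNormallyFlat I M) :
    LocCoh.depth A M = LocCoh.depth A (A ⧸ I) := by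
  unfold LocCoh.depth
  have key : ∀ n : ℕ, (n : ℕ∞) ≤ LocCoh.idealDepth (IsLocalRing.maximalIdeal A) M ↔
      (n : ℕ∞) ≤ LocCoh.idealDepth (IsLocalRing.maximalIdeal A) (A ⧸ I) := by
    intro n
    rw [le_idealDepth_iff_ext', le_idealDepth_iff_ext']
    exact ⟨P_self_of_P I M hI hM n, P_of_P_self I M hI hM n⟩
  apply le_antisymm
  · exact ENat.forall_natCast_le_iff_le.mp fun n hn => (key n).mp hn
  · exact ENat.forall_natCast_le_iff_le.mp fun n hn => (key n).mpr hn

theorem supportDim_eq [Nontrivial M] (hI : IsNilpotent I) (hM : EGA4.IsNormallyFlat I M) :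
    Module.supportDim A M = ringKrullDim (A ⧸ I) := by
  obtain ⟨n, r, ⟨e⟩⟩ := exists_top_piece I M hI hM
  have hInil : (I : Set A) ⊆ nilradical A := by
    intro x hx
    obtain ⟨N, hN⟩ := hI
    refine ⟨N, ?_⟩
    have : x ^ N ∈ I ^ N := Ideal.pow_mem_pow hx N
    rw [hN] at this
    exact this
  have hann : (Module.annihilator A M : Set A) ⊆ I := by
    intro a ha
    have ha' : ∀ m : M, a • m = 0 := fun m => Module.mem_annihilator.mp ha m
    have h1 : a • (e.symm (fun _ => (1 : A ⧸ I))) = 0 := by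
      apply Subtype.ext
      exact ha' _
    have h2 : a • (fun _ : Fin (r + 1) => (1 : A ⧸ I)) = 0 := by
      have := congrArg e h1
      rwa [map_smul, LinearEquiv.apply_symm_apply, map_zero] at this
    have h3 := congrFun h2 0
    simp only [Pi.smul_apply, Pi.zero_apply] at h3
    rw [Algebra.smul_def, mul_one] at h3
    exact Ideal.Quotient.eq_zero_iff_mem.mp h3
  rw [Module.supportDim, ringKrullDim_quotient, Module.support_eq_zeroLocus,
    (PrimeSpectrum.zeroLocus_eq_univ_iff _).mpr hInil,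
    (PrimeSpectrum.zeroLocus_eq_univ_iff _).mpr (hann.trans hInil)]

end loc

end Groth.Agent.Lib.Helper16.NormalFlat
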