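import Mathlib
import Groth.Agent.Lib.Helper16.NormalFlat
import Groth.Agent.Lib.Helper16.DepthQuotient
import Groth.Agent.Lib.Helper18.QGor3
import Groth.Agent.Lib.Helper18.SerreNormal

/-!
# Depth of finite powers and the two-valued depth step lemma (helper16)
-/

set_option autoImplicit false
universe u

open IsLocalRing CategoryTheory

namespace Groth.Agent.Lib.Helper16.NFL

open Groth.Agent.Lib.Helper16.Depth Groth.Agent.Lib.Helper16.NormalFlat
  Groth.Agent.Lib.Helper18.CM Groth.Agent.Lib.Helper18.QGor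

section loc

variable {R : Type u} [CommRing R] [IsNoetherianRing R] [IsLocalRing R]

theorem depth_of_subsingleton (X : Type u) [AddCommGroup X] [Module R X]
    [Subsingleton X] : LocCoh.depth R X = ⊤ := by
  unfold LocCoh.depth
  exact idealDepth_eq_top_of_smul_top_eq_top _ X (Subsingleton.elim _ _)

theorem depth_pi (X : Type u) [AddCommGroup X] [Module R X] [Module.Finite R X] (r : ℕ)
    (hr : 0 < r) : LocCoh.depth R (Fin r → X) = LocCoh.depth R X := by
  unfold LocCoh.depth
  have key : ∀ n : ℕ, (n : ℕ∞) ≤ LocCoh.idealDepth (maximalIdeal R) (Fin r → X) ↔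
      (n : ℕ∞) ≤ LocCoh.idealDepth (maximalIdeal R) X := by
    intro n
    rw [le_idealDepth_iff_ext', le_idealDepth_iff_ext']
    constructor
    · intro h i hi
      exact subsingleton_ext_of_retract (LinearMap.single R (fun _ : Fin r => X) ⟨0, hr⟩)
        (LinearMap.proj (⟨0, hr⟩ : Fin r)) (by ext x; simp) i (h i hi)
    · intro h i hi
      exact subsingleton_ext_pi i (h i hi) r
  apply le_antisymm
  · exact ENat.forall_natCast_le_iff_le.mp fun n hn => (key n).mp hn
  · exact ENat.forall_natCast_le_iff_le.mp fun n hn => (key n).mpr hn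

/-- the two-valued depth predicate -/
def TwoVal (d : ℕ∞) (X : Type u) [AddCommGroup X] [Module R X] : Prop :=
  LocCoh.depth R X = d ∨ LocCoh.depth R X = ⊤

variable {X₁ X₂ X₃ : Type u} [AddCommGroup X₁] [Module R X₁] [AddCommGroup X₂] [Module R X₂]
  [AddCommGroup X₃] [Module R X₃] [Module.Finite R X₁] [Module.Finite R X₂] [Module.Finite R X₃]
  (f : X₁ →ₗ[R] X₂) (g : X₂ →ₗ[R] X₃) (hf : Function.Injective f) (hg : Function.Surjective g)
  (hfg : Function.Exact f g)

include hf hg hfg in
theorem twoVal_step (d : ℕ∞) (h1 : TwoVal (R := R) d X₁) (h3 : TwoVal (R := R) d X₃) :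
    TwoVal (R := R) d X₂ := by
  unfold TwoVal LocCoh.depth at *
  have hd1 : d ≤ LocCoh.idealDepth (maximalIdeal R) X₁ := by
    rcases h1 with h | h <;> rw [h]
    exact le_top
  have hd3 : d ≤ LocCoh.idealDepth (maximalIdeal R) X₃ := by
    rcases h3 with h | h <;> rw [h]
    exact le_top
  have hd2 : d ≤ LocCoh.idealDepth (maximalIdeal R) X₂ :=
    ENat.forall_natCast_le_iff_le.mp fun n hn =>
      le_idealDepth_X₂ _ f g hf hg hfg n (hn.trans hd1) (hn.trans hd3)
  by_cases hdtop : d = ⊤
  · right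
    rw [hdtop] at hd2
    exact top_le_iff.mp hd2
  obtain ⟨k, rfl⟩ := ENat.ne_top_iff_exists.mp hdtop
  by_contra hcon
  push_neg at hcon
  obtain ⟨hne, hnetop⟩ := hcon
  have hk1 : ((k + 1 : ℕ) : ℕ∞) ≤ LocCoh.idealDepth (maximalIdeal R) X₂ := by
    have hlt : (k : ℕ∞) < LocCoh.idealDepth (maximalIdeal R) X₂ := lt_of_le_of_ne hd2 (Ne.symm hne)
    have := Order.add_one_le_of_lt hlt
    simpa using this
  rcases h1 with h1 | h1
  · have := le_idealDepth_X₁ _ f g hf hg hfg k hk1 hd3
    rw [h1] at this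
    have h' : (k + 1 : ℕ) ≤ k := by exact_mod_cast this
    omega
  · rcases h3 with h3 | h3
    · have := le_idealDepth_X₃ _ f g hf hg hfg (k + 1) hk1 (by rw [h1]; exact le_top)
      rw [h3] at this
      have h' : (k + 1 : ℕ) ≤ k := by exact_mod_cast this
      omega
    · apply hnetop
      apply top_le_iff.mp
      exact ENat.forall_natCast_le_iff_le.mp fun n _ =>
        le_idealDepth_X₂ _ f g hf hg hfg n (by rw [h1]; exact le_top) (by rw [h3]; exact le_top)

end loc

end Groth.Agent.Lib.Helper16.NFL
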