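import Mathlib
import Groth.Agent.Lib.Helper16.NFL1

/-!
# Localized two-valued depth: exact sequences and flat modules over a quotient (helper16)
-/

set_option autoImplicit false
universe u

open IsLocalRing CategoryTheory

namespace Groth.Agent.Lib.Helper16.NFL

open Groth.Agent.Lib.Helper16.Depth Groth.Agent.Lib.Helper16.NormalFlat
  Groth.Agent.Lib.Helper18.CM Groth.Agent.Lib.Helper18.QGor Groth.Agent.Lib.Helper18.Serre

section glob

variable {A : Type u} [CommRing A] [IsNoetherianRing A]

/-- localized two-valued predicate -/
def TwoValAt (P : Ideal A) [P.IsPrime] (d : ℕ∞) (X : Type u) [AddCommGroup X] [Module A X] :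
    Prop :=
  TwoVal (R := Localization.AtPrime P) d (LocalizedModule P.primeCompl X)

variable (P : Ideal A) [P.IsPrime]

theorem twoValAt_step {X₁ X₂ X₃ : Type u} [AddCommGroup X₁] [Module A X₁] [AddCommGroup X₂]
    [Module A X₂] [AddCommGroup X₃] [Module A X₃] [Module.Finite A X₁] [Module.Finite A X₂]
    [Module.Finite A X₃] (f : X₁ →ₗ[A] X₂) (g : X₂ →ₗ[A] X₃) (hf : Function.Injective f)
    (hg : Function.Surjective g) (hfg : Function.Exact f g) (d : ℕ∞)
    (h1 : TwoValAt P d X₁) (h3 : TwoValAt P d X₃) : TwoValAt P d X₂ :=
  twoVal_step (LocalizedModule.map P.primeCompl f) (LocalizedModule.map P.primeCompl g)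
    (LocalizedModule.map_injective _ f hf) (LocalizedModule.map_surjective _ g hg)
    (LocalizedModule.map_exact P.primeCompl f g hfg) d h1 h3

theorem twoValAt_of_subsingleton (d : ℕ∞) (X : Type u) [AddCommGroup X] [Module A X]
    [Subsingleton X] : TwoValAt P d X :=
  Or.inr (depth_of_subsingleton _)

theorem depth_localizedModule_congr {X Y : Type u} [AddCommGroup X] [Module A X]
    [AddCommGroup Y] [Module A Y] (e : X ≃ₗ[A] Y) :
    LocCoh.depth (Localization.AtPrime P) (LocalizedModule P.primeCompl X) =
      LocCoh.depth (Localization.AtPrime P) (LocalizedModule P.primeCompl Y) :=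
  depth_congr (LinearEquiv.ofBijective (LocalizedModule.map P.primeCompl e.toLinearMap)
    ⟨LocalizedModule.map_injective _ _ e.injective, LocalizedModule.map_surjective _ _ e.surjective⟩)

theorem twoValAt_congr {X Y : Type u} [AddCommGroup X] [Module A X]
    [AddCommGroup Y] [Module A Y] (e : X ≃ₗ[A] Y) (d : ℕ∞) (h : TwoValAt P d X) :
    TwoValAt P d Y := by
  unfold TwoValAt TwoVal at *
  rwa [← depth_localizedModule_congr P e]

end glob

section flat

variable {A : Type u} [CommRing A] [IsNoetherianRing A] (I : Ideal A)

/-- flat finite `A/I`-modules have localized depth equal to that of `A/I`, or are zero -/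
theorem twoValAt_of_flat (Q : Ideal (A ⧸ I)) [Q.IsPrime] (G : Type u) [AddCommGroup G]
    [Module A G] [Module (A ⧸ I) G] [IsScalarTower A (A ⧸ I) G] [Module.Finite A G]
    [Module.Flat (A ⧸ I) G] :
    TwoValAt (Q.comap (algebraMap A (A ⧸ I)))
      (LocCoh.depth (Localization.AtPrime (Q.comap (algebraMap A (A ⧸ I))))
        (LocalizedModule (Q.comap (algebraMap A (A ⧸ I))).primeCompl (A ⧸ I))) G := by
  have hsurj : Function.Surjective (algebraMap A (A ⧸ I)) := Ideal.Quotient.mk_surjective
  unfold TwoValAt TwoVal
  rw [← depth_localization_comap_of_surjective hsurj G Q,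
    ← depth_localization_comap_of_surjective hsurj (A ⧸ I) Q, depth_localizedModule_self]
  haveI : Module.Finite (A ⧸ I) G := Module.Finite.of_restrictScalars_finite A _ _
  haveI : Module.Free (Localization.AtPrime Q) (LocalizedModule Q.primeCompl G) :=
    Module.free_of_flat_of_isLocalRing
  have e := (Module.finBasis (Localization.AtPrime Q) (LocalizedModule Q.primeCompl G)).equivFun
  rw [depth_congr e]
  rcases Nat.eq_zero_or_pos (Module.finrank (Localization.AtPrime Q)
    (LocalizedModule Q.primeCompl G)) with h | h
  · right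
    haveI : IsEmpty (Fin (Module.finrank (Localization.AtPrime Q)
        (LocalizedModule Q.primeCompl G))) := by rw [h]; infer_instance
    exact depth_of_subsingleton _
  · left
    exact depth_pi _ _ h

end flat

end Groth.Agent.Lib.Helper16.NFL
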