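import Mathlib
import Groth.Agent.Lib.Helper16.NFL2
import Groth.Agent.Lib.Helper18.QGor7
import Groth.Agent.Lib.Helper18.SkAt

/-!
# Normal flatness along a nilpotent ideal: depth and dimension at every prime (helper16)
-/

set_option autoImplicit false
universe u

open IsLocalRing CategoryTheory

namespace Groth.Agent.Lib.Helper16.NFL

open Groth.Agent.Lib.Helper16.Depth Groth.Agent.Lib.Helper16.NormalFlat
  Groth.Agent.Lib.Helper18.CM Groth.Agent.Lib.Helper18.QGor Groth.Agent.Lib.Helper18.Serre

section main

variable {A : Type u} [CommRing A] [IsNoetherianRing A] (I : Ideal A)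
  (M : Type u) [AddCommGroup M] [Module A M] [Module.Finite A M]

theorem twoValAt_Mn (hI : IsNilpotent I) (hM : EGA4.IsNormallyFlat I M) (Q : Ideal (A ⧸ I))
    [Q.IsPrime] (n : ℕ) :
    TwoValAt (Q.comap (algebraMap A (A ⧸ I)))
      (LocCoh.depth (Localization.AtPrime (Q.comap (algebraMap A (A ⧸ I))))
        (LocalizedModule (Q.comap (algebraMap A (A ⧸ I))).primeCompl (A ⧸ I))) ↥(Mn I M n) := by
  obtain ⟨N, hN⟩ := hI
  have key : ∀ d n : ℕ, N ≤ n + d → TwoValAt (Q.comap (algebraMap A (A ⧸ I)))
      (LocCoh.depth (Localization.AtPrime (Q.comap (algebraMap A (A ⧸ I))))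
        (LocalizedModule (Q.comap (algebraMap A (A ⧸ I))).primeCompl (A ⧸ I))) ↥(Mn I M n) := by
    intro d
    induction d with
    | zero =>
      intro n hn
      haveI : Subsingleton ↥(Mn I M n) := by
        rw [Mn_eq_bot I M hN n (by omega)]
        infer_instance
      exact twoValAt_of_subsingleton _ _ _
    | succ d ih =>
      intro n hn
      haveI : Module.Flat (A ⧸ I) (Gn I M n) := hM n
      exact twoValAt_step _ (Submodule.inclusion (Mn_succ_le I M n))
        (Submodule.mkQ (I • (⊤ : Submodule A ↥(Mn I M n))))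
        (Submodule.inclusion_injective _) (Submodule.mkQ_surjective _) (exact_incl_mkQ I M n) _
        (ih (n + 1) (by omega)) (twoValAt_of_flat I Q (Gn I M n))
  exact key N n (by omega)

theorem depth_eq_at_comap (hI : IsNilpotent I) (hM : EGA4.IsNormallyFlat I M)
    (hsupp : Module.support A M = Set.univ) (Q : Ideal (A ⧸ I)) [Q.IsPrime] :
    ∀ (P : Ideal A) [P.IsPrime], P = Q.comap (algebraMap A (A ⧸ I)) →
    LocCoh.depth (Localization.AtPrime P) (LocalizedModule P.primeCompl M) =
      LocCoh.depth (Localization.AtPrime P) (LocalizedModule P.primeCompl (A ⧸ I)) := by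
  rintro P hP rfl
  have h := twoValAt_congr _ (equivZero I M) _ (twoValAt_Mn I M hI hM Q 0)
  rcases h with h | h
  · exact h
  · exfalso
    haveI : Nontrivial (LocalizedModule (Q.comap (algebraMap A (A ⧸ I))).primeCompl M) := by
      have : (⟨Q.comap (algebraMap A (A ⧸ I)), hP⟩ : PrimeSpectrum A) ∈ Module.support A M := by
        rw [hsupp]; trivial
      exact Module.mem_support_iff.mp this
    exact depth_ne_top _ h

omit [IsNoetherianRing A] in
theorem le_of_isNilpotent (hI : IsNilpotent I) (P : Ideal A) [P.IsPrime] : I ≤ P := by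
  obtain ⟨N, hN⟩ := hI
  intro x hx
  have h : x ^ N ∈ I ^ N := Ideal.pow_mem_pow hx N
  rw [hN] at h
  have h0 : x ^ N = 0 := h
  have : x ^ N ∈ P := by rw [h0]; exact P.zero_mem
  exact Ideal.IsPrime.mem_of_pow_mem inferInstance N this

theorem depth_eq_at (hI : IsNilpotent I) (hM : EGA4.IsNormallyFlat I M)
    (hsupp : Module.support A M = Set.univ) (P : Ideal A) [P.IsPrime] :
    LocCoh.depth (Localization.AtPrime P) (LocalizedModule P.primeCompl M) =
      LocCoh.depth (Localization.AtPrime P) (LocalizedModule P.primeCompl (A ⧸ I)) := by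
  have hIP : I ≤ P := le_of_isNilpotent I hI P
  haveI hQ : (P.map (Ideal.Quotient.mk I)).IsPrime :=
    Ideal.map_isPrime_of_surjective Ideal.Quotient.mk_surjective (by rwa [Ideal.mk_ker])
  have hcomap : P = (P.map (Ideal.Quotient.mk I)).comap (algebraMap A (A ⧸ I)) := by
    change P = Ideal.comap (Ideal.Quotient.mk I) _
    rw [Ideal.comap_map_of_surjective _ Ideal.Quotient.mk_surjective, ← RingHom.ker_eq_comap_bot,
      Ideal.mk_ker, sup_eq_left.mpr hIP]
  exact depth_eq_at_comap I M hI hM hsupp (P.map (Ideal.Quotient.mk I)) P hcomap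

omit [IsNoetherianRing A] [Module.Finite A M] in
theorem support_localizedModule_eq_univ (hsupp : Module.support A M = Set.univ) (P : Ideal A)
    [P.IsPrime] :
    Module.support (Localization.AtPrime P) (LocalizedModule P.primeCompl M) = Set.univ := by
  ext Q
  rw [mem_support_localizedModule_iff, hsupp]
  simp

omit [IsNoetherianRing A] in
theorem support_quotient_eq_univ (hI : IsNilpotent I) : Module.support A (A ⧸ I) = Set.univ := by
  ext Q
  simp only [Set.mem_univ, iff_true]
  rw [Module.support_eq_zeroLocus, Ideal.annihilator_quotient]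
  exact le_of_isNilpotent I hI Q.asIdeal

omit [IsNoetherianRing A] [Module.Finite A M] in
theorem supportDim_eq_at (hI : IsNilpotent I)
    (hsupp : Module.support A M = Set.univ) (P : Ideal A) [P.IsPrime] :
    Module.supportDim (Localization.AtPrime P) (LocalizedModule P.primeCompl M) =
      Module.supportDim (Localization.AtPrime P) (LocalizedModule P.primeCompl (A ⧸ I)) := by
  rw [Module.supportDim, Module.supportDim, support_localizedModule_eq_univ M hsupp P,
    support_localizedModule_eq_univ (A ⧸ I) (support_quotient_eq_univ I hI) P]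

open Groth.Agent.Lib.Helper18.SkAt in
theorem hasSkAt_iff_quotient (hI : IsNilpotent I) (hM : EGA4.IsNormallyFlat I M)
    (hsupp : Module.support A M = Set.univ) (n : ℕ) (p : Ideal A) [p.IsPrime] :
    EGA4.HasSkAt n A M p ↔ EGA4.HasSkAt n A (A ⧸ I) p := by
  rw [hasSkAt_iff p M, hasSkAt_iff p (A ⧸ I)]
  refine forall_congr' fun P => forall_congr' fun hP => forall_congr' fun _ => ?_
  unfold SkIneq
  rw [depth_eq_at I M hI hM hsupp P, supportDim_eq_at I M hI hsupp P]

end main

end Groth.Agent.Lib.Helper16.NFL
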