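import Groth.Agent.Lib.Helper16.AusBuch
import Groth.Agent.Lib.Helper18.CM9

/-!
# Change of rings for projective dimension (helper16)

* `hasProjectiveDimensionLT_pi`: finite powers.
* `hasProjectiveDimensionLT_restrictScalars`: `pd_R E ≤ pd_R B + pd_B E` for a Noetherian local
  `R`-algebra `B` and a finite `B`-module `E`.
* `exists_nat_pd`.
* `pd_add`: over a Noetherian local ring, `pd_R E = pd_R (R/I) + pd_{R/I} E` when both are finite
  (via the Auslander–Buchsbaum formula).
-/

set_option autoImplicit false
universe u

open CategoryTheory IsLocalRing CategoryTheory.Abelian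

namespace Groth.Agent.Lib.Helper16.PDChange

open Groth.Agent.Lib.Helper16.Depth Groth.Agent.Lib.Helper16.AusBuch
open Groth.Agent.Lib.Helper18.CM

section pi

variable {R : Type u} [CommRing R]

/-- projective dimension of a finite power -/
theorem hasProjectiveDimensionLT_pi (N : Type u) [AddCommGroup N] [Module R N] (n : ℕ)
    (h : HasProjectiveDimensionLT (ModuleCat.of R N) n) (r : ℕ) :
    HasProjectiveDimensionLT (ModuleCat.of R (Fin r → N)) n := by
  induction r with
  | zero =>
    have hz : Limits.IsZero (ModuleCat.of R (Fin 0 → N)) := ModuleCat.isZero_of_subsingleton _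
    have := hz.hasProjectiveDimensionLT_zero
    exact hasProjectiveDimensionLT_of_ge _ 0 n (Nat.zero_le n)
  | succ r ih =>
    have hex : Function.Exact (LinearMap.single R (fun _ : Fin (r + 1) => N) 0)
        (LinearMap.funLeft R N (Fin.succ : Fin r → Fin (r + 1))) := by
      intro v
      constructor
      · intro hv
        refine ⟨v 0, ?_⟩
        ext j
        refine Fin.cases ?_ (fun j' => ?_) j
        · simp
        · have := congrFun hv j'
          simp only [LinearMap.funLeft_apply, Pi.zero_apply] at this
          simp [this]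
      · rintro ⟨x, rfl⟩
        ext j
        simp [LinearMap.funLeft_apply]
    have hinj : Function.Injective (LinearMap.single R (fun _ : Fin (r + 1) => N) 0) :=
      fun a b hab => Pi.single_injective (M := fun _ : Fin (r + 1) => N) 0 hab
    have hsurj : Function.Surjective (LinearMap.funLeft R N (Fin.succ : Fin r → Fin (r + 1))) :=
      LinearMap.funLeft_surjective_of_injective R N _ (Fin.succ_injective r)
    have hS := shortExact_of_linearMaps _ _ hinj hsurj hex
    exact hS.hasProjectiveDimensionLT_X₂ n h ih

end pi

section restrict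

variable {R B : Type u} [CommRing R] [CommRing B] [Algebra R B] [IsLocalRing B]
  [IsNoetherianRing B]

/-- change of rings for projective dimension: `pd_R E ≤ pd_R B + pd_B E`. -/
theorem hasProjectiveDimensionLT_restrictScalars (a : ℕ)
    (hB : HasProjectiveDimensionLT (ModuleCat.of R B) (a + 1)) (n : ℕ) :
    ∀ (E : Type u) [AddCommGroup E] [Module B E] [Module R E] [IsScalarTower R B E]
      [Module.Finite B E], HasProjectiveDimensionLT (ModuleCat.of B E) (n + 1) →
      HasProjectiveDimensionLT (ModuleCat.of R E) (n + a + 1) := by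
  induction n with
  | zero =>
    intro E _ _ _ _ _ h
    rw [zero_add, ← projective_iff_hasProjectiveDimensionLT_one, ← IsProjective.iff_projective]
      at h
    have : Module.Projective B E := h
    have : Module.Free B E := Module.free_of_flat_of_isLocalRing
    let φ : E ≃ₗ[B] (Fin (Module.finrank B E) → B) := (Module.finBasis B E).equivFun
    have h1 := hasProjectiveDimensionLT_pi B (a + 1) hB (Module.finrank B E)
    have h2 : HasProjectiveDimensionLT (ModuleCat.of R E) (a + 1) :=
      hasProjectiveDimensionLT_of_iso (φ.restrictScalars R).symm.toModuleIso (a + 1)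
    rw [zero_add]
    exact h2
  | succ n ih =>
    intro E _ _ _ _ _ h
    obtain ⟨b, π, hπ⟩ := Module.Finite.exists_fin' B E
    have hS := LinearMap.shortExact_shortComplexKer hπ
    have hproj : Projective (π.shortComplexKer).X₂ := by
      rw [← IsProjective.iff_projective]
      change Module.Projective B (Fin b → B)
      infer_instance
    have hK : HasProjectiveDimensionLT (ModuleCat.of B (LinearMap.ker π)) (n + 1) :=
      (hS.hasProjectiveDimensionLT_X₃_iff n hproj).mp h
    have hKfin : Module.Finite B (LinearMap.ker π) := inferInstance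
    have hKR := ih (LinearMap.ker π) hK
    have hFR0 := hasProjectiveDimensionLT_pi B (a + 1) hB b
    have hFR : HasProjectiveDimensionLT (ModuleCat.of R (Fin b → B)) (n + a + 1 + 1) :=
      hasProjectiveDimensionLT_of_ge _ (a + 1) _ (by omega)
    have hSR := shortExact_of_linearMaps ((LinearMap.ker π).subtype.restrictScalars R)
      (π.restrictScalars R) (LinearMap.ker π).injective_subtype hπ
      (LinearMap.exact_subtype_ker_map π)
    have := hSR.hasProjectiveDimensionLT_X₃ (n + a + 1) hKR hFR
    have e : n + 1 + a + 1 = n + a + 1 + 1 := by omega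
    rw [e]
    exact this

end restrict

section formula

theorem exists_nat_pd {C : Type (u+1)} [Category.{u} C] [Abelian C] (X : C)
    (h : projectiveDimension X ≠ ⊤) (hnz : ¬ Limits.IsZero X) :
    ∃ n : ℕ, projectiveDimension X = n := by
  generalize hd : projectiveDimension X = d at h
  induction d with
  | bot => exact absurd ((projectiveDimension_eq_bot_iff X).mp hd) hnz
  | coe d =>
    induction d with
    | top => exact absurd rfl h
    | coe d => exact ⟨d, rfl⟩

theorem pd_add (R : Type u) [CommRing R] [IsNoetherianRing R] [IsLocalRing R]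
    (I : Ideal R) (E : Type u) [AddCommGroup E] [Module (R ⧸ I) E] [Module R E]
    [IsScalarTower R (R ⧸ I) E] [Module.Finite (R ⧸ I) E] [Nontrivial E]
    (h1 : projectiveDimension (ModuleCat.of R (R ⧸ I)) ≠ ⊤)
    (h2 : projectiveDimension (ModuleCat.of (R ⧸ I) E) ≠ ⊤) :
    projectiveDimension (ModuleCat.of R E) ≠ ⊤ ∧
      projectiveDimension (ModuleCat.of R E) =
        projectiveDimension (ModuleCat.of R (R ⧸ I)) +
          projectiveDimension (ModuleCat.of (R ⧸ I) E) := by
  have hntB : Nontrivial (R ⧸ I) := by
    by_contra hcon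
    rw [not_nontrivial_iff_subsingleton] at hcon
    have : Subsingleton E := Module.subsingleton (R ⧸ I) E
    exact not_subsingleton E this
  have hlocB : IsLocalRing (R ⧸ I) :=
    IsLocalRing.of_surjective' (Ideal.Quotient.mk I) Ideal.Quotient.mk_surjective
  have hlh : IsLocalHom (algebraMap R (R ⧸ I)) :=
    IsLocalHom.of_surjective _ Ideal.Quotient.mk_surjective
  have hfinE : Module.Finite R E := Module.Finite.trans (R ⧸ I) E
  have hnzB : ¬ Limits.IsZero (ModuleCat.of R (R ⧸ I)) := fun hz =>
    not_subsingleton (R ⧸ I) (ModuleCat.subsingleton_of_isZero hz)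
  have hnzE' : ¬ Limits.IsZero (ModuleCat.of (R ⧸ I) E) := fun hz =>
    not_subsingleton E (ModuleCat.subsingleton_of_isZero hz)
  have hnzE : ¬ Limits.IsZero (ModuleCat.of R E) := fun hz =>
    not_subsingleton E (ModuleCat.subsingleton_of_isZero hz)
  obtain ⟨a, ha⟩ := exists_nat_pd _ h1 hnzB
  obtain ⟨n, hn⟩ := exists_nat_pd _ h2 hnzE'
  have haLT : HasProjectiveDimensionLT (ModuleCat.of R (R ⧸ I)) (a + 1) := by
    rw [← projectiveDimension_lt_iff, ha]; exact_mod_cast Nat.lt_succ_self a
  have hnLT : HasProjectiveDimensionLT (ModuleCat.of (R ⧸ I) E) (n + 1) := by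
    rw [← projectiveDimension_lt_iff, hn]; exact_mod_cast Nat.lt_succ_self n
  have htLT := hasProjectiveDimensionLT_restrictScalars (R := R) (B := R ⧸ I) a haLT n E hnLT
  have hfin : projectiveDimension (ModuleCat.of R E) ≠ ⊤ := by
    rw [projectiveDimension_ne_top_iff]
    exact ⟨n + a, htLT⟩
  obtain ⟨t, ht⟩ := exists_nat_pd _ hfin hnzE
  refine ⟨hfin, ?_⟩
  have ab1 := auslander_buchsbaum (R := R) E t ht
  have ab2 := auslander_buchsbaum (R := R) (R ⧸ I) a ha
  have ab3 := auslander_buchsbaum (R := R ⧸ I) E n hn
  have d1 : LocCoh.depth R (R ⧸ I) = LocCoh.depth (R ⧸ I) (R ⧸ I) :=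
    depth_eq_of_finite (A := R) (B := R ⧸ I) (R ⧸ I)
  have d2 : LocCoh.depth R E = LocCoh.depth (R ⧸ I) E :=
    depth_eq_of_finite (A := R) (B := R ⧸ I) E
  have hdE : LocCoh.depth R E ≠ ⊤ := depth_ne_top (R := R) E
  have key : (t : ℕ∞) = a + n := by
    have h3 : LocCoh.depth R E + (t : ℕ∞) = LocCoh.depth R E + (a + n : ℕ∞) := by
      rw [add_comm, ← ab1, ab2, d1, ab3, d2, ← add_assoc, add_comm]
    exact ENat.add_right_injective_of_ne_top hdE h3
  have key' : t = a + n := by exact_mod_cast key
  rw [ht, ha, hn, key']
  push_cast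
  rfl

end formula

end Groth.Agent.Lib.Helper16.PDChange
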