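import Mathlib
import Groth.Prelude.Def_LCI2

/-!
# Jacobian adjugate contraction on the naive cotangent complex of a presentation (helper16)
-/

set_option autoImplicit false
set_option linter.style.haveILetI false
set_option linter.unusedSectionVars false
universe u
open MvPolynomial Algebra TensorProduct

namespace Groth.Agent.Lib.Helper16.NLJac

variable (A : Type u) [CommRing A] (n m : ℕ) (hmn : m ≤ n) (f : Fin m → MvPolynomial (Fin n) A)

/-- the quotient algebra `A[x_1..x_n]/(f_1..f_m)` -/
abbrev BB : Type u := MvPolynomial (Fin n) A ⧸ Ideal.span (Set.range f)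

theorem aeval_eq :
    (aeval (R := A) fun i : Fin n => (Ideal.Quotient.mk (Ideal.span (Set.range f)) (X i))) =
      Ideal.Quotient.mkₐ A (Ideal.span (Set.range f)) := by
  apply MvPolynomial.algHom_ext
  intro i
  simp

/-- the tautological generators -/
noncomputable def gens : Generators A (BB A n m f) (Fin n) :=
  Generators.ofSurjective (fun i => Ideal.Quotient.mk (Ideal.span (Set.range f)) (X i)) (by
    rw [aeval_eq]
    exact Ideal.Quotient.mkₐ_surjective _ _)

theorem algebraMap_gens (p : MvPolynomial (Fin n) A) :
    algebraMap (gens A n m f).toExtension.Ring (BB A n m f) p =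
      Ideal.Quotient.mk (Ideal.span (Set.range f)) p := by
  change aeval (gens A n m f).val p = _
  change aeval (fun i : Fin n => (Ideal.Quotient.mk (Ideal.span (Set.range f)) (X i))) p = _
  rw [aeval_eq]
  rfl

theorem ker_gens : (gens A n m f).toExtension.ker = Ideal.span (Set.range f) := by
  ext p
  rw [Extension.ker, RingHom.mem_ker, algebraMap_gens, Ideal.Quotient.eq_zero_iff_mem]
  exact Iff.rfl

theorem f_mem (j : Fin m) : f j ∈ (gens A n m f).toExtension.ker := by
  rw [ker_gens]
  exact Ideal.subset_span ⟨j, rfl⟩

/-- the class of `f_j` in the conormal module -/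
noncomputable def fcl (j : Fin m) : (gens A n m f).toExtension.Cotangent :=
  Extension.Cotangent.mk ⟨f j, f_mem A n m f j⟩

/-- the Jacobian matrix of the first `m` variables -/
noncomputable def JJ : Matrix (Fin m) (Fin m) (MvPolynomial (Fin n) A) :=
  Matrix.of (fun i j : Fin m => pderiv (Fin.castLE hmn i) (f j))

/-- the image of the Jacobian determinant in the quotient -/
noncomputable def gB : BB A n m f :=
  Ideal.Quotient.mk (Ideal.span (Set.range f)) (JJ A n m hmn f).det

theorem d_mk (x : (gens A n m f).toExtension.ker) :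
    (gens A n m f).toExtension.cotangentComplex (Extension.Cotangent.mk x) =
      ∑ i, (Ideal.Quotient.mk (Ideal.span (Set.range f)) (pderiv i (x : (gens A n m f).toExtension.Ring))) •
        (gens A n m f).cotangentSpaceBasis i := by
  rw [Extension.cotangentComplex_mk]
  conv_lhs => rw [← (gens A n m f).cotangentSpaceBasis.sum_repr (1 ⊗ₜ KaehlerDifferential.D _ _ (x : (gens A n m f).toExtension.Ring))]
  refine Finset.sum_congr rfl fun i _ => ?_
  rw [Generators.cotangentSpaceBasis_repr_one_tmul]
  congr 1
  exact algebraMap_gens A n m f _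

/-- the contracting map built from the adjugate of the Jacobian matrix -/
noncomputable def hmap : (gens A n m f).toExtension.CotangentSpace →ₗ[BB A n m f]
    (gens A n m f).toExtension.Cotangent :=
  (gens A n m f).cotangentSpaceBasis.constr (BB A n m f) (fun i : Fin n =>
    if hi : (i : ℕ) < m then
      ∑ j, (Ideal.Quotient.mk (Ideal.span (Set.range f))
        ((JJ A n m hmn f).adjugate j ⟨i, hi⟩)) • fcl A n m f j
    else 0)

theorem hmap_basis_castLE (i : Fin m) :
    hmap A n m hmn f ((gens A n m f).cotangentSpaceBasis (Fin.castLE hmn i)) =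
      ∑ j, (Ideal.Quotient.mk (Ideal.span (Set.range f))
        ((JJ A n m hmn f).adjugate j i)) • fcl A n m f j := by
  unfold hmap
  rw [Module.Basis.constr_basis, dif_pos (by simp)]
  rfl

theorem hmap_basis_of_ge (i : Fin n) (hi : ¬ (i : ℕ) < m) :
    hmap A n m hmn f ((gens A n m f).cotangentSpaceBasis i) = 0 := by
  unfold hmap
  rw [Module.Basis.constr_basis, dif_neg hi]

theorem sum_castLE {M : Type*} [AddCommMonoid M] (F : Fin n → M)
    (hF : ∀ i : Fin n, ¬ (i : ℕ) < m → F i = 0) :
    ∑ i, F i = ∑ i : Fin m, F (Fin.castLE hmn i) := by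
  classical
  rw [← Finset.sum_image (f := F) (g := Fin.castLE hmn) (s := Finset.univ)
    (fun a _ b _ h => Fin.castLE_injective hmn h)]
  symm
  apply Finset.sum_subset (Finset.subset_univ _)
  intro i _ hi
  apply hF
  intro hlt
  apply hi
  rw [Finset.mem_image]
  exact ⟨⟨i, hlt⟩, Finset.mem_univ _, Fin.ext rfl⟩

theorem hmap_d_fcl (l : Fin m) :
    hmap A n m hmn f ((gens A n m f).toExtension.cotangentComplex (fcl A n m f l)) =
      gB A n m hmn f • fcl A n m f l := by
  classical
  unfold fcl
  rw [d_mk, map_sum]
  simp only [map_smul]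
  rw [sum_castLE n m hmn _ (fun i hi => by rw [hmap_basis_of_ge A n m hmn f i hi, smul_zero])]
  simp only [hmap_basis_castLE, Finset.smul_sum, smul_smul]
  rw [Finset.sum_comm]
  simp only [← Finset.sum_smul, ← map_mul, ← map_sum]
  have key : ∀ j : Fin m, ∑ i : Fin m, pderiv (Fin.castLE hmn i) (f l) *
      (JJ A n m hmn f).adjugate j i = if j = l then (JJ A n m hmn f).det else 0 := by
    intro j
    have h := congr_fun (congr_fun (Matrix.adjugate_mul (JJ A n m hmn f)) j) l
    rw [Matrix.mul_apply, Matrix.smul_apply, Matrix.one_apply, smul_eq_mul, mul_ite, mul_one,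
      mul_zero] at h
    rw [← h]
    refine Finset.sum_congr rfl fun i _ => ?_
    rw [mul_comm]
    rfl
  simp only [key]
  rw [Finset.sum_eq_single l]
  · rw [if_pos rfl]
    rfl
  · intro j _ hj
    rw [if_neg hj, map_zero]
    exact zero_smul (BB A n m f) (fcl A n m f j)
  · intro h
    exact absurd (Finset.mem_univ l) h


theorem hmap_d_mk (x : MvPolynomial (Fin n) A) (hx : x ∈ Ideal.span (Set.range f)) :
    ∀ hx' : x ∈ (gens A n m f).toExtension.ker,
      hmap A n m hmn f ((gens A n m f).toExtension.cotangentComplex
        (Extension.Cotangent.mk ⟨x, hx'⟩)) =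
      gB A n m hmn f • Extension.Cotangent.mk ⟨x, hx'⟩ := by
  induction hx using Submodule.span_induction with
  | mem x hx =>
    obtain ⟨l, rfl⟩ := hx
    intro hx'
    exact hmap_d_fcl A n m hmn f l
  | zero =>
    intro hx'
    show hmap A n m hmn f ((gens A n m f).toExtension.cotangentComplex
      (Extension.Cotangent.mk (0 : (gens A n m f).toExtension.ker))) =
      gB A n m hmn f • Extension.Cotangent.mk (0 : (gens A n m f).toExtension.ker)
    rw [map_zero, map_zero, map_zero, smul_zero]
  | add x y hx hy ihx ihy =>
    intro hx'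
    have hx1 : x ∈ (gens A n m f).toExtension.ker := by rw [ker_gens]; exact hx
    have hy1 : y ∈ (gens A n m f).toExtension.ker := by rw [ker_gens]; exact hy
    show hmap A n m hmn f ((gens A n m f).toExtension.cotangentComplex
      (Extension.Cotangent.mk ((⟨x, hx1⟩ : (gens A n m f).toExtension.ker) + ⟨y, hy1⟩))) =
      gB A n m hmn f • Extension.Cotangent.mk
        ((⟨x, hx1⟩ : (gens A n m f).toExtension.ker) + ⟨y, hy1⟩)
    rw [map_add, map_add, map_add, smul_add, ihx hx1, ihy hy1]
  | smul a x hx ih =>
    intro hx'
    have hx1 : x ∈ (gens A n m f).toExtension.ker := by rw [ker_gens]; exact hx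
    obtain ⟨a', ha'⟩ : ∃ a' : (gens A n m f).toExtension.Ring, a' = a := ⟨a, rfl⟩
    subst ha'
    show hmap A n m hmn f ((gens A n m f).toExtension.cotangentComplex
      (Extension.Cotangent.mk (a' • (⟨x, hx1⟩ : (gens A n m f).toExtension.ker)))) =
      gB A n m hmn f • Extension.Cotangent.mk (a' •
        (⟨x, hx1⟩ : (gens A n m f).toExtension.ker))
    rw [map_smul, ← algebraMap_smul (BB A n m f) a'
      (Extension.Cotangent.mk (⟨x, hx1⟩ : (gens A n m f).toExtension.ker)), map_smul, map_smul,
      ih hx1, smul_comm]

theorem hmap_d (z : (gens A n m f).toExtension.Cotangent) :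
    hmap A n m hmn f ((gens A n m f).toExtension.cotangentComplex z) = gB A n m hmn f • z := by
  obtain ⟨⟨x, hx⟩, rfl⟩ := Extension.Cotangent.mk_surjective z
  exact hmap_d_mk A n m hmn f x (by rw [← ker_gens]; exact hx) hx


theorem sum_sum_smul_eq {S W ι : Type*} [Fintype ι] [DecidableEq ι] [CommRing S] [AddCommGroup W]
    [Module S W] (b : ι → W) (c : ι → ι → S) (g : S) (k : ι)
    (hc : ∀ i, ∑ j, c j i = if i = k then g else 0) :
    ∑ j, ∑ i, c j i • b i = g • b k := by
  rw [Finset.sum_comm]
  simp only [← Finset.sum_smul, hc, ite_smul, zero_smul]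
  simp

theorem d_hmap (f' : Fin m → MvPolynomial (Fin m) A) (hmm : m ≤ m)
    (v : (gens A m m f').toExtension.CotangentSpace) :
    (gens A m m f').toExtension.cotangentComplex (hmap A m m hmm f' v) = gB A m m hmm f' • v := by
  classical
  have hlin : (gens A m m f').toExtension.cotangentComplex ∘ₗ hmap A m m hmm f' =
      gB A m m hmm f' • LinearMap.id := by
    apply (gens A m m f').cotangentSpaceBasis.ext
    intro k
    have hk : k = Fin.castLE hmm k := Fin.ext rfl
    rw [LinearMap.comp_apply, LinearMap.smul_apply, LinearMap.id_apply]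
    conv_lhs => rw [hk, hmap_basis_castLE, map_sum]
    simp only [map_smul]
    unfold fcl
    simp only [d_mk, Finset.smul_sum]
    have e1 : ∀ (a b : BB A m m f') (w : (gens A m m f').toExtension.CotangentSpace),
        a • b • w = (a * b) • w := fun a b w => smul_smul a b w
    simp only [e1]
    have key : ∀ i : Fin m, ∑ j : Fin m, (JJ A m m hmm f').adjugate j k * pderiv i (f' j) =
        if i = k then (JJ A m m hmm f').det else 0 := by
      intro i
      have h := congr_fun (congr_fun (Matrix.mul_adjugate (JJ A m m hmm f')) i) k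
      rw [Matrix.mul_apply, Matrix.smul_apply, Matrix.one_apply, smul_eq_mul, mul_ite, mul_one,
        mul_zero] at h
      rw [← h]
      refine Finset.sum_congr rfl fun j _ => ?_
      rw [mul_comm]
      have hi : Fin.castLE hmm i = i := Fin.ext rfl
      unfold JJ
      rw [Matrix.of_apply, hi]
    refine sum_sum_smul_eq (S := BB A m m f') (gens A m m f').cotangentSpaceBasis
      (fun j i => (Ideal.Quotient.mk (Ideal.span (Set.range f'))) ((JJ A m m hmm f').adjugate j k) *
          (Ideal.Quotient.mk (Ideal.span (Set.range f'))) ((pderiv i) (f' j)))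
      (gB A m m hmm f') k ?_
    intro i
    simp only [← map_mul, ← map_sum, key i]
    split_ifs
    · rfl
    · exact map_zero _
  have := congrArg (fun L => L v) hlin
  simpa using this

end Groth.Agent.Lib.Helper16.NLJac
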