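import Mathlib
import Groth.Prelude.Def_LCI2
import Groth.Agent.Lib.Helper16.NLInv
import Groth.Agent.Lib.Helper16.NLJac1

/-!
# The Jacobian determinant annihilates Ext^1(NL, N) (helper16)
-/

set_option autoImplicit false
set_option linter.style.haveILetI false
set_option linter.unusedSectionVars false
universe u
open CategoryTheory CategoryTheory.Limits HomologicalComplex Algebra

attribute [local instance] HasDerivedCategory.standard

namespace Groth.Agent.Lib.Helper16.NLJac

open Groth.Agent.Lib.Helper16.NLInv Groth.Agent.Lib.Helper16.DoubleHtpy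

section Vanish

variable {B : Type u} [CommRing B]

/-- no nonzero maps in `D(B)` from a projective module in degree `0` to a module shifted by one -/
theorem eq_zero_of_projective (P : ModuleCat.{u} B) [Projective P] (N : Type u) [AddCommGroup N]
    [Module B N]
    (α : DerivedCategory.Q.obj ((HomologicalComplex.single (ModuleCat.{u} B) (ComplexShape.up ℤ) 0).obj P) ⟶
      (Dual.inD B N)⟦(1 : ℤ)⟧) : α = 0 := by
  let j : (Dual.inD B N)⟦(1 : ℤ)⟧ ≅
      DerivedCategory.Q.obj ((CochainComplex.singleFunctor (ModuleCat.{u} B) (-1)).obj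
        (ModuleCat.of B N)) :=
    ((DerivedCategory.singleFunctors (ModuleCat.{u} B)).shiftIso 1 (-1) 0 (by norm_num)).app
      (ModuleCat.of B N) ≪≫
      (DerivedCategory.singleFunctorIsoCompQ (ModuleCat.{u} B) (-1)).app (ModuleCat.of B N)
  have h0 : α ≫ j.hom = 0 :=
    DerivedCategory.from_singleFunctor_obj_eq_zero_of_projective (P := P) (i := 0)
      (L := (CochainComplex.singleFunctor (ModuleCat.{u} B) (-1)).obj (ModuleCat.of B N))
      (α ≫ j.hom) (-1) (by norm_num)
  rw [← cancel_mono j.hom, h0, zero_comp]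

end Vanish


section Chain

variable {B : Type u} [CommRing B] {X₀ X₁ : ModuleCat.{u} B} (d : X₀ ⟶ X₁) (h : X₁ ⟶ X₀) (g : B)

/-- if `h ∘ d = g` and `d ∘ h = g` then multiplication by `g` on the two-term complex is
null-homotopic -/
noncomputable def homotopyZero (h₀ : d ≫ h = g • 𝟙 X₀) (h₁ : h ≫ d = g • 𝟙 X₁) :
    Homotopy (g • 𝟙 (double d rel)) 0 :=
  doubleHomotopy rel ne d d _ _ h
    (by
      rw [HomologicalComplex.smul_f_apply, HomologicalComplex.id_f, HomologicalComplex.zero_f,
        add_zero, ← Category.assoc d h, h₀]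
      simp)
    (by
      rw [HomologicalComplex.smul_f_apply, HomologicalComplex.id_f, HomologicalComplex.zero_f,
        add_zero, ← Category.assoc h d, h₁]
      simp)

/-- the inclusion of the degree-zero term -/
noncomputable def incl : (single (ModuleCat.{u} B) (ComplexShape.up ℤ) 0).obj X₁ ⟶ double d rel :=
  mkHomFromSingle (doubleXIso₁ d rel ne).inv (by
    intro k hk
    have hk' : (0 : ℤ) + 1 = k := hk
    have hz : IsZero ((double d rel).X k) :=
      isZero_double_X d rel k (by omega) (by omega)
    exact hz.eq_of_tgt _ _)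

/-- the degree-zero component `g - d ∘ h` as a map to the degree-zero term -/
noncomputable def retr (h₀ : d ≫ h = g • 𝟙 X₀) :
    double d rel ⟶ (single (ModuleCat.{u} B) (ComplexShape.up ℤ) 0).obj X₁ :=
  mkHomToSingle ((doubleXIso₁ d rel ne).hom ≫ (g • 𝟙 X₁ - h ≫ d)) (by
    intro i hi
    have hi' : i + 1 = (0 : ℤ) := hi
    obtain rfl : i = -1 := by omega
    rw [double_d d rel ne, Category.assoc, Category.assoc, Iso.inv_hom_id_assoc,
      Preadditive.comp_sub, ← Category.assoc d h d, h₀]
    simp)

/-- if `h ∘ d = g` then multiplication by `g` on the two-term complex factors, up to homotopy,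
through the degree-zero term -/
noncomputable def homotopyFactor (h₀ : d ≫ h = g • 𝟙 X₀) :
    Homotopy (g • 𝟙 (double d rel)) (retr d h g h₀ ≫ incl d) :=
  doubleHomotopy rel ne d d _ _ h
    (by
      have hz : (retr d h g h₀ ≫ incl d).f (-1) = 0 := by
        rw [HomologicalComplex.comp_f]
        have hz' : IsZero (((single (ModuleCat.{u} B) (ComplexShape.up ℤ) 0).obj X₁).X (-1)) :=
          isZero_single_obj_X (ComplexShape.up ℤ) 0 X₁ (-1) (by norm_num)
        rw [hz'.eq_of_tgt ((retr d h g h₀).f (-1)) 0, zero_comp]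
      rw [hz, HomologicalComplex.smul_f_apply, HomologicalComplex.id_f,
        add_zero, ← Category.assoc d h, h₀]
      simp)
    (by
      have hf : (retr d h g h₀ ≫ incl d).f 0 =
          (doubleXIso₁ d rel ne).hom ≫ (g • 𝟙 X₁ - h ≫ d) ≫ (doubleXIso₁ d rel ne).inv := by
        rw [HomologicalComplex.comp_f]
        unfold retr incl
        rw [mkHomToSingle_f, mkHomFromSingle_f]
        simp
      rw [hf, HomologicalComplex.smul_f_apply, HomologicalComplex.id_f]
      simp)

end Chain


section Main

open MvPolynomial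

variable (A : Type u) [CommRing A] (n m : ℕ) (hmn : m ≤ n) (f : Fin m → MvPolynomial (Fin n) A)

/-- the comparison of `NL` with the two-term complex of the given presentation -/
noncomputable def nlIso :
    LCI.NL A (BB A n m f) ≅ DRing.toD (NLd (gens A n m f).toExtension) :=
  NLdIso (Extension.defaultHom (P := (gens A n m f).toExtension))
    ((gens A n m f).defaultHom (Generators.self A (BB A n m f))).toExtensionHom

instance projective_cotangentSpace :
    Projective (ModuleCat.of (BB A n m f) (gens A n m f).toExtension.CotangentSpace) := by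
  haveI : Module.Free (BB A n m f) (gens A n m f).toExtension.CotangentSpace :=
    Module.Free.of_basis (gens A n m f).cotangentSpaceBasis
  exact (IsProjective.iff_projective _).mp inferInstance

theorem dC_hC :
    ModuleCat.ofHom (gens A n m f).toExtension.cotangentComplex ≫
      ModuleCat.ofHom (hmap A n m hmn f) =
    gB A n m hmn f • 𝟙 (ModuleCat.of (BB A n m f) (gens A n m f).toExtension.Cotangent) := by
  ext x
  exact hmap_d A n m hmn f x

theorem hC_dC (f' : Fin m → MvPolynomial (Fin m) A) (hmm : m ≤ m) :
    ModuleCat.ofHom (hmap A m m hmm f') ≫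
      ModuleCat.ofHom (gens A m m f').toExtension.cotangentComplex =
    gB A m m hmm f' •
      𝟙 (ModuleCat.of (BB A m m f') (gens A m m f').toExtension.CotangentSpace) := by
  apply ModuleCat.hom_ext
  apply LinearMap.ext
  intro x
  exact d_hmap A m f' hmm x

theorem part1 (N : Type u) [AddCommGroup N] [Module (BB A n m f) N]
    (φ : LCI.NL A (BB A n m f) ⟶ (Dual.inD (BB A n m f) N)⟦(1 : ℤ)⟧) :
    gB A n m hmn f • φ = 0 := by
  have h1 : gB A n m hmn f • φ =
      (nlIso A n m f).hom ≫ (gB A n m hmn f • 𝟙 _) ≫ ((nlIso A n m f).inv ≫ φ) := by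
    rw [Linear.smul_comp, Linear.comp_smul, Category.id_comp, Iso.hom_inv_id_assoc]
  have h2 : gB A n m hmn f • 𝟙 (DRing.toD (NLd (gens A n m f).toExtension)) =
      DerivedCategory.Q.map (gB A n m hmn f • 𝟙 (NLd (gens A n m f).toExtension)) := by
    have := Functor.map_smul (R := BB A n m f) (DerivedCategory.Q (C := ModuleCat.{u} (BB A n m f)))
      (gB A n m hmn f) (𝟙 (NLd (gens A n m f).toExtension))
    rw [this, CategoryTheory.Functor.map_id]
  have h3 := DerivedCategory.Q_map_eq_of_homotopy _
    (homotopyFactor (ModuleCat.ofHom (gens A n m f).toExtension.cotangentComplex)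
      (ModuleCat.ofHom (hmap A n m hmn f)) (gB A n m hmn f) (dC_hC A n m hmn f))
  rw [h1, h2]
  change _ ≫ DerivedCategory.Q.map (gB A n m hmn f • 𝟙 (double
    (ModuleCat.ofHom (gens A n m f).toExtension.cotangentComplex) rel)) ≫ _ = 0
  rw [h3, Functor.map_comp, Category.assoc,
    eq_zero_of_projective (ModuleCat.of (BB A n m f) (gens A n m f).toExtension.CotangentSpace) N
      (DerivedCategory.Q.map (incl (ModuleCat.ofHom
        (gens A n m f).toExtension.cotangentComplex)) ≫ (nlIso A n m f).inv ≫ φ),
    comp_zero, comp_zero]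

theorem part2 (f' : Fin m → MvPolynomial (Fin m) A) (hmm : m ≤ m) :
    gB A m m hmm f' • 𝟙 (LCI.NL A (BB A m m f')) = 0 := by
  have h1 : gB A m m hmm f' • 𝟙 (LCI.NL A (BB A m m f')) =
      (nlIso A m m f').hom ≫ (gB A m m hmm f' • 𝟙 _) ≫ (nlIso A m m f').inv := by
    rw [Linear.smul_comp, Linear.comp_smul, Category.id_comp, Iso.hom_inv_id]
  have h2 : gB A m m hmm f' • 𝟙 (DRing.toD (NLd (gens A m m f').toExtension)) =
      DerivedCategory.Q.map (gB A m m hmm f' • 𝟙 (NLd (gens A m m f').toExtension)) := by
    have := Functor.map_smul (R := BB A m m f') (DerivedCategory.Q (C := ModuleCat.{u} (BB A m m f')))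
      (gB A m m hmm f') (𝟙 (NLd (gens A m m f').toExtension))
    rw [this, CategoryTheory.Functor.map_id]
  have h3 := DerivedCategory.Q_map_eq_of_homotopy _
    (homotopyZero (ModuleCat.ofHom (gens A m m f').toExtension.cotangentComplex)
      (ModuleCat.ofHom (hmap A m m hmm f')) (gB A m m hmm f') (dC_hC A m m hmm f')
      (hC_dC A m f' hmm))
  rw [h1, h2]
  change _ ≫ DerivedCategory.Q.map (gB A m m hmm f' • 𝟙 (double
    (ModuleCat.ofHom (gens A m m f').toExtension.cotangentComplex) rel)) ≫ _ = 0
  rw [h3, Functor.map_zero, zero_comp, comp_zero]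

end Main

end Groth.Agent.Lib.Helper16.NLJac
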