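import Mathlib
import Groth.Prelude.Def_Models
import Groth.Agent.S2173

/-!
# Numerical types: contraction of a (-1)-index, basic arithmetic
-/

set_option autoImplicit false

namespace Groth.Agent.Lib.Helper16.NT

open Models Finset

variable {n : ℕ} (T : NumericalType (n + 1))

/-- `α_i = a_{il} / w_l`. -/
def alpha (i : Fin n) : ℤ := T.a i.castSucc (Fin.last n) / T.w (Fin.last n)

/-- `u_i = a_{il} / w_i`. -/
def uu (i : Fin n) : ℤ := T.a i.castSucc (Fin.last n) / T.w i.castSucc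

theorem cs_ne_last (i : Fin n) : i.castSucc ≠ Fin.last n := (Fin.castSucc_lt_last i).ne

theorem a_symm (i j : Fin (n + 1)) : T.a i j = T.a j i := (T.symm.apply i j).symm

theorem a_cl_nonneg (i : Fin n) : 0 ≤ T.a i.castSucc (Fin.last n) :=
  T.offDiag_nonneg _ _ (cs_ne_last i)

theorem wl_dvd (i : Fin n) : T.w (Fin.last n) ∣ T.a i.castSucc (Fin.last n) := by
  rw [a_symm]; exact T.w_dvd _ _

theorem a_cl_eq (i : Fin n) : T.a i.castSucc (Fin.last n) = T.w (Fin.last n) * alpha T i :=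
  (Int.mul_ediv_cancel' (wl_dvd T i)).symm

theorem a_cl_eq' (i : Fin n) : T.a i.castSucc (Fin.last n) = T.w i.castSucc * uu T i :=
  (Int.mul_ediv_cancel' (T.w_dvd _ _)).symm

theorem alpha_nonneg (i : Fin n) : 0 ≤ alpha T i :=
  Int.ediv_nonneg (a_cl_nonneg T i) (T.w_pos _).le

theorem uu_nonneg (i : Fin n) : 0 ≤ uu T i :=
  Int.ediv_nonneg (a_cl_nonneg T i) (T.w_pos _).le

variable {T}

/-- the contracted matrix entry. -/
theorem contr_a (h : T.IsMinusOne (Fin.last n)) (i j : Fin n) :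
    T.a i.castSucc j.castSucc -
      T.a i.castSucc (Fin.last n) * T.a j.castSucc (Fin.last n) / T.a (Fin.last n) (Fin.last n) =
    T.a i.castSucc j.castSucc + alpha T i * T.a j.castSucc (Fin.last n) := by
  rw [h.2, Int.ediv_neg, sub_neg_eq_add]
  congr 1
  rw [a_cl_eq T i, mul_assoc, Int.mul_ediv_cancel_left _ (T.w_pos _).ne']

/-- the row relation at the last index. -/
theorem row_last (h : T.IsMinusOne (Fin.last n)) :
    ∑ i : Fin n, T.a i.castSucc (Fin.last n) * T.m i.castSucc = T.w (Fin.last n) * T.m (Fin.last n) := by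
  have := congrFun T.mulVec_m (Fin.last n)
  simp only [Matrix.mulVec, dotProduct, Pi.zero_apply] at this
  rw [Fin.sum_univ_castSucc, h.2] at this
  have h2 : ∑ i : Fin n, T.a i.castSucc (Fin.last n) * T.m i.castSucc =
      ∑ i : Fin n, T.a (Fin.last n) i.castSucc * T.m i.castSucc :=
    Finset.sum_congr rfl fun i _ => by rw [a_symm]
  rw [h2]
  linarith

/-- the row relation at another index. -/
theorem row_cs (i : Fin n) :
    ∑ j : Fin n, T.a i.castSucc j.castSucc * T.m j.castSucc =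
      - T.a i.castSucc (Fin.last n) * T.m (Fin.last n) := by
  have := congrFun T.mulVec_m i.castSucc
  simp only [Matrix.mulVec, dotProduct, Pi.zero_apply] at this
  rw [Fin.sum_univ_castSucc] at this
  linarith

/-- case distinction for the new weight. -/
theorem w_cases (i : Fin n) (w' : ℤ)
    (hw : w' = if 2 ∣ T.a i.castSucc (Fin.last n) / T.w (Fin.last n) ∧
          ¬ 2 ∣ T.a i.castSucc (Fin.last n) / T.w i.castSucc
      then T.w i.castSucc / 2 else T.w i.castSucc) :
    (w' = T.w i.castSucc ∧ (¬ 2 ∣ alpha T i ∨ 2 ∣ uu T i)) ∨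
    (2 * w' = T.w i.castSucc ∧ 2 ∣ alpha T i ∧ ¬ 2 ∣ uu T i) := by
  by_cases hc : 2 ∣ T.a i.castSucc (Fin.last n) / T.w (Fin.last n) ∧
          ¬ 2 ∣ T.a i.castSucc (Fin.last n) / T.w i.castSucc
  · rw [if_pos hc] at hw
    right
    refine ⟨?_, hc.1, hc.2⟩
    -- 2 ∣ w_i
    obtain ⟨v, hv⟩ := hc.1
    have h1 : T.w i.castSucc * uu T i = T.w (Fin.last n) * (2 * v) := by
      rw [← a_cl_eq', a_cl_eq]; unfold alpha; rw [hv]
    have h2 : (2 : ℤ) ∣ T.w i.castSucc * uu T i := ⟨T.w (Fin.last n) * v, by rw [h1]; ring⟩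
    have h3 : (2 : ℤ) ∣ T.w i.castSucc :=
      (Int.Prime.dvd_mul' Nat.prime_two h2).resolve_right (by
        intro h; exact hc.2 (by exact_mod_cast h))
    rw [hw]
    exact Int.mul_ediv_cancel' h3
  · rw [if_neg hc] at hw
    left
    refine ⟨hw, ?_⟩
    by_contra hcon
    push Not at hcon
    exact hc ⟨hcon.1, hcon.2⟩

/-- exactness of the division in the genus formula. -/
theorem exact_q (i : Fin n) (w' : ℤ)
    (hcase : (w' = T.w i.castSucc ∧ (¬ 2 ∣ alpha T i ∨ 2 ∣ uu T i)) ∨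
      (2 * w' = T.w i.castSucc ∧ 2 ∣ alpha T i ∧ ¬ 2 ∣ uu T i)) :
    2 * w' * T.w (Fin.last n) ∣
      T.a i.castSucc (Fin.last n) ^ 2 - T.w (Fin.last n) * T.a i.castSucc (Fin.last n) := by
  have e1 := a_cl_eq T i
  have e2 := a_cl_eq' T i
  have key : T.a i.castSucc (Fin.last n) ^ 2 - T.w (Fin.last n) * T.a i.castSucc (Fin.last n) =
      T.w (Fin.last n) * (T.w i.castSucc * uu T i) * (alpha T i - 1) := by
    rw [← e2]
    have : T.a i.castSucc (Fin.last n) ^ 2 =
        T.a i.castSucc (Fin.last n) * (T.w (Fin.last n) * alpha T i) := by rw [← e1]; ring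
    rw [this]; ring
  rw [key]
  rcases hcase with ⟨hw, hodd | heven⟩ | ⟨hw, _, _⟩
  · -- α odd
    have : (2 : ℤ) ∣ alpha T i - 1 := by
      have := Int.emod_two_eq_zero_or_one (alpha T i)
      rcases this with h0 | h1
      · exact absurd (Int.dvd_of_emod_eq_zero h0) hodd
      · exact Int.dvd_of_emod_eq_zero (by omega)
    obtain ⟨β, hβ⟩ := this
    rw [hβ, hw]
    exact ⟨uu T i * β, by ring⟩
  · obtain ⟨v, hv⟩ := heven
    rw [hv, hw]
    exact ⟨v * (alpha T i - 1), by ring⟩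
  · rw [← hw]
    exact ⟨uu T i * (alpha T i - 1), by ring⟩

end Groth.Agent.Lib.Helper16.NT
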