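import Mathlib
import Groth.Agent.Lib.Helper16.NT1

/-!
# Numerical types: a contraction has the same genus
-/

set_option autoImplicit false

namespace Groth.Agent.Lib.Helper16.NT

open Models Finset

variable {n : ℕ} {T : NumericalType (n + 1)}

section contr
variable (h : T.IsMinusOne (Fin.last n)) {T' : NumericalType n} (hc : T.IsContraction T')

include h hc

theorem c_m (i : Fin n) : T'.m i = T.m i.castSucc := hc.1 i

theorem c_a (i j : Fin n) :
    T'.a i j = T.a i.castSucc j.castSucc + alpha T i * T.a j.castSucc (Fin.last n) := by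
  rw [hc.2.1 i j, contr_a h]

theorem c_w_cases (i : Fin n) :
    (T'.w i = T.w i.castSucc ∧ (¬ 2 ∣ alpha T i ∨ 2 ∣ uu T i)) ∨
    (2 * T'.w i = T.w i.castSucc ∧ 2 ∣ alpha T i ∧ ¬ 2 ∣ uu T i) :=
  w_cases i (T'.w i) (hc.2.2.1 i)

/-- `2 w_l w'_i (g'_i - 1) = 2 w_l w_i (g_i - 1) + a_il^2 - w_l a_il`. -/
theorem c_wg (i : Fin n) :
    2 * T.w (Fin.last n) * (T'.w i * (T'.g i - 1)) =
      2 * T.w (Fin.last n) * (T.w i.castSucc * (T.g i.castSucc - 1)) +
        (T.a i.castSucc (Fin.last n) ^ 2 - T.w (Fin.last n) * T.a i.castSucc (Fin.last n)) := by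
  have hcase := c_w_cases h hc i
  obtain ⟨q, hq⟩ := exact_q i (T'.w i) hcase
  have hpos : (2 * T'.w i * T.w (Fin.last n)) ≠ 0 :=
    mul_ne_zero (mul_ne_zero two_ne_zero (T'.w_pos i).ne') (T.w_pos _).ne'
  have hg := hc.2.2.2 i
  rw [hq, Int.mul_ediv_cancel_left _ hpos] at hg
  have hk : T.w i.castSucc / T'.w i * T'.w i = T.w i.castSucc := by
    rcases hcase with ⟨hw, _⟩ | ⟨hw, _⟩
    · rw [hw, Int.ediv_self (T.w_pos _).ne', one_mul]
    · rw [← hw, Int.mul_ediv_cancel _ (T'.w_pos i).ne']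
  rw [hq, hg]
  have : T'.w i * (T.w i.castSucc / T'.w i * (T.g i.castSucc - 1) + 1 + q - 1) =
      (T.w i.castSucc / T'.w i * T'.w i) * (T.g i.castSucc - 1) + T'.w i * q := by ring
  rw [this, hk]
  ring

theorem genus_eq : T'.genus = T.genus := by
  have hT := Groth.Agent.S2173.result T
  have hT' := Groth.Agent.S2173.result T'
  have hwl := T.w_pos (Fin.last n)
  have e1 : 2 * T.genus = 2 + 2 * (∑ i, T.m i * T.w i * (T.g i - 1)) - ∑ i, T.m i * T.a i i := by
    unfold NumericalType.genus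
    have := Int.mul_ediv_cancel' hT
    linarith
  have e2 : 2 * T'.genus = 2 + 2 * (∑ i, T'.m i * T'.w i * (T'.g i - 1)) - ∑ i, T'.m i * T'.a i i := by
    unfold NumericalType.genus
    have := Int.mul_ediv_cancel' hT'
    linarith
  rw [Fin.sum_univ_castSucc, Fin.sum_univ_castSucc, h.1, h.2] at e1
  -- multiply by w_l
  have s1 : T.w (Fin.last n) * (2 * ∑ i : Fin n, T'.m i * T'.w i * (T'.g i - 1)) =
      T.w (Fin.last n) * (2 * ∑ i : Fin n, T.m i.castSucc * T.w i.castSucc * (T.g i.castSucc - 1)) +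
      ∑ i : Fin n, T.m i.castSucc *
        (T.a i.castSucc (Fin.last n) ^ 2 - T.w (Fin.last n) * T.a i.castSucc (Fin.last n)) := by
    rw [Finset.mul_sum, Finset.mul_sum, Finset.mul_sum, Finset.mul_sum, ← Finset.sum_add_distrib]
    refine Finset.sum_congr rfl fun i _ => ?_
    have := c_wg h hc i
    rw [c_m h hc]
    linear_combination T.m i.castSucc * this
  have s2 : T.w (Fin.last n) * ∑ i : Fin n, T'.m i * T'.a i i =
      T.w (Fin.last n) * ∑ i : Fin n, T.m i.castSucc * T.a i.castSucc i.castSucc +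
      ∑ i : Fin n, T.m i.castSucc * T.a i.castSucc (Fin.last n) ^ 2 := by
    rw [Finset.mul_sum, Finset.mul_sum, ← Finset.sum_add_distrib]
    refine Finset.sum_congr rfl fun i _ => ?_
    rw [c_m h hc, c_a h hc]
    have := a_cl_eq T i
    linear_combination (-(T.m i.castSucc * T.a i.castSucc (Fin.last n))) * this
  have s3 := row_last h
  have s3' : ∑ i : Fin n, T.m i.castSucc * (T.w (Fin.last n) * T.a i.castSucc (Fin.last n)) =
      T.w (Fin.last n) * (T.w (Fin.last n) * T.m (Fin.last n)) := by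
    rw [← s3, Finset.mul_sum]
    refine Finset.sum_congr rfl fun i _ => by ring
  have s4 : ∑ i : Fin n, T.m i.castSucc *
        (T.a i.castSucc (Fin.last n) ^ 2 - T.w (Fin.last n) * T.a i.castSucc (Fin.last n)) =
      ∑ i : Fin n, T.m i.castSucc * T.a i.castSucc (Fin.last n) ^ 2 -
        ∑ i : Fin n, T.m i.castSucc * (T.w (Fin.last n) * T.a i.castSucc (Fin.last n)) := by
    rw [← Finset.sum_sub_distrib]
    refine Finset.sum_congr rfl fun i _ => by ring
  have key : T.w (Fin.last n) * (2 * T'.genus) = T.w (Fin.last n) * (2 * T.genus) := by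
    rw [e1, e2, mul_sub, mul_add, s1, s2, s4, s3']
    ring
  have := mul_left_cancel₀ hwl.ne' key
  linarith

end contr

end Groth.Agent.Lib.Helper16.NT
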