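import Mathlib
import Groth.Agent.Lib.Helper16.NT2

/-!
# Numerical types: contracted data
-/

set_option autoImplicit false

namespace Groth.Agent.Lib.Helper16.NT

open Models Finset

variable {n : ℕ} (T : NumericalType (n + 1))

/-- new weights. -/
def w' (i : Fin n) : ℤ :=
  if 2 ∣ T.a i.castSucc (Fin.last n) / T.w (Fin.last n) ∧
      ¬ 2 ∣ T.a i.castSucc (Fin.last n) / T.w i.castSucc
  then T.w i.castSucc / 2 else T.w i.castSucc

/-- new matrix. -/
def a' : Matrix (Fin n) (Fin n) ℤ := fun i j =>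
  T.a i.castSucc j.castSucc -
    T.a i.castSucc (Fin.last n) * T.a j.castSucc (Fin.last n) / T.a (Fin.last n) (Fin.last n)

/-- new genera. -/
def g' (i : Fin n) : ℤ :=
  T.w i.castSucc / w' T i * (T.g i.castSucc - 1) + 1 +
    (T.a i.castSucc (Fin.last n) ^ 2 - T.w (Fin.last n) * T.a i.castSucc (Fin.last n)) /
      (2 * w' T i * T.w (Fin.last n))

variable {T}

theorem w'_cases (i : Fin n) :
    (w' T i = T.w i.castSucc ∧ (¬ 2 ∣ alpha T i ∨ 2 ∣ uu T i)) ∨
    (2 * w' T i = T.w i.castSucc ∧ 2 ∣ alpha T i ∧ ¬ 2 ∣ uu T i) :=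
  w_cases i (w' T i) rfl

theorem w'_pos (i : Fin n) : 0 < w' T i := by
  have := T.w_pos i.castSucc
  rcases w'_cases (T := T) i with ⟨hw, _⟩ | ⟨hw, _⟩ <;> omega

theorem w'_dvd_w (i : Fin n) : w' T i ∣ T.w i.castSucc := by
  rcases w'_cases (T := T) i with ⟨hw, _⟩ | ⟨hw, _⟩
  · rw [hw]
  · exact ⟨2, by rw [← hw]; ring⟩

theorem a'_eq (h : T.IsMinusOne (Fin.last n)) (i j : Fin n) :
    a' T i j = T.a i.castSucc j.castSucc + alpha T i * T.a j.castSucc (Fin.last n) :=
  contr_a h i j

theorem a'_ge (h : T.IsMinusOne (Fin.last n)) (i j : Fin n) :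
    T.a i.castSucc j.castSucc ≤ a' T i j := by
  rw [a'_eq h]
  have := mul_nonneg (alpha_nonneg T i) (a_cl_nonneg T j)
  linarith

theorem g'_nonneg (i : Fin n) : 0 ≤ g' T i := by
  have hcase := w'_cases (T := T) i
  obtain ⟨q, hq⟩ := exact_q i (w' T i) hcase
  have hpos : (2 * w' T i * T.w (Fin.last n)) ≠ 0 :=
    mul_ne_zero (mul_ne_zero two_ne_zero (w'_pos i).ne') (T.w_pos _).ne'
  have hg : g' T i = T.w i.castSucc / w' T i * (T.g i.castSucc - 1) + 1 + q := by
    unfold g'
    rw [hq, Int.mul_ediv_cancel_left _ hpos]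
  have e1 := a_cl_eq T i
  have e2 := a_cl_eq' T i
  have hwl := T.w_pos (Fin.last n)
  have hwi := T.w_pos i.castSucc
  have hw'pos := w'_pos (T := T) i
  have hgi := T.g_nonneg i.castSucc
  have hα := alpha_nonneg T i
  have hu := uu_nonneg T i
  -- q ≥ 0 in general
  have key : T.a i.castSucc (Fin.last n) ^ 2 - T.w (Fin.last n) * T.a i.castSucc (Fin.last n) =
      T.w (Fin.last n) * (T.w i.castSucc * uu T i) * (alpha T i - 1) := by
    rw [← e2]
    have : T.a i.castSucc (Fin.last n) ^ 2 =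
        T.a i.castSucc (Fin.last n) * (T.w (Fin.last n) * alpha T i) := by rw [← e1]; ring
    rw [this]; ring
  have hnum : 0 ≤ T.a i.castSucc (Fin.last n) ^ 2 - T.w (Fin.last n) * T.a i.castSucc (Fin.last n) := by
    have : T.a i.castSucc (Fin.last n) ^ 2 - T.w (Fin.last n) * T.a i.castSucc (Fin.last n) =
        T.w (Fin.last n) ^ 2 * (alpha T i * (alpha T i - 1)) := by rw [e1]; ring
    rw [this]
    apply mul_nonneg (sq_nonneg _)
    rcases (alpha_nonneg T i).eq_or_lt with h0 | h1
    · rw [← h0]; simp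
    · exact mul_nonneg h1.le (by omega)
  have hq0 : 0 ≤ q := by
    by_contra hneg
    push Not at hneg
    have : (2 * w' T i * T.w (Fin.last n)) * q < 0 :=
      mul_neg_of_pos_of_neg (by positivity) hneg
    rw [← hq] at this
    omega
  rw [hg]
  rcases hcase with ⟨hw, _⟩ | ⟨hw, hα2, hu2⟩
  · rw [hw, Int.ediv_self hwi.ne', one_mul]
    omega
  · have hk : T.w i.castSucc / w' T i = 2 := by
      rw [← hw, Int.mul_ediv_cancel _ hw'pos.ne']
    rw [hk]
    -- q ≥ 1
    have hq1 : 1 ≤ q := by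
      -- q = u (α - 1)
      have hqe : q = uu T i * (alpha T i - 1) := by
        have h3 : (2 * w' T i * T.w (Fin.last n)) * q =
            (2 * w' T i * T.w (Fin.last n)) * (uu T i * (alpha T i - 1)) := by
          rw [← hq, key, ← hw]; ring
        exact mul_left_cancel₀ hpos h3
      have hu1 : 1 ≤ uu T i := by
        rcases hu.eq_or_lt with h0 | h1
        · exfalso; apply hu2; rw [← h0]; exact dvd_zero _
        · omega
      have hα2' : 2 ≤ alpha T i := by
        obtain ⟨v, hv⟩ := hα2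
        have hane : T.a i.castSucc (Fin.last n) ≠ 0 := by
          rw [e2]; exact mul_ne_zero hwi.ne' (by omega)
        have hαne : alpha T i ≠ 0 := by
          intro h0; apply hane; rw [e1, h0, mul_zero]
        omega
      rw [hqe]
      nlinarith
    omega

end Groth.Agent.Lib.Helper16.NT
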