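import Mathlib
import Groth.Agent.Lib.Helper16.NT3

/-!
# Numerical types: the contraction is a numerical type (S2175)
-/

set_option autoImplicit false

namespace Groth.Agent.Lib.Helper16.NT

open Models Finset

variable {n : ℕ} {T : NumericalType (n + 1)}

theorem n_pos (h : T.IsMinusOne (Fin.last n)) : 0 < n := by
  by_contra hn
  have hn0 : n = 0 := by omega
  subst hn0
  have := congrFun T.mulVec_m (Fin.last 0)
  simp only [Matrix.mulVec, dotProduct, Pi.zero_apply] at this
  rw [Fin.sum_univ_castSucc] at this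
  simp only [Finset.univ_eq_empty, Finset.sum_empty, zero_add] at this
  rw [h.2] at this
  have h1 := T.w_pos (Fin.last 0)
  have h2 := T.m_pos (Fin.last 0)
  have : T.w (Fin.last 0) * T.m (Fin.last 0) = 0 := by linarith
  rcases mul_eq_zero.1 this with h | h <;> omega

theorem a'_offdiag_pos_of (h : T.IsMinusOne (Fin.last n)) {i j : Fin n}
    (hij : T.a i.castSucc j.castSucc ≠ 0) (hne : i ≠ j) : a' T i j ≠ 0 := by
  have h1 := a'_ge h i j
  have h2 : 0 ≤ T.a i.castSucc j.castSucc := T.offDiag_nonneg _ _ (by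
    intro he; exact hne (Fin.castSucc_injective _ he))
  have : 0 < T.a i.castSucc j.castSucc := lt_of_le_of_ne h2 (Ne.symm hij)
  omega

theorem a'_pos_of_last (h : T.IsMinusOne (Fin.last n)) {i j : Fin n}
    (hi : T.a i.castSucc (Fin.last n) ≠ 0) (hj : T.a j.castSucc (Fin.last n) ≠ 0) (hne : i ≠ j) :
    a' T i j ≠ 0 := by
  rw [a'_eq h]
  have h2 : 0 ≤ T.a i.castSucc j.castSucc := T.offDiag_nonneg _ _ (by
    intro he; exact hne (Fin.castSucc_injective _ he))
  have hαpos : 0 < alpha T i := by
    rcases (alpha_nonneg T i).eq_or_lt with h0 | h1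
    · exfalso; apply hi; rw [a_cl_eq T i, ← h0, mul_zero]
    · exact h1
  have hjpos : 0 < T.a j.castSucc (Fin.last n) := lt_of_le_of_ne (a_cl_nonneg T j) (Ne.symm hj)
  have := mul_pos hαpos hjpos
  omega

/-- the contracted numerical type. -/
def contr (h : T.IsMinusOne (Fin.last n)) : NumericalType n where
  m i := T.m i.castSucc
  a := a' T
  w := w' T
  g := g' T
  pos := n_pos h
  m_pos i := T.m_pos _
  w_pos i := w'_pos i
  g_nonneg i := g'_nonneg i
  symm := by
    apply Matrix.IsSymm.ext
    intro i j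
    rw [a'_eq h, a'_eq h, a_symm T j.castSucc i.castSucc, a_cl_eq T i, a_cl_eq T j]
    ring
  offDiag_nonneg i j hij := by
    have h1 := a'_ge h i j
    have h2 : 0 ≤ T.a i.castSucc j.castSucc := T.offDiag_nonneg _ _ (by
      intro he; exact hij (Fin.castSucc_injective _ he))
    omega
  connected I hI hne := by
    classical
    -- image of I
    set I' : Finset (Fin (n + 1)) := I.map Fin.castSuccEmb with hI'
    have hI'ne : I'.Nonempty := hI.map
    have hlast : Fin.last n ∉ I' := by
      rw [hI', Finset.mem_map]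
      rintro ⟨i, _, hi⟩
      exact cs_ne_last i hi
    have hI'univ : I' ≠ univ := fun he => hlast (he ▸ Finset.mem_univ _)
    obtain ⟨i, hi, j, hj, hij⟩ := T.connected I' hI'ne hI'univ
    rw [hI', Finset.mem_map] at hi
    obtain ⟨i0, hi0, rfl⟩ := hi
    rcases Fin.eq_castSucc_or_eq_last j with ⟨j0, rfl⟩ | rfl
    · have hj0 : j0 ∉ I := fun hmem => hj (by
        rw [hI', Finset.mem_map]; exact ⟨j0, hmem, rfl⟩)
      have hne0 : i0 ≠ j0 := fun he => hj0 (he ▸ hi0)
      exact ⟨i0, hi0, j0, hj0, a'_offdiag_pos_of h hij hne0⟩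
    · -- a_{i0 l} ≠ 0; use I' ∪ {l}
      set I'' : Finset (Fin (n + 1)) := insert (Fin.last n) I' with hI''
      have hI''univ : I'' ≠ univ := by
        intro he
        apply hne
        rw [Finset.eq_univ_iff_forall]
        intro k
        have : k.castSucc ∈ I'' := he ▸ Finset.mem_univ _
        rw [hI'', Finset.mem_insert] at this
        rcases this with hk | hk
        · exact absurd hk (cs_ne_last k)
        · rw [hI', Finset.mem_map] at hk
          obtain ⟨k', hk', hkk⟩ := hk
          rwa [← Fin.castSucc_injective _ hkk]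
      obtain ⟨i2, hi2, j2, hj2, hij2⟩ := T.connected I'' (Finset.insert_nonempty _ _) hI''univ
      have hj2l : j2 ≠ Fin.last n := fun he => hj2 (he ▸ Finset.mem_insert_self _ _)
      rcases Fin.eq_castSucc_or_eq_last j2 with ⟨j0, rfl⟩ | rfl
      swap
      · exact absurd rfl hj2l
      have hj0 : j0 ∉ I := fun hmem => hj2 (by
        rw [hI'', Finset.mem_insert]; right
        rw [hI', Finset.mem_map]; exact ⟨j0, hmem, rfl⟩)
      rw [hI'', Finset.mem_insert] at hi2
      rcases hi2 with rfl | hi2
      · -- i2 = l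
        have hne0 : i0 ≠ j0 := fun he => hj0 (he ▸ hi0)
        refine ⟨i0, hi0, j0, hj0, a'_pos_of_last h hij ?_ hne0⟩
        rw [a_symm]; exact hij2
      · rw [hI', Finset.mem_map] at hi2
        obtain ⟨i3, hi3, rfl⟩ := hi2
        have hne0 : i3 ≠ j0 := fun he => hj0 (he ▸ hi3)
        exact ⟨i3, hi3, j0, hj0, a'_offdiag_pos_of h hij2 hne0⟩
  mulVec_m := by
    funext i
    simp only [Matrix.mulVec, dotProduct, Pi.zero_apply]
    have h1 : ∑ j : Fin n, a' T i j * T.m j.castSucc =
        ∑ j : Fin n, T.a i.castSucc j.castSucc * T.m j.castSucc +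
          alpha T i * ∑ j : Fin n, T.a j.castSucc (Fin.last n) * T.m j.castSucc := by
      rw [Finset.mul_sum, ← Finset.sum_add_distrib]
      refine Finset.sum_congr rfl fun j _ => ?_
      rw [a'_eq h]; ring
    rw [h1, row_cs, row_last h, a_cl_eq T i]
    ring
  w_dvd i j := by
    rw [a'_eq h]
    refine dvd_add ((w'_dvd_w i).trans (T.w_dvd _ _)) ?_
    have : alpha T i * T.a j.castSucc (Fin.last n) =
        T.a i.castSucc (Fin.last n) * alpha T j := by
      rw [a_cl_eq T j, a_cl_eq T i]; ring
    rw [this]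
    exact Dvd.dvd.mul_right ((w'_dvd_w i).trans (T.w_dvd _ _)) _

theorem contr_isContraction (h : T.IsMinusOne (Fin.last n)) : T.IsContraction (contr h) :=
  ⟨fun _ => rfl, fun _ _ => rfl, fun _ => rfl, fun _ => rfl⟩

theorem S2175_main (h : T.IsMinusOne (Fin.last n)) :
    (∃ T' : Models.NumericalType n, T.IsContraction T') ∧
      ∀ T' : Models.NumericalType n, T.IsContraction T' → T'.genus = T.genus :=
  ⟨⟨contr h, contr_isContraction h⟩, fun _ hc => genus_eq h hc⟩

end Groth.Agent.Lib.Helper16.NT
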