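import Mathlib
import Groth.Agent.Lib.Helper16.NT4

/-!
# Numerical types: the map on Z^n inducing Pic(T) -> Pic(T')
-/

set_option autoImplicit false

namespace Groth.Agent.Lib.Helper16.NT

open Models Finset

variable {n : ℕ} {T : NumericalType (n + 1)}

section
variable (h : T.IsMinusOne (Fin.last n)) {T' : NumericalType n} (hc : T.IsContraction T')

/-- `κ_i = w_i / w'_i`. -/
def kap (T : NumericalType (n + 1)) (T' : NumericalType n) (i : Fin n) : ℤ := T.w i.castSucc / T'.w i

include h hc in
theorem kap_mul (i : Fin n) : kap T T' i * T'.w i = T.w i.castSucc := by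
  unfold kap
  rcases c_w_cases h hc i with ⟨hw, _⟩ | ⟨hw, _⟩
  · rw [hw, Int.ediv_self (T.w_pos _).ne', one_mul]
  · rw [← hw, Int.mul_ediv_cancel _ (T'.w_pos i).ne']

include h hc in
theorem kap_cases (i : Fin n) : kap T T' i = 1 ∨ kap T T' i = 2 := by
  unfold kap
  rcases c_w_cases h hc i with ⟨hw, _⟩ | ⟨hw, _⟩
  · left; rw [hw, Int.ediv_self (T.w_pos _).ne']
  · right; rw [← hw, Int.mul_ediv_cancel _ (T'.w_pos i).ne']

include h hc in
theorem pic'_entry (i j : Fin n) :
    T'.picMatrix i j = kap T T' i * (T.a i.castSucc j.castSucc / T.w i.castSucc + uu T i * alpha T j) := by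
  unfold NumericalType.picMatrix
  have e1 : T'.a i j = T'.w i *
      (kap T T' i * (T.a i.castSucc j.castSucc / T.w i.castSucc + uu T i * alpha T j)) := by
    rw [c_a h hc, ← mul_assoc, mul_comm (T'.w i), kap_mul h hc, mul_add,
      Int.mul_ediv_cancel' (T.w_dvd _ _), ← mul_assoc, ← a_cl_eq' T i, a_cl_eq T i, a_cl_eq T j]
    ring
  rw [e1, Int.mul_ediv_cancel_left _ (T'.w_pos i).ne']

theorem pic_cl (i : Fin n) : T.picMatrix i.castSucc (Fin.last n) = uu T i := rfl

include h in
theorem pic_lc (i : Fin n) : T.picMatrix (Fin.last n) i.castSucc = alpha T i := by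
  unfold NumericalType.picMatrix alpha
  rw [a_symm]

include h in
theorem pic_ll : T.picMatrix (Fin.last n) (Fin.last n) = -1 := by
  unfold NumericalType.picMatrix
  rw [h.2, Int.neg_ediv_of_dvd (dvd_refl _), Int.ediv_self (T.w_pos _).ne']

/-- the map `ℤ^{n+1} → ℤ^n`. -/
def FF (T : NumericalType (n + 1)) (T' : NumericalType n) : (Fin (n + 1) → ℤ) →ₗ[ℤ] (Fin n → ℤ) where
  toFun x i := kap T T' i * (x i.castSucc + uu T i * x (Fin.last n))
  map_add' x y := by
    funext i
    simp only [Pi.add_apply]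
    ring
  map_smul' c x := by
    funext i
    simp only [Pi.smul_apply, smul_eq_mul, RingHom.id_apply]
    ring

theorem FF_apply (x : Fin (n + 1) → ℤ) (i : Fin n) :
    FF T T' x i = kap T T' i * (x i.castSucc + uu T i * x (Fin.last n)) := rfl

include h hc in
theorem FF_mulVec (x : Fin (n + 1) → ℤ) :
    FF T T' (T.picMatrix.mulVec x) = T'.picMatrix.mulVec (fun j => x j.castSucc) := by
  funext i
  rw [FF_apply]
  simp only [Matrix.mulVec, dotProduct]
  rw [Fin.sum_univ_castSucc, Fin.sum_univ_castSucc, pic_cl, pic_ll h]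
  simp_rw [pic_lc h, pic'_entry h hc]
  have : ∀ j : Fin n, T.picMatrix i.castSucc j.castSucc = T.a i.castSucc j.castSucc / T.w i.castSucc :=
    fun j => rfl
  simp_rw [this]
  have e : ∑ j : Fin n, kap T T' i *
        (T.a i.castSucc j.castSucc / T.w i.castSucc + uu T i * alpha T j) * x j.castSucc =
      kap T T' i * (∑ j : Fin n, T.a i.castSucc j.castSucc / T.w i.castSucc * x j.castSucc +
        uu T i * ∑ j : Fin n, alpha T j * x j.castSucc) := by
    rw [Finset.mul_sum, ← Finset.sum_add_distrib, Finset.mul_sum]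
    refine Finset.sum_congr rfl fun j _ => by ring
  rw [e]
  ring

end

end Groth.Agent.Lib.Helper16.NT
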