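import Mathlib
import Groth.Agent.Lib.Helper16.NT5

/-!
# Numerical types: Pic(T) -> Pic(T') for a contraction (S2180)
-/

set_option autoImplicit false

namespace Groth.Agent.Lib.Helper16.NT

open Models Finset

variable {n : ℕ} {T : NumericalType (n + 1)}

section
variable (h : T.IsMinusOne (Fin.last n)) {T' : NumericalType n} (hc : T.IsContraction T')

include h hc

theorem FF_range_le :
    LinearMap.range (Matrix.mulVecLin T.picMatrix) ≤
      (LinearMap.range (Matrix.mulVecLin T'.picMatrix)).comap (FF T T') := by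
  rintro _ ⟨x, rfl⟩
  rw [Submodule.mem_comap, Matrix.mulVecLin_apply, FF_mulVec h hc]
  exact ⟨_, rfl⟩

/-- the induced map on Picard groups. -/
noncomputable def picMap : T.Pic →ₗ[ℤ] T'.Pic :=
  Submodule.mapQ _ _ (FF T T') (FF_range_le h hc)

theorem picMap_mk (x : Fin (n + 1) → ℤ) :
    picMap h hc (Submodule.Quotient.mk x) = Submodule.Quotient.mk (FF T T' x) := rfl

theorem ker_FF (z : Fin (n + 1) → ℤ) (hz : FF T T' z = 0) :
    z ∈ LinearMap.range (Matrix.mulVecLin T.picMatrix) := by
  refine ⟨fun k => if k = Fin.last n then - z (Fin.last n) else 0, ?_⟩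
  have hzi : ∀ i : Fin n, z i.castSucc = - (uu T i * z (Fin.last n)) := by
    intro i
    have := congrFun hz i
    rw [FF_apply] at this
    simp only [Pi.zero_apply] at this
    rcases mul_eq_zero.1 this with hk | hk
    · rcases kap_cases h hc i with h1 | h1 <;> omega
    · linarith
  funext k
  rw [Matrix.mulVecLin_apply]
  simp only [Matrix.mulVec, dotProduct]
  rw [Fin.sum_univ_castSucc]
  have hsum : ∑ j : Fin n, T.picMatrix k j.castSucc *
      (if j.castSucc = Fin.last n then - z (Fin.last n) else 0) = 0 := by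
    refine Finset.sum_eq_zero fun j _ => ?_
    rw [if_neg (cs_ne_last j), mul_zero]
  rw [hsum, zero_add, if_pos rfl]
  rcases Fin.eq_castSucc_or_eq_last k with ⟨i, rfl⟩ | rfl
  · rw [pic_cl, hzi]; ring
  · rw [pic_ll h]; ring

theorem picMap_injective : Function.Injective (picMap h hc) := by
  rw [← LinearMap.ker_eq_bot, eq_bot_iff]
  intro q hq
  obtain ⟨x, rfl⟩ := Submodule.Quotient.mk_surjective _ q
  rw [LinearMap.mem_ker, picMap_mk, Submodule.Quotient.mk_eq_zero] at hq
  obtain ⟨y, hy⟩ := hq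
  rw [Submodule.mem_bot, Submodule.Quotient.mk_eq_zero]
  -- extension of y by zero
  set xt : Fin (n + 1) → ℤ := Fin.snoc (α := fun _ => ℤ) y 0 with hxt
  have h1 : FF T T' (T.picMatrix.mulVec xt) = FF T T' x := by
    rw [FF_mulVec h hc, ← hy, Matrix.mulVecLin_apply]
    congr 1
    funext j
    rw [hxt, Fin.snoc_castSucc]
  have h2 : FF T T' (x - T.picMatrix.mulVec xt) = 0 := by
    rw [map_sub, h1, sub_self]
  have h3 := ker_FF h hc _ h2
  have h4 : T.picMatrix.mulVec xt ∈ LinearMap.range (Matrix.mulVecLin T.picMatrix) := ⟨xt, rfl⟩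
  have := add_mem h3 h4
  rwa [sub_add_cancel] at this

theorem picMap_two (y : T'.Pic) : ∃ x : T.Pic, 2 • y = picMap h hc x := by
  obtain ⟨v, rfl⟩ := Submodule.Quotient.mk_surjective _ y
  refine ⟨Submodule.Quotient.mk (Fin.snoc (α := fun _ => ℤ) (fun i => (2 / kap T T' i) * v i) 0), ?_⟩
  rw [picMap_mk, ← Submodule.Quotient.mk_smul]
  congr 1
  funext i
  rw [FF_apply, Fin.snoc_castSucc, Fin.snoc_last, mul_zero, add_zero]
  simp only [Pi.smul_apply, smul_eq_mul]
  rcases kap_cases h hc i with h1 | h1 <;> rw [h1] <;> norm_num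

theorem S2180_main :
    ∃ f : T.Pic →+ T'.Pic, Function.Injective f ∧ ∀ y : T'.Pic, ∃ x : T.Pic, 2 • y = f x :=
  ⟨(picMap h hc).toAddMonoidHom, picMap_injective h hc, picMap_two h hc⟩

end

end Groth.Agent.Lib.Helper16.NT
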