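import Mathlib
import Groth.Agent.Lib.Helper16.NT6

/-!
# Numerical types: transport along a permutation
-/

set_option autoImplicit false

namespace Groth.Agent.Lib.Helper16.NT

open Models Finset

variable {n : ℕ}

/-- transport of a numerical type along a permutation. -/
def perm (T : NumericalType n) (σ : Equiv.Perm (Fin n)) : NumericalType n where
  m i := T.m (σ i)
  a i j := T.a (σ i) (σ j)
  w i := T.w (σ i)
  g i := T.g (σ i)
  pos := T.pos
  m_pos i := T.m_pos _
  w_pos i := T.w_pos _
  g_nonneg i := T.g_nonneg _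
  symm := by
    apply Matrix.IsSymm.ext
    intro i j
    exact T.symm.apply (σ i) (σ j)
  offDiag_nonneg i j hij := T.offDiag_nonneg _ _ (fun h => hij (σ.injective h))
  connected I hI hne := by
    classical
    have h1 : (I.map σ.toEmbedding).Nonempty := hI.map
    have h2 : I.map σ.toEmbedding ≠ univ := by
      intro he
      apply hne
      rw [Finset.eq_univ_iff_forall]
      intro k
      have : σ k ∈ I.map σ.toEmbedding := he ▸ Finset.mem_univ _
      rw [Finset.mem_map] at this
      obtain ⟨k', hk', hkk⟩ := this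
      rwa [← σ.injective hkk]
    obtain ⟨i, hi, j, hj, hij⟩ := T.connected _ h1 h2
    rw [Finset.mem_map] at hi
    obtain ⟨i0, hi0, rfl⟩ := hi
    refine ⟨i0, hi0, σ.symm j, ?_, ?_⟩
    · intro hmem
      apply hj
      rw [Finset.mem_map]
      exact ⟨σ.symm j, hmem, by simp⟩
    · simpa using hij
  mulVec_m := by
    funext i
    have := congrFun T.mulVec_m (σ i)
    simp only [Matrix.mulVec, dotProduct, Pi.zero_apply] at this ⊢
    rw [← this]
    exact Equiv.sum_comp σ (fun k => T.a (σ i) k * T.m k)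
  w_dvd i j := T.w_dvd _ _

theorem perm_genus (T : NumericalType n) (σ : Equiv.Perm (Fin n)) : (perm T σ).genus = T.genus := by
  unfold NumericalType.genus
  have h1 : ∑ i, (perm T σ).m i * (perm T σ).w i * ((perm T σ).g i - 1) =
      ∑ i, T.m i * T.w i * (T.g i - 1) :=
    Equiv.sum_comp σ (fun k => T.m k * T.w k * (T.g k - 1))
  have h2 : ∑ i, (perm T σ).m i * (perm T σ).a i i = ∑ i, T.m i * T.a i i :=
    Equiv.sum_comp σ (fun k => T.m k * T.a k k)
  rw [h1, h2]

theorem perm_isMinusOne (T : NumericalType n) (σ : Equiv.Perm (Fin n)) (i : Fin n) :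
    (perm T σ).IsMinusOne i ↔ T.IsMinusOne (σ i) := Iff.rfl

theorem perm_picMatrix (T : NumericalType n) (σ : Equiv.Perm (Fin n)) (i j : Fin n) :
    (perm T σ).picMatrix i j = T.picMatrix (σ i) (σ j) := rfl

/-- the map `Pic T → Pic (perm T σ)`. -/
noncomputable def permPic (T : NumericalType n) (σ : Equiv.Perm (Fin n)) :
    T.Pic →ₗ[ℤ] (perm T σ).Pic :=
  Submodule.mapQ _ _ (LinearMap.funLeft ℤ ℤ σ) (by
    rintro _ ⟨x, rfl⟩
    rw [Submodule.mem_comap]
    refine ⟨LinearMap.funLeft ℤ ℤ σ x, ?_⟩
    funext i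
    rw [Matrix.mulVecLin_apply, Matrix.mulVecLin_apply, LinearMap.funLeft_apply]
    simp only [Matrix.mulVec, dotProduct, LinearMap.funLeft_apply]
    simp_rw [perm_picMatrix]
    exact Equiv.sum_comp σ (fun k => T.picMatrix (σ i) k * x k))

theorem permPic_mk (T : NumericalType n) (σ : Equiv.Perm (Fin n)) (x : Fin n → ℤ) :
    permPic T σ (Submodule.Quotient.mk x) = Submodule.Quotient.mk (fun i => x (σ i)) := rfl

theorem permPic_injective (T : NumericalType n) (σ : Equiv.Perm (Fin n)) :
    Function.Injective (permPic T σ) := by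
  rw [← LinearMap.ker_eq_bot, eq_bot_iff]
  intro q hq
  obtain ⟨x, rfl⟩ := Submodule.Quotient.mk_surjective _ q
  rw [LinearMap.mem_ker, permPic_mk, Submodule.Quotient.mk_eq_zero] at hq
  obtain ⟨y, hy⟩ := hq
  rw [Submodule.mem_bot, Submodule.Quotient.mk_eq_zero]
  refine ⟨fun k => y (σ.symm k), ?_⟩
  funext k
  have := congrFun hy (σ.symm k)
  simp only [Equiv.apply_symm_apply] at this
  rw [← this, Matrix.mulVecLin_apply, Matrix.mulVecLin_apply]
  simp only [Matrix.mulVec, dotProduct]
  simp_rw [perm_picMatrix, Equiv.apply_symm_apply]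
  exact (Equiv.sum_comp σ (fun j => T.picMatrix k j * y (σ.symm j))).symm.trans
    (Finset.sum_congr rfl fun j _ => by simp)

end Groth.Agent.Lib.Helper16.NT
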