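import Mathlib
import Groth.Agent.Lib.Helper16.NT7
import Groth.Agent.S2176
import Groth.Agent.S2178

/-!
# Numerical types of genus ≤ 0 have Picard group Z (S2181)
-/

set_option autoImplicit false

namespace Groth.Agent.Lib.Helper16.NT

open Models Finset

theorem exists_inj_one (T : NumericalType 1) : ∃ f : T.Pic →ₗ[ℤ] ℤ, Function.Injective f := by
  have ha : T.a 0 0 = 0 := by
    have := congrFun T.mulVec_m 0
    simp only [Matrix.mulVec, dotProduct, Pi.zero_apply, Fin.sum_univ_one] at this
    rcases mul_eq_zero.1 this with h | h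
    · exact h
    · exact absurd h (T.m_pos 0).ne'
  have hrange : LinearMap.range (Matrix.mulVecLin T.picMatrix) = ⊥ := by
    rw [eq_bot_iff]
    rintro _ ⟨x, rfl⟩
    rw [Submodule.mem_bot]
    funext i
    have hi : i = 0 := Subsingleton.elim _ _
    subst hi
    rw [Matrix.mulVecLin_apply]
    simp only [Matrix.mulVec, dotProduct, Fin.sum_univ_one, Pi.zero_apply]
    unfold NumericalType.picMatrix
    rw [ha, Int.zero_ediv, zero_mul]
  refine ⟨Submodule.liftQ _ (LinearMap.proj 0) (by rw [hrange]; exact bot_le), ?_⟩
  rw [← LinearMap.ker_eq_bot, eq_bot_iff]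
  intro q hq
  obtain ⟨x, rfl⟩ := Submodule.Quotient.mk_surjective _ q
  rw [LinearMap.mem_ker, Submodule.liftQ_apply, LinearMap.proj_apply] at hq
  rw [Submodule.mem_bot, Submodule.Quotient.mk_eq_zero, hrange, Submodule.mem_bot]
  funext i
  have hi : i = 0 := Subsingleton.elim _ _
  subst hi
  exact hq

/-- genus ≤ 0 gives an injective linear map `Pic T → ℤ`. -/
theorem exists_inj : ∀ (n : ℕ) (T : NumericalType n), T.genus ≤ 0 →
    ∃ f : T.Pic →ₗ[ℤ] ℤ, Function.Injective f := by
  intro n
  induction n with
  | zero => intro T _; exact absurd T.pos (lt_irrefl 0)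
  | succ k ih =>
    intro T hg
    rcases Nat.eq_zero_or_pos k with rfl | hk
    · exact exists_inj_one T
    · -- at least two indices: not minimal
      have hnm : ¬ T.IsMinimal := by
        intro hmin
        have := Groth.Agent.S2176.result T hmin (by omega)
        omega
      unfold NumericalType.IsMinimal at hnm
      push Not at hnm
      obtain ⟨i0, hi0⟩ := hnm
      set σ : Equiv.Perm (Fin (k + 1)) := Equiv.swap i0 (Fin.last k) with hσ
      have hlast : (perm T σ).IsMinusOne (Fin.last k) := by
        rw [perm_isMinusOne, hσ, Equiv.swap_apply_right]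
        exact hi0
      have hgen : (contr hlast).genus ≤ 0 := by
        rw [genus_eq hlast (contr_isContraction hlast), perm_genus]
        exact hg
      obtain ⟨f', hf'⟩ := ih (contr hlast) hgen
      refine ⟨f'.comp ((picMap hlast (contr_isContraction hlast)).comp (permPic T σ)), ?_⟩
      exact hf'.comp ((picMap_injective hlast (contr_isContraction hlast)).comp
        (permPic_injective T σ))

theorem S2181_main {n : ℕ} (T : NumericalType n) (hg : T.genus ≤ 0) : Nonempty (T.Pic ≃+ ℤ) := by
  obtain ⟨f, hf⟩ := exists_inj n T hg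
  have htf : Module.IsTorsionFree ℤ T.Pic :=
    Function.Injective.moduleIsTorsionFree f hf (fun r m => map_smul f r m)
  have hfree : Module.Free ℤ T.Pic := Module.free_of_finite_type_torsion_free'
  have hrank := Groth.Agent.S2178.result T
  obtain ⟨e⟩ := Module.nonempty_linearEquiv_of_finrank_eq_one hrank
  exact ⟨e.symm.toAddEquiv⟩

end Groth.Agent.Lib.Helper16.NT
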