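import Mathlib

/-!
# Ideals containing xy of finite colength in k[[x,y]] (part 1)
-/

set_option autoImplicit false
universe u
open MvPowerSeries

namespace Groth.Agent.Lib.Helper16.Nodal

variable {k : Type u} [Field k]

section defs
variable (s t : Fin 2)

/-- The index set of "axis" monomials `x^i` (`i < a`) and `y^j` (`1 ≤ j < b`). -/
noncomputable def T (a b : ℕ) : Finset (Fin 2 →₀ ℕ) :=
  (Finset.range a).image (fun i => Finsupp.single s i) ∪
    (Finset.Ico 1 b).image (fun j => Finsupp.single t j)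

/-- The coefficient map to `k^T`. -/
noncomputable def Φ (a b : ℕ) : MvPowerSeries (Fin 2) k →ₗ[k] (↥(T s t a b) → k) :=
  LinearMap.pi (fun m => coeff (m : Fin 2 →₀ ℕ))

theorem Φ_apply (a b : ℕ) (f : MvPowerSeries (Fin 2) k) (m : ↥(T s t a b)) :
    Φ s t a b f m = coeff (m : Fin 2 →₀ ℕ) f := rfl

theorem Φ_surjective (a b : ℕ) : Function.Surjective (Φ (k := k) s t a b) := by
  classical
  intro u
  refine ⟨fun m => if h : m ∈ T s t a b then u ⟨m, h⟩ else 0, ?_⟩
  ext ⟨m, hm⟩
  change (if h : m ∈ T s t a b then u ⟨m, h⟩ else 0) = _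
  rw [dif_pos hm]

end defs

section axis
variable {s t : Fin 2} (hst : s ≠ t)
include hst

theorem single_s_t (i : ℕ) : (Finsupp.single s i : Fin 2 →₀ ℕ) t = 0 := by
  simp [Finsupp.single_apply, hst]

theorem eq_single_of_t_zero (m : Fin 2 →₀ ℕ) (hm : m t = 0) : m = Finsupp.single s (m s) := by
  ext u
  have hu : u = s ∨ u = t := by
    have h1 := s.isLt
    have h2 := t.isLt
    have h3 := u.isLt
    have h4 : (s : ℕ) ≠ t := fun h => hst (Fin.ext h)
    by_contra hne
    push_neg at hne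
    have h5 : (u : ℕ) ≠ s := fun h => hne.1 (Fin.ext h)
    have h6 : (u : ℕ) ≠ t := fun h => hne.2 (Fin.ext h)
    omega
  rcases hu with rfl | rfl
  · simp
  · rw [hm, single_s_t hst]

theorem single_eq_single (i j : ℕ)
    (h : (Finsupp.single s i : Fin 2 →₀ ℕ) = Finsupp.single t j) : i = 0 ∧ j = 0 := by
  constructor
  · have := DFunLike.congr_fun h s
    rw [Finsupp.single_eq_same, single_s_t hst.symm] at this
    exact this
  · have := DFunLike.congr_fun h t
    rw [Finsupp.single_eq_same, single_s_t hst] at this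
    exact this.symm

theorem pow_mem_of_coeff (J : Ideal (MvPowerSeries (Fin 2) k))
    (hxy : (X s * X t : MvPowerSeries (Fin 2) k) ∈ J)
    (f : MvPowerSeries (Fin 2) k) (hf : f ∈ J) (i₀ : ℕ)
    (h0 : coeff (Finsupp.single s i₀) f ≠ 0)
    (hlt : ∀ i < i₀, coeff (Finsupp.single s i) f = 0) :
    (X s : MvPowerSeries (Fin 2) k) ^ (i₀ + 1) ∈ J := by
  classical
  let f₁ : MvPowerSeries (Fin 2) k := fun m => if m t = 0 then coeff m f else 0
  let f₂ : MvPowerSeries (Fin 2) k := fun m => if m t = 0 then 0 else coeff m f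
  have hc1 : ∀ m, coeff m f₁ = if m t = 0 then coeff m f else 0 := fun m => rfl
  have hc2 : ∀ m, coeff m f₂ = if m t = 0 then 0 else coeff m f := fun m => rfl
  have hsum : f = f₁ + f₂ := by
    ext m
    rw [map_add, hc1, hc2]
    split_ifs <;> simp
  have hd2 : (X t : MvPowerSeries (Fin 2) k) ∣ f₂ := by
    rw [X_dvd_iff]
    intro m hm
    rw [hc2, if_pos hm]
  have hd1 : (X s : MvPowerSeries (Fin 2) k) ^ i₀ ∣ f₁ := by
    rw [X_pow_dvd_iff]
    intro m hm
    rw [hc1]
    split_ifs with h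
    · rw [eq_single_of_t_zero hst m h]
      exact hlt _ hm
    · rfl
  obtain ⟨u, hu⟩ := hd1
  obtain ⟨g, hg⟩ := hd2
  have hu0 : constantCoeff u = coeff (Finsupp.single s i₀) f := by
    have h1 : coeff (Finsupp.single s i₀) f₁ = coeff (Finsupp.single s i₀) f := by
      rw [hc1, if_pos (single_s_t hst i₀)]
    rw [← h1, hu, X_pow_eq]
    have h2 := coeff_add_monomial_mul (Finsupp.single s i₀) 0 u (1 : k)
    rw [add_zero, one_mul] at h2
    rw [h2]
    rfl
  have hunit : IsUnit u := by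
    rw [isUnit_iff_constantCoeff, hu0]
    exact IsUnit.mk0 _ h0
  have hmem : X s * f ∈ J := J.mul_mem_left _ hf
  have h3 : X s ^ (i₀ + 1) * u = X s * f - g * (X s * X t) := by
    rw [hsum, hu, hg]
    ring
  have h4 : X s ^ (i₀ + 1) * u ∈ J := by
    rw [h3]
    exact J.sub_mem hmem (J.mul_mem_left _ hxy)
  obtain ⟨v, hv⟩ := hunit.exists_right_inv
  have h5 : (X s : MvPowerSeries (Fin 2) k) ^ (i₀ + 1) = (X s ^ (i₀ + 1) * u) * v := by
    rw [mul_assoc, hv, mul_one]
  rw [h5]
  exact J.mul_mem_right _ h4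

theorem exists_pow_mem (J : Ideal (MvPowerSeries (Fin 2) k))
    (hxy : (X s * X t : MvPowerSeries (Fin 2) k) ∈ J)
    [Module.Finite k (MvPowerSeries (Fin 2) k ⧸ J)] :
    ∃ N, (X s : MvPowerSeries (Fin 2) k) ^ N ∈ J := by
  classical
  have hli := Module.Finite.not_linearIndependent_of_infinite (R := k)
    (fun i : ℕ => (Ideal.Quotient.mk J (X s ^ i) : MvPowerSeries (Fin 2) k ⧸ J))
  rw [not_linearIndependent_iff] at hli
  obtain ⟨S, c, hsum, i₁, hi₁, hci₁⟩ := hli
  let f : MvPowerSeries (Fin 2) k := ∑ i ∈ S, c i • X s ^ i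
  have hfJ : f ∈ J := by
    rw [← Ideal.Quotient.eq_zero_iff_mem, map_sum, ← hsum]
    refine Finset.sum_congr rfl fun i _ => ?_
    rfl
  have hcoef : ∀ i, coeff (Finsupp.single s i) f = if i ∈ S then c i else 0 := by
    intro i
    have h1 : ∀ j, ((Finsupp.single s i : Fin 2 →₀ ℕ) = Finsupp.single s j) ↔ i = j :=
      fun j => (Finsupp.single_injective s).eq_iff
    simp only [f, map_sum, map_smul, coeff_X_pow, smul_eq_mul, h1, mul_ite, mul_one, mul_zero]
    rw [Finset.sum_ite_eq]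
  have hex : ∃ i, coeff (Finsupp.single s i) f ≠ 0 :=
    ⟨i₁, by rw [hcoef, if_pos hi₁]; exact hci₁⟩
  refine ⟨Nat.find hex + 1, pow_mem_of_coeff hst J hxy f hfJ (Nat.find hex) (Nat.find_spec hex)
    (fun i hi => ?_)⟩
  have := Nat.find_min hex hi
  push_neg at this
  exact this

theorem coeff_eq_zero_of_lt (J : Ideal (MvPowerSeries (Fin 2) k))
    (hxy : (X s * X t : MvPowerSeries (Fin 2) k) ∈ J) (a : ℕ)
    (hmin : ∀ i < a, (X s : MvPowerSeries (Fin 2) k) ^ i ∉ J)
    (f : MvPowerSeries (Fin 2) k) (hf : f ∈ J) (i : ℕ) (hi : i + 1 < a) :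
    coeff (Finsupp.single s i) f = 0 := by
  classical
  by_contra hne
  have hex : ∃ i, coeff (Finsupp.single s i) f ≠ 0 := ⟨i, hne⟩
  have h1 : Nat.find hex ≤ i := Nat.find_min' hex hne
  have h2 := pow_mem_of_coeff hst J hxy f hf (Nat.find hex) (Nat.find_spec hex) (fun j hj => by
    have := Nat.find_min hex hj
    push_neg at this
    exact this)
  exact hmin _ (by omega) h2

theorem mem_of_coeff_zero (J : Ideal (MvPowerSeries (Fin 2) k)) (a b : ℕ) (ha : 1 ≤ a) (hb : 1 ≤ b)
    (hxy : (X s * X t : MvPowerSeries (Fin 2) k) ∈ J)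
    (hxa : (X s : MvPowerSeries (Fin 2) k) ^ a ∈ J) (hyb : (X t : MvPowerSeries (Fin 2) k) ^ b ∈ J)
    (f : MvPowerSeries (Fin 2) k)
    (h1 : ∀ i < a, coeff (Finsupp.single s i) f = 0)
    (h2 : ∀ j < b, coeff (Finsupp.single t j) f = 0) : f ∈ J := by
  classical
  let f₁ : MvPowerSeries (Fin 2) k := fun m => if m t = 0 then coeff m f else 0
  let f₂ : MvPowerSeries (Fin 2) k := fun m => if m t ≠ 0 ∧ m s = 0 then coeff m f else 0
  let f₃ : MvPowerSeries (Fin 2) k := fun m => if m t ≠ 0 ∧ m s ≠ 0 then coeff m f else 0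
  have hc1 : ∀ m, coeff m f₁ = if m t = 0 then coeff m f else 0 := fun m => rfl
  have hc2 : ∀ m, coeff m f₂ = if m t ≠ 0 ∧ m s = 0 then coeff m f else 0 := fun m => rfl
  have hc3 : ∀ m, coeff m f₃ = if m t ≠ 0 ∧ m s ≠ 0 then coeff m f else 0 := fun m => rfl
  have hsum : f = f₁ + f₂ + f₃ := by
    ext m
    rw [map_add, map_add, hc1, hc2, hc3]
    by_cases ht : m t = 0
    · simp [ht]
    · by_cases hs : m s = 0
      · simp [ht, hs]
      · simp [ht, hs]
  have hd1 : (X s : MvPowerSeries (Fin 2) k) ^ a ∣ f₁ := by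
    rw [X_pow_dvd_iff]
    intro m hm
    rw [hc1]
    split_ifs with h
    · rw [eq_single_of_t_zero hst m h]
      exact h1 _ hm
    · rfl
  have hd2 : (X t : MvPowerSeries (Fin 2) k) ^ b ∣ f₂ := by
    rw [X_pow_dvd_iff]
    intro m hm
    rw [hc2]
    split_ifs with h
    · rw [eq_single_of_t_zero hst.symm m h.2]
      exact h2 _ hm
    · rfl
  have hd3 : (X s * X t : MvPowerSeries (Fin 2) k) ∣ f₃ := by
    have hds : (X s : MvPowerSeries (Fin 2) k) ∣ f₃ := by
      rw [X_dvd_iff]
      intro m hm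
      rw [hc3, if_neg]
      exact fun h => h.2 hm
    obtain ⟨g, hg⟩ := hds
    have hdt : (X t : MvPowerSeries (Fin 2) k) ∣ g := by
      rw [X_dvd_iff]
      intro m hm
      have h5 : coeff (Finsupp.single s 1 + m) (X s * g) = coeff m g := by
        rw [X_def, coeff_add_monomial_mul, one_mul]
      rw [← h5, ← hg, hc3, if_neg]
      intro h
      apply h.1
      rw [Finsupp.add_apply, single_s_t hst, hm]
    obtain ⟨g', hg'⟩ := hdt
    exact ⟨g', by rw [hg, hg', mul_assoc]⟩
  rw [hsum]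
  refine J.add_mem (J.add_mem ?_ ?_) ?_
  · obtain ⟨u, hu⟩ := hd1
    rw [hu]
    exact J.mul_mem_right _ hxa
  · obtain ⟨u, hu⟩ := hd2
    rw [hu]
    exact J.mul_mem_right _ hyb
  · obtain ⟨u, hu⟩ := hd3
    rw [hu]
    exact J.mul_mem_right _ hxy

theorem claimD (J : Ideal (MvPowerSeries (Fin 2) k)) (a b : ℕ) (ha : 1 ≤ a) (hb : 1 ≤ b)
    (hxy : (X s * X t : MvPowerSeries (Fin 2) k) ∈ J)
    (hxa : (X s : MvPowerSeries (Fin 2) k) ^ a ∈ J) (hyb : (X t : MvPowerSeries (Fin 2) k) ^ b ∈ J)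
    (hbmin : ∀ j < b, (X t : MvPowerSeries (Fin 2) k) ^ j ∉ J)
    (f : MvPowerSeries (Fin 2) k) (hf : f ∈ J)
    (h1 : ∀ i < a, coeff (Finsupp.single s i) f = 0) :
    ∀ j < b, coeff (Finsupp.single t j) f = 0 := by
  classical
  have hyx : (X t * X s : MvPowerSeries (Fin 2) k) ∈ J := by
    rw [mul_comm]
    exact hxy
  intro j hj
  by_cases hj1 : j + 1 < b
  · exact coeff_eq_zero_of_lt hst.symm J hyx b hbmin f hf j hj1
  · by_cases hj0 : j = 0
    · have := h1 0 (by omega)
      rw [Finsupp.single_zero] at this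
      rw [hj0, Finsupp.single_zero]
      exact this
    · by_contra hd
      have hh : f - C (coeff (Finsupp.single t j) f) * X t ^ j ∈ J := by
        apply mem_of_coeff_zero hst J a b ha hb hxy hxa hyb
        · intro i hi
          rw [map_sub, coeff_C_mul, coeff_X_pow, if_neg, mul_zero, sub_zero]
          · exact h1 i hi
          · intro h
            exact hj0 (single_eq_single hst _ _ h).2
        · intro j' hj'
          rw [map_sub, coeff_C_mul, coeff_X_pow]
          by_cases hjj : j' = j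
          · rw [hjj, if_pos rfl, mul_one, sub_self]
          · rw [if_neg, mul_zero, sub_zero]
            · exact coeff_eq_zero_of_lt hst.symm J hyx b hbmin f hf j' (by omega)
            · intro h
              exact hjj (Finsupp.single_injective t h)
      have h3 : C (coeff (Finsupp.single t j) f) * X t ^ j ∈ J := by
        have : C (coeff (Finsupp.single t j) f) * X t ^ j =
            f - (f - C (coeff (Finsupp.single t j) f) * X t ^ j) := by ring
        rw [this]
        exact J.sub_mem hf hh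
      have h4 : (X t : MvPowerSeries (Fin 2) k) ^ j =
          C (coeff (Finsupp.single t j) f)⁻¹ * (C (coeff (Finsupp.single t j) f) * X t ^ j) := by
        rw [← mul_assoc, ← map_mul, inv_mul_cancel₀ hd, map_one, one_mul]
      apply hbmin j hj
      rw [h4]
      exact J.mul_mem_left _ h3

theorem card_T (a b : ℕ) (hb : 1 ≤ b) : (T s t a b).card = a + b - 1 := by
  classical
  rw [T, Finset.card_union_of_disjoint,
    Finset.card_image_of_injective _ (Finsupp.single_injective s),
    Finset.card_image_of_injective _ (Finsupp.single_injective t), Finset.card_range, Nat.card_Ico]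
  · omega
  · rw [Finset.disjoint_left]
    intro m hm1 hm2
    rw [Finset.mem_image] at hm1 hm2
    obtain ⟨i, _, rfl⟩ := hm1
    obtain ⟨j, hj, hij⟩ := hm2
    have := (single_eq_single hst i j hij.symm).2
    rw [Finset.mem_Ico] at hj
    omega

theorem Φ_eq_zero_iff (a b : ℕ) (ha : 1 ≤ a) (f : MvPowerSeries (Fin 2) k) :
    Φ s t a b f = 0 ↔ (∀ i < a, coeff (Finsupp.single s i) f = 0) ∧
      (∀ j < b, coeff (Finsupp.single t j) f = 0) := by
  classical
  constructor
  · intro h
    have hx : ∀ i < a, coeff (Finsupp.single s i) f = 0 := by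
      intro i hi
      have hm : (Finsupp.single s i : Fin 2 →₀ ℕ) ∈ T s t a b :=
        Finset.mem_union_left _ (Finset.mem_image.2 ⟨i, Finset.mem_range.2 hi, rfl⟩)
      exact congrFun h ⟨_, hm⟩
    refine ⟨hx, ?_⟩
    intro j hj
    by_cases hj0 : j = 0
    · have := hx 0 (by omega)
      rw [Finsupp.single_zero] at this
      rw [hj0, Finsupp.single_zero]
      exact this
    · have hm : (Finsupp.single t j : Fin 2 →₀ ℕ) ∈ T s t a b :=
        Finset.mem_union_right _ (Finset.mem_image.2 ⟨j, Finset.mem_Ico.2 ⟨by omega, hj⟩, rfl⟩)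
      exact congrFun h ⟨_, hm⟩
  · rintro ⟨hx, hy⟩
    ext ⟨m, hm⟩
    rw [Φ_apply]
    change coeff m f = 0
    rcases Finset.mem_union.1 hm with h | h
    · obtain ⟨i, hi, rfl⟩ := Finset.mem_image.1 h
      exact hx i (Finset.mem_range.1 hi)
    · obtain ⟨j, hj, rfl⟩ := Finset.mem_image.1 h
      exact hy j (Finset.mem_Ico.1 hj).2

end axis

theorem finrank_formula {V : Type*} [AddCommGroup V] [Module k V] [Module.Finite k V]
    (J : Ideal (MvPowerSeries (Fin 2) k))
    (φ : MvPowerSeries (Fin 2) k →ₗ[k] V) (hφ : Function.Surjective φ)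
    (hker : ∀ f, φ f = 0 → f ∈ J) :
    Module.finrank k (MvPowerSeries (Fin 2) k ⧸ J) +
      Module.finrank k ((J.restrictScalars k).map φ) = Module.finrank k V := by
  set W := (J.restrictScalars k).map φ with hW
  let ψ : MvPowerSeries (Fin 2) k →ₗ[k] V ⧸ W := W.mkQ ∘ₗ φ
  have hψ : Function.Surjective ψ := (Submodule.mkQ_surjective W).comp hφ
  let π : MvPowerSeries (Fin 2) k →ₗ[k] (MvPowerSeries (Fin 2) k ⧸ J) :=
    (Ideal.Quotient.mkₐ k J).toLinearMap
  have hπ : Function.Surjective π := Ideal.Quotient.mkₐ_surjective k J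
  have hkk : LinearMap.ker π = LinearMap.ker ψ := by
    ext f
    rw [LinearMap.mem_ker, LinearMap.mem_ker]
    change Ideal.Quotient.mk J f = 0 ↔ W.mkQ (φ f) = 0
    rw [Ideal.Quotient.eq_zero_iff_mem, Submodule.mkQ_apply, Submodule.Quotient.mk_eq_zero]
    constructor
    · intro hf
      exact ⟨f, hf, rfl⟩
    · rintro ⟨j, hj, hjf⟩
      have h1 : f - j ∈ J := hker _ (by rw [map_sub, hjf, sub_self])
      have h2 : f = (f - j) + j := by ring
      rw [h2]
      exact J.add_mem h1 hj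
  let e : (MvPowerSeries (Fin 2) k ⧸ J) ≃ₗ[k] V ⧸ W :=
    (π.quotKerEquivOfSurjective hπ).symm ≪≫ₗ Submodule.quotEquivOfEq _ _ hkk ≪≫ₗ
      ψ.quotKerEquivOfSurjective hψ
  rw [e.finrank_eq]
  exact Submodule.finrank_quotient_add_finrank W

end Groth.Agent.Lib.Helper16.Nodal
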