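import Groth.Agent.Lib.Helper16.Nodal1

/-!
# Ideals containing xy of finite colength in k[[x,y]] (part 2)
-/

set_option autoImplicit false
universe u
open MvPowerSeries

namespace Groth.Agent.Lib.Helper16.Nodal

variable {k : Type u} [Field k]

section axis
variable {s t : Fin 2} (hst : s ≠ t)
include hst

theorem pow_mem_span_pair (a' b' : ℕ) (α : k) (hα : α ≠ 0) :
    (X s : MvPowerSeries (Fin 2) k) ^ (a' + 2) ∈
      Ideal.span {X s * X t, X s ^ (a' + 1) + C α * X t ^ (b' + 1)} ∧
    (X t : MvPowerSeries (Fin 2) k) ^ (b' + 2) ∈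
      Ideal.span {(X s * X t : MvPowerSeries (Fin 2) k), X s ^ (a' + 1) + C α * X t ^ (b' + 1)} := by
  have hxy1 : (X s * X t : MvPowerSeries (Fin 2) k) ∈
      Ideal.span {(X s * X t : MvPowerSeries (Fin 2) k), X s ^ (a' + 1) + C α * X t ^ (b' + 1)} :=
    Ideal.subset_span (by simp)
  have hg1 : (X s ^ (a' + 1) + C α * X t ^ (b' + 1) : MvPowerSeries (Fin 2) k) ∈
      Ideal.span {(X s * X t : MvPowerSeries (Fin 2) k), X s ^ (a' + 1) + C α * X t ^ (b' + 1)} :=
    Ideal.subset_span (by simp)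
  constructor
  · have h : (X s : MvPowerSeries (Fin 2) k) ^ (a' + 2) =
        X s * (X s ^ (a' + 1) + C α * X t ^ (b' + 1)) - C α * X t ^ b' * (X s * X t) := by
      ring
    rw [h]
    exact Ideal.sub_mem _ (Ideal.mul_mem_left _ _ hg1) (Ideal.mul_mem_left _ _ hxy1)
  · have h : (X t : MvPowerSeries (Fin 2) k) ^ (b' + 2) =
        C α⁻¹ * (X t * (X s ^ (a' + 1) + C α * X t ^ (b' + 1)) - X s ^ a' * (X s * X t)) := by
      have h1 : (C α⁻¹ * C α : MvPowerSeries (Fin 2) k) = 1 := by
        rw [← map_mul, inv_mul_cancel₀ hα, map_one]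
      have h2 : (X t * (X s ^ (a' + 1) + C α * X t ^ (b' + 1)) - X s ^ a' * (X s * X t) :
          MvPowerSeries (Fin 2) k) = C α * X t ^ (b' + 2) := by
        ring
      rw [h2, ← mul_assoc, h1, one_mul]
    rw [h]
    exact Ideal.mul_mem_left _ _
      (Ideal.sub_mem _ (Ideal.mul_mem_left _ _ hg1) (Ideal.mul_mem_left _ _ hxy1))

theorem caseB (J : Ideal (MvPowerSeries (Fin 2) k))
    (hxy : (X s * X t : MvPowerSeries (Fin 2) k) ∈ J) (a' b' : ℕ)
    (hxa : (X s : MvPowerSeries (Fin 2) k) ^ (a' + 2) ∈ J)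
    (hyb : (X t : MvPowerSeries (Fin 2) k) ^ (b' + 2) ∈ J)
    (hamin : ∀ i < a' + 2, (X s : MvPowerSeries (Fin 2) k) ^ i ∉ J)
    (hbmin : ∀ j < b' + 2, (X t : MvPowerSeries (Fin 2) k) ^ j ∉ J)
    (f : MvPowerSeries (Fin 2) k) (hf : f ∈ J)
    (hcf : coeff (Finsupp.single s (a' + 1)) f ≠ 0)
    (hdf : coeff (Finsupp.single t (b' + 1)) f ≠ 0) :
    ∃ α : k, α ≠ 0 ∧
      J = Ideal.span {X s * X t, X s ^ (a' + 1) + C α * X t ^ (b' + 1)} ∧
      Module.finrank k ((J.restrictScalars k).map (Φ (k := k) s t (a' + 2) (b' + 2))) = 1 := by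
  classical
  have hyx : (X t * X s : MvPowerSeries (Fin 2) k) ∈ J := by
    rw [mul_comm]
    exact hxy
  set c := coeff (Finsupp.single s (a' + 1)) f with hc
  set d := coeff (Finsupp.single t (b' + 1)) f with hd
  have hα : d / c ≠ 0 := div_ne_zero hdf hcf
  refine ⟨d / c, hα, ?_⟩
  set g : MvPowerSeries (Fin 2) k := X s ^ (a' + 1) + C (d / c) * X t ^ (b' + 1) with hg
  have hg1 : ∀ i, coeff (Finsupp.single s i) g = if i = a' + 1 then 1 else 0 := by
    intro i
    rw [hg, map_add, coeff_C_mul, coeff_X_pow, coeff_X_pow]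
    have h1 : ¬ ((Finsupp.single s i : Fin 2 →₀ ℕ) = Finsupp.single t (b' + 1)) := by
      intro h
      have := (single_eq_single hst _ _ h).2
      omega
    have h2 : ((Finsupp.single s i : Fin 2 →₀ ℕ) = Finsupp.single s (a' + 1)) ↔ i = a' + 1 :=
      (Finsupp.single_injective s).eq_iff
    rw [if_neg h1, mul_zero, add_zero]
    simp only [h2]
  have hg2 : ∀ j, coeff (Finsupp.single t j) g = if j = b' + 1 then d / c else 0 := by
    intro j
    rw [hg, map_add, coeff_C_mul, coeff_X_pow, coeff_X_pow]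
    have h1 : ¬ ((Finsupp.single t j : Fin 2 →₀ ℕ) = Finsupp.single s (a' + 1)) := by
      intro h
      have := (single_eq_single hst.symm _ _ h).2
      omega
    have h2 : ((Finsupp.single t j : Fin 2 →₀ ℕ) = Finsupp.single t (b' + 1)) ↔ j = b' + 1 :=
      (Finsupp.single_injective t).eq_iff
    rw [if_neg h1, zero_add]
    simp only [h2, mul_ite, mul_one, mul_zero]
  have hgJ : g ∈ J := by
    have hh : f - C c * g ∈ J := by
      apply mem_of_coeff_zero hst J (a' + 2) (b' + 2) (by omega) (by omega) hxy hxa hyb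
      · intro i hi
        rw [map_sub, coeff_C_mul, hg1]
        split_ifs with h
        · rw [h, mul_one, sub_self]
        · rw [coeff_eq_zero_of_lt hst J hxy (a' + 2) hamin f hf i (by omega)]
          simp
      · intro j hj
        rw [map_sub, coeff_C_mul, hg2]
        split_ifs with h
        · rw [h, mul_div_cancel₀ _ hcf, sub_self]
        · rw [coeff_eq_zero_of_lt hst.symm J hyx (b' + 2) hbmin f hf j (by omega)]
          simp
    have h3 : C c * g ∈ J := by
      have : C c * g = f - (f - C c * g) := by ring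
      rw [this]
      exact J.sub_mem hf hh
    have h4 : g = C c⁻¹ * (C c * g) := by
      rw [← mul_assoc, ← map_mul, inv_mul_cancel₀ hcf, map_one, one_mul]
    rw [h4]
    exact J.mul_mem_left _ h3
  have key : ∀ f' ∈ J,
      (∀ i < a' + 2, coeff (Finsupp.single s i)
        (f' - C (coeff (Finsupp.single s (a' + 1)) f') * g) = 0) ∧
      (∀ j < b' + 2, coeff (Finsupp.single t j)
        (f' - C (coeff (Finsupp.single s (a' + 1)) f') * g) = 0) := by
    intro f' hf'
    have hx' : ∀ i < a' + 2, coeff (Finsupp.single s i)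
        (f' - C (coeff (Finsupp.single s (a' + 1)) f') * g) = 0 := by
      intro i hi
      rw [map_sub, coeff_C_mul, hg1]
      split_ifs with h
      · rw [h, mul_one, sub_self]
      · rw [coeff_eq_zero_of_lt hst J hxy (a' + 2) hamin f' hf' i (by omega)]
        simp
    have hmem : f' - C (coeff (Finsupp.single s (a' + 1)) f') * g ∈ J :=
      J.sub_mem hf' (J.mul_mem_left _ hgJ)
    exact ⟨hx', claimD hst J (a' + 2) (b' + 2) (by omega) (by omega) hxy hxa hyb hbmin _ hmem hx'⟩
  obtain ⟨hp1, hp2⟩ := pow_mem_span_pair (k := k) hst a' b' (d / c) hα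
  have hxy1 : (X s * X t : MvPowerSeries (Fin 2) k) ∈
      Ideal.span {(X s * X t : MvPowerSeries (Fin 2) k), g} := Ideal.subset_span (by simp)
  have hg1' : g ∈ Ideal.span {(X s * X t : MvPowerSeries (Fin 2) k), g} :=
    Ideal.subset_span (by simp)
  constructor
  · apply le_antisymm
    · intro f' hf'
      obtain ⟨h1, h2⟩ := key f' hf'
      have h3 := mem_of_coeff_zero hst (Ideal.span {(X s * X t : MvPowerSeries (Fin 2) k), g})
        (a' + 2) (b' + 2) (by omega) (by omega) hxy1 hp1 hp2 _ h1 h2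
      have h4 : f' = (f' - C (coeff (Finsupp.single s (a' + 1)) f') * g) +
          C (coeff (Finsupp.single s (a' + 1)) f') * g := by ring
      rw [h4]
      exact Ideal.add_mem _ h3 (Ideal.mul_mem_left _ _ hg1')
    · rw [Ideal.span_le]
      intro x hx
      simp only [Set.mem_insert_iff, Set.mem_singleton_iff] at hx
      rcases hx with rfl | rfl
      · exact hxy
      · exact hgJ
  · have hΦg : Φ (k := k) s t (a' + 2) (b' + 2) g ≠ 0 := by
      intro h0
      have := ((Φ_eq_zero_iff hst (a' + 2) (b' + 2) (by omega) g).1 h0).1 (a' + 1) (by omega)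
      rw [hg1, if_pos rfl] at this
      exact one_ne_zero this
    have hW : (J.restrictScalars k).map (Φ (k := k) s t (a' + 2) (b' + 2)) =
        Submodule.span k {Φ (k := k) s t (a' + 2) (b' + 2) g} := by
      apply le_antisymm
      · rintro _ ⟨f', hf', rfl⟩
        rw [Submodule.mem_span_singleton]
        refine ⟨coeff (Finsupp.single s (a' + 1)) f', ?_⟩
        obtain ⟨h1, h2⟩ := key f' hf'
        have h3 := (Φ_eq_zero_iff hst (a' + 2) (b' + 2) (by omega) _).2 ⟨h1, h2⟩
        rw [map_sub, sub_eq_zero, ← smul_eq_C_mul, map_smul] at h3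
        exact h3.symm
      · rw [Submodule.span_le, Set.singleton_subset_iff]
        exact ⟨g, hgJ, rfl⟩
    rw [hW, finrank_span_singleton hΦg]

theorem main (J : Ideal (MvPowerSeries (Fin 2) k))
    (hxy : (X s * X t : MvPowerSeries (Fin 2) k) ∈ J)
    [Module.Finite k (MvPowerSeries (Fin 2) k ⧸ J)] (n : ℕ)
    (hn : Module.finrank k (MvPowerSeries (Fin 2) k ⧸ J) = n) (h2 : 2 ≤ n) :
    ∃ a b : ℕ, 1 ≤ a ∧ 1 ≤ b ∧
      ((a + b = n + 1 ∧
        J = Ideal.span {X s * X t, X s ^ a, X t ^ b}) ∨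
       (a + b = n ∧ ∃ α : k, α ≠ 0 ∧
        J = Ideal.span {X s * X t, X s ^ a + C α * X t ^ b})) := by
  classical
  have hyx : (X t * X s : MvPowerSeries (Fin 2) k) ∈ J := by
    rw [mul_comm]
    exact hxy
  have hJtop : J ≠ ⊤ := by
    intro h
    have h1 : Subsingleton (MvPowerSeries (Fin 2) k ⧸ J) := Ideal.Quotient.subsingleton_iff.2 h
    have h3 := Module.finrank_zero_of_subsingleton (R := k) (M := MvPowerSeries (Fin 2) k ⧸ J)
    omega
  have hexa := exists_pow_mem hst J hxy
  have hexb := exists_pow_mem hst.symm J hyx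
  obtain ⟨a, hxa, hamin⟩ : ∃ a, (X s : MvPowerSeries (Fin 2) k) ^ a ∈ J ∧
      ∀ i < a, (X s : MvPowerSeries (Fin 2) k) ^ i ∉ J :=
    ⟨Nat.find hexa, Nat.find_spec hexa, fun i hi => Nat.find_min hexa hi⟩
  obtain ⟨b, hyb, hbmin⟩ : ∃ b, (X t : MvPowerSeries (Fin 2) k) ^ b ∈ J ∧
      ∀ j < b, (X t : MvPowerSeries (Fin 2) k) ^ j ∉ J :=
    ⟨Nat.find hexb, Nat.find_spec hexb, fun i hi => Nat.find_min hexb hi⟩
  have ha1 : 1 ≤ a := by
    rcases Nat.eq_zero_or_pos a with h | h
    · exfalso
      apply hJtop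
      rw [Ideal.eq_top_iff_one]
      rw [h, pow_zero] at hxa
      exact hxa
    · exact h
  have hb1 : 1 ≤ b := by
    rcases Nat.eq_zero_or_pos b with h | h
    · exfalso
      apply hJtop
      rw [Ideal.eq_top_iff_one]
      rw [h, pow_zero] at hyb
      exact hyb
    · exact h
  have hconst : ∀ f ∈ J, coeff (0 : Fin 2 →₀ ℕ) f = 0 := by
    intro f hf
    by_contra h
    apply hJtop
    apply Ideal.eq_top_of_isUnit_mem _ hf
    rw [isUnit_iff_constantCoeff]
    exact IsUnit.mk0 _ h
  have hker : ∀ f, Φ (k := k) s t a b f = 0 → f ∈ J := by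
    intro f hf
    obtain ⟨h1, h2⟩ := (Φ_eq_zero_iff hst a b ha1 f).1 hf
    exact mem_of_coeff_zero hst J a b ha1 hb1 hxy hxa hyb f h1 h2
  have hdim := finrank_formula J (Φ (k := k) s t a b) (Φ_surjective s t a b) hker
  rw [hn, Module.finrank_fintype_fun_eq_card, Fintype.card_coe, card_T hst a b hb1] at hdim
  by_cases hA : ∀ f ∈ J, coeff (Finsupp.single s (a - 1)) f = 0
  · have hΦJ : ∀ f ∈ J, Φ (k := k) s t a b f = 0 := by
      intro f hf
      have h1 : ∀ i < a, coeff (Finsupp.single s i) f = 0 := by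
        intro i hi
        by_cases hi1 : i + 1 < a
        · exact coeff_eq_zero_of_lt hst J hxy a hamin f hf i hi1
        · have : i = a - 1 := by omega
          rw [this]
          exact hA f hf
      exact (Φ_eq_zero_iff hst a b ha1 f).2
        ⟨h1, claimD hst J a b ha1 hb1 hxy hxa hyb hbmin f hf h1⟩
    have hW : (J.restrictScalars k).map (Φ (k := k) s t a b) = ⊥ := by
      rw [eq_bot_iff]
      rintro _ ⟨f, hf, rfl⟩
      rw [hΦJ f hf]
      exact zero_mem _
    rw [hW, finrank_bot, add_zero] at hdim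
    refine ⟨a, b, ha1, hb1, Or.inl ⟨by omega, le_antisymm ?_ ?_⟩⟩
    · intro f hf
      obtain ⟨h1, h2⟩ := (Φ_eq_zero_iff hst a b ha1 f).1 (hΦJ f hf)
      exact mem_of_coeff_zero hst _ a b ha1 hb1 (Ideal.subset_span (by simp))
        (Ideal.subset_span (by simp)) (Ideal.subset_span (by simp)) f h1 h2
    · rw [Ideal.span_le]
      intro x hx
      simp only [Set.mem_insert_iff, Set.mem_singleton_iff] at hx
      rcases hx with rfl | rfl | rfl
      · exact hxy
      · exact hxa
      · exact hyb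
  · push_neg at hA
    obtain ⟨f, hf, hcf⟩ := hA
    have ha2 : 2 ≤ a := by
      by_contra h
      have h1 : a = 1 := by omega
      apply hcf
      rw [h1]
      have := hconst f hf
      simpa using this
    have hdf : coeff (Finsupp.single t (b - 1)) f ≠ 0 := by
      intro hd
      apply hcf
      have h2 : ∀ j < b, coeff (Finsupp.single t j) f = 0 := by
        intro j hj
        by_cases hj1 : j + 1 < b
        · exact coeff_eq_zero_of_lt hst.symm J hyx b hbmin f hf j hj1
        · have : j = b - 1 := by omega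
          rw [this]
          exact hd
      exact claimD hst.symm J b a hb1 ha1 hyx hyb hxa hamin f hf h2 (a - 1) (by omega)
    have hb2 : 2 ≤ b := by
      by_contra h
      have h1 : b = 1 := by omega
      apply hdf
      rw [h1]
      have := hconst f hf
      simpa using this
    obtain ⟨a', rfl⟩ : ∃ a', a = a' + 2 := ⟨a - 2, by omega⟩
    obtain ⟨b', rfl⟩ : ∃ b', b = b' + 2 := ⟨b - 2, by omega⟩
    have e1 : a' + 2 - 1 = a' + 1 := rfl
    have e2 : b' + 2 - 1 = b' + 1 := rfl
    rw [e1] at hcf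
    rw [e2] at hdf
    obtain ⟨α, hα, hJ, hfr⟩ := caseB hst J hxy a' b' hxa hyb hamin hbmin f hf hcf hdf
    rw [hfr] at hdim
    exact ⟨a' + 1, b' + 1, by omega, by omega, Or.inr ⟨by omega, α, hα, hJ⟩⟩

end axis

end Groth.Agent.Lib.Helper16.Nodal
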