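import Mathlib
import Groth.Prelude.Def_PLie

/-!
# Killing orthogonal of the normaliser of a p-nilpotent radical (helper16)
-/

set_option autoImplicit false
universe u v

namespace Groth.Agent.Lib.Helper16.PLieKill

open LieAlgebra LieModule

variable {k : Type u} [Field k] {p : ℕ} [Fact p.Prime] [CharP k p]
  {L : Type v} [LieRing L] [LieAlgebra k L] [Module.Finite k L]

omit [Fact p.Prime] [Module.Finite k L] in
theorem ad_iterate (φ : PLie.PMap k p L) (x : L) (n : ℕ) :
    ad k L (φ.toFun^[n] x) = ad k L x ^ (p ^ n) := by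
  induction n generalizing x with
  | zero => simp
  | succ n ih =>
    rw [Function.iterate_succ_apply, ih, φ.ad_map, ← pow_mul, pow_succ']

omit [Fact p.Prime] [Module.Finite k L] in
theorem isNilpotent_ad_of_isPNilpotent (φ : PLie.PMap k p L) {x : L}
    (hx : PLie.IsPNilpotent φ x) : IsNilpotent (ad k L x) := by
  obtain ⟨n, hn⟩ := hx
  refine ⟨p ^ n, ?_⟩
  rw [← ad_iterate φ x n, hn, map_zero]

omit [Fact p.Prime] [CharP k p] in
/-- if `U` consists of ad-nilpotent elements and `H` normalises `U`, then `U ⊥ H` for the Killing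
form -/
theorem killingForm_eq_zero (U H : LieSubalgebra k L)
    (hnil : ∀ u ∈ U, IsNilpotent (ad k L u))
    (hnorm : ∀ h ∈ H, ∀ u ∈ U, ⁅h, u⁆ ∈ U) (h : L) (hh : h ∈ H) (u : L) (hu : u ∈ U) :
    killingForm k L h u = 0 := by
  have hN : LieModule.IsNilpotent ↥U L := by
    rw [LieModule.isNilpotent_iff_forall' (R := k)]
    intro x
    have : LieModule.toEnd k ↥U L x = ad k L (x : L) := rfl
    rw [this]
    exact hnil x x.2
  obtain ⟨m, hm⟩ := LieModule.IsNilpotent.nilpotent (R := k) (L := ↥U) (M := L)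
  -- stability of the lower central series under `H`
  have hstab : ∀ i : ℕ, ∀ y ∈ lowerCentralSeries k ↥U L i, ⁅h, y⁆ ∈ lowerCentralSeries k ↥U L i := by
    intro i
    induction i with
    | zero =>
      intro y _
      rw [lowerCentralSeries_zero]
      exact LieSubmodule.mem_top _
    | succ i ih =>
      intro y hy
      rw [lowerCentralSeries_succ] at hy ⊢
      rw [← LieSubmodule.mem_toSubmodule, LieSubmodule.lieIdeal_oper_eq_linear_span'] at hy ⊢
      refine Submodule.span_induction (p := fun y _ => ⁅h, y⁆ ∈ Submodule.span k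
        {x | ∃ a ∈ (⊤ : LieIdeal k ↥U), ∃ n ∈ lowerCentralSeries k ↥U L i, ⁅a, n⁆ = x})
        ?_ ?_ ?_ ?_ hy
      · rintro z ⟨a, -, n, hn, rfl⟩
        have h1 : ⁅h, ⁅a, n⁆⁆ = ⁅(⟨⁅h, (a : L)⁆, hnorm h hh a a.2⟩ : ↥U), n⁆ + ⁅a, ⁅h, n⁆⁆ := by
          change ⁅h, ⁅(a : L), n⁆⁆ = ⁅⁅h, (a : L)⁆, n⁆ + ⁅(a : L), ⁅h, n⁆⁆
          exact leibniz_lie h (a : L) n
        rw [h1]
        apply Submodule.add_mem
        · exact Submodule.subset_span ⟨_, LieSubmodule.mem_top _, n, hn, rfl⟩
        · exact Submodule.subset_span ⟨a, LieSubmodule.mem_top _, ⁅h, n⁆, ih n hn, rfl⟩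
      · rw [lie_zero]
        exact Submodule.zero_mem _
      · intro a b _ _ ha hb
        rw [lie_add]
        exact Submodule.add_mem _ ha hb
      · intro t a _ ha
        rw [lie_smul]
        exact Submodule.smul_mem _ t ha
  have hstep : ∀ i : ℕ, ∀ y ∈ lowerCentralSeries k ↥U L i,
      ⁅u, y⁆ ∈ lowerCentralSeries k ↥U L (i + 1) := by
    intro i y hy
    rw [lowerCentralSeries_succ]
    exact LieSubmodule.lie_mem_lie (LieSubmodule.mem_top (⟨u, hu⟩ : ↥U)) hy
  have hpow : ∀ i : ℕ, ∀ y : L,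
      ((ad k L h ∘ₗ ad k L u) ^ i) y ∈ lowerCentralSeries k ↥U L i := by
    intro i
    induction i with
    | zero =>
      intro y
      rw [lowerCentralSeries_zero]
      exact LieSubmodule.mem_top _
    | succ i ih =>
      intro y
      rw [pow_succ', Module.End.mul_apply]
      exact hstab (i + 1) _ (hstep i _ (ih y))
  have hnilp : IsNilpotent (ad k L h ∘ₗ ad k L u) := by
    refine ⟨m, ?_⟩
    apply LinearMap.ext
    intro y
    have := hpow m y
    rw [hm, LieSubmodule.mem_bot] at this
    exact this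
  rw [killingForm_apply_apply]
  exact (LinearMap.isNilpotent_trace_of_isNilpotent hnilp).eq_zero

theorem main (φ : PLie.PMap k p L) (hκ : (killingForm k L).Nondegenerate)
    (U H : LieSubalgebra k L) (hH : H = U.normalizer)
    (hU : ∀ x : L, x ∈ U ↔ ∃ hx : x ∈ H,
      (⟨x, hx⟩ : ↥H) ∈ LieAlgebra.radical k ↥H ∧ PLie.IsPNilpotent φ x)
    (hperp : ∀ a b : L, (∀ y ∈ U, killingForm k L a y = 0) → (∀ y ∈ U, killingForm k L b y = 0) →
      ∀ y ∈ U, killingForm k L ⁅a, b⁆ y = 0) :
    ∀ x : L, x ∈ U ↔ ∀ h ∈ H, killingForm k L h x = 0 := by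
  have hnil : ∀ u ∈ U, IsNilpotent (ad k L u) := fun u hu =>
    isNilpotent_ad_of_isPNilpotent φ ((hU u).1 hu).2.2
  have hnorm : ∀ h ∈ H, ∀ u ∈ U, ⁅h, u⁆ ∈ U := by
    intro h hh u hu
    rw [hH, LieSubalgebra.mem_normalizer_iff] at hh
    exact hh u hu
  have hsymm : ∀ a b : L, killingForm k L a b = killingForm k L b a :=
    fun a b => LieModule.traceForm_comm k L L a b
  have hrefl : (killingForm k L).IsRefl := by
    intro a b hab
    rw [hsymm, hab]
  have hdd := LinearMap.BilinForm.orthogonal_orthogonal hκ hrefl U.toSubmodule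
  have hmemP : ∀ a : L, a ∈ (killingForm k L).orthogonal U.toSubmodule ↔
      ∀ y ∈ U, killingForm k L a y = 0 := by
    intro a
    rw [LinearMap.BilinForm.mem_orthogonal_iff]
    constructor
    · intro h y hy
      rw [hsymm]
      exact h y hy
    · intro h y hy
      change killingForm k L y a = 0
      rw [hsymm]
      exact h y hy
  -- `P ⊆ H`
  have hPH : ∀ a : L, (∀ y ∈ U, killingForm k L a y = 0) → a ∈ H := by
    intro a ha
    rw [hH, LieSubalgebra.mem_normalizer_iff]
    intro u hu
    have h1 : ⁅a, u⁆ ∈ (killingForm k L).orthogonal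
        ((killingForm k L).orthogonal U.toSubmodule) := by
      rw [LinearMap.BilinForm.mem_orthogonal_iff]
      intro b hb
      rw [hmemP] at hb
      change killingForm k L b ⁅a, u⁆ = 0
      rw [← LieModule.traceForm_apply_lie_apply]
      exact hperp b a hb ha u hu
    rw [hdd] at h1
    exact h1
  intro x
  constructor
  · intro hx h hh
    exact killingForm_eq_zero U H hnil hnorm h hh x hx
  · intro hx
    have h1 : x ∈ (killingForm k L).orthogonal
        ((killingForm k L).orthogonal U.toSubmodule) := by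
      rw [LinearMap.BilinForm.mem_orthogonal_iff]
      intro b hb
      rw [hmemP] at hb
      exact hx b (hPH b hb)
    rw [hdd] at h1
    exact h1

end Groth.Agent.Lib.Helper16.PLieKill
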