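import Groth.Agent.Lib.Helper17.PLinear

/-!
# Trace of a commuting linear map on the fixed points of a p-linear map (abstract form)
-/

set_option autoImplicit false

namespace Groth.Agent.Lib.Helper16.PLinTr

open Module

universe u

section Indep

variable {p : ℕ} [hp : Fact p.Prime] {K : Type*} [Field K] [CharP K p]
  {U : Type*} [AddCommGroup U] [Module K U]
  {F₀ : Type*} [Field F₀] [Algebra F₀ K] [Module F₀ U] [IsScalarTower F₀ K U]

open Classical in
/-- Artin-type argument for families: fixed vectors of a `p`-linear map that are independent over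
the fixed field of Frobenius are independent over `K`. -/
theorem indep_fam_aux (Φ : U →+ U) (hΦ : ∀ (a : K) (u : U), Φ (a • u) = a ^ p • Φ u)
    (hF₀ : ∀ x : K, x ^ p = x → ∃ a : F₀, algebraMap F₀ K a = x)
    {ι : Type*} [Fintype ι] (w : ι → U) (hw : ∀ i, Φ (w i) = w i)
    (hli : LinearIndependent F₀ w) :
    ∀ (n : ℕ) (g : ι → K), (Finset.univ.filter (fun i => g i ≠ 0)).card = n →
      (∑ i, g i • w i) = 0 → g = 0 := by
  intro n
  induction n using Nat.strong_induction_on with
  | _ n ih =>
  intro g hcard hrel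
  by_contra hg
  obtain ⟨i₀, hi₀⟩ : ∃ i₀, g i₀ ≠ 0 := by
    by_contra hcon
    push Not at hcon
    exact hg (funext hcon)
  set g' : ι → K := fun i => g i / g i₀ with hg'
  have hrel' : (∑ i, g' i • w i) = 0 := by
    have : (∑ i, g' i • w i) = (g i₀)⁻¹ • ∑ i, g i • w i := by
      rw [Finset.smul_sum]
      refine Finset.sum_congr rfl (fun v _ => ?_)
      rw [smul_smul, hg']
      dsimp only
      rw [div_eq_inv_mul]
    rw [this, hrel, smul_zero]
  have hrelF : (∑ i, (g' i) ^ p • w i) = 0 := by
    have := congrArg Φ hrel'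
    rw [map_sum, map_zero] at this
    rw [← this]
    refine Finset.sum_congr rfl (fun v _ => ?_)
    rw [hΦ, hw v]
  set h : ι → K := fun i => (g' i) ^ p - g' i with hh
  have hrelh : (∑ i, h i • w i) = 0 := by
    simp only [hh, sub_smul, Finset.sum_sub_distrib, hrelF, hrel', sub_zero]
  have hg'i₀ : g' i₀ = 1 := div_self hi₀
  have hsub : Finset.univ.filter (fun i => h i ≠ 0) ⊂ Finset.univ.filter (fun i => g i ≠ 0) := by
    rw [Finset.ssubset_iff_of_subset]
    · refine ⟨i₀, by simp [hi₀], ?_⟩
      simp [hh, hg'i₀]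
    · intro i hi
      simp only [Finset.mem_filter, Finset.mem_univ, true_and] at hi ⊢
      intro hgi
      apply hi
      simp [hh, hg', hgi, hp.out.ne_zero]
  have hh0 : h = 0 := ih _ (hcard ▸ Finset.card_lt_card hsub) h rfl hrelh
  have hfix : ∀ i, (g' i) ^ p = g' i := fun i => by
    have := congrFun hh0 i
    simpa [hh, sub_eq_zero] using this
  choose c hc using fun i => hF₀ (g' i) (hfix i)
  have hrelc : (∑ i, c i • w i) = 0 := by
    rw [← hrel']
    refine Finset.sum_congr rfl (fun v _ => ?_)
    rw [← hc v, algebraMap_smul]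
  have hc0 := (Fintype.linearIndependent_iff.1 hli) c hrelc i₀
  have : g' i₀ = 0 := by rw [← hc i₀, hc0, map_zero]
  rw [hg'i₀] at this
  exact one_ne_zero this

theorem indep_fam (Φ : U →+ U) (hΦ : ∀ (a : K) (u : U), Φ (a • u) = a ^ p • Φ u)
    (hF₀ : ∀ x : K, x ^ p = x → ∃ a : F₀, algebraMap F₀ K a = x)
    {ι : Type*} [Fintype ι] (w : ι → U) (hw : ∀ i, Φ (w i) = w i)
    (hli : LinearIndependent F₀ w) : LinearIndependent K w := by
  classical
  rw [Fintype.linearIndependent_iff]
  intro g hg i
  have := indep_fam_aux Φ hΦ hF₀ w hw hli _ g rfl hg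
  rw [this]
  rfl

end Indep

section Main

variable {p : ℕ} [hp : Fact p.Prime] {K : Type u} [Field K] [IsAlgClosed K] [CharP K p]
  {U : Type u} [AddCommGroup U] [Module K U] [FiniteDimensional K U]
  {F₀ : Type*} [Field F₀] [Algebra F₀ K] [Module F₀ U] [IsScalarTower F₀ K U]

/-- The fixed points of a `p`-linear map on a finite-dimensional space are finite over the fixed
field of Frobenius. -/
theorem finite_fixed (Φ : U →+ U) (hΦ : ∀ (a : K) (u : U), Φ (a • u) = a ^ p • Φ u)
    (hF₀ : ∀ x : K, x ^ p = x → ∃ a : F₀, algebraMap F₀ K a = x)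
    (W : Submodule F₀ U) (hW : ∀ y, y ∈ W ↔ Φ y = y) : Module.Finite F₀ W := by
  rw [← Module.rank_lt_aleph0_iff]
  refine lt_of_le_of_lt (rank_le (n := Module.finrank K U) ?_) (Cardinal.nat_lt_aleph0 _)
  intro s hs
  have h1 : LinearIndependent F₀ (fun i : s => ((i : W) : U)) :=
    hs.map' W.subtype (Submodule.ker_subtype W)
  have h2 : LinearIndependent K (fun i : s => ((i : W) : U)) :=
    indep_fam Φ hΦ hF₀ _ (fun i => (hW _).1 (i : W).2) h1
  have := h2.fintype_card_le_finrank
  simpa using this

/-- **Trace on the fixed points.** -/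
theorem trace_fixed (Φ : U →+ U) (hΦ : ∀ (a : K) (u : U), Φ (a • u) = a ^ p • Φ u)
    (hF₀ : ∀ x : K, x ^ p = x → ∃ a : F₀, algebraMap F₀ K a = x)
    (T : U →ₗ[K] U) (hcomm : ∀ u, Φ (T u) = T (Φ u))
    (hnil : ∀ v, (∃ m : ℕ, (⇑Φ)^[m] v = 0) → ∃ m : ℕ, (T ^ m) v = 0)
    (W : Submodule F₀ U) (hW : ∀ y, y ∈ W ↔ Φ y = y) [Module.Finite F₀ W]
    (G : W →ₗ[F₀] W) (hG : ∀ y : W, ((G y : W) : U) = T y) :
    algebraMap F₀ K (LinearMap.trace F₀ W G) = LinearMap.trace K U T := by
  classical
  obtain ⟨hc, -⟩ := Groth.Agent.Lib.Helper17.PLinear.main p K U Φ hΦ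
  set Vn : Submodule K U := Submodule.span K {v : U | ∃ m : ℕ, (⇑Φ)^[m] v = 0} with hVn
  -- basis of W and the induced family
  let b : Basis (Fin (Module.finrank F₀ W)) F₀ W := Module.finBasis F₀ W
  set w : Fin (Module.finrank F₀ W) → U := fun i => ((b i : W) : U) with hw
  have hwfix : ∀ i, Φ (w i) = w i := fun i => (hW _).1 (b i).2
  have hli₀ : LinearIndependent F₀ w := b.linearIndependent.map' W.subtype (Submodule.ker_subtype W)
  have hli : LinearIndependent K w := indep_fam Φ hΦ hF₀ w hwfix hli₀
  have hVs : Submodule.span K {v : U | Φ v = v} = Submodule.span K (Set.range w) := by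
    apply le_antisymm
    · rw [Submodule.span_le]
      intro v hv
      have hvW : v ∈ W := (hW v).2 hv
      have h3 := congrArg (W.subtype) (b.sum_repr ⟨v, hvW⟩)
      simp only [map_sum, map_smul, Submodule.subtype_apply] at h3
      have h2 : v = ∑ i, (algebraMap F₀ K (b.repr ⟨v, hvW⟩ i)) • w i := by
        refine ((Finset.sum_congr rfl fun i _ => ?_).trans h3).symm
        rw [algebraMap_smul]
      obtain ⟨c, hc'⟩ : ∃ c : Fin (Module.finrank F₀ W) → K, v = ∑ i, c i • w i := ⟨_, h2⟩
      rw [hc']
      exact Submodule.sum_mem _ fun i _ =>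
        Submodule.smul_mem _ _ (Submodule.subset_span ⟨i, rfl⟩)
    · rw [Submodule.span_le]
      rintro _ ⟨i, rfl⟩
      exact Submodule.subset_span (hwfix i)
  rw [hVs] at hc
  set Vs : Submodule K U := Submodule.span K (Set.range w) with hVsdef
  -- stability
  have hTs : ∀ x ∈ Vs, T x ∈ Vs := by
    intro x hx
    have : Vs ≤ Vs.comap T := by
      refine Submodule.span_le.2 ?_
      rintro _ ⟨i, rfl⟩
      show T (w i) ∈ Vs
      rw [← hVs]
      refine Submodule.subset_span ?_
      show Φ (T (w i)) = T (w i)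
      rw [hcomm, hwfix]
    exact this hx
  have hiter : ∀ (m : ℕ) (u : U), (⇑Φ)^[m] (T u) = T ((⇑Φ)^[m] u) := by
    intro m
    induction m with
    | zero => intro u; rfl
    | succ m ih =>
      intro u
      rw [Function.iterate_succ_apply, Function.iterate_succ_apply, hcomm, ih]
  have hTn : ∀ x ∈ Vn, T x ∈ Vn := by
    intro x hx
    have : Vn ≤ Vn.comap T := by
      refine Submodule.span_le.2 ?_
      rintro v ⟨m, hm⟩
      show T v ∈ Vn
      refine Submodule.subset_span ⟨m, ?_⟩
      rw [hiter, hm, map_zero]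
    exact this hx
  -- trace decomposition
  let e := Submodule.prodEquivOfIsCompl Vs Vn hc
  have hconj : T = e.conj ((T.restrict hTs).prodMap (T.restrict hTn)) := by
    apply LinearMap.ext
    intro u
    obtain ⟨⟨x, y⟩, rfl⟩ := e.surjective u
    rw [LinearEquiv.conj_apply_apply, LinearEquiv.symm_apply_apply]
    simp only [e, Submodule.coe_prodEquivOfIsCompl', LinearMap.prodMap_apply, map_add,
      LinearMap.restrict_coe_apply]
  have htr : LinearMap.trace K U T =
      LinearMap.trace K Vs (T.restrict hTs) + LinearMap.trace K Vn (T.restrict hTn) := by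
    conv_lhs => rw [hconj]
    rw [LinearMap.trace_conj', LinearMap.trace_prodMap']
  -- nilpotent part
  have hnil' : LinearMap.trace K Vn (T.restrict hTn) = 0 := by
    have hN : IsNilpotent (T.restrict hTn) := by
      rw [Module.End.isNilpotent_iff_of_finite]
      rintro ⟨x, hx⟩
      have hex : ∃ n, (T ^ n) x = 0 := by
        rw [hVn] at hx
        induction hx using Submodule.span_induction with
        | mem v hv => exact hnil v hv
        | zero => exact ⟨0, by simp⟩
        | add x y _ _ hx hy =>
          obtain ⟨m₁, h₁⟩ := hx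
          obtain ⟨m₂, h₂⟩ := hy
          refine ⟨m₁ + m₂, ?_⟩
          have e1 : (T ^ (m₁ + m₂)) y = 0 := by
            rw [pow_add, Module.End.mul_apply, h₂, map_zero]
          have e2 : (T ^ (m₁ + m₂)) x = 0 := by
            rw [add_comm, pow_add, Module.End.mul_apply, h₁, map_zero]
          rw [map_add, e1, e2, add_zero]
        | smul c x _ hx =>
          obtain ⟨m, hm⟩ := hx
          exact ⟨m, by rw [map_smul, hm, smul_zero]⟩
      obtain ⟨n, hn⟩ := hex
      refine ⟨n, ?_⟩
      rw [Module.End.pow_restrict n hTn]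
      exact Subtype.ext hn
    exact (LinearMap.isNilpotent_trace_of_isNilpotent hN).eq_zero
  -- fixed part
  let b' : Basis (Fin (Module.finrank F₀ W)) K Vs := Basis.span hli
  have hb' : ∀ i, ((b' i : Vs) : U) = w i := fun i =>
    congrArg Subtype.val (Basis.span_apply hli i)
  have hmat : ∀ i j, b'.repr ((T.restrict hTs) (b' j)) i =
      algebraMap F₀ K (b.repr (G (b j)) i) := by
    intro i j
    have h1 : (T.restrict hTs) (b' j) = ∑ l, (algebraMap F₀ K (b.repr (G (b j)) l)) • b' l := by
      apply Subtype.ext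
      rw [LinearMap.restrict_coe_apply, hb', Submodule.coe_sum]
      have h2 := congrArg (W.subtype) (b.sum_repr (G (b j)))
      simp only [map_sum, map_smul, Submodule.subtype_apply] at h2
      rw [hG] at h2
      rw [← h2]
      refine Finset.sum_congr rfl fun l _ => ?_
      rw [Submodule.coe_smul, hb', algebraMap_smul]
    rw [h1, Basis.repr_sum_self]
  have hs : LinearMap.trace K Vs (T.restrict hTs) = algebraMap F₀ K (LinearMap.trace F₀ W G) := by
    rw [LinearMap.trace_eq_matrix_trace K b', LinearMap.trace_eq_matrix_trace F₀ b,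
      Matrix.trace, Matrix.trace, map_sum]
    refine Finset.sum_congr rfl fun i _ => ?_
    rw [Matrix.diag_apply, Matrix.diag_apply, LinearMap.toMatrix_apply, LinearMap.toMatrix_apply,
      hmat]
  rw [htr, hnil', add_zero, hs]

end Main

end Groth.Agent.Lib.Helper16.PLinTr
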