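import Groth.Agent.Lib.Helper16.PLinTr1

/-!
# p-linear maps on K ⊗ V: iterates, commutation with F_K, nilpotency of F_K on the nil part
-/

set_option autoImplicit false

namespace Groth.Agent.Lib.Helper16.PLinTr

open TensorProduct

universe u

section Concrete

variable {p : ℕ} [hp : Fact p.Prime] {k : Type u} [Field k] [CharP k p]
  {K : Type u} [Field K] [Algebra k K]
  {V : Type u} [AddCommGroup V] [Module k V]
  (φ : V →ₛₗ[frobenius k p] V)
  (φK : K ⊗[k] V →+ K ⊗[k] V) (hφK : ∀ (μ : K) (v : V), φK (μ ⊗ₜ[k] v) = (μ ^ p) ⊗ₜ[k] φ v)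

include hφK in
theorem phiK_smul (a : K) (y : K ⊗[k] V) : φK (a • y) = a ^ p • φK y := by
  induction y using TensorProduct.induction_on with
  | zero => simp
  | tmul μ v =>
    rw [TensorProduct.smul_tmul', smul_eq_mul, hφK, hφK, mul_pow, TensorProduct.smul_tmul',
      smul_eq_mul]
  | add x y hx hy => rw [smul_add, map_add, hx, hy, map_add, smul_add]

include hφK in
theorem phiK_iter (n : ℕ) (μ : K) (v : V) :
    (⇑φK)^[n] (μ ⊗ₜ[k] v) = (μ ^ (p ^ n)) ⊗ₜ[k] (⇑φ)^[n] v := by
  induction n generalizing μ v with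
  | zero => simp
  | succ n ih =>
    rw [Function.iterate_succ_apply, hφK, ih, Function.iterate_succ_apply, ← pow_mul,
      ← pow_succ']

variable (F : V →ₗ[k] V) (f : ℕ) (hF : ∀ x, F x = (⇑φ)^[f] x)

include hF in
theorem F_pow (m : ℕ) (v : V) : (F ^ m) v = (⇑φ)^[f * m] v := by
  induction m generalizing v with
  | zero => simp
  | succ m ih =>
    rw [pow_succ, Module.End.mul_apply, ih, hF, ← Function.iterate_add_apply, Nat.mul_succ]

theorem FK_pow (m : ℕ) (μ : K) (v : V) :
    ((F.baseChange K) ^ m) (μ ⊗ₜ[k] v) = μ ⊗ₜ[k] (F ^ m) v := by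
  induction m generalizing v with
  | zero => simp
  | succ m ih =>
    rw [pow_succ, Module.End.mul_apply, LinearMap.baseChange_tmul, ih, pow_succ,
      Module.End.mul_apply]

include hφK hF in
theorem phiK_comm (y : K ⊗[k] V) : φK (F.baseChange K y) = F.baseChange K (φK y) := by
  induction y using TensorProduct.induction_on with
  | zero => simp
  | tmul μ v =>
    rw [LinearMap.baseChange_tmul, hφK, hφK, LinearMap.baseChange_tmul, hF, hF,
      ← Function.iterate_succ_apply' (⇑φ) f v, Function.iterate_succ_apply]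
  | add x y hx hy => rw [map_add, map_add, hx, hy, map_add, map_add]

variable [Fintype k]

/-- the `k`-linear map `μ ↦ μ^(q^m)` on `K`. -/
noncomputable def gPow (hK : CharP K p) (m : ℕ) : K →ₗ[k] K where
  toFun μ := μ ^ (Fintype.card k ^ m)
  map_add' x y := by
    obtain ⟨n, hn⟩ := FiniteField.card k p
    rw [hn.2, ← pow_mul]
    exact add_pow_char_pow x y p _
  map_smul' c μ := by
    rw [Algebra.smul_def, mul_pow, ← map_pow, FiniteField.pow_card_pow, RingHom.id_apply,
      Algebra.smul_def]

theorem gPow_injective (hK : CharP K p) (m : ℕ) :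
    Function.Injective (gPow (p := p) (k := k) (K := K) hK m) := by
  intro x y hxy
  have h : x ^ (Fintype.card k ^ m) = y ^ (Fintype.card k ^ m) := hxy
  obtain ⟨n, hn⟩ := FiniteField.card k p
  rw [hn.2, ← pow_mul] at h
  have h2 : iterateFrobenius K p (n * m) x = iterateFrobenius K p (n * m) y := by
    rw [iterateFrobenius_def, iterateFrobenius_def]
    exact h
  exact (iterateFrobenius K p (n * m)).injective h2

include hφK hF in
theorem tau_FK_pow (hK : CharP K p) (hq : Fintype.card k = p ^ f) (m : ℕ) (y : K ⊗[k] V) :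
    (gPow (p := p) (k := k) (K := K) hK m).rTensor V (((F.baseChange K) ^ m) y) =
      (⇑φK)^[f * m] y := by
  induction y using TensorProduct.induction_on with
  | zero => rw [map_zero, map_zero, iterate_map_zero]
  | tmul μ v =>
    rw [FK_pow, LinearMap.rTensor_tmul, phiK_iter φ φK hφK, F_pow φ F f hF]
    congr 1
    show μ ^ (Fintype.card k ^ m) = _
    rw [hq, ← pow_mul]
  | add x y hx hy => rw [map_add, map_add, hx, hy, iterate_map_add]

include hφK hF in
theorem FK_nil (hK : CharP K p) (hq : Fintype.card k = p ^ f) (v : K ⊗[k] V)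
    (hv : ∃ m : ℕ, (⇑φK)^[m] v = 0) : ∃ m : ℕ, ((F.baseChange K) ^ m) v = 0 := by
  obtain ⟨M, hM⟩ := hv
  have hf : 1 ≤ f := by
    by_contra h
    have h0 : f = 0 := by omega
    rw [h0, pow_zero] at hq
    have := Fintype.one_lt_card (α := k)
    omega
  refine ⟨M, ?_⟩
  have h1 : (⇑φK)^[f * M] v = 0 := by
    have : f * M = (f * M - M) + M := by
      have : M ≤ f * M := Nat.le_mul_of_pos_left M hf
      omega
    rw [this, Function.iterate_add_apply, hM, iterate_map_zero]
  have h2 := tau_FK_pow φ φK hφK F f hF hK hq M v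
  rw [h1] at h2
  have hinj : Function.Injective ((gPow (p := p) (k := k) (K := K) hK M).rTensor V) :=
    Module.Flat.rTensor_preserves_injective_linearMap _ (gPow_injective hK M)
  exact hinj (h2.trans (map_zero _).symm)

end Concrete

end Groth.Agent.Lib.Helper16.PLinTr
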