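import Mathlib

/-!
# Embeddings of a reduced finite separable algebra into an algebraically closed field: count = dimension
-/

set_option autoImplicit false
universe u

namespace Groth.Agent.Lib.Helper16.Prim

open Polynomial

variable {K L : Type u} [Field K] [CommRing L] [Algebra K L]

theorem isSeparable_of_surjective {L' : Type*} [CommRing L'] [Algebra K L'] (f : L →ₐ[K] L')
    {x : L} (hx : IsSeparable K x) : IsSeparable K (f x) := by
  unfold IsSeparable at hx ⊢
  refine hx.of_dvd (minpoly.dvd K (f x) ?_)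
  rw [aeval_algHom_apply, minpoly.aeval, map_zero]

variable [Module.Finite K L] [IsReduced L] [Algebra.IsSeparable K L]

instance quotSep (m : MaximalSpectrum L) : Algebra.IsSeparable K (L ⧸ m.asIdeal) := by
  refine ⟨fun y => ?_⟩
  obtain ⟨x, rfl⟩ := Ideal.Quotient.mk_surjective y
  exact isSeparable_of_surjective (Ideal.Quotient.mkₐ K m.asIdeal) (Algebra.IsSeparable.isSeparable K x)

noncomputable instance quotField (m : MaximalSpectrum L) : Field (L ⧸ m.asIdeal) :=
  Ideal.Quotient.field m.asIdeal

variable (K L) in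
/-- index type for the embeddings. -/
abbrev Idx (Ω : Type u) [Field Ω] [Algebra K Ω] : Type u :=
  Σ m : MaximalSpectrum L, ((L ⧸ m.asIdeal) →ₐ[K] Ω)

/-- the embeddings. -/
noncomputable def emb (Ω : Type u) [Field Ω] [Algebra K Ω] (i : Idx K L Ω) : L →ₐ[K] Ω :=
  i.2.comp (Ideal.Quotient.mkₐ K i.1.asIdeal)

theorem emb_injective (Ω : Type u) [Field Ω] [Algebra K Ω] : Function.Injective (emb (K := K) (L := L) Ω) := by
  rintro ⟨m, h⟩ ⟨m', h'⟩ heq
  have hker : ∀ (m : MaximalSpectrum L) (h : (L ⧸ m.asIdeal) →ₐ[K] Ω),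
      RingHom.ker (emb Ω ⟨m, h⟩ : L →ₐ[K] Ω).toRingHom = m.asIdeal := by
    intro m h
    ext x
    rw [RingHom.mem_ker]
    change h (Ideal.Quotient.mk _ x) = 0 ↔ _
    rw [map_eq_zero_iff h h.toRingHom.injective, Ideal.Quotient.eq_zero_iff_mem]
  have hm : m = m' := by
    apply MaximalSpectrum.ext
    rw [← hker m h, ← hker m' h', heq]
  subst hm
  congr 1
  apply AlgHom.ext
  intro y
  obtain ⟨x, rfl⟩ := Ideal.Quotient.mk_surjective y
  exact AlgHom.congr_fun heq x

theorem card_idx (Ω : Type u) [Field Ω] [Algebra K Ω] [IsAlgClosed Ω] :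
    Nat.card (Idx K L Ω) = Module.finrank K L := by
  have : IsArtinianRing L := IsArtinianRing.of_finite K L
  have hfin : Finite (MaximalSpectrum L) := inferInstance
  have : Fintype (MaximalSpectrum L) := Fintype.ofFinite _
  have hcard : ∀ m : MaximalSpectrum L,
      Nat.card ((L ⧸ m.asIdeal) →ₐ[K] Ω) = Module.finrank K (L ⧸ m.asIdeal) := by
    intro m
    rw [← Field.finSepDegree_eq_of_isAlgClosed K (L ⧸ m.asIdeal) Ω,
      Field.finSepDegree_eq_finrank_of_isSeparable]
  have hfinite : ∀ m : MaximalSpectrum L, Finite ((L ⧸ m.asIdeal) →ₐ[K] Ω) := by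
    intro m
    apply Nat.finite_of_card_ne_zero
    rw [hcard]
    exact Module.finrank_pos.ne'
  rw [Nat.card_sigma]
  simp_rw [hcard]
  rw [← Module.finrank_pi_fintype K]
  have e : L ≃ₗ[K] (∀ m : MaximalSpectrum L, L ⧸ m.asIdeal) :=
    { (IsArtinianRing.equivPi L).toLinearEquiv.toAddEquiv with
      map_smul' := by
        intro c x
        funext m
        simp only [RingHom.id_apply]
        change IsArtinianRing.equivPi L (c • x) m = c • (IsArtinianRing.equivPi L x m)
        rw [IsArtinianRing.equivPi_apply, IsArtinianRing.equivPi_apply]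
        rfl }
  exact e.finrank_eq.symm

end Groth.Agent.Lib.Helper16.Prim
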