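import Mathlib
import Groth.Agent.Lib.Helper16.Prim1

/-!
# Primitive elements c z + t of reduced finite separable algebras (S13903)
-/

set_option autoImplicit false
universe u

namespace Groth.Agent.Lib.Helper16.Prim

open Polynomial

variable {K L : Type u} [Field K] [CommRing L] [Algebra K L]

theorem adjoin_eq_top_of_distinct [Module.Finite K L] {ι : Type*} [Finite ι] (Ω : Type*) [Field Ω]
    [Algebra K Ω] (φ : ι → (L →ₐ[K] Ω)) (hcard : Nat.card ι = Module.finrank K L) (y : L)
    (hy : ∀ i j, i ≠ j → φ i y ≠ φ j y) : Algebra.adjoin K {y} = ⊤ := by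
  classical
  have : Fintype ι := Fintype.ofFinite ι
  have hint : IsIntegral K y := Algebra.IsIntegral.isIntegral y
  have hroot : ∀ i, ((minpoly K y).map (algebraMap K Ω)).IsRoot (φ i y) := by
    intro i
    rw [IsRoot.def, eval_map, ← aeval_def, aeval_algHom_apply, minpoly.aeval, map_zero]
  have hμ0 : (minpoly K y).map (algebraMap K Ω) ≠ 0 :=
    (Polynomial.map_ne_zero (minpoly.ne_zero hint))
  have hinj : Function.Injective (fun i => φ i y) :=
    fun i j h => by_contra fun hne => hy i j hne h
  have h1 : Fintype.card ι ≤ ((minpoly K y).map (algebraMap K Ω)).roots.toFinset.card := by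
    rw [← Finset.card_univ, ← Finset.card_image_of_injective _ hinj]
    apply Finset.card_le_card
    intro x hx
    obtain ⟨i, _, rfl⟩ := Finset.mem_image.1 hx
    rw [Multiset.mem_toFinset, mem_roots hμ0]
    exact hroot i
  have h2 : ((minpoly K y).map (algebraMap K Ω)).roots.toFinset.card ≤ (minpoly K y).natDegree :=
    (Multiset.toFinset_card_le _).trans ((card_roots' _).trans natDegree_map_le)
  have h3 : Module.finrank K (Algebra.adjoin K {y}) = (minpoly K y).natDegree :=
    (Algebra.adjoin.powerBasis hint).finrank
  have h4 : Module.finrank K L ≤ Module.finrank K (Algebra.adjoin K {y}) := by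
    rw [h3, ← hcard, Nat.card_eq_fintype_card]; exact h1.trans h2
  apply Subalgebra.toSubmodule_injective
  rw [Algebra.top_toSubmodule]
  exact Submodule.eq_top_of_finrank_eq (le_antisymm (Submodule.finrank_le _) h4)

variable [Module.Finite K L] [IsReduced L] [Algebra.IsSeparable K L]

theorem finite_idx (Ω : Type u) [Field Ω] [Algebra K Ω] [IsAlgClosed Ω] : Finite (Idx K L Ω) := by
  have : IsArtinianRing L := IsArtinianRing.of_finite K L
  have hfin : Finite (MaximalSpectrum L) := inferInstance
  have hfinite : ∀ m : MaximalSpectrum L, Finite ((L ⧸ m.asIdeal) →ₐ[K] Ω) := by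
    intro m
    apply Nat.finite_of_card_ne_zero
    rw [← Field.finSepDegree_eq_of_isAlgClosed K (L ⧸ m.asIdeal) Ω,
      Field.finSepDegree_eq_finrank_of_isSeparable]
    exact Module.finrank_pos.ne'
  infer_instance

theorem arith (d : ℕ) : d * d - d < d ^ (4 * d) := by
  rcases Nat.eq_zero_or_pos d with rfl | hd
  · simp
  · have h1 : d * d - d < d * d := Nat.sub_lt (Nat.mul_pos hd hd) hd
    have h2 : d * d = d ^ 2 := (pow_two d).symm
    have h3 : d ^ 2 ≤ d ^ (4 * d) := Nat.pow_le_pow_right hd (by omega)
    omega

theorem main (z t : L) (hgen : Algebra.adjoin K ({z, t} : Set L) = ⊤) (S : Finset K)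
    (hS : Module.finrank K L ^ (4 * Module.finrank K L) ≤ S.card) :
    ∃ c ∈ S, Algebra.adjoin K ({c • z + t} : Set L) = ⊤ := by
  classical
  have hcard := card_idx (K := K) (L := L) (AlgebraicClosure K)
  have hfin := finite_idx (K := K) (L := L) (AlgebraicClosure K)
  have : Fintype (Idx K L (AlgebraicClosure K)) := Fintype.ofFinite _
  set φ := emb (K := K) (L := L) (AlgebraicClosure K) with hφ
  have hφinj : Function.Injective φ := emb_injective _
  -- for each off-diagonal pair at most one bad c
  have hone : ∀ i j, i ≠ j →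
      (S.filter (fun c => φ i (c • z + t) = φ j (c • z + t))).card ≤ 1 := by
    intro i j hij
    rw [Finset.card_le_one]
    intro c hc c' hc'
    rw [Finset.mem_filter] at hc hc'
    have e1 := hc.2
    have e2 := hc'.2
    rw [map_add, map_add, map_smul, map_smul] at e1 e2
    by_contra hne
    have h1 : (c - c') • (φ i z - φ j z) = 0 := by
      rw [sub_smul, smul_sub, smul_sub]
      have e3 : c • φ i z - c • φ j z = φ j t - φ i t := by
        rw [sub_eq_sub_iff_add_eq_add, e1, add_comm]
      have e4 : c' • φ i z - c' • φ j z = φ j t - φ i t := by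
        rw [sub_eq_sub_iff_add_eq_add, e2, add_comm]
      rw [e3, e4, sub_self]
    rcases smul_eq_zero.1 h1 with h | h
    · exact hne (sub_eq_zero.1 h)
    · have hz : φ i z = φ j z := sub_eq_zero.1 h
      have ht : φ i t = φ j t := by
        rw [hz] at e1
        exact add_left_cancel e1
      apply hij
      apply hφinj
      apply AlgHom.ext_of_adjoin_eq_top hgen
      intro x hx
      rcases hx with rfl | hx
      · exact hz
      · rw [Set.mem_singleton_iff] at hx
        rw [hx]; exact ht
  set Sbad : Finset K := (Finset.univ : Finset (Idx K L (AlgebraicClosure K))).offDiag.biUnion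
    (fun pq => S.filter (fun c => φ pq.1 (c • z + t) = φ pq.2 (c • z + t))) with hSbad
  have hbadcard : Sbad.card ≤ Module.finrank K L * Module.finrank K L - Module.finrank K L := by
    calc Sbad.card ≤ ∑ pq ∈ (Finset.univ : Finset (Idx K L (AlgebraicClosure K))).offDiag,
          (S.filter (fun c => φ pq.1 (c • z + t) = φ pq.2 (c • z + t))).card :=
          Finset.card_biUnion_le
      _ ≤ ∑ pq ∈ (Finset.univ : Finset (Idx K L (AlgebraicClosure K))).offDiag, 1 := by
          apply Finset.sum_le_sum
          intro pq hpq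
          exact hone pq.1 pq.2 (Finset.mem_offDiag.1 hpq).2.2
      _ = Module.finrank K L * Module.finrank K L - Module.finrank K L := by
          rw [Finset.sum_const, smul_eq_mul, mul_one, Finset.offDiag_card, Finset.card_univ,
            ← Nat.card_eq_fintype_card, hcard]
  have hlt : Sbad.card < S.card := (hbadcard.trans_lt (arith _)).trans_le hS
  obtain ⟨c, hcS, hcbad⟩ := Finset.exists_mem_notMem_of_card_lt_card hlt
  refine ⟨c, hcS, ?_⟩
  apply adjoin_eq_top_of_distinct (AlgebraicClosure K) φ hcard
  intro i j hij heq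
  apply hcbad
  rw [hSbad, Finset.mem_biUnion]
  refine ⟨(i, j), Finset.mem_offDiag.2 ⟨Finset.mem_univ _, Finset.mem_univ _, hij⟩, ?_⟩
  rw [Finset.mem_filter]
  exact ⟨hcS, heq⟩

end Groth.Agent.Lib.Helper16.Prim
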