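import Mathlib
import Groth.Agent.Lib.Helper18.QGor12
import Groth.Agent.Lib.Helper18.SerreNormal
import Groth.Agent.Lib.Helper16.Depth

/-!
# Projective kernel of a four-term exact sequence; monotonicity of depth in the ideal (for S18711) (helper16)
-/

set_option autoImplicit false
set_option linter.unusedSectionVars false

universe u

open IsLocalRing TensorProduct

namespace Groth.Agent.Lib.Helper16.QFour

open Groth.Agent.Lib.Helper18.QGor Groth.Agent.Lib.Helper18.CM

section proj

variable {R : Type u} [CommRing R] {K P0 P1 G : Type u}
  [AddCommGroup K] [Module R K] [AddCommGroup P0] [Module R P0] [AddCommGroup P1] [Module R P1]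
  [AddCommGroup G] [Module R G] [Module.Projective R P0] [Module.Projective R P1]
  [Module.Projective R G]

/-- the kernel term of a four-term exact sequence with projective other terms is projective -/
theorem projective_of_fourTerm_exact
    (f : K →ₗ[R] P0) (u : P0 →ₗ[R] P1) (v : P1 →ₗ[R] G)
    (hf : Function.Injective f) (hfu : Function.Exact f u) (huv : Function.Exact u v)
    (hv : Function.Surjective v) : Module.Projective R K := by
  obtain ⟨σ, hσ⟩ := Module.projective_lifting_property v LinearMap.id hv
  have hπ : ∀ x, x - σ (v x) ∈ LinearMap.range u := by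
    intro x
    have hx : v (x - σ (v x)) = 0 := by
      rw [map_sub]
      have := LinearMap.congr_fun hσ (v x)
      simp only [LinearMap.coe_comp, Function.comp_apply, LinearMap.id_coe, id_eq] at this
      rw [this, sub_self]
    exact (huv _).1 hx
  let π : P1 →ₗ[R] LinearMap.range u :=
    LinearMap.codRestrict (LinearMap.range u) (LinearMap.id - σ ∘ₗ v) (fun x => by
      simpa using hπ x)
  haveI : Module.Projective R (LinearMap.range u) := by
    refine Module.Projective.of_split (LinearMap.range u).subtype π ?_
    ext ⟨y, hy⟩
    have hvy : v y = 0 := (huv y).2 hy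
    simp [π, hvy]
  obtain ⟨τ, hτ⟩ := Module.projective_lifting_property u.rangeRestrict LinearMap.id
    u.surjective_rangeRestrict
  have hρ : ∀ x, x - τ (u.rangeRestrict x) ∈ LinearMap.range f := by
    intro x
    have hx : u (x - τ (u.rangeRestrict x)) = 0 := by
      rw [map_sub]
      have := LinearMap.congr_fun hτ (u.rangeRestrict x)
      have h2 := congrArg Subtype.val this
      simp only [LinearMap.coe_comp, Function.comp_apply, LinearMap.id_coe, id_eq,
        LinearMap.codRestrict_apply, LinearMap.rangeRestrict] at h2
      rw [h2, sub_self]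
    exact (hfu _).1 hx
  let ρ : P0 →ₗ[R] LinearMap.range f :=
    LinearMap.codRestrict _ (LinearMap.id - τ ∘ₗ u.rangeRestrict) (fun x => by
      simpa using hρ x)
  let e := LinearEquiv.ofInjective f hf
  refine Module.Projective.of_split f (e.symm.toLinearMap ∘ₗ ρ) ?_
  ext k
  simp only [LinearMap.coe_comp, LinearEquiv.coe_coe, Function.comp_apply, LinearMap.id_coe, id_eq]
  apply e.injective
  rw [LinearEquiv.apply_symm_apply]
  ext
  have h0 : u.rangeRestrict (f k) = 0 := by
    ext
    simp only [LinearMap.rangeRestrict, LinearMap.codRestrict_apply, ZeroMemClass.coe_zero]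
    exact hfu.apply_apply_eq_zero k
  simp [ρ, e, h0]

end proj

section mono

variable {R : Type u} [CommRing R] (M : Type u) [AddCommGroup M] [Module R M]

theorem le_idealDepth_of_ideal_le {I I' : Ideal R} (h : I ≤ I') (n : ℕ)
    (hn : (n : ℕ∞) ≤ LocCoh.idealDepth I M) : (n : ℕ∞) ≤ LocCoh.idealDepth I' M := by
  rw [Groth.Agent.Lib.Helper16.Depth.le_idealDepth_iff] at hn ⊢
  rcases hn with hn | ⟨rs, hlen, hreg, hmem⟩
  · left
    exact top_le_iff.mp (le_of_eq_of_le hn.symm (Submodule.smul_mono_left h))
  · right
    exact ⟨rs, hlen, hreg, fun r hr => h (hmem r hr)⟩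

end mono

end Groth.Agent.Lib.Helper16.QFour
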