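import Mathlib
import Groth.Agent.Lib.Helper18.QGor12
import Groth.Agent.Lib.Helper18.SerreNormal
import Groth.Agent.Lib.Helper16.Depth

/-!
# Depth of finite projective modules and of their fibre stalks (for S18711) (helper16)
-/

set_option autoImplicit false
set_option linter.unusedSectionVars false

universe u

open IsLocalRing TensorProduct

namespace Groth.Agent.Lib.Helper16.QFour

open Groth.Agent.Lib.Helper18.QGor Groth.Agent.Lib.Helper18.CM

section projDepth

variable {R : Type u} [CommRing R] [IsNoetherianRing R] (I : Ideal R)
  (E : Type u) [AddCommGroup E] [Module R E] [Module.Finite R E] [Module.Projective R E]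

omit [IsNoetherianRing R] in
/-- the localization of a finite projective module at a prime is free -/
theorem free_localizedModule_of_projective (p : Ideal R) [p.IsPrime] :
    Module.Free (Localization.AtPrime p) (LocalizedModule p.primeCompl E) :=
  Module.free_of_flat_of_isLocalRing

/-- depth of a finite projective module along an ideal is at least that of the ring -/
theorem le_idealDepth_of_projective (n : ℕ) (h : (n : ℕ∞) ≤ LocCoh.idealDepth I R) :
    (n : ℕ∞) ≤ LocCoh.idealDepth I E := by
  apply le_idealDepth_of_forall_le_depth I n E
  intro p hp hIp
  have hnoeth : IsNoetherianRing (Localization.AtPrime p) :=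
    IsLocalization.isNoetherianRing p.primeCompl _ inferInstance
  haveI := free_localizedModule_of_projective E p
  have h1 := (le_idealDepth_iff_forall_le_depth I R n).1 h p hIp
  rw [Groth.Agent.Lib.Helper18.Serre.depth_localizedModule_self] at h1
  exact le_idealDepth_of_free (maximalIdeal (Localization.AtPrime p)) n h1 _

end projDepth

section quotFree

variable {R : Type u} [CommRing R] (P : Ideal R) (M : Type u) [AddCommGroup M] [Module R M]

/-- `M / P M` is free over `R / P` when `M` is free over `R` -/
theorem free_quot_smul_top [Module.Free R M] :
    Module.Free (R ⧸ P) (M ⧸ (P • (⊤ : Submodule R M))) :=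
  Module.Free.of_equiv ((TensorProduct.quotTensorEquivQuotSMul M P).extendScalarsOfSurjective
    Ideal.Quotient.mk_surjective)

theorem finite_quot_smul_top [Module.Finite R M] :
    Module.Finite (R ⧸ P) (M ⧸ (P • (⊤ : Submodule R M))) :=
  Module.Finite.of_restrictScalars_finite R (R ⧸ P) _

end quotFree

section fibFree

variable (A B : Type u) [CommRing A] [CommRing B] [IsNoetherianRing B] [Algebra A B]
  (q : Ideal B) [q.IsPrime]
  (E : Type u) [AddCommGroup E] [Module B E] [Module.Finite B E] [Module.Projective B E]

/-- depth of the fibre stalk of a finite projective module is at least that of the fibre ring -/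
theorem le_idealDepth_fibLocMod_of_projective (Ibar : Ideal (EGA4.FibLocRing A B q)) (n : ℕ)
    (h : (n : ℕ∞) ≤ LocCoh.idealDepth Ibar (EGA4.FibLocRing A B q)) :
    (n : ℕ∞) ≤ LocCoh.idealDepth Ibar (EGA4.FibLocMod A B q E) := by
  have hnoeth : IsNoetherianRing (Localization.AtPrime q) :=
    IsLocalization.isNoetherianRing q.primeCompl _ inferInstance
  haveI := free_localizedModule_of_projective E q
  haveI : Module.Free (EGA4.FibLocRing A B q) (EGA4.FibLocMod A B q E) :=
    free_quot_smul_top _ _
  haveI : Module.Finite (EGA4.FibLocRing A B q) (EGA4.FibLocMod A B q E) :=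
    finite_quot_smul_top _ _
  exact le_idealDepth_of_free Ibar n h _

end fibFree

end Groth.Agent.Lib.Helper16.QFour
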