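import Mathlib
import Groth.Agent.Lib.Helper16.DDual7
import Groth.Agent.Lib.Helper16.LocCohLocalize

/-!
# Fibre local rings of a pushout have depth two along J (for S18711) (helper16)
-/

set_option autoImplicit false
set_option linter.unusedSectionVars false

universe u

open IsLocalRing TensorProduct CategoryTheory

namespace Groth.Agent.Lib.Helper16.QFour

open Groth.Agent.Lib.Helper16.Depth Groth.Agent.Lib.Helper16.LC Groth.Agent.Lib.Helper18.QGor
  Groth.Agent.Lib.Helper18.CM Groth.Agent.Lib.Helper16.DDual

section HZJ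

variable (A B : Type u) [CommRing A] [CommRing B] [IsNoetherianRing A] [IsNoetherianRing B]
  [Algebra A B]
  (A' B' : Type u) [CommRing A'] [CommRing B'] [IsNoetherianRing A'] [IsNoetherianRing B']
  [Algebra A A'] [Algebra B B'] [Algebra A' B'] [Algebra A B'] [IsScalarTower A B B']
  [IsScalarTower A A' B'] [hpo : Algebra.IsPushout A B A' B'] [Module.Flat A B] (J : Ideal B)
  (hZ : ∀ q : PrimeSpectrum B, J ≤ q.asIdeal →
    2 ≤ LocCoh.idealDepth (q.asIdeal.map (algebraMap B (EGA4.FibLocRing A B q.asIdeal)))
      (EGA4.FibLocRing A B q.asIdeal))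

include hZ hpo in
/-- the fibre local rings of the pushout have depth at least two along `J`, at every prime -/
theorem two_le_idealDepth_fibLocRing_pushout (q' : Ideal B') [q'.IsPrime] :
    2 ≤ LocCoh.idealDepth
      ((J.map (algebraMap B B')).map (algebraMap B' (EGA4.FibLocRing A' B' q')))
      (EGA4.FibLocRing A' B' q') := by
  have hB : ∀ i, i < 2 → Subsingleton
      (LocCoh.H J i (B' ⊗[A'] (A' ⧸ q'.comap (algebraMap A' B')))) := fun i hi =>
    subsingleton_H_of_linearEquiv J
      (Algebra.IsPushout.cancelBaseChange A B A' B' (A' ⧸ q'.comap (algebraMap A' B'))) i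
      (subsingleton_H_tensor A B J B (fibLocMod_self A B J hZ)
        (A' ⧸ q'.comap (algebraMap A' B')) i hi)
  have hB' : ∀ i, i < 2 → Subsingleton
      (LocCoh.H (J.map (algebraMap B B')) i (B' ⊗[A'] (A' ⧸ q'.comap (algebraMap A' B')))) := by
    intro i hi
    obtain ⟨φ, -⟩ := Groth.Agent.Lib.Helper16.DTL.semiIso_H (R := B) (R' := B') J i
      (B' ⊗[A'] (A' ⧸ q'.comap (algebraMap A' B')))
    haveI := hB i hi
    exact φ.toEquiv.subsingleton
  have hnoeth : IsNoetherianRing (Localization.AtPrime q') :=
    IsLocalization.isNoetherianRing q'.primeCompl _ inferInstance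
  haveI hflat : Module.Flat B' (Localization.AtPrime q') := IsLocalization.flat _ q'.primeCompl
  have hL : ∀ i, i < 2 → Subsingleton
      (LocCoh.H ((J.map (algebraMap B B')).map (algebraMap B' (Localization.AtPrime q'))) i
        (Localization.AtPrime q' ⊗[B'] (B' ⊗[A'] (A' ⧸ q'.comap (algebraMap A' B'))))) := by
    intro i hi
    obtain ⟨e2⟩ := Groth.Agent.Lib.Helper16.DTL.nonempty_H_baseChange_equiv
      (R := B') (R' := Localization.AtPrime q') (J.map (algebraMap B B')) i
      (B' ⊗[A'] (A' ⧸ q'.comap (algebraMap A' B')))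
    haveI := hB' i hi
    exact e2.symm.toEquiv.subsingleton
  let e3 : Localization.AtPrime q' ⊗[B'] (B' ⊗[A'] (A' ⧸ q'.comap (algebraMap A' B')))
      ≃ₗ[Localization.AtPrime q'] EGA4.FibLocRing A' B' q' :=
    (AlgebraTensorModule.cancelBaseChange A' B' (Localization.AtPrime q')
      (Localization.AtPrime q') (A' ⧸ q'.comap (algebraMap A' B'))) ≪≫ₗ
    (Algebra.TensorProduct.quotIdealMapEquivTensorQuot (Localization.AtPrime q')
      (q'.comap (algebraMap A' B'))).symm.toLinearEquiv
  have hR : ∀ i, i < 2 → Subsingleton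
      (LocCoh.H ((J.map (algebraMap B B')).map (algebraMap B' (Localization.AtPrime q'))) i
        (EGA4.FibLocRing A' B' q')) := fun i hi =>
    subsingleton_H_of_linearEquiv _ e3.symm i (hL i hi)
  have hR' : ∀ i, i < 2 → Subsingleton
      (LocCoh.H (((J.map (algebraMap B B')).map (algebraMap B' (Localization.AtPrime q'))).map
        (algebraMap (Localization.AtPrime q') (EGA4.FibLocRing A' B' q'))) i
        (EGA4.FibLocRing A' B' q')) := by
    intro i hi
    obtain ⟨φ, -⟩ := Groth.Agent.Lib.Helper16.DTL.semiIso_H (R := Localization.AtPrime q')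
      (R' := EGA4.FibLocRing A' B' q')
      ((J.map (algebraMap B B')).map (algebraMap B' (Localization.AtPrime q'))) i
      (EGA4.FibLocRing A' B' q')
    haveI := hR i hi
    exact φ.toEquiv.subsingleton
  have hmap : (J.map (algebraMap B B')).map (algebraMap B' (EGA4.FibLocRing A' B' q')) =
      ((J.map (algebraMap B B')).map (algebraMap B' (Localization.AtPrime q'))).map
        (algebraMap (Localization.AtPrime q') (EGA4.FibLocRing A' B' q')) := by
    have h : algebraMap B' (EGA4.FibLocRing A' B' q') =
        (algebraMap (Localization.AtPrime q') (EGA4.FibLocRing A' B' q')).comp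
          (algebraMap B' (Localization.AtPrime q')) := rfl
    rw [h, ← Ideal.map_map]
  rw [hmap]
  exact two_le_idealDepth_of_subsingleton_H _ _ (hR' 0 (by norm_num)) (hR' 1 (by norm_num))

end HZJ

end Groth.Agent.Lib.Helper16.QFour
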