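import Mathlib
import Groth.Agent.Lib.Helper18.QGor8
import Groth.Agent.Lib.Helper16.KolH2b

/-!
# Local four-term flatness theorem with elementwise hypotheses (for S18725)
-/

set_option autoImplicit false

universe u
open IsLocalRing TensorProduct Pointwise RingTheory.Sequence

namespace Groth.Agent.Lib.Helper16.QGlob

open Groth.Agent.Lib.Helper18.QGor Groth.Agent.Lib.Helper18.FamCyc Groth.Agent.Lib.Helper18.CM
  Groth.Agent.Lib.Helper16.Depth

section surj

variable {C D : Type u} [CommRing C] [CommRing D] [Algebra C D]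

/-- converse of `le_idealDepth_of_le_idealDepth_map` (no surjectivity needed) -/
theorem le_idealDepth_map_of_le_idealDepth
    (I : Ideal C) (Y : Type u) [AddCommGroup Y] [Module D Y] [Module C Y] [IsScalarTower C D Y]
    (n : ℕ) (h : (n : ℕ∞) ≤ LocCoh.idealDepth I Y) :
    (n : ℕ∞) ≤ LocCoh.idealDepth (I.map (algebraMap C D)) Y := by
  rw [le_idealDepth_iff] at h ⊢
  rcases h with h | ⟨cs, hlen, hreg, hmem⟩
  · left
    rw [eq_top_iff]
    rintro y -
    have hy : y ∈ I • (⊤ : Submodule C Y) := by rw [h]; trivial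
    induction hy using Submodule.smul_induction_on' with
    | smul r hr x hx =>
      rw [← algebraMap_smul D r x]
      exact Submodule.smul_mem_smul (Ideal.mem_map_of_mem _ hr) Submodule.mem_top
    | add x hx y hy hx' hy' => exact Submodule.add_mem _ hx' hy'
  · right
    refine ⟨cs.map (algebraMap C D), by simpa using hlen,
      (isWeaklyRegular_map_algebraMap_iff D Y cs).mpr hreg, ?_⟩
    intro r hr
    obtain ⟨c, hc, rfl⟩ := List.mem_map.mp hr
    exact Ideal.mem_map_of_mem _ (hmem c hc)

end surj

section localThm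

variable {A B : Type u} [CommRing A] [CommRing B]
  [IsNoetherianRing A] [IsNoetherianRing B] [IsLocalRing A] [IsLocalRing B] [Algebra A B]
  [IsLocalHom (algebraMap A B)]
  {F E0 E1 G : Type u} [AddCommGroup F] [Module B F] [Module A F] [IsScalarTower A B F]
  [Module.Finite B F]
  [AddCommGroup E0] [Module B E0] [Module A E0] [IsScalarTower A B E0] [Module.Finite B E0]
  [Module.Flat A E0]
  [AddCommGroup E1] [Module B E1] [Module A E1] [IsScalarTower A B E1] [Module.Finite B E1]
  [Module.Flat A E1]
  [AddCommGroup G] [Module B G] [Module A G] [IsScalarTower A B G] [Module.Finite B G]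
  (f : F →ₗ[B] E0) (u : E0 →ₗ[B] E1) (v : E1 →ₗ[B] G)
  (hf : Function.Injective f) (hfu : Function.Exact f u) (huv : Function.Exact u v)
  (hv : Function.Surjective v)

include hf hfu huv hv in
/-- the local theorem with elementwise flatness hypotheses on the punctured spectrum -/
theorem flat_of_two_le_of_elementwise
    (hE2 : ∀ x : F, f x ∈ maximalIdeal A • (⊤ : Submodule A E0) →
      ∀ q : PrimeSpectrum B, q.asIdeal ≠ maximalIdeal B →
        ∃ s : B, s ∉ q.asIdeal ∧ s • x ∈ maximalIdeal A • (⊤ : Submodule A F))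
    (hE1 : ∀ y : LinearMap.range u, (y : E1) ∈ maximalIdeal A • (⊤ : Submodule A E1) →
      ∀ q : PrimeSpectrum B, q.asIdeal ≠ maximalIdeal B →
        ∃ s : B, s ∉ q.asIdeal ∧ s • y ∈ maximalIdeal A • (⊤ : Submodule A (LinearMap.range u)))
    (h0 : 2 ≤ LocCoh.idealDepth (maximalIdeal B) (EGA4.FibMod A B E0))
    (h1 : 1 ≤ LocCoh.idealDepth (maximalIdeal B) (EGA4.FibMod A B E1))
    (h2 : 2 ≤ LocCoh.idealDepth (maximalIdeal B) (EGA4.FibMod A B F)) : Module.Flat A G := by
  have hfinQ : Module.Finite B (EGA4.FibMod A B (LinearMap.range u)) :=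
    Module.Finite.of_surjective (Submodule.mkQ _) (Submodule.mkQ_surjective _)
  have hfinF : Module.Finite B (EGA4.FibMod A B F) :=
    Module.Finite.of_surjective (Submodule.mkQ _) (Submodule.mkQ_surjective _)
  have hfinE0 : Module.Finite B (EGA4.FibMod A B E0) :=
    Module.Finite.of_surjective (Submodule.mkQ _) (Submodule.mkQ_surjective _)
  have hfinE1 : Module.Finite B (EGA4.FibMod A B E1) :=
    Module.Finite.of_surjective (Submodule.mkQ _) (Submodule.mkQ_surjective _)
  have hne : ∀ q : PrimeSpectrum B, ¬ maximalIdeal B ≤ q.asIdeal → q.asIdeal ≠ maximalIdeal B := by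
    intro q hq h
    exact hq h.ge
  -- Step A
  have hF1 : (1 : ℕ∞) ≤ LocCoh.idealDepth (maximalIdeal B) (EGA4.FibMod A B F) :=
    le_trans (by norm_num) h2
  have hintF : ∀ x : F, f x ∈ maximalIdeal A • (⊤ : Submodule A E0) →
      x ∈ maximalIdeal A • (⊤ : Submodule A F) := by
    intro x hx
    apply mem_of_forall_exists_smul_mem (maximalIdeal B)
      (fun y hy => eq_zero_of_forall_pow_smul_eq_zero (maximalIdeal B) _ hF1 y hy)
    intro q hq
    exact hE2 x hx q (hne q hq)
  have hQ : Module.Flat A (LinearMap.range u) :=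
    flat_of_exact_of_inter B (f.restrictScalars A) (u.rangeRestrict.restrictScalars A)
      (LinearMap.surjective_rangeRestrict u) (exact_rangeRestrict f u hfu) hintF
  -- Step B
  have hdQ : ((1 : ℕ) : ℕ∞) ≤
      LocCoh.idealDepth (maximalIdeal B) (EGA4.FibMod A B (LinearMap.range u)) :=
    le_idealDepth_X₃ (maximalIdeal B) (fibMap (A := A) f) (fibMap (A := A) u.rangeRestrict)
      (fibMap_injective _ hintF) (fibMap_surjective _ (LinearMap.surjective_rangeRestrict u))
      (fibMap_exact _ _ (LinearMap.surjective_rangeRestrict u) (exact_rangeRestrict f u hfu)) 1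
      (le_trans (by norm_num) h0) (by exact_mod_cast h2)
  -- Step C
  have hintQ : ∀ y : LinearMap.range u,
      (LinearMap.range u).subtype y ∈ maximalIdeal A • (⊤ : Submodule A E1) →
        y ∈ maximalIdeal A • (⊤ : Submodule A (LinearMap.range u)) := by
    intro y hy
    apply mem_of_forall_exists_smul_mem (maximalIdeal B)
      (fun z hz => eq_zero_of_forall_pow_smul_eq_zero (maximalIdeal B) _
        (by exact_mod_cast hdQ) z hz)
    intro q hq
    exact hE1 y hy q (hne q hq)
  exact flat_of_exact_of_inter B ((LinearMap.range u).subtype.restrictScalars A)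
    (v.restrictScalars A) hv (exact_subtype_range u v huv) hintQ

end localThm

end Groth.Agent.Lib.Helper16.QGlob
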