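import Mathlib
import Groth.Agent.Lib.Helper16.QGlob1

/-!
# Localization package A_p → B_n for fibre depth and flatness (for S18725)
-/

set_option autoImplicit false
set_option linter.style.haveILetI false

universe u
open IsLocalRing TensorProduct Pointwise RingTheory.Sequence

namespace Groth.Agent.Lib.Helper16.QGlob

open Groth.Agent.Lib.Helper18.QGor Groth.Agent.Lib.Helper18.FamCyc Groth.Agent.Lib.Helper18.CM
  Groth.Agent.Lib.Helper16.Depth

section setup

variable (A B : Type u) [CommRing A] [CommRing B] [Algebra A B] (n : Ideal B) [hn : n.IsPrime]

/-- `A_p → B_n` for `p = n ∩ A` -/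
noncomputable def locHom :
    Localization.AtPrime (n.comap (algebraMap A B)) →+* Localization.AtPrime n :=
  Localization.localRingHom (n.comap (algebraMap A B)) n (algebraMap A B) rfl

/-- the `A_p`-algebra structure on `B_n` -/
noncomputable def locAlgebra :
    Algebra (Localization.AtPrime (n.comap (algebraMap A B))) (Localization.AtPrime n) :=
  (locHom A B n).toAlgebra

attribute [local instance] locAlgebra

theorem locHom_algebraMap (a : A) :
    locHom A B n (algebraMap A (Localization.AtPrime (n.comap (algebraMap A B))) a) =
      algebraMap A (Localization.AtPrime n) a := by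
  unfold locHom
  rw [Localization.localRingHom_to_map, ← IsScalarTower.algebraMap_apply]

theorem isLocalHom_loc :
    IsLocalHom (algebraMap (Localization.AtPrime (n.comap (algebraMap A B)))
      (Localization.AtPrime n)) :=
  Localization.isLocalHom_localRingHom _ n (algebraMap A B) rfl

theorem tower_A_Ap_Bn : IsScalarTower A (Localization.AtPrime (n.comap (algebraMap A B)))
    (Localization.AtPrime n) :=
  IsScalarTower.of_algebraMap_eq (fun a => (locHom_algebraMap A B n a).symm)

variable (X : Type u) [AddCommGroup X] [Module B X]

/-- the `A_p`-module structure on `X_n` -/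
noncomputable def locModule : Module (Localization.AtPrime (n.comap (algebraMap A B)))
    (LocalizedModule n.primeCompl X) :=
  Module.compHom (LocalizedModule n.primeCompl X) (locHom A B n)

attribute [local instance] locModule

theorem tower_Ap_Bn_X : IsScalarTower (Localization.AtPrime (n.comap (algebraMap A B)))
    (Localization.AtPrime n) (LocalizedModule n.primeCompl X) :=
  ⟨fun a c x => by
    change (locHom A B n a * c) • x = locHom A B n a • c • x
    rw [mul_smul]⟩

variable [Module A X] [IsScalarTower A B X]

theorem tower_A_Ap_X : IsScalarTower A (Localization.AtPrime (n.comap (algebraMap A B)))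
    (LocalizedModule n.primeCompl X) :=
  ⟨fun a r x => by
    change locHom A B n (a • r) • x = a • (locHom A B n r • x)
    rw [Algebra.smul_def, map_mul, locHom_algebraMap, mul_smul, algebraMap_smul]⟩

attribute [local instance] isLocalHom_loc tower_A_Ap_Bn tower_Ap_Bn_X tower_A_Ap_X

omit [Module A X] [IsScalarTower A B X] in
theorem max_map_eq :
    (maximalIdeal (Localization.AtPrime (n.comap (algebraMap A B)))).map
      (algebraMap (Localization.AtPrime (n.comap (algebraMap A B))) (Localization.AtPrime n)) =
    (n.comap (algebraMap A B)).map (algebraMap A (Localization.AtPrime n)) := by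
  rw [← Localization.AtPrime.map_eq_maximalIdeal, Ideal.map_map]
  congr 1
  exact RingHom.ext (locHom_algebraMap A B n)

/-- (P2) -/
theorem mem_max_smul_top_iff (x : LocalizedModule n.primeCompl X) :
    x ∈ maximalIdeal (Localization.AtPrime (n.comap (algebraMap A B))) •
        (⊤ : Submodule (Localization.AtPrime (n.comap (algebraMap A B)))
          (LocalizedModule n.primeCompl X)) ↔
      x ∈ (n.comap (algebraMap A B)) • (⊤ : Submodule A (LocalizedModule n.primeCompl X)) := by
  constructor
  · intro h
    have h1 := (Groth.Agent.Lib.Helper18.QGor.mem_map_smul_top_iff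
      (A := Localization.AtPrime (n.comap (algebraMap A B))) (B := Localization.AtPrime n)
      (maximalIdeal (Localization.AtPrime (n.comap (algebraMap A B)))) x).2 h
    rw [max_map_eq] at h1
    exact (Groth.Agent.Lib.Helper18.QGor.mem_map_smul_top_iff (A := A)
      (B := Localization.AtPrime n) (n.comap (algebraMap A B)) x).1 h1
  · intro h
    have h1 := (Groth.Agent.Lib.Helper18.QGor.mem_map_smul_top_iff (A := A)
      (B := Localization.AtPrime n) (n.comap (algebraMap A B)) x).2 h
    rw [← max_map_eq] at h1
    exact (Groth.Agent.Lib.Helper18.QGor.mem_map_smul_top_iff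
      (A := Localization.AtPrime (n.comap (algebraMap A B))) (B := Localization.AtPrime n)
      (maximalIdeal (Localization.AtPrime (n.comap (algebraMap A B)))) x).1 h1

/-- (P3) -/
theorem flat_Ap_iff : Module.Flat (Localization.AtPrime (n.comap (algebraMap A B)))
      (LocalizedModule n.primeCompl X) ↔
    Module.Flat A (LocalizedModule n.primeCompl X) :=
  Module.flat_iff_of_isLocalization (Localization.AtPrime (n.comap (algebraMap A B)))
    (n.comap (algebraMap A B)).primeCompl (LocalizedModule n.primeCompl X)

omit [Module A X] [IsScalarTower A B X] in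
/-- (P4) depth conversion -/
theorem le_depth_fib_iff (k : ℕ) :
    (k : ℕ∞) ≤ LocCoh.idealDepth (n.map (algebraMap B (EGA4.FibLocRing A B n)))
        (EGA4.FibLocMod A B n X) ↔
      (k : ℕ∞) ≤ LocCoh.idealDepth (maximalIdeal (Localization.AtPrime n))
        (EGA4.FibMod (Localization.AtPrime (n.comap (algebraMap A B))) (Localization.AtPrime n)
          (LocalizedModule n.primeCompl X)) := by
  have hmapq : n.map (algebraMap B (EGA4.FibLocRing A B n)) =
      (maximalIdeal (Localization.AtPrime n)).map
        (algebraMap (Localization.AtPrime n) (EGA4.FibLocRing A B n)) := by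
    rw [← Localization.AtPrime.map_eq_maximalIdeal, Ideal.map_map]
    rfl
  have hcongr : LocCoh.idealDepth (maximalIdeal (Localization.AtPrime n))
      (EGA4.FibMod (Localization.AtPrime (n.comap (algebraMap A B))) (Localization.AtPrime n)
        (LocalizedModule n.primeCompl X)) =
      LocCoh.idealDepth (maximalIdeal (Localization.AtPrime n)) (EGA4.FibLocMod A B n X) :=
    idealDepth_congr (Submodule.quotEquivOfEq _ _ (by
      change (Ideal.map (algebraMap (Localization.AtPrime (n.comap (algebraMap A B)))
        (Localization.AtPrime n)) (maximalIdeal _)) •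
          (⊤ : Submodule (Localization.AtPrime n) (LocalizedModule n.primeCompl X)) = _
      rw [max_map_eq])) _
  rw [hcongr, hmapq]
  constructor
  · intro h
    exact le_idealDepth_of_le_idealDepth_map Ideal.Quotient.mk_surjective _ _ k h
  · intro h
    exact le_idealDepth_map_of_le_idealDepth _ _ k h

end setup

end Groth.Agent.Lib.Helper16.QGlob
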