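import Mathlib
import Groth.Agent.Lib.Helper16.QGlob2

/-!
# Elementwise flatness consequences on the punctured spectrum of B_n (for S18725)
-/

set_option autoImplicit false
set_option linter.style.haveILetI false

universe u
open IsLocalRing TensorProduct Pointwise RingTheory.Sequence

namespace Groth.Agent.Lib.Helper16.QGlob

open Groth.Agent.Lib.Helper18.QGor Groth.Agent.Lib.Helper18.FamCyc Groth.Agent.Lib.Helper18.CM
  Groth.Agent.Lib.Helper16.Depth Groth.Agent.Lib.Helper16.KolH2

attribute [local instance] locAlgebra locModule isLocalHom_loc tower_A_Ap_Bn tower_Ap_Bn_X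
  tower_A_Ap_X

section gen

variable {R : Type u} [CommRing R] {X Y : Type u} [AddCommGroup X] [Module R X]
  [AddCommGroup Y] [Module R Y]

theorem map_mem_smul_top (I : Ideal R) (g : X →ₗ[R] Y) {x : X}
    (hx : x ∈ I • (⊤ : Submodule R X)) : g x ∈ I • (⊤ : Submodule R Y) := by
  induction hx using Submodule.smul_induction_on' with
  | smul r hr y _ =>
    rw [map_smul]
    exact Submodule.smul_mem_smul hr Submodule.mem_top
  | add a _ b _ ha hb =>
    rw [map_add]
    exact Submodule.add_mem _ ha hb

end gen

section elementwise

variable {A B : Type u} [CommRing A] [CommRing B] [Algebra A B] (n : Ideal B) [hn : n.IsPrime]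
  {X₁ X₂ X₃ : Type u} [AddCommGroup X₁] [Module B X₁] [Module A X₁] [IsScalarTower A B X₁]
  [AddCommGroup X₂] [Module B X₂] [Module A X₂] [IsScalarTower A B X₂]
  [AddCommGroup X₃] [Module B X₃] [Module A X₃] [IsScalarTower A B X₃]
  (ι : X₁ →ₗ[B] X₂) (π : X₂ →ₗ[B] X₃) (hι : Function.Injective ι) (hπ : Function.Surjective π)
  (hex : Function.Exact ι π)

omit [Module A X₁] [IsScalarTower A B X₁] in
theorem mk_eq_smul_mk_one (z : X₁) (t : n.primeCompl) :
    (LocalizedModule.mk z t : LocalizedModule n.primeCompl X₁) =
      (Localization.mk (1 : B) t : Localization.AtPrime n) • LocalizedModule.mk z 1 := by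
  rw [LocalizedModule.mk_smul_mk, one_smul, mul_one]

include hι hπ hex in
theorem elementwise
    (hflat : ∀ q : PrimeSpectrum B, q.asIdeal < n →
      Module.Flat A (LocalizedModule q.asIdeal.primeCompl X₃))
    (x : LocalizedModule n.primeCompl X₁)
    (hx : LocalizedModule.map n.primeCompl ι x ∈
      maximalIdeal (Localization.AtPrime (n.comap (algebraMap A B))) •
        (⊤ : Submodule (Localization.AtPrime (n.comap (algebraMap A B)))
          (LocalizedModule n.primeCompl X₂)))
    (Q : PrimeSpectrum (Localization.AtPrime n))
    (hQ : Q.asIdeal ≠ maximalIdeal (Localization.AtPrime n)) :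
    ∃ s : Localization.AtPrime n, s ∉ Q.asIdeal ∧
      s • x ∈ maximalIdeal (Localization.AtPrime (n.comap (algebraMap A B))) •
        (⊤ : Submodule (Localization.AtPrime (n.comap (algebraMap A B)))
          (LocalizedModule n.primeCompl X₁)) := by
  induction x using LocalizedModule.induction_on with
  | h x₀ t =>
    rw [LocalizedModule.map_mk] at hx
    have h0 := (mem_max_smul_top_iff A B n X₂ _).1 hx
    have h1 : (LocalizedModule.mk (ι x₀) (1 : n.primeCompl) : LocalizedModule n.primeCompl X₂) ∈
        (n.comap (algebraMap A B)) • (⊤ : Submodule A (LocalizedModule n.primeCompl X₂)) := by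
      have h := smul_mem_ideal_smul_top (B := Localization.AtPrime n) (n.comap (algebraMap A B))
        (algebraMap B (Localization.AtPrime n) (t : B)) _ h0
      have e : algebraMap B (Localization.AtPrime n) (t : B) •
          (LocalizedModule.mk (ι x₀) t : LocalizedModule n.primeCompl X₂) =
          LocalizedModule.mk (ι x₀) 1 := by
        rw [algebraMap_smul, LocalizedModule.smul'_mk]
        exact LocalizedModule.mk_cancel t (ι x₀)
      rw [e] at h
      exact h
    obtain ⟨t', ht', h2⟩ := exists_smul_mem_of_mk_mem n.primeCompl (n.comap (algebraMap A B))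
      (ι x₀) h1
    -- the prime `q`
    have hQle : Q.asIdeal ≤ maximalIdeal (Localization.AtPrime n) :=
      IsLocalRing.le_maximalIdeal Q.isPrime.ne_top
    let q : PrimeSpectrum B := ⟨Q.asIdeal.comap (algebraMap B (Localization.AtPrime n)),
      Ideal.comap_isPrime _ _⟩
    have hqle : q.asIdeal ≤ n := by
      intro b hb
      have hb' : algebraMap B (Localization.AtPrime n) b ∈ Q.asIdeal := hb
      exact (IsLocalization.AtPrime.to_map_mem_maximal_iff (Localization.AtPrime n) n b).1
        (hQle hb')
    have hqne : q.asIdeal ≠ n := by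
      intro h
      apply hQ
      apply le_antisymm hQle
      rw [← Localization.AtPrime.map_eq_maximalIdeal]
      have e : n.map (algebraMap B (Localization.AtPrime n)) =
          q.asIdeal.map (algebraMap B (Localization.AtPrime n)) :=
        congrArg (Ideal.map (algebraMap B (Localization.AtPrime n))) h.symm
      rw [e]
      exact Ideal.map_comap_le
    have hqlt : q.asIdeal < n := lt_of_le_of_ne hqle hqne
    have hfl := hflat q hqlt
    obtain ⟨s, hs, h3⟩ := exists_smul_mem_of_flat_localized ι π hι hπ hex q.asIdeal hfl
      (n.comap (algebraMap A B)) (t' • x₀) (by rw [map_smul]; exact h2)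
    refine ⟨algebraMap B (Localization.AtPrime n) (s * t'), ?_, ?_⟩
    · intro hmem
      have hmem' : s * t' ∈ q.asIdeal := hmem
      rcases q.isPrime.mem_or_mem hmem' with h | h
      · exact hs h
      · exact ht' (hqle h)
    · apply (mem_max_smul_top_iff A B n X₁ _).2
      rw [algebraMap_smul, LocalizedModule.smul'_mk, mk_eq_smul_mk_one]
      apply smul_mem_ideal_smul_top (B := Localization.AtPrime n)
      apply mk_mem_smul_top
      rw [mul_smul]
      exact h3

end elementwise

end Groth.Agent.Lib.Helper16.QGlob
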