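import Mathlib
import Groth.Agent.Lib.Helper16.QGlob3

/-!
# Key local theorem: flatness of the cokernel at a prime from the punctured spectrum + fibre depths (for S18725)
-/

set_option autoImplicit false
set_option linter.style.haveILetI false

universe u
open IsLocalRing TensorProduct Pointwise RingTheory.Sequence

namespace Groth.Agent.Lib.Helper16.QGlob

open Groth.Agent.Lib.Helper18.QGor Groth.Agent.Lib.Helper18.FamCyc Groth.Agent.Lib.Helper18.CM
  Groth.Agent.Lib.Helper16.Depth Groth.Agent.Lib.Helper16.KolH2

attribute [local instance] locAlgebra locModule isLocalHom_loc tower_A_Ap_Bn tower_Ap_Bn_X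
  tower_A_Ap_X

section KLT

variable {A B : Type u} [CommRing A] [CommRing B] [IsNoetherianRing A] [IsNoetherianRing B]
  [Algebra A B]
  {F E0 E1 G : Type u} [AddCommGroup F] [Module B F] [Module A F] [IsScalarTower A B F]
  [Module.Finite B F]
  [AddCommGroup E0] [Module B E0] [Module A E0] [IsScalarTower A B E0] [Module.Finite B E0]
  [Module.Flat A E0]
  [AddCommGroup E1] [Module B E1] [Module A E1] [IsScalarTower A B E1] [Module.Finite B E1]
  [Module.Flat A E1]
  [AddCommGroup G] [Module B G] [Module A G] [IsScalarTower A B G] [Module.Finite B G]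
  (f : F →ₗ[B] E0) (u : E0 →ₗ[B] E1) (v : E1 →ₗ[B] G)
  (hf : Function.Injective f) (hfu : Function.Exact f u) (huv : Function.Exact u v)
  (hv : Function.Surjective v)

omit [IsNoetherianRing A] [IsNoetherianRing B] [Module.Finite B E0] [Module.Flat A E0]
  [Module.Finite B E1] [Module.Finite B G] in
include huv hv in
theorem flat_localized_range (q : Ideal B) [q.IsPrime]
    (hG : Module.Flat A (LocalizedModule q.primeCompl G)) :
    Module.Flat A (LocalizedModule q.primeCompl (LinearMap.range u)) := by
  have hE1 : Module.Flat A (LocalizedModule q.primeCompl E1) := flat_localizedModule q.primeCompl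
  exact flat_of_exact_of_flat
    ((LocalizedModule.map q.primeCompl (LinearMap.range u).subtype).restrictScalars A)
    ((LocalizedModule.map q.primeCompl v).restrictScalars A)
    (LocalizedModule.map_injective _ _ (Submodule.injective_subtype _))
    (LocalizedModule.map_surjective _ v hv)
    (LocalizedModule.map_exact _ _ v (exact_subtype_range u v huv))

include hf hfu huv hv in
/-- **Key local theorem**: if `G` is `A`-flat at all primes strictly below `n` and the fibre stalks
at `n` of `E⁰, E¹, F` have depth `≥ 2, 1, 2`, then `G` is `A`-flat at `n`. -/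
theorem flatAt_of_punctured (n : Ideal B) [hn : n.IsPrime]
    (hpunct : ∀ q : PrimeSpectrum B, q.asIdeal < n → FlatCA.FlatAt A q.asIdeal G)
    (h0 : 2 ≤ LocCoh.idealDepth (n.map (algebraMap B (EGA4.FibLocRing A B n)))
      (EGA4.FibLocMod A B n E0))
    (h1 : 1 ≤ LocCoh.idealDepth (n.map (algebraMap B (EGA4.FibLocRing A B n)))
      (EGA4.FibLocMod A B n E1))
    (h2 : 2 ≤ LocCoh.idealDepth (n.map (algebraMap B (EGA4.FibLocRing A B n)))
      (EGA4.FibLocMod A B n F)) :
    FlatCA.FlatAt A n G := by
  have hf' := LocalizedModule.map_injective n.primeCompl f hf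
  have hfu' := LocalizedModule.map_exact n.primeCompl f u hfu
  have huv' := LocalizedModule.map_exact n.primeCompl u v huv
  have hv' := LocalizedModule.map_surjective n.primeCompl v hv
  haveI : Module.Flat (Localization.AtPrime (n.comap (algebraMap A B)))
      (LocalizedModule n.primeCompl E0) :=
    (flat_Ap_iff A B n E0).mpr (flat_localizedModule n.primeCompl)
  haveI : Module.Flat (Localization.AtPrime (n.comap (algebraMap A B)))
      (LocalizedModule n.primeCompl E1) :=
    (flat_Ap_iff A B n E1).mpr (flat_localizedModule n.primeCompl)
  have hGq : ∀ q : PrimeSpectrum B, q.asIdeal < n →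
      Module.Flat A (LocalizedModule q.asIdeal.primeCompl G) := fun q hq => hpunct q hq
  have hQU : ∀ q : PrimeSpectrum B, q.asIdeal < n →
      Module.Flat A (LocalizedModule q.asIdeal.primeCompl (LinearMap.range u)) :=
    fun q hq => flat_localized_range u v huv hv q.asIdeal (hGq q hq)
  have hE2 := fun x hx Q hQ => elementwise n f u.rangeRestrict hf
    (LinearMap.surjective_rangeRestrict u) (exact_rangeRestrict f u hfu) hQU x hx Q hQ
  -- the comparison map `(range u)_n → range u'`
  have hJ : ∀ z : LocalizedModule n.primeCompl (LinearMap.range u),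
      LocalizedModule.map n.primeCompl (LinearMap.range u).subtype z ∈
        LinearMap.range (LocalizedModule.map n.primeCompl u) := by
    intro z
    induction z using LocalizedModule.induction_on with
    | h z₀ t₀ =>
      obtain ⟨_, ⟨e₀, rfl⟩⟩ := z₀
      refine ⟨LocalizedModule.mk e₀ t₀, ?_⟩
      rw [LocalizedModule.map_mk, LocalizedModule.map_mk]
      rfl
  let J : LocalizedModule n.primeCompl (LinearMap.range u) →ₗ[Localization.AtPrime n]
      LinearMap.range (LocalizedModule.map n.primeCompl u) :=
    (LocalizedModule.map n.primeCompl (LinearMap.range u).subtype).codRestrict _ hJ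
  have hE1 : ∀ y : LinearMap.range (LocalizedModule.map n.primeCompl u),
      (y : LocalizedModule n.primeCompl E1) ∈
        maximalIdeal (Localization.AtPrime (n.comap (algebraMap A B))) •
          (⊤ : Submodule (Localization.AtPrime (n.comap (algebraMap A B)))
            (LocalizedModule n.primeCompl E1)) →
      ∀ Q : PrimeSpectrum (Localization.AtPrime n),
        Q.asIdeal ≠ maximalIdeal (Localization.AtPrime n) →
        ∃ s : Localization.AtPrime n, s ∉ Q.asIdeal ∧
          s • y ∈ maximalIdeal (Localization.AtPrime (n.comap (algebraMap A B))) •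
            (⊤ : Submodule (Localization.AtPrime (n.comap (algebraMap A B)))
              (LinearMap.range (LocalizedModule.map n.primeCompl u))) := by
    rintro ⟨_, ⟨e', rfl⟩⟩ hy Q hQ
    induction e' using LocalizedModule.induction_on with
    | h e t =>
      let x : LocalizedModule n.primeCompl (LinearMap.range u) :=
        LocalizedModule.mk (⟨u e, ⟨e, rfl⟩⟩ : LinearMap.range u) t
      have hxval : LocalizedModule.map n.primeCompl (LinearMap.range u).subtype x =
          LocalizedModule.map n.primeCompl u (LocalizedModule.mk e t) := by
        rw [LocalizedModule.map_mk, LocalizedModule.map_mk]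
        rfl
      have hx : LocalizedModule.map n.primeCompl (LinearMap.range u).subtype x ∈
          maximalIdeal (Localization.AtPrime (n.comap (algebraMap A B))) •
            (⊤ : Submodule (Localization.AtPrime (n.comap (algebraMap A B)))
              (LocalizedModule n.primeCompl E1)) := by
        rw [hxval]
        exact hy
      obtain ⟨s, hs, hsx⟩ := elementwise n (LinearMap.range u).subtype v
        (Submodule.injective_subtype _) hv (exact_subtype_range u v huv) hGq x hx Q hQ
      refine ⟨s, hs, ?_⟩
      have hJx : J (s • x) = s • (⟨LocalizedModule.map n.primeCompl u (LocalizedModule.mk e t),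
          ⟨LocalizedModule.mk e t, rfl⟩⟩ :
            LinearMap.range (LocalizedModule.map n.primeCompl u)) := by
        rw [map_smul]
        congr 1
        apply Subtype.ext
        exact hxval
      rw [← hJx]
      exact map_mem_smul_top _
        (J.restrictScalars (Localization.AtPrime (n.comap (algebraMap A B)))) hsx
  have h0' := (le_depth_fib_iff A B n E0 2).1 (by exact_mod_cast h0)
  have h1' := (le_depth_fib_iff A B n E1 1).1 (by exact_mod_cast h1)
  have h2' := (le_depth_fib_iff A B n F 2).1 (by exact_mod_cast h2)
  have hflat : Module.Flat (Localization.AtPrime (n.comap (algebraMap A B)))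
      (LocalizedModule n.primeCompl G) :=
    flat_of_two_le_of_elementwise (LocalizedModule.map n.primeCompl f)
      (LocalizedModule.map n.primeCompl u) (LocalizedModule.map n.primeCompl v)
      hf' hfu' huv' hv' hE2 hE1 (by exact_mod_cast h0') (by exact_mod_cast h1')
      (by exact_mod_cast h2')
  exact (flat_Ap_iff A B n G).mp hflat

end KLT

end Groth.Agent.Lib.Helper16.QGlob
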