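import Mathlib
import Groth.Agent.Lib.Helper16.QGlob4
import Groth.Agent.Lib.Helper18.FlF

/-!
# Globalization: flatness of the cokernel at a prime vs fibre depth of the kernel near it (for S18725)
-/

set_option autoImplicit false
set_option linter.style.haveILetI false

universe u
open IsLocalRing TensorProduct Pointwise RingTheory.Sequence

namespace Groth.Agent.Lib.Helper16.QGlob

open Groth.Agent.Lib.Helper18.QGor Groth.Agent.Lib.Helper18.FamCyc Groth.Agent.Lib.Helper18.CM
  Groth.Agent.Lib.Helper16.Depth Groth.Agent.Lib.Helper16.KolH2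

attribute [local instance] locAlgebra locModule isLocalHom_loc tower_A_Ap_Bn tower_Ap_Bn_X
  tower_A_Ap_X

section main

variable {A B : Type u} [CommRing A] [CommRing B] [IsNoetherianRing A] [IsNoetherianRing B]
  [Algebra A B] (J : Ideal B)
  {F E0 E1 G : Type u} [AddCommGroup F] [Module B F] [Module A F] [IsScalarTower A B F]
  [Module.Finite B F]
  [AddCommGroup E0] [Module B E0] [Module A E0] [IsScalarTower A B E0] [Module.Finite B E0]
  [Module.Flat A E0]
  [AddCommGroup E1] [Module B E1] [Module A E1] [IsScalarTower A B E1] [Module.Finite B E1]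
  [Module.Flat A E1]
  [AddCommGroup G] [Module B G] [Module A G] [IsScalarTower A B G] [Module.Finite B G]
  (f : F →ₗ[B] E0) (u : E0 →ₗ[B] E1) (v : E1 →ₗ[B] G)
  (hf : Function.Injective f) (hfu : Function.Exact f u) (huv : Function.Exact u v)
  (hv : Function.Surjective v)
  (hGU : ∀ q : PrimeSpectrum B, ¬ J ≤ q.asIdeal → FlatCA.FlatAt A q.asIdeal G)
  (h0 : ∀ q : PrimeSpectrum B, J ≤ q.asIdeal →
    2 ≤ LocCoh.idealDepth (q.asIdeal.map (algebraMap B (EGA4.FibLocRing A B q.asIdeal)))
      (EGA4.FibLocMod A B q.asIdeal E0))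
  (h1 : ∀ q : PrimeSpectrum B, J ≤ q.asIdeal →
    1 ≤ LocCoh.idealDepth (q.asIdeal.map (algebraMap B (EGA4.FibLocRing A B q.asIdeal)))
      (EGA4.FibLocMod A B q.asIdeal E1))

include hf hfu huv hv hGU h0 h1 in
/-- (⇐) -/
theorem flatAt_of_forall_basicOpen (s : B)
    (hs : ∀ q : PrimeSpectrum B, s ∉ q.asIdeal →
      (J ≤ q.asIdeal →
        2 ≤ LocCoh.idealDepth (q.asIdeal.map (algebraMap B (EGA4.FibLocRing A B q.asIdeal)))
          (EGA4.FibLocMod A B q.asIdeal F))) :
    ∀ q : PrimeSpectrum B, s ∉ q.asIdeal → FlatCA.FlatAt A q.asIdeal G := by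
  have step : ∀ q : PrimeSpectrum B, s ∉ q.asIdeal →
      (∀ q' : PrimeSpectrum B, q'.asIdeal < q.asIdeal → FlatCA.FlatAt A q'.asIdeal G) →
      FlatCA.FlatAt A q.asIdeal G := by
    intro q hsq hpunct
    by_cases hJ : J ≤ q.asIdeal
    · exact flatAt_of_punctured f u v hf hfu huv hv q.asIdeal hpunct (h0 q hJ) (h1 q hJ)
        (hs q hsq hJ)
    · exact hGU q hJ
  have key : ∀ k : ℕ, ∀ q : PrimeSpectrum B, s ∉ q.asIdeal → q.asIdeal.height ≤ (k : ℕ∞) →
      FlatCA.FlatAt A q.asIdeal G := by
    intro k
    induction k with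
    | zero =>
      intro q hsq hk
      apply step q hsq
      intro q' hq'
      exfalso
      have h1 := Ideal.height_add_one_le_of_lt_of_isPrime hq'
      have h2 : q'.asIdeal.height + 1 ≤ 0 := h1.trans (by exact_mod_cast hk)
      simp at h2
    | succ k ih =>
      intro q hsq hk
      apply step q hsq
      intro q' hq'
      apply ih q'
      · intro hmem
        exact hsq (hq'.le hmem)
      · have h1 := Ideal.height_add_one_le_of_lt_of_isPrime hq'
        have h2 : q'.asIdeal.height + 1 ≤ (k : ℕ∞) + 1 := h1.trans (by exact_mod_cast hk)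
        exact (ENat.add_le_add_iff_right (by simp)).mp h2
  intro q hsq
  obtain ⟨k, hk⟩ := ENat.ne_top_iff_exists.mp (Ideal.height_ne_top_of_isPrime (I := q.asIdeal))
  exact key k q hsq hk.ge

include hf hfu huv hv h0 h1 in
/-- (⇒), pointwise part -/
theorem flatAt_F_and_depth_of_flatAt_G (q : PrimeSpectrum B)
    (hG : FlatCA.FlatAt A q.asIdeal G) :
    FlatCA.FlatAt A q.asIdeal F ∧
      (J ≤ q.asIdeal →
        2 ≤ LocCoh.idealDepth (q.asIdeal.map (algebraMap B (EGA4.FibLocRing A B q.asIdeal)))
          (EGA4.FibLocMod A B q.asIdeal F)) := by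
  have hf' := LocalizedModule.map_injective q.asIdeal.primeCompl f hf
  have hfu' := LocalizedModule.map_exact q.asIdeal.primeCompl f u hfu
  have huv' := LocalizedModule.map_exact q.asIdeal.primeCompl u v huv
  have hv' := LocalizedModule.map_surjective q.asIdeal.primeCompl v hv
  have hGq : Module.Flat A (LocalizedModule q.asIdeal.primeCompl G) := hG
  have hE0 : Module.Flat A (LocalizedModule q.asIdeal.primeCompl E0) :=
    flat_localizedModule q.asIdeal.primeCompl
  have hE1 : Module.Flat A (LocalizedModule q.asIdeal.primeCompl E1) :=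
    flat_localizedModule q.asIdeal.primeCompl
  refine ⟨?_, ?_⟩
  · exact flat_F_of_flat
      ((LocalizedModule.map q.asIdeal.primeCompl f))
      ((LocalizedModule.map q.asIdeal.primeCompl u))
      ((LocalizedModule.map q.asIdeal.primeCompl v)) hf' hfu' huv' hv'
  · intro hJ
    haveI : Module.Flat (Localization.AtPrime (q.asIdeal.comap (algebraMap A B)))
        (LocalizedModule q.asIdeal.primeCompl E0) := (flat_Ap_iff A B q.asIdeal E0).mpr hE0
    haveI : Module.Flat (Localization.AtPrime (q.asIdeal.comap (algebraMap A B)))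
        (LocalizedModule q.asIdeal.primeCompl E1) := (flat_Ap_iff A B q.asIdeal E1).mpr hE1
    haveI : Module.Flat (Localization.AtPrime (q.asIdeal.comap (algebraMap A B)))
        (LocalizedModule q.asIdeal.primeCompl G) := (flat_Ap_iff A B q.asIdeal G).mpr hGq
    have h0' := (le_depth_fib_iff A B q.asIdeal E0 2).1 (by exact_mod_cast h0 q hJ)
    have h1' := (le_depth_fib_iff A B q.asIdeal E1 1).1 (by exact_mod_cast h1 q hJ)
    have h2' := two_le_of_flat (maximalIdeal (Localization.AtPrime q.asIdeal))
      (LocalizedModule.map q.asIdeal.primeCompl f) (LocalizedModule.map q.asIdeal.primeCompl u)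
      (LocalizedModule.map q.asIdeal.primeCompl v) hf' hfu' huv' hv'
      (by exact_mod_cast h0') (by exact_mod_cast h1')
    have := (le_depth_fib_iff A B q.asIdeal F 2).2 (by exact_mod_cast h2')
    exact_mod_cast this

end main

end Groth.Agent.Lib.Helper16.QGlob
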