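import Mathlib
import Groth.Agent.Lib.Helper16.QGlob5

/-!
# Fibre depth along an arbitrary ideal: conversion and the pointwise four-term statement (for S18711) (helper16)
-/

set_option autoImplicit false
set_option linter.style.haveILetI false
set_option linter.unusedSectionVars false

universe u
open IsLocalRing TensorProduct Pointwise RingTheory.Sequence

namespace Groth.Agent.Lib.Helper16.QFour

open Groth.Agent.Lib.Helper18.QGor Groth.Agent.Lib.Helper18.FamCyc Groth.Agent.Lib.Helper18.CM
  Groth.Agent.Lib.Helper16.Depth Groth.Agent.Lib.Helper16.KolH2 Groth.Agent.Lib.Helper16.QGlob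

attribute [local instance] locAlgebra locModule isLocalHom_loc tower_A_Ap_Bn tower_Ap_Bn_X
  tower_A_Ap_X

section P4

variable (A B : Type u) [CommRing A] [CommRing B] [Algebra A B] (n : Ideal B) [hn : n.IsPrime]
  (X : Type u) [AddCommGroup X] [Module B X]

/-- depth conversion along an arbitrary ideal of `B` -/
theorem le_idealDepth_fib_iff (I : Ideal B) (k : ℕ) :
    (k : ℕ∞) ≤ LocCoh.idealDepth (I.map (algebraMap B (EGA4.FibLocRing A B n)))
        (EGA4.FibLocMod A B n X) ↔
      (k : ℕ∞) ≤ LocCoh.idealDepth (I.map (algebraMap B (Localization.AtPrime n)))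
        (EGA4.FibMod (Localization.AtPrime (n.comap (algebraMap A B))) (Localization.AtPrime n)
          (LocalizedModule n.primeCompl X)) := by
  have hmapq : I.map (algebraMap B (EGA4.FibLocRing A B n)) =
      (I.map (algebraMap B (Localization.AtPrime n))).map
        (algebraMap (Localization.AtPrime n) (EGA4.FibLocRing A B n)) := by
    have h : algebraMap B (EGA4.FibLocRing A B n) =
        (algebraMap (Localization.AtPrime n) (EGA4.FibLocRing A B n)).comp
          (algebraMap B (Localization.AtPrime n)) := rfl
    rw [h, ← Ideal.map_map]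
  have hcongr : LocCoh.idealDepth (I.map (algebraMap B (Localization.AtPrime n)))
      (EGA4.FibMod (Localization.AtPrime (n.comap (algebraMap A B))) (Localization.AtPrime n)
        (LocalizedModule n.primeCompl X)) =
      LocCoh.idealDepth (I.map (algebraMap B (Localization.AtPrime n)))
        (EGA4.FibLocMod A B n X) :=
    idealDepth_congr (Submodule.quotEquivOfEq _ _ (by
      change (Ideal.map (algebraMap (Localization.AtPrime (n.comap (algebraMap A B)))
        (Localization.AtPrime n)) (maximalIdeal _)) •
          (⊤ : Submodule (Localization.AtPrime n) (LocalizedModule n.primeCompl X)) = _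
      rw [max_map_eq])) _
  rw [hcongr, hmapq]
  constructor
  · intro h
    exact le_idealDepth_of_le_idealDepth_map Ideal.Quotient.mk_surjective _ _ k h
  · intro h
    exact le_idealDepth_map_of_le_idealDepth _ _ k h

end P4

section main

variable {A B : Type u} [CommRing A] [CommRing B] [IsNoetherianRing A] [IsNoetherianRing B]
  [Algebra A B] (J : Ideal B)
  {F E0 E1 G : Type u} [AddCommGroup F] [Module B F] [Module A F] [IsScalarTower A B F]
  [Module.Finite B F]
  [AddCommGroup E0] [Module B E0] [Module A E0] [IsScalarTower A B E0] [Module.Finite B E0]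
  [Module.Flat A E0]
  [AddCommGroup E1] [Module B E1] [Module A E1] [IsScalarTower A B E1] [Module.Finite B E1]
  [Module.Flat A E1]
  [AddCommGroup G] [Module B G] [Module A G] [IsScalarTower A B G] [Module.Finite B G]
  (f : F →ₗ[B] E0) (u : E0 →ₗ[B] E1) (v : E1 →ₗ[B] G)
  (hf : Function.Injective f) (hfu : Function.Exact f u) (huv : Function.Exact u v)
  (hv : Function.Surjective v)

include hf hfu huv hv in
/-- pointwise: if `G` is flat at `q` then the fibre stalk of `F` at `q` has depth two along `J` -/
theorem two_le_idealDepthJ_of_flatAt_G (q : PrimeSpectrum B)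
    (h0 : 2 ≤ LocCoh.idealDepth (J.map (algebraMap B (EGA4.FibLocRing A B q.asIdeal)))
      (EGA4.FibLocMod A B q.asIdeal E0))
    (h1 : 1 ≤ LocCoh.idealDepth (J.map (algebraMap B (EGA4.FibLocRing A B q.asIdeal)))
      (EGA4.FibLocMod A B q.asIdeal E1))
    (hG : FlatCA.FlatAt A q.asIdeal G) :
    2 ≤ LocCoh.idealDepth (J.map (algebraMap B (EGA4.FibLocRing A B q.asIdeal)))
      (EGA4.FibLocMod A B q.asIdeal F) := by
  have hf' := LocalizedModule.map_injective q.asIdeal.primeCompl f hf
  have hfu' := LocalizedModule.map_exact q.asIdeal.primeCompl f u hfu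
  have huv' := LocalizedModule.map_exact q.asIdeal.primeCompl u v huv
  have hv' := LocalizedModule.map_surjective q.asIdeal.primeCompl v hv
  have hGq : Module.Flat A (LocalizedModule q.asIdeal.primeCompl G) := hG
  have hE0 : Module.Flat A (LocalizedModule q.asIdeal.primeCompl E0) :=
    flat_localizedModule q.asIdeal.primeCompl
  have hE1 : Module.Flat A (LocalizedModule q.asIdeal.primeCompl E1) :=
    flat_localizedModule q.asIdeal.primeCompl
  haveI : Module.Flat (Localization.AtPrime (q.asIdeal.comap (algebraMap A B)))
      (LocalizedModule q.asIdeal.primeCompl E0) := (flat_Ap_iff A B q.asIdeal E0).mpr hE0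
  haveI : Module.Flat (Localization.AtPrime (q.asIdeal.comap (algebraMap A B)))
      (LocalizedModule q.asIdeal.primeCompl E1) := (flat_Ap_iff A B q.asIdeal E1).mpr hE1
  haveI : Module.Flat (Localization.AtPrime (q.asIdeal.comap (algebraMap A B)))
      (LocalizedModule q.asIdeal.primeCompl G) := (flat_Ap_iff A B q.asIdeal G).mpr hGq
  have h0' := (le_idealDepth_fib_iff A B q.asIdeal E0 J 2).1 (by exact_mod_cast h0)
  have h1' := (le_idealDepth_fib_iff A B q.asIdeal E1 J 1).1 (by exact_mod_cast h1)
  have h2' := two_le_of_flat (J.map (algebraMap B (Localization.AtPrime q.asIdeal)))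
    (LocalizedModule.map q.asIdeal.primeCompl f) (LocalizedModule.map q.asIdeal.primeCompl u)
    (LocalizedModule.map q.asIdeal.primeCompl v) hf' hfu' huv' hv'
    (by exact_mod_cast h0') (by exact_mod_cast h1')
  have := (le_idealDepth_fib_iff A B q.asIdeal F J 2).2 (by exact_mod_cast h2')
  exact_mod_cast this

end main

end Groth.Agent.Lib.Helper16.QFour
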