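import Mathlib
import Groth.Agent.Lib.Helper16.QF1
import Groth.Agent.Lib.Helper16.QF2
import Groth.Agent.Lib.Helper16.QF3
import Groth.Agent.Lib.Helper16.QF4

/-!
# Four-term exact sequences under base change: reflexivity of the kernel and the fibrewise criterion (for S18711) (helper16)
-/

set_option autoImplicit false
set_option linter.style.haveILetI false
set_option linter.unusedSectionVars false

universe u
open IsLocalRing TensorProduct

namespace Groth.Agent.Lib.Helper16.QFour

open Groth.Agent.Lib.Helper18.QGor Groth.Agent.Lib.Helper18.CM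
  Groth.Agent.Lib.Helper16.Depth Groth.Agent.Lib.Helper16.QGlob Groth.Agent.Lib.Helper16.DDual

section pushout

variable (A B : Type u) [CommRing A] [CommRing B] [IsNoetherianRing A] [IsNoetherianRing B]
  [Algebra A B]
  (A' B' : Type u) [CommRing A'] [CommRing B'] [IsNoetherianRing A'] [IsNoetherianRing B']
  [Algebra A A'] [Algebra B B'] [Algebra A' B'] [Algebra A B'] [IsScalarTower A B B']
  [IsScalarTower A A' B'] [hpo : Algebra.IsPushout A B A' B'] [Module.Flat A B] (J : Ideal B)

include hpo in
theorem flat_pushout : Module.Flat A' B' :=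
  Module.Flat.isBaseChange A A' B B' (Algebra.IsPushout.symm hpo).out

variable {B} in
omit [IsNoetherianRing B] [IsNoetherianRing B'] in
theorem baseChange_exact {E0 E1 G : Type u} [AddCommGroup E0] [Module B E0] [AddCommGroup E1]
    [Module B E1] [AddCommGroup G] [Module B G] (u : E0 →ₗ[B] E1) (v : E1 →ₗ[B] G)
    (huv : Function.Exact u v) (hv : Function.Surjective v) :
    Function.Exact (u.baseChange B') (v.baseChange B') := by
  have h := lTensor_exact B' huv hv
  intro y
  exact h y

variable {B} in
omit [IsNoetherianRing B] [IsNoetherianRing B'] in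
theorem baseChange_surjective {E1 G : Type u} [AddCommGroup E1]
    [Module B E1] [AddCommGroup G] [Module B G] (v : E1 →ₗ[B] G)
    (hv : Function.Surjective v) :
    Function.Surjective (v.baseChange B') :=
  LinearMap.lTensor_surjective B' hv

end pushout

section four

variable (A B : Type u) [CommRing A] [CommRing B] [IsNoetherianRing A] [IsNoetherianRing B]
  [Algebra A B]
  (A' B' : Type u) [CommRing A'] [CommRing B'] [IsNoetherianRing A'] [IsNoetherianRing B']
  [Algebra A A'] [Algebra B B'] [Algebra A' B'] [Algebra A B'] [IsScalarTower A B B']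
  [IsScalarTower A A' B'] [hpo : Algebra.IsPushout A B A' B'] [Module.Flat A B] (J : Ideal B)
  (hZ : ∀ q : PrimeSpectrum B, J ≤ q.asIdeal →
    2 ≤ LocCoh.idealDepth (q.asIdeal.map (algebraMap B (EGA4.FibLocRing A B q.asIdeal)))
      (EGA4.FibLocRing A B q.asIdeal))
  {F E0 E1 G : Type u} [AddCommGroup F] [Module B F] [Module.Finite B F]
  [AddCommGroup E0] [Module B E0] [Module.Finite B E0] [Module.Projective B E0]
  [AddCommGroup E1] [Module B E1] [Module.Finite B E1] [Module.Projective B E1]
  [AddCommGroup G] [Module B G] [Module.Finite B G]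
  (f : F →ₗ[B] E0) (u : E0 →ₗ[B] E1) (v : E1 →ₗ[B] G)
  (hf : Function.Injective f) (hfu : Function.Exact f u) (huv : Function.Exact u v)
  (hv : Function.Surjective v)
  (hFU : ∀ q : PrimeSpectrum B, ¬ J ≤ q.asIdeal →
    Module.Free (Localization.AtPrime q.asIdeal) (LocalizedModule q.asIdeal.primeCompl F))
  (hGU : ∀ q : PrimeSpectrum B, ¬ J ≤ q.asIdeal →
    Module.Free (Localization.AtPrime q.asIdeal) (LocalizedModule q.asIdeal.primeCompl G))

include hZ hf hfu hFU in
/-- (i) -/
theorem isReflexive_F : Module.IsReflexive B F := by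
  have hB2 := two_le_idealDepth_self A B J hZ
  have hB1 : 1 ≤ LocCoh.idealDepth J B := le_trans (by norm_num) hB2
  have h0 : 2 ≤ LocCoh.idealDepth J E0 := by
    exact_mod_cast le_idealDepth_of_projective J E0 2 (by exact_mod_cast hB2)
  have h1 : 1 ≤ LocCoh.idealDepth J E1 := by
    exact_mod_cast le_idealDepth_of_projective J E1 1 (by exact_mod_cast hB1)
  have hK := two_le_idealDepth_ker J u h0 h1
  let e : F ≃ₗ[B] LinearMap.ker u :=
    (LinearEquiv.ofInjective f hf).trans (LinearEquiv.ofEq _ _ (hfu.linearMap_ker_eq).symm)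
  have hF : 2 ≤ LocCoh.idealDepth J F := by
    rw [idealDepth_congr e J]
    exact hK
  refine isReflexive_of_two_le_idealDepth F J hB1 (fun p hp => ?_) hF
  haveI := hFU p hp
  infer_instance

end four

section abstractFour

variable {A B : Type u} [CommRing A] [CommRing B] [IsNoetherianRing A] [IsNoetherianRing B]
  [Algebra A B] [Module.Flat A B] (J : Ideal B)
  (hB2 : 2 ≤ LocCoh.idealDepth J B)
  (hZJ : ∀ q : PrimeSpectrum B,
    2 ≤ LocCoh.idealDepth (J.map (algebraMap B (EGA4.FibLocRing A B q.asIdeal)))
      (EGA4.FibLocRing A B q.asIdeal))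
  {K E0 E1 G : Type u} [AddCommGroup K] [Module B K] [Module A K] [IsScalarTower A B K]
  [Module.Finite B K]
  [AddCommGroup E0] [Module B E0] [Module A E0] [IsScalarTower A B E0] [Module.Finite B E0]
  [Module.Projective B E0]
  [AddCommGroup E1] [Module B E1] [Module A E1] [IsScalarTower A B E1] [Module.Finite B E1]
  [Module.Projective B E1]
  [AddCommGroup G] [Module B G] [Module A G] [IsScalarTower A B G] [Module.Finite B G]
  (f : K →ₗ[B] E0) (u : E0 →ₗ[B] E1) (v : E1 →ₗ[B] G)
  (hf : Function.Injective f) (hfu : Function.Exact f u) (huv : Function.Exact u v)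
  (hv : Function.Surjective v)
  (hGU : ∀ q : PrimeSpectrum B, ¬ J ≤ q.asIdeal →
    Module.Free (Localization.AtPrime q.asIdeal) (LocalizedModule q.asIdeal.primeCompl G))

include hB2 hf hfu huv hv hGU in
/-- (ii), abstract form -/
theorem isReflexive_and_two_le_idealDepth_K :
    Module.IsReflexive B K ∧ 2 ≤ LocCoh.idealDepth J K := by
  have hB1 : 1 ≤ LocCoh.idealDepth J B := le_trans (by norm_num) hB2
  have h0 : 2 ≤ LocCoh.idealDepth J E0 := by
    exact_mod_cast le_idealDepth_of_projective J E0 2 (by exact_mod_cast hB2)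
  have h1 : 1 ≤ LocCoh.idealDepth J E1 := by
    exact_mod_cast le_idealDepth_of_projective J E1 1 (by exact_mod_cast hB1)
  have hK' := two_le_idealDepth_ker J u h0 h1
  let e : K ≃ₗ[B] LinearMap.ker u :=
    (LinearEquiv.ofInjective f hf).trans (LinearEquiv.ofEq _ _ (hfu.linearMap_ker_eq).symm)
  have hK : 2 ≤ LocCoh.idealDepth J K := by
    rw [idealDepth_congr e J]
    exact hK'
  refine ⟨isReflexive_of_two_le_idealDepth K J hB1 (fun p hp => ?_) hK, hK⟩
  haveI hGfree := hGU p hp
  have hf' := LocalizedModule.map_injective p.asIdeal.primeCompl f hf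
  have hfu' := LocalizedModule.map_exact p.asIdeal.primeCompl f u hfu
  have huv' := LocalizedModule.map_exact p.asIdeal.primeCompl u v huv
  have hv' := LocalizedModule.map_surjective p.asIdeal.primeCompl v hv
  haveI : Module.Projective (Localization.AtPrime p.asIdeal)
      (LocalizedModule p.asIdeal.primeCompl K) :=
    projective_of_fourTerm_exact (R := Localization.AtPrime p.asIdeal)
      (K := LocalizedModule p.asIdeal.primeCompl K)
      (P0 := LocalizedModule p.asIdeal.primeCompl E0)
      (P1 := LocalizedModule p.asIdeal.primeCompl E1)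
      (G := LocalizedModule p.asIdeal.primeCompl G)
      (LocalizedModule.map p.asIdeal.primeCompl f)
      (LocalizedModule.map p.asIdeal.primeCompl u)
      (LocalizedModule.map p.asIdeal.primeCompl v) hf' hfu' huv' hv'
  infer_instance

include hZJ hf hfu huv hv hGU in
/-- (iii), abstract form -/
theorem fibre_iff :
    (∀ q : PrimeSpectrum B, FlatCA.FlatAt A q.asIdeal K ∧
        2 ≤ LocCoh.idealDepth (J.map (algebraMap B (EGA4.FibLocRing A B q.asIdeal)))
          (EGA4.FibLocMod A B q.asIdeal K)) ↔ Module.Flat A G := by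
  haveI : Module.Flat A E0 := Module.Flat.trans A B E0
  haveI : Module.Flat A E1 := Module.Flat.trans A B E1
  have h0J : ∀ q : PrimeSpectrum B,
      2 ≤ LocCoh.idealDepth (J.map (algebraMap B (EGA4.FibLocRing A B q.asIdeal)))
        (EGA4.FibLocMod A B q.asIdeal E0) := fun q => by
    exact_mod_cast le_idealDepth_fibLocMod_of_projective A B q.asIdeal E0 _ 2
      (by exact_mod_cast hZJ q)
  have h1J : ∀ q : PrimeSpectrum B,
      1 ≤ LocCoh.idealDepth (J.map (algebraMap B (EGA4.FibLocRing A B q.asIdeal)))
        (EGA4.FibLocMod A B q.asIdeal E1) := fun q => by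
    exact_mod_cast le_idealDepth_fibLocMod_of_projective A B q.asIdeal E1 _ 1
      (by exact_mod_cast le_trans (by norm_num) (hZJ q))
  have hmono : ∀ q : PrimeSpectrum B, J ≤ q.asIdeal →
      J.map (algebraMap B (EGA4.FibLocRing A B q.asIdeal)) ≤
        q.asIdeal.map (algebraMap B (EGA4.FibLocRing A B q.asIdeal)) :=
    fun q h => Ideal.map_mono h
  have h0 : ∀ q : PrimeSpectrum B, J ≤ q.asIdeal →
      2 ≤ LocCoh.idealDepth (q.asIdeal.map (algebraMap B (EGA4.FibLocRing A B q.asIdeal)))
        (EGA4.FibLocMod A B q.asIdeal E0) := fun q hq => by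
    exact_mod_cast le_idealDepth_of_ideal_le _ (hmono q hq) 2 (by exact_mod_cast h0J q)
  have h1 : ∀ q : PrimeSpectrum B, J ≤ q.asIdeal →
      1 ≤ LocCoh.idealDepth (q.asIdeal.map (algebraMap B (EGA4.FibLocRing A B q.asIdeal)))
        (EGA4.FibLocMod A B q.asIdeal E1) := fun q hq => by
    exact_mod_cast le_idealDepth_of_ideal_le _ (hmono q hq) 1 (by exact_mod_cast h1J q)
  have hGU' : ∀ q : PrimeSpectrum B, ¬ J ≤ q.asIdeal → FlatCA.FlatAt A q.asIdeal G := by
    intro q hq
    haveI := hGU q hq
    exact Module.Flat.trans A (Localization.AtPrime q.asIdeal)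
      (LocalizedModule q.asIdeal.primeCompl G)
  constructor
  · intro hL
    have hs : ∀ q : PrimeSpectrum B, (1 : B) ∉ q.asIdeal → (J ≤ q.asIdeal →
        2 ≤ LocCoh.idealDepth (q.asIdeal.map (algebraMap B (EGA4.FibLocRing A B q.asIdeal)))
          (EGA4.FibLocMod A B q.asIdeal K)) := by
      intro q _ hq
      exact_mod_cast le_idealDepth_of_ideal_le _ (hmono q hq) 2 (by exact_mod_cast (hL q).2)
    have hall := flatAt_of_forall_basicOpen J f u v hf hfu huv hv hGU' h0 h1 1 hs
    refine Module.flat_of_isLocalized_maximal B G (fun P _ => LocalizedModule P.primeCompl G)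
      (fun P _ => LocalizedModule.mkLinearMap P.primeCompl G) (fun P hP => ?_)
    exact hall ⟨P, hP.isPrime⟩ (by
      intro h1
      exact hP.ne_top ((Ideal.eq_top_iff_one _).mpr h1))
  · intro hG q
    haveI := hG
    have hGq : FlatCA.FlatAt A q.asIdeal G := flat_localizedModule q.asIdeal.primeCompl
    exact ⟨(flatAt_F_and_depth_of_flatAt_G J f u v hf hfu huv hv h0 h1 q hGq).1,
      two_le_idealDepthJ_of_flatAt_G J f u v hf hfu huv hv q (h0J q) (h1J q) hGq⟩

end abstractFour

end Groth.Agent.Lib.Helper16.QFour
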