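import Mathlib
import Groth.Prelude.Def_Disc
import Groth.Prelude.Def_CAlg
import Groth.Agent.Lib.Helper21.InvertibleLocal
import Groth.Agent.Lib.Helper9.FrobGor8

/-!
# General lemmas for the relative dualizing module of quasi-finite maps (helper16)

flat_descent, flat_tensor, invertible_of_forall_maximal, nonempty_equiv_of_invertible_tensor,
nonempty_omega_equiv (dualizing module of a direct factor), invertible_omega_of_gor_closedFibre.
-/

set_option autoImplicit false
set_option linter.style.haveILetI false
set_option linter.unusedSectionVars false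
set_option linter.unusedSimpArgs false

universe u
open TensorProduct

namespace Groth.Agent.Lib.Helper16.QFD


section descent

variable {A S L X : Type*} [CommRing A] [CommRing S] [CommRing L] [Algebra A S] [Algebra S L]
  [Algebra A L] [IsScalarTower A S L] [AddCommGroup X] [Module S X] [Module A X]
  [IsScalarTower A S X]

/-- descent of flatness over a base `A` along a faithfully flat extension `S → L` -/
theorem flat_descent [Module.FaithfullyFlat S L] (h : Module.Flat A (L ⊗[S] X)) :
    Module.Flat A X := by
  rw [Module.Flat.iff_lTensor_preserves_injective_linearMap]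
  intro N P _ _ _ _ f hf
  have h1 : Function.Injective (LinearMap.lTensor (L ⊗[S] X) f) :=
    Module.Flat.lTensor_preserves_injective_linearMap f hf
  have h2 : Function.Injective
      (LinearMap.lTensor L (TensorProduct.AlgebraTensorModule.lTensor S X f)) := by
    have : LinearMap.lTensor L (TensorProduct.AlgebraTensorModule.lTensor S X f) =
        ((TensorProduct.AlgebraTensorModule.assoc A S S L X P).toLinearMap ∘ₗ
          (TensorProduct.AlgebraTensorModule.lTensor S (L ⊗[S] X) f) ∘ₗ
          (TensorProduct.AlgebraTensorModule.assoc A S S L X N).symm.toLinearMap) := by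
      ext l x n
      simp
    rw [this]
    simp only [LinearMap.coe_comp, LinearEquiv.coe_coe]
    exact (LinearEquiv.injective _).comp (h1.comp (LinearEquiv.injective _))
  exact (Module.FaithfullyFlat.lTensor_injective_iff_injective S L _).mp h2

/-- a flat module tensored with a module flat over the base is flat over the base -/
theorem flat_tensor [Module.Flat S L] [Module.Flat A X] :
    Module.Flat A (L ⊗[S] X) := by
  rw [Module.Flat.iff_lTensor_preserves_injective_linearMap]
  intro N P _ _ _ _ f hf
  have h1 : Function.Injective (TensorProduct.AlgebraTensorModule.lTensor S X f) :=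
    Module.Flat.lTensor_preserves_injective_linearMap f hf
  have h2 : Function.Injective
      (LinearMap.lTensor L (TensorProduct.AlgebraTensorModule.lTensor S X f)) :=
    Module.Flat.lTensor_preserves_injective_linearMap _ h1
  have : LinearMap.lTensor (L ⊗[S] X) f =
      ((TensorProduct.AlgebraTensorModule.assoc A S S L X P).symm.toLinearMap.restrictScalars A ∘ₗ
        (LinearMap.lTensor L (TensorProduct.AlgebraTensorModule.lTensor S X f)).restrictScalars A ∘ₗ
        (TensorProduct.AlgebraTensorModule.assoc A S S L X N).toLinearMap.restrictScalars A) := by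
    refine TensorProduct.ext' fun l n => ?_
    induction l using TensorProduct.induction_on with
    | zero => simp
    | tmul l x => simp
    | add a b ha hb =>
      rw [add_tmul, map_add, ha, hb, map_add]
  rw [this]
  simp only [LinearMap.coe_comp, LinearMap.coe_restrictScalars, LinearEquiv.coe_coe]
  exact (LinearEquiv.injective _).comp (h2.comp (LinearEquiv.injective _))

end descent

section invertible

/-- a free module of finrank one is isomorphic to the ring -/
theorem nonempty_equiv_of_free_of_finrank_eq_one {R M : Type*} [CommRing R] [AddCommGroup M]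
    [Module R M] [Nontrivial R] [Module.Free R M] (h : Module.finrank R M = 1) :
    Nonempty (M ≃ₗ[R] R) :=
  ⟨(Module.basisUnique (Fin 1) h).equivFun.trans (LinearEquiv.funUnique (Fin 1) R R)⟩

/-- a finitely presented module that is free of rank one at every maximal ideal is invertible -/
theorem invertible_of_forall_maximal {R M : Type u} [CommRing R] [AddCommGroup M] [Module R M]
    [Module.FinitePresentation R M]
    (h : ∀ (p : Ideal R) [p.IsMaximal],
      Nonempty ((Localization.AtPrime p ⊗[R] M) ≃ₗ[Localization.AtPrime p]
        Localization.AtPrime p)) :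
    Module.Invertible R M := by
  have key : ∀ p : MaximalSpectrum R, ∃ r : R, r ∉ p.asIdeal ∧
      Nonempty (LocalizedModule.Away r M ≃ₗ[Localization.Away r] Localization.Away r) := by
    intro p
    haveI := p.isMaximal
    obtain ⟨e⟩ := h p.asIdeal
    haveI : Module.Free (Localization.AtPrime p.asIdeal) (Localization.AtPrime p.asIdeal ⊗[R] M) :=
      Module.Free.of_equiv e.symm
    obtain ⟨r, hr, hfree, hrank⟩ :=
      Module.FinitePresentation.exists_free_localizedModule_powers p.asIdeal.primeCompl
        (TensorProduct.mk R (Localization.AtPrime p.asIdeal) M 1) (Localization.AtPrime p.asIdeal)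
    refine ⟨r, hr, ?_⟩
    have h1 : Module.finrank (Localization.AtPrime p.asIdeal)
        (Localization.AtPrime p.asIdeal ⊗[R] M) = 1 := by
      rw [LinearEquiv.finrank_eq e, Module.finrank_self]
    rw [h1] at hrank
    haveI : Nontrivial (Localization.Away r) :=
      (show Localization (.powers r) →+* Localization.AtPrime p.asIdeal from
        IsLocalization.map (M := .powers r) (T := p.asIdeal.primeCompl) _
          (RingHom.id _) (Submonoid.powers_le.mpr hr)).domain_nontrivial
    exact nonempty_equiv_of_free_of_finrank_eq_one hrank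
  choose r hr he using key
  refine Groth.Agent.Lib.Helper21.invertible_of_localizationSpan (Set.range r) ?_ ?_
  · by_contra hne
    obtain ⟨P, hP, hle⟩ := Ideal.exists_le_maximal _ hne
    exact hr ⟨P, hP⟩ (hle (Ideal.subset_span ⟨⟨P, hP⟩, rfl⟩))
  · rintro _ ⟨p, rfl⟩
    exact he p

end invertible

section rankone

/-- descent of "free of rank one" along a faithfully flat extension of a local ring -/
theorem nonempty_equiv_of_invertible_tensor {S L M : Type u} [CommRing S] [IsLocalRing S]
    [CommRing L] [Algebra S L] [Module.FaithfullyFlat S L] [Nontrivial L]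
    [AddCommGroup M] [Module S M] [Module.Finite S M]
    (h : Module.Invertible L (L ⊗[S] M)) : Nonempty (M ≃ₗ[S] S) := by
  haveI : Module.Flat L (L ⊗[S] M) := inferInstance
  haveI : Module.Flat S M := Module.Flat.of_flat_tensorProduct S M L
  haveI : Module.Free S M := Module.free_of_flat_of_isLocalRing
  haveI : Module.Free L (L ⊗[S] M) := inferInstance
  have h1 : Module.finrank L (L ⊗[S] M) = 1 := Module.Invertible.finrank_eq_one _ _
  rw [Module.finrank_baseChange] at h1
  exact nonempty_equiv_of_free_of_finrank_eq_one h1

end rankone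



section idem

variable {R T L : Type u} [CommRing R] [CommRing T] [CommRing L] [Algebra R T] [Algebra T L]
  [Algebra R L] [IsScalarTower R T L]

/-- if `L` is a direct factor of `T` (cut out by an idempotent-like element `ε`), then the
dualizing module of `L` is the `L`-part of the dualizing module of `T` -/
theorem nonempty_omega_equiv (hπ : Function.Surjective (algebraMap T L)) (ε : T)
    (hε1 : algebraMap T L ε = 1) (hε0 : ∀ x : T, algebraMap T L x = 0 → ε * x = 0) :
    Nonempty ((L ⊗[T] Disc.Omega R T) ≃ₗ[L] Disc.Omega R L) := by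
  -- the section `s`
  have hkey : ∀ t : T, ε * Function.surjInv hπ (algebraMap T L t) = ε * t := by
    intro t
    have h1 : algebraMap T L (Function.surjInv hπ (algebraMap T L t) - t) = 0 := by
      rw [map_sub, Function.surjInv_eq hπ, sub_self]
    have h2 := hε0 _ h1
    rw [mul_sub, sub_eq_zero] at h2
    exact h2
  let s : L →ₗ[R] T :=
    { toFun := fun l => ε * Function.surjInv hπ l
      map_add' := fun l l' => by
        obtain ⟨a, rfl⟩ := hπ l
        obtain ⟨b, rfl⟩ := hπ l'
        rw [← map_add, hkey, hkey, hkey, mul_add]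
      map_smul' := fun r l => by
        obtain ⟨a, rfl⟩ := hπ l
        rw [RingHom.id_apply, ← algebraMap_smul T r (algebraMap T L a), Algebra.smul_def,
          ← map_mul, hkey, hkey, Algebra.smul_def]
        ring }
  have hs : ∀ t : T, s (algebraMap T L t) = ε * t := hkey
  have hπs : ∀ l : L, algebraMap T L (s l) = l := by
    intro l
    change algebraMap T L (ε * Function.surjInv hπ l) = l
    rw [map_mul, hε1, one_mul, Function.surjInv_eq hπ]
  have hsmul : ∀ (t : T) (l : L), s (algebraMap T L t * l) = t * s l := by
    intro t l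
    obtain ⟨a, rfl⟩ := hπ l
    rw [← map_mul, hs, hs]
    ring
  letI : Module T (Disc.Omega R L) := Module.compHom _ (algebraMap T L)
  haveI : IsScalarTower T L (Disc.Omega R L) :=
    IsScalarTower.of_algebraMap_smul fun _ _ => rfl
  let g : Disc.Omega R T →ₗ[T] Disc.Omega R L :=
    { toFun := fun ψ => ⟨ψ.toLinearMap ∘ₗ s⟩
      map_add' := fun ψ ψ' => by
        apply Disc.Omega.ext
        ext l
        rfl
      map_smul' := fun t ψ => by
        apply Disc.Omega.ext
        ext l
        change ψ.toLinearMap (t * s l) = ψ.toLinearMap (s (algebraMap T L t * l))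
        rw [hsmul] }
  have hg : ∀ (ψ : Disc.Omega R T) (l : L), (g ψ).toLinearMap l = ψ.toLinearMap (s l) :=
    fun _ _ => rfl
  let Φ : L ⊗[T] Disc.Omega R T →ₗ[L] Disc.Omega R L := LinearMap.liftBaseChange L g
  have hΦ : ∀ (l : L) (ψ : Disc.Omega R T), Φ (l ⊗ₜ[T] ψ) = l • g ψ := fun l ψ => by
    simp [Φ]
  have hrep : ∀ z : L ⊗[T] Disc.Omega R T, ∃ ψ : Disc.Omega R T, z = (1 : L) ⊗ₜ[T] ψ := by
    intro z
    induction z using TensorProduct.induction_on with
    | zero => exact ⟨0, (tmul_zero _ _).symm⟩
    | tmul l ψ =>
      obtain ⟨t, rfl⟩ := hπ l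
      refine ⟨t • ψ, ?_⟩
      rw [← smul_tmul, Algebra.smul_def, mul_one]
    | add x y hx hy =>
      obtain ⟨ψ, rfl⟩ := hx
      obtain ⟨ψ', rfl⟩ := hy
      exact ⟨ψ + ψ', (tmul_add _ _ _).symm⟩
  refine ⟨LinearEquiv.ofBijective Φ ⟨?_, ?_⟩⟩
  · rw [injective_iff_map_eq_zero]
    intro z hz
    obtain ⟨ψ, rfl⟩ := hrep z
    rw [hΦ, one_smul] at hz
    have h1 : ε • ψ = 0 := by
      apply Disc.Omega.ext
      ext t
      rw [Disc.Omega.smul_toLinearMap_apply, ← hs, ← hg, hz]
      rfl
    have h2 : (1 : L) ⊗ₜ[T] ψ = (ε • (1 : L)) ⊗ₜ[T] ψ := by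
      rw [Algebra.smul_def, mul_one, hε1]
    rw [h2, smul_tmul, h1, tmul_zero]
  · intro φ
    refine ⟨(1 : L) ⊗ₜ[T] ⟨φ.toLinearMap ∘ₗ (IsScalarTower.toAlgHom R T L).toLinearMap⟩, ?_⟩
    rw [hΦ, one_smul]
    apply Disc.Omega.ext
    ext l
    rw [hg]
    change φ.toLinearMap (algebraMap T L (s l)) = _
    rw [hπs]

end idem



/-- a finite free algebra over a local ring with Gorenstein closed fibre has an invertible
dualizing module -/
theorem invertible_omega_of_gor_closedFibre {R L : Type u} [CommRing R] [IsLocalRing R]
    [CommRing L] [Algebra R L] [Module.Finite R L] [Module.Free R L]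
    (hG : LocCoh.IsGorensteinRing ((IsLocalRing.maximalIdeal R).Fiber L)) :
    Module.Invertible L (Disc.Omega R L) := by
  classical
  let b := Module.Free.chooseBasis R L
  haveI := hG
  obtain ⟨e⟩ := Groth.Agent.Lib.Helper9.FrobGor.equiv_of_gor
    (κ := (IsLocalRing.maximalIdeal R).ResidueField) (C := (IsLocalRing.maximalIdeal R).Fiber L)
  obtain ⟨l, hl⟩ := Groth.Agent.Lib.Helper9.FrobGor.exists_gramDet_notMem b
    (IsLocalRing.maximalIdeal R) e
  have hu : IsUnit (Groth.Agent.Lib.Helper9.FrobGor.gramDet b l) := by
    by_contra hnu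
    exact hl ((IsLocalRing.mem_maximalIdeal _).mpr hnu)
  refine Groth.Agent.Lib.Helper21.invertible_of_localizationSpan
    {algebraMap R L (Groth.Agent.Lib.Helper9.FrobGor.gramDet b l)} ?_ ?_
  · exact Ideal.span_singleton_eq_top.mpr (hu.map _)
  · rintro f rfl
    exact Groth.Agent.Lib.Helper9.FrobGor.nonempty_locEquiv b l

end Groth.Agent.Lib.Helper16.QFD
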