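import Mathlib
import Groth.Prelude.Def_Disc
import Groth.Agent.Lib.Helper16.QFD1
import Groth.Agent.Lib.Helper4.HenselEtale
import Groth.Agent.Lib.Helper26.ProdLocal

/-!
# QFDual: structure of the henselian base change of a finite algebra
-/

set_option autoImplicit false
set_option linter.style.haveILetI false
set_option linter.unusedSectionVars false
set_option linter.unusedSimpArgs false

universe u
open TensorProduct IsLocalRing

namespace Groth.Agent.Lib.Helper16.QFD

attribute [local instance] Algebra.TensorProduct.rightAlgebra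

section structure_

variable {A B' R : Type u} [CommRing A] [CommRing B'] [CommRing R] [Algebra A B'] [Algebra A R]
  [IsLocalRing R] (q' : Ideal B') [q'.IsPrime]

/-- the base change `R ⊗ B'` is flat over `B'` -/
theorem flat_right [Module.Flat A R] : Module.Flat B' (R ⊗[A] B') :=
  Module.Flat.isBaseChange A B' R (R ⊗[A] B')
    (Algebra.IsPushout.symm (inferInstance : Algebra.IsPushout A R B' (R ⊗[A] B'))).out

/-- there is a prime of `R ⊗ B'` over `q'` -/
theorem exists_prime_over [Module.Flat A R]
    (hm : (q'.under A).map (algebraMap A R) ≤ maximalIdeal R) :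
    ∃ n : Ideal (R ⊗[A] B'), n.IsPrime ∧ n.comap (algebraMap B' (R ⊗[A] B')) = q' := by
  -- `R ⊗ κ(q')` is nontrivial
  have hker : ∀ a : A, algebraMap A q'.ResidueField a = 0 ↔ a ∈ q'.under A := by
    intro a
    rw [IsScalarTower.algebraMap_apply A B' q'.ResidueField, Ideal.algebraMap_residueField_eq_zero,
      Ideal.mem_comap]
  let i : (A ⧸ q'.under A) →ₗ[A] q'.ResidueField :=
    Submodule.liftQ _ (Algebra.linearMap A q'.ResidueField) (fun a ha => by
      rw [LinearMap.mem_ker, Algebra.linearMap_apply]
      exact (hker a).mpr ha)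
  have hi : Function.Injective i := by
    rw [← LinearMap.ker_eq_bot, Submodule.ker_liftQ_eq_bot']
    ext a
    rw [LinearMap.mem_ker, Algebra.linearMap_apply]
    exact (hker a).symm
  have hinj : Function.Injective (LinearMap.lTensor R i) :=
    Module.Flat.lTensor_preserves_injective_linearMap i hi
  have hnt1 : Nontrivial (R ⊗[A] (A ⧸ q'.under A)) := by
    have e := TensorProduct.tensorQuotEquivQuotSMul R (q'.under A)
    have hne : (q'.under A) • (⊤ : Submodule A R) ≠ ⊤ := by
      intro htop
      have h1 : (1 : R) ∈ (q'.under A) • (⊤ : Submodule A R) := by rw [htop]; trivial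
      have h2 : (q'.under A) • (⊤ : Submodule A R) ≤
          ((q'.under A).map (algebraMap A R)).restrictScalars A := by
        rw [Submodule.smul_le]
        intro a ha x _
        rw [Submodule.restrictScalars_mem, Algebra.smul_def]
        exact Ideal.mul_mem_right _ _ (Ideal.mem_map_of_mem _ ha)
      exact (maximalIdeal.isMaximal R).ne_top ((Ideal.eq_top_iff_one _).mpr (hm (h2 h1)))
    have : Nontrivial (R ⧸ (q'.under A) • (⊤ : Submodule A R)) :=
      Submodule.Quotient.nontrivial_iff.mpr hne
    exact e.toEquiv.nontrivial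
  have hnt : Nontrivial (R ⊗[A] q'.ResidueField) := hinj.nontrivial
  obtain ⟨N, hN⟩ := Ideal.exists_maximal (R ⊗[A] q'.ResidueField)
  let φ : R ⊗[A] B' →ₐ[R] R ⊗[A] q'.ResidueField :=
    Algebra.TensorProduct.map (AlgHom.id R R) (IsScalarTower.toAlgHom A B' q'.ResidueField)
  refine ⟨N.comap φ, Ideal.comap_isPrime _ _, ?_⟩
  ext b
  rw [Ideal.mem_comap, Ideal.mem_comap]
  have hφ : φ (algebraMap B' (R ⊗[A] B') b) = (1 : R) ⊗ₜ[A] algebraMap B' q'.ResidueField b := by
    change φ ((1 : R) ⊗ₜ[A] b) = _
    simp [φ]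
  rw [hφ]
  constructor
  · intro hb
    by_contra hbq
    have hu : IsUnit (algebraMap B' q'.ResidueField b) := by
      rw [isUnit_iff_ne_zero, Ne, Ideal.algebraMap_residueField_eq_zero]
      exact hbq
    have hu' : IsUnit ((1 : R) ⊗ₜ[A] algebraMap B' q'.ResidueField b) := by
      have := hu.map (Algebra.TensorProduct.includeRight : q'.ResidueField →ₐ[A] R ⊗[A] q'.ResidueField)
      simpa using this
    exact hN.ne_top (Ideal.eq_top_of_isUnit_mem _ hb hu')
  · intro hb
    rw [(Ideal.algebraMap_residueField_eq_zero).mpr hb, tmul_zero]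
    exact zero_mem _

end structure_

section decomposition

/-- a local factor of a finite algebra over a henselian local ring: the localization map is
surjective and is cut out by an idempotent-like element -/
theorem exists_factor_data (R : Type u) {T : Type u} [CommRing R] [HenselianLocalRing R]
    [CommRing T] [Algebra R T] [Module.Finite R T] (n : Ideal T) [hn : n.IsMaximal] :
    Function.Surjective (algebraMap T (Localization.AtPrime n)) ∧
      ∃ ε : T, algebraMap T (Localization.AtPrime n) ε = 1 ∧
        ∀ x : T, algebraMap T (Localization.AtPrime n) x = 0 → ε * x = 0 := by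
  classical
  haveI : IsLocalRing R := HenselianLocalRing.toIsLocalRing
  have hbij := (Groth.Agent.Lib.Helper26.ProdLocal.main17982 R T).mp
    (Groth.Agent.Lib.Helper4.exists_pi_isLocalRing_of_finite_of_henselian (R := R) T)
  set Φ := RingHom.pi (fun n : MaximalSpectrum T =>
    algebraMap T (Localization.AtPrime n.asIdeal)) with hΦ
  have hΦa : ∀ (x : T) (n' : MaximalSpectrum T),
      Φ x n' = algebraMap T (Localization.AtPrime n'.asIdeal) x := fun _ _ => rfl
  let n₀ : MaximalSpectrum T := ⟨n, hn⟩
  constructor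
  · intro l
    obtain ⟨x, hx⟩ := hbij.2 (Pi.single n₀ l)
    refine ⟨x, ?_⟩
    have := congrFun hx n₀
    rw [hΦa, Pi.single_eq_same] at this
    exact this
  · obtain ⟨ε, hε⟩ := hbij.2 (Pi.single n₀ 1)
    refine ⟨ε, ?_, ?_⟩
    · have := congrFun hε n₀
      rw [hΦa, Pi.single_eq_same] at this
      exact this
    · intro x hx
      apply hbij.1
      rw [map_mul, map_zero, hε]
      funext n'
      by_cases h : n' = n₀
      · subst h
        rw [Pi.mul_apply, hΦa, Pi.zero_apply]
        change _ * algebraMap T (Localization.AtPrime n) x = 0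
        rw [hx, mul_zero]
      · rw [Pi.mul_apply, Pi.single_eq_of_ne h, zero_mul, Pi.zero_apply]

end decomposition

section local_

variable {A B' R : Type u} [CommRing A] [CommRing B'] [CommRing R] [Algebra A B'] [Algebra A R]
  [IsLocalRing R] (q' : Ideal B') [q'.IsPrime] (n : Ideal (R ⊗[A] B')) [n.IsPrime]

theorem comap_eq_maximalIdeal (hm : (q'.under A).map (algebraMap A R) = maximalIdeal R)
    (hn : n.comap (algebraMap B' (R ⊗[A] B')) = q') :
    n.comap (algebraMap R (R ⊗[A] B')) = maximalIdeal R := by
  symm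
  apply (maximalIdeal.isMaximal R).eq_of_le (Ideal.comap_ne_top _ (Ideal.IsPrime.ne_top'))
  rw [← hm, Ideal.map_le_iff_le_comap]
  intro a ha
  rw [Ideal.mem_comap, Ideal.mem_comap, ← IsScalarTower.algebraMap_apply,
    IsScalarTower.algebraMap_apply A B' (R ⊗[A] B'), ← Ideal.mem_comap, hn]
  exact ha

theorem isMaximal_of_comap [Module.Finite A B']
    (h : n.comap (algebraMap R (R ⊗[A] B')) = maximalIdeal R) : n.IsMaximal :=
  Ideal.isMaximal_of_isIntegral_of_isMaximal_comap n (h ▸ maximalIdeal.isMaximal R)

/-- the local factor is flat over `R` when `B'` is flat over `A` at `q'` -/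
theorem flat_localization [Module.Flat A (Localization.AtPrime q')]
    (hn : n.comap (algebraMap B' (R ⊗[A] B')) = q') :
    Module.Flat R (Localization.AtPrime n) := by
  have hflat1 : Module.Flat R ((R ⊗[A] B') ⊗[B'] Localization.AtPrime q') :=
    Module.Flat.of_linearEquiv
      (Algebra.IsPushout.cancelBaseChange A R B' (R ⊗[A] B') (Localization.AtPrime q'))
  have hle : Algebra.algebraMapSubmonoid (R ⊗[A] B') q'.primeCompl ≤ n.primeCompl := by
    rintro _ ⟨b, hb, rfl⟩ hmem
    apply hb
    rw [← hn]
    exact hmem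
  letI alg : Algebra ((R ⊗[A] B') ⊗[B'] Localization.AtPrime q') (Localization.AtPrime n) :=
    IsLocalization.localizationAlgebraOfSubmonoidLe _ _
      (Algebra.algebraMapSubmonoid (R ⊗[A] B') q'.primeCompl) n.primeCompl hle
  haveI tower : IsScalarTower (R ⊗[A] B') ((R ⊗[A] B') ⊗[B'] Localization.AtPrime q')
      (Localization.AtPrime n) :=
    IsScalarTower.of_algebraMap_eq' (R := R ⊗[A] B')
      (S := (R ⊗[A] B') ⊗[B'] Localization.AtPrime q') (A := Localization.AtPrime n)
      (IsLocalization.lift_comp _).symm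
  haveI hloc := IsLocalization.isLocalization_of_submonoid_le
    ((R ⊗[A] B') ⊗[B'] Localization.AtPrime q') (Localization.AtPrime n)
    (Algebra.algebraMapSubmonoid (R ⊗[A] B') q'.primeCompl) n.primeCompl hle
  haveI hflat2 : Module.Flat ((R ⊗[A] B') ⊗[B'] Localization.AtPrime q') (Localization.AtPrime n) :=
    IsLocalization.flat _ (n.primeCompl.map
      (algebraMap (R ⊗[A] B') ((R ⊗[A] B') ⊗[B'] Localization.AtPrime q')))
  haveI : IsScalarTower R ((R ⊗[A] B') ⊗[B'] Localization.AtPrime q') (Localization.AtPrime n) :=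
    IsScalarTower.of_algebraMap_eq (R := R)
      (S := (R ⊗[A] B') ⊗[B'] Localization.AtPrime q') (A := Localization.AtPrime n) fun r => by
      have h1 := IsScalarTower.algebraMap_apply R (R ⊗[A] B') (Localization.AtPrime n) r
      have h2 := IsScalarTower.algebraMap_apply (R ⊗[A] B')
        ((R ⊗[A] B') ⊗[B'] Localization.AtPrime q') (Localization.AtPrime n)
        (algebraMap R (R ⊗[A] B') r)
      have h3 := IsScalarTower.algebraMap_apply R (R ⊗[A] B')
        ((R ⊗[A] B') ⊗[B'] Localization.AtPrime q') r
      rw [h1, h2, ← h3]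
  exact Module.Flat.trans R ((R ⊗[A] B') ⊗[B'] Localization.AtPrime q') (Localization.AtPrime n)

end local_

section unramified

variable {A B' R : Type u} [CommRing A] [CommRing B'] [CommRing R] [Algebra A B'] [Algebra A R]
  [IsLocalRing R] (q' : Ideal B') [q'.IsPrime] (n : Ideal (R ⊗[A] B')) [n.IsPrime]

/-- every element of `R ⊗ B'` is, up to a unit from `A` and modulo `p`, an element of `B'` -/
theorem exists_sub_mem_map (p : Ideal A) [p.IsPrime] (hm : p.map (algebraMap A R) = maximalIdeal R)
    (hres : ∀ x : R, ∃ a s : A, s ∉ p ∧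
      algebraMap A R s * x - algebraMap A R a ∈ maximalIdeal R)
    (x : R ⊗[A] B') :
    ∃ s : A, s ∉ p ∧ ∃ b : B', algebraMap A (R ⊗[A] B') s * x - algebraMap B' (R ⊗[A] B') b ∈
      p.map (algebraMap A (R ⊗[A] B')) := by
  induction x using TensorProduct.induction_on with
  | zero => exact ⟨1, fun h => Ideal.IsPrime.ne_top' ((Ideal.eq_top_iff_one _).mpr h), 0, by simp⟩
  | tmul r b₀ =>
    obtain ⟨a, s, hs, hmem⟩ := hres r
    refine ⟨s, hs, a • b₀, ?_⟩
    have h1 : algebraMap A (R ⊗[A] B') s * (r ⊗ₜ[A] b₀) - algebraMap B' (R ⊗[A] B') (a • b₀) =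
        algebraMap R (R ⊗[A] B') (algebraMap A R s * r - algebraMap A R a) *
          ((1 : R) ⊗ₜ[A] b₀) := by
      rw [Algebra.TensorProduct.algebraMap_apply, Algebra.TensorProduct.algebraMap_apply,
        Algebra.TensorProduct.tmul_mul_tmul, Algebra.TensorProduct.tmul_mul_tmul, one_mul, mul_one,
        Algebra.algebraMap_self, RingHom.id_apply, sub_tmul]
      congr 1
      change (1 : R) ⊗ₜ[A] (a • b₀) = _
      rw [← smul_tmul, Algebra.smul_def, mul_one]
    rw [h1]
    apply Ideal.mul_mem_right
    rw [← hm] at hmem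
    have := Ideal.mem_map_of_mem (algebraMap R (R ⊗[A] B')) hmem
    rwa [Ideal.map_map, ← IsScalarTower.algebraMap_eq] at this
  | add x y hx hy =>
    obtain ⟨s, hs, b, hb⟩ := hx
    obtain ⟨s', hs', b', hb'⟩ := hy
    refine ⟨s * s', fun h => (Ideal.IsPrime.mem_or_mem inferInstance h).elim hs hs',
      s' • b + s • b', ?_⟩
    have h1 : algebraMap A (R ⊗[A] B') (s * s') * (x + y) -
        algebraMap B' (R ⊗[A] B') (s' • b + s • b') =
        algebraMap A (R ⊗[A] B') s' * (algebraMap A (R ⊗[A] B') s * x -
          algebraMap B' (R ⊗[A] B') b) +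
        algebraMap A (R ⊗[A] B') s * (algebraMap A (R ⊗[A] B') s' * y -
          algebraMap B' (R ⊗[A] B') b') := by
      rw [map_mul, map_add, Algebra.smul_def, Algebra.smul_def, map_mul, map_mul,
        ← IsScalarTower.algebraMap_apply, ← IsScalarTower.algebraMap_apply]
      ring
    rw [h1]
    exact add_mem (Ideal.mul_mem_left _ _ hb) (Ideal.mul_mem_left _ _ hb')

/-- the closed fibre of `B'_{q'} → (R ⊗ B')_n` is a field: `q'` generates the maximal ideal -/
theorem map_eq_maximalIdeal_localization
    (hm : (q'.under A).map (algebraMap A R) = maximalIdeal R)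
    (hres : ∀ x : R, ∃ a s : A, s ∉ q'.under A ∧
      algebraMap A R s * x - algebraMap A R a ∈ maximalIdeal R)
    (hn : n.comap (algebraMap B' (R ⊗[A] B')) = q') :
    q'.map (algebraMap B' (Localization.AtPrime n)) = maximalIdeal (Localization.AtPrime n) := by
  have hnA : ∀ a : A, algebraMap A (R ⊗[A] B') a ∈ n ↔ a ∈ q'.under A := by
    intro a
    rw [IsScalarTower.algebraMap_apply A B' (R ⊗[A] B'), ← Ideal.mem_comap, hn, Ideal.under_def,
      Ideal.mem_comap]
  have hple : (q'.under A).map (algebraMap A (R ⊗[A] B')) ≤ n := by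
    rw [Ideal.map_le_iff_le_comap]
    intro a ha
    exact (hnA a).mpr ha
  apply le_antisymm
  · rw [Ideal.map_le_iff_le_comap]
    intro b hb
    rw [Ideal.mem_comap, IsScalarTower.algebraMap_apply B' (R ⊗[A] B') (Localization.AtPrime n),
      ← Localization.AtPrime.map_eq_maximalIdeal]
    apply Ideal.mem_map_of_mem
    rw [← hn] at hb
    exact hb
  · rw [← Localization.AtPrime.map_eq_maximalIdeal, Ideal.map_le_iff_le_comap]
    intro x hx
    rw [Ideal.mem_comap]
    obtain ⟨s, hs, b, hb⟩ := exists_sub_mem_map (q'.under A) hm hres x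
    have hbq : b ∈ q' := by
      rw [← hn, Ideal.mem_comap]
      have h1 : algebraMap B' (R ⊗[A] B') b = algebraMap A (R ⊗[A] B') s * x -
          (algebraMap A (R ⊗[A] B') s * x - algebraMap B' (R ⊗[A] B') b) := by ring
      rw [h1]
      exact sub_mem (Ideal.mul_mem_left _ _ hx) (hple hb)
    have hsu : IsUnit (algebraMap (R ⊗[A] B') (Localization.AtPrime n)
        (algebraMap A (R ⊗[A] B') s)) :=
      IsLocalization.map_units (M := n.primeCompl) _ ⟨_, fun h => hs ((hnA s).mp h)⟩
    have h2 : algebraMap (R ⊗[A] B') (Localization.AtPrime n)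
        (algebraMap A (R ⊗[A] B') s * x) ∈ q'.map (algebraMap B' (Localization.AtPrime n)) := by
      have h3 : algebraMap A (R ⊗[A] B') s * x = algebraMap B' (R ⊗[A] B') b +
          (algebraMap A (R ⊗[A] B') s * x - algebraMap B' (R ⊗[A] B') b) := by ring
      rw [h3, map_add]
      refine add_mem ?_ ?_
      · rw [← IsScalarTower.algebraMap_apply]
        exact Ideal.mem_map_of_mem _ hbq
      · have h4 := Ideal.mem_map_of_mem (algebraMap (R ⊗[A] B') (Localization.AtPrime n)) hb
        rw [Ideal.map_map, ← IsScalarTower.algebraMap_eq,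
          IsScalarTower.algebraMap_eq A B' (Localization.AtPrime n), ← Ideal.map_map] at h4
        exact Ideal.map_mono (Ideal.map_comap_le) h4
    rw [map_mul] at h2
    exact (Ideal.unit_mul_mem_iff_mem _ hsu).mp h2

end unramified

end Groth.Agent.Lib.Helper16.QFD
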