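import Mathlib
import Groth.Prelude.Def_Disc
import Groth.Prelude.Def_QFDual
import Groth.Prelude.Def_EGA4b
import Groth.Agent.Lib.Helper16.QFD1
import Groth.Agent.Lib.Helper16.QFD2
import Groth.Agent.Lib.Helper16.GorBC1
import Groth.Agent.Lib.Helper26.QFDual6

/-!
# QFDual: small lemmas (Gorenstein congruences, finiteness and flatness of Omega)
-/

set_option autoImplicit false
set_option linter.style.haveILetI false
set_option linter.unusedSectionVars false
set_option linter.unusedSimpArgs false

universe u
open TensorProduct IsLocalRing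

namespace Groth.Agent.Lib.Helper16.QFD

section small

theorem gor_congr_ideal {T : Type u} [CommRing T] {𝔞 𝔟 : Ideal T} (h : 𝔞 = 𝔟)
    (hG : LocCoh.IsGorensteinLocalRing (T ⧸ 𝔞)) : LocCoh.IsGorensteinLocalRing (T ⧸ 𝔟) := by
  subst h
  exact hG

theorem gor_fibLocRing_congr (A B : Type u) [CommRing A] [CommRing B] [Algebra A B]
    {q q' : Ideal B} [hq : q.IsPrime] [hq' : q'.IsPrime] (h : q = q')
    (hG : LocCoh.IsGorensteinLocalRing (EGA4.FibLocRing A B q)) :
    LocCoh.IsGorensteinLocalRing (EGA4.FibLocRing A B q') := by
  subst h
  exact hG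

/-- a field is a Gorenstein local ring -/
theorem gor_of_isField {K : Type u} [CommRing K] (h : IsField K) :
    LocCoh.IsGorensteinLocalRing K := by
  letI := h.toField
  exact Groth.Agent.Lib.Helper16.RegGor.isGorensteinLocalRing_of_isRegularLocalRing K

end small

section omega

/-- the linear forms on a finite algebra over a Noetherian ring form a finite module -/
theorem finite_omega_of_noetherian (A B' : Type u) [CommRing A] [CommRing B'] [Algebra A B']
    [IsNoetherianRing A] [Module.Finite A B'] : Module.Finite B' (Disc.Omega A B') := by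
  letI : Module A (Disc.Omega A B') := Module.compHom _ (algebraMap A B')
  haveI : IsScalarTower A B' (Disc.Omega A B') :=
    IsScalarTower.of_algebraMap_smul fun _ _ => rfl
  let e : (B' →ₗ[A] A) ≃ₗ[A] Disc.Omega A B' :=
    { toFun := fun ψ => ⟨ψ⟩
      invFun := fun φ => φ.toLinearMap
      left_inv := fun _ => rfl
      right_inv := fun _ => rfl
      map_add' := fun _ _ => rfl
      map_smul' := fun a ψ => by
        apply Disc.Omega.ext
        ext x
        change (a • ψ) x = ψ (algebraMap A B' a * x)
        rw [← Algebra.smul_def, map_smul, LinearMap.smul_apply] }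
  haveI : Module.Finite A (Disc.Omega A B') := Module.Finite.equiv e
  exact Module.Finite.of_restrictScalars_finite A B' _

/-- the dualizing module of a finite free algebra over a flat `A`-algebra is flat over `A` -/
theorem flat_omega_of_free {A R L : Type u} [CommRing A] [CommRing R] [CommRing L] [Algebra A R]
    [Algebra R L] [Algebra A L] [IsScalarTower A R L] [Module.Flat A R] [Module.Finite R L]
    [Module.Free R L] [Module A (Disc.Omega R L)] [IsScalarTower A L (Disc.Omega R L)] :
    Module.Flat A (Disc.Omega R L) := by
  letI : Module R (Disc.Omega R L) := Module.compHom _ (algebraMap R L)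
  haveI : IsScalarTower R L (Disc.Omega R L) :=
    IsScalarTower.of_algebraMap_smul fun _ _ => rfl
  haveI : IsScalarTower A R (Disc.Omega R L) := by
    refine ⟨fun a r φ => ?_⟩
    rw [← algebraMap_smul L (a • r) φ, ← algebraMap_smul L a (r • φ), ← algebraMap_smul L r φ,
      smul_smul, Algebra.smul_def, map_mul, ← IsScalarTower.algebraMap_apply]
  let e : (L →ₗ[R] R) ≃ₗ[R] Disc.Omega R L :=
    { toFun := fun ψ => ⟨ψ⟩
      invFun := fun φ => φ.toLinearMap
      left_inv := fun _ => rfl
      right_inv := fun _ => rfl
      map_add' := fun _ _ => rfl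
      map_smul' := fun a ψ => by
        apply Disc.Omega.ext
        ext x
        change (a • ψ) x = ψ (algebraMap R L a * x)
        rw [← Algebra.smul_def, map_smul, LinearMap.smul_apply] }
  haveI : Module.Flat R (Disc.Omega R L) := Module.Flat.of_linearEquiv e.symm
  exact Module.Flat.trans A R (Disc.Omega R L)

end omega

/-- a finite local algebra over a local ring with Gorenstein closed fibre has Gorenstein
closed fibre ring -/
theorem gorRing_fiber_of_local {R L : Type u} [CommRing R] [IsLocalRing R] [CommRing L]
    [IsLocalRing L] [Algebra R L] [Module.Finite R L] [IsNoetherianRing L]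
    (hG : LocCoh.IsGorensteinLocalRing (L ⧸ (maximalIdeal R).map (algebraMap R L))) :
    LocCoh.IsGorensteinRing ((maximalIdeal R).Fiber L) := by
  rw [Groth.Agent.Lib.Helper16.GorBC.isGorensteinRing_fiber_iff R L (maximalIdeal R)]
  intro r _ hr
  have hrmax : r.IsMaximal :=
    Ideal.isMaximal_of_isIntegral_of_isMaximal_comap r (hr ▸ maximalIdeal.isMaximal R)
  have hr' : r = maximalIdeal L := IsLocalRing.eq_maximalIdeal hrmax
  have hunits : r.primeCompl ≤ IsUnit.submonoid L := by
    intro x hx
    have hx' : x ∉ r := hx
    rw [hr'] at hx'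
    exact IsLocalRing.notMem_maximalIdeal.mp hx'
  let e : L ≃ₐ[L] Localization.AtPrime r := IsLocalization.atUnits L r.primeCompl hunits
  have he : (e.toRingEquiv : L →+* Localization.AtPrime r) =
      algebraMap L (Localization.AtPrime r) := by
    ext x
    exact e.commutes x
  refine Groth.Agent.Lib.Helper2.GK.gor_of_ringEquiv
    (Ideal.quotientEquiv _ _ e.toRingEquiv ?_) hG
  rw [he, Ideal.map_map, ← IsScalarTower.algebraMap_eq, hr]


end Groth.Agent.Lib.Helper16.QFD
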