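import Mathlib
import Groth.Prelude.Def_Disc
import Groth.Prelude.Def_QFDual
import Groth.Prelude.Def_EGA4b
import Groth.Agent.Lib.Helper16.QFD1
import Groth.Agent.Lib.Helper16.QFD2
import Groth.Agent.Lib.Helper16.GorBC1
import Groth.Agent.Lib.Helper26.QFDual6
import Groth.Agent.Lib.Helper16.QFD3a

/-!
# QFDual: the main local theorem over a henselian base
-/

set_option autoImplicit false
set_option linter.style.haveILetI false
set_option linter.unusedSectionVars false
set_option linter.unusedSimpArgs false

universe u
open TensorProduct IsLocalRing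

namespace Groth.Agent.Lib.Helper16.QFD

section main

attribute [local instance] Algebra.TensorProduct.rightAlgebra

variable {A B' R : Type u} [CommRing A] [CommRing B'] [CommRing R] [Algebra A B'] [Algebra A R]
  [IsNoetherianRing A] [Module.Finite A B'] [HenselianLocalRing R] [IsNoetherianRing R]
  [Module.Flat A R] (q' : Ideal B') [q'.IsPrime]

theorem main_local [Module.Flat A (Localization.AtPrime q')]
    (hm : (q'.under A).map (algebraMap A R) = maximalIdeal R)
    (hres : ∀ x : R, ∃ a s : A, s ∉ q'.under A ∧
      algebraMap A R s * x - algebraMap A R a ∈ maximalIdeal R) :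
    Module.Flat A (Localization.AtPrime q' ⊗[B'] Disc.Omega A B') ∧
    (LocCoh.IsGorensteinLocalRing (EGA4.FibLocRing A B' q') →
      Nonempty ((Localization.AtPrime q' ⊗[B'] Disc.Omega A B') ≃ₗ[Localization.AtPrime q']
        Localization.AtPrime q')) := by
  classical
  haveI : Module.Flat B' (R ⊗[A] B') := flat_right
  obtain ⟨n, hnp, hn⟩ := exists_prime_over (R := R) q' hm.le
  haveI := hnp
  have hnR := comap_eq_maximalIdeal q' n hm hn
  haveI hnmax : n.IsMaximal := isMaximal_of_comap n hnR
  obtain ⟨hsurj, ε, hε1, hε0⟩ := exists_factor_data R n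
  haveI hflatRL : Module.Flat R (Localization.AtPrime n) := flat_localization q' n hn
  haveI : Module.Finite R (Localization.AtPrime n) :=
    Module.Finite.of_surjective
      (IsScalarTower.toAlgHom R (R ⊗[A] B') (Localization.AtPrime n)).toLinearMap hsurj
  haveI : Module.Free R (Localization.AtPrime n) := Module.free_of_flat_of_isLocalRing
  haveI : n.LiesOver q' := ⟨hn.symm⟩
  letI : Algebra (Localization.AtPrime q') (Localization.AtPrime n) :=
    Localization.AtPrime.algebraOfLiesOver q' n
  haveI : IsLocalHom (algebraMap (Localization.AtPrime q') (Localization.AtPrime n)) :=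
    Localization.isLocalHom_localRingHom q' n (algebraMap B' (R ⊗[A] B')) Ideal.LiesOver.over
  haveI : Module.FaithfullyFlat (Localization.AtPrime q') (Localization.AtPrime n) :=
    Module.FaithfullyFlat.of_flat_of_isLocalHom
  -- equivalences
  let e₀ := AlgebraTensorModule.cancelBaseChange B' (Localization.AtPrime q')
    (Localization.AtPrime n) (Localization.AtPrime n) (Disc.Omega A B')
  have hpush : Algebra.IsPushout A R B' (R ⊗[A] B') := inferInstance
  haveI : Module.FinitePresentation A B' := Module.finitePresentation_of_finite A B'
  let e₁ := LinearEquiv.ofBijective (QFDual.omegaBC (B₁ := Localization.AtPrime n) hpush)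
    (Groth.Agent.Lib.Helper26.QFD6.omegaBC_bijective hpush
      (Groth.Agent.Lib.Helper26.QFD6.isBaseChange_toDual hpush))
  obtain ⟨e₂⟩ := nonempty_omega_equiv (R := R) hsurj ε hε1 hε0
  let e := (e₀.trans e₁).trans e₂
  letI : Module A (Disc.Omega R (Localization.AtPrime n)) :=
    Module.compHom _ (algebraMap A (Localization.AtPrime n))
  haveI : IsScalarTower A (Localization.AtPrime n) (Disc.Omega R (Localization.AtPrime n)) :=
    IsScalarTower.of_algebraMap_smul fun _ _ => rfl
  have hflatΩ : Module.Flat A (Disc.Omega R (Localization.AtPrime n)) := flat_omega_of_free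
  constructor
  · have hflat1 : Module.Flat A (Localization.AtPrime n ⊗[Localization.AtPrime q']
        (Localization.AtPrime q' ⊗[B'] Disc.Omega A B')) :=
      Module.Flat.of_linearEquiv (e.restrictScalars A)
    exact flat_descent hflat1
  · intro hG
    haveI : IsNoetherianRing B' := IsNoetherianRing.of_finite A B'
    haveI : IsNoetherianRing (R ⊗[A] B') := IsNoetherianRing.of_finite R _
    have h1 : LocCoh.IsGorensteinLocalRing
        (EGA4.FibLocRing A B' (n.comap (algebraMap B' (R ⊗[A] B')))) :=
      gor_fibLocRing_congr A B' hn.symm hG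
    have h2 : LocCoh.IsGorensteinLocalRing (EGA4.FibLocRing B' (R ⊗[A] B') n) := by
      have hI : maximalIdeal (Localization.AtPrime n) =
          (n.comap (algebraMap B' (R ⊗[A] B'))).map (algebraMap B' (Localization.AtPrime n)) := by
        rw [hn]
        exact (map_eq_maximalIdeal_localization q' n hm hres hn).symm
      exact gor_congr_ideal hI (gor_of_isField
        ((Ideal.Quotient.maximal_ideal_iff_isField_quotient _).mp
          (maximalIdeal.isMaximal (Localization.AtPrime n))))
    have h3 : LocCoh.IsGorensteinLocalRing (EGA4.FibLocRing A (R ⊗[A] B') n) :=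
      (Groth.Agent.Lib.Helper16.GorBC.gor_fibLocRing_comp A B' (R ⊗[A] B') n).mpr ⟨h1, h2⟩
    have h4 : LocCoh.IsGorensteinLocalRing (Localization.AtPrime n ⧸
        (maximalIdeal R).map (algebraMap R (Localization.AtPrime n))) := by
      refine gor_congr_ideal ?_ h3
      rw [← hm, Ideal.map_map, ← IsScalarTower.algebraMap_eq]
      congr 1
      rw [IsScalarTower.algebraMap_eq A B' (R ⊗[A] B'), ← Ideal.comap_comap, hn]
    have h5 := gorRing_fiber_of_local h4
    have hinv : Module.Invertible (Localization.AtPrime n)
        (Disc.Omega R (Localization.AtPrime n)) := invertible_omega_of_gor_closedFibre h5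
    have hinv' : Module.Invertible (Localization.AtPrime n)
        (Localization.AtPrime n ⊗[Localization.AtPrime q']
          (Localization.AtPrime q' ⊗[B'] Disc.Omega A B')) := Module.Invertible.congr e.symm
    haveI : Module.Finite B' (Disc.Omega A B') := finite_omega_of_noetherian A B'
    exact nonempty_equiv_of_invertible_tensor hinv'

end main

end Groth.Agent.Lib.Helper16.QFD
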