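import Mathlib
import Groth.Prelude.Def_Disc
import Groth.Prelude.Def_QFDual
import Groth.Prelude.Def_EGA4b
import Groth.Agent.Lib.Helper16.QFD3
import Groth.Agent.Lib.Helper4.HznNoethC

/-!
# QFDual: the main local theorem with the henselization supplied
-/

set_option autoImplicit false
set_option linter.style.haveILetI false
set_option linter.unusedSectionVars false
set_option linter.unusedSimpArgs false

universe u
open TensorProduct IsLocalRing

namespace Groth.Agent.Lib.Helper16.QFD

open Groth.Agent.Lib.Helper4.Hzn

/-- the main local theorem, with the henselization supplied -/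
theorem main_local' {A B' : Type u} [CommRing A] [CommRing B'] [Algebra A B']
    [IsNoetherianRing A] [Module.Finite A B'] (q' : Ideal B') [q'.IsPrime]
    [Module.Flat A (Localization.AtPrime q')] :
    Module.Flat A (Localization.AtPrime q' ⊗[B'] Disc.Omega A B') ∧
    (LocCoh.IsGorensteinLocalRing (EGA4.FibLocRing A B' q') →
      Nonempty ((Localization.AtPrime q' ⊗[B'] Disc.Omega A B') ≃ₗ[Localization.AtPrime q']
        Localization.AtPrime q')) := by
  letI : Algebra A (Hz (Localization.AtPrime (q'.under A))) :=
    ((algebraMap (Localization.AtPrime (q'.under A)) (Hz (Localization.AtPrime (q'.under A)))).comp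
      (algebraMap A (Localization.AtPrime (q'.under A)))).toAlgebra
  haveI : IsScalarTower A (Localization.AtPrime (q'.under A))
      (Hz (Localization.AtPrime (q'.under A))) := IsScalarTower.of_algebraMap_eq fun _ => rfl
  haveI : IsNoetherianRing (Hz (Localization.AtPrime (q'.under A))) := Hz.isNoetherianRing _
  haveI : Module.Flat A (Hz (Localization.AtPrime (q'.under A))) :=
    Module.Flat.trans A (Localization.AtPrime (q'.under A)) _
  have hm : (q'.under A).map (algebraMap A (Hz (Localization.AtPrime (q'.under A)))) =
      maximalIdeal (Hz (Localization.AtPrime (q'.under A))) := by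
    rw [IsScalarTower.algebraMap_eq A (Localization.AtPrime (q'.under A)), ← Ideal.map_map,
      Localization.AtPrime.map_eq_maximalIdeal, Hz.map_maximalIdeal]
  have hres : ∀ x : Hz (Localization.AtPrime (q'.under A)), ∃ a s : A, s ∉ q'.under A ∧
      algebraMap A (Hz (Localization.AtPrime (q'.under A))) s * x -
        algebraMap A (Hz (Localization.AtPrime (q'.under A))) a ∈
        maximalIdeal (Hz (Localization.AtPrime (q'.under A))) := by
    intro x
    obtain ⟨y, hy⟩ := Hz.exists_sub_mem (Localization.AtPrime (q'.under A)) x
    obtain ⟨a, s, rfl⟩ := IsLocalization.exists_mk'_eq (q'.under A).primeCompl y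
    refine ⟨a, s, s.2, ?_⟩
    have h1 : algebraMap A (Hz (Localization.AtPrime (q'.under A))) s * x -
        algebraMap A (Hz (Localization.AtPrime (q'.under A))) a =
        algebraMap A (Hz (Localization.AtPrime (q'.under A))) s *
          (x - algebraMap (Localization.AtPrime (q'.under A)) _
            (IsLocalization.mk' (Localization.AtPrime (q'.under A)) a s)) := by
      rw [mul_sub, IsScalarTower.algebraMap_apply A (Localization.AtPrime (q'.under A))
        (Hz (Localization.AtPrime (q'.under A))) s, ← map_mul, IsLocalization.mk'_spec',
        ← IsScalarTower.algebraMap_apply, ← IsScalarTower.algebraMap_apply]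
    rw [h1]
    exact Ideal.mul_mem_left _ _ hy
  exact main_local (R := Hz (Localization.AtPrime (q'.under A))) q' hm hres

end Groth.Agent.Lib.Helper16.QFD
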