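import Mathlib
import Groth.Prelude.Def_Koszul
import Groth.Prelude.Def_LCI2
import Groth.Agent.Lib.Helper28.KoszulTop

/-!
# Wiebe's theorem, part 1: homotopy operators on Koszul complexes (helper16)
-/

set_option autoImplicit false
set_option linter.style.haveILetI false
set_option linter.unusedSectionVars false
set_option linter.unusedSimpArgs false

universe u

open CategoryTheory CochainComplex

namespace Groth.Agent.Lib.Helper16.Wiebe

open Groth.Agent.Lib.Helper28.Koszul

variable {R : Type u} [CommRing R]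

/-- a degree `-1` operator on a cochain complex of modules -/
abbrev Op (K : CochainComplex (ModuleCat.{u} R) ℤ) := ∀ m : ℤ, K.X (m + 1) →ₗ[R] K.X m

/-- `σ` is a homotopy between multiplication by `r` and zero. -/
def IsHtpy (K : CochainComplex (ModuleCat.{u} R) ℤ) (σ : Op K) (r : R) : Prop :=
  ∀ (m : ℤ) (x : K.X (m + 1)),
    K.d m (m + 1) (σ m x) + σ (m + 1) (K.d (m + 1) (m + 1 + 1) x) = r • x

/-- `σ` has square zero. -/
def SqZero (K : CochainComplex (ModuleCat.{u} R) ℤ) (σ : Op K) : Prop :=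
  ∀ (m : ℤ) (x : K.X (m + 1 + 1)), σ m (σ (m + 1) x) = 0

section Cone

variable (K : CochainComplex (ModuleCat.{u} R) ℤ) (a : R)

/-- the operator on the cone of `a • 𝟙 K` built from a scalar and an operator on `K`:
`(x, y) ↦ (v₀ y - σ x, σ y)`. -/
noncomputable def consOp (v₀ : R) (σ : Op K) : Op (mappingCone (a • 𝟙 K)) := fun m =>
  (coneInl (a • 𝟙 K) m) ∘ₗ (v₀ • coneSnd (a • 𝟙 K) (m + 1) - σ (m + 1) ∘ₗ coneFst (a • 𝟙 K) (m + 1)) +
    (coneInr (a • 𝟙 K) m) ∘ₗ σ m ∘ₗ coneSnd (a • 𝟙 K) (m + 1)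

variable {K a}

@[simp] lemma coneFst_consOp (v₀ : R) (σ : Op K) (m : ℤ) (x : (mappingCone (a • 𝟙 K)).X (m + 1)) :
    coneFst (a • 𝟙 K) m (consOp K a v₀ σ m x) =
      v₀ • coneSnd (a • 𝟙 K) (m + 1) x - σ (m + 1) (coneFst (a • 𝟙 K) (m + 1) x) := by
  simp [consOp]

@[simp] lemma coneSnd_consOp (v₀ : R) (σ : Op K) (m : ℤ) (x : (mappingCone (a • 𝟙 K)).X (m + 1)) :
    coneSnd (a • 𝟙 K) m (consOp K a v₀ σ m x) = σ m (coneSnd (a • 𝟙 K) (m + 1) x) := by
  simp [consOp]

lemma consOp_sqZero (v₀ : R) (σ : Op K) (hσ : SqZero K σ) :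
    SqZero (mappingCone (a • 𝟙 K)) (consOp K a v₀ σ) := by
  intro m x
  apply cone_ext
  · rw [coneFst_consOp, coneSnd_consOp, coneFst_consOp, map_sub, map_smul, hσ, map_zero]
    simp
  · rw [coneSnd_consOp, coneSnd_consOp, hσ, map_zero]

lemma consOp_isHtpy (v₀ : R) (σ : Op K) (r : R) (hσ : IsHtpy K σ r) :
    IsHtpy (mappingCone (a • 𝟙 K)) (consOp K a v₀ σ) (v₀ * a + r) := by
  intro m x
  apply cone_ext
  · rw [map_add, coneFst_d, coneFst_consOp, coneFst_consOp, coneSnd_d, coneFst_d, map_smul,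
      smul_id_f_apply]
    have h := hσ (m + 1) (coneFst (a • 𝟙 K) (m + 1) x)
    simp only [map_sub, map_smul, map_add, map_neg, smul_add] at h ⊢
    rw [add_smul, ← h, mul_smul]
    abel
  · rw [map_add, coneSnd_d, coneFst_consOp, coneSnd_consOp, coneSnd_consOp, coneSnd_d, map_smul,
      smul_id_f_apply, smul_id_f_apply]
    have h := hσ m (coneSnd (a • 𝟙 K) (m + 1) x)
    simp only [map_sub, map_smul, map_add, smul_sub, smul_add] at h ⊢
    rw [add_smul, ← h, mul_smul, smul_comm a v₀]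
    abel

lemma consOp_add (v₀ v₀' : R) (σ σ' : Op K) :
    consOp K a (v₀ + v₀') (σ + σ') = consOp K a v₀ σ + consOp K a v₀' σ' := by
  funext m
  ext x
  apply cone_ext
  · simp only [Pi.add_apply, LinearMap.add_apply, map_add, coneFst_consOp, add_smul]
    abel
  · simp only [Pi.add_apply, LinearMap.add_apply, map_add, coneSnd_consOp]

lemma consOp_smul (c v₀ : R) (σ : Op K) :
    consOp K a (c * v₀) (c • σ) = c • consOp K a v₀ σ := by
  funext m
  ext x
  apply cone_ext
  · simp only [Pi.smul_apply, LinearMap.smul_apply, map_smul, coneFst_consOp, mul_smul, smul_sub]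
  · simp only [Pi.smul_apply, LinearMap.smul_apply, map_smul, coneSnd_consOp]

end Cone

section Koszul

variable (R)

/-- the linear form `v ↦ ∑_{j < length l} v_j l_j` -/
def dot : (l : List R) → (ℕ → R) → R
  | [], _ => 0
  | a :: l, v => v 0 * a + dot l (fun j => v (j + 1))

/-- the homotopy operator `σ_v = ∑ v_j σ_j` on the Koszul complex. -/
noncomputable def sigV : (l : List R) → (ℕ → R) → Op (Koszul.koszul R l)
  | [], _ => 0
  | a :: l, v => consOp (Koszul.koszul R l) a (v 0) (sigV l (fun j => v (j + 1)))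

variable {R}

lemma sigV_sqZero : ∀ (l : List R) (v : ℕ → R), SqZero (Koszul.koszul R l) (sigV R l v)
  | [], _ => fun m x => by simp [sigV]
  | a :: l, v => consOp_sqZero _ _ (sigV_sqZero l _)

lemma sigV_isHtpy : ∀ (l : List R) (v : ℕ → R),
    IsHtpy (Koszul.koszul R l) (sigV R l v) (dot R l v)
  | [], _ => fun m x => by
      simp only [sigV, dot, Pi.zero_apply, LinearMap.zero_apply, map_zero, add_zero, zero_smul]
  | a :: l, v => consOp_isHtpy _ _ _ (sigV_isHtpy l _)

lemma sigV_add : ∀ (l : List R) (v w : ℕ → R),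
    sigV R l (v + w) = sigV R l v + sigV R l w
  | [], _, _ => by simp [sigV]
  | a :: l, v, w => by
      have h := consOp_add (K := Koszul.koszul R l) (a := a) (v 0)
        (w 0) (sigV R l (fun j => v (j + 1)))
        (sigV R l (fun j => w (j + 1)))
      rw [← sigV_add l] at h
      exact h

lemma sigV_smul : ∀ (l : List R) (c : R) (v : ℕ → R),
    sigV R l (c • v) = c • sigV R l v
  | [], _, _ => by simp [sigV]
  | a :: l, c, v => by
      have h := consOp_smul (K := Koszul.koszul R l) (a := a) c (v 0)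
        (sigV R l (fun j => v (j + 1)))
      rw [← sigV_smul l] at h
      exact h

lemma dot_mem : ∀ (l : List R) (v : ℕ → R), dot R l v ∈ Ideal.ofList l
  | [], _ => by simp [dot]
  | a :: l, v => by
      rw [dot, Ideal.ofList_cons]
      exact Submodule.add_mem_sup (Ideal.mem_span_singleton'.2 ⟨v 0, rfl⟩) (dot_mem l _)

lemma dot_ofFn : ∀ (n : ℕ) (g : Fin n → R) (v : ℕ → R),
    dot R (List.ofFn g) v = ∑ j : Fin n, v j * g j
  | 0, _, _ => by simp [dot]
  | n + 1, g, v => by
      rw [List.ofFn_succ, dot, dot_ofFn n, Fin.sum_univ_succ]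
      simp

end Koszul

end Groth.Agent.Lib.Helper16.Wiebe
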