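import Mathlib
import Groth.Agent.Lib.Helper16.Wiebe1

/-!
# Wiebe's theorem, part 2: augmentation, top element and comparison map of Koszul complexes (helper16)
-/

set_option autoImplicit false
set_option linter.style.haveILetI false
set_option linter.unusedSectionVars false
set_option linter.unusedSimpArgs false

universe u

open CategoryTheory CochainComplex

namespace Groth.Agent.Lib.Helper16.Wiebe

open Groth.Agent.Lib.Helper28.Koszul

variable {R : Type u} [CommRing R]

lemma hom_comm_apply {K G : CochainComplex (ModuleCat.{u} R) ℤ} (β : K ⟶ G) (i j : ℤ)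
    (x : K.X i) : G.d i j (β.f i x) = β.f j (K.d i j x) :=
  congr($(β.comm i j) x)

lemma map_mem_smul_top {M N : Type*} [AddCommGroup M] [Module R M] [AddCommGroup N] [Module R N]
    (I : Ideal R) (f : M →ₗ[R] N) {x : M} (hx : x ∈ I • (⊤ : Submodule R M)) :
    f x ∈ I • (⊤ : Submodule R N) := by
  refine Submodule.smul_induction_on hx (fun r hr n _ => ?_) (fun x y hx hy => ?_)
  · rw [map_smul]
    exact Submodule.smul_mem_smul hr trivial
  · rw [map_add]
    exact add_mem hx hy

section Basic

variable (R)

lemma subsingleton_pos : ∀ (l : List R) (n : ℤ), 0 < n →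
    Subsingleton ((Koszul.koszul R l).X n)
  | [], n, hn => ModuleCat.subsingleton_of_isZero
      (HomologicalComplex.isZero_single_obj_X (ComplexShape.up ℤ) 0 _ n (by omega))
  | a :: l, n, hn => subsingleton_cone_X _ n (subsingleton_pos l (n + 1) (by omega))
      (subsingleton_pos l n hn)

lemma subsingleton_neg : ∀ (l : List R) (n : ℤ), n + l.length < 0 →
    Subsingleton ((Koszul.koszul R l).X n)
  | [], n, hn => ModuleCat.subsingleton_of_isZero
      (HomologicalComplex.isZero_single_obj_X (ComplexShape.up ℤ) 0 _ n (by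
        simp only [List.length_nil, Nat.cast_zero, add_zero] at hn; omega))
  | a :: l, n, hn => subsingleton_cone_X _ n
      (subsingleton_neg l (n + 1) (by
        simp only [List.length_cons, Nat.cast_add, Nat.cast_one] at hn; omega))
      (subsingleton_neg l n (by
        simp only [List.length_cons, Nat.cast_add, Nat.cast_one] at hn; omega))

/-- the augmentation `K(l)^0 ≃ R` -/
noncomputable def epsEquiv : (l : List R) → (Koszul.koszul R l).X 0 ≃ₗ[R] R
  | [] => (HomologicalComplex.singleObjXSelf (ComplexShape.up ℤ) 0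
      (ModuleCat.of R R)).toLinearEquiv
  | a :: l => (coneSndEquiv (a • 𝟙 (Koszul.koszul R l)) (subsingleton_pos R l 1 one_pos)) ≪≫ₗ
      epsEquiv l

/-- the unit element of `K(l)^0` -/
noncomputable def one (l : List R) : (Koszul.koszul R l).X 0 := (epsEquiv R l).symm 1

lemma epsEquiv_one (l : List R) : epsEquiv R l (one R l) = 1 :=
  (epsEquiv R l).apply_symm_apply 1

lemma epsEquiv_cons (a : R) (l : List R) (y : (Koszul.koszul R (a :: l)).X 0) :
    epsEquiv R (a :: l) y = epsEquiv R l (coneSnd (a • 𝟙 (Koszul.koszul R l)) 0 y) := rfl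

lemma eq_epsEquiv_smul_one (l : List R) (y : (Koszul.koszul R l).X 0) :
    y = epsEquiv R l y • one R l := by
  apply (epsEquiv R l).injective
  rw [map_smul, epsEquiv_one, smul_eq_mul, mul_one]

lemma cone_step' (K : CochainComplex (ModuleCat.{u} R) ℤ) (a : R) (e : K.X 0 ≃ₗ[R] R)
    (I : Ideal R) (h1 : Subsingleton (K.X 1))
    (hrange : Submodule.map e.symm.toLinearMap (I • (⊤ : Submodule R R)) =
      LinearMap.range (K.d (-1) 0).hom) :
    Submodule.map ((coneSndEquiv (a • 𝟙 K) h1) ≪≫ₗ e).symm.toLinearMap
        ((Ideal.span {a} ⊔ I) • (⊤ : Submodule R R)) =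
      LinearMap.range ((mappingCone (a • 𝟙 K)).d (-1) 0).hom := by
  apply Submodule.map_injective_of_injective (coneSndEquiv (a • 𝟙 K) h1).injective
  have hR := map_coneSnd_range_d K a
  change Submodule.map (coneSndEquiv (a • 𝟙 K) h1).toLinearMap
    (LinearMap.range ((mappingCone (a • 𝟙 K)).d (-1) 0).hom) = _ at hR
  rw [hR, ← Submodule.map_comp]
  have hcomp : (coneSndEquiv (a • 𝟙 K) h1).toLinearMap ∘ₗ
      ((coneSndEquiv (a • 𝟙 K) h1) ≪≫ₗ e).symm.toLinearMap = e.symm.toLinearMap := by
    ext
    simp
  rw [hcomp, Submodule.sup_smul, Submodule.map_sup, hrange,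
    Submodule.ideal_span_singleton_smul, Submodule.map_pointwise_smul, Submodule.map_top,
    LinearEquiv.range]

lemma map_epsEquiv_symm : ∀ l : List R,
    Submodule.map (epsEquiv R l).symm.toLinearMap (Ideal.ofList l • (⊤ : Submodule R R)) =
      LinearMap.range ((Koszul.koszul R l).d (-1) 0).hom
  | [] => by
      rw [Ideal.ofList_nil, Submodule.bot_smul, Submodule.map_bot]
      have : (Koszul.koszul R []).d (-1) 0 = 0 := rfl
      rw [this]
      exact (LinearMap.range_zero).symm
  | a :: l => by
      have h := cone_step' R (Koszul.koszul R l) a (epsEquiv R l) (Ideal.ofList l)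
        (subsingleton_pos R l 1 one_pos) (map_epsEquiv_symm l)
      rw [Ideal.ofList_cons]
      exact h

lemma epsEquiv_mem_iff (l : List R) (y : (Koszul.koszul R l).X 0) :
    epsEquiv R l y ∈ Ideal.ofList l ↔ y ∈ LinearMap.range ((Koszul.koszul R l).d (-1) 0).hom := by
  rw [← map_epsEquiv_symm, smul_eq_mul, Ideal.mul_top]
  constructor
  · intro hy
    exact ⟨epsEquiv R l y, hy, (epsEquiv R l).symm_apply_apply y⟩
  · rintro ⟨a, ha, rfl⟩
    rw [LinearEquiv.coe_coe, (epsEquiv R l).apply_symm_apply]
    exact ha

/-- the "top coefficient" functional -/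
noncomputable def tau : (l : List R) → (m : ℤ) → (Koszul.koszul R l).X m →ₗ[R] R
  | [], m => if h : m = 0 then
      (HomologicalComplex.singleObjXIsoOfEq (ComplexShape.up ℤ) 0 (ModuleCat.of R R) m h).hom.hom
      else 0
  | a :: l, m => tau l (m + 1) ∘ₗ coneFst (a • 𝟙 (Koszul.koszul R l)) m

/-- the top basis element -/
noncomputable def top : (l : List R) → (m : ℤ) → (m + l.length = 0) → (Koszul.koszul R l).X m
  | [], m, h => (HomologicalComplex.singleObjXIsoOfEq (ComplexShape.up ℤ) 0 (ModuleCat.of R R) m
      (by simpa using h)).inv.hom (1 : R)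
  | a :: l, m, h => coneInl (a • 𝟙 (Koszul.koszul R l)) m (top l (m + 1) (by
      simp only [List.length_cons, Nat.cast_add, Nat.cast_one] at h; omega))

lemma tau_top : ∀ (l : List R) (m : ℤ) (h : m + l.length = 0), tau R l m (top R l m h) = 1
  | [], m, h => by
      have hm : m = 0 := by simpa using h
      subst hm
      simp only [tau, top, dif_pos]
      exact congr($((HomologicalComplex.singleObjXIsoOfEq (ComplexShape.up ℤ) 0
        (ModuleCat.of R R) 0 rfl).inv_hom_id) (1 : R))
  | a :: l, m, h => by
      have h' : tau R (a :: l) m (top R (a :: l) m h) =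
          tau R l (m + 1) (coneFst (a • 𝟙 (Koszul.koszul R l)) m
            (coneInl (a • 𝟙 (Koszul.koszul R l)) m (top R l (m + 1) (by
              simp only [List.length_cons, Nat.cast_add, Nat.cast_one] at h; omega)))) := rfl
      rw [h', coneFst_coneInl, tau_top l]

lemma eq_tau_smul_top : ∀ (l : List R) (m : ℤ) (h : m + l.length = 0)
    (x : (Koszul.koszul R l).X m), x = tau R l m x • top R l m h
  | [], m, h, x => by
      have hm : m = 0 := by simpa using h
      subst hm
      simp only [tau, top, dif_pos]
      let e := (HomologicalComplex.singleObjXIsoOfEq (ComplexShape.up ℤ) 0 (ModuleCat.of R R) 0 rfl)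
      have h1 : e.inv.hom (e.hom.hom x) = x := congr($(e.hom_inv_id) x)
      have h2 : (e.hom.hom x : R) • e.inv.hom (1 : R) = e.inv.hom (e.hom.hom x) := by
        rw [← map_smul]
        congr 1
        exact mul_one _
      exact (h2.trans h1).symm
  | a :: l, m, h, x => by
      have hm : m + 1 + (l.length : ℤ) = 0 := by
        simp only [List.length_cons, Nat.cast_add, Nat.cast_one] at h; omega
      have hs : Subsingleton ((Koszul.koszul R l).X m) := subsingleton_neg R l m (by omega)
      have ih := eq_tau_smul_top l (m + 1) hm (coneFst (a • 𝟙 (Koszul.koszul R l)) m x)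
      have h' : tau R (a :: l) m x • top R (a :: l) m h =
          tau R l (m + 1) (coneFst (a • 𝟙 (Koszul.koszul R l)) m x) •
            coneInl (a • 𝟙 (Koszul.koszul R l)) m (top R l (m + 1) hm) := rfl
      refine Eq.trans ?_ h'.symm
      apply cone_ext
      · rw [map_smul, coneFst_coneInl]
        exact ih
      · exact Subsingleton.elim _ _

lemma d_mem : ∀ (l : List R) (m m' : ℤ) (x : (Koszul.koszul R l).X m),
    (Koszul.koszul R l).d m m' x ∈
      Ideal.ofList l • (⊤ : Submodule R ((Koszul.koszul R l).X m'))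
  | [], m, m', x => by
      have : (Koszul.koszul R []).d m m' = 0 := rfl
      rw [this]
      exact zero_mem _
  | a :: l, m, m', x => by
      by_cases hm : m + 1 = m'
      · subst hm
        have key : ∀ x : (mappingCone (a • 𝟙 (Koszul.koszul R l))).X m,
            (mappingCone (a • 𝟙 (Koszul.koszul R l))).d m (m + 1) x ∈
              (Ideal.span {a} ⊔ Ideal.ofList l) •
                (⊤ : Submodule R ((mappingCone (a • 𝟙 (Koszul.koszul R l))).X (m + 1))) := by
          intro x
          rw [← coneInl_fst_add_coneInr_snd (a • 𝟙 (Koszul.koszul R l)) (m + 1)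
            ((mappingCone (a • 𝟙 (Koszul.koszul R l))).d m (m + 1) x), coneFst_d, coneSnd_d,
            smul_id_f_apply, map_add, map_neg, map_smul]
          have hle : Ideal.ofList l ≤ Ideal.span {a} ⊔ Ideal.ofList l := le_sup_right
          refine add_mem (neg_mem ?_) (add_mem ?_ ?_)
          · exact Submodule.smul_mono_left hle
              (map_mem_smul_top _ (coneInl (a • 𝟙 (Koszul.koszul R l)) (m + 1)) (d_mem l _ _ _))
          · exact Submodule.smul_mem_smul (Submodule.mem_sup_left (Ideal.mem_span_singleton_self a))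
              trivial
          · exact Submodule.smul_mono_left hle
              (map_mem_smul_top _ (coneInr (a • 𝟙 (Koszul.koszul R l)) (m + 1)) (d_mem l _ _ _))
        rw [Ideal.ofList_cons]
        exact key x
      · rw [(Koszul.koszul R (a :: l)).shape m m' hm]
        exact zero_mem _

end Basic

section Desc

/-- the chain map out of the cone of `a • 𝟙 K` given by a chain map `β : K ⟶ G` and a homotopy
`σ` on `G` from `a` to `0`: `(x, y) ↦ σ (β x) + β y`. -/
noncomputable def descOp {K G : CochainComplex (ModuleCat.{u} R) ℤ} (a : R) (β : K ⟶ G)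
    (σ : Op G) (hσ : IsHtpy G σ a) : mappingCone (a • 𝟙 K) ⟶ G where
  f n := ModuleCat.ofHom (σ n ∘ₗ (β.f (n + 1)).hom ∘ₗ coneFst (a • 𝟙 K) n +
    (β.f n).hom ∘ₗ coneSnd (a • 𝟙 K) n)
  comm' i j hij := by
    have hij' : i + 1 = j := hij
    subst hij'
    apply ModuleCat.hom_ext
    apply LinearMap.ext
    intro x
    change G.d i (i + 1) (σ i (β.f (i + 1) (coneFst (a • 𝟙 K) i x)) +
        β.f i (coneSnd (a • 𝟙 K) i x)) =
      σ (i + 1) (β.f (i + 1 + 1) (coneFst (a • 𝟙 K) (i + 1)
          ((mappingCone (a • 𝟙 K)).d i (i + 1) x))) +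
        β.f (i + 1) (coneSnd (a • 𝟙 K) (i + 1) ((mappingCone (a • 𝟙 K)).d i (i + 1) x))
    rw [coneFst_d, coneSnd_d, smul_id_f_apply, map_add, map_add, map_neg, map_neg, map_smul,
      hom_comm_apply, ← hom_comm_apply β (i + 1) (i + 1 + 1)]
    have h := hσ i (β.f (i + 1) (coneFst (a • 𝟙 K) i x))
    rw [← h]
    abel

lemma descOp_f_apply {K G : CochainComplex (ModuleCat.{u} R) ℤ} (a : R) (β : K ⟶ G)
    (σ : Op G) (hσ : IsHtpy G σ a) (n : ℤ) (x : (mappingCone (a • 𝟙 K)).X n) :
    (descOp a β σ hσ).f n x =
      σ n (β.f (n + 1) (coneFst (a • 𝟙 K) n x)) + β.f n (coneSnd (a • 𝟙 K) n x) := rfl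

variable (R)

/-- the unit map `R[0] ⟶ K(l)` -/
noncomputable def unitMap (l : List R) : Koszul.koszul R [] ⟶ Koszul.koszul R l :=
  HomologicalComplex.mkHomFromSingle
    (ModuleCat.ofHom (LinearMap.toSpanSingleton R ((Koszul.koszul R l).X 0) (one R l))) (by
      intro k hk
      have hk' : (0 : ℤ) + 1 = k := hk
      have : Subsingleton ((Koszul.koszul R l).X k) := subsingleton_pos R l k (by omega)
      apply ModuleCat.hom_ext
      apply LinearMap.ext
      intro x
      exact Subsingleton.elim _ _)

lemma unitMap_f_zero (l : List R) (x : (Koszul.koszul R []).X 0) :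
    (unitMap R l).f 0 x = epsEquiv R [] x • one R l := by
  have h := HomologicalComplex.mkHomFromSingle_f
    (ModuleCat.ofHom (LinearMap.toSpanSingleton R ((Koszul.koszul R l).X 0) (one R l))) (by
      intro k hk
      have hk' : (0 : ℤ) + 1 = k := hk
      have : Subsingleton ((Koszul.koszul R l).X k) := subsingleton_pos R l k (by omega)
      apply ModuleCat.hom_ext
      apply LinearMap.ext
      intro x
      exact Subsingleton.elim _ _)
  exact congr($h x)

/-- the comparison map `K(f) ⟶ K(g)` for `f_i = ∑ c_ij g_j` -/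
noncomputable def Phi (lg : List R) : (rows : List (ℕ → R)) →
    (Koszul.koszul R (rows.map (dot R lg)) ⟶ Koszul.koszul R lg)
  | [] => unitMap R lg
  | c :: rows => descOp (dot R lg c) (Phi lg rows) (sigV R lg c) (sigV_isHtpy lg c)

lemma Phi_eps (lg : List R) : ∀ (rows : List (ℕ → R))
    (y : (Koszul.koszul R (rows.map (dot R lg))).X 0),
    epsEquiv R lg ((Phi R lg rows).f 0 y) = epsEquiv R (rows.map (dot R lg)) y
  | [], y => by
      have h : (Phi R lg []).f 0 y = epsEquiv R [] y • one R lg := unitMap_f_zero R lg y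
      rw [h, map_smul, epsEquiv_one, smul_eq_mul, mul_one]
      rfl
  | c :: rows, y => by
      have hs : Subsingleton ((Koszul.koszul R (rows.map (dot R lg))).X (0 + 1)) :=
        subsingleton_pos R _ _ (by omega)
      have h : (Phi R lg (c :: rows)).f 0 y =
          sigV R lg c 0 ((Phi R lg rows).f (0 + 1)
            (coneFst (dot R lg c • 𝟙 (Koszul.koszul R (rows.map (dot R lg)))) 0 y)) +
          (Phi R lg rows).f 0
            (coneSnd (dot R lg c • 𝟙 (Koszul.koszul R (rows.map (dot R lg)))) 0 y) := rfl
      rw [h, Subsingleton.elim (coneFst (dot R lg c •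
        𝟙 (Koszul.koszul R (rows.map (dot R lg)))) 0 y) 0, map_zero, map_zero, zero_add,
        Phi_eps lg rows]
      rfl

/-- the product of all degrees of `K(lg)` -/
abbrev W (lg : List R) := ∀ m : ℤ, (Koszul.koszul R lg).X m

/-- a degree `-1` operator as an endomorphism of `W` -/
noncomputable def T (lg : List R) (σ : Op (Koszul.koszul R lg)) : W R lg →ₗ[R] W R lg :=
  LinearMap.pi (fun m => σ m ∘ₗ LinearMap.proj (m + 1))

lemma T_apply (lg : List R) (σ : Op (Koszul.koszul R lg)) (w : W R lg) (m : ℤ) :
    T R lg σ w m = σ m (w (m + 1)) := rfl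

/-- `v ↦ σ_v` as a linear map into endomorphisms of `W` -/
noncomputable def S (lg : List R) : (ℕ → R) →ₗ[R] Module.End R (W R lg) where
  toFun v := T R lg (sigV R lg v)
  map_add' v w := by
    ext x m
    simp only [T_apply, sigV_add, Pi.add_apply, LinearMap.add_apply]
  map_smul' r v := by
    ext x m
    simp only [T_apply, sigV_smul, Pi.smul_apply, LinearMap.smul_apply, RingHom.id_apply]

lemma S_apply (lg : List R) (v : ℕ → R) (w : W R lg) (m : ℤ) :
    S R lg v w m = sigV R lg v m (w (m + 1)) := rfl

lemma S_sq (lg : List R) (v : ℕ → R) : S R lg v * S R lg v = 0 := by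
  ext w m
  rw [Module.End.mul_apply, S_apply, S_apply]
  exact sigV_sqZero lg v m _

/-- the element `1` in degree `0` of `W` -/
noncomputable def w₀ (lg : List R) : W R lg := Pi.single 0 (one R lg)

lemma Phi_top (lg : List R) : ∀ (rows : List (ℕ → R)) (m : ℤ)
    (h : m + (rows.map (dot R lg)).length = 0),
    (Phi R lg rows).f m (top R (rows.map (dot R lg)) m h) =
      ((rows.map (S R lg)).prod (w₀ R lg)) m
  | [], m, h => by
      have hm : m = 0 := by simpa using h
      subst hm
      have h1 : (Phi R lg []).f 0 (top R [] 0 h) = epsEquiv R [] (top R [] 0 h) • one R lg :=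
        unitMap_f_zero R lg _
      have h2 : epsEquiv R [] (top R [] 0 h) = 1 := by
        have := tau_top R [] 0 h
        simp only [tau, dif_pos] at this
        exact this
      have hR : ((List.map (S R lg) []).prod (w₀ R lg)) 0 = one R lg := by
        rw [List.map_nil, List.prod_nil, Module.End.one_apply, w₀, Pi.single_eq_same]
      refine (h1.trans ?_).trans hR.symm
      rw [h2, one_smul]
  | c :: rows, m, h => by
      have hm : m + 1 + ((rows.map (dot R lg)).length : ℤ) = 0 := by
        simp only [List.map_cons, List.length_cons, Nat.cast_add, Nat.cast_one] at h; omega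
      have h1 : (Phi R lg (c :: rows)).f m (top R ((c :: rows).map (dot R lg)) m h) =
          sigV R lg c m ((Phi R lg rows).f (m + 1)
            (coneFst (dot R lg c • 𝟙 (Koszul.koszul R (rows.map (dot R lg)))) m
              (coneInl (dot R lg c • 𝟙 (Koszul.koszul R (rows.map (dot R lg)))) m
                (top R (rows.map (dot R lg)) (m + 1) hm)))) +
          (Phi R lg rows).f m
            (coneSnd (dot R lg c • 𝟙 (Koszul.koszul R (rows.map (dot R lg)))) m
              (coneInl (dot R lg c • 𝟙 (Koszul.koszul R (rows.map (dot R lg)))) m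
                (top R (rows.map (dot R lg)) (m + 1) hm))) := rfl
      rw [h1, coneFst_coneInl, coneSnd_coneInl, map_zero, add_zero, Phi_top lg rows (m + 1) hm,
        List.map_cons, List.prod_cons, Module.End.mul_apply, S_apply]

end Desc

end Groth.Agent.Lib.Helper16.Wiebe
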