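import Mathlib
import Groth.Agent.Lib.Helper16.Wiebe2

/-!
# Wiebe's theorem, part 3: the determinant via the exterior algebra (helper16)
-/

set_option autoImplicit false
set_option linter.style.haveILetI false
set_option linter.unusedSectionVars false
set_option linter.unusedSimpArgs false

universe u

open CategoryTheory CochainComplex

namespace Groth.Agent.Lib.Helper16.Wiebe

open Groth.Agent.Lib.Helper28.Koszul

variable {R : Type u} [CommRing R]

/-- module-valued alternating maps on a module with a basis indexed by the same type are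
`det • (value at the basis)` -/
theorem alternating_eq_det_smulRight {ι M N : Type*} [Fintype ι] [DecidableEq ι]
    [AddCommGroup M] [Module R M] [AddCommGroup N] [Module R N]
    (e : Module.Basis ι R M) (f : M [⋀^ι]→ₗ[R] N) : f = e.det.smulRight (f e) := by
  refine Module.Basis.ext_alternating e fun i h => ?_
  let σ : Equiv.Perm ι := Equiv.ofBijective i (Finite.injective_iff_bijective.1 h)
  change f (e ∘ σ) = (e.det.smulRight (f e)) (e ∘ σ)
  simp [AlternatingMap.map_perm, Module.Basis.det_self]

variable (R)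

/-- extension by zero `(Fin n → R) → (ℕ → R)` -/
def emb (n : ℕ) : (Fin n → R) →ₗ[R] (ℕ → R) where
  toFun w j := if h : j < n then w ⟨j, h⟩ else 0
  map_add' v w := by
    funext j
    by_cases h : j < n <;> simp [h]
  map_smul' r v := by
    funext j
    by_cases h : j < n <;> simp [h]

lemma emb_apply_fin (n : ℕ) (w : Fin n → R) (j : Fin n) : emb R n w j = w j := by
  simp [emb]

theorem prod_eq_det_smul (lg : List R) (n : ℕ) (c : Matrix (Fin n) (Fin n) R) (m : ℤ) :
    ∃ u : (Koszul.koszul R lg).X m,
      (((List.ofFn fun i => emb R n (c i)).map (S R lg)).prod (w₀ R lg)) m = c.det • u := by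
  let Lx : ExteriorAlgebra R (ℕ → R) →ₐ[R] Module.End R (W R lg) :=
    ExteriorAlgebra.lift R ⟨S R lg, S_sq R lg⟩
  let ev : Module.End R (W R lg) →ₗ[R] (Koszul.koszul R lg).X m :=
    LinearMap.proj m ∘ₗ LinearMap.applyₗ (w₀ R lg)
  let alt : (Fin n → R) [⋀^Fin n]→ₗ[R] (Koszul.koszul R lg).X m :=
    (ev ∘ₗ Lx.toLinearMap).compAlternatingMap
      ((ExteriorAlgebra.ιMulti R n).compLinearMap (emb R n))
  have halt : ∀ v : Fin n → (Fin n → R),
      alt v = (((List.ofFn fun i => emb R n (v i)).map (S R lg)).prod (w₀ R lg)) m := by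
    intro v
    change (Lx (ExteriorAlgebra.ιMulti R n (fun i => emb R n (v i)))) (w₀ R lg) m = _
    rw [ExteriorAlgebra.ιMulti_apply, map_list_prod, List.map_ofFn, List.map_ofFn]
    have hfun : (⇑Lx ∘ fun i => (ExteriorAlgebra.ι R) ((emb R n) (v i))) =
        (⇑(S R lg) ∘ fun i => (emb R n) (v i)) := by
      funext i
      exact ExteriorAlgebra.lift_ι_apply _ _ _ _
    rw [hfun]
  refine ⟨alt (Pi.basisFun R (Fin n)), ?_⟩
  have key : alt c = (Pi.basisFun R (Fin n)).det c • alt (Pi.basisFun R (Fin n)) := by
    conv_lhs => rw [alternating_eq_det_smulRight (Pi.basisFun R (Fin n)) alt]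
    rfl
  rw [← halt, key, Pi.basisFun_det_apply]
  rfl

end Groth.Agent.Lib.Helper16.Wiebe
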