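import Mathlib
import Groth.Agent.Lib.Helper16.Wiebe3
import Groth.Agent.Lib.Helper11.KzRes

/-!
# Wiebe's theorem, part 4: Koszul resolutions and the colon ideal (helper16)
-/

set_option autoImplicit false
set_option linter.style.haveILetI false
set_option linter.unusedSectionVars false
set_option linter.unusedSimpArgs false

universe u

open CategoryTheory CochainComplex

namespace Groth.Agent.Lib.Helper16.Wiebe

open Groth.Agent.Lib.Helper28.Koszul
open Groth.Agent.Lib.Helper11.Kz (toChain toChain_d toChain_exactAt_succ)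

variable (R : Type u) [CommRing R]

lemma projective_X (l : List R) (n : ℤ) : Module.Projective R ((Koszul.koszul R l).X n) := by
  rw [Groth.Agent.Lib.Helper11.Kz.koszul_eq]
  exact Groth.Agent.Lib.Helper11.Kz.projective_X (ModuleCat.of R R) l n

/-- `toChain` on morphisms -/
noncomputable def toChainMap {K L : CochainComplex (ModuleCat.{u} R) ℤ} (φ : K ⟶ L) :
    toChain K ⟶ toChain L :=
  ChainComplex.ofHom (fun n => φ.f (-(n : ℤ))) (fun n => by
    rw [toChain_d, toChain_d]
    exact φ.comm _ _)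

lemma toChainMap_f {K L : CochainComplex (ModuleCat.{u} R) ℤ} (φ : K ⟶ L) (n : ℕ) :
    (toChainMap R φ).f n = φ.f (-(n : ℤ)) := rfl

lemma toChain_d_mem (l : List R) (i j : ℕ) (x : (toChain (Koszul.koszul R l)).X i) :
    (toChain (Koszul.koszul R l)).d i j x ∈
      Ideal.ofList l • (⊤ : Submodule R ((toChain (Koszul.koszul R l)).X j)) := by
  by_cases hij : j + 1 = i
  · subst hij
    rw [toChain_d]
    exact d_mem R l _ _ x
  · rw [(toChain (Koszul.koszul R l)).shape i j hij]
    exact zero_mem _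

/-- the augmentation `K(l)_0 → R/(l)` -/
noncomputable def pi0 (l : List R) :
    (toChain (Koszul.koszul R l)).X 0 ⟶ ModuleCat.of R (R ⧸ Ideal.ofList l) :=
  ModuleCat.ofHom ((Submodule.mkQ (Ideal.ofList l)) ∘ₗ (epsEquiv R l).toLinearMap)

lemma pi0_apply (l : List R) (y : (Koszul.koszul R l).X 0) :
    pi0 R l y = Submodule.mkQ (Ideal.ofList l) (epsEquiv R l y) := rfl

lemma pi0_eq_zero_iff (l : List R) (y : (Koszul.koszul R l).X 0) :
    pi0 R l y = 0 ↔ y ∈ LinearMap.range ((Koszul.koszul R l).d (-1) 0).hom := by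
  rw [pi0_apply, Submodule.mkQ_apply, Submodule.Quotient.mk_eq_zero, epsEquiv_mem_iff]

lemma pi0_w (l : List R) : (toChain (Koszul.koszul R l)).d 1 0 ≫ pi0 R l = 0 := by
  ext x
  have hd : (toChain (Koszul.koszul R l)).d 1 0 = (Koszul.koszul R l).d (-1) 0 :=
    toChain_d (Koszul.koszul R l) 0
  rw [hd]
  exact (pi0_eq_zero_iff R l _).2 ⟨x, rfl⟩

/-- the Koszul complex of a Koszul-regular sequence as a projective resolution of `R/(l)` -/
noncomputable def koszulRes (l : List R) (h : LCI.IsKoszulRegularSeq R l) :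
    ProjectiveResolution (ModuleCat.of R (R ⧸ Ideal.ofList l)) :=
  Groth.Agent.Lib.Helper10.projectiveResolutionOfExact _ (toChain (Koszul.koszul R l))
    (fun n => by
      have : Module.Projective R ((Koszul.koszul R l).X (-(n : ℤ))) := projective_X R l _
      exact ModuleCat.projective_of_categoryTheory_projective ((Koszul.koszul R l).X (-(n : ℤ))))
    (pi0 R l) (pi0_w R l)
    (by
      rw [ShortComplex.moduleCat_exact_iff]
      intro y hy
      obtain ⟨x, hx⟩ := (pi0_eq_zero_iff R l y).1 hy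
      refine ⟨x, ?_⟩
      have hd : (toChain (Koszul.koszul R l)).d 1 0 = (Koszul.koszul R l).d (-1) 0 :=
        toChain_d (Koszul.koszul R l) 0
      change ((toChain (Koszul.koszul R l)).d 1 0) x = y
      rw [hd]
      exact hx)
    (by
      rw [ModuleCat.epi_iff_surjective]
      exact (Submodule.mkQ_surjective _).comp (epsEquiv R l).surjective)
    (fun n => toChain_exactAt_succ (Koszul.koszul R l) n (by
      rw [HomologicalComplex.exactAt_iff_isZero_homology]
      exact h _ (by push_cast; omega)))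

lemma koszulRes_complex (l : List R) (h : LCI.IsKoszulRegularSeq R l) :
    (koszulRes R l h).complex = toChain (Koszul.koszul R l) := rfl

lemma koszulRes_π_f_zero (l : List R) (h : LCI.IsKoszulRegularSeq R l) :
    (koszulRes R l h).π.f 0 = pi0 R l :=
  Groth.Agent.Lib.Helper10.projectiveResolutionOfExact_π_f_zero _ _ _ _ _ _ _ _

theorem colon_le (lf lg : List R) (hf : LCI.IsKoszulRegularSeq R lf)
    (hg : LCI.IsKoszulRegularSeq R lg)
    (Φ : Koszul.koszul R lf ⟶ Koszul.koszul R lg)
    (hΦ : ∀ y, epsEquiv R lg (Φ.f 0 y) = epsEquiv R lf y)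
    (D : R) (u : (Koszul.koszul R lg).X (-(lf.length : ℤ)))
    (hD : Φ.f (-(lf.length : ℤ)) (top R lf (-(lf.length : ℤ)) (by omega)) = D • u)
    (x : R) (hx : ∀ y ∈ Ideal.ofList lg, x * y ∈ Ideal.ofList lf) :
    x ∈ Ideal.ofList lf ⊔ Ideal.span {D} := by
  let F := Koszul.koszul R lf
  let G := Koszul.koszul R lg
  let PF := koszulRes R lf hf
  let PG := koszulRes R lg hg
  have hx' : Ideal.ofList lg ≤ Submodule.comap (LinearMap.lsmul R R x) (Ideal.ofList lf) :=
    fun y hy => hx y hy
  let μ : ModuleCat.of R (R ⧸ Ideal.ofList lg) ⟶ ModuleCat.of R (R ⧸ Ideal.ofList lf) :=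
    ModuleCat.ofHom (Submodule.mapQ (Ideal.ofList lg) (Ideal.ofList lf) (LinearMap.lsmul R R x) hx')
  let ψ : toChain G ⟶ toChain F := ProjectiveResolution.lift μ PG PF
  have hψ0 : ∀ z : G.X 0, pi0 R lf (ψ.f 0 z) = μ (pi0 R lg z) := by
    intro z
    have h := ProjectiveResolution.lift_commutes_zero μ PG PF
    rw [koszulRes_π_f_zero, koszulRes_π_f_zero] at h
    exact congr($h z)
  let Φc : toChain F ⟶ toChain G := toChainMap R Φ
  let mx : ModuleCat.of R (R ⧸ Ideal.ofList lf) ⟶ ModuleCat.of R (R ⧸ Ideal.ofList lf) :=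
    x • 𝟙 _
  have hcomm1 : (Φc ≫ ψ) ≫ PF.π = PF.π ≫ (ChainComplex.single₀ _).map mx := by
    apply HomologicalComplex.to_single_hom_ext
    rw [HomologicalComplex.comp_f, HomologicalComplex.comp_f, HomologicalComplex.comp_f,
      ChainComplex.single₀_map_f_zero, koszulRes_π_f_zero]
    ext y
    change pi0 R lf (ψ.f 0 (Φ.f 0 y)) = x • pi0 R lf y
    rw [hψ0, pi0_apply, pi0_apply, hΦ]
    change Submodule.mapQ (Ideal.ofList lg) (Ideal.ofList lf) (LinearMap.lsmul R R x) hx'
      (Submodule.Quotient.mk (epsEquiv R lf y)) = _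
    rw [Submodule.mapQ_apply]
    rfl
  have hcomm2 : (x • 𝟙 (toChain F)) ≫ PF.π = PF.π ≫ (ChainComplex.single₀ _).map mx := by
    apply HomologicalComplex.to_single_hom_ext
    rw [HomologicalComplex.comp_f, HomologicalComplex.comp_f,
      ChainComplex.single₀_map_f_zero, koszulRes_π_f_zero]
    ext y
    change pi0 R lf (x • y) = x • pi0 R lf y
    rw [map_smul]
  let H : Homotopy (Φc ≫ ψ) (x • 𝟙 (toChain F)) :=
    ProjectiveResolution.liftHomotopy mx (P := PF) (Q := PF) (Φc ≫ ψ) (x • 𝟙 (toChain F))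
      hcomm1 hcomm2
  let n : ℕ := lf.length
  let t : (toChain F).X n := top R lf (-(lf.length : ℤ)) (by omega)
  have hc := H.comm n
  have hc' : (ψ.f n (Φ.f (-(n : ℤ)) t) : (toChain F).X n) =
      H.hom ((ComplexShape.down ℕ).next n) n
        ((toChain F).d n ((ComplexShape.down ℕ).next n) t) +
      (toChain F).d ((ComplexShape.down ℕ).prev n) n
        (H.hom n ((ComplexShape.down ℕ).prev n) t) + x • t := congr($hc t)
  have hsub : Subsingleton ((toChain F).X ((ComplexShape.down ℕ).prev n)) := by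
    rw [ChainComplex.prev]
    exact subsingleton_neg R lf _ (by push_cast; omega)
  rw [Subsingleton.elim (H.hom n ((ComplexShape.down ℕ).prev n) t) 0, map_zero, add_zero] at hc'
  have ht : tau R lf (-(n : ℤ)) t = 1 := tau_top R lf _ _
  have hc2 : tau R lf (-(n : ℤ)) (ψ.f n (Φ.f (-(n : ℤ)) t)) =
      tau R lf (-(n : ℤ)) (H.hom ((ComplexShape.down ℕ).next n) n
        ((toChain F).d n ((ComplexShape.down ℕ).next n) t)) + x * tau R lf (-(n : ℤ)) t :=
    (congrArg (tau R lf (-(n : ℤ))) hc').trans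
      ((LinearMap.map_add (tau R lf (-(n : ℤ))) _ _).trans
        (congrArg₂ (· + ·) rfl (LinearMap.map_smul (tau R lf (-(n : ℤ))) x t)))
  have hc3 : tau R lf (-(n : ℤ)) (ψ.f n (Φ.f (-(n : ℤ)) t)) =
      D * tau R lf (-(n : ℤ)) (ψ.f n u) := by
    have h1 : Φ.f (-(n : ℤ)) t = D • u := hD
    rw [h1]
    exact (congrArg (tau R lf (-(n : ℤ))) (LinearMap.map_smul (ψ.f n).hom D u)).trans
      (LinearMap.map_smul (tau R lf (-(n : ℤ))) D _)
  rw [hc3, ht, mul_one] at hc2
  have hJ : tau R lf (-(n : ℤ)) (H.hom ((ComplexShape.down ℕ).next n) n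
      ((toChain F).d n ((ComplexShape.down ℕ).next n) t)) ∈ Ideal.ofList lf := by
    have h1 := toChain_d_mem R lf n ((ComplexShape.down ℕ).next n) t
    have h2 := map_mem_smul_top (Ideal.ofList lf)
      ((tau R lf (-(n : ℤ))) ∘ₗ (H.hom ((ComplexShape.down ℕ).next n) n).hom) h1
    rw [smul_eq_mul, Ideal.mul_top] at h2
    exact h2
  have hxe : x = D * tau R lf (-(n : ℤ)) (ψ.f n u) -
      tau R lf (-(n : ℤ)) (H.hom ((ComplexShape.down ℕ).next n) n
        ((toChain F).d n ((ComplexShape.down ℕ).next n) t)) := by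
    rw [hc2]; ring
  rw [hxe]
  exact sub_mem (Submodule.mem_sup_right (Ideal.mul_mem_right _ _ (Ideal.mem_span_singleton_self D)))
    (Submodule.mem_sup_left hJ)


end Groth.Agent.Lib.Helper16.Wiebe
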