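import Mathlib
import Groth.Agent.Lib.Helper16.Wiebe4

/-!
# Wiebe's theorem: ((f) : (g)) = (f) + (det c) for Koszul-regular sequences f = c g (helper16)
-/

set_option autoImplicit false
set_option linter.style.haveILetI false
set_option linter.unusedSectionVars false
set_option linter.unusedSimpArgs false

universe u

open CategoryTheory CochainComplex

namespace Groth.Agent.Lib.Helper16.Wiebe

open Groth.Agent.Lib.Helper28.Koszul

variable {R : Type u} [CommRing R]

lemma ofList_ofFn {n : ℕ} (f : Fin n → R) :
    Ideal.ofList (List.ofFn f) = Ideal.span (Set.range f) := by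
  unfold Ideal.ofList
  congr 1
  ext x
  simp [List.mem_ofFn]

/-- Cramer's rule: `det c • g_k ∈ (f)` if `f = c g`. -/
lemma det_mul_mem {n : ℕ} (f g : Fin n → R) (c : Matrix (Fin n) (Fin n) R)
    (hc : ∀ i, f i = ∑ j, c i j * g j) (k : Fin n) :
    c.det * g k ∈ Ideal.span (Set.range f) := by
  have hf : f = c.mulVec g := by
    funext i
    rw [hc i]
    rfl
  have h1 : (c.adjugate).mulVec f = c.det • g := by
    rw [hf, Matrix.mulVec_mulVec, Matrix.adjugate_mul, Matrix.smul_mulVec, Matrix.one_mulVec]
  have h2 : c.det * g k = ∑ i, c.adjugate k i * f i := by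
    have := congrFun h1 k
    rw [Pi.smul_apply, smul_eq_mul] at this
    rw [← this]
    rfl
  rw [h2]
  exact Ideal.sum_mem _ fun i _ => Ideal.mul_mem_left _ _ (Ideal.subset_span ⟨i, rfl⟩)

/-- **Wiebe's theorem**: for Koszul-regular sequences `f = c g` of the same length,
`((f) : (g)) = (f) + (det c)`. -/
theorem wiebe {n : ℕ} (f g : Fin n → R) (c : Matrix (Fin n) (Fin n) R)
    (hc : ∀ i, f i = ∑ j, c i j * g j)
    (hf : LCI.IsKoszulRegularSeq R (List.ofFn f)) (hg : LCI.IsKoszulRegularSeq R (List.ofFn g))
    (x : R) :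
    (∀ y ∈ Ideal.span (Set.range g), x * y ∈ Ideal.span (Set.range f)) ↔
      x ∈ Ideal.span (Set.range f) ⊔ Ideal.span {c.det} := by
  constructor
  · intro hx
    let lg := List.ofFn g
    let rows : List (ℕ → R) := List.ofFn fun i => emb R n (c i)
    have hlf : rows.map (dot R lg) = List.ofFn f := by
      rw [List.map_ofFn]
      congr 1
      funext i
      rw [Function.comp_apply, dot_ofFn, hc i]
      refine Finset.sum_congr rfl fun j _ => ?_
      rw [emb_apply_fin]
    have hlen : (rows.map (dot R lg)).length = n := by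
      rw [hlf, List.length_ofFn]
    obtain ⟨u, hu⟩ := prod_eq_det_smul R lg n c (-((rows.map (dot R lg)).length : ℤ))
    have hD : (Phi R lg rows).f (-((rows.map (dot R lg)).length : ℤ))
        (top R (rows.map (dot R lg)) (-((rows.map (dot R lg)).length : ℤ)) (by omega)) =
          c.det • u := by
      rw [Phi_top]
      exact hu
    have hf' : LCI.IsKoszulRegularSeq R (rows.map (dot R lg)) := by rw [hlf]; exact hf
    have h := colon_le R (rows.map (dot R lg)) lg hf' hg (Phi R lg rows) (Phi_eps R lg rows)
      c.det u hD x (by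
        intro y hy
        rw [hlf, ofList_ofFn]
        exact hx y (by rw [← ofList_ofFn]; exact hy))
    rw [hlf, ofList_ofFn] at h
    exact h
  · intro hx y hy
    obtain ⟨j, hj, d, hd, rfl⟩ := Submodule.mem_sup.1 hx
    obtain ⟨r, rfl⟩ := Ideal.mem_span_singleton'.1 hd
    have hle : Ideal.span (Set.range g) ≤
        Submodule.comap (LinearMap.lsmul R R c.det) (Ideal.span (Set.range f)) := by
      rw [Ideal.span_le]
      rintro _ ⟨k, rfl⟩
      exact det_mul_mem f g c hc k
    have h1 : c.det * y ∈ Ideal.span (Set.range f) := hle hy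
    rw [add_mul, mul_assoc]
    exact add_mem (Ideal.mul_mem_right _ _ hj) (Ideal.mul_mem_left _ _ h1)

end Groth.Agent.Lib.Helper16.Wiebe
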