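import Mathlib
import Groth.Agent.Lib.Helper16.Wiebe5
import Groth.Agent.Lib.Helper16.KzInv4

/-!
# Annihilator of the diagonal ideal via Wiebe's theorem (helper16)
-/

set_option autoImplicit false
universe u
open TensorProduct

namespace Groth.Agent.Lib.Helper16.Wiebe

theorem ann_diag {A P : Type u} [CommRing A] [CommRing P] [Algebra A P]
    {n : ℕ} (f : Fin n → P) (hf : LCI.IsKoszulRegularSeq P (List.ofFn f))
    (I : Ideal P) (hI : I = Ideal.span (Set.range f))
    [Module.Flat A (P ⧸ I)]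
    (g : Fin n → P ⊗[A] (P ⧸ I))
    (hg : LCI.IsKoszulRegularSeq (P ⊗[A] (P ⧸ I)) (List.ofFn g))
    (hgker : Ideal.span (Set.range g) = RingHom.ker (Algebra.TensorProduct.productMap
      (Ideal.Quotient.mkₐ A I) (AlgHom.id A (P ⧸ I))))
    (c : Matrix (Fin n) (Fin n) (P ⊗[A] (P ⧸ I)))
    (hc : ∀ i, f i ⊗ₜ[A] (1 : P ⧸ I) = ∑ j, c i j * g j) :
    Submodule.annihilator (RingHom.ker
        (Algebra.TensorProduct.lmul' (S := P ⧸ I) A)) =
      Ideal.span {Algebra.TensorProduct.map (Ideal.Quotient.mkₐ A I)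
        (AlgHom.id A (P ⧸ I)) (Matrix.det c)} := by
  let q := Algebra.TensorProduct.map (Ideal.Quotient.mkₐ A I) (AlgHom.id A (P ⧸ I))
  have hqsurj : Function.Surjective q :=
    Algebra.TensorProduct.map_surjective _ _ (Ideal.Quotient.mkₐ_surjective A I)
      Function.surjective_id
  let F : Fin n → P ⊗[A] (P ⧸ I) := fun i => f i ⊗ₜ[A] (1 : P ⧸ I)
  have hk : RingHom.ker (Ideal.Quotient.mkₐ A I) = I := by
    ext x
    rw [RingHom.mem_ker, Ideal.Quotient.mkₐ_eq_mk, Ideal.Quotient.eq_zero_iff_mem]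
  have hker : RingHom.ker q = Ideal.span (Set.range F) := by
    have h1 := Algebra.TensorProduct.rTensor_ker (R := A) (C := P ⧸ I) (Ideal.Quotient.mkₐ A I)
      (Ideal.Quotient.mkₐ_surjective A I)
    refine h1.trans ?_
    rw [hk]
    refine (congrArg (Ideal.map
      (Algebra.TensorProduct.includeLeft : P →ₐ[A] P ⊗[A] (P ⧸ I))) hI).trans ?_
    rw [Ideal.map_span, ← Set.range_comp]
    rfl
  have hFreg : LCI.IsKoszulRegularSeq (P ⊗[A] (P ⧸ I)) (List.ofFn F) := by
    have h := Groth.Agent.Lib.Helper16.KzInv.isKoszulRegularSeq_map_of_flat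
      (A := P) (B := P ⊗[A] (P ⧸ I)) hf
    rw [List.map_ofFn] at h
    exact h
  have hW := wiebe F g c hc hFreg hg
  have hprod : ∀ y : P ⊗[A] (P ⧸ I), Algebra.TensorProduct.productMap
      (Ideal.Quotient.mkₐ A I) (AlgHom.id A (P ⧸ I)) y =
        Algebra.TensorProduct.lmul' (S := P ⧸ I) A (q y) := fun y => by
    rw [Algebra.TensorProduct.productMap_eq_comp_map]
    rfl
  ext z
  obtain ⟨x, rfl⟩ := hqsurj z
  rw [Submodule.mem_annihilator, Ideal.mem_span_singleton']
  constructor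
  · intro hz
    have hx : ∀ y ∈ Ideal.span (Set.range g), x * y ∈ Ideal.span (Set.range F) := by
      intro y hy
      rw [hgker, RingHom.mem_ker, hprod] at hy
      rw [← hker, RingHom.mem_ker, map_mul]
      exact hz (q y) hy
    obtain ⟨j, hj, d, hd, hjd⟩ := Submodule.mem_sup.1 ((hW x).1 hx)
    obtain ⟨r, rfl⟩ := Ideal.mem_span_singleton'.1 hd
    refine ⟨q r, ?_⟩
    rw [← hker, RingHom.mem_ker] at hj
    rw [← hjd, map_add, hj, zero_add, map_mul]
  · rintro ⟨s, hs⟩ w hw
    obtain ⟨y, rfl⟩ := hqsurj w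
    obtain ⟨r, rfl⟩ := hqsurj s
    have hy : y ∈ Ideal.span (Set.range g) := by
      rw [hgker, RingHom.mem_ker, hprod]
      exact hw
    have h1 := (hW (r * c.det)).2 (Submodule.mem_sup_right
      (Ideal.mul_mem_left _ _ (Ideal.mem_span_singleton_self _))) y hy
    rw [← hker, RingHom.mem_ker] at h1
    rw [← hs, smul_eq_mul, ← map_mul, ← map_mul]
    exact h1

end Groth.Agent.Lib.Helper16.Wiebe
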