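import Mathlib
import Groth.Prelude.Def_Disc
import Groth.Agent.Lib.Helper16.Wiebe6
import Groth.Agent.Lib.Helper16.KzComp4
import Groth.Agent.Helper19.RelGCI8

/-!
# Quasi-finite n equations in n variables: flat, Noether different = (Jacobian) (helper16)
-/

set_option autoImplicit false
set_option linter.style.haveILetI false
set_option linter.unusedSectionVars false
set_option linter.unusedSimpArgs false

universe u
open TensorProduct MvPolynomial

namespace Groth.Agent.Lib.Helper16.Wiebe

open Groth.Agent.Lib.Helper16.KzComp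

section QF

variable {A : Type u} [CommRing A] {n : ℕ} (f : Fin n → MvPolynomial (Fin n) A)

/-- quasi-finite `n` equations in `n` variables are a relative global complete intersection -/
theorem isRelGCI_of_quasiFinite
    [Algebra.QuasiFinite A (MvPolynomial (Fin n) A ⧸ Ideal.span (Set.range f))] :
    Synt.IsRelGCI A n n f := by
  intro p hnt
  refine ⟨le_refl n, ?_⟩
  have : IsArtinianRing (p.asIdeal.Fiber (Synt.RelGCIRing A n n f)) := inferInstance
  have h0 : Ring.KrullDimLE 0 (p.asIdeal.Fiber (Synt.RelGCIRing A n n f)) := by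
    have h := (isArtinianRing_iff_isNoetherianRing_krullDimLE_zero
      (R := p.asIdeal.Fiber (Synt.RelGCIRing A n n f))).1 this
    exact h.2
  rw [Nat.sub_self, Nat.cast_zero]
  exact (ringKrullDimZero_iff_ringKrullDim_eq_zero).1 h0

end QF

section Main

variable {A : Type u} [CommRing A] {n : ℕ} (f : Fin n → MvPolynomial (Fin n) A)

/-- the images of the variables in the quotient -/
noncomputable def bb : Fin n → (MvPolynomial (Fin n) A ⧸ Ideal.span (Set.range f)) :=
  fun i => Ideal.Quotient.mk (Ideal.span (Set.range f)) (X i)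

/-- `A[x] ⊗_A B ≃ B[x]` -/
noncomputable def Psi : MvPolynomial (Fin n) A ⊗[A] (MvPolynomial (Fin n) A ⧸ Ideal.span (Set.range f)) ≃+*
    MvPolynomial (Fin n) (MvPolynomial (Fin n) A ⧸ Ideal.span (Set.range f)) :=
  (Algebra.TensorProduct.comm A (MvPolynomial (Fin n) A)
    (MvPolynomial (Fin n) A ⧸ Ideal.span (Set.range f))).toRingEquiv.trans
  (MvPolynomial.algebraTensorAlgEquiv A
    (MvPolynomial (Fin n) A ⧸ Ideal.span (Set.range f))).toRingEquiv

lemma Psi_tmul (p : MvPolynomial (Fin n) A)
    (b : MvPolynomial (Fin n) A ⧸ Ideal.span (Set.range f)) :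
    Psi f (p ⊗ₜ b) = b • MvPolynomial.map
      (algebraMap A (MvPolynomial (Fin n) A ⧸ Ideal.span (Set.range f))) p := by
  simp [Psi]

lemma aeval_bb (p : MvPolynomial (Fin n) A) :
    MvPolynomial.aeval (bb f) p = Ideal.Quotient.mk (Ideal.span (Set.range f)) p := by
  have h := MvPolynomial.aeval_unique (Ideal.Quotient.mkₐ A (Ideal.span (Set.range f)))
  exact (congrArg (fun φ => φ p) h).symm

lemma eval_Psi (z : MvPolynomial (Fin n) A ⊗[A] (MvPolynomial (Fin n) A ⧸ Ideal.span (Set.range f))) :
    MvPolynomial.eval (bb f) (Psi f z) =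
      Algebra.TensorProduct.productMap (Ideal.Quotient.mkₐ A (Ideal.span (Set.range f)))
        (AlgHom.id A (MvPolynomial (Fin n) A ⧸ Ideal.span (Set.range f))) z := by
  induction z using TensorProduct.induction_on with
  | zero => simp
  | tmul p b =>
    rw [Psi_tmul, Algebra.TensorProduct.productMap_apply_tmul, MvPolynomial.smul_eval,
      MvPolynomial.eval_map, ← MvPolynomial.aeval_def, aeval_bb, mul_comm]
    rfl
  | add x y hx hy => rw [map_add, map_add, map_add, hx, hy]

/-- the generators `x_k ⊗ 1 - 1 ⊗ x_k` of the diagonal ideal -/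
noncomputable def gg : Fin n →
    MvPolynomial (Fin n) A ⊗[A] (MvPolynomial (Fin n) A ⧸ Ideal.span (Set.range f)) :=
  fun k => (Psi f).symm (X k - C (bb f k))

lemma kreg_gg : LCI.IsKoszulRegularSeq
    (MvPolynomial (Fin n) A ⊗[A] (MvPolynomial (Fin n) A ⧸ Ideal.span (Set.range f)))
    (List.ofFn (gg f)) := by
  have h1 := kreg_map_ringEquiv
    (R := MvPolynomial (Fin n) (MvPolynomial (Fin n) A ⧸ Ideal.span (Set.range f)))
    (R' := MvPolynomial (Fin n) A ⊗[A] (MvPolynomial (Fin n) A ⧸ Ideal.span (Set.range f)))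
    (Psi f).symm _ (kreg_shiftList (bb f))
  rw [shiftList, List.map_ofFn] at h1
  exact h1

lemma span_gg : Ideal.span (Set.range (gg f)) =
    RingHom.ker (Algebra.TensorProduct.productMap (Ideal.Quotient.mkₐ A (Ideal.span (Set.range f)))
      (AlgHom.id A (MvPolynomial (Fin n) A ⧸ Ideal.span (Set.range f)))) := by
  have h1 : Ideal.span (Set.range (gg f)) =
      Ideal.map (Psi f).symm (Ideal.ofList (shiftList (bb f))) := by
    rw [Ideal.ofList, Ideal.map_span]
    congr 1
    ext x
    simp only [Set.mem_range, gg, shiftList, List.mem_ofFn, Set.mem_image, Set.mem_ofPred_eq]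
    constructor
    · rintro ⟨k, rfl⟩
      exact ⟨_, ⟨k, rfl⟩, rfl⟩
    · rintro ⟨_, ⟨k, rfl⟩, rfl⟩
      exact ⟨k, rfl⟩
  rw [h1, ← ker_eval_eq, Ideal.map_symm]
  ext z
  rw [Ideal.mem_comap, RingHom.mem_ker, RingHom.mem_ker]
  exact (eval_Psi f z) ▸ Iff.rfl

lemma productMap_entry (c : Fin n → Fin n →
      MvPolynomial (Fin n) A ⊗[A] (MvPolynomial (Fin n) A ⧸ Ideal.span (Set.range f)))
    (hc : ∀ i, ∑ k, c i k * gg f k =
      f i ⊗ₜ[A] (1 : MvPolynomial (Fin n) A ⧸ Ideal.span (Set.range f))) (i j : Fin n) :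
    Algebra.TensorProduct.productMap (Ideal.Quotient.mkₐ A (Ideal.span (Set.range f)))
        (AlgHom.id A (MvPolynomial (Fin n) A ⧸ Ideal.span (Set.range f))) (c i j) =
      Ideal.Quotient.mk (Ideal.span (Set.range f)) (pderiv j (f i)) := by
  have h1 : MvPolynomial.map
      (algebraMap A (MvPolynomial (Fin n) A ⧸ Ideal.span (Set.range f))) (f i) =
      ∑ k, Psi f (c i k) * (X k - C (bb f k)) := by
    have h := congrArg (Psi f) (hc i)
    rw [map_sum, Psi_tmul, one_smul] at h
    rw [← h]
    refine Finset.sum_congr rfl fun k _ => ?_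
    rw [map_mul, gg, RingEquiv.apply_symm_apply]
  have h2 := congrArg (fun q => MvPolynomial.eval (bb f) (pderiv j q)) h1
  beta_reduce at h2
  rw [MvPolynomial.pderiv_map, MvPolynomial.eval_map, ← MvPolynomial.aeval_def, aeval_bb,
    map_sum, map_sum] at h2
  rw [h2, ← eval_Psi]
  rw [Finset.sum_eq_single j]
  · have hD : pderiv j (X j - C (bb f j) : MvPolynomial (Fin n)
        (MvPolynomial (Fin n) A ⧸ Ideal.span (Set.range f))) = 1 := by
      simp
    rw [Derivation.leibniz, hD, smul_eq_mul, smul_eq_mul, mul_one, map_add, map_mul, map_sub,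
      MvPolynomial.eval_X, MvPolynomial.eval_C, sub_self, zero_mul, add_zero]
  · intro k _ hk
    have hD : pderiv j (X k - C (bb f k) : MvPolynomial (Fin n)
        (MvPolynomial (Fin n) A ⧸ Ideal.span (Set.range f))) = 0 := by
      simp [Pi.single_eq_of_ne hk]
    rw [Derivation.leibniz, hD, smul_eq_mul, smul_eq_mul, mul_zero, map_add, map_zero, map_mul,
      map_sub, MvPolynomial.eval_X, MvPolynomial.eval_C, sub_self, zero_mul, add_zero]
  · intro hj
    exact absurd (Finset.mem_univ j) hj

theorem flat_and_noetherDifferent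
    [Algebra.QuasiFinite A (MvPolynomial (Fin n) A ⧸ Ideal.span (Set.range f))] :
    Module.Flat A (MvPolynomial (Fin n) A ⧸ Ideal.span (Set.range f)) ∧
      Disc.noetherDifferent A (MvPolynomial (Fin n) A ⧸ Ideal.span (Set.range f)) =
        Ideal.span {Ideal.Quotient.mk (Ideal.span (Set.range f))
          (Matrix.det (Matrix.of fun i j => MvPolynomial.pderiv j (f i)))} := by
  have hgci := isRelGCI_of_quasiFinite f
  have hflat : Module.Flat A (MvPolynomial (Fin n) A ⧸ Ideal.span (Set.range f)) :=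
    Groth.Agent.Helper19.RelGCI.flat_of_isRelGCI hgci
  have hkreg := Groth.Agent.Helper19.RelGCI.kreg_of_isRelGCI hgci
  refine ⟨hflat, ?_⟩
  have hmem : ∀ i, f i ⊗ₜ[A] (1 : MvPolynomial (Fin n) A ⧸ Ideal.span (Set.range f)) ∈
      Ideal.span (Set.range (gg f)) := by
    intro i
    rw [span_gg, RingHom.mem_ker, Algebra.TensorProduct.productMap_apply_tmul, map_one, mul_one,
      Ideal.Quotient.mkₐ_eq_mk, Ideal.Quotient.eq_zero_iff_mem]
    exact Ideal.subset_span ⟨i, rfl⟩
  choose c hc using fun i => (Ideal.mem_span_range_iff_exists_fun.1 (hmem i))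
  have hann := ann_diag f hkreg (Ideal.span (Set.range f)) rfl (gg f) (kreg_gg f) (span_gg f)
    (Matrix.of c) (fun i => (hc i).symm)
  unfold Disc.noetherDifferent
  rw [hann, Ideal.map_span, Set.image_singleton]
  congr 2
  have hcomp : ∀ z, (Algebra.TensorProduct.lmul' A
      (S := MvPolynomial (Fin n) A ⧸ Ideal.span (Set.range f)))
      ((Algebra.TensorProduct.map (Ideal.Quotient.mkₐ A (Ideal.span (Set.range f)))
        (AlgHom.id A (MvPolynomial (Fin n) A ⧸ Ideal.span (Set.range f)))) z) =
      Algebra.TensorProduct.productMap (Ideal.Quotient.mkₐ A (Ideal.span (Set.range f)))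
        (AlgHom.id A (MvPolynomial (Fin n) A ⧸ Ideal.span (Set.range f))) z := by
    intro z
    rw [Algebra.TensorProduct.productMap_eq_comp_map]
    rfl
  refine (hcomp _).trans ?_
  have hd1 := AlgHom.map_det (Algebra.TensorProduct.productMap
    (Ideal.Quotient.mkₐ A (Ideal.span (Set.range f)))
    (AlgHom.id A (MvPolynomial (Fin n) A ⧸ Ideal.span (Set.range f)))) (Matrix.of c)
  have hd2 := RingHom.map_det (Ideal.Quotient.mk (Ideal.span (Set.range f)))
    (Matrix.of fun i j => (pderiv j) (f i))
  rw [hd1, hd2]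
  congr 1
  ext i j
  exact productMap_entry f c hc i j

end Main

end Groth.Agent.Lib.Helper16.Wiebe
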