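import Mathlib
import Groth.Prelude.Def_Disc
import Groth.Agent.Lib.Helper16.Wiebe7
import Groth.Agent.Lib.Helper9.CIFrob
import Groth.Agent.Lib.Helper9.FrobGor8
import Groth.Agent.Lib.Helper2.Gor.GK1
import Groth.Agent.Lib.Helper26.NoetherDiff

/-!
# Tate's theorem: omega ≅ B with Jacobian ↦ trace for finite free n-in-n complete intersections (helper16)
-/

set_option autoImplicit false
set_option linter.style.haveILetI false
set_option linter.unusedSectionVars false
set_option linter.unusedSimpArgs false

universe u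
open TensorProduct MvPolynomial

namespace Groth.Agent.Lib.Helper16.Wiebe

open Groth.Agent.Lib.Helper16.KzComp Groth.Agent.Lib.Helper7.ND

/-- Gorenstein rings are invariant under ring isomorphisms -/
theorem gorRing_of_ringEquiv {B C : Type u} [CommRing B] [CommRing C] (e : B ≃+* C)
    (hB : LocCoh.IsGorensteinRing B) : LocCoh.IsGorensteinRing C :=
  { isNoetherianRing_of_ringEquiv B e with
    isGorensteinLocalRing_localization := fun q hq => by
      haveI : (q.comap (e : B →+* C)).IsPrime := Ideal.comap_isPrime _ _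
      exact Groth.Agent.Lib.Helper2.GK.gor_localization_of_ringEquiv e q _ rfl
        (hB.isGorensteinLocalRing_localization _) }

section Main

variable {A : Type u} [CommRing A] {n : ℕ} (f : Fin n → MvPolynomial (Fin n) A)

/-- the annihilator of the diagonal ideal is generated by an element whose image under
multiplication is the Jacobian determinant -/
theorem exists_ann_generator
    [Algebra.QuasiFinite A (MvPolynomial (Fin n) A ⧸ Ideal.span (Set.range f))] :
    ∃ Δ : (MvPolynomial (Fin n) A ⧸ Ideal.span (Set.range f)) ⊗[A]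
        (MvPolynomial (Fin n) A ⧸ Ideal.span (Set.range f)),
      Submodule.annihilator (RingHom.ker (Algebra.TensorProduct.lmul'
        (S := MvPolynomial (Fin n) A ⧸ Ideal.span (Set.range f)) A)) = Ideal.span {Δ} ∧
      Algebra.TensorProduct.lmul' (S := MvPolynomial (Fin n) A ⧸ Ideal.span (Set.range f)) A Δ =
        Ideal.Quotient.mk (Ideal.span (Set.range f))
          (Matrix.det (Matrix.of fun i j => MvPolynomial.pderiv j (f i))) := by
  have hgci := isRelGCI_of_quasiFinite f
  have hflat : Module.Flat A (MvPolynomial (Fin n) A ⧸ Ideal.span (Set.range f)) :=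
    Groth.Agent.Helper19.RelGCI.flat_of_isRelGCI hgci
  have hkreg := Groth.Agent.Helper19.RelGCI.kreg_of_isRelGCI hgci
  have hmem : ∀ i, f i ⊗ₜ[A] (1 : MvPolynomial (Fin n) A ⧸ Ideal.span (Set.range f)) ∈
      Ideal.span (Set.range (gg f)) := by
    intro i
    rw [span_gg, RingHom.mem_ker, Algebra.TensorProduct.productMap_apply_tmul, map_one, mul_one,
      Ideal.Quotient.mkₐ_eq_mk, Ideal.Quotient.eq_zero_iff_mem]
    exact Ideal.subset_span ⟨i, rfl⟩
  choose c hc using fun i => (Ideal.mem_span_range_iff_exists_fun.1 (hmem i))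
  have hann := ann_diag f hkreg (Ideal.span (Set.range f)) rfl (gg f) (kreg_gg f) (span_gg f)
    (Matrix.of c) (fun i => (hc i).symm)
  refine ⟨_, hann, ?_⟩
  have hcomp : ∀ z, (Algebra.TensorProduct.lmul' A
      (S := MvPolynomial (Fin n) A ⧸ Ideal.span (Set.range f)))
      ((Algebra.TensorProduct.map (Ideal.Quotient.mkₐ A (Ideal.span (Set.range f)))
        (AlgHom.id A (MvPolynomial (Fin n) A ⧸ Ideal.span (Set.range f)))) z) =
      Algebra.TensorProduct.productMap (Ideal.Quotient.mkₐ A (Ideal.span (Set.range f)))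
        (AlgHom.id A (MvPolynomial (Fin n) A ⧸ Ideal.span (Set.range f))) z := by
    intro z
    rw [Algebra.TensorProduct.productMap_eq_comp_map]
    rfl
  refine (hcomp _).trans ?_
  have hd1 := AlgHom.map_det (Algebra.TensorProduct.productMap
    (Ideal.Quotient.mkₐ A (Ideal.span (Set.range f)))
    (AlgHom.id A (MvPolynomial (Fin n) A ⧸ Ideal.span (Set.range f)))) (Matrix.of c)
  have hd2 := RingHom.map_det (Ideal.Quotient.mk (Ideal.span (Set.range f)))
    (Matrix.of fun i j => (pderiv j) (f i))
  rw [hd1, hd2]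
  congr 1
  ext i j
  exact productMap_entry f c hc i j

/-- the fibres of a finite `n`-in-`n` complete intersection are Gorenstein -/
theorem gorRing_fiber [Module.Finite A (MvPolynomial (Fin n) A ⧸ Ideal.span (Set.range f))]
    (p : Ideal A) [p.IsPrime] :
    LocCoh.IsGorensteinRing (p.Fiber (MvPolynomial (Fin n) A ⧸ Ideal.span (Set.range f))) := by
  by_cases hnt : Nontrivial (p.Fiber (MvPolynomial (Fin n) A ⧸ Ideal.span (Set.range f)))
  · have hgci := isRelGCI_of_quasiFinite f
    have hdim := (hgci ⟨p, inferInstance⟩ hnt).2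
    rw [Nat.sub_self, Nat.cast_zero] at hdim
    let e := Groth.Agent.Helper19.RelGCI.fibEquiv A p.ResidueField f
    have h0 : ringKrullDim (MvPolynomial (Fin n) p.ResidueField ⧸
        Ideal.span (Set.range (Groth.Agent.Helper19.RelGCI.mapPoly A p.ResidueField f))) = 0 := by
      rw [← ringKrullDim_eq_of_ringEquiv
        (R := p.Fiber (MvPolynomial (Fin n) A ⧸ Ideal.span (Set.range f))) e.toRingEquiv]
      exact hdim
    exact gorRing_of_ringEquiv e.symm.toRingEquiv
      (Groth.Agent.Lib.Helper9.CIFrob.gorRing_ci p.ResidueField n _ h0)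
  · rw [not_nontrivial_iff_subsingleton] at hnt
    have hnoe : IsNoetherianRing
        (p.Fiber (MvPolynomial (Fin n) A ⧸ Ideal.span (Set.range f))) := inferInstance
    exact
      { hnoe with
        isGorensteinLocalRing_localization := fun q hq =>
          absurd (Subsingleton.elim _ _ : q = ⊤) hq.ne_top }

omit f in
lemma theta_mul_of_mem {A B : Type u} [CommRing A] [CommRing B] [Algebra A B]
    (Δ : B ⊗[A] B)
    (hΔ : ∀ (b : B) (l : Module.Dual A B), theta Δ (l ∘ₗ LinearMap.mulLeft A b) = b * theta Δ l)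
    (z : B ⊗[A] B) (l : Module.Dual A B) :
    theta (z * Δ) l = Algebra.TensorProduct.lmul' (S := B) A z * theta Δ l := by
  induction z using TensorProduct.induction_on with
  | zero => simp
  | tmul x y =>
    have h1 : (x ⊗ₜ[A] y) * Δ = (x ⊗ₜ[A] (1 : B)) * (((1 : B) ⊗ₜ[A] y) * Δ) := by
      rw [← mul_assoc, Algebra.TensorProduct.tmul_mul_tmul, mul_one, one_mul]
    rw [h1, theta_tmul_one_mul, theta_one_tmul_mul, hΔ, Algebra.TensorProduct.lmul'_apply_tmul]
    ring
  | add x y hx hy =>
    rw [add_mul, map_add, LinearMap.add_apply, hx, hy, map_add, add_mul]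

theorem exists_equiv_omega [IsNoetherianRing A]
    [Module.Finite A (MvPolynomial (Fin n) A ⧸ Ideal.span (Set.range f))]
    [Module.Free A (MvPolynomial (Fin n) A ⧸ Ideal.span (Set.range f))] :
    ∃ e : (MvPolynomial (Fin n) A ⧸ Ideal.span (Set.range f)) ≃ₗ[MvPolynomial (Fin n) A ⧸
        Ideal.span (Set.range f)] Disc.Omega A (MvPolynomial (Fin n) A ⧸ Ideal.span (Set.range f)),
      e (Ideal.Quotient.mk (Ideal.span (Set.range f))
        (Matrix.det (Matrix.of fun i j : Fin n => MvPolynomial.pderiv j (f i)))) =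
        Disc.Omega.trace A (MvPolynomial (Fin n) A ⧸ Ideal.span (Set.range f)) := by
  classical
  obtain ⟨Δ, hann, hΔ⟩ := exists_ann_generator f
  have hΔmem : Δ ∈ Submodule.annihilator (RingHom.ker (Algebra.TensorProduct.lmul'
      (S := MvPolynomial (Fin n) A ⧸ Ideal.span (Set.range f)) A)) := by
    rw [hann]
    exact Ideal.mem_span_singleton_self Δ
  have hΔ' := (mem_annihilator_ker_iff Δ).mp hΔmem
  have hinv : Module.Invertible (MvPolynomial (Fin n) A ⧸ Ideal.span (Set.range f))
      (Disc.Omega A (MvPolynomial (Fin n) A ⧸ Ideal.span (Set.range f))) :=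
    Groth.Agent.Lib.Helper9.FrobGor.main.1 (fun p _ => gorRing_fiber f p)
  let θ : Disc.Omega A (MvPolynomial (Fin n) A ⧸ Ideal.span (Set.range f)) →ₗ[MvPolynomial (Fin n) A ⧸
      Ideal.span (Set.range f)] (MvPolynomial (Fin n) A ⧸ Ideal.span (Set.range f)) :=
    Groth.Agent.Lib.Helper26.NoetherDiff.omegaHomOf Δ hΔmem
  have hθ : ∀ l, θ l = theta Δ l.toLinearMap := fun l => rfl
  have hgen : ∀ Φ : Disc.Omega A (MvPolynomial (Fin n) A ⧸ Ideal.span (Set.range f)) →ₗ[MvPolynomial
      (Fin n) A ⧸ Ideal.span (Set.range f)] (MvPolynomial (Fin n) A ⧸ Ideal.span (Set.range f)),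
      ∀ l, Φ l ∈ LinearMap.range θ := by
    intro Φ l
    obtain ⟨ξ, ⟨hξ, hξ'⟩, -⟩ := exists_unique_of_omegaHom Φ
    rw [hann, Ideal.mem_span_singleton'] at hξ
    obtain ⟨z, rfl⟩ := hξ
    rw [hξ' l, theta_mul_of_mem Δ hΔ' z, ← hθ, ← smul_eq_mul, ← map_smul]
    exact ⟨_, rfl⟩
  have hsurj : Function.Surjective θ := by
    have key : ∀ t : Module.Dual (MvPolynomial (Fin n) A ⧸ Ideal.span (Set.range f))
        (Disc.Omega A (MvPolynomial (Fin n) A ⧸ Ideal.span (Set.range f))) ⊗[MvPolynomial (Fin n) A ⧸
          Ideal.span (Set.range f)] Disc.Omega A (MvPolynomial (Fin n) A ⧸ Ideal.span (Set.range f)),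
        contractLeft _ _ t ∈ LinearMap.range θ := by
      intro t
      induction t using TensorProduct.induction_on with
      | zero => rw [map_zero]; exact zero_mem _
      | tmul Φ l => rw [contractLeft_apply]; exact hgen Φ l
      | add x y hx hy => rw [map_add]; exact add_mem hx hy
    obtain ⟨t, ht⟩ := (Module.Invertible.bijective (R := MvPolynomial (Fin n) A ⧸
      Ideal.span (Set.range f)) (M := Disc.Omega A (MvPolynomial (Fin n) A ⧸
      Ideal.span (Set.range f)))).2 1
    have h1 := key t
    rw [ht] at h1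
    obtain ⟨m, hm⟩ := h1
    intro b
    exact ⟨b • m, by rw [map_smul, hm, smul_eq_mul, mul_one]⟩
  have hbij : Function.Bijective θ := Module.Invertible.bijective_of_surjective hsurj
  refine ⟨(LinearEquiv.ofBijective θ hbij).symm, ?_⟩
  rw [LinearEquiv.symm_apply_eq, LinearEquiv.ofBijective_apply, hθ, ← hΔ]
  exact (theta_trace (Module.Free.chooseBasis A _) Δ hΔ').symm

end Main

end Groth.Agent.Lib.Helper16.Wiebe
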