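import Mathlib
import Groth.Prelude.Def_Disc
import Groth.Prelude.Def_Fitting
import Groth.Prelude.Def_RegImm
import Groth.Agent.Lib.Helper16.Wiebe8
import Groth.Agent.Lib.Helper16.RegularGorenstein
import Groth.Agent.Lib.Helper16.GorQuot
import Groth.Agent.Lib.Helper23.SyntF2
import Groth.Agent.Lib.Helper17.DiscOpenImm
import Groth.Agent.Lib.Helper7.NoetherDifferentTrace
import Groth.Agent.Helper19.FittLib4
import Groth.Agent.Helper19.RelGCI18

/-!
# Different = Kähler different for finite free syntomic algebras (helper16)
-/

set_option autoImplicit false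
set_option linter.style.haveILetI false
set_option linter.unusedSectionVars false
set_option linter.unusedSimpArgs false

universe u
open TensorProduct MvPolynomial

namespace Groth.Agent.Lib.Helper16.Wiebe

/-- a complete intersection over a field is a Gorenstein local ring -/
theorem gor_of_isCIOver (k : Type u) [Field k] (S : Type u) [CommRing S] [IsLocalRing S]
    [Algebra k S] (h : Synt.IsCIOver k S) : LocCoh.IsGorensteinLocalRing S := by
  obtain ⟨R, _, _, _, -, rs, hrs, hreg, ⟨e⟩⟩ := h
  exact Groth.Agent.Lib.Helper2.GK.gor_of_ringEquiv e.symm.toRingEquiv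
    (Groth.Agent.Lib.Helper16.GorQuot.gor_quot_ofList
      (Groth.Agent.Lib.Helper16.RegGor.isGorensteinLocalRing_of_isRegularLocalRing R) rs hrs hreg.1)

/-- a local complete intersection algebra over a field is a Gorenstein ring -/
theorem gorRing_of_isLCIOver {k : Type u} [Field k] {S : Type u} [CommRing S] [Algebra k S]
    (h : Synt.IsLCIOver k S) : LocCoh.IsGorensteinRing S := by
  haveI := h.1
  have hnoe : IsNoetherianRing S := Algebra.FiniteType.isNoetherianRing k S
  exact
    { hnoe with
      isGorensteinLocalRing_localization := fun p hp =>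
        gor_of_isCIOver k _ (Groth.Agent.Lib.Helper23.SyntF.isCIOver_atPrime_of_isLCIOver h p) }

/-- for a finite free syntomic algebra the dualizing module is invertible -/
theorem invertible_omega_of_isSyntomic {A B : Type u} [CommRing A] [CommRing B] [Algebra A B]
    [IsNoetherianRing A] [Module.Finite A B] [Module.Free A B] (h : Synt.IsSyntomic A B) :
    Module.Invertible B (Disc.Omega A B) :=
  Groth.Agent.Lib.Helper9.FrobGor.main.1 (fun p hp => gorRing_of_isLCIOver (h.2.2 ⟨p, hp⟩))

/-- different = Noether different for a finite free syntomic algebra -/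
theorem differentSet_eq_noetherDifferent {A B : Type u} [CommRing A] [CommRing B] [Algebra A B]
    [IsNoetherianRing A] [Module.Finite A B] [Module.Free A B] (h : Synt.IsSyntomic A B) :
    Disc.differentSet A B = (Disc.noetherDifferent A B : Set B) := by
  haveI := invertible_omega_of_isSyntomic h
  exact Set.Subset.antisymm Groth.Agent.Lib.Helper7.ND.differentSet_subset_noetherDifferent
    Groth.Agent.Lib.Helper7.ND.noetherDifferent_subset_differentSet

/-- two ideals that agree on a principal-open cover are equal -/
theorem ideal_eq_of_away {B : Type u} [CommRing B] (N K : Ideal B)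
    (h : ∀ q : Ideal B, q.IsPrime → ∃ t : B, t ∉ q ∧ ∃ (S : Type u) (_ : CommRing S)
      (_ : Algebra B S) (_ : IsLocalization.Away t S),
      N.map (algebraMap B S) = K.map (algebraMap B S)) : N = K := by
  have key : ∀ N K : Ideal B, (∀ q : Ideal B, q.IsPrime → ∃ t : B, t ∉ q ∧ ∃ (S : Type u)
      (_ : CommRing S) (_ : Algebra B S) (_ : IsLocalization.Away t S),
      N.map (algebraMap B S) = K.map (algebraMap B S)) → N ≤ K := by
    intro N K h x hx
    by_contra hxK
    let J : Ideal B := Submodule.colon K ({x} : Set B)
    have hJ : J ≠ ⊤ := by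
      intro hJ
      have h1 : (1 : B) ∈ J := by rw [hJ]; trivial
      rw [Submodule.mem_colon_singleton] at h1
      exact hxK (by simpa using h1)
    obtain ⟨q, hq, hJq⟩ := Ideal.exists_le_maximal J hJ
    obtain ⟨t, htq, S, _, _, _, hNK⟩ := h q hq.isPrime
    have h2 : algebraMap B S x ∈ K.map (algebraMap B S) := by
      rw [← hNK]; exact Ideal.mem_map_of_mem _ hx
    rw [IsLocalization.algebraMap_mem_map_algebraMap_iff (Submonoid.powers t)] at h2
    obtain ⟨m, ⟨k, rfl⟩, hm⟩ := h2
    have h3 : t ^ k ∈ J := by
      rw [Submodule.mem_colon_singleton]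
      exact hm
    exact htq (hq.isPrime.mem_of_pow_mem k (hJq h3))
  exact le_antisymm (key N K h) (key K N fun q hq => by
    obtain ⟨t, htq, S, i1, i2, i3, hNK⟩ := h q hq
    exact ⟨t, htq, S, i1, i2, i3, hNK.symm⟩)

section loc

variable {A B S : Type u} [CommRing A] [CommRing B] [CommRing S] [Algebra A B] [Algebra A S]
  [Algebra B S] [IsScalarTower A B S] (M : Submonoid B) [IsLocalization M S]

include M in
/-- the Noether different localizes -/
theorem noetherDifferent_localization [Algebra.FiniteType A B] :
    Disc.noetherDifferent A S = (Disc.noetherDifferent A B).map (algebraMap B S) := by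
  haveI : Module.Flat B S := IsLocalization.flat S M
  exact Groth.Agent.Lib.Helper17.DiscTransfer.noetherDifferent_of_flat_epi
    (fun R _ g h hgh => IsLocalization.ringHom_ext M hgh)

include M in
/-- the Kähler different localizes -/
theorem fitt_kaehler_localization [Algebra.FiniteType A B] :
    Fitt.ideal S (KaehlerDifferential A S) 0 =
      (Fitt.ideal B (KaehlerDifferential A B) 0).map (algebraMap B S) := by
  haveI : Algebra.FormallyEtale B S := Algebra.FormallyEtale.of_isLocalization M
  rw [← Groth.Agent.Helper19.FittLib.ideal_baseChange S (R := B) (M := KaehlerDifferential A B) 0]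
  exact (Groth.Agent.Helper19.FittLib.ideal_congr
    (KaehlerDifferential.tensorKaehlerEquivOfFormallyEtale A B S) 0).symm

end loc

/-- on a chart that is an `m`-in-`m` quasi-finite complete intersection, the two differents agree -/
theorem chart_eq {A B : Type u} [CommRing A] [CommRing B] [Algebra A B] [Algebra.FiniteType A B]
    [Algebra.QuasiFinite A B] (t : B) {m : ℕ} (F : Fin m → MvPolynomial (Fin m) A)
    (e : Localization.Away t ≃ₐ[A] (MvPolynomial (Fin m) A ⧸ Ideal.span (Set.range F)))
    (hFitt : Fitt.ideal (MvPolynomial (Fin m) A ⧸ Ideal.span (Set.range F))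
        (KaehlerDifferential A (MvPolynomial (Fin m) A ⧸ Ideal.span (Set.range F))) 0 =
      Ideal.span {Ideal.Quotient.mk (Ideal.span (Set.range F))
        (Matrix.det (Matrix.of fun i j : Fin m => MvPolynomial.pderiv j (F i)))}) :
    ∃ (S : Type u) (_ : CommRing S) (_ : Algebra B S) (_ : IsLocalization.Away t S),
      (Disc.noetherDifferent A B).map (algebraMap B S) =
        (Fitt.ideal B (KaehlerDifferential A B) 0).map (algebraMap B S) := by
  letI algBR : Algebra B (MvPolynomial (Fin m) A ⧸ Ideal.span (Set.range F)) :=
    (e.toRingEquiv.toRingHom.comp (algebraMap B (Localization.Away t))).toAlgebra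
  haveI : IsScalarTower A B (MvPolynomial (Fin m) A ⧸ Ideal.span (Set.range F)) :=
    IsScalarTower.of_algebraMap_eq (fun a => by
      change _ = e (algebraMap B (Localization.Away t) (algebraMap A B a))
      rw [← IsScalarTower.algebraMap_apply A B (Localization.Away t), e.commutes])
  let e' : Localization.Away t ≃ₐ[B] (MvPolynomial (Fin m) A ⧸ Ideal.span (Set.range F)) :=
    { e.toRingEquiv with commutes' := fun b => rfl }
  haveI hloc : IsLocalization.Away t (MvPolynomial (Fin m) A ⧸ Ideal.span (Set.range F)) :=
    IsLocalization.isLocalization_of_algEquiv (Submonoid.powers t) e'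
  haveI : Algebra.QuasiFinite A (MvPolynomial (Fin m) A ⧸ Ideal.span (Set.range F)) :=
    (Algebra.QuasiFinite.iff_of_algEquiv e).mp inferInstance
  refine ⟨_, inferInstance, algBR, hloc, ?_⟩
  rw [← noetherDifferent_localization (A := A) (Submonoid.powers t),
    ← fitt_kaehler_localization (A := A) (Submonoid.powers t), (flat_and_noetherDifferent F).2, hFitt]

/-- the Noether different of a finite syntomic algebra is the Kähler different -/
theorem noetherDifferent_eq_fitt {A B : Type u} [CommRing A] [CommRing B] [Algebra A B]
    [Module.Finite A B] (h : Synt.IsSyntomic A B)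
    (hFitt : ∀ (n : ℕ) (f : Fin n → MvPolynomial (Fin n) A),
      Fitt.ideal (MvPolynomial (Fin n) A ⧸ Ideal.span (Set.range f))
        (KaehlerDifferential A (MvPolynomial (Fin n) A ⧸ Ideal.span (Set.range f))) 0 =
      Ideal.span {Ideal.Quotient.mk (Ideal.span (Set.range f))
        (Matrix.det (Matrix.of fun i j : Fin n => MvPolynomial.pderiv j (f i)))}) :
    Disc.noetherDifferent A B = Fitt.ideal B (KaehlerDifferential A B) 0 := by
  haveI : Algebra.FinitePresentation A B := h.2.1
  haveI : Algebra.FiniteType A B := inferInstance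
  refine ideal_eq_of_away _ _ fun q hq => ?_
  obtain ⟨t, htq, m, c, F, hG, ⟨e⟩⟩ :=
    Groth.Agent.Helper19.RelGCI.exists_relGCI_away_of_isSyntomic A B h q
  refine ⟨t, htq, ?_⟩
  have hnt : Nontrivial ((q.under A).Fiber (Localization.Away t)) :=
    Groth.Agent.Helper19.RelGCI.nontrivial_fiber_away_of_notMem' (A := A) t q htq
  have hnt' : Nontrivial ((q.under A).Fiber (Synt.RelGCIRing A m c F)) :=
    Groth.Agent.Helper19.RelGCI.nontrivial_fiber_congr A e.symm (q.under A) hnt
  obtain ⟨hcm, hdim⟩ := hG ⟨q.under A, inferInstance⟩ hnt'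
  haveI : Algebra.QuasiFinite A (Synt.RelGCIRing A m c F) :=
    (Algebra.QuasiFinite.iff_of_algEquiv e).mp inferInstance
  have hdim0 := Groth.Agent.Helper19.RelGCI.ringKrullDim_fiber_le_zero_of_quasiFinite
    (Synt.RelGCIRing A m c F) (q.under A)
  have hmc : c = m := by
    change ringKrullDim ((q.under A).Fiber (Synt.RelGCIRing A m c F)) = _ at hdim
    rw [hdim] at hdim0
    have h0 : ((m - c : ℕ) : WithBot ℕ∞) ≤ ((0 : ℕ) : WithBot ℕ∞) := hdim0
    have h1 : (m - c : ℕ) ≤ 0 := by exact_mod_cast h0
    omega
  subst hmc
  exact chart_eq t F e (hFitt c F)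

/-- the different of a finite free syntomic algebra is the Kähler different -/
theorem differentSet_eq_fitt {A B : Type u} [CommRing A] [CommRing B] [Algebra A B]
    [IsNoetherianRing A] [Module.Finite A B] [Module.Free A B] (h : Synt.IsSyntomic A B)
    (hFitt : ∀ (n : ℕ) (f : Fin n → MvPolynomial (Fin n) A),
      Fitt.ideal (MvPolynomial (Fin n) A ⧸ Ideal.span (Set.range f))
        (KaehlerDifferential A (MvPolynomial (Fin n) A ⧸ Ideal.span (Set.range f))) 0 =
      Ideal.span {Ideal.Quotient.mk (Ideal.span (Set.range f))
        (Matrix.det (Matrix.of fun i j : Fin n => MvPolynomial.pderiv j (f i)))}) :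
    Disc.differentSet A B = (Fitt.ideal B (KaehlerDifferential A B) 0 : Set B) := by
  rw [differentSet_eq_noetherDifferent h, noetherDifferent_eq_fitt h hFitt]

end Groth.Agent.Lib.Helper16.Wiebe
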