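import Mathlib
import Groth.Prelude.Def_Disc
import Groth.Prelude.Def_QFDual
import Groth.Prelude.Def_EGA4b
import Groth.Agent.Lib.Helper16.QFD3
import Groth.Agent.Lib.Helper16.QFD4a
import Groth.Agent.Lib.Helper4.HznNoethC
import Groth.Agent.Lib.Helper9.AssQF
import Groth.Agent.Lib.Helper16.Wiebe9

/-!
# QFDual: flatness and invertibility of the relative dualizing module
-/

set_option autoImplicit false
set_option linter.style.haveILetI false
set_option linter.unusedSectionVars false
set_option linter.unusedSimpArgs false

universe u
open TensorProduct IsLocalRing AlgebraicGeometry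

namespace Groth.Agent.Lib.Helper16.QFD

section assembly

variable {A B' B : Type u} [CommRing A] [CommRing B'] [CommRing B] [Algebra A B'] [Algebra B' B]
  [Algebra A B] [IsScalarTower A B' B] [IsNoetherianRing A] [Module.Finite A B']

/-- the local statement at a prime `q` of `B` -/
theorem local_at [Module.Flat A B] [Module.Flat B' B] (q : Ideal B) [q.IsPrime] :
    Module.Flat A (Localization.AtPrime q ⊗[B] (B ⊗[B'] Disc.Omega A B')) ∧
    (LocCoh.IsGorensteinLocalRing (EGA4.FibLocRing A B' (q.comap (algebraMap B' B))) →
      Nonempty ((Localization.AtPrime q ⊗[B] (B ⊗[B'] Disc.Omega A B')) ≃ₗ[Localization.AtPrime q]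
        Localization.AtPrime q)) := by
  haveI : q.LiesOver (q.comap (algebraMap B' B)) := ⟨rfl⟩
  letI : Algebra (Localization.AtPrime (q.comap (algebraMap B' B))) (Localization.AtPrime q) :=
    Localization.AtPrime.algebraOfLiesOver _ q
  haveI : IsLocalHom (algebraMap (Localization.AtPrime (q.comap (algebraMap B' B)))
      (Localization.AtPrime q)) :=
    Localization.isLocalHom_localRingHom _ q (algebraMap B' B) Ideal.LiesOver.over
  haveI : Module.FaithfullyFlat (Localization.AtPrime (q.comap (algebraMap B' B)))
      (Localization.AtPrime q) := Module.FaithfullyFlat.of_flat_of_isLocalHom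
  haveI : Module.Flat A (Localization.AtPrime q) := Module.Flat.trans A B _
  haveI : Module.Flat A (Localization.AtPrime (q.comap (algebraMap B' B))) := by
    refine flat_descent (S := Localization.AtPrime (q.comap (algebraMap B' B)))
      (L := Localization.AtPrime q) ?_
    exact Module.Flat.of_linearEquiv
      ((AlgebraTensorModule.rid (Localization.AtPrime (q.comap (algebraMap B' B)))
        (Localization.AtPrime q) (Localization.AtPrime q)).restrictScalars A)
  obtain ⟨hfl, hfree⟩ := main_local' (A := A) (q.comap (algebraMap B' B))
  let e : Localization.AtPrime q ⊗[B] (B ⊗[B'] Disc.Omega A B') ≃ₗ[Localization.AtPrime q]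
      Localization.AtPrime q ⊗[Localization.AtPrime (q.comap (algebraMap B' B))]
        (Localization.AtPrime (q.comap (algebraMap B' B)) ⊗[B'] Disc.Omega A B') :=
    (AlgebraTensorModule.cancelBaseChange B' B (Localization.AtPrime q) (Localization.AtPrime q)
      (Disc.Omega A B')).trans
    (AlgebraTensorModule.cancelBaseChange B' (Localization.AtPrime (q.comap (algebraMap B' B)))
      (Localization.AtPrime q) (Localization.AtPrime q) (Disc.Omega A B')).symm
  constructor
  · haveI := hfl
    have h1 : Module.Flat A (Localization.AtPrime q ⊗[Localization.AtPrime (q.comap (algebraMap B' B))]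
        (Localization.AtPrime (q.comap (algebraMap B' B)) ⊗[B'] Disc.Omega A B')) := flat_tensor
    exact Module.Flat.of_linearEquiv (e.restrictScalars A)
  · intro hG
    obtain ⟨e'⟩ := hfree hG
    exact ⟨e.trans ((AlgebraTensorModule.congr (LinearEquiv.refl (Localization.AtPrime q)
      (Localization.AtPrime q)) e').trans
      (AlgebraTensorModule.rid (Localization.AtPrime (q.comap (algebraMap B' B)))
        (Localization.AtPrime q) (Localization.AtPrime q)))⟩

/-- the relative dualizing module of a flat quasi-finite algebra is flat over the base -/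
theorem flat_omega [Module.Flat A B]
    (hopen : IsOpenImmersion (Spec.map (CommRingCat.ofHom (algebraMap B' B)))) :
    Module.Flat A (B ⊗[B'] Disc.Omega A B') := by
  haveI : Module.Flat B' B := Groth.Agent.Lib.Helper9.AssQF.flat_of_isOpenImmersion B' B hopen
  exact Module.flat_of_isLocalized_maximal B (B ⊗[B'] Disc.Omega A B')
    (fun P _ => Localization.AtPrime P ⊗[B] (B ⊗[B'] Disc.Omega A B'))
    (fun P _ => TensorProduct.mk B (Localization.AtPrime P) _ 1) (fun P _ => (local_at P).1)

/-- the relative dualizing module of a quasi-finite syntomic algebra is invertible -/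
theorem invertible_omega (hs : Synt.IsSyntomic A B)
    (hopen : IsOpenImmersion (Spec.map (CommRingCat.ofHom (algebraMap B' B)))) :
    Module.Invertible B (B ⊗[B'] Disc.Omega A B') := by
  haveI : Module.Flat B' B := Groth.Agent.Lib.Helper9.AssQF.flat_of_isOpenImmersion B' B hopen
  haveI := hs.1
  haveI : Algebra.FinitePresentation A B := hs.2.1
  haveI : IsNoetherianRing B := Algebra.FiniteType.isNoetherianRing A B
  haveI : IsNoetherianRing B' := IsNoetherianRing.of_finite A B'
  haveI : Module.Finite B' (Disc.Omega A B') := finite_omega_of_noetherian A B'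
  haveI : Module.FinitePresentation B' (Disc.Omega A B') :=
    Module.finitePresentation_of_finite B' _
  haveI : Module.FinitePresentation B (B ⊗[B'] Disc.Omega A B') := inferInstance
  refine invertible_of_forall_maximal fun P _ => (local_at P).2 ?_
  have hG : LocCoh.IsGorensteinLocalRing (EGA4.FibLocRing A B P) :=
    (Groth.Agent.Lib.Helper16.GorBC.isGorensteinRing_fiber_iff A B (P.comap (algebraMap A B))).mp
      (Groth.Agent.Lib.Helper16.Wiebe.gorRing_of_isLCIOver
        (hs.2.2 ⟨P.comap (algebraMap A B), inferInstance⟩)) P rfl
  exact ((Groth.Agent.Lib.Helper16.GorBC.gor_fibLocRing_comp A B' B P).mp hG).1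

end assembly

end Groth.Agent.Lib.Helper16.QFD
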