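import Mathlib
import Groth.Prelude.Def_Disc
import Groth.Prelude.Def_QFDual

/-!
# QFDual: formal properties of the base change map of the relative dualizing module

transitivity (bcFin_trans, omegaBC_trans), change of the top ring (omegaBC_baseChange_comm,
omegaBC_bijective_of_algebra, omegaBC_bijective_of_faithfullyFlat), localization
(omegaBC_bijective_of_localization).
-/

set_option autoImplicit false
set_option linter.style.haveILetI false
set_option linter.unusedSectionVars false
set_option linter.unusedSimpArgs false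

universe u
open TensorProduct QFDual

namespace Groth.Agent.Lib.Helper16.QFD

section trans

variable {A A₁ A₂ B' B'₁ B'₂ : Type u} [CommRing A] [CommRing A₁] [CommRing A₂] [CommRing B']
  [CommRing B'₁] [CommRing B'₂]
  [Algebra A A₁] [Algebra A₁ A₂] [Algebra A A₂] [IsScalarTower A A₁ A₂]
  [Algebra A B'] [Algebra A₁ B'₁] [Algebra A₂ B'₂]
  [Algebra B' B'₁] [Algebra B'₁ B'₂] [Algebra B' B'₂] [IsScalarTower B' B'₁ B'₂]
  [Algebra A B'₁] [IsScalarTower A A₁ B'₁] [IsScalarTower A B' B'₁]
  [Algebra A₁ B'₂] [IsScalarTower A₁ A₂ B'₂] [IsScalarTower A₁ B'₁ B'₂]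
  [Algebra A B'₂] [IsScalarTower A A₂ B'₂] [IsScalarTower A B' B'₂]
  (h₁ : Algebra.IsPushout A A₁ B' B'₁) (h₂ : Algebra.IsPushout A₁ A₂ B'₁ B'₂)
  (h₁₂ : Algebra.IsPushout A A₂ B' B'₂)

/-- transitivity of the base change of linear forms -/
theorem bcFin_trans (φ : Disc.Omega A B') : bcFin h₁₂ φ = bcFin h₂ (bcFin h₁ φ) := by
  apply Disc.Omega.ext
  refine h₁₂.out.algHom_ext _ _ fun b => ?_
  change (bcFin h₁₂ φ).toLinearMap (algebraMap B' B'₂ b) =
    (bcFin h₂ (bcFin h₁ φ)).toLinearMap (algebraMap B' B'₂ b)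
  rw [bcFin_apply_algebraMap, IsScalarTower.algebraMap_apply B' B'₁ B'₂, bcFin_apply_algebraMap,
    bcFin_apply_algebraMap, ← IsScalarTower.algebraMap_apply]

variable {C : Type u} [CommRing C] [Algebra B'₂ C] [Algebra B'₁ C] [Algebra B' C]
  [IsScalarTower B' B'₁ C] [IsScalarTower B'₁ B'₂ C] [IsScalarTower B' B'₂ C]

/-- transitivity of the base change map of the relative dualizing module -/
theorem omegaBC_trans :
    omegaBC (B₁ := C) h₁₂ = (omegaBC (B₁ := C) h₂) ∘ₗ (omegaBC (B₁ := C) h₁) := by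
  apply TensorProduct.AlgebraTensorModule.ext
  intro c φ
  rw [LinearMap.comp_apply, omegaBC_tmul, omegaBC_tmul, omegaBC_tmul, bcFin_trans h₁ h₂ h₁₂]

theorem omegaBC_bijective_trans (hb₁ : Function.Bijective (omegaBC (B₁ := C) h₁))
    (hb₂ : Function.Bijective (omegaBC (B₁ := C) h₂)) :
    Function.Bijective (omegaBC (B₁ := C) h₁₂) := by
  rw [omegaBC_trans h₁ h₂ h₁₂]
  exact hb₂.comp hb₁

theorem omegaBC_bijective_of_trans (hb₁₂ : Function.Bijective (omegaBC (B₁ := C) h₁₂))
    (hb₂ : Function.Bijective (omegaBC (B₁ := C) h₂)) :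
    Function.Bijective (omegaBC (B₁ := C) h₁) := by
  rw [omegaBC_trans h₁ h₂ h₁₂] at hb₁₂
  have hcomp : ⇑(omegaBC (B₁ := C) h₂ ∘ₗ omegaBC (B₁ := C) h₁) =
      ⇑(omegaBC (B₁ := C) h₂) ∘ ⇑(omegaBC (B₁ := C) h₁) := rfl
  rw [hcomp] at hb₁₂
  exact (Function.Bijective.of_comp_iff' hb₂ _).mp hb₁₂

end trans


section changeB

variable {A A₁ B' B'₁ : Type u} [CommRing A] [CommRing A₁] [CommRing B'] [CommRing B'₁]
  [Algebra A B'] [Algebra A A₁] [Algebra B' B'₁] [Algebra A₁ B'₁] [Algebra A B'₁]
  [IsScalarTower A A₁ B'₁] [IsScalarTower A B' B'₁]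
  (h : Algebra.IsPushout A A₁ B' B'₁)

variable {B₁ C : Type u} [CommRing B₁] [CommRing C] [Algebra B'₁ B₁] [Algebra B' B₁]
  [IsScalarTower B' B'₁ B₁]
  [Algebra B₁ C] [Algebra B'₁ C] [Algebra B' C] [IsScalarTower B' B'₁ C] [IsScalarTower B'₁ B₁ C]
  [IsScalarTower B' B₁ C]

/-- the base change map for a `B₁`-algebra `C` is the base change of the one for `B₁` -/
theorem omegaBC_baseChange_comm (x : C ⊗[B₁] (B₁ ⊗[B'] Disc.Omega A B')) :
    omegaBC (B₁ := C) h (AlgebraTensorModule.cancelBaseChange B' B₁ C C (Disc.Omega A B') x) =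
      AlgebraTensorModule.cancelBaseChange B'₁ B₁ C C (Disc.Omega A₁ B'₁)
        (LinearMap.baseChange C (omegaBC (B₁ := B₁) h) x) := by
  induction x using TensorProduct.induction_on with
  | zero => simp
  | tmul c y =>
    induction y using TensorProduct.induction_on with
    | zero => simp
    | tmul b φ =>
      rw [LinearMap.baseChange_tmul, omegaBC_tmul, AlgebraTensorModule.cancelBaseChange_tmul,
        AlgebraTensorModule.cancelBaseChange_tmul, omegaBC_tmul]
    | add y₁ y₂ h₁ h₂ => rw [tmul_add, map_add, map_add, h₁, h₂, map_add, map_add]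
  | add x₁ x₂ h₁ h₂ => rw [map_add, map_add, h₁, h₂, map_add, map_add]

theorem omegaBC_eq_comp :
    ⇑(omegaBC (B₁ := C) h) =
      ⇑(AlgebraTensorModule.cancelBaseChange B'₁ B₁ C C (Disc.Omega A₁ B'₁)) ∘
        ⇑(LinearMap.baseChange C (omegaBC (B₁ := B₁) h)) ∘
          ⇑(AlgebraTensorModule.cancelBaseChange B' B₁ C C (Disc.Omega A B')).symm := by
  funext y
  obtain ⟨x, rfl⟩ := (AlgebraTensorModule.cancelBaseChange B' B₁ C C (Disc.Omega A B')).surjective y
  rw [omegaBC_baseChange_comm, Function.comp_apply, Function.comp_apply,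
    LinearEquiv.symm_apply_apply]

/-- bijectivity of the base change map passes to algebras -/
theorem omegaBC_bijective_of_algebra (hb : Function.Bijective (omegaBC (B₁ := B₁) h)) :
    Function.Bijective (omegaBC (B₁ := C) h) := by
  rw [omegaBC_eq_comp (B₁ := B₁) (C := C) h]
  refine (LinearEquiv.bijective _).comp (Function.Bijective.comp ?_ (LinearEquiv.bijective _))
  have h1 : ⇑(LinearMap.baseChange C (omegaBC (B₁ := B₁) h)) =
      ⇑(LinearEquiv.lTensor C (LinearEquiv.ofBijective (omegaBC (B₁ := B₁) h) hb)) := by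
    funext x
    rfl
  rw [h1]
  exact LinearEquiv.bijective _

/-- bijectivity of the base change map descends along faithfully flat algebras -/
theorem omegaBC_bijective_of_faithfullyFlat [Module.FaithfullyFlat B₁ C]
    (hb : Function.Bijective (omegaBC (B₁ := C) h)) :
    Function.Bijective (omegaBC (B₁ := B₁) h) := by
  rw [omegaBC_eq_comp (B₁ := B₁) (C := C) h] at hb
  have h1 : Function.Bijective ⇑(LinearMap.baseChange C (omegaBC (B₁ := B₁) h)) := by
    have h2 := (Function.Bijective.of_comp_iff' (LinearEquiv.bijective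
      (AlgebraTensorModule.cancelBaseChange B'₁ B₁ C C (Disc.Omega A₁ B'₁))) _).mp hb
    exact (Function.Bijective.of_comp_iff _ (LinearEquiv.bijective _)).mp h2
  have h3 : ⇑(LinearMap.baseChange C (omegaBC (B₁ := B₁) h)) =
      ⇑((omegaBC (B₁ := B₁) h).lTensor C) := by
    funext x
    rfl
  rw [h3] at h1
  exact (Module.FaithfullyFlat.lTensor_bijective_iff_bijective B₁ C _).mp h1

end changeB


section locB

variable {A A₁ B' B'₁ : Type u} [CommRing A] [CommRing A₁] [CommRing B'] [CommRing B'₁]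
  [Algebra A B'] [Algebra A A₁] [Algebra B' B'₁] [Algebra A₁ B'₁] [Algebra A B'₁]
  [IsScalarTower A A₁ B'₁] [IsScalarTower A B' B'₁]
  (h : Algebra.IsPushout A A₁ B' B'₁)

variable {B₁ : Type u} [CommRing B₁] [Algebra B'₁ B₁] [Algebra B' B₁]
  [IsScalarTower B' B'₁ B₁]

/-- bijectivity of the base change map can be checked at the maximal ideals of `B₁` -/
theorem omegaBC_bijective_of_localization
    (H : ∀ (P : Ideal B₁) [P.IsMaximal],
      Function.Bijective (omegaBC (B₁ := Localization.AtPrime P) h)) :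
    Function.Bijective (omegaBC (B₁ := B₁) h) := by
  refine bijective_of_isLocalized_maximal
    (fun P _ => omega A B' (Localization.AtPrime P))
    (fun P _ => AlgebraTensorModule.rTensor B' (Disc.Omega A B')
      (Algebra.linearMap B₁ (Localization.AtPrime P)))
    (fun P _ => omega A₁ B'₁ (Localization.AtPrime P))
    (fun P _ => AlgebraTensorModule.rTensor B'₁ (Disc.Omega A₁ B'₁)
      (Algebra.linearMap B₁ (Localization.AtPrime P)))
    (omegaBC (B₁ := B₁) h) ?_
  intro P _
  have key : IsLocalizedModule.map P.primeCompl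
      (AlgebraTensorModule.rTensor B' (Disc.Omega A B')
        (Algebra.linearMap B₁ (Localization.AtPrime P)))
      (AlgebraTensorModule.rTensor B'₁ (Disc.Omega A₁ B'₁)
        (Algebra.linearMap B₁ (Localization.AtPrime P)))
      (omegaBC (B₁ := B₁) h) =
      (omegaBC (B₁ := Localization.AtPrime P) h).restrictScalars B₁ := by
    apply IsLocalizedModule.linearMap_ext P.primeCompl
      (AlgebraTensorModule.rTensor B' (Disc.Omega A B')
        (Algebra.linearMap B₁ (Localization.AtPrime P)))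
      (AlgebraTensorModule.rTensor B'₁ (Disc.Omega A₁ B'₁)
        (Algebra.linearMap B₁ (Localization.AtPrime P)))
    rw [IsLocalizedModule.map_comp]
    apply TensorProduct.AlgebraTensorModule.ext
    intro b φ
    simp
  rw [key]
  exact H P

end locB

end Groth.Agent.Lib.Helper16.QFD
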