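import Mathlib
import Groth.Prelude.Def_Disc
import Groth.Prelude.Def_QFDual
import Groth.Agent.Lib.Helper16.QFD5

/-!
# QFDual: the dualizing module of a direct factor (explicit form)
-/

set_option autoImplicit false
set_option linter.style.haveILetI false
set_option linter.unusedSectionVars false
set_option linter.unusedSimpArgs false

universe u
open TensorProduct QFDual

namespace Groth.Agent.Lib.Helper16.QFD

section factor

variable {R T L : Type u} [CommRing R] [CommRing T] [CommRing L] [Algebra R T] [Algebra T L]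
  [Algebra R L] [IsScalarTower R T L]

/-- a section exhibiting `L` as a direct factor of `T`, from an idempotent-like element -/
theorem exists_section_of_idem (hπ : Function.Surjective (algebraMap T L)) (ε : T)
    (hε1 : algebraMap T L ε = 1) (hε0 : ∀ x : T, algebraMap T L x = 0 → ε * x = 0) :
    ∃ s : L →ₗ[R] T, (∀ l, algebraMap T L (s l) = l) ∧
      ∀ (t : T) (l : L), s (algebraMap T L t * l) = t * s l := by
  have hkey : ∀ t : T, ε * Function.surjInv hπ (algebraMap T L t) = ε * t := by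
    intro t
    have h1 : algebraMap T L (Function.surjInv hπ (algebraMap T L t) - t) = 0 := by
      rw [map_sub, Function.surjInv_eq hπ, sub_self]
    have h2 := hε0 _ h1
    rw [mul_sub, sub_eq_zero] at h2
    exact h2
  let s : L →ₗ[R] T :=
    { toFun := fun l => ε * Function.surjInv hπ l
      map_add' := fun l l' => by
        obtain ⟨a, rfl⟩ := hπ l
        obtain ⟨b, rfl⟩ := hπ l'
        rw [← map_add, hkey, hkey, hkey, mul_add]
      map_smul' := fun r l => by
        obtain ⟨a, rfl⟩ := hπ l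
        rw [RingHom.id_apply, ← algebraMap_smul T r (algebraMap T L a), Algebra.smul_def,
          ← map_mul, hkey, hkey, Algebra.smul_def]
        ring }
  have hs : ∀ t : T, s (algebraMap T L t) = ε * t := hkey
  refine ⟨s, ?_, ?_⟩
  · intro l
    change algebraMap T L (ε * Function.surjInv hπ l) = l
    rw [map_mul, hε1, one_mul, Function.surjInv_eq hπ]
  · intro t l
    obtain ⟨a, rfl⟩ := hπ l
    rw [← map_mul, hs, hs]
    ring

variable (s : L →ₗ[R] T) (hs1 : ∀ l, algebraMap T L (s l) = l)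
  (hs2 : ∀ (t : T) (l : L), s (algebraMap T L t * l) = t * s l)

include hs1 hs2 in
/-- the dualizing module of a direct factor, with an explicit formula -/
theorem exists_factorEquiv₀ :
    ∃ Φ : (L ⊗[T] Disc.Omega R T) ≃ₗ[L] Disc.Omega R L,
      ∀ (l : L) (ψ : Disc.Omega R T),
        Φ (l ⊗ₜ[T] ψ) = l • (⟨ψ.toLinearMap ∘ₗ s⟩ : Disc.Omega R L) := by
  have hπ : Function.Surjective (algebraMap T L) := fun l => ⟨s l, hs1 l⟩
  have hsπ : ∀ t : T, s (algebraMap T L t) = t * s 1 := by
    intro t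
    have := hs2 t 1
    rwa [mul_one] at this
  have hε1 : algebraMap T L (s 1) = 1 := hs1 1
  letI : Module T (Disc.Omega R L) := Module.compHom _ (algebraMap T L)
  haveI : IsScalarTower T L (Disc.Omega R L) :=
    IsScalarTower.of_algebraMap_smul fun _ _ => rfl
  let g : Disc.Omega R T →ₗ[T] Disc.Omega R L :=
    { toFun := fun ψ => ⟨ψ.toLinearMap ∘ₗ s⟩
      map_add' := fun ψ ψ' => by
        apply Disc.Omega.ext
        ext l
        rfl
      map_smul' := fun t ψ => by
        apply Disc.Omega.ext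
        ext l
        change ψ.toLinearMap (t * s l) = ψ.toLinearMap (s (algebraMap T L t * l))
        rw [hs2] }
  have hg : ∀ (ψ : Disc.Omega R T) (l : L), (g ψ).toLinearMap l = ψ.toLinearMap (s l) :=
    fun _ _ => rfl
  let Φ : L ⊗[T] Disc.Omega R T →ₗ[L] Disc.Omega R L := LinearMap.liftBaseChange L g
  have hΦ : ∀ (l : L) (ψ : Disc.Omega R T), Φ (l ⊗ₜ[T] ψ) = l • g ψ := fun l ψ => by
    simp [Φ]
  have hrep : ∀ z : L ⊗[T] Disc.Omega R T, ∃ ψ : Disc.Omega R T, z = (1 : L) ⊗ₜ[T] ψ := by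
    intro z
    induction z using TensorProduct.induction_on with
    | zero => exact ⟨0, (tmul_zero _ _).symm⟩
    | tmul l ψ =>
      obtain ⟨t, rfl⟩ := hπ l
      refine ⟨t • ψ, ?_⟩
      rw [← smul_tmul, Algebra.smul_def, mul_one]
    | add x y hx hy =>
      obtain ⟨ψ, rfl⟩ := hx
      obtain ⟨ψ', rfl⟩ := hy
      exact ⟨ψ + ψ', (tmul_add _ _ _).symm⟩
  refine ⟨LinearEquiv.ofBijective Φ ⟨?_, ?_⟩, fun l ψ => hΦ l ψ⟩
  · rw [injective_iff_map_eq_zero]
    intro z hz
    obtain ⟨ψ, rfl⟩ := hrep z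
    rw [hΦ, one_smul] at hz
    have h1 : s 1 • ψ = 0 := by
      apply Disc.Omega.ext
      ext t
      rw [Disc.Omega.smul_toLinearMap_apply, mul_comm, ← hsπ, ← hg, hz]
      rfl
    have h2 : (1 : L) ⊗ₜ[T] ψ = (s 1 • (1 : L)) ⊗ₜ[T] ψ := by
      rw [Algebra.smul_def, mul_one, hε1]
    rw [h2, smul_tmul, h1, tmul_zero]
  · intro φ
    refine ⟨(1 : L) ⊗ₜ[T] ⟨φ.toLinearMap ∘ₗ (IsScalarTower.toAlgHom R T L).toLinearMap⟩, ?_⟩
    rw [hΦ, one_smul]
    apply Disc.Omega.ext
    ext l
    rw [hg]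
    change φ.toLinearMap (algebraMap T L (s l)) = _
    rw [hs1]

variable {C : Type u} [CommRing C] [Algebra L C] [Algebra T C] [IsScalarTower T L C]

include hs1 hs2 in
/-- the same after extending scalars to an `L`-algebra `C` -/
theorem exists_factorEquiv :
    ∃ E : (C ⊗[T] Disc.Omega R T) ≃ₗ[C] (C ⊗[L] Disc.Omega R L),
      ∀ (c : C) (ψ : Disc.Omega R T),
        E (c ⊗ₜ[T] ψ) = c ⊗ₜ[L] (⟨ψ.toLinearMap ∘ₗ s⟩ : Disc.Omega R L) := by
  obtain ⟨Φ, hΦ⟩ := exists_factorEquiv₀ s hs1 hs2
  refine ⟨(AlgebraTensorModule.cancelBaseChange T L C C (Disc.Omega R T)).symm.trans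
    (AlgebraTensorModule.congr (LinearEquiv.refl C C) Φ), fun c ψ => ?_⟩
  rw [LinearEquiv.trans_apply, AlgebraTensorModule.cancelBaseChange_symm_tmul,
    AlgebraTensorModule.congr_tmul, hΦ, one_smul, LinearEquiv.refl_apply]

end factor

end Groth.Agent.Lib.Helper16.QFD
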