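import Mathlib
import Groth.Prelude.Def_Disc
import Groth.Prelude.Def_QFDual
import Groth.Agent.Lib.Helper16.QFD5
import Groth.Agent.Lib.Helper16.QFD6a

/-!
# QFDual: base change of a direct factor; reduction of the base change map to a factor
-/

set_option autoImplicit false
set_option linter.style.haveILetI false
set_option linter.unusedSectionVars false
set_option linter.unusedSimpArgs false

universe u
open TensorProduct QFDual

namespace Groth.Agent.Lib.Helper16.QFD

section factorBC

variable {R A₂ T T₂ L L₂ : Type u} [CommRing R] [CommRing A₂] [CommRing T] [CommRing T₂]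
  [CommRing L] [CommRing L₂]
  [Algebra R A₂] [Algebra R T] [Algebra T T₂] [Algebra A₂ T₂] [Algebra R T₂]
  [IsScalarTower R A₂ T₂] [IsScalarTower R T T₂]
  (hT : Algebra.IsPushout R A₂ T T₂)
  [Algebra R L] [Algebra L L₂] [Algebra A₂ L₂] [Algebra R L₂]
  [IsScalarTower R A₂ L₂] [IsScalarTower R L L₂]
  (hL : Algebra.IsPushout R A₂ L L₂)
  [Algebra T L] [IsScalarTower R T L] [Algebra T₂ L₂] [IsScalarTower A₂ T₂ L₂]
  [Algebra T L₂] [IsScalarTower T T₂ L₂] [IsScalarTower T L L₂]
  (s : L →ₗ[R] T) (hs1 : ∀ l, algebraMap T L (s l) = l)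
  (hs2 : ∀ (t : T) (l : L), s (algebraMap T L t * l) = t * s l)

include hT hL hs1 hs2 in
/-- the section of a direct factor base changes -/
theorem exists_section_baseChange :
    ∃ s₂ : L₂ →ₗ[A₂] T₂, (∀ l₂, algebraMap T₂ L₂ (s₂ l₂) = l₂) ∧
      (∀ (t₂ : T₂) (l₂ : L₂), s₂ (algebraMap T₂ L₂ t₂ * l₂) = t₂ * s₂ l₂) ∧
      ∀ l : L, s₂ (algebraMap L L₂ l) = algebraMap T T₂ (s l) := by
  let s₂ : L₂ →ₗ[A₂] T₂ :=
    hL.out.lift ((IsScalarTower.toAlgHom R T T₂).toLinearMap ∘ₗ s)
  have hs₂ : ∀ l : L, s₂ (algebraMap L L₂ l) = algebraMap T T₂ (s l) := by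
    intro l
    exact hL.out.lift_eq _ l
  have hcomm : ∀ t : T, algebraMap T₂ L₂ (algebraMap T T₂ t) =
      algebraMap L L₂ (algebraMap T L t) := by
    intro t
    rw [← IsScalarTower.algebraMap_apply, ← IsScalarTower.algebraMap_apply]
  refine ⟨s₂, ?_, ?_, hs₂⟩
  · intro l₂
    induction l₂ using hL.out.inductionOn with
    | zero => simp
    | tmul l =>
      change algebraMap T₂ L₂ (s₂ (algebraMap L L₂ l)) = algebraMap L L₂ l
      rw [hs₂, hcomm, hs1]
    | smul a l₂ ih =>
      rw [map_smul, Algebra.smul_def, map_mul, ih, ← IsScalarTower.algebraMap_apply,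
        ← Algebra.smul_def]
    | add x y hx hy => rw [map_add, map_add, hx, hy]
  · intro t₂ l₂
    induction l₂ using hL.out.inductionOn with
    | zero => simp
    | tmul l =>
      change s₂ (algebraMap T₂ L₂ t₂ * algebraMap L L₂ l) = t₂ * s₂ (algebraMap L L₂ l)
      induction t₂ using hT.out.inductionOn with
      | zero => simp
      | tmul t =>
        change s₂ (algebraMap T₂ L₂ (algebraMap T T₂ t) * algebraMap L L₂ l) =
          algebraMap T T₂ t * s₂ (algebraMap L L₂ l)
        rw [hcomm, ← map_mul, hs₂, hs₂, hs2, map_mul]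
      | smul a t₂ ih =>
        have h1 : algebraMap T₂ L₂ (a • t₂) * algebraMap L L₂ l =
            a • (algebraMap T₂ L₂ t₂ * algebraMap L L₂ l) := by
          rw [Algebra.smul_def a t₂, map_mul (algebraMap T₂ L₂),
            ← IsScalarTower.algebraMap_apply A₂ T₂ L₂, mul_assoc, ← Algebra.smul_def]
        rw [h1, map_smul, ih, smul_mul_assoc]
      | add x y hx hy => rw [map_add, add_mul, map_add, hx, hy, add_mul]
    | smul a l₂ ih =>
      rw [mul_smul_comm, map_smul, map_smul, ih, mul_smul_comm]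
    | add x y hx hy => rw [mul_add, map_add, map_add, hx, hy, mul_add]

variable {C : Type u} [CommRing C] [Algebra L₂ C] [Algebra L C] [IsScalarTower L L₂ C]
  [Algebra T₂ C] [Algebra T C] [IsScalarTower T T₂ C] [IsScalarTower T₂ L₂ C]
  [IsScalarTower T L C]

include hs1 hs2 in
/-- the base change map of a finite algebra is bijective as soon as the one of a direct factor
is, after extending scalars to an algebra over the factor -/
theorem omegaBC_bijective_of_factor
    (hbij : Function.Bijective (omegaBC (B₁ := C) hL)) :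
    Function.Bijective (omegaBC (B₁ := C) hT) := by
  obtain ⟨s₂, hs₂1, hs₂2, hs₂⟩ := exists_section_baseChange hT hL s hs1 hs2
  obtain ⟨E, hE⟩ := exists_factorEquiv (C := C) s hs1 hs2
  obtain ⟨E₂, hE₂⟩ := exists_factorEquiv (C := C) s₂ hs₂1 hs₂2
  have hform : ∀ ψ : Disc.Omega R T,
      (⟨(bcFin hT ψ).toLinearMap ∘ₗ s₂⟩ : Disc.Omega A₂ L₂) =
        bcFin hL (⟨ψ.toLinearMap ∘ₗ s⟩ : Disc.Omega R L) := by
    intro ψ
    apply Disc.Omega.ext
    refine hL.out.algHom_ext _ _ fun l => ?_
    change (bcFin hT ψ).toLinearMap (s₂ (algebraMap L L₂ l)) =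
      (bcFin hL (⟨ψ.toLinearMap ∘ₗ s⟩ : Disc.Omega R L)).toLinearMap (algebraMap L L₂ l)
    rw [hs₂, bcFin_apply_algebraMap, bcFin_apply_algebraMap]
    rfl
  have hsq : ∀ x, E₂ (omegaBC (B₁ := C) hT x) = omegaBC (B₁ := C) hL (E x) := by
    intro x
    induction x using TensorProduct.induction_on with
    | zero => simp
    | tmul c ψ => rw [omegaBC_tmul, hE₂, hE, omegaBC_tmul, hform]
    | add x y hx hy => rw [map_add, map_add, hx, hy, map_add, map_add]
  have hfun : ⇑(omegaBC (B₁ := C) hT) = ⇑E₂.symm ∘ ⇑(omegaBC (B₁ := C) hL) ∘ ⇑E := by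
    funext x
    rw [Function.comp_apply, Function.comp_apply, ← hsq, LinearEquiv.symm_apply_apply]
  rw [hfun]
  exact (LinearEquiv.bijective _).comp (hbij.comp (LinearEquiv.bijective _))

end factorBC

end Groth.Agent.Lib.Helper16.QFD
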