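import Mathlib
import Groth.Prelude.Def_Disc
import Groth.Prelude.Def_QFDual
import Groth.Agent.Lib.Helper16.QFD5
import Groth.Agent.Lib.Helper16.QFD6
import Groth.Agent.Lib.Helper26.QFDual6

/-!
# QFDual: base change map is bijective after extending scalars to an algebra over a finite free factor of a flat base change
-/

set_option autoImplicit false
set_option linter.style.haveILetI false
set_option linter.unusedSectionVars false
set_option linter.unusedSimpArgs false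

universe u
open TensorProduct QFDual

namespace Groth.Agent.Lib.Helper16.QFD

attribute [local instance] Algebra.TensorProduct.rightAlgebra

set_option maxHeartbeats 800000 in
theorem omegaBC_bijective_core
    {A A₁ B' B'₁ : Type u} [CommRing A] [CommRing A₁] [CommRing B'] [CommRing B'₁]
    [Algebra A B'] [Algebra A A₁] [Algebra B' B'₁] [Algebra A₁ B'₁] [Algebra A B'₁]
    [IsScalarTower A A₁ B'₁] [IsScalarTower A B' B'₁]
    (h : Algebra.IsPushout A A₁ B' B'₁)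
    [Module.FinitePresentation A B']
    (R : Type u) [CommRing R] [Algebra A R] [Module.Flat A R]
    (L : Type u) [CommRing L] [Algebra (R ⊗[A] B') L] [Algebra R L]
    [IsScalarTower R (R ⊗[A] B') L] [Module.Finite R L] [Module.Free R L]
    (s : L →ₗ[R] R ⊗[A] B') (hs1 : ∀ l, algebraMap (R ⊗[A] B') L (s l) = l)
    (hs2 : ∀ (t : R ⊗[A] B') (l : L), s (algebraMap (R ⊗[A] B') L t * l) = t * s l)
    [Algebra B' L] [IsScalarTower B' (R ⊗[A] B') L]
    (C : Type u) [CommRing C] [Algebra L C] [Algebra B'₁ C] [Algebra B' C]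
    [IsScalarTower B' B'₁ C] [IsScalarTower B' L C] :
    Function.Bijective (omegaBC (B₁ := C) h) := by
  haveI := h
  -- the zoo
  letI iA₂T₂ : Algebra (R ⊗[A] A₁) (R ⊗[A] B'₁) :=
    (Algebra.TensorProduct.map (AlgHom.id R R)
      (IsScalarTower.toAlgHom A A₁ B'₁)).toRingHom.toAlgebra
  letI iTT₂ : Algebra (R ⊗[A] B') (R ⊗[A] B'₁) :=
    (Algebra.TensorProduct.map (AlgHom.id R R)
      (IsScalarTower.toAlgHom A B' B'₁)).toRingHom.toAlgebra
  letI iA₁T₂ : Algebra A₁ (R ⊗[A] B'₁) :=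
    ((algebraMap B'₁ (R ⊗[A] B'₁)).comp (algebraMap A₁ B'₁)).toAlgebra
  letI iB'T₂ : Algebra B' (R ⊗[A] B'₁) :=
    ((algebraMap B'₁ (R ⊗[A] B'₁)).comp (algebraMap B' B'₁)).toAlgebra
  have hA₂T₂ : ∀ (r : R) (a₁ : A₁), algebraMap (R ⊗[A] A₁) (R ⊗[A] B'₁) (r ⊗ₜ a₁) =
      r ⊗ₜ algebraMap A₁ B'₁ a₁ := fun _ _ => rfl
  have hTT₂ : ∀ (r : R) (b : B'), algebraMap (R ⊗[A] B') (R ⊗[A] B'₁) (r ⊗ₜ b) =
      r ⊗ₜ algebraMap B' B'₁ b := fun _ _ => rfl
  haveI t1 : IsScalarTower A₁ B'₁ (R ⊗[A] B'₁) := IsScalarTower.of_algebraMap_eq fun _ => rfl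
  haveI t2 : IsScalarTower A₁ (R ⊗[A] A₁) (R ⊗[A] B'₁) :=
    IsScalarTower.of_algebraMap_eq fun _ => rfl
  haveI t3 : IsScalarTower B' B'₁ (R ⊗[A] B'₁) := IsScalarTower.of_algebraMap_eq fun _ => rfl
  haveI t4 : IsScalarTower B' (R ⊗[A] B') (R ⊗[A] B'₁) :=
    IsScalarTower.of_algebraMap_eq fun _ => rfl
  haveI t5 : IsScalarTower R (R ⊗[A] A₁) (R ⊗[A] B'₁) :=
    IsScalarTower.of_algebraMap_eq fun r => by
      rw [Algebra.TensorProduct.algebraMap_apply, Algebra.TensorProduct.algebraMap_apply, hA₂T₂,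
        map_one]
  haveI t6 : IsScalarTower R (R ⊗[A] B') (R ⊗[A] B'₁) :=
    IsScalarTower.of_algebraMap_eq fun r => by
      rw [Algebra.TensorProduct.algebraMap_apply, Algebra.TensorProduct.algebraMap_apply, hTT₂,
        map_one]
  haveI t7 : IsScalarTower A (R ⊗[A] A₁) (R ⊗[A] B'₁) :=
    IsScalarTower.of_algebraMap_eq fun a => by
      rw [Algebra.TensorProduct.algebraMap_apply, Algebra.TensorProduct.algebraMap_apply, hA₂T₂,
        map_one]
  haveI t8 : IsScalarTower A (R ⊗[A] B') (R ⊗[A] B'₁) :=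
    IsScalarTower.of_algebraMap_eq fun a => by
      rw [Algebra.TensorProduct.algebraMap_apply, Algebra.TensorProduct.algebraMap_apply, hTT₂,
        map_one]
  haveI t9 : IsScalarTower A B' (R ⊗[A] B'₁) := IsScalarTower.of_algebraMap_eq fun a => by
    change _ = (1 : R) ⊗ₜ[A] algebraMap B' B'₁ (algebraMap A B' a)
    rw [← IsScalarTower.algebraMap_apply A B' B'₁, Algebra.TensorProduct.algebraMap_apply,
      Algebra.algebraMap_eq_smul_one (A := B'₁) a, ← smul_tmul, ← Algebra.algebraMap_eq_smul_one]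
  -- pushouts
  have h₂' : Algebra.IsPushout A₁ B'₁ (R ⊗[A] A₁) (R ⊗[A] B'₁) :=
    (Algebra.IsPushout.comp_iff A A₁ R (S' := R ⊗[A] A₁) (T := B'₁) (T' := R ⊗[A] B'₁)).mp
      inferInstance
  have h₂ : Algebra.IsPushout A₁ (R ⊗[A] A₁) B'₁ (R ⊗[A] B'₁) := h₂'.symm
  have h_c : Algebra.IsPushout A (R ⊗[A] A₁) B' (R ⊗[A] B'₁) :=
    (Algebra.IsPushout.comp_iff A A₁ B' (S' := B'₁) (T := R ⊗[A] A₁) (T' := R ⊗[A] B'₁)).mpr h₂
  have h₃ : Algebra.IsPushout A R B' (R ⊗[A] B') := inferInstance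
  have h₄ : Algebra.IsPushout R (R ⊗[A] A₁) (R ⊗[A] B') (R ⊗[A] B'₁) :=
    (Algebra.IsPushout.comp_iff A R B' (S' := R ⊗[A] B') (T := R ⊗[A] A₁)
      (T' := R ⊗[A] B'₁)).mp h_c
  -- the factor `L₂ = L ⊗ T₂`
  letI iA₂L₂ : Algebra (R ⊗[A] A₁) (L ⊗[R ⊗[A] B'] (R ⊗[A] B'₁)) :=
    ((algebraMap (R ⊗[A] B'₁) (L ⊗[R ⊗[A] B'] (R ⊗[A] B'₁))).comp
      (algebraMap (R ⊗[A] A₁) (R ⊗[A] B'₁))).toAlgebra
  haveI u1 : IsScalarTower (R ⊗[A] A₁) (R ⊗[A] B'₁) (L ⊗[R ⊗[A] B'] (R ⊗[A] B'₁)) :=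
    IsScalarTower.of_algebraMap_eq fun _ => rfl
  haveI u2 : IsScalarTower R L (L ⊗[R ⊗[A] B'] (R ⊗[A] B'₁)) := inferInstance
  haveI u3 : IsScalarTower (R ⊗[A] B') L (L ⊗[R ⊗[A] B'] (R ⊗[A] B'₁)) := inferInstance
  haveI u4 : IsScalarTower (R ⊗[A] B') (R ⊗[A] B'₁) (L ⊗[R ⊗[A] B'] (R ⊗[A] B'₁)) := inferInstance
  haveI u5 : IsScalarTower R (R ⊗[A] B'₁) (L ⊗[R ⊗[A] B'] (R ⊗[A] B'₁)) :=
    IsScalarTower.of_algebraMap_eq fun r => by
      rw [IsScalarTower.algebraMap_apply R (R ⊗[A] B') (L ⊗[R ⊗[A] B'] (R ⊗[A] B'₁)),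
        IsScalarTower.algebraMap_apply (R ⊗[A] B') (R ⊗[A] B'₁) (L ⊗[R ⊗[A] B'] (R ⊗[A] B'₁)),
        ← IsScalarTower.algebraMap_apply R (R ⊗[A] B') (R ⊗[A] B'₁)]
  haveI u6 : IsScalarTower R (R ⊗[A] A₁) (L ⊗[R ⊗[A] B'] (R ⊗[A] B'₁)) :=
    IsScalarTower.of_algebraMap_eq fun r => by
      rw [IsScalarTower.algebraMap_apply (R ⊗[A] A₁) (R ⊗[A] B'₁)
          (L ⊗[R ⊗[A] B'] (R ⊗[A] B'₁)),
        ← IsScalarTower.algebraMap_apply R (R ⊗[A] A₁) (R ⊗[A] B'₁),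
        ← IsScalarTower.algebraMap_apply R (R ⊗[A] B'₁) (L ⊗[R ⊗[A] B'] (R ⊗[A] B'₁))]
  haveI h₄s : Algebra.IsPushout R (R ⊗[A] B') (R ⊗[A] A₁) (R ⊗[A] B'₁) := h₄.symm
  have h_L' : Algebra.IsPushout R L (R ⊗[A] A₁) (L ⊗[R ⊗[A] B'] (R ⊗[A] B'₁)) :=
    (Algebra.IsPushout.comp_iff R (R ⊗[A] B') (R ⊗[A] A₁) (S' := R ⊗[A] B'₁) (T := L)
      (T' := L ⊗[R ⊗[A] B'] (R ⊗[A] B'₁))).mpr inferInstance
  have h_L : Algebra.IsPushout R (R ⊗[A] A₁) L (L ⊗[R ⊗[A] B'] (R ⊗[A] B'₁)) := h_L'.symm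
  -- the structures on `C`
  letI iTC : Algebra (R ⊗[A] B') C :=
    ((algebraMap L C).comp (algebraMap (R ⊗[A] B') L)).toAlgebra
  haveI v1 : IsScalarTower (R ⊗[A] B') L C := IsScalarTower.of_algebraMap_eq fun _ => rfl
  letI iRC : Algebra R C := ((algebraMap L C).comp (algebraMap R L)).toAlgebra
  haveI v2 : IsScalarTower R L C := IsScalarTower.of_algebraMap_eq fun _ => rfl
  letI iAC : Algebra A C := ((algebraMap B' C).comp (algebraMap A B')).toAlgebra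
  haveI v3 : IsScalarTower A B' C := IsScalarTower.of_algebraMap_eq fun _ => rfl
  haveI v4 : IsScalarTower B' (R ⊗[A] B') C := IsScalarTower.of_algebraMap_eq fun b => by
    rw [IsScalarTower.algebraMap_apply B' L C, IsScalarTower.algebraMap_apply B' (R ⊗[A] B') L]
    rfl
  haveI v5 : IsScalarTower R (R ⊗[A] B') C := IsScalarTower.of_algebraMap_eq fun r => by
    rw [IsScalarTower.algebraMap_apply R L C, IsScalarTower.algebraMap_apply R (R ⊗[A] B') L]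
    rfl
  let f : R →ₐ[A] C :=
    { (algebraMap R C) with
      commutes' := fun a => by
        change algebraMap R C (algebraMap A R a) = algebraMap B' C (algebraMap A B' a)
        rw [IsScalarTower.algebraMap_apply R (R ⊗[A] B') C,
          IsScalarTower.algebraMap_apply B' (R ⊗[A] B') C,
          ← IsScalarTower.algebraMap_apply A R (R ⊗[A] B'),
          ← IsScalarTower.algebraMap_apply A B' (R ⊗[A] B')] }
  let g : B'₁ →ₐ[A] C :=
    { (algebraMap B'₁ C) with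
      commutes' := fun a => by
        change algebraMap B'₁ C (algebraMap A B'₁ a) = algebraMap B' C (algebraMap A B' a)
        rw [IsScalarTower.algebraMap_apply A B' B'₁, ← IsScalarTower.algebraMap_apply B' B'₁ C] }
  letI iT₂C : Algebra (R ⊗[A] B'₁) C :=
    (Algebra.TensorProduct.productMap f g).toRingHom.toAlgebra
  have hT₂C : ∀ (r : R) (b₁ : B'₁), algebraMap (R ⊗[A] B'₁) C (r ⊗ₜ b₁) =
      algebraMap R C r * algebraMap B'₁ C b₁ := fun r b₁ =>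
    Algebra.TensorProduct.productMap_apply_tmul f g r b₁
  haveI v6 : IsScalarTower B'₁ (R ⊗[A] B'₁) C := IsScalarTower.of_algebraMap_eq fun b₁ => by
    change _ = algebraMap (R ⊗[A] B'₁) C ((1 : R) ⊗ₜ b₁)
    rw [hT₂C, map_one, one_mul]
  haveI v7 : IsScalarTower (R ⊗[A] B') (R ⊗[A] B'₁) C := by
    refine IsScalarTower.of_algebraMap_eq fun t => ?_
    induction t using TensorProduct.induction_on with
    | zero => simp
    | tmul r b =>
      rw [hTT₂, hT₂C, ← IsScalarTower.algebraMap_apply B' B'₁ C]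
      have h1 : (r ⊗ₜ[A] b : R ⊗[A] B') = algebraMap R (R ⊗[A] B') r *
          algebraMap B' (R ⊗[A] B') b := by
        rw [Algebra.TensorProduct.algebraMap_apply]
        change r ⊗ₜ[A] b = (algebraMap R R r ⊗ₜ[A] (1 : B')) * ((1 : R) ⊗ₜ[A] b)
        rw [Algebra.TensorProduct.tmul_mul_tmul, Algebra.algebraMap_self, RingHom.id_apply,
          mul_one, one_mul]
      rw [h1, map_mul, ← IsScalarTower.algebraMap_apply R (R ⊗[A] B') C,
        ← IsScalarTower.algebraMap_apply B' (R ⊗[A] B') C]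
    | add x y hx hy => rw [map_add, map_add, map_add, hx, hy]
  haveI v8 : IsScalarTower B' (R ⊗[A] B'₁) C := IsScalarTower.of_algebraMap_eq fun b => by
    rw [IsScalarTower.algebraMap_apply B' B'₁ (R ⊗[A] B'₁),
      ← IsScalarTower.algebraMap_apply B'₁ (R ⊗[A] B'₁) C,
      ← IsScalarTower.algebraMap_apply B' B'₁ C]
  letI iL₂C : Algebra (L ⊗[R ⊗[A] B'] (R ⊗[A] B'₁)) C :=
    (Algebra.TensorProduct.productMap (IsScalarTower.toAlgHom (R ⊗[A] B') L C)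
      (IsScalarTower.toAlgHom (R ⊗[A] B') (R ⊗[A] B'₁) C)).toRingHom.toAlgebra
  have hL₂C : ∀ (l : L) (t₂ : R ⊗[A] B'₁),
      algebraMap (L ⊗[R ⊗[A] B'] (R ⊗[A] B'₁)) C (l ⊗ₜ t₂) =
        algebraMap L C l * algebraMap (R ⊗[A] B'₁) C t₂ := fun l t₂ =>
    Algebra.TensorProduct.productMap_apply_tmul _ _ l t₂
  haveI v9 : IsScalarTower L (L ⊗[R ⊗[A] B'] (R ⊗[A] B'₁)) C :=
    IsScalarTower.of_algebraMap_eq fun l => by
      change _ = algebraMap (L ⊗[R ⊗[A] B'] (R ⊗[A] B'₁)) C (l ⊗ₜ (1 : R ⊗[A] B'₁))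
      rw [hL₂C, map_one, mul_one]
  haveI v10 : IsScalarTower (R ⊗[A] B'₁) (L ⊗[R ⊗[A] B'] (R ⊗[A] B'₁)) C :=
    IsScalarTower.of_algebraMap_eq fun t₂ => by
      change _ = algebraMap (L ⊗[R ⊗[A] B'] (R ⊗[A] B'₁)) C ((1 : L) ⊗ₜ t₂)
      rw [hL₂C, map_one, one_mul]
  -- assembly
  have hbL : Function.Bijective (omegaBC (B₁ := C) h_L) :=
    Groth.Agent.Lib.Helper26.QFD6.omegaBC_bijective h_L h_L.out.dual
  have hb₄ : Function.Bijective (omegaBC (B₁ := C) h₄) :=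
    omegaBC_bijective_of_factor h₄ h_L s hs1 hs2 hbL
  have hb₃ : Function.Bijective (omegaBC (B₁ := C) h₃) :=
    Groth.Agent.Lib.Helper26.QFD6.omegaBC_bijective h₃
      (Groth.Agent.Lib.Helper26.QFD6.isBaseChange_toDual h₃)
  have hb_c : Function.Bijective (omegaBC (B₁ := C) h_c) :=
    omegaBC_bijective_trans h₃ h₄ h_c hb₃ hb₄
  haveI : Module.Flat A₁ (R ⊗[A] A₁) :=
    Module.Flat.isBaseChange A A₁ R (R ⊗[A] A₁)
      (Algebra.IsPushout.symm (inferInstance : Algebra.IsPushout A R A₁ (R ⊗[A] A₁))).out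
  haveI : Module.FinitePresentation A₁ B'₁ :=
    _root_.FinitePresentation.of_isBaseChange _ h.out
  have hb₂ : Function.Bijective (omegaBC (B₁ := C) h₂) :=
    Groth.Agent.Lib.Helper26.QFD6.omegaBC_bijective h₂
      (Groth.Agent.Lib.Helper26.QFD6.isBaseChange_toDual h₂)
  exact omegaBC_bijective_of_trans h h₂ h_c hb_c hb₂

end Groth.Agent.Lib.Helper16.QFD
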