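import Mathlib
import Groth.Prelude.Def_Disc
import Groth.Prelude.Def_QFDual
import Groth.Agent.Lib.Helper16.QFD2
import Groth.Agent.Lib.Helper16.QFD5
import Groth.Agent.Lib.Helper16.QFD6
import Groth.Agent.Lib.Helper16.QFD7

/-!
# QFDual: local bijectivity of the base change map over a henselian base
-/

set_option autoImplicit false
set_option linter.style.haveILetI false
set_option linter.unusedSectionVars false
set_option linter.unusedSimpArgs false

universe u
open TensorProduct IsLocalRing QFDual

namespace Groth.Agent.Lib.Helper16.QFD

section bc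

attribute [local instance] Algebra.TensorProduct.rightAlgebra

variable {A B' R : Type u} [CommRing A] [CommRing B'] [CommRing R] [Algebra A B'] [Algebra A R]
  [IsNoetherianRing A] [Module.Finite A B'] [HenselianLocalRing R]
  [Module.Flat A R] (q' : Ideal B') [q'.IsPrime]

set_option maxHeartbeats 800000 in
theorem bc_local [Module.Flat A (Localization.AtPrime q')]
    (hm : (q'.under A).map (algebraMap A R) = maximalIdeal R)
    {A₁ B'₁ : Type u} [CommRing A₁] [CommRing B'₁] [Algebra A A₁] [Algebra B' B'₁]
    [Algebra A₁ B'₁] [Algebra A B'₁] [IsScalarTower A A₁ B'₁] [IsScalarTower A B' B'₁]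
    (h : Algebra.IsPushout A A₁ B' B'₁)
    (D : Type u) [CommRing D] [Algebra B'₁ D] [Algebra B' D] [IsScalarTower B' B'₁ D]
    [Algebra (Localization.AtPrime q') D] [IsScalarTower B' (Localization.AtPrime q') D] :
    Function.Bijective (omegaBC (B₁ := D) h) := by
  classical
  haveI : Module.Flat B' (R ⊗[A] B') := flat_right
  obtain ⟨n, hnp, hn⟩ := exists_prime_over (R := R) q' hm.le
  haveI := hnp
  have hnR := comap_eq_maximalIdeal q' n hm hn
  haveI hnmax : n.IsMaximal := isMaximal_of_comap n hnR
  obtain ⟨hsurj, ε, hε1, hε0⟩ := exists_factor_data R n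
  obtain ⟨s, hs1, hs2⟩ := exists_section_of_idem (R := R) hsurj ε hε1 hε0
  haveI hflatRL : Module.Flat R (Localization.AtPrime n) := flat_localization q' n hn
  haveI : Module.Finite R (Localization.AtPrime n) :=
    Module.Finite.of_surjective
      (IsScalarTower.toAlgHom R (R ⊗[A] B') (Localization.AtPrime n)).toLinearMap hsurj
  haveI : Module.Free R (Localization.AtPrime n) := Module.free_of_flat_of_isLocalRing
  haveI : n.LiesOver q' := ⟨hn.symm⟩
  letI : Algebra (Localization.AtPrime q') (Localization.AtPrime n) :=
    Localization.AtPrime.algebraOfLiesOver q' n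
  haveI : IsLocalHom (algebraMap (Localization.AtPrime q') (Localization.AtPrime n)) :=
    Localization.isLocalHom_localRingHom q' n (algebraMap B' (R ⊗[A] B')) Ideal.LiesOver.over
  haveI : Module.FaithfullyFlat (Localization.AtPrime q') (Localization.AtPrime n) :=
    Module.FaithfullyFlat.of_flat_of_isLocalHom
  haveI : Module.FinitePresentation A B' := Module.finitePresentation_of_finite A B'
  -- the faithfully flat cover
  haveI ff : Module.FaithfullyFlat D (D ⊗[Localization.AtPrime q'] Localization.AtPrime n) :=
    inferInstance
  haveI w1 : IsScalarTower B' B'₁ (D ⊗[Localization.AtPrime q'] Localization.AtPrime n) :=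
    inferInstance
  haveI w2 : IsScalarTower B'₁ D (D ⊗[Localization.AtPrime q'] Localization.AtPrime n) :=
    inferInstance
  haveI w3 : IsScalarTower B' D (D ⊗[Localization.AtPrime q'] Localization.AtPrime n) :=
    inferInstance
  haveI w4 : IsScalarTower B' (Localization.AtPrime n)
      (D ⊗[Localization.AtPrime q'] Localization.AtPrime n) :=
    IsScalarTower.of_algebraMap_eq fun b => by
      rw [IsScalarTower.algebraMap_apply B' D (D ⊗[Localization.AtPrime q'] Localization.AtPrime n),
        IsScalarTower.algebraMap_apply B' (Localization.AtPrime q') D,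
        IsScalarTower.algebraMap_apply B' (Localization.AtPrime q') (Localization.AtPrime n)]
      change (algebraMap (Localization.AtPrime q') D (algebraMap B' (Localization.AtPrime q') b))
        ⊗ₜ[Localization.AtPrime q'] (1 : Localization.AtPrime n) =
        (1 : D) ⊗ₜ[Localization.AtPrime q']
          (algebraMap (Localization.AtPrime q') (Localization.AtPrime n)
            (algebraMap B' (Localization.AtPrime q') b))
      rw [Algebra.algebraMap_eq_smul_one, Algebra.algebraMap_eq_smul_one (A := Localization.AtPrime n),
        smul_tmul]
  have hC : Function.Bijective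
      (omegaBC (B₁ := D ⊗[Localization.AtPrime q'] Localization.AtPrime n) h) :=
    omegaBC_bijective_core h R (Localization.AtPrime n) s hs1 hs2
      (D ⊗[Localization.AtPrime q'] Localization.AtPrime n)
  exact omegaBC_bijective_of_faithfullyFlat h hC

end bc

end Groth.Agent.Lib.Helper16.QFD
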