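import Mathlib
import Groth.Prelude.Def_Disc
import Groth.Prelude.Def_QFDual
import Groth.Agent.Lib.Helper16.QFD1
import Groth.Agent.Lib.Helper16.QFD8a
import Groth.Agent.Lib.Helper4.HznNoethC
import Groth.Agent.Lib.Helper9.AssQF

/-!
# QFDual: the base change map of the relative dualizing module of a flat quasi-finite algebra is bijective
-/

set_option autoImplicit false
set_option linter.style.haveILetI false
set_option linter.unusedSectionVars false
set_option linter.unusedSimpArgs false

universe u
open TensorProduct IsLocalRing QFDual AlgebraicGeometry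

namespace Groth.Agent.Lib.Helper16.QFD

open Groth.Agent.Lib.Helper4.Hzn

/-- local bijectivity of the base change map, with the henselization supplied -/
theorem bc_local' {A B' : Type u} [CommRing A] [CommRing B'] [Algebra A B']
    [IsNoetherianRing A] [Module.Finite A B'] (q' : Ideal B') [q'.IsPrime]
    [Module.Flat A (Localization.AtPrime q')]
    {A₁ B'₁ : Type u} [CommRing A₁] [CommRing B'₁] [Algebra A A₁] [Algebra B' B'₁]
    [Algebra A₁ B'₁] [Algebra A B'₁] [IsScalarTower A A₁ B'₁] [IsScalarTower A B' B'₁]
    (h : Algebra.IsPushout A A₁ B' B'₁)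
    (D : Type u) [CommRing D] [Algebra B'₁ D] [Algebra B' D] [IsScalarTower B' B'₁ D]
    [Algebra (Localization.AtPrime q') D] [IsScalarTower B' (Localization.AtPrime q') D] :
    Function.Bijective (omegaBC (B₁ := D) h) := by
  letI : Algebra A (Hz (Localization.AtPrime (q'.under A))) :=
    ((algebraMap (Localization.AtPrime (q'.under A)) (Hz (Localization.AtPrime (q'.under A)))).comp
      (algebraMap A (Localization.AtPrime (q'.under A)))).toAlgebra
  haveI : IsScalarTower A (Localization.AtPrime (q'.under A))
      (Hz (Localization.AtPrime (q'.under A))) := IsScalarTower.of_algebraMap_eq fun _ => rfl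
  haveI : Module.Flat A (Hz (Localization.AtPrime (q'.under A))) :=
    Module.Flat.trans A (Localization.AtPrime (q'.under A)) _
  have hm : (q'.under A).map (algebraMap A (Hz (Localization.AtPrime (q'.under A)))) =
      maximalIdeal (Hz (Localization.AtPrime (q'.under A))) := by
    rw [IsScalarTower.algebraMap_eq A (Localization.AtPrime (q'.under A)), ← Ideal.map_map,
      Localization.AtPrime.map_eq_maximalIdeal, Hz.map_maximalIdeal]
  exact bc_local (R := Hz (Localization.AtPrime (q'.under A))) q' hm h D

section final

/-- the localization of `B'` at the contraction of a prime of the flat algebra `B` is flat -/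
theorem flat_localization_comap {A B' B : Type u} [CommRing A] [CommRing B'] [CommRing B]
    [Algebra A B'] [Algebra B' B] [Algebra A B] [IsScalarTower A B' B] [Module.Flat A B]
    [Module.Flat B' B] (q : Ideal B) [q.IsPrime] :
    Module.Flat A (Localization.AtPrime (q.comap (algebraMap B' B))) := by
  haveI : q.LiesOver (q.comap (algebraMap B' B)) := ⟨rfl⟩
  letI : Algebra (Localization.AtPrime (q.comap (algebraMap B' B))) (Localization.AtPrime q) :=
    Localization.AtPrime.algebraOfLiesOver _ q
  haveI : IsLocalHom (algebraMap (Localization.AtPrime (q.comap (algebraMap B' B)))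
      (Localization.AtPrime q)) :=
    Localization.isLocalHom_localRingHom _ q (algebraMap B' B) Ideal.LiesOver.over
  haveI : Module.FaithfullyFlat (Localization.AtPrime (q.comap (algebraMap B' B)))
      (Localization.AtPrime q) := Module.FaithfullyFlat.of_flat_of_isLocalHom
  haveI : Module.Flat A (Localization.AtPrime q) := Module.Flat.trans A B _
  refine flat_descent (S := Localization.AtPrime (q.comap (algebraMap B' B)))
    (L := Localization.AtPrime q) ?_
  exact Module.Flat.of_linearEquiv
    ((AlgebraTensorModule.rid (Localization.AtPrime (q.comap (algebraMap B' B)))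
      (Localization.AtPrime q) (Localization.AtPrime q)).restrictScalars A)

/-- the base change map of the relative dualizing module of a flat quasi-finite algebra is
bijective -/
theorem omegaBC_bijective_of_flat {A B' A₁ B'₁ B₁ : Type u} (B : Type u) [CommRing A]
    [CommRing B'] [CommRing B] [CommRing A₁] [CommRing B'₁] [CommRing B₁] [IsNoetherianRing A]
    [Algebra A B'] [Algebra B' B] [Algebra A B] [IsScalarTower A B' B] [Module.Flat A B]
    [Module.Finite A B'] [Module.Flat B' B]
    [Algebra A A₁] [Algebra B' B'₁] [Algebra A₁ B'₁] [Algebra A B'₁] [IsScalarTower A A₁ B'₁]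
    [IsScalarTower A B' B'₁] (h : Algebra.IsPushout A A₁ B' B'₁)
    [Algebra B B₁] [Algebra B'₁ B₁] [Algebra B' B₁] [IsScalarTower B' B'₁ B₁]
    [IsScalarTower B' B B₁] : Function.Bijective (omegaBC (B₁ := B₁) h) := by
  refine omegaBC_bijective_of_localization h fun P _ => ?_
  haveI : (P.comap (algebraMap B B₁)).IsPrime := Ideal.comap_isPrime _ _
  haveI := flat_localization_comap (A := A) (B' := B') (P.comap (algebraMap B B₁))
  haveI : P.LiesOver ((P.comap (algebraMap B B₁)).comap (algebraMap B' B)) := ⟨by
    rw [Ideal.comap_comap, ← IsScalarTower.algebraMap_eq]⟩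
  letI : Algebra (Localization.AtPrime ((P.comap (algebraMap B B₁)).comap (algebraMap B' B)))
      (Localization.AtPrime P) := Localization.AtPrime.algebraOfLiesOver _ P
  exact bc_local' ((P.comap (algebraMap B B₁)).comap (algebraMap B' B)) h (Localization.AtPrime P)

end final

end Groth.Agent.Lib.Helper16.QFD
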