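import Mathlib
import Groth.Prelude.Def_Disc
import Groth.Prelude.Def_QFDual
import Groth.Prelude.Def_EGA4b
import Groth.Agent.Lib.Helper16.QFD1
import Groth.Agent.Lib.Helper16.QFD2
import Groth.Agent.Lib.Helper16.QFD3a
import Groth.Agent.Lib.Helper16.QFD6a
import Groth.Agent.Lib.Helper9.FrobGor1

/-!
# QFDual: over a field, invertibility of the dualizing module forces Gorenstein local rings
-/

set_option autoImplicit false
set_option linter.style.haveILetI false
set_option linter.unusedSectionVars false
set_option linter.unusedSimpArgs false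

universe u
open TensorProduct IsLocalRing QFDual

namespace Groth.Agent.Lib.Helper16.QFD

/-- a local ring that is a Gorenstein ring is a Gorenstein local ring -/
theorem gorLocal_of_gorRing {L : Type u} [CommRing L] [IsLocalRing L]
    (h : LocCoh.IsGorensteinRing L) : LocCoh.IsGorensteinLocalRing L := by
  have h1 := h.isGorensteinLocalRing_localization (maximalIdeal L)
  have hunits : (maximalIdeal L).primeCompl ≤ IsUnit.submonoid L := by
    intro x hx
    exact IsLocalRing.notMem_maximalIdeal.mp hx
  let e : L ≃ₐ[L] Localization.AtPrime (maximalIdeal L) :=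
    IsLocalization.atUnits L (maximalIdeal L).primeCompl hunits
  exact Groth.Agent.Lib.Helper2.GK.gor_of_ringEquiv e.symm.toRingEquiv h1

/-- over a field: if the relative dualizing module of a flat algebra over a finite algebra `T`
is invertible, the local rings of `T` at the primes in the image are Gorenstein -/
theorem gor_of_invertible_field {k T B₁ : Type u} [Field k] [CommRing T] [CommRing B₁]
    [Algebra k T] [Module.Finite k T] [Algebra T B₁] [Module.Flat T B₁]
    (hinv : Module.Invertible B₁ (B₁ ⊗[T] Disc.Omega k T)) (Q₁ : Ideal B₁) [Q₁.IsPrime] :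
    LocCoh.IsGorensteinLocalRing (Localization.AtPrime (Q₁.comap (algebraMap T B₁))) := by
  classical
  haveI hnmax : (Q₁.comap (algebraMap T B₁)).IsMaximal := by
    apply Ideal.isMaximal_of_isIntegral_of_isMaximal_comap (R := k)
    have hne : ((Q₁.comap (algebraMap T B₁)).comap (algebraMap k T)) ≠ ⊤ :=
      Ideal.comap_ne_top _ (Ideal.IsPrime.ne_top inferInstance)
    rcases Ideal.eq_bot_or_top ((Q₁.comap (algebraMap T B₁)).comap (algebraMap k T)) with h | h
    · rw [h]
      exact Ideal.bot_isMaximal
    · exact absurd h hne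
  obtain ⟨hsurj, ε, hε1, hε0⟩ := exists_factor_data k (Q₁.comap (algebraMap T B₁))
  obtain ⟨s, hs1, hs2⟩ := exists_section_of_idem (R := k) hsurj ε hε1 hε0
  obtain ⟨Φ, -⟩ := exists_factorEquiv₀ s hs1 hs2
  haveI : Module.Finite k (Localization.AtPrime (Q₁.comap (algebraMap T B₁))) :=
    Module.Finite.of_surjective
      (IsScalarTower.toAlgHom k T (Localization.AtPrime (Q₁.comap (algebraMap T B₁)))).toLinearMap
      hsurj
  haveI : Q₁.LiesOver (Q₁.comap (algebraMap T B₁)) := ⟨rfl⟩
  letI : Algebra (Localization.AtPrime (Q₁.comap (algebraMap T B₁))) (Localization.AtPrime Q₁) :=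
    Localization.AtPrime.algebraOfLiesOver _ Q₁
  haveI : IsLocalHom (algebraMap (Localization.AtPrime (Q₁.comap (algebraMap T B₁)))
      (Localization.AtPrime Q₁)) :=
    Localization.isLocalHom_localRingHom _ Q₁ (algebraMap T B₁) Ideal.LiesOver.over
  haveI : Module.FaithfullyFlat (Localization.AtPrime (Q₁.comap (algebraMap T B₁)))
      (Localization.AtPrime Q₁) := Module.FaithfullyFlat.of_flat_of_isLocalHom
  haveI := hinv
  have h1 : Module.Invertible (Localization.AtPrime Q₁)
      (Localization.AtPrime Q₁ ⊗[B₁] (B₁ ⊗[T] Disc.Omega k T)) := inferInstance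
  let E := ((AlgebraTensorModule.cancelBaseChange T B₁ (Localization.AtPrime Q₁)
      (Localization.AtPrime Q₁) (Disc.Omega k T)).trans
    (AlgebraTensorModule.cancelBaseChange T (Localization.AtPrime (Q₁.comap (algebraMap T B₁)))
      (Localization.AtPrime Q₁) (Localization.AtPrime Q₁) (Disc.Omega k T)).symm).trans
    (AlgebraTensorModule.congr (LinearEquiv.refl (Localization.AtPrime Q₁)
      (Localization.AtPrime Q₁)) Φ)
  have h2 : Module.Invertible (Localization.AtPrime Q₁)
      (Localization.AtPrime Q₁ ⊗[Localization.AtPrime (Q₁.comap (algebraMap T B₁))]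
        Disc.Omega k (Localization.AtPrime (Q₁.comap (algebraMap T B₁)))) :=
    Module.Invertible.congr E
  haveI : Module.Finite (Localization.AtPrime (Q₁.comap (algebraMap T B₁)))
      (Disc.Omega k (Localization.AtPrime (Q₁.comap (algebraMap T B₁)))) :=
    finite_omega_of_noetherian k _
  obtain ⟨e⟩ := nonempty_equiv_of_invertible_tensor h2
  haveI : IsNoetherianRing (Localization.AtPrime (Q₁.comap (algebraMap T B₁))) :=
    IsNoetherianRing.of_finite k _
  exact gorLocal_of_gorRing (Groth.Agent.Lib.Helper9.FrobGor.gor_of_equiv e.symm)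

end Groth.Agent.Lib.Helper16.QFD
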