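import Mathlib
import Groth.Prelude.Def_Disc
import Groth.Prelude.Def_QFDual
import Groth.Prelude.Def_EGA4b
import Groth.Agent.Lib.Helper16.QFD3a
import Groth.Agent.Lib.Helper16.QFD9a
import Groth.Agent.Lib.Helper18.FibBridge

/-!
# QFDual: Gorenstein fibre local rings from invertibility of the dualizing module of the fibre
-/

set_option autoImplicit false
set_option linter.style.haveILetI false
set_option linter.unusedSectionVars false
set_option linter.unusedSimpArgs false

universe u
open TensorProduct IsLocalRing QFDual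

namespace Groth.Agent.Lib.Helper16.QFD

section fibres

attribute [local instance] Algebra.TensorProduct.rightAlgebra

variable {A B' B : Type u} [CommRing A] [CommRing B'] [CommRing B] [Algebra A B'] [Algebra B' B]
  [Algebra A B] [IsScalarTower A B' B]

/-- `κ(p) ⊗ B' → κ(p) ⊗ B` -/
@[reducible] noncomputable def fiberAlg (p : Ideal A) [p.IsPrime] :
    Algebra (p.Fiber B') (p.Fiber B) :=
  (Algebra.TensorProduct.map (AlgHom.id p.ResidueField p.ResidueField)
    (IsScalarTower.toAlgHom A B' B)).toRingHom.toAlgebra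

/-- `B' → B → κ(p) ⊗ B` -/
@[reducible] noncomputable def fiberAlg' (p : Ideal A) [p.IsPrime] : Algebra B' (p.Fiber B) :=
  ((algebraMap B (p.Fiber B)).comp (algebraMap B' B)).toAlgebra

set_option maxHeartbeats 800000 in
/-- the fibre of a flat algebra over a finite algebra is flat over the fibre -/
theorem flat_fiber [Module.Flat B' B] (p : Ideal A) [p.IsPrime] :
    letI := fiberAlg (B' := B') (B := B) p
    Module.Flat (p.Fiber B') (p.Fiber B) := by
  letI i1 := fiberAlg (B' := B') (B := B) p
  letI i2 := fiberAlg' (B' := B') (B := B) p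
  have hmap : ∀ (c : p.ResidueField) (b' : B'),
      algebraMap (p.Fiber B') (p.Fiber B) (c ⊗ₜ b') = c ⊗ₜ algebraMap B' B b' := fun _ _ => rfl
  haveI t1 : IsScalarTower B' B (p.Fiber B) := IsScalarTower.of_algebraMap_eq fun _ => rfl
  haveI t2 : IsScalarTower B' (p.Fiber B') (p.Fiber B) :=
    IsScalarTower.of_algebraMap_eq fun _ => rfl
  haveI t3 : IsScalarTower p.ResidueField (p.ResidueField ⊗[A] B') (p.ResidueField ⊗[A] B) :=
    IsScalarTower.of_algebraMap_eq (R := p.ResidueField) (S := p.ResidueField ⊗[A] B')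
      (A := p.ResidueField ⊗[A] B) fun c => by
      change (algebraMap p.ResidueField p.ResidueField c) ⊗ₜ[A] (1 : B) =
        algebraMap (p.ResidueField ⊗[A] B') (p.ResidueField ⊗[A] B)
          ((algebraMap p.ResidueField p.ResidueField c) ⊗ₜ[A] (1 : B'))
      rw [hmap, map_one]
  haveI t4 : IsScalarTower A (p.ResidueField ⊗[A] B') (p.ResidueField ⊗[A] B) :=
    IsScalarTower.of_algebraMap_eq (R := A) (S := p.ResidueField ⊗[A] B')
      (A := p.ResidueField ⊗[A] B) fun a => by
      change (algebraMap A p.ResidueField a) ⊗ₜ[A] (1 : B) =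
        algebraMap (p.ResidueField ⊗[A] B') (p.ResidueField ⊗[A] B)
          ((algebraMap A p.ResidueField a) ⊗ₜ[A] (1 : B'))
      rw [hmap, map_one]
  have h1 : Algebra.IsPushout B' B (p.Fiber B') (p.Fiber B) :=
    (Algebra.IsPushout.comp_iff A B' p.ResidueField (S' := p.Fiber B') (T := B)
      (T' := p.Fiber B)).mp inferInstance
  exact Module.Flat.isBaseChange B' (p.Fiber B') B (p.Fiber B) h1.symm.out

/-- if the dualizing module of the fibre over `p` is invertible, the fibre local rings of `B'` at
the primes coming from `B` over `p` are Gorenstein -/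
theorem gor_fibLocRing_of_invertible_fibre [Module.Finite A B'] [Module.Flat B' B]
    (p : Ideal A) [p.IsPrime] (P : Ideal B) [P.IsPrime] (hp : P.comap (algebraMap A B) = p)
    (hinv : letI := fiberAlg (B' := B') (B := B) p
      Module.Invertible (p.Fiber B) ((p.Fiber B) ⊗[p.Fiber B'] Disc.Omega p.ResidueField (p.Fiber B'))) :
    LocCoh.IsGorensteinLocalRing (EGA4.FibLocRing A B' (P.comap (algebraMap B' B))) := by
  letI i1 := fiberAlg (B' := B') (B := B) p
  haveI := flat_fiber (B' := B') (B := B) p
  obtain ⟨Q₁, hQ₁, hctr⟩ := Groth.Agent.Lib.Helper18.FibBridge.exists_prime_of_comap_eq p P hp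
  haveI := hQ₁
  have hG := gor_of_invertible_field (k := p.ResidueField) (T := p.Fiber B') (B₁ := p.Fiber B)
    hinv Q₁
  obtain ⟨e⟩ := Groth.Agent.Lib.Helper18.FibBridge.nonempty_ringEquiv p
    (Q₁.comap (algebraMap (p.Fiber B') (p.Fiber B)))
  have hG' := Groth.Agent.Lib.Helper2.GK.gor_of_ringEquiv e hG
  refine gor_fibLocRing_congr A B' ?_ hG'
  rw [← hctr]
  change ((Q₁.comap (algebraMap (p.Fiber B') (p.Fiber B))).comap
      (Algebra.TensorProduct.includeRight : B' →ₐ[A] p.Fiber B').toRingHom) =
    (Q₁.comap (Algebra.TensorProduct.includeRight : B →ₐ[A] p.Fiber B).toRingHom).comap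
      (algebraMap B' B)
  rw [Ideal.comap_comap, Ideal.comap_comap]
  rfl

end fibres

end Groth.Agent.Lib.Helper16.QFD
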