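import Mathlib
import Groth.Prelude.Def_Disc
import Groth.Prelude.Def_QFDual
import Groth.Prelude.Def_EGA4b
import Groth.Agent.Lib.Helper16.QFD4
import Groth.Agent.Lib.Helper16.QFD8
import Groth.Agent.Lib.Helper16.QFD9b

/-!
# QFDual: invertibility of the relative dualizing module is a fibrewise condition
-/

set_option autoImplicit false
set_option linter.style.haveILetI false
set_option linter.unusedSectionVars false
set_option linter.unusedSimpArgs false

universe u
open TensorProduct IsLocalRing QFDual

namespace Groth.Agent.Lib.Helper16.QFD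

section fibrewise

attribute [local instance] Algebra.TensorProduct.rightAlgebra

/-- base change of an invertible relative dualizing module -/
theorem invertible_omega_baseChange {A B' A₁ B'₁ B₁ : Type u} (B : Type u) [CommRing A]
    [CommRing B'] [CommRing B] [CommRing A₁] [CommRing B'₁] [CommRing B₁] [IsNoetherianRing A]
    [Algebra A B'] [Algebra B' B] [Algebra A B] [IsScalarTower A B' B] [Module.Flat A B]
    [Module.Finite A B'] [Module.Flat B' B]
    [Algebra A A₁] [Algebra B' B'₁] [Algebra A₁ B'₁] [Algebra A B'₁] [IsScalarTower A A₁ B'₁]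
    [IsScalarTower A B' B'₁] (h : Algebra.IsPushout A A₁ B' B'₁)
    [Algebra B B₁] [Algebra B'₁ B₁] [Algebra B' B₁] [IsScalarTower B' B'₁ B₁]
    [IsScalarTower B' B B₁] (hinv : Module.Invertible B (omega A B' B)) :
    Module.Invertible B₁ (omega A₁ B'₁ B₁) := by
  haveI := hinv
  have h1 : Module.Invertible B₁ (B₁ ⊗[B] (B ⊗[B'] Disc.Omega A B')) := inferInstance
  exact Module.Invertible.congr
    ((AlgebraTensorModule.cancelBaseChange B' B B₁ B₁ (Disc.Omega A B')).trans
      (LinearEquiv.ofBijective (omegaBC (B₁ := B₁) h) (omegaBC_bijective_of_flat B h)))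

variable {A B' B : Type u} [CommRing A] [CommRing B'] [CommRing B] [Algebra A B'] [Algebra B' B]
  [Algebra A B] [IsScalarTower A B' B]

/-- fibrewise criterion, concrete fibres -/
theorem invertible_omega_of_fibres [IsNoetherianRing A] [IsNoetherianRing B]
    [Module.Finite A B'] [Module.Flat A B] [Module.Flat B' B]
    (H : ∀ (p : Ideal A) [p.IsPrime],
      letI := fiberAlg (B' := B') (B := B) p
      Module.Invertible (p.Fiber B)
        ((p.Fiber B) ⊗[p.Fiber B'] Disc.Omega p.ResidueField (p.Fiber B'))) :
    Module.Invertible B (B ⊗[B'] Disc.Omega A B') := by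
  haveI : IsNoetherianRing B' := IsNoetherianRing.of_finite A B'
  haveI : Module.Finite B' (Disc.Omega A B') := finite_omega_of_noetherian A B'
  haveI : Module.FinitePresentation B' (Disc.Omega A B') :=
    Module.finitePresentation_of_finite B' _
  haveI : Module.FinitePresentation B (B ⊗[B'] Disc.Omega A B') := inferInstance
  refine invertible_of_forall_maximal fun P _ => (local_at P).2 ?_
  exact gor_fibLocRing_of_invertible_fibre (P.comap (algebraMap A B)) P rfl (H _)

/-- fibrewise criterion, with the hypothesis quantified over all presentations of the fibres -/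
theorem invertible_omega_of_fibres' [IsNoetherianRing A] [IsNoetherianRing B]
    [Module.Finite A B'] [Module.Flat A B] [Module.Flat B' B]
    (H : ∀ (p : Ideal A) [p.IsPrime] (B'₁ B₁ : Type u) [CommRing B'₁] [CommRing B₁]
      [Algebra B' B'₁] [Algebra p.ResidueField B'₁] [Algebra A B'₁]
      [IsScalarTower A p.ResidueField B'₁] [IsScalarTower A B' B'₁] [Algebra B B₁]
      [Algebra p.ResidueField B₁] [Algebra A B₁] [IsScalarTower A p.ResidueField B₁]
      [IsScalarTower A B B₁] [Algebra B'₁ B₁] [Algebra B' B₁] [IsScalarTower B' B'₁ B₁]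
      [IsScalarTower B' B B₁] [IsScalarTower p.ResidueField B'₁ B₁],
      Algebra.IsPushout A p.ResidueField B' B'₁ → Algebra.IsPushout A p.ResidueField B B₁ →
        Module.Invertible B₁ (QFDual.omega p.ResidueField B'₁ B₁)) :
    Module.Invertible B (B ⊗[B'] Disc.Omega A B') := by
  apply invertible_omega_of_fibres
  intro p _
  letI i1 := fiberAlg (B' := B') (B := B) p
  letI i2 := fiberAlg' (B' := B') (B := B) p
  have hmap : ∀ (c : p.ResidueField) (b' : B'),
      algebraMap (p.Fiber B') (p.Fiber B) (c ⊗ₜ b') = c ⊗ₜ algebraMap B' B b' := fun _ _ => rfl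
  haveI t1 : IsScalarTower B' B (p.Fiber B) := IsScalarTower.of_algebraMap_eq fun _ => rfl
  haveI t2 : IsScalarTower B' (p.Fiber B') (p.Fiber B) :=
    IsScalarTower.of_algebraMap_eq fun _ => rfl
  haveI t3 : IsScalarTower p.ResidueField (p.ResidueField ⊗[A] B') (p.ResidueField ⊗[A] B) :=
    IsScalarTower.of_algebraMap_eq (R := p.ResidueField) (S := p.ResidueField ⊗[A] B')
      (A := p.ResidueField ⊗[A] B) fun c => by
      change (algebraMap p.ResidueField p.ResidueField c) ⊗ₜ[A] (1 : B) =
        algebraMap (p.ResidueField ⊗[A] B') (p.ResidueField ⊗[A] B)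
          ((algebraMap p.ResidueField p.ResidueField c) ⊗ₜ[A] (1 : B'))
      rw [hmap, map_one]
  exact H p (p.Fiber B') (p.Fiber B) inferInstance inferInstance

end fibrewise

end Groth.Agent.Lib.Helper16.QFD
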