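import Mathlib
import Groth.Prelude.Def_WittGrp

/-!
# Quasi-F-splittings give flat liftings modulo p² (truncated Witt vectors) (helper16)
-/

set_option autoImplicit false
universe u

noncomputable section

namespace Groth.Agent.Lib.Helper16.QFS
open WittVector

section Ident

variable {p : ℕ} [hp : Fact p.Prime] {m : ℕ} {R : Type u} [CommRing R] (hpR : (p : R) = 0)

local notation "Vs" => WittGrp.shift p (Nat.le_succ m) (R := R)
local notation "tr" => TruncatedWittVector.truncate (p := p) (R := R) (Nat.le_succ m)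

lemma mul_shift [CharP R p] (w : TruncatedWittVector p (m + 1) R) (x : TruncatedWittVector p m R) :
    w * WittGrp.shift p (Nat.le_succ m) x =
      WittGrp.shift p (Nat.le_succ m) (WittGrp.frob p m hpR
        (TruncatedWittVector.truncate (Nat.le_succ m) w) * x) := by
  obtain ⟨Wb, rfl⟩ := WittVector.truncate_surjective p (m + 1) R w
  obtain ⟨X, rfl⟩ := WittVector.truncate_surjective p m R x
  rw [WittGrp.shift_truncate, TruncatedWittVector.truncate_wittVector_truncate,
    WittGrp.frob_truncate, ← map_mul, ← map_mul, WittGrp.shift_truncate]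
  have h1 : m + 1 - m = 1 := by omega
  rw [h1, Function.iterate_one]
  congr 1
  rw [mul_comm (frobenius Wb) X, WittVector.verschiebung_mul_frobenius, mul_comm]

lemma natCast_mul [CharP R p] (w : TruncatedWittVector p (m + 1) R) :
    (p : TruncatedWittVector p (m + 1) R) * w =
      WittGrp.shift p (Nat.le_succ m) (WittGrp.frob p m hpR
        (TruncatedWittVector.truncate (Nat.le_succ m) w)) := by
  obtain ⟨Wb, rfl⟩ := WittVector.truncate_surjective p (m + 1) R w
  rw [TruncatedWittVector.truncate_wittVector_truncate, WittGrp.frob_truncate,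
    WittGrp.shift_truncate]
  have h1 : m + 1 - m = 1 := by omega
  rw [h1, Function.iterate_one, WittVector.verschiebung_frobenius, mul_comm, map_mul, map_natCast]

lemma frob_truncate_shift [CharP R p] (y : TruncatedWittVector p m R) :
    WittGrp.frob p m hpR (TruncatedWittVector.truncate (Nat.le_succ m)
      (WittGrp.shift p (Nat.le_succ m) y)) = p • y := by
  obtain ⟨Y, rfl⟩ := WittVector.truncate_surjective p m R y
  rw [WittGrp.shift_truncate, TruncatedWittVector.truncate_wittVector_truncate,
    WittGrp.frob_truncate]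
  have h1 : m + 1 - m = 1 := by omega
  rw [h1, Function.iterate_one, WittVector.frobenius_verschiebung, nsmul_eq_mul, mul_comm,
    map_mul, map_natCast]

omit hp in
lemma shift_coeff_zero [Fact p.Prime] (x : TruncatedWittVector p m R) :
    (WittGrp.shift p (Nat.le_succ m) x).coeff 0 = 0 := by
  rw [WittGrp.coeff_shift, dif_neg]
  simp

lemma shift_coeff_succ (x : TruncatedWittVector p m R) (i : Fin m) :
    (WittGrp.shift p (Nat.le_succ m) x).coeff i.succ = x.coeff i := by
  rw [WittGrp.coeff_shift, dif_pos]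
  · congr 1
    ext
    simp
  · simp

lemma shift_injective : Function.Injective (WittGrp.shift p (Nat.le_succ m) (R := R)) := by
  intro x y h
  ext i
  rw [← shift_coeff_succ x i, ← shift_coeff_succ y i, h]

lemma exists_eq_shift {w : TruncatedWittVector p (m + 1) R} (hw : w.coeff 0 = 0) :
    ∃ x : TruncatedWittVector p m R, w = WittGrp.shift p (Nat.le_succ m) x := by
  refine ⟨TruncatedWittVector.mk p fun i => w.coeff i.succ, ?_⟩
  ext i
  refine Fin.cases ?_ (fun j => ?_) i
  · rw [hw, shift_coeff_zero]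
  · rw [shift_coeff_succ, TruncatedWittVector.coeff_mk]

end Ident

section Main

variable {p : ℕ} [hp : Fact p.Prime] {m : ℕ} (hm : 0 < m) {R : Type u} [CommRing R]
  (hpR : (p : R) = 0)
  (σ : TruncatedWittVector p m R →+ R) (h1 : σ 1 = 1)
  (hF : ∀ x y : TruncatedWittVector p m R, σ (WittGrp.frob p m hpR x * y) = x.coeff ⟨0, hm⟩ * σ y)
  (I : Ideal (TruncatedWittVector p (m + 1) R))
  (hI : I = Ideal.span (WittGrp.shift p (Nat.le_succ m) '' {x : TruncatedWittVector p m R | σ x = 0}))

include hF hI in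
lemma mem_I_iff [CharP R p] (w : TruncatedWittVector p (m + 1) R) :
    w ∈ I ↔ ∃ z, σ z = 0 ∧ w = WittGrp.shift p (Nat.le_succ m) z := by
  constructor
  · intro hw
    rw [hI] at hw
    refine Submodule.span_induction ?_ ?_ ?_ ?_ hw
    · rintro _ ⟨z, hz, rfl⟩
      exact ⟨z, hz, rfl⟩
    · exact ⟨0, map_zero σ, (map_zero _).symm⟩
    · rintro x y _ _ ⟨z₁, hz₁, rfl⟩ ⟨z₂, hz₂, rfl⟩
      exact ⟨z₁ + z₂, by rw [map_add, hz₁, hz₂, add_zero], (map_add _ _ _).symm⟩
    · rintro a x _ ⟨z, hz, rfl⟩
      refine ⟨_, ?_, (mul_shift hpR a z)⟩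
      rw [hF, hz, mul_zero]
  · rintro ⟨z, hz, rfl⟩
    rw [hI]
    exact Ideal.subset_span ⟨z, hz, rfl⟩

include h1 hF in
lemma sigma_frob (x : TruncatedWittVector p m R) :
    σ (WittGrp.frob p m hpR x) = x.coeff ⟨0, hm⟩ := by
  have := hF x 1
  rwa [mul_one, h1, mul_one] at this

include hm h1 hF hI in
theorem flat_lifting :
    (∀ w : TruncatedWittVector p (m + 1) R,
        Ideal.Quotient.mk I w ∈ Ideal.span ({(p : TruncatedWittVector p (m + 1) R ⧸ I)} : Set _) ↔
          w.coeff 0 = 0) ∧
    (∀ q : TruncatedWittVector p (m + 1) R ⧸ I,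
        (p : TruncatedWittVector p (m + 1) R ⧸ I) * q = 0 ↔
          q ∈ Ideal.span ({(p : TruncatedWittVector p (m + 1) R ⧸ I)} : Set _)) := by
  rcases subsingleton_or_nontrivial R with hR | hR
  · have hW : Subsingleton (TruncatedWittVector p (m + 1) R) :=
      ⟨fun a b => TruncatedWittVector.ext fun i => Subsingleton.elim _ _⟩
    have hQ : Subsingleton (TruncatedWittVector p (m + 1) R ⧸ I) :=
      ⟨fun a b => by
        obtain ⟨a, rfl⟩ := Ideal.Quotient.mk_surjective a
        obtain ⟨b, rfl⟩ := Ideal.Quotient.mk_surjective b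
        rw [Subsingleton.elim a b]⟩
    refine ⟨fun w => ⟨fun _ => Subsingleton.elim _ _, fun _ => ?_⟩,
      fun q => ⟨fun _ => ?_, fun _ => Subsingleton.elim _ _⟩⟩
    · rw [Subsingleton.elim (Ideal.Quotient.mk I w) 0]; exact zero_mem _
    · rw [Subsingleton.elim q 0]; exact zero_mem _
  have : CharP R p := (CharP.charP_iff_prime_eq_zero hp.out).mpr hpR
  have hmk_p : ∀ u : TruncatedWittVector p (m + 1) R,
      (p : TruncatedWittVector p (m + 1) R ⧸ I) * Ideal.Quotient.mk I u =
        Ideal.Quotient.mk I (WittGrp.shift p (Nat.le_succ m) (WittGrp.frob p m hpR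
          (TruncatedWittVector.truncate (Nat.le_succ m) u))) := by
    intro u
    rw [← natCast_mul hpR u, map_mul, map_natCast]
  have hcoeff0 : ∀ u : TruncatedWittVector p (m + 1) R,
      (TruncatedWittVector.truncate (Nat.le_succ m) u).coeff ⟨0, hm⟩ = u.coeff 0 := by
    intro u
    rw [TruncatedWittVector.coeff_truncate]
    rfl
  -- part (a)
  have hA : ∀ w : TruncatedWittVector p (m + 1) R,
      Ideal.Quotient.mk I w ∈ Ideal.span ({(p : TruncatedWittVector p (m + 1) R ⧸ I)} : Set _) ↔
        w.coeff 0 = 0 := by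
    intro w
    constructor
    · intro hw
      obtain ⟨q', hq'⟩ := Ideal.mem_span_singleton'.1 hw
      obtain ⟨u, rfl⟩ := Ideal.Quotient.mk_surjective q'
      rw [mul_comm, hmk_p u, eq_comm, ← sub_eq_zero, ← map_sub, Ideal.Quotient.eq_zero_iff_mem,
        mem_I_iff hm hpR σ hF I hI] at hq'
      obtain ⟨z, -, hz⟩ := hq'
      have hw' : w = WittGrp.shift p (Nat.le_succ m) (z + WittGrp.frob p m hpR
          (TruncatedWittVector.truncate (Nat.le_succ m) u)) := by
        rw [map_add, ← hz, sub_add_cancel]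
      rw [hw', shift_coeff_zero]
    · intro hw
      obtain ⟨x, rfl⟩ := exists_eq_shift hw
      obtain ⟨u, hu⟩ := TruncatedWittVector.truncate_surjective (p := p) (R := R) (Nat.le_succ m)
        (WittVector.truncate m (teichmuller p (σ x)))
      have hu0 : (TruncatedWittVector.truncate (Nat.le_succ m) u).coeff ⟨0, hm⟩ = σ x := by
        rw [hu, WittVector.coeff_truncate]
        exact WittVector.teichmuller_coeff_zero p (σ x)
      have hz : σ (x - WittGrp.frob p m hpR (TruncatedWittVector.truncate (Nat.le_succ m) u)) = 0 := by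
        rw [map_sub, sigma_frob hm hpR σ h1 hF, hu0, sub_self]
      have hxdec : WittGrp.shift p (Nat.le_succ m) x =
          WittGrp.shift p (Nat.le_succ m)
            (x - WittGrp.frob p m hpR (TruncatedWittVector.truncate (Nat.le_succ m) u)) +
          WittGrp.shift p (Nat.le_succ m)
            (WittGrp.frob p m hpR (TruncatedWittVector.truncate (Nat.le_succ m) u)) := by
        rw [← map_add, sub_add_cancel]
      rw [hxdec, map_add, ← hmk_p u]
      have h0 : Ideal.Quotient.mk I (WittGrp.shift p (Nat.le_succ m)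
          (x - WittGrp.frob p m hpR (TruncatedWittVector.truncate (Nat.le_succ m) u))) = 0 := by
        rw [Ideal.Quotient.eq_zero_iff_mem, mem_I_iff hm hpR σ hF I hI]
        exact ⟨_, hz, rfl⟩
      rw [h0, zero_add]
      exact Ideal.mul_mem_right _ _ (Ideal.mem_span_singleton_self _)
  refine ⟨hA, fun q => ?_⟩
  obtain ⟨w, rfl⟩ := Ideal.Quotient.mk_surjective q
  constructor
  · intro hq
    rw [hmk_p w, Ideal.Quotient.eq_zero_iff_mem, mem_I_iff hm hpR σ hF I hI] at hq
    obtain ⟨z, hz, hzw⟩ := hq
    have h2 := shift_injective hzw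
    rw [(hA w)]
    rw [← hcoeff0 w, ← sigma_frob hm hpR σ h1 hF, h2, hz]
  · intro hq
    obtain ⟨q', hq'⟩ := Ideal.mem_span_singleton'.1 hq
    obtain ⟨u, rfl⟩ := Ideal.Quotient.mk_surjective q'
    rw [← hq', mul_comm (Ideal.Quotient.mk I u), hmk_p u, hmk_p, Ideal.Quotient.eq_zero_iff_mem,
      mem_I_iff hm hpR σ hF I hI]
    refine ⟨_, ?_, rfl⟩
    rw [frob_truncate_shift, map_nsmul, nsmul_eq_mul, hpR, zero_mul]

end Main

end Groth.Agent.Lib.Helper16.QFS
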