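import Mathlib

/-!
# Quotient pushouts and localization at the image prime
-/

set_option autoImplicit false
set_option linter.unusedSectionVars false

universe u

open TensorProduct

namespace Groth.Agent.Lib.Helper16.QInf

section pushout

variable (R C : Type u) [CommRing R] [CommRing C] [Algebra R C] (I : Ideal R)

attribute [local instance] Algebra.TensorProduct.rightAlgebra in
/-- `C / I C` is the pushout of `C` and `R / I` over `R` -/
theorem isPushout_quotient :
    Algebra.IsPushout R C (R ⧸ I) (C ⧸ I.map (algebraMap R C)) := by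
  refine Algebra.IsPushout.of_equiv (R := R) (R' := C) (S := R ⧸ I) (S' := C ⊗[R] (R ⧸ I))
    (Algebra.TensorProduct.quotIdealMapEquivTensorQuot C I).symm ?_
  ext r
  simp only [RingHom.coe_comp, Function.comp_apply]
  change (Algebra.TensorProduct.quotIdealMapEquivTensorQuot C I).symm
    ((1 : C) ⊗ₜ[R] (Ideal.Quotient.mk I r)) = _
  rw [Algebra.TensorProduct.quotIdealMapEquivTensorQuot_symm_tmul,
    Ideal.Quotient.algebraMap_quotient_map_quotient, ← Algebra.algebraMap_eq_smul_one]
  rfl

end pushout

section prime

variable {C : Type u} [CommRing C] (K : Ideal C) (n : Ideal C) [hn : n.IsPrime] (hK : K ≤ n)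

include hK in
theorem isPrime_map_mk : (n.map (Ideal.Quotient.mk K)).IsPrime :=
  Ideal.map_isPrime_of_surjective Ideal.Quotient.mk_surjective (by
    rw [Ideal.mk_ker]
    exact hK)

include hK in
theorem comap_map_mk : (n.map (Ideal.Quotient.mk K)).comap (Ideal.Quotient.mk K) = n := by
  rw [Ideal.comap_map_of_surjective _ Ideal.Quotient.mk_surjective, ← RingHom.ker_eq_comap_bot,
    Ideal.mk_ker]
  exact sup_eq_left.mpr hK

include hK in
theorem algebraMapSubmonoid_primeCompl [(n.map (Ideal.Quotient.mk K)).IsPrime] :
    Algebra.algebraMapSubmonoid (C ⧸ K) n.primeCompl = (n.map (Ideal.Quotient.mk K)).primeCompl := by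
  ext x
  constructor
  · rintro ⟨s, hs, rfl⟩
    intro hmem
    apply hs
    have : s ∈ (n.map (Ideal.Quotient.mk K)).comap (Ideal.Quotient.mk K) := hmem
    rwa [comap_map_mk K n hK] at this
  · intro hx
    obtain ⟨s, rfl⟩ := Ideal.Quotient.mk_surjective x
    refine ⟨s, ?_, rfl⟩
    intro hs
    exact hx (Ideal.mem_map_of_mem _ hs)

variable (Z : Type u) [AddCommGroup Z] [Module (C ⧸ K) Z] [Module C Z] [IsScalarTower C (C ⧸ K) Z]

include hK in
/-- localizing a `C/K`-module at the image prime is localizing it at `n` as a `C`-module -/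
theorem nonempty_localizedModule_equiv [hq : (n.map (Ideal.Quotient.mk K)).IsPrime] :
    Nonempty (LocalizedModule (n.map (Ideal.Quotient.mk K)).primeCompl Z ≃ₗ[C]
      LocalizedModule n.primeCompl Z) := by
  have h2 : IsLocalizedModule (Algebra.algebraMapSubmonoid (C ⧸ K) n.primeCompl)
      (LocalizedModule.mkLinearMap (n.map (Ideal.Quotient.mk K)).primeCompl Z) := by
    rw [algebraMapSubmonoid_primeCompl K n hK]
    infer_instance
  have h3 : IsLocalizedModule n.primeCompl
      ((LocalizedModule.mkLinearMap (n.map (Ideal.Quotient.mk K)).primeCompl Z).restrictScalars C) :=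
    IsLocalizedModule.restrictScalars n.primeCompl _
  exact ⟨IsLocalizedModule.linearEquiv n.primeCompl
    ((LocalizedModule.mkLinearMap (n.map (Ideal.Quotient.mk K)).primeCompl Z).restrictScalars C)
    (LocalizedModule.mkLinearMap n.primeCompl Z)⟩

end prime

end Groth.Agent.Lib.Helper16.QInf
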