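import Mathlib
import Groth.Agent.Lib.Helper16.QS1
import Groth.Agent.Lib.Helper18.FibBridge
import Groth.Agent.Lib.Helper18.SkMod
import Groth.Agent.Lib.Helper18.QGor6

/-!
# The closed fibre local ring has depth two along J (for S18712) (helper16)
-/

set_option autoImplicit false
set_option linter.unusedSectionVars false

universe u

open TensorProduct IsLocalRing

namespace Groth.Agent.Lib.Helper16.QInf

open Groth.Agent.Lib.Helper18.QGor Groth.Agent.Lib.Helper18.Serre

section locQuot

variable {L : Type u} [CommRing L] (I : Ideal L) (P : Ideal (L ⧸ I)) [hP : P.IsPrime]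

theorem algebraMapSubmonoid_primeCompl_comap :
    Algebra.algebraMapSubmonoid (L ⧸ I) (P.comap (Ideal.Quotient.mk I)).primeCompl =
      P.primeCompl := by
  ext x
  constructor
  · rintro ⟨s, hs, rfl⟩
    exact hs
  · intro hx
    obtain ⟨s, rfl⟩ := Ideal.Quotient.mk_surjective x
    exact ⟨s, hx, rfl⟩

/-- the localization of a quotient at a prime is the quotient of the localization -/
theorem nonempty_localization_quotient_equiv :
    Nonempty (Localization.AtPrime P ≃+*
      (Localization.AtPrime (P.comap (Ideal.Quotient.mk I)) ⧸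
        I.map (algebraMap L (Localization.AtPrime (P.comap (Ideal.Quotient.mk I)))))) := by
  have h1 : IsLocalization (Algebra.algebraMapSubmonoid (L ⧸ I)
      (P.comap (Ideal.Quotient.mk I)).primeCompl) (Localization.AtPrime P) := by
    rw [algebraMapSubmonoid_primeCompl_comap I P]
    infer_instance
  exact ⟨(IsLocalization.algEquiv (Algebra.algebraMapSubmonoid (L ⧸ I)
      (P.comap (Ideal.Quotient.mk I)).primeCompl) (Localization.AtPrime P)
      (Localization.AtPrime (P.comap (Ideal.Quotient.mk I)) ⧸
        I.map (algebraMap L (Localization.AtPrime (P.comap (Ideal.Quotient.mk I)))))).toRingEquiv⟩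

end locQuot

section fibLoc

variable (R : Type u) {L : Type u} [CommRing R] [CommRing L] [Algebra R L] (p0 : Ideal R)
  (P : Ideal (L ⧸ p0.map (algebraMap R L))) [hP : P.IsPrime]

/-- the local rings of `L / p L` are the fibre local rings of `L` over `R` -/
theorem nonempty_localization_equiv_fibLocRing
    (hp : (P.comap (Ideal.Quotient.mk (p0.map (algebraMap R L)))).comap (algebraMap R L) = p0) :
    Nonempty (Localization.AtPrime P ≃+*
      EGA4.FibLocRing R L (P.comap (Ideal.Quotient.mk (p0.map (algebraMap R L))))) := by
  obtain ⟨e⟩ := nonempty_localization_quotient_equiv (p0.map (algebraMap R L)) P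
  refine ⟨e.trans (Ideal.quotEquivOfEq ?_)⟩
  rw [hp, Ideal.map_map, ← IsScalarTower.algebraMap_eq]

end fibLoc

section A0

variable (R C : Type u) [CommRing R] [CommRing C] [IsNoetherianRing R] [IsNoetherianRing C]
  [Algebra R C] [Module.Flat R C] (n : Ideal C) [hn : n.IsPrime] (J : Ideal C)

theorem comap_comap_mk_eq (P : Ideal (EGA4.FibLocRing R C n)) [hP : P.IsPrime] :
    (P.comap (Ideal.Quotient.mk ((n.comap (algebraMap R C)).map
      (algebraMap R (Localization.AtPrime n))))).comap (algebraMap R (Localization.AtPrime n)) =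
      n.comap (algebraMap R C) := by
  ext r
  constructor
  · intro hr
    rw [Ideal.mem_comap, Ideal.mem_comap] at hr
    rw [Ideal.mem_comap]
    have hprime : (P.comap (Ideal.Quotient.mk ((n.comap (algebraMap R C)).map
      (algebraMap R (Localization.AtPrime n))))).IsPrime := Ideal.comap_isPrime _ _
    have hle := IsLocalRing.le_maximalIdeal hprime.ne_top
    have h1 : algebraMap R (Localization.AtPrime n) r ∈
        maximalIdeal (Localization.AtPrime n) := hle hr
    rw [IsScalarTower.algebraMap_apply R C (Localization.AtPrime n)] at h1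
    exact (IsLocalization.AtPrime.to_map_mem_maximal_iff (Localization.AtPrime n) n _).mp h1
  · intro hr
    rw [Ideal.mem_comap, Ideal.mem_comap]
    have : Ideal.Quotient.mk ((n.comap (algebraMap R C)).map
        (algebraMap R (Localization.AtPrime n))) (algebraMap R (Localization.AtPrime n) r) = 0 :=
      Ideal.Quotient.eq_zero_iff_mem.mpr (Ideal.mem_map_of_mem _ hr)
    rw [this]
    exact P.zero_mem

variable (hS2 : LocCoh.HasSk 2 (EGA4.FibLocRing R C n) (EGA4.FibLocRing R C n))
  (hcodim : ∀ q : PrimeSpectrum C, J ≤ q.asIdeal →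
    (2 : WithBot ℕ∞) ≤ ringKrullDim (EGA4.FibLocRing R C q.asIdeal))

include hS2 hcodim in
/-- (A0) the closed fibre local ring has depth at least two along `J` -/
theorem two_le_idealDepth_fibLocRing_of_hasSk :
    2 ≤ LocCoh.idealDepth (J.map (algebraMap C (EGA4.FibLocRing R C n)))
      (EGA4.FibLocRing R C n) := by
  have hLn : IsNoetherianRing (Localization.AtPrime n) :=
    IsLocalization.isNoetherianRing n.primeCompl _ inferInstance
  haveI : Module.Flat C (Localization.AtPrime n) := IsLocalization.flat _ n.primeCompl
  haveI : Module.Flat R (Localization.AtPrime n) := Module.Flat.trans R C _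
  have hS2' := (hasSk_self_iff 2).1 hS2
  have := le_idealDepth_of_forall_le_depth (J.map (algebraMap C (EGA4.FibLocRing R C n))) 2
    (EGA4.FibLocRing R C n) (fun P hP hJP => by
      rw [depth_localizedModule_self]
      have h1 := hS2' P
      set Pt := P.comap (Ideal.Quotient.mk ((n.comap (algebraMap R C)).map
        (algebraMap R (Localization.AtPrime n)))) with hPt
      haveI hPtp : Pt.IsPrime := Ideal.comap_isPrime _ _
      obtain ⟨e⟩ := nonempty_localization_equiv_fibLocRing R (n.comap (algebraMap R C)) P
        (comap_comap_mk_eq R C n P)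
      have hdim : ringKrullDim (Localization.AtPrime P) =
          ringKrullDim (EGA4.FibLocRing R (Localization.AtPrime n) Pt) :=
        ringKrullDim_eq_of_ringEquiv e
      have hcomp := Groth.Agent.Lib.Helper18.FibBridge.ringKrullDim_fibLocRing_comp R C
        (Localization.AtPrime n) Pt
      have hJle : J ≤ Pt.comap (algebraMap C (Localization.AtPrime n)) := by
        intro x hx
        rw [Ideal.mem_comap, hPt, Ideal.mem_comap]
        exact hJP (Ideal.mem_map_of_mem _ hx)
      have h2 := hcodim ⟨Pt.comap (algebraMap C (Localization.AtPrime n)), inferInstance⟩ hJle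
      haveI := Groth.Agent.Lib.Helper18.SkMod.isLocalRing_fibLocRing C (Localization.AtPrime n) Pt
      have h3 : (0 : WithBot ℕ∞) ≤ ringKrullDim (EGA4.FibLocRing C (Localization.AtPrime n) Pt) :=
        ringKrullDim_nonneg_of_nontrivial
      have h4 : (2 : WithBot ℕ∞) ≤ (P.height : WithBot ℕ∞) := by
        rw [← IsLocalization.AtPrime.ringKrullDim_eq_height P (Localization.AtPrime P), hdim, hcomp]
        calc (2 : WithBot ℕ∞) = 2 + 0 := by simp
          _ ≤ _ := add_le_add h2 h3
      have h4' : ((2 : ℕ) : WithBot ℕ∞) ≤ (P.height : WithBot ℕ∞) := by exact_mod_cast h4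
      rw [min_eq_left h4'] at h1
      have h5 : ((2 : ℕ) : ℕ∞) ≤ LocCoh.depth (Localization.AtPrime P) (Localization.AtPrime P) :=
        WithBot.coe_le_coe.mp h1
      exact_mod_cast h5)
  exact_mod_cast this

end A0

end Groth.Agent.Lib.Helper16.QInf
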