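import Mathlib
import Groth.Agent.Lib.Helper16.QF5
import Groth.Agent.Lib.Helper16.LocCohDepth

/-!
# Depth two of fibre local rings of a pushout over an Artinian quotient (for S18712) (helper16)
-/

set_option autoImplicit false
set_option linter.unusedSectionVars false

universe u

open TensorProduct IsLocalRing CategoryTheory

namespace Groth.Agent.Lib.Helper16.QInf

open Groth.Agent.Lib.Helper16.Depth Groth.Agent.Lib.Helper16.LC Groth.Agent.Lib.Helper18.QGor
  Groth.Agent.Lib.Helper18.CM Groth.Agent.Lib.Helper16.DDual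

section ofH

variable (A' B' : Type u) [CommRing A'] [CommRing B'] [IsNoetherianRing A'] [IsNoetherianRing B']
  [Algebra A' B'] (JB : Ideal B') (q' : Ideal B') [q'.IsPrime]

/-- depth two of the fibre local ring along `J` from vanishing of local cohomology of the fibre -/
theorem two_le_idealDepth_fibLocRing_of_H
    (hB' : ∀ i, i < 2 → Subsingleton
      (LocCoh.H JB i (B' ⊗[A'] (A' ⧸ q'.comap (algebraMap A' B'))))) :
    2 ≤ LocCoh.idealDepth (JB.map (algebraMap B' (EGA4.FibLocRing A' B' q')))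
      (EGA4.FibLocRing A' B' q') := by
  have hnoeth : IsNoetherianRing (Localization.AtPrime q') :=
    IsLocalization.isNoetherianRing q'.primeCompl _ inferInstance
  haveI hflat : Module.Flat B' (Localization.AtPrime q') := IsLocalization.flat _ q'.primeCompl
  have hL : ∀ i, i < 2 → Subsingleton
      (LocCoh.H (JB.map (algebraMap B' (Localization.AtPrime q'))) i
        (Localization.AtPrime q' ⊗[B'] (B' ⊗[A'] (A' ⧸ q'.comap (algebraMap A' B'))))) := by
    intro i hi
    obtain ⟨e2⟩ := Groth.Agent.Lib.Helper16.DTL.nonempty_H_baseChange_equiv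
      (R := B') (R' := Localization.AtPrime q') JB i
      (B' ⊗[A'] (A' ⧸ q'.comap (algebraMap A' B')))
    haveI := hB' i hi
    exact e2.symm.toEquiv.subsingleton
  let e3 : Localization.AtPrime q' ⊗[B'] (B' ⊗[A'] (A' ⧸ q'.comap (algebraMap A' B')))
      ≃ₗ[Localization.AtPrime q'] EGA4.FibLocRing A' B' q' :=
    (AlgebraTensorModule.cancelBaseChange A' B' (Localization.AtPrime q')
      (Localization.AtPrime q') (A' ⧸ q'.comap (algebraMap A' B'))) ≪≫ₗ
    (Algebra.TensorProduct.quotIdealMapEquivTensorQuot (Localization.AtPrime q')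
      (q'.comap (algebraMap A' B'))).symm.toLinearEquiv
  have hR : ∀ i, i < 2 → Subsingleton
      (LocCoh.H (JB.map (algebraMap B' (Localization.AtPrime q'))) i
        (EGA4.FibLocRing A' B' q')) := fun i hi =>
    subsingleton_H_of_linearEquiv _ e3.symm i (hL i hi)
  have hR' : ∀ i, i < 2 → Subsingleton
      (LocCoh.H ((JB.map (algebraMap B' (Localization.AtPrime q'))).map
        (algebraMap (Localization.AtPrime q') (EGA4.FibLocRing A' B' q'))) i
        (EGA4.FibLocRing A' B' q')) := by
    intro i hi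
    obtain ⟨φ, -⟩ := Groth.Agent.Lib.Helper16.DTL.semiIso_H (R := Localization.AtPrime q')
      (R' := EGA4.FibLocRing A' B' q')
      (JB.map (algebraMap B' (Localization.AtPrime q'))) i
      (EGA4.FibLocRing A' B' q')
    haveI := hR i hi
    exact φ.toEquiv.subsingleton
  have hmap : JB.map (algebraMap B' (EGA4.FibLocRing A' B' q')) =
      (JB.map (algebraMap B' (Localization.AtPrime q'))).map
        (algebraMap (Localization.AtPrime q') (EGA4.FibLocRing A' B' q')) := by
    have h : algebraMap B' (EGA4.FibLocRing A' B' q') =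
        (algebraMap (Localization.AtPrime q') (EGA4.FibLocRing A' B' q')).comp
          (algebraMap B' (Localization.AtPrime q')) := rfl
    rw [h, ← Ideal.map_map]
  rw [hmap]
  exact two_le_idealDepth_of_subsingleton_H _ _ (hR' 0 (by norm_num)) (hR' 1 (by norm_num))

end ofH

section chain

variable (R L : Type u) [CommRing R] [CommRing L] [IsNoetherianRing R] [IsNoetherianRing L]
  [Algebra R L]
  (A' B' : Type u) [CommRing A'] [CommRing B'] [IsNoetherianRing A'] [IsNoetherianRing B']
  [Algebra R A'] [Algebra L B'] [Algebra A' B'] [Algebra R B'] [IsScalarTower R L B']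
  [IsScalarTower R A' B'] [hpo : Algebra.IsPushout R L A' B'] (JL : Ideal L)
  (hsurj : Function.Surjective (algebraMap R A'))
  (p0 : Ideal R) (p' : Ideal A') (hp0 : p'.comap (algebraMap R A') = p0)
  (hH : 2 ≤ LocCoh.idealDepth (JL.map (algebraMap L (L ⧸ p0.map (algebraMap R L))))
    (L ⧸ p0.map (algebraMap R L)))
  (hne : JL.map (algebraMap L (L ⧸ p0.map (algebraMap R L))) ≠ ⊤)

include hsurj hp0 in
/-- `A'/p'` is `R/p0` as an `R`-module -/
theorem nonempty_quot_equiv : Nonempty ((R ⧸ p0) ≃ₗ[R] (A' ⧸ p')) := by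
  let f : R →ₗ[R] (A' ⧸ p') :=
    ((Submodule.mkQ p').restrictScalars R).comp (Algebra.linearMap R A')
  have hf : Function.Surjective f := (Submodule.mkQ_surjective p').comp hsurj
  have hker : LinearMap.ker f = p0 := by
    ext r
    rw [LinearMap.mem_ker, ← hp0, Ideal.mem_comap]
    change Submodule.Quotient.mk (algebraMap R A' r) = 0 ↔ _
    rw [Submodule.Quotient.mk_eq_zero]
  exact ⟨(Submodule.quotEquivOfEq _ _ hker.symm).trans (f.quotKerEquivOfSurjective hf)⟩

include hsurj hp0 hpo in
theorem nonempty_pushout_quot_equiv :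
    Nonempty ((B' ⊗[A'] (A' ⧸ p')) ≃ₗ[L] (L ⧸ p0.map (algebraMap R L))) := by
  obtain ⟨e1⟩ := nonempty_quot_equiv R A' hsurj p0 p' hp0
  exact ⟨(Algebra.IsPushout.cancelBaseChange R L A' B' (A' ⧸ p')) ≪≫ₗ
    (AlgebraTensorModule.congr (LinearEquiv.refl L L) e1.symm) ≪≫ₗ
    (Algebra.TensorProduct.quotIdealMapEquivTensorQuot L p0).symm.toLinearEquiv⟩

include hsurj hp0 hpo hH hne in
/-- (*) vanishing of `H^i_J` of the closed fibre of the pushout, `i < 2` -/
theorem subsingleton_H_pushout_quot (i : ℕ) (hi : i < 2) :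
    Subsingleton (LocCoh.H (JL.map (algebraMap L B')) i (B' ⊗[A'] (A' ⧸ p'))) := by
  have hIM : (JL.map (algebraMap L (L ⧸ p0.map (algebraMap R L)))) •
      (⊤ : Submodule (L ⧸ p0.map (algebraMap R L)) (L ⧸ p0.map (algebraMap R L))) ≠ ⊤ := by
    rw [smul_eq_mul, Ideal.mul_top]
    exact hne
  have h1 : Subsingleton (LocCoh.H (JL.map (algebraMap L (L ⧸ p0.map (algebraMap R L)))) i
      (L ⧸ p0.map (algebraMap R L))) :=
    Groth.Agent.Lib.Helper16.LC.subsingleton_H_of_lt_idealDepth _ _ hIM 2 hH i hi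
  have h2 : Subsingleton (LocCoh.H JL i (L ⧸ p0.map (algebraMap R L))) := by
    obtain ⟨φ, -⟩ := Groth.Agent.Lib.Helper16.DTL.semiIso_H (R := L)
      (R' := L ⧸ p0.map (algebraMap R L)) JL i (L ⧸ p0.map (algebraMap R L))
    exact φ.symm.toEquiv.subsingleton
  obtain ⟨e⟩ := nonempty_pushout_quot_equiv R L A' B' hsurj p0 p' hp0
  have h3 : Subsingleton (LocCoh.H JL i (B' ⊗[A'] (A' ⧸ p'))) :=
    subsingleton_H_of_linearEquiv JL e i h2
  obtain ⟨φ, -⟩ := Groth.Agent.Lib.Helper16.DTL.semiIso_H (R := L) (R' := B') JL i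
    (B' ⊗[A'] (A' ⧸ p'))
  exact φ.toEquiv.subsingleton

end chain

end Groth.Agent.Lib.Helper16.QInf
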