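import Mathlib
import Groth.Agent.Lib.Helper16.QF5
import Groth.Agent.Lib.Helper16.FourTerm

/-!
# The double dual of a base-changed reflexive module is the kernel of the base-changed presentation (for S18712) (helper16)
-/

set_option autoImplicit false
set_option linter.unusedSectionVars false

universe u

open TensorProduct IsLocalRing CategoryTheory

namespace Groth.Agent.Lib.Helper16.QInf

open Groth.Agent.Lib.Helper16.Depth Groth.Agent.Lib.Helper16.LC Groth.Agent.Lib.Helper18.QGor
  Groth.Agent.Lib.Helper18.CM Groth.Agent.Lib.Helper16.DDual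

section retract

variable {C : Type u} [CommRing C] {F E0 E1 : Type u} [AddCommGroup F] [Module C F]
  [AddCommGroup E0] [Module C E0] [AddCommGroup E1] [Module C E1]

/-- from a generalized inverse up to `s`, a retraction of `g` up to `s` -/
theorem exists_retract (g : F →ₗ[C] E0) (h : E0 →ₗ[C] E1) (hg : Function.Injective g)
    (hgh : Function.Exact g h) (K : E1 →ₗ[C] E0) (s : C) (hK : h ∘ₗ K ∘ₗ h = s • h) :
    ∃ r : E0 →ₗ[C] F, (∀ y, g (r y) = s • y - K (h y)) ∧ (∀ x, r (g x) = s • x) := by
  have hmem : ∀ y, (s • LinearMap.id - K ∘ₗ h : E0 →ₗ[C] E0) y ∈ LinearMap.range g := by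
    intro y
    rw [← LinearMap.exact_iff.mp hgh, LinearMap.mem_ker]
    have := LinearMap.congr_fun hK y
    simp only [LinearMap.comp_apply, LinearMap.smul_apply] at this
    simp only [LinearMap.sub_apply, LinearMap.smul_apply, LinearMap.id_apply,
      LinearMap.comp_apply, map_sub, map_smul]
    rw [this, sub_self]
  let e' : E0 →ₗ[C] LinearMap.range g := LinearMap.codRestrict _ _ hmem
  let r : E0 →ₗ[C] F := (LinearEquiv.ofInjective g hg).symm.toLinearMap ∘ₗ e'
  have hgr : ∀ y, g (r y) = s • y - K (h y) := by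
    intro y
    have h1 := (LinearEquiv.ofInjective g hg).apply_symm_apply (e' y)
    have h2 := congrArg Subtype.val h1
    exact h2
  refine ⟨r, hgr, fun x => ?_⟩
  apply hg
  rw [hgr, hgh.apply_apply_eq_zero, map_zero, sub_zero, map_smul]

end retract

section M3

variable {C B' : Type u} [CommRing C] [CommRing B'] [IsNoetherianRing C] [IsNoetherianRing B']
  [Algebra C B'] (J : Ideal C)
  {F : Type u} [AddCommGroup F] [Module C F] [Module.Finite C F]
  {n0 m0 : ℕ} (g : F →ₗ[C] (Fin n0 → C)) (h : (Fin n0 → C) →ₗ[C] (Fin m0 → C))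
  (hg : Function.Injective g) (hgh : Function.Exact g h)
  (hGU : ∀ q : PrimeSpectrum C, ¬ J ≤ q.asIdeal →
    Module.Free (Localization.AtPrime q.asIdeal)
      (LocalizedModule q.asIdeal.primeCompl ((Fin m0 → C) ⧸ LinearMap.range h)))
  {K : Type u} [AddCommGroup K] [Module B' K] [Module.Finite B' K]
  (f : K →ₗ[B'] B' ⊗[C] (Fin n0 → C)) (hf : Function.Injective f)
  (hfu : Function.Exact f (h.baseChange B'))
  (α : B' ⊗[C] F →ₗ[B'] K) (hα : ∀ t, f (α t) = g.baseChange B' t)

include hg hgh hGU in
theorem exists_retract_baseChange (Q : PrimeSpectrum B')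
    (hQ : ¬ J.map (algebraMap C B') ≤ Q.asIdeal) :
    ∃ (s : C) (r : (Fin n0 → C) →ₗ[C] F) (K' : (Fin m0 → C) →ₗ[C] (Fin n0 → C)),
      algebraMap C B' s ∉ Q.asIdeal ∧
      (∀ y, g (r y) = s • y - K' (h y)) ∧ (∀ x, r (g x) = s • x) := by
  have hq : ¬ J ≤ Q.asIdeal.comap (algebraMap C B') :=
    fun hh => hQ (Ideal.map_le_iff_le_comap.mpr hh)
  haveI := hGU ⟨Q.asIdeal.comap (algebraMap C B'), inferInstance⟩ hq
  have hproj : Module.Projective (Localization (Q.asIdeal.comap (algebraMap C B')).primeCompl)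
      (LocalizedModule (Q.asIdeal.comap (algebraMap C B')).primeCompl
        ((Fin m0 → C) ⧸ LinearMap.range h)) := inferInstance
  obtain ⟨s, K', hK'⟩ := Groth.Agent.Lib.Helper16.FourTerm.exists_generalized_inverse
    (Q.asIdeal.comap (algebraMap C B')).primeCompl hproj h (LinearMap.range h).mkQ
    (Submodule.mkQ_surjective _) (LinearMap.exact_map_mkQ_range h)
  obtain ⟨r, hr1, hr2⟩ := exists_retract g h hg hgh K' (s : C) hK'
  exact ⟨s, r, K', s.2, hr1, hr2⟩

include hg hgh hGU hf hα in
theorem support_ker_alpha :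
    Module.support B' (LinearMap.ker α) ⊆
      PrimeSpectrum.zeroLocus ((J.map (algebraMap C B') : Ideal B') : Set B') := by
  apply support_subset_of_forall_exists_smul
  rintro ⟨t, ht⟩ Q hQ
  obtain ⟨s, r, K', hs, hr1, hr2⟩ := exists_retract_baseChange J g h hg hgh hGU Q hQ
  refine ⟨algebraMap C B' s, hs, ?_⟩
  apply Subtype.ext
  rw [Submodule.coe_smul, Submodule.coe_zero, algebraMap_smul]
  have h1 : (r.baseChange B') ∘ₗ (g.baseChange B') =
      (s • LinearMap.id : B' ⊗[C] F →ₗ[B'] B' ⊗[C] F) := by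
    rw [← LinearMap.baseChange_comp]
    have : r ∘ₗ g = s • LinearMap.id := LinearMap.ext hr2
    rw [this, LinearMap.baseChange_smul, LinearMap.baseChange_id]
  have h2 := LinearMap.congr_fun h1 t
  rw [LinearMap.comp_apply, ← hα, LinearMap.mem_ker.mp ht, map_zero, map_zero] at h2
  exact h2.symm

include hg hgh hGU hf hfu hα in
theorem support_coker_alpha :
    Module.support B' (K ⧸ LinearMap.range α) ⊆
      PrimeSpectrum.zeroLocus ((J.map (algebraMap C B') : Ideal B') : Set B') := by
  apply support_subset_of_forall_exists_smul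
  intro t Q hQ
  obtain ⟨x, rfl⟩ := Submodule.Quotient.mk_surjective _ t
  obtain ⟨s, r, K', hs, hr1, hr2⟩ := exists_retract_baseChange J g h hg hgh hGU Q hQ
  refine ⟨algebraMap C B' s, hs, ?_⟩
  rw [← Submodule.Quotient.mk_smul, Submodule.Quotient.mk_eq_zero]
  refine ⟨r.baseChange B' (f x), ?_⟩
  apply hf
  rw [hα, map_smul, algebraMap_smul]
  have h1 : (g.baseChange B') ∘ₗ (r.baseChange B') =
      (s • LinearMap.id - (K'.baseChange B') ∘ₗ (h.baseChange B') :
        B' ⊗[C] (Fin n0 → C) →ₗ[B'] B' ⊗[C] (Fin n0 → C)) := by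
    rw [← LinearMap.baseChange_comp, ← LinearMap.baseChange_comp]
    have : g ∘ₗ r = s • LinearMap.id - K' ∘ₗ h := LinearMap.ext hr1
    rw [this, LinearMap.baseChange_sub, LinearMap.baseChange_smul, LinearMap.baseChange_id]
  have h2 := LinearMap.congr_fun h1 (f x)
  rw [LinearMap.comp_apply, LinearMap.sub_apply, LinearMap.comp_apply,
    hfu.apply_apply_eq_zero, map_zero, sub_zero] at h2
  exact h2

variable (hB2 : 2 ≤ LocCoh.idealDepth (J.map (algebraMap C B')) B')

include hB2 in
theorem ext_subsingleton_of_support (T : Type u) [AddCommGroup T] [Module B' T]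
    [Module.Finite B' T]
    (hT : Module.support B' T ⊆
      PrimeSpectrum.zeroLocus ((J.map (algebraMap C B') : Ideal B') : Set B'))
    (i : ℕ) (hi : i < 2) :
    Subsingleton (Abelian.Ext.{u} (ModuleCat.of B' T) (ModuleCat.of B' B') i) := by
  refine subsingleton_ext_of_support_subset (ModuleCat.of B' B') 2
    (B' ⧸ J.map (algebraMap C B'))
    ((le_idealDepth_iff_ext' (J.map (algebraMap C B')) B' 2).1 (by exact_mod_cast hB2)) T ?_ i hi
  have h0 : Module.support B' (B' ⧸ J.map (algebraMap C B')) =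
      PrimeSpectrum.zeroLocus ((J.map (algebraMap C B') : Ideal B') : Set B') := by
    rw [Module.support_eq_zeroLocus, Ideal.annihilator_quotient]
  rw [h0]
  exact hT

include hg hgh hGU hf hfu hα hB2 in
theorem dualMap_alpha_bijective : Function.Bijective α.dualMap := by
  have h1 := precomp_bijective (J.map (algebraMap C B')) α B'
    (fun T _ _ _ hT i hi => ext_subsingleton_of_support J hB2 T hT i hi)
    (support_ker_alpha J g h hg hgh hGU f hf α hα)
    (support_coker_alpha J g h hg hgh hGU f hf hfu α hα)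
  exact h1

include hg hgh hGU hf hfu hα hB2 in
/-- (M3) the double dual of `B' ⊗ F` is the kernel `K` -/
theorem nonempty_ddual_equiv [Module.IsReflexive B' K] :
    Nonempty (Module.Dual B' (Module.Dual B' (B' ⊗[C] F)) ≃ₗ[B'] K) := by
  have hb := dualMap_alpha_bijective J g h hg hgh hGU f hf hfu α hα hB2
  let L1 := LinearEquiv.ofBijective α.dualMap hb
  exact ⟨L1.dualMap ≪≫ₗ (Module.evalEquiv B' K).symm⟩

end M3

end Groth.Agent.Lib.Helper16.QInf
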