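import Mathlib
import Groth.Agent.Lib.Helper18.QGor10

/-!
# Double duals commute with localization; flatness transfer (for S18712) (helper16)
-/

set_option autoImplicit false
set_option linter.unusedSectionVars false

universe u

open TensorProduct IsLocalRing

namespace Groth.Agent.Lib.Helper16.QInf

open Groth.Agent.Lib.Helper18.QGor

section ddualLoc

variable {C' : Type u} [CommRing C'] [IsNoetherianRing C'] (S : Submonoid C')
  (B' : Type u) [CommRing B'] [Algebra C' B'] [IsLocalization S B']
  (X0 : Type u) [AddCommGroup X0] [Module C' X0] [Module.Finite C' X0]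

/-- localization of the dual, general localization -/
noncomputable def dualLoc' : Module.Dual C' X0 →ₗ[C']
    Module.Dual B' (B' ⊗[C'] X0) :=
  IsLocalizedModule.mapExtendScalars S (TensorProduct.mk C' B' X0 1)
    (Algebra.linearMap C' B') B'

instance : IsLocalizedModule S (dualLoc' S B' X0) := by
  haveI : Module.FinitePresentation C' X0 := Module.finitePresentation_of_finite C' X0
  unfold dualLoc'
  infer_instance

/-- localization of the double dual, general localization -/
noncomputable def ddualLoc' : Module.Dual C' (Module.Dual C' X0) →ₗ[C']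
    Module.Dual B' (Module.Dual B' (B' ⊗[C'] X0)) :=
  haveI : Module.Finite C' (Module.Dual C' X0) := finite_dual (A := C') X0
  IsLocalizedModule.mapExtendScalars S (dualLoc' S B' X0)
    (Algebra.linearMap C' B') B'

instance : IsLocalizedModule S (ddualLoc' S B' X0) := by
  haveI : Module.Finite C' (Module.Dual C' X0) := finite_dual (A := C') X0
  haveI : Module.FinitePresentation C' (Module.Dual C' X0) :=
    Module.finitePresentation_of_finite C' _
  unfold ddualLoc'
  infer_instance

end ddualLoc

section flat

variable {C C' : Type u} [CommRing C] [CommRing C'] [IsNoetherianRing C'] [Algebra C C']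
  (S : Submonoid C')
  (B' : Type u) [CommRing B'] [Algebra C' B'] [Algebra C B'] [IsScalarTower C C' B']
  [IsLocalization S B']
  (A' : Type u) [CommRing A'] [Algebra A' C'] [Algebra A' B'] [IsScalarTower A' C' B']
  (F : Type u) [AddCommGroup F] [Module C F] [Module.Finite C F]

/-- (K10) flatness of the localized double dual passes to the double dual over the localization -/
theorem flat_ddual_of_flat_localized
    (hflat : Module.Flat A'
      (LocalizedModule S (Module.Dual C' (Module.Dual C' (C' ⊗[C] F))))) :
    Module.Flat A' (Module.Dual B' (Module.Dual B' (B' ⊗[C] F))) := by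
  let e1 : LocalizedModule S (Module.Dual C' (Module.Dual C' (C' ⊗[C] F))) ≃ₗ[C']
      Module.Dual B' (Module.Dual B' (B' ⊗[C'] (C' ⊗[C] F))) :=
    IsLocalizedModule.linearEquiv S (LocalizedModule.mkLinearMap S _)
      (ddualLoc' S B' (C' ⊗[C] F))
  let e0 : B' ⊗[C'] (C' ⊗[C] F) ≃ₗ[B'] B' ⊗[C] F :=
    AlgebraTensorModule.cancelBaseChange C C' B' B' F
  let e2 : Module.Dual B' (Module.Dual B' (B' ⊗[C'] (C' ⊗[C] F))) ≃ₗ[B']
      Module.Dual B' (Module.Dual B' (B' ⊗[C] F)) := e0.dualMap.dualMap
  have hfl1 : Module.Flat A' (Module.Dual B' (Module.Dual B' (B' ⊗[C'] (C' ⊗[C] F)))) :=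
    Module.Flat.of_linearEquiv (e1.restrictScalars A').symm
  exact Module.Flat.of_linearEquiv (e2.restrictScalars A').symm

end flat

end Groth.Agent.Lib.Helper16.QInf
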