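import Mathlib
import Groth.Agent.Lib.Helper16.QF5
import Groth.Agent.Lib.Helper18.FibBridge

/-!
# Over an Artinian base, flatness of the kernel gives flatness of the cokernel (for S18712) (helper16)
-/

set_option autoImplicit false
set_option linter.style.haveILetI false
set_option linter.unusedSectionVars false

universe u
open IsLocalRing TensorProduct

namespace Groth.Agent.Lib.Helper16.QInf

open Groth.Agent.Lib.Helper18.QGor Groth.Agent.Lib.Helper18.CM
  Groth.Agent.Lib.Helper16.Depth Groth.Agent.Lib.Helper16.QGlob Groth.Agent.Lib.Helper16.DDual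
  Groth.Agent.Lib.Helper16.QFour

section artin

variable (A : Type u) [CommRing A] [IsArtinianRing A]

theorem depth_localization_eq_zero_of_isArtinianRing (p : Ideal A) [p.IsPrime] :
    LocCoh.depth (Localization.AtPrime p) (Localization.AtPrime p) = 0 := by
  haveI : IsNoetherianRing A := inferInstance
  haveI : IsNoetherianRing (Localization.AtPrime p) :=
    IsLocalization.isNoetherianRing p.primeCompl _ inferInstance
  apply Groth.Agent.Lib.Helper18.FibBridge.depth_eq_zero_of_ringKrullDim_eq_zero
  apply le_antisymm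
  · rw [IsLocalization.AtPrime.ringKrullDim_eq_height p (Localization.AtPrime p)]
    have h1 : (p.height : WithBot ℕ∞) ≤ ringKrullDim A :=
      Ideal.height_le_ringKrullDim_of_ne_top (Ideal.IsPrime.ne_top inferInstance)
    have h2 : ringKrullDim A ≤ 0 := by
      have : Ring.KrullDimLE 0 A := inferInstance
      exact Ring.krullDimLE_iff.mp this
    exact h1.trans h2
  · exact ringKrullDim_nonneg_of_nontrivial

end artin

section K11

variable (A B : Type u) [CommRing A] [CommRing B] [IsArtinianRing A] [IsNoetherianRing B]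
  [Algebra A B] (J : Ideal B)
  (K : Type u) [AddCommGroup K] [Module B K] [Module A K] [IsScalarTower A B K]
  [Module.Finite B K] [Module.Flat A K]

/-- over an Artinian base, a flat module of depth two along `J` has fibre stalks of depth two -/
theorem two_le_idealDepth_fibLocMod_of_flat (hK : 2 ≤ LocCoh.idealDepth J K)
    (q : PrimeSpectrum B) (hJq : J ≤ q.asIdeal) :
    2 ≤ LocCoh.idealDepth (q.asIdeal.map (algebraMap B (EGA4.FibLocRing A B q.asIdeal)))
      (EGA4.FibLocMod A B q.asIdeal K) := by
  haveI : IsNoetherianRing A := inferInstance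
  haveI : Module.Finite B (K ⊗[A] A) :=
    Groth.Agent.Lib.Helper9.finite_tensorProduct_of_finite (R := A) (S := B) (M := K) A
  have h1 : ((2 : ℕ) : ℕ∞) ≤ LocCoh.idealDepth J (K ⊗[A] A) := by
    rw [idealDepth_congr (AlgebraTensorModule.rid A B K) J]
    exact_mod_cast hK
  have h2 := (le_idealDepth_iff_forall_le_depth J (K ⊗[A] A) 2).1 h1 q.asIdeal hJq
  rw [Groth.Agent.Lib.Helper18.ModFib.depth_localizedModule_tensor A B q.asIdeal A K,
    Groth.Agent.Lib.Helper18.Serre.depth_localizedModule_self,
    depth_localization_eq_zero_of_isArtinianRing, zero_add] at h2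
  rw [fib_ideal_eq]
  have := le_idealDepth_map_of_le_idealDepth
    (D := EGA4.FibLocRing A B q.asIdeal) (maximalIdeal (Localization.AtPrime q.asIdeal))
    (EGA4.FibLocMod A B q.asIdeal K) 2 h2
  exact_mod_cast this

end K11

section K12

variable {A B : Type u} [CommRing A] [CommRing B] [IsNoetherianRing A] [IsNoetherianRing B]
  [Algebra A B] [Module.Flat A B] (J : Ideal B)
  (hZJ : ∀ q : PrimeSpectrum B,
    2 ≤ LocCoh.idealDepth (J.map (algebraMap B (EGA4.FibLocRing A B q.asIdeal)))
      (EGA4.FibLocRing A B q.asIdeal))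
  {K E0 E1 G : Type u} [AddCommGroup K] [Module B K] [Module A K] [IsScalarTower A B K]
  [Module.Finite B K]
  [AddCommGroup E0] [Module B E0] [Module A E0] [IsScalarTower A B E0] [Module.Finite B E0]
  [Module.Projective B E0]
  [AddCommGroup E1] [Module B E1] [Module A E1] [IsScalarTower A B E1] [Module.Finite B E1]
  [Module.Projective B E1]
  [AddCommGroup G] [Module B G] [Module A G] [IsScalarTower A B G] [Module.Finite B G]
  (f : K →ₗ[B] E0) (u : E0 →ₗ[B] E1) (v : E1 →ₗ[B] G)
  (hf : Function.Injective f) (hfu : Function.Exact f u) (huv : Function.Exact u v)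
  (hv : Function.Surjective v)
  (hGU : ∀ q : PrimeSpectrum B, ¬ J ≤ q.asIdeal →
    Module.Free (Localization.AtPrime q.asIdeal) (LocalizedModule q.asIdeal.primeCompl G))

include hZJ hf hfu huv hv hGU in
/-- flatness of the cokernel from depth two of the fibre stalks of the kernel at primes over `J` -/
theorem flat_G_of_maxDepth
    (hs : ∀ q : PrimeSpectrum B, J ≤ q.asIdeal →
      2 ≤ LocCoh.idealDepth (q.asIdeal.map (algebraMap B (EGA4.FibLocRing A B q.asIdeal)))
        (EGA4.FibLocMod A B q.asIdeal K)) : Module.Flat A G := by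
  haveI : Module.Flat A E0 := Module.Flat.trans A B E0
  haveI : Module.Flat A E1 := Module.Flat.trans A B E1
  have h0J : ∀ q : PrimeSpectrum B,
      2 ≤ LocCoh.idealDepth (J.map (algebraMap B (EGA4.FibLocRing A B q.asIdeal)))
        (EGA4.FibLocMod A B q.asIdeal E0) := fun q => by
    exact_mod_cast le_idealDepth_fibLocMod_of_projective A B q.asIdeal E0 _ 2
      (by exact_mod_cast hZJ q)
  have h1J : ∀ q : PrimeSpectrum B,
      1 ≤ LocCoh.idealDepth (J.map (algebraMap B (EGA4.FibLocRing A B q.asIdeal)))
        (EGA4.FibLocMod A B q.asIdeal E1) := fun q => by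
    exact_mod_cast le_idealDepth_fibLocMod_of_projective A B q.asIdeal E1 _ 1
      (by exact_mod_cast le_trans (by norm_num) (hZJ q))
  have hmono : ∀ q : PrimeSpectrum B, J ≤ q.asIdeal →
      J.map (algebraMap B (EGA4.FibLocRing A B q.asIdeal)) ≤
        q.asIdeal.map (algebraMap B (EGA4.FibLocRing A B q.asIdeal)) :=
    fun q h => Ideal.map_mono h
  have h0 : ∀ q : PrimeSpectrum B, J ≤ q.asIdeal →
      2 ≤ LocCoh.idealDepth (q.asIdeal.map (algebraMap B (EGA4.FibLocRing A B q.asIdeal)))
        (EGA4.FibLocMod A B q.asIdeal E0) := fun q hq => by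
    exact_mod_cast le_idealDepth_of_ideal_le _ (hmono q hq) 2 (by exact_mod_cast h0J q)
  have h1 : ∀ q : PrimeSpectrum B, J ≤ q.asIdeal →
      1 ≤ LocCoh.idealDepth (q.asIdeal.map (algebraMap B (EGA4.FibLocRing A B q.asIdeal)))
        (EGA4.FibLocMod A B q.asIdeal E1) := fun q hq => by
    exact_mod_cast le_idealDepth_of_ideal_le _ (hmono q hq) 1 (by exact_mod_cast h1J q)
  have hGU' : ∀ q : PrimeSpectrum B, ¬ J ≤ q.asIdeal → FlatCA.FlatAt A q.asIdeal G := by
    intro q hq
    haveI := hGU q hq
    exact Module.Flat.trans A (Localization.AtPrime q.asIdeal)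
      (LocalizedModule q.asIdeal.primeCompl G)
  have hs' : ∀ q : PrimeSpectrum B, (1 : B) ∉ q.asIdeal → (J ≤ q.asIdeal →
      2 ≤ LocCoh.idealDepth (q.asIdeal.map (algebraMap B (EGA4.FibLocRing A B q.asIdeal)))
        (EGA4.FibLocMod A B q.asIdeal K)) := fun q _ hq => hs q hq
  have hall := flatAt_of_forall_basicOpen J f u v hf hfu huv hv hGU' h0 h1 1 hs'
  refine Module.flat_of_isLocalized_maximal B G (fun P _ => LocalizedModule P.primeCompl G)
    (fun P _ => LocalizedModule.mkLinearMap P.primeCompl G) (fun P hP => ?_)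
  exact hall ⟨P, hP.isPrime⟩ (by
    intro h1
    exact hP.ne_top ((Ideal.eq_top_iff_one _).mpr h1))

end K12

section K12'

variable {A B : Type u} [CommRing A] [CommRing B] [IsArtinianRing A] [IsNoetherianRing B]
  [Algebra A B] [Module.Flat A B] (J : Ideal B)
  (hB2 : 2 ≤ LocCoh.idealDepth J B)
  (hZJ : ∀ q : PrimeSpectrum B,
    2 ≤ LocCoh.idealDepth (J.map (algebraMap B (EGA4.FibLocRing A B q.asIdeal)))
      (EGA4.FibLocRing A B q.asIdeal))
  {K E0 E1 G : Type u} [AddCommGroup K] [Module B K] [Module A K] [IsScalarTower A B K]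
  [Module.Finite B K]
  [AddCommGroup E0] [Module B E0] [Module A E0] [IsScalarTower A B E0] [Module.Finite B E0]
  [Module.Projective B E0]
  [AddCommGroup E1] [Module B E1] [Module A E1] [IsScalarTower A B E1] [Module.Finite B E1]
  [Module.Projective B E1]
  [AddCommGroup G] [Module B G] [Module A G] [IsScalarTower A B G] [Module.Finite B G]
  (f : K →ₗ[B] E0) (u : E0 →ₗ[B] E1) (v : E1 →ₗ[B] G)
  (hf : Function.Injective f) (hfu : Function.Exact f u) (huv : Function.Exact u v)
  (hv : Function.Surjective v)
  (hGU : ∀ q : PrimeSpectrum B, ¬ J ≤ q.asIdeal →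
    Module.Free (Localization.AtPrime q.asIdeal) (LocalizedModule q.asIdeal.primeCompl G))

include hB2 hZJ hf hfu huv hv hGU in
/-- over an Artinian base: flatness of the kernel gives flatness of the cokernel -/
theorem flat_G_of_flat_K [Module.Flat A K] : Module.Flat A G := by
  haveI : IsNoetherianRing A := inferInstance
  have hK := (isReflexive_and_two_le_idealDepth_K (K := K) J hB2 f u v
    hf hfu huv hv hGU).2
  exact flat_G_of_maxDepth J hZJ f u v hf hfu huv hv hGU
    (fun q hq => two_le_idealDepth_fibLocMod_of_flat A B J K hK q hq)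

end K12'

end Groth.Agent.Lib.Helper16.QInf
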