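import Mathlib
import Groth.Agent.Lib.Helper16.QS3
import Groth.Agent.Lib.Helper16.QS4
import Groth.Agent.Lib.Helper16.QS5
import Groth.Agent.Lib.Helper16.QS6

/-!
# The level theorem: flatness of the base-changed cokernel over an Artinian quotient (for S18712) (helper16)
-/

set_option autoImplicit false
set_option linter.style.haveILetI false
set_option linter.unusedSectionVars false

universe u
open IsLocalRing TensorProduct

namespace Groth.Agent.Lib.Helper16.QInf

open Groth.Agent.Lib.Helper18.QGor Groth.Agent.Lib.Helper18.CM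
  Groth.Agent.Lib.Helper16.Depth Groth.Agent.Lib.Helper16.QGlob Groth.Agent.Lib.Helper16.DDual
  Groth.Agent.Lib.Helper16.QFour

section level

variable (R C : Type u) [CommRing R] [CommRing C] [IsNoetherianRing R] [IsNoetherianRing C]
  [Algebra R C] [Module.Flat R C] (n : Ideal C) [hn : n.IsPrime] (J : Ideal C)
  {F : Type u} [AddCommGroup F] [Module C F] [Module.Finite C F]
  {n0 m0 : ℕ} (g : F →ₗ[C] (Fin n0 → C)) (h : (Fin n0 → C) →ₗ[C] (Fin m0 → C))
  (hg : Function.Injective g) (hgh : Function.Exact g h)
  (hGU : ∀ q : PrimeSpectrum C, ¬ J ≤ q.asIdeal →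
    Module.Free (Localization.AtPrime q.asIdeal)
      (LocalizedModule q.asIdeal.primeCompl ((Fin m0 → C) ⧸ LinearMap.range h)))
  (hA0 : 2 ≤ LocCoh.idealDepth (J.map (algebraMap C (EGA4.FibLocRing R C n)))
    (EGA4.FibLocRing R C n))
  (hne : J.map (algebraMap C (EGA4.FibLocRing R C n)) ≠ ⊤)
  (A' : Type u) [CommRing A'] [IsArtinianRing A'] [Algebra R A']
  (hsurj : Function.Surjective (algebraMap R A'))
  (C' : Type u) [CommRing C'] [IsNoetherianRing C'] [Algebra C C'] [Algebra A' C']
  (q' : Ideal C') [hq' : q'.IsPrime]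
  (B' : Type u) [CommRing B'] [IsNoetherianRing B'] [Algebra C' B']
  [hloc : IsLocalization q'.primeCompl B']
  [Algebra (Localization.AtPrime n) B'] [Algebra C B'] [Algebra A' B'] [Algebra R B']
  [IsScalarTower R (Localization.AtPrime n) B'] [IsScalarTower R A' B']
  [IsScalarTower C (Localization.AtPrime n) B'] [IsScalarTower C C' B']
  [IsScalarTower A' C' B']
  [hpo : Algebra.IsPushout R (Localization.AtPrime n) A' B']
  (hflatY : Module.Flat A'
    (LocalizedModule q'.primeCompl (Module.Dual C' (Module.Dual C' (C' ⊗[C] F)))))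
  (hcomap : ∀ Q : Ideal B', Q.IsPrime →
    (Q.comap (algebraMap A' B')).comap (algebraMap R A') = n.comap (algebraMap R C))

include hg hgh hGU hA0 hne hsurj hflatY hcomap hpo hloc in
/-- the level theorem: over the Artinian quotient `A'`, the base change of the cokernel to the
local ring `B'` of the pushout is flat -/
theorem flat_baseChange_coker :
    Module.Flat A' (B' ⊗[C] ((Fin m0 → C) ⧸ LinearMap.range h)) := by
  haveI : IsNoetherianRing A' := inferInstance
  have hLn : IsNoetherianRing (Localization.AtPrime n) :=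
    IsLocalization.isNoetherianRing n.primeCompl _ inferInstance
  haveI : Module.Flat C (Localization.AtPrime n) := IsLocalization.flat _ n.primeCompl
  haveI : Module.Flat R (Localization.AtPrime n) := Module.Flat.trans R C _
  haveI hflat : Module.Flat A' B' :=
    Groth.Agent.Lib.Helper16.QFour.flat_pushout R (Localization.AtPrime n) A' B'
  set JL : Ideal (Localization.AtPrime n) := J.map (algebraMap C (Localization.AtPrime n))
    with hJL
  have hJB : J.map (algebraMap C B') = JL.map (algebraMap (Localization.AtPrime n) B') := by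
    rw [hJL, Ideal.map_map, ← IsScalarTower.algebraMap_eq]
  have hJR : J.map (algebraMap C (EGA4.FibLocRing R C n)) =
      JL.map (algebraMap (Localization.AtPrime n) (EGA4.FibLocRing R C n)) := by
    rw [hJL, Ideal.map_map, ← IsScalarTower.algebraMap_eq]
  have hZJ : ∀ Q : PrimeSpectrum B',
      2 ≤ LocCoh.idealDepth
        ((J.map (algebraMap C B')).map (algebraMap B' (EGA4.FibLocRing A' B' Q.asIdeal)))
        (EGA4.FibLocRing A' B' Q.asIdeal) := by
    intro Q
    apply two_le_idealDepth_fibLocRing_of_H A' B' (J.map (algebraMap C B')) Q.asIdeal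
    intro i hi
    rw [hJB]
    have hH : 2 ≤ LocCoh.idealDepth (JL.map (algebraMap (Localization.AtPrime n)
        (Localization.AtPrime n ⧸ (n.comap (algebraMap R C)).map
          (algebraMap R (Localization.AtPrime n)))))
        (Localization.AtPrime n ⧸ (n.comap (algebraMap R C)).map
          (algebraMap R (Localization.AtPrime n))) := by
      rw [← hJR]; exact hA0
    have hne' : JL.map (algebraMap (Localization.AtPrime n)
        (Localization.AtPrime n ⧸ (n.comap (algebraMap R C)).map
          (algebraMap R (Localization.AtPrime n)))) ≠ ⊤ := by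
      rw [← hJR]; exact hne
    exact subsingleton_H_pushout_quot R (Localization.AtPrime n) A' B' JL hsurj
      (n.comap (algebraMap R C)) (Q.asIdeal.comap (algebraMap A' B'))
      (hcomap Q.asIdeal Q.2) hH hne' i hi
  have hZ : ∀ Q : PrimeSpectrum B', J.map (algebraMap C B') ≤ Q.asIdeal →
      2 ≤ LocCoh.idealDepth (Q.asIdeal.map (algebraMap B' (EGA4.FibLocRing A' B' Q.asIdeal)))
        (EGA4.FibLocRing A' B' Q.asIdeal) := fun Q hQ => by
    have hmono : (J.map (algebraMap C B')).map (algebraMap B' (EGA4.FibLocRing A' B' Q.asIdeal)) ≤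
        Q.asIdeal.map (algebraMap B' (EGA4.FibLocRing A' B' Q.asIdeal)) := Ideal.map_mono hQ
    have h2 : ((2 : ℕ) : ℕ∞) ≤ LocCoh.idealDepth
        ((J.map (algebraMap C B')).map (algebraMap B' (EGA4.FibLocRing A' B' Q.asIdeal)))
        (EGA4.FibLocRing A' B' Q.asIdeal) := by exact_mod_cast hZJ Q
    have h3 := le_idealDepth_of_ideal_le (EGA4.FibLocRing A' B' Q.asIdeal) hmono 2 h2
    exact_mod_cast h3
  have hB2 : 2 ≤ LocCoh.idealDepth (J.map (algebraMap C B')) B' :=
    Groth.Agent.Lib.Helper16.DDual.two_le_idealDepth_self A' B' (J.map (algebraMap C B')) hZ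
  have hGU' : ∀ Q : PrimeSpectrum B', ¬ J.map (algebraMap C B') ≤ Q.asIdeal →
      Module.Free (Localization.AtPrime Q.asIdeal)
        (LocalizedModule Q.asIdeal.primeCompl
          (B' ⊗[C] ((Fin m0 → C) ⧸ LinearMap.range h))) := by
    intro Q hQ
    have hq : ¬ J ≤ Q.asIdeal.comap (algebraMap C B') :=
      fun hh => hQ (Ideal.map_le_iff_le_comap.mpr hh)
    exact Groth.Agent.Lib.Helper16.DDual.free_localized_baseChange _ Q.asIdeal
      (hGU ⟨Q.asIdeal.comap (algebraMap C B'), inferInstance⟩ hq)
  have hsub := Submodule.injective_subtype (LinearMap.ker (h.baseChange B'))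
  have hfu := LinearMap.exact_subtype_ker_map (h.baseChange B')
  have huv := Groth.Agent.Lib.Helper16.QFour.baseChange_exact B' h (LinearMap.range h).mkQ
    (LinearMap.exact_map_mkQ_range h) (Submodule.mkQ_surjective _)
  have hv := Groth.Agent.Lib.Helper16.QFour.baseChange_surjective B' (LinearMap.range h).mkQ
    (Submodule.mkQ_surjective _)
  have hii := Groth.Agent.Lib.Helper16.QFour.isReflexive_and_two_le_idealDepth_K
    (K := LinearMap.ker (h.baseChange B')) (J.map (algebraMap C B')) hB2
    (LinearMap.ker (h.baseChange B')).subtype (h.baseChange B')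
    ((LinearMap.range h).mkQ.baseChange B') hsub hfu huv hv hGU'
  haveI := hii.1
  have hmemK : ∀ t, g.baseChange B' t ∈ LinearMap.ker (h.baseChange B') := by
    intro t
    rw [LinearMap.mem_ker, ← LinearMap.comp_apply, ← LinearMap.baseChange_comp,
      hgh.linearMap_comp_eq_zero, LinearMap.baseChange_zero, LinearMap.zero_apply]
  obtain ⟨e⟩ := nonempty_ddual_equiv (K := LinearMap.ker (h.baseChange B')) J g h hg hgh hGU
    (LinearMap.ker (h.baseChange B')).subtype hsub hfu
    (LinearMap.codRestrict _ (g.baseChange B') hmemK) (fun t => rfl) hB2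
  haveI hflatD : Module.Flat A' (Module.Dual B' (Module.Dual B' (B' ⊗[C] F))) :=
    flat_ddual_of_flat_localized q'.primeCompl B' A' F hflatY
  haveI hflatK : Module.Flat A' (LinearMap.ker (h.baseChange B')) :=
    Module.Flat.of_linearEquiv (e.symm.restrictScalars A')
  exact flat_G_of_flat_K (A := A') (B := B') (K := LinearMap.ker (h.baseChange B'))
    (J.map (algebraMap C B')) hB2 hZJ
    (LinearMap.ker (h.baseChange B')).subtype (h.baseChange B')
    ((LinearMap.range h).mkQ.baseChange B') hsub hfu huv hv hGU'

end level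

end Groth.Agent.Lib.Helper16.QInf
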