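import Mathlib
import Groth.Agent.Lib.Helper16.QS1
import Groth.Agent.Lib.Helper16.QS7
import Groth.Agent.Lib.Helper18.QGor2
import Groth.Agent.Lib.Helper9.FlatCrit2

/-!
# The per-level flatness statement over R/m^k (for S18712) (helper16)
-/

set_option autoImplicit false
set_option linter.style.haveILetI false
set_option linter.unusedSectionVars false

universe u
open IsLocalRing TensorProduct

namespace Groth.Agent.Lib.Helper16.QInf

section K13

variable (R C : Type u) [CommRing R] [CommRing C] [Algebra R C] (n : Ideal C) [hn : n.IsPrime]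
  (G : Type u) [AddCommGroup G] [Module C G] [Module R G] [IsScalarTower R C G]
  (A' B' : Type u) [CommRing A'] [CommRing B'] [Algebra R A']
  [Algebra (Localization.AtPrime n) B'] [Algebra C B'] [Algebra A' B'] [Algebra R B']
  [IsScalarTower R (Localization.AtPrime n) B'] [IsScalarTower R A' B']
  [IsScalarTower C (Localization.AtPrime n) B']
  [hpo : Algebra.IsPushout R (Localization.AtPrime n) A' B']

include hpo in
/-- (K13) `B' ⊗_C G` is `A' ⊗_R G_n` -/
theorem flat_tensor_localized_of_flat (hfl : Module.Flat A' (B' ⊗[C] G)) :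
    Module.Flat A' (A' ⊗[R] LocalizedModule n.primeCompl G) := by
  let e1 : B' ⊗[C] G ≃ₗ[B'] B' ⊗[Localization.AtPrime n] (Localization.AtPrime n ⊗[C] G) :=
    (AlgebraTensorModule.cancelBaseChange C (Localization.AtPrime n) B' B' G).symm
  let e2 : Localization.AtPrime n ⊗[C] G ≃ₗ[Localization.AtPrime n]
      LocalizedModule n.primeCompl G :=
    (IsLocalizedModule.isBaseChange n.primeCompl (Localization.AtPrime n)
      (LocalizedModule.mkLinearMap n.primeCompl G)).equiv
  let e3 : B' ⊗[Localization.AtPrime n] (Localization.AtPrime n ⊗[C] G) ≃ₗ[B']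
      B' ⊗[Localization.AtPrime n] LocalizedModule n.primeCompl G :=
    AlgebraTensorModule.congr (LinearEquiv.refl B' B') e2
  haveI : Algebra.IsPushout R A' (Localization.AtPrime n) B' := hpo.symm
  let e4 : B' ⊗[Localization.AtPrime n] LocalizedModule n.primeCompl G ≃ₗ[A']
      A' ⊗[R] LocalizedModule n.primeCompl G :=
    Algebra.IsPushout.cancelBaseChange R A' (Localization.AtPrime n) B'
      (LocalizedModule n.primeCompl G)
  exact Module.Flat.of_linearEquiv (((e1 ≪≫ₗ e3).restrictScalars A') ≪≫ₗ e4).symm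

end K13

section concrete

/-- the local ring of the pushout `C / I C` at the image of `n`, as a quotient of `C_n` -/
abbrev LevelRing (R C : Type u) [CommRing R] [CommRing C] [Algebra R C] (n : Ideal C)
    [n.IsPrime] (I : Ideal R) : Type u :=
  Localization.AtPrime n ⧸ (I.map (algebraMap R C)).map (algebraMap C (Localization.AtPrime n))

variable (R C : Type u) [CommRing R] [CommRing C] [IsNoetherianRing R] [IsLocalRing R]
  [IsNoetherianRing C] [Algebra R C] [Module.Flat R C] (n : Ideal C) [hn : n.IsPrime]
  (hnm : (maximalIdeal R).map (algebraMap R C) ≤ n) (J : Ideal C)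
  {F : Type u} [AddCommGroup F] [Module C F] [Module.Finite C F]
  {n0 m0 : ℕ} (g : F →ₗ[C] (Fin n0 → C)) (h : (Fin n0 → C) →ₗ[C] (Fin m0 → C))
  (hg : Function.Injective g) (hgh : Function.Exact g h)
  (hGU : ∀ q : PrimeSpectrum C, ¬ J ≤ q.asIdeal →
    Module.Free (Localization.AtPrime q.asIdeal)
      (LocalizedModule q.asIdeal.primeCompl ((Fin m0 → C) ⧸ LinearMap.range h)))
  (hA0 : 2 ≤ LocCoh.idealDepth (J.map (algebraMap C (EGA4.FibLocRing R C n)))
    (EGA4.FibLocRing R C n))
  (hne : J.map (algebraMap C (EGA4.FibLocRing R C n)) ≠ ⊤)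
  (hI : ∀ (A' : Type u) [CommRing A'] [IsArtinianRing A'] [IsLocalRing A'] [Algebra R A'],
    Function.Surjective (algebraMap R A') →
    ∀ (C' : Type u) [CommRing C'] [IsNoetherianRing C'] [Algebra C C'] [Algebra A' C']
      [Algebra R C'] [IsScalarTower R C C'] [IsScalarTower R A' C'],
      Algebra.IsPushout R C A' C' →
      ∀ q' : PrimeSpectrum C', q'.asIdeal.comap (algebraMap C C') = n →
        FlatCA.FlatAt A' q'.asIdeal (Module.Dual C' (Module.Dual C' (C' ⊗[C] F))))

include hnm in
theorem comap_eq_maximalIdeal : n.comap (algebraMap R C) = maximalIdeal R := by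
  apply IsLocalRing.eq_maximalIdeal
  have hprime : (n.comap (algebraMap R C)).IsPrime := Ideal.comap_isPrime _ _
  exact (IsLocalRing.maximalIdeal.isMaximal R).eq_of_le hprime.ne_top
    (Ideal.map_le_iff_le_comap.mp hnm) ▸ IsLocalRing.maximalIdeal.isMaximal R

include hnm hg hgh hGU hA0 hne hI in
/-- the per-level statement: `G_n / m^k G_n` is flat over `R / m^k` -/
theorem injOnTorsion_level (k : ℕ) (hk : 0 < k) :
    Groth.Agent.Lib.Helper9.InjOnTorsion R (maximalIdeal R ^ k)
      (LocalizedModule n.primeCompl ((Fin m0 → C) ⧸ LinearMap.range h)) := by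
  obtain ⟨hloc, hart, -⟩ :=
    Groth.Agent.Lib.Helper18.QGor.isArtinianRing_quotient_pow (A := R) k hk
  set I : Ideal R := maximalIdeal R ^ k with hIdef
  have hIm : I ≤ maximalIdeal R := Ideal.pow_le_self hk.ne'
  have hICn : I.map (algebraMap R C) ≤ n := (Ideal.map_mono hIm).trans hnm
  haveI hq'prime : (n.map (Ideal.Quotient.mk (I.map (algebraMap R C)))).IsPrime :=
    isPrime_map_mk _ n hICn
  have hpo1 : Algebra.IsPushout R C (R ⧸ I) (C ⧸ I.map (algebraMap R C)) :=
    isPushout_quotient R C I
  have hflatY := hI (R ⧸ I) Ideal.Quotient.mk_surjective (C ⧸ I.map (algebraMap R C)) hpo1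
    ⟨n.map (Ideal.Quotient.mk (I.map (algebraMap R C))), hq'prime⟩
    (comap_map_mk _ n hICn)
  -- the local ring of the pushout
  letI algA'B : Algebra (R ⧸ I)
      (LevelRing R C n I) :=
    ((algebraMap (C ⧸ I.map (algebraMap R C))
      (LevelRing R C n I)).comp
      (algebraMap (R ⧸ I) (C ⧸ I.map (algebraMap R C)))).toAlgebra
  haveI t1 : IsScalarTower (R ⧸ I) (C ⧸ I.map (algebraMap R C))
      (LevelRing R C n I) :=
    IsScalarTower.of_algebraMap_eq (fun _ => rfl)
  haveI t2 : IsScalarTower R (R ⧸ I)
      (LevelRing R C n I) := by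
    apply IsScalarTower.of_algebraMap_eq
    intro r
    change _ = algebraMap (C ⧸ I.map (algebraMap R C)) (LevelRing R C n I)
      (algebraMap (R ⧸ I) (C ⧸ I.map (algebraMap R C)) (algebraMap R (R ⧸ I) r))
    rw [← IsScalarTower.algebraMap_apply R (R ⧸ I) (C ⧸ I.map (algebraMap R C)),
      IsScalarTower.algebraMap_apply R C (C ⧸ I.map (algebraMap R C)),
      ← IsScalarTower.algebraMap_apply C (C ⧸ I.map (algebraMap R C)),
      ← IsScalarTower.algebraMap_apply R C]
  haveI hlocB : IsLocalization (n.map (Ideal.Quotient.mk (I.map (algebraMap R C)))).primeCompl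
      (LevelRing R C n I) := by
    rw [← algebraMapSubmonoid_primeCompl _ n hICn]
    infer_instance
  haveI hpo2 : Algebra.IsPushout R (Localization.AtPrime n) (R ⧸ I)
      (LevelRing R C n I) := by
    haveI := isPushout_quotient R (Localization.AtPrime n) I
    have hIeq : I.map (algebraMap R (Localization.AtPrime n)) =
        (I.map (algebraMap R C)).map (algebraMap C (Localization.AtPrime n)) := by
      rw [Ideal.map_map, ← IsScalarTower.algebraMap_eq]
    refine Algebra.IsPushout.of_equiv
      (R := R) (R' := Localization.AtPrime n) (S := R ⧸ I)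
      (S' := Localization.AtPrime n ⧸ I.map (algebraMap R (Localization.AtPrime n)))
      (Ideal.quotientEquivAlgOfEq (Localization.AtPrime n) hIeq) ?_
    apply Ideal.Quotient.ringHom_ext
    ext r
    simp only [RingHom.coe_comp, Function.comp_apply]
    change (Ideal.quotientEquivAlgOfEq (Localization.AtPrime n) hIeq)
      (algebraMap (R ⧸ I) (Localization.AtPrime n ⧸ I.map (algebraMap R (Localization.AtPrime n)))
        (Ideal.Quotient.mk I r)) =
      algebraMap (C ⧸ I.map (algebraMap R C)) (LevelRing R C n I)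
        (algebraMap (R ⧸ I) (C ⧸ I.map (algebraMap R C)) (Ideal.Quotient.mk I r))
    simp only [Ideal.Quotient.algebraMap_quotient_map_quotient, Ideal.quotientEquivAlgOfEq_mk]
    rw [IsScalarTower.algebraMap_apply R C (Localization.AtPrime n)]
  have hcomap : ∀ Q : Ideal (LevelRing R C n I), Q.IsPrime →
      (Q.comap (algebraMap (R ⧸ I) _)).comap (algebraMap R (R ⧸ I)) =
        n.comap (algebraMap R C) := by
    intro Q hQ
    rw [comap_eq_maximalIdeal R C n hnm]
    have hprime : ((Q.comap (algebraMap (R ⧸ I) (LevelRing R C n I))).comap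
        (algebraMap R (R ⧸ I))).IsPrime := Ideal.comap_isPrime _ _
    have hle : maximalIdeal R ≤ (Q.comap (algebraMap (R ⧸ I) (LevelRing R C n I))).comap
        (algebraMap R (R ⧸ I)) := by
      apply hprime.le_of_pow_le (n := k)
      intro r hr
      rw [Ideal.mem_comap, Ideal.mem_comap]
      have : algebraMap R (R ⧸ I) r = 0 := Ideal.Quotient.eq_zero_iff_mem.mpr hr
      rw [this, map_zero]
      exact Q.zero_mem
    exact ((IsLocalRing.maximalIdeal.isMaximal R).eq_of_le hprime.ne_top hle).symm
  have hflatG := flat_baseChange_coker R C n J g h hg hgh hGU hA0 hne (R ⧸ I)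
    Ideal.Quotient.mk_surjective (C ⧸ I.map (algebraMap R C))
    (n.map (Ideal.Quotient.mk (I.map (algebraMap R C))))
    (LevelRing R C n I) hflatY hcomap
  haveI := flat_tensor_localized_of_flat R C n ((Fin m0 → C) ⧸ LinearMap.range h) (R ⧸ I)
    (LevelRing R C n I) hflatG
  exact Groth.Agent.Lib.Helper9.injOnTorsion_of_flat

end concrete

end Groth.Agent.Lib.Helper16.QInf
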