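import Mathlib
import Groth.Agent.Lib.Helper16.QS2
import Groth.Agent.Lib.Helper16.QS8
import Groth.Agent.Lib.Helper16.FourTerm
import Groth.Agent.Lib.Helper18.QGor9

/-!
# The infinitesimal criterion for relative S2 of reflexive modules (S18712) (helper16)
-/

set_option autoImplicit false
set_option linter.style.haveILetI false
set_option linter.unusedSectionVars false

universe u
open IsLocalRing TensorProduct

namespace Groth.Agent.Lib.Helper16.QInf

open Groth.Agent.Lib.Helper18.QGor Groth.Agent.Lib.Helper18.CM Groth.Agent.Lib.Helper18.Serre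
  Groth.Agent.Lib.Helper16.Depth Groth.Agent.Lib.Helper16.QGlob Groth.Agent.Lib.Helper16.DDual
  Groth.Agent.Lib.Helper16.QFour

section skOff

variable {A : Type u} [CommRing A] [IsNoetherianRing A] (I : Ideal A)

/-- `(S_k)` for a module of depth `k` along `I` that is locally free off `V(I)`, over an `(S_k)`
ring -/
theorem hasSk_of_free_off (k : ℕ) (h : LocCoh.HasSk k A A)
    (N : Type u) [AddCommGroup N] [Module A N] [Module.Finite A N]
    (hI : (k : ℕ∞) ≤ LocCoh.idealDepth I N)
    (hfree : ∀ (p : Ideal A) [p.IsPrime], ¬ I ≤ p →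
      Module.Free (Localization.AtPrime p) (LocalizedModule p.primeCompl N)) :
    LocCoh.HasSk k A N := by
  rw [hasSk_self_iff] at h
  intro p hp
  by_cases hIp : I ≤ p
  · have h1 := (le_idealDepth_iff_forall_le_depth I N k).1 hI p hIp
    refine (min_le_left _ _).trans ?_
    have h2 : ((k : ℕ∞) : WithBot ℕ∞) ≤
        ((LocCoh.depth (Localization.AtPrime p) (LocalizedModule p.primeCompl N) : ℕ∞) :
          WithBot ℕ∞) := WithBot.coe_le_coe.mpr h1
    exact_mod_cast h2
  · haveI := hfree p hIp
    have hnoeth : IsNoetherianRing (Localization.AtPrime p) :=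
      IsLocalization.isNoetherianRing p.primeCompl _ inferInstance
    have h1 : Module.supportDim (Localization.AtPrime p) (LocalizedModule p.primeCompl N) ≤
        (p.height : WithBot ℕ∞) := by
      refine (Module.supportDim_le_ringKrullDim _ _).trans ?_
      rw [IsLocalization.AtPrime.ringKrullDim_eq_height p (Localization.AtPrime p)]
    have h2 := depth_le_depth_of_free (A := Localization.AtPrime p)
      (LocalizedModule p.primeCompl N)
    exact (min_le_min_left _ h1).trans ((h p).trans (WithBot.coe_le_coe.mpr h2))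

end skOff

section fibEquiv

variable (R C : Type u) [CommRing R] [CommRing C] [Algebra R C] (n : Ideal C) [hn : n.IsPrime]
  (F : Type u) [AddCommGroup F] [Module C F]

/-- the fibre stalk is the base change to the fibre local ring -/
noncomputable def fibLocModEquiv :
    EGA4.FibLocRing R C n ⊗[C] F ≃ₗ[EGA4.FibLocRing R C n] EGA4.FibLocMod R C n F :=
  (AlgebraTensorModule.cancelBaseChange C (Localization.AtPrime n) (EGA4.FibLocRing R C n)
    (EGA4.FibLocRing R C n) F).symm ≪≫ₗ
  (AlgebraTensorModule.congr (LinearEquiv.refl (EGA4.FibLocRing R C n) (EGA4.FibLocRing R C n))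
    (IsLocalizedModule.isBaseChange n.primeCompl (Localization.AtPrime n)
      (LocalizedModule.mkLinearMap n.primeCompl F)).equiv) ≪≫ₗ
  ((TensorProduct.quotTensorEquivQuotSMul (LocalizedModule n.primeCompl F)
    ((n.comap (algebraMap R C)).map (algebraMap R (Localization.AtPrime n)))).extendScalarsOfSurjective
    Ideal.Quotient.mk_surjective)

end fibEquiv

section main

variable (R C : Type u) [CommRing R] [CommRing C] [IsNoetherianRing R] [IsLocalRing R]
  [IsNoetherianRing C] [Algebra R C] [Module.Flat R C] (n : Ideal C) [hn : n.IsPrime]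
  (hnm : (maximalIdeal R).map (algebraMap R C) ≤ n)
  (hS2 : LocCoh.HasSk 2 (EGA4.FibLocRing R C n) (EGA4.FibLocRing R C n))
  (F : Type u) [AddCommGroup F] [Module C F] [Module R F] [IsScalarTower R C F]
  [Module.Finite C F] [Module.IsReflexive C F] (J : Ideal C)
  (hFU : ∀ q : PrimeSpectrum C, ¬ J ≤ q.asIdeal →
    Module.Free (Localization.AtPrime q.asIdeal) (LocalizedModule q.asIdeal.primeCompl F))
  (hcodim : ∀ q : PrimeSpectrum C, J ≤ q.asIdeal →
    (2 : WithBot ℕ∞) ≤ ringKrullDim (EGA4.FibLocRing R C q.asIdeal))
  (hI : ∀ (A' : Type u) [CommRing A'] [IsArtinianRing A'] [IsLocalRing A'] [Algebra R A'],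
    Function.Surjective (algebraMap R A') →
    ∀ (C' : Type u) [CommRing C'] [IsNoetherianRing C'] [Algebra C C'] [Algebra A' C']
      [Algebra R C'] [IsScalarTower R C C'] [IsScalarTower R A' C'],
      Algebra.IsPushout R C A' C' →
      ∀ q' : PrimeSpectrum C', q'.asIdeal.comap (algebraMap C C') = n →
        FlatCA.FlatAt A' q'.asIdeal (Module.Dual C' (Module.Dual C' (C' ⊗[C] F))))

include hnm hS2 hFU hcodim hI in
/-- the infinitesimal criterion (S18712) -/
theorem infinitesimal_criterion :
    FlatCA.FlatAt R n F ∧
      LocCoh.HasSk 2 (EGA4.FibLocRing R C n) (EGA4.FibLocMod R C n F) := by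
  have hLn : IsNoetherianRing (Localization.AtPrime n) :=
    IsLocalization.isNoetherianRing n.primeCompl _ inferInstance
  haveI : Module.Flat C (Localization.AtPrime n) := IsLocalization.flat _ n.primeCompl
  haveI : Module.Flat R (Localization.AtPrime n) := Module.Flat.trans R C _
  haveI : Module.Finite (EGA4.FibLocRing R C n) (EGA4.FibLocMod R C n F) :=
    finite_quot_smul_top _ _
  by_cases hJn : J ≤ n
  swap
  · haveI hfree := hFU ⟨n, hn⟩ hJn
    refine ⟨?_, ?_⟩
    · exact Module.Flat.trans R (Localization.AtPrime n) (LocalizedModule n.primeCompl F)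
    · haveI : Module.Free (EGA4.FibLocRing R C n) (EGA4.FibLocMod R C n F) :=
        free_quot_smul_top _ _
      exact hasSk_of_free 2 hS2 _
  · have hA0 := two_le_idealDepth_fibLocRing_of_hasSk R C n J hS2 hcodim
    haveI hlocR := Groth.Agent.Lib.Helper18.SkMod.isLocalRing_fibLocRing R C n
    have hne : J.map (algebraMap C (EGA4.FibLocRing R C n)) ≠ ⊤ := by
      intro htop
      have h1 : J.map (algebraMap C (EGA4.FibLocRing R C n)) ≤
          maximalIdeal (EGA4.FibLocRing R C n) := by
        refine (Ideal.map_mono hJn).trans ?_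
        rw [fib_ideal_eq, Groth.Agent.Lib.Helper21.maximalIdeal_quotient_eq_map]
        exact le_of_eq rfl
      rw [htop] at h1
      exact (IsLocalRing.maximalIdeal.isMaximal _).ne_top (top_le_iff.mp h1)
    obtain ⟨n0, m0, g, h, hg, hgh, hGU⟩ :=
      Groth.Agent.Lib.Helper16.FourTerm.main J F hFU
    have hlevels : ∀ k : ℕ, 0 < k →
        Groth.Agent.Lib.Helper9.InjOnTorsion R (maximalIdeal R ^ k)
          (LocalizedModule n.primeCompl ((Fin m0 → C) ⧸ LinearMap.range h)) :=
      fun k hk => injOnTorsion_level R C n hnm J g h hg hgh hGU hA0 hne hI k hk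
    have hIS : (maximalIdeal R).map (algebraMap R (Localization.AtPrime n)) ≤
        Ideal.jacobson ⊥ := by
      rw [IsLocalRing.jacobson_eq_maximalIdeal ⊥ bot_ne_top, Ideal.map_le_iff_le_comap]
      intro r hr
      rw [Ideal.mem_comap, IsScalarTower.algebraMap_apply R C (Localization.AtPrime n)]
      exact (IsLocalization.AtPrime.to_map_mem_maximal_iff (Localization.AtPrime n) n _).mpr
        (hnm (Ideal.mem_map_of_mem _ hr))
    have hG : FlatCA.FlatAt R n ((Fin m0 → C) ⧸ LinearMap.range h) :=
      Groth.Agent.Lib.Helper9.flat_of_injOnTorsion_pow (S := Localization.AtPrime n)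
        (maximalIdeal R) hIS hlevels
    haveI hE0 : Module.Flat R (Fin n0 → C) := Module.Flat.trans R C _
    haveI hE1 : Module.Flat R (Fin m0 → C) := Module.Flat.trans R C _
    have huv := LinearMap.exact_map_mkQ_range h
    have hv := Submodule.mkQ_surjective (LinearMap.range h)
    refine ⟨?_, ?_⟩
    · have hf' := LocalizedModule.map_injective n.primeCompl g hg
      have hfu' := LocalizedModule.map_exact n.primeCompl g h hgh
      have huv' := LocalizedModule.map_exact n.primeCompl h (LinearMap.range h).mkQ huv
      have hv' := LocalizedModule.map_surjective n.primeCompl (LinearMap.range h).mkQ hv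
      haveI hGq : Module.Flat R (LocalizedModule n.primeCompl ((Fin m0 → C) ⧸ LinearMap.range h)) :=
        hG
      haveI hE0' : Module.Flat R (LocalizedModule n.primeCompl (Fin n0 → C)) :=
        flat_localizedModule n.primeCompl
      haveI hE1' : Module.Flat R (LocalizedModule n.primeCompl (Fin m0 → C)) :=
        flat_localizedModule n.primeCompl
      exact flat_F_of_flat
        (LocalizedModule.map n.primeCompl g) (LocalizedModule.map n.primeCompl h)
        (LocalizedModule.map n.primeCompl (LinearMap.range h).mkQ) hf' hfu' huv' hv'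
    · have h0 : 2 ≤ LocCoh.idealDepth (J.map (algebraMap C (EGA4.FibLocRing R C n)))
          (EGA4.FibLocMod R C n (Fin n0 → C)) := by
        exact_mod_cast le_idealDepth_fibLocMod_of_projective R C n (Fin n0 → C) _ 2
          (by exact_mod_cast hA0)
      have h1 : 1 ≤ LocCoh.idealDepth (J.map (algebraMap C (EGA4.FibLocRing R C n)))
          (EGA4.FibLocMod R C n (Fin m0 → C)) := by
        exact_mod_cast le_idealDepth_fibLocMod_of_projective R C n (Fin m0 → C) _ 1
          (by exact_mod_cast le_trans (by norm_num) hA0)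
      have hdF := two_le_idealDepthJ_of_flatAt_G (A := R) (B := C) J g h (LinearMap.range h).mkQ
        hg hgh huv hv ⟨n, hn⟩ h0 h1 hG
      refine hasSk_of_free_off (J.map (algebraMap C (EGA4.FibLocRing R C n))) 2 hS2 _
        (by exact_mod_cast hdF) ?_
      intro Q hQ hJQ
      have hq : ¬ J ≤ Q.comap (algebraMap C (EGA4.FibLocRing R C n)) :=
        fun hh => hJQ (Ideal.map_le_iff_le_comap.mpr hh)
      haveI := free_localized_baseChange F Q
        (hFU ⟨Q.comap (algebraMap C (EGA4.FibLocRing R C n)), inferInstance⟩ hq)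
      exact Module.Free.of_equiv (localizedModuleEquiv Q (fibLocModEquiv R C n F))

end main

end Groth.Agent.Lib.Helper16.QInf
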