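import Mathlib
import Groth.Prelude.Def_RegImm
import Groth.Agent.Lib.Helper16.KzLoc4
import Groth.Agent.Lib.Helper16.KzInv5
import Groth.Agent.Lib.Helper16.TorPow
import Groth.Agent.Lib.Helper16.SyntStr1
import Groth.Agent.Lib.Helper23.QuasiRegReg
import Groth.Agent.Lib.Helper7.DimFT

/-!
# Koszul-regular local generators at a prime are regular (Noetherian); counting on an Artinian fibre
-/

set_option autoImplicit false
set_option linter.unusedSectionVars false
set_option linter.unusedVariables false
set_option linter.unusedSimpArgs false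
universe u
open IsLocalRing TensorProduct Pointwise RingTheory.Sequence

namespace Groth.Agent.Lib.Helper16.QfLci

open Groth.Agent.Lib.Helper16.KzLoc Groth.Agent.Lib.Helper16.KzInv

/-- Koszul-regular local generators of an ideal at a prime of a Noetherian ring form a regular
sequence in the local ring. -/
theorem isRegular_atPrime_of_kregLoc {R : Type u} [CommRing R] [IsNoetherianRing R] (J : Ideal R)
    (q : Ideal R) [q.IsPrime] (hJq : J ≤ q) (l : List R) (hl : KregLoc l q.primeCompl)
    (hloc : LocEq q.primeCompl J (Ideal.ofList l)) :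
    IsRegular (Localization.AtPrime q) (l.map (algebraMap R (Localization.AtPrime q))) ∧
      Ideal.ofList (l.map (algebraMap R (Localization.AtPrime q))) =
        J.map (algebraMap R (Localization.AtPrime q)) := by
  obtain ⟨hk, hspan⟩ := kreg_atPrime_data q hl hloc
  rw [← map_eq_ofFn] at hk
  rw [span_range_map_get] at hspan
  set fs := l.map (algebraMap R (Localization.AtPrime q)) with hfs
  have hof : Ideal.ofList fs = J.map (algebraMap R (Localization.AtPrime q)) := by
    rw [hfs, ← Ideal.map_ofList, hspan]
  have hmem : ∀ r ∈ fs, r ∈ maximalIdeal (Localization.AtPrime q) := by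
    intro r hr
    refine IsLocalRing.le_maximalIdeal (map_ne_top_of_le q hJq) ?_
    rw [← hof]
    exact Ideal.subset_span hr
  have hq := Groth.Agent.Lib.Helper16.TorPow.isQuasiRegular_of_kreg fs hk
  have hw := Groth.Agent.Lib.Helper23.QRR.isWeaklyRegular_of_isQuasiRegular fs.length
    (Localization.AtPrime q) fs.get (fun i => hmem _ (List.get_mem fs i)) hq
  rw [List.ofFn_get] at hw
  exact ⟨(IsLocalRing.isRegular_iff_isWeaklyRegular_of_subset_maximalIdeal hmem).mpr hw, hof⟩

/-- Counting: a Koszul-regular sequence cutting out (locally at a point) an Artinian quotient of a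
polynomial ring in `N` variables over a field has length `N`. -/
theorem length_eq_of_isArtinianRing (κ : Type u) [Field κ] (N : ℕ) (R : Type u) [CommRing R]
    (e : R ≃+* MvPolynomial (Fin N) κ) (T : Type u) [CommRing T] [IsArtinianRing T]
    (α : R →+* T) (hα : Function.Surjective α) (q : Ideal T) [q.IsPrime] (l : List R)
    (hl : KregLoc l (q.comap α).primeCompl)
    (hloc : LocEq (q.comap α).primeCompl (RingHom.ker α) (Ideal.ofList l)) :
    l.length = N := by
  have hN : IsNoetherianRing R := isNoetherianRing_of_ringEquiv _ e.symm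
  have hJq : RingHom.ker α ≤ q.comap α := by
    intro x hx
    rw [Ideal.mem_comap, (RingHom.mem_ker).mp hx]
    exact Ideal.zero_mem _
  obtain ⟨hreg, hof⟩ := isRegular_atPrime_of_kregLoc (RingHom.ker α) (q.comap α) hJq l hl hloc
  have hdim := ringKrullDim_add_length_eq_ringKrullDim_of_isRegular _ hreg
  rw [List.length_map] at hdim
  -- the quotient is `T_q`
  have hL := Groth.Agent.Lib.Helper16.SyntStr.localRingHom_surjective α hα (q.comap α) q rfl
  have hK := Groth.Agent.Lib.Helper16.SyntStr.ker_localRingHom α hα (q.comap α) q rfl
  have e1 : (Localization.AtPrime (q.comap α) ⧸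
      Ideal.ofList (l.map (algebraMap R (Localization.AtPrime (q.comap α))))) ≃+*
      Localization.AtPrime q :=
    (Ideal.quotEquivOfEq (hof.trans hK.symm)).trans (RingHom.quotientKerEquivOfSurjective hL)
  have h0 : ringKrullDim (Localization.AtPrime q) = 0 :=
    ringKrullDimZero_iff_ringKrullDim_eq_zero.mp inferInstance
  rw [ringKrullDim_eq_of_ringEquiv e1, h0, zero_add] at hdim
  -- the local ring has dimension `N`
  have hqmax : q.IsMaximal := inferInstance
  have hQmax : (q.comap α).IsMaximal := Ideal.comap_isMaximal_of_surjective α hα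
  have hQe : ((q.comap α).map e).IsMaximal := Ideal.map_isMaximal_of_equiv e
  have hht := Groth.Agent.Lib.Helper7.DimFT.height_eq_of_isMaximal_mvPolynomial κ N _ hQe
  rw [RingEquiv.height_map] at hht
  have h2 := IsLocalization.AtPrime.ringKrullDim_eq_height (q.comap α)
    (Localization.AtPrime (q.comap α))
  rw [h2, hht] at hdim
  exact_mod_cast hdim

end Groth.Agent.Lib.Helper16.QfLci
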