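import Mathlib

/-!
# Dimension of binary forms of degree n
-/

set_option autoImplicit false
universe u

namespace Groth.Agent.Lib.Helper16.Quintic

open MvPolynomial

variable {K : Type u} [Field K]

/-- degree-`n` exponent vectors in two variables are in bijection with `Fin (n+1)`. -/
noncomputable def degEquiv (n : ℕ) : {d : Fin 2 →₀ ℕ // d.degree = n} ≃ Fin (n + 1) where
  toFun d := ⟨d.1 0, by
    have h := d.2
    rw [Finsupp.degree_eq_sum, Fin.sum_univ_two] at h
    omega⟩
  invFun i := ⟨Finsupp.single 0 (i : ℕ) + Finsupp.single 1 (n - i), by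
    rw [Finsupp.degree_eq_sum, Fin.sum_univ_two]
    simp only [Finsupp.coe_add, Pi.add_apply, Finsupp.single_eq_same]
    have h1 : (Finsupp.single (1 : Fin 2) (n - (i : ℕ))) 0 = 0 := by
      rw [Finsupp.single_apply]; simp
    have h2 : (Finsupp.single (0 : Fin 2) (i : ℕ)) 1 = 0 := by
      rw [Finsupp.single_apply]; simp
    rw [h1, h2]
    have := i.2
    omega⟩
  left_inv d := by
    have h := d.2
    rw [Finsupp.degree_eq_sum, Fin.sum_univ_two] at h
    apply Subtype.ext
    ext j
    fin_cases j
    · simp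
    · simp only [Fin.mk_one, Fin.isValue, Finsupp.coe_add, Pi.add_apply, Finsupp.single_eq_same]
      have h2 : (Finsupp.single (0 : Fin 2) (d.1 0)) 1 = 0 := by
        rw [Finsupp.single_apply]; simp
      rw [h2]
      omega
  right_inv i := by
    apply Fin.ext
    simp only [Finsupp.coe_add, Pi.add_apply, Finsupp.single_eq_same]
    have h1 : (Finsupp.single (1 : Fin 2) (n - (i : ℕ))) 0 = 0 := by
      rw [Finsupp.single_apply]; simp
    rw [h1]; simp

noncomputable instance (n : ℕ) : Fintype {d : Fin 2 →₀ ℕ // d.degree = n} :=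
  Fintype.ofEquiv _ (degEquiv n).symm

theorem finrank_homog (n : ℕ) :
    Module.finrank K ↥(homogeneousSubmodule (Fin 2) K n) = n + 1 := by
  have e1 : ↥(homogeneousSubmodule (Fin 2) K n) ≃ₗ[K]
      ↥(AddMonoidAlgebra.supported K K {d : Fin 2 →₀ ℕ | d.degree = n}) :=
    LinearEquiv.ofEq _ _ (homogeneousSubmodule_eq_finsupp_supported (Fin 2) K n)
  have e2 := AddMonoidAlgebra.supportedEquivFinsupp (R := K) (S := K) {d : Fin 2 →₀ ℕ | d.degree = n}
  rw [(e1.trans e2).finrank_eq]
  have h3 : Module.finrank K (↑{d : Fin 2 →₀ ℕ | d.degree = n} →₀ K) =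
      Fintype.card {d : Fin 2 →₀ ℕ // d.degree = n} :=
    Module.finrank_finsupp_self (R := K) (ι := {d : Fin 2 →₀ ℕ // d.degree = n})
  rw [h3, Fintype.card_congr (degEquiv n), Fintype.card_fin]

instance (n : ℕ) : FiniteDimensional K ↥(homogeneousSubmodule (Fin 2) K n) :=
  Module.finite_of_finrank_pos (by rw [finrank_homog]; omega)

end Groth.Agent.Lib.Helper16.Quintic
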