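import Mathlib
import Groth.Agent.Lib.Helper16.Quintic

/-!
# Unique 3-secant line of a rational normal-type quintic: linear algebra
-/

set_option autoImplicit false
universe u

namespace Groth.Agent.Lib.Helper16.Quintic

open MvPolynomial

variable {K : Type u} [Field K]

theorem ker_line {U W : Type*} [AddCommGroup U] [Module K U] [AddCommGroup W] [Module K W]
    [FiniteDimensional K U] [FiniteDimensional K W] (B : U →ₗ[K] W →ₗ[K] K)
    (hinj : Function.Injective B.flip) (hdim : Module.finrank K U = Module.finrank K W + 1) :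
    ∃ g0 : U, g0 ≠ 0 ∧ (∀ w, B g0 w = 0) ∧ ∀ g' : U, (∀ w, B g' w = 0) → ∃ c : K, g' = c • g0 := by
  have hsurj : Function.Surjective B := (LinearMap.flip_injective_iff₁).1 hinj
  have hker : Module.finrank K ↥(LinearMap.ker B) = 1 := by
    have h1 := LinearMap.finrank_range_add_finrank_ker B
    rw [LinearMap.range_eq_top.2 hsurj, finrank_top, Subspace.dual_finrank_eq] at h1
    omega
  obtain ⟨g0, hg0, hspan⟩ := finrank_eq_one_iff'.1 hker
  refine ⟨g0, fun h => hg0 (Subtype.ext h), ?_, ?_⟩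
  · intro w
    have := g0.2
    rw [LinearMap.mem_ker] at this
    rw [this]; rfl
  · intro g' hg'
    have hmem : g' ∈ LinearMap.ker B := by
      rw [LinearMap.mem_ker]
      exact LinearMap.ext hg'
    obtain ⟨c, hc⟩ := hspan ⟨g', hmem⟩
    exact ⟨c, (congrArg Subtype.val hc).symm⟩

theorem main (V : Submodule K (MvPolynomial (Fin 2) K))
    (hV : V ≤ homogeneousSubmodule (Fin 2) K 5) (hdim : Module.finrank K ↥V = 5)
    (hsep : ∀ e ∈ homogeneousSubmodule (Fin 2) K 2, e ≠ 0 →
      ∀ F ∈ homogeneousSubmodule (Fin 2) K 5, ∃ v ∈ V,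
        ∃ h ∈ homogeneousSubmodule (Fin 2) K 3, F = v + e * h) :
    ∃ g ∈ homogeneousSubmodule (Fin 2) K 3, g ≠ 0 ∧
      (∀ h ∈ homogeneousSubmodule (Fin 2) K 2, g * h ∈ V) ∧
      ∀ g' ∈ homogeneousSubmodule (Fin 2) K 3,
        (∀ h ∈ homogeneousSubmodule (Fin 2) K 2, g' * h ∈ V) → ∃ c : K, g' = c • g := by
  classical
  set P5 := homogeneousSubmodule (Fin 2) K 5
  set P3 := homogeneousSubmodule (Fin 2) K 3
  set P2 := homogeneousSubmodule (Fin 2) K 2
  have h6 : Module.finrank K ↥P5 = 6 := finrank_homog 5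
  have h4 : Module.finrank K ↥P3 = 4 := finrank_homog 3
  have h3 : Module.finrank K ↥P2 = 3 := finrank_homog 2
  have hVfin : Module.Finite K ↥V := Module.finite_of_finrank_pos (by rw [hdim]; omega)
  set V5 : Submodule K ↥P5 := V.comap P5.subtype with hV5
  have hfV5 : Module.finrank K ↥V5 = 5 := by
    rw [← hdim]
    exact (Submodule.comapSubtypeEquivOfLe hV).finrank_eq
  have hQ : Module.finrank K (↥P5 ⧸ V5) = 1 := by
    have h1 := Submodule.finrank_quotient_add_finrank V5
    rw [hfV5, h6] at h1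
    omega
  have hmul : ∀ (g : ↥P3) (h : ↥P2), (g : MvPolynomial (Fin 2) K) * h ∈ P5 := by
    intro g h
    exact (mem_homogeneousSubmodule _ _).2
      (((mem_homogeneousSubmodule _ _).1 g.2).mul ((mem_homogeneousSubmodule _ _).1 h.2))
  let T : ↥P3 →ₗ[K] ↥P2 →ₗ[K] (↥P5 ⧸ V5) :=
    LinearMap.mk₂ K (fun g h => V5.mkQ ⟨(g : MvPolynomial (Fin 2) K) * h, hmul g h⟩)
      (by
        intro g1 g2 h
        rw [← map_add]
        congr 1
        apply Subtype.ext
        simp [add_mul])
      (by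
        intro c g h
        rw [← map_smul]
        congr 1
        apply Subtype.ext
        simp)
      (by
        intro g h1 h2
        rw [← map_add]
        congr 1
        apply Subtype.ext
        simp [mul_add])
      (by
        intro c g h
        rw [← map_smul]
        congr 1
        apply Subtype.ext
        simp)
  have hT : ∀ g h, T g h = V5.mkQ ⟨(g : MvPolynomial (Fin 2) K) * h, hmul g h⟩ := fun g h => rfl
  have hT0 : ∀ g h, T g h = 0 ↔ (g : MvPolynomial (Fin 2) K) * h ∈ V := by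
    intro g h
    rw [hT, Submodule.mkQ_apply, Submodule.Quotient.mk_eq_zero, hV5, Submodule.mem_comap]
    rfl
  have hfd : FiniteDimensional K (↥P5 ⧸ V5) := inferInstance
  let φ : (↥P5 ⧸ V5) ≃ₗ[K] K := LinearEquiv.ofFinrankEq _ _ (by rw [hQ, Module.finrank_self])
  let B : ↥P3 →ₗ[K] ↥P2 →ₗ[K] K := T.compr₂ φ.toLinearMap
  have hB : ∀ g h, B g h = φ (T g h) := fun g h => rfl
  have hB0 : ∀ g h, B g h = 0 ↔ (g : MvPolynomial (Fin 2) K) * h ∈ V := by
    intro g h
    rw [hB, LinearEquiv.map_eq_zero_iff, hT0]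
  have hinj : Function.Injective B.flip := by
    rw [injective_iff_map_eq_zero]
    intro e he
    by_contra hne
    have hne' : (e : MvPolynomial (Fin 2) K) ≠ 0 := fun h => hne (Subtype.ext h)
    have hle : P5 ≤ V := by
      intro F hF
      obtain ⟨v, hv, h, hh, rfl⟩ := hsep e e.2 hne' F hF
      refine add_mem hv ?_
      have : B.flip e ⟨h, hh⟩ = 0 := by rw [he]; rfl
      rw [LinearMap.flip_apply, hB0] at this
      rw [mul_comm]
      exact this
    have := Submodule.finrank_mono hle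
    rw [hdim, h6] at this
    omega
  obtain ⟨g0, hg0, hzero, huniq⟩ := ker_line B hinj (by rw [h4, h3])
  refine ⟨(g0 : MvPolynomial (Fin 2) K), g0.2, fun h => hg0 (Subtype.ext h), ?_, ?_⟩
  · intro h hh
    exact (hB0 _ _).1 (hzero ⟨h, hh⟩)
  · intro g' hg' hprop
    obtain ⟨c, hc⟩ := huniq ⟨g', hg'⟩ (fun w => (hB0 _ _).2 (hprop w w.2))
    exact ⟨c, congrArg Subtype.val hc⟩

end Groth.Agent.Lib.Helper16.Quintic
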