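import Mathlib

/-!
# root system helpers: prescribed dual values, closure pairing
-/

set_option autoImplicit false

namespace Groth.Agent.Lib.Helper16.RS

open Module

/-- a linear functional with prescribed values on a linearly independent family -/
theorem exists_dual_apply_eq {ι K V : Type*} [Field K] [AddCommGroup V] [Module K V]
    {s : Set ι} {v : ι → V} (hli : LinearIndepOn K v s) (c : ι → K) :
    ∃ f : Dual K V, ∀ i ∈ s, f (v i) = c i := by
  have hli' : LinearIndependent K (fun i : s => v i) := hli
  let g : Submodule.span K (Set.range (fun i : s => v i)) →ₗ[K] K :=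
    (Finsupp.linearCombination K (fun i : s => c i)) ∘ₗ hli'.repr
  obtain ⟨f, hf⟩ := LinearMap.exists_extend g
  refine ⟨f, fun i hi => ?_⟩
  have h1 : f (v i) = g ⟨v i, Submodule.subset_span ⟨⟨i, hi⟩, rfl⟩⟩ := by
    rw [← hf]; rfl
  rw [h1]
  have h2 : hli'.repr ⟨v i, Submodule.subset_span ⟨⟨i, hi⟩, rfl⟩⟩ = Finsupp.single ⟨i, hi⟩ 1 :=
    hli'.repr_eq_single ⟨i, hi⟩ _ rfl
  simp [g, h2]

section root
variable {ι : Type*} [Finite ι] [DecidableEq ι] {k : Type*} [Field k] [CharZero k]
  {M : Type*} [AddCommGroup M] [Module k M] {N : Type*} [AddCommGroup N] [Module k N]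
  (P : RootPairing ι k M N) [P.IsCrystallographic] (b : P.Base)

theorem coroot'_root (γ α : ι) : P.coroot' γ (P.root α) = ((P.pairingIn ℤ α γ : ℤ) : k) := by
  rw [P.root_coroot'_eq_pairing, ← P.algebraMap_pairingIn ℤ]
  simp

theorem closure_pairing (s : Finset ι) (γ : ι) (hγ : γ ∈ b.support) (hs : s ⊆ b.support) (x : M)
    (hx : x ∈ AddSubmonoid.closure (P.root '' (s : Set ι))) :
    ∃ z : ℤ, P.coroot' γ x = (z : k) ∧ (γ ∉ s → z ≤ 0) ∧
      (0 < z → x - P.root γ ∈ AddSubmonoid.closure (P.root '' (s : Set ι))) := by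
  induction hx using AddSubmonoid.closure_induction with
  | mem x hx =>
    obtain ⟨α, hα, rfl⟩ := hx
    have hαs : α ∈ s := hα
    refine ⟨P.pairingIn ℤ α γ, coroot'_root P γ α, ?_, ?_⟩
    · intro hγs
      have hne : α ≠ γ := fun h => hγs (h ▸ hαs)
      exact b.pairingIn_le_zero_of_ne hne (hs hαs) hγ
    · intro hpos
      have : α = γ := by
        by_contra hne
        have := b.pairingIn_le_zero_of_ne hne (hs hαs) hγ
        omega
      rw [this, sub_self]
      exact zero_mem _
  | zero =>
    exact ⟨0, by simp, fun _ => le_rfl, fun h => absurd h (lt_irrefl 0)⟩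
  | add x y _ _ ihx ihy =>
    obtain ⟨zx, hx1, hx2, hx3⟩ := ihx
    obtain ⟨zy, hy1, hy2, hy3⟩ := ihy
    refine ⟨zx + zy, by rw [map_add, hx1, hy1]; push_cast; rfl, ?_, ?_⟩
    · intro h
      have := hx2 h
      have := hy2 h
      omega
    · intro hpos
      rcases lt_or_ge 0 zx with h | h
      · have := hx3 h
        have e : x + y - P.root γ = (x - P.root γ) + y := by abel
        rw [e]
        exact add_mem this ‹_›
      · have hzy : 0 < zy := by omega
        have := hy3 hzy
        have e : x + y - P.root γ = x + (y - P.root γ) := by abel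
        rw [e]
        exact add_mem ‹_› this

end root

end Groth.Agent.Lib.Helper16.RS
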