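import Mathlib
import Groth.Agent.Lib.Helper16.RS1

/-!
# S19565 main
-/

set_option autoImplicit false

namespace Groth.Agent.Lib.Helper16.RS

open Module

variable {ι : Type*} [Finite ι] [DecidableEq ι] {k : Type*} [Field k] [CharZero k]
  {M : Type*} [AddCommGroup M] [Module k M] {N : Type*} [AddCommGroup N] [Module k N]
  (P : RootPairing ι k M N) [P.IsCrystallographic] [P.IsReduced] [P.IsIrreducible] (b : P.Base)

theorem main
    (I A B : Finset ι) (hcover : I ∪ A ∪ B = b.support) (hIA : Disjoint I A) (hIB : Disjoint I B)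
    (hAB : Disjoint A B) (hA : A.Nonempty) (hB : B.Nonempty) :
    ∃ l ∈ A, ∃ j : ι, P.root j ∈ AddSubmonoid.closure (P.root '' ↑(I ∪ B)) ∧
      P.root j ∉ Submodule.span k (P.root '' ↑I) ∧ P.pairingIn ℤ j l < 0 := by
  classical
  -- the functional
  obtain ⟨φ, hφ⟩ := exists_dual_apply_eq b.linearIndepOn_root (fun i => if i ∈ B then (1 : k) else 0)
  have hIsub : I ⊆ b.support := by rw [← hcover]; intro x hx; simp [hx]
  have hAsub : A ⊆ b.support := by rw [← hcover]; intro x hx; simp [hx]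
  have hBsub : B ⊆ b.support := by rw [← hcover]; intro x hx; simp [hx]
  have hssub : I ∪ B ⊆ b.support := Finset.union_subset hIsub hBsub
  have hφB : ∀ i ∈ B, φ (P.root i) = 1 := by
    intro i hi
    rw [hφ i (hBsub hi), if_pos hi]
  have hφI : ∀ i ∈ I, φ (P.root i) = 0 := by
    intro i hi
    rw [hφ i (hIsub hi), if_neg]
    exact fun h => (Finset.disjoint_left.mp hIB hi) h
  have hφs : ∀ i ∈ I ∪ B, ∃ c : ℕ, φ (P.root i) = c := by
    intro i hi
    rcases Finset.mem_union.mp hi with h | h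
    · exact ⟨0, by rw [hφI i h]; simp⟩
    · exact ⟨1, by rw [hφB i h]; simp⟩
  have hφspan : ∀ x ∈ Submodule.span k (P.root '' (I : Set ι)), φ x = 0 := by
    intro x hx
    induction hx using Submodule.span_induction with
    | mem x hx =>
      obtain ⟨i, hi, rfl⟩ := hx
      exact hφI i hi
    | zero => simp
    | add x y _ _ hx hy => rw [map_add, hx, hy, add_zero]
    | smul c x _ hx => rw [map_smul, hx, smul_zero]
  set Cl := AddSubmonoid.closure (P.root '' ((I ∪ B : Finset ι) : Set ι)) with hCl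
  have hrootCl : ∀ i ∈ I ∪ B, P.root i ∈ Cl := fun i hi =>
    AddSubmonoid.subset_closure ⟨i, hi, rfl⟩
  -- by contradiction
  by_contra hcon
  push Not at hcon
  have hneg : ∀ l ∈ A, ∀ j : ι, P.root j ∈ Cl → (∃ n : ℕ, 1 ≤ n ∧ φ (P.root j) = n) →
      0 ≤ P.pairingIn ℤ j l := by
    intro l hl j hj ⟨n, hn1, hn⟩
    apply hcon l hl j hj
    intro hspan
    have := hφspan _ hspan
    rw [hn] at this
    have : n = 0 := by exact_mod_cast this
    omega
  obtain ⟨b₀, hb₀⟩ := hB
  obtain ⟨a₀, ha₀⟩ := hA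
  let p : b.support → Prop := fun α => (α : ι) ∈ I ∪ B ∧
    ∃ j : ι, P.root j ∈ Cl ∧ (∃ n : ℕ, 1 ≤ n ∧ φ (P.root j) = n) ∧ P.root j - P.root α ∈ Cl
  have hp0 : p ⟨b₀, hBsub hb₀⟩ := by
    refine ⟨Finset.mem_union_right _ hb₀, b₀, hrootCl _ (Finset.mem_union_right _ hb₀),
      ⟨1, le_rfl, by rw [hφB b₀ hb₀]; simp⟩, ?_⟩
    simp only [sub_self]
    exact zero_mem _
  have hstep : ∀ i j : b.support, p i → b.cartanMatrix j i ≠ 0 → p j := by
    rintro ⟨α, hα⟩ ⟨γ, hγ⟩ ⟨hαs, j, hjCl, ⟨n, hn1, hn⟩, hrest⟩ hcart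
    by_cases hαγ : γ = α
    · subst hαγ
      exact ⟨hαs, j, hjCl, ⟨n, hn1, hn⟩, hrest⟩
    have hcart' : b.cartanMatrix ⟨α, hα⟩ ⟨γ, hγ⟩ ≠ 0 := by
      rwa [ne_eq, RootPairing.Base.cartanMatrix_apply_eq_zero_iff_symm]
    have hαγneg : P.pairingIn ℤ α γ < 0 := by
      have h1 : P.pairingIn ℤ α γ ≤ 0 := b.pairingIn_le_zero_of_ne (Ne.symm hαγ) hα hγ
      have h2 : P.pairingIn ℤ α γ ≠ 0 := by
        simpa [RootPairing.Base.cartanMatrix, RootPairing.Base.cartanMatrixIn_def] using hcart'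
      omega
    obtain ⟨zr, hzr1, hzr2, hzr3⟩ := closure_pairing P b (I ∪ B) γ hγ hssub _ hrest
    have hsum : P.pairingIn ℤ j γ = P.pairingIn ℤ α γ + zr := by
      have h1 : P.coroot' γ (P.root j) = P.coroot' γ (P.root α) + P.coroot' γ (P.root j - P.root α) := by
        rw [← map_add]; congr 1; abel
      rw [coroot'_root, coroot'_root, hzr1] at h1
      exact_mod_cast h1
    have hγmem : γ ∈ I ∪ A ∪ B := by rw [hcover]; exact hγ
    by_cases hγs : γ ∈ I ∪ B
    · -- γ in s
      refine ⟨hγs, ?_⟩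
      rcases lt_or_ge (P.pairingIn ℤ j γ) 0 with hneg' | hpos'
      · -- add γ
        obtain ⟨cγ, hcγ⟩ := hφs γ hγs
        have hne : P.root j ≠ -P.root γ := by
          intro h
          have := congrArg φ h
          rw [map_neg, hn, hcγ] at this
          have h2 : ((n + cγ : ℕ) : k) = 0 := by push_cast; rw [this]; ring
          have : n + cγ = 0 := by exact_mod_cast h2
          omega
        obtain ⟨j', hj'⟩ := P.root_add_root_mem_of_pairingIn_neg hneg' hne
        refine ⟨j', ?_, ⟨n + cγ, by omega, ?_⟩, ?_⟩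
        · rw [hj']; exact add_mem hjCl (hrootCl γ hγs)
        · rw [hj', map_add, hn, hcγ]; push_cast; rfl
        · rw [hj', add_sub_cancel_right]; exact hjCl
      · -- same j
        have hzrpos : 0 < zr := by omega
        refine ⟨j, hjCl, ⟨n, hn1, hn⟩, ?_⟩
        have e : P.root j - P.root γ = P.root α + (P.root j - P.root α - P.root γ) := by abel
        rw [e]
        exact add_mem (hrootCl α hαs) (hzr3 hzrpos)
    · -- γ in A
      exfalso
      have hγA : γ ∈ A := by
        simp only [Finset.mem_union] at hγmem hγs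
        tauto
      have := hneg γ hγA j hjCl ⟨n, hn1, hn⟩
      have := hzr2 hγs
      omega
  have hfinal : p ⟨a₀, hAsub ha₀⟩ :=
    RootPairing.Base.induction_on_cartanMatrix (b := b) p hp0 hstep
  obtain ⟨hmem, -⟩ := hfinal
  rcases Finset.mem_union.mp hmem with h | h
  · exact Finset.disjoint_left.mp hIA h ha₀
  · exact Finset.disjoint_left.mp hAB ha₀ h

end Groth.Agent.Lib.Helper16.RS
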