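import Groth.Agent.Lib.Helper16.RefDual2
import Groth.Agent.Lib.Helper16.CanId6

/-!
# Ext^i(M,M) = Ext^i(M*,M*) for torsion-free modules over a one-dimensional local domain with canonical ideal (helper16)
-/

set_option autoImplicit false
universe u
open CategoryTheory Abelian IsLocalRing Pointwise

namespace Groth.Agent.Lib.Helper16.RefDual

open Groth.Agent.Lib.Helper16 Groth.Agent.Lib

section loc

variable {O : Type u} [CommRing O] [IsDomain O] [IsLocalRing O] [IsNoetherianRing O]

/-- `Ext¹(N, W) = 0` for finitely generated torsion-free `N` when `Ext²(-, W) = 0` over a local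
domain which is not a field -/
theorem subsingleton_ext_one_of_tf (W : Type u) [AddCommGroup W] [Module O W] [Module.Finite O W]
    (h2 : ∀ X : ModuleCat.{u} O, Subsingleton (Ext.{u} X (ModuleCat.of O W) 2))
    (x : O) (hxm : x ∈ maximalIdeal O) (hx0 : x ≠ 0)
    (N : Type u) [AddCommGroup N] [Module O N] [Module.Finite O N] (hN : TF O N) :
    Subsingleton (Ext.{u} (ModuleCat.of O N) (ModuleCat.of O W) 1) := by
  have hxreg : IsSMulRegular N x := by
    intro a b hab
    have h1 : x • (a - b) = 0 := by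
      rw [smul_sub, sub_eq_zero]
      exact hab
    exact sub_eq_zero.1 (hN x (a - b) hx0 h1)
  have hS := IsSMulRegular.smulShortComplex_shortExact (M := ModuleCat.of O N) hxreg
  have hfinE : Module.Finite O (Ext.{u} (ModuleCat.of O N) (ModuleCat.of O W) 1) := inferInstance
  have hle : (⊤ : Submodule O (Ext.{u} (ModuleCat.of O N) (ModuleCat.of O W) 1)) ≤
      Ideal.span {x} • (⊤ : Submodule O (Ext.{u} (ModuleCat.of O N) (ModuleCat.of O W) 1)) := by
    intro e _
    have hsub : Subsingleton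
        (Ext.{u} ((ModuleCat.of O N).smulShortComplex x).X₃ (ModuleCat.of O W) 2) := h2 _
    obtain ⟨e₂, he₂⟩ := Ext.contravariant_sequence_exact₁ hS (ModuleCat.of O W) e
      (by norm_num : 1 + 1 = 2) (Subsingleton.elim _ _)
    have h3 : e = x • e₂ := by
      rw [← he₂]
      exact ExtRegQuot.smul_id_comp x e₂
    rw [h3]
    exact Submodule.smul_mem_smul (Ideal.mem_span_singleton_self x) Submodule.mem_top
  have hjac : Ideal.span {x} ≤ Ideal.jacobson (⊥ : Ideal O) := by
    rw [IsLocalRing.jacobson_eq_maximalIdeal _ bot_ne_top, Ideal.span_le]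
    intro y hy
    rw [Set.mem_singleton_iff.1 hy]
    exact hxm
  have hbot := Submodule.eq_bot_of_le_smul_of_le_jacobson_bot (Ideal.span {x})
    (⊤ : Submodule O (Ext.{u} (ModuleCat.of O N) (ModuleCat.of O W) 1)) Module.Finite.fg_top
    hle hjac
  refine ⟨fun a b => ?_⟩
  have ha : a ∈ (⊥ : Submodule O (Ext.{u} (ModuleCat.of O N) (ModuleCat.of O W) 1)) := by
    rw [← hbot]
    exact Submodule.mem_top
  have hb : b ∈ (⊥ : Submodule O (Ext.{u} (ModuleCat.of O N) (ModuleCat.of O W) 1)) := by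
    rw [← hbot]
    exact Submodule.mem_top
  rw [(Submodule.mem_bot O).1 ha, (Submodule.mem_bot O).1 hb]

variable {K : Type u} [Field K] [Algebra O K] [IsFractionRing O K]

theorem dHyp_of_isCan (hdim : ringKrullDim O = 1) {ω : Submodule O K} (hcan : CanId.IsCan ω)
    (hinj : HasInjectiveDimensionLT (ModuleCat.of O ↥ω) 2) : DHyp O ↥ω where
  tf := CanId.torsionFree ω
  fin := Module.Finite.iff_fg.2 hcan.fg
  ne := by
    obtain ⟨a, ha, ha0⟩ := Submodule.exists_mem_ne_zero_of_ne_bot hcan.ne_bot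
    exact ⟨⟨a, ha⟩, fun h => ha0 (congrArg Subtype.val h)⟩
  hend := by
    intro e
    obtain ⟨⟨z, hz⟩, rfl⟩ := CanId.homMap_surjective ω ω hcan.ne_bot e
    have hz1 : z ∈ (1 : Submodule O K) := by
      rw [← hcan.div_self hdim]
      exact hz
    obtain ⟨r, hr⟩ := Submodule.mem_one.1 hz1
    refine ⟨r, fun w => ?_⟩
    apply Subtype.ext
    rw [CanId.homMap_apply, Submodule.coe_smul, Algebra.smul_def, hr]
  ext := by
    intro N _ _ _ hN j hj
    have := Module.Finite.iff_fg.2 hcan.fg
    obtain ⟨x, hxm, hx0⟩ := CanId.exists_mem_maximalIdeal_ne_zero hdim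
    rcases Nat.lt_or_ge j 2 with h | h
    · obtain rfl : j = 1 := by omega
      exact subsingleton_ext_one_of_tf ↥ω hcan.ext2 x hxm hx0 N hN
    · exact HasInjectiveDimensionLT.subsingleton (ModuleCat.of O ↥ω) 2 j h (ModuleCat.of O N)

theorem main (hdim : ringKrullDim O = 1) (ω : Submodule O K) (hω0 : ω ≠ ⊥) (hωfg : ω.FG)
    (hinj : HasInjectiveDimensionLT (ModuleCat.of O ↥ω) 2) (M : Type u) [AddCommGroup M]
    [Module O M] [Module.Finite O M] (hM : TF O M) (i : ℕ) :
    Nonempty (Ext.{u} (ModuleCat.of O M) (ModuleCat.of O M) i ≃+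
      Ext.{u} (ModuleCat.of O (M →ₗ[O] ↥ω)) (ModuleCat.of O (M →ₗ[O] ↥ω)) i) := by
  have hcan : CanId.IsCan ω :=
    ⟨hω0, hωfg, fun X => HasInjectiveDimensionLT.subsingleton (ModuleCat.of O ↥ω) 2 2 le_rfl X⟩
  exact (dHyp_of_isCan hdim hcan hinj).main M hM i

end loc

end Groth.Agent.Lib.Helper16.RefDual
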