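import Mathlib.RingTheory.Regular.RegularSequence
import Mathlib.RingTheory.Regular.IsSMulRegular

/-!
# Regular sequences and short exact sequences (helper16)

* `quotProdEquiv`, `isWeaklyRegular_prod` : weak regularity on a product.
* `isWeaklyRegular_of_exact` : for `0 → M → N → Q → 0`, if `rs` is weakly regular on `N` and `rs`
  without its last element is weakly regular on `Q`, then `rs` is weakly regular on `M`.
-/

set_option autoImplicit false
universe u
open RingTheory.Sequence Function
open scoped Pointwise

namespace Groth.Agent.Lib.Helper16.RegSeqExact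

variable {R : Type u} [CommRing R]

section prod

variable (M M' : Type u) [AddCommGroup M] [Module R M] [AddCommGroup M'] [Module R M']

/-- `(M × M')/r ≃ M/r × M'/r` -/
noncomputable def quotProdEquiv (r : R) :
    QuotSMulTop r (M × M') ≃ₗ[R] QuotSMulTop r M × QuotSMulTop r M' := by
  let φ : (M × M') →ₗ[R] QuotSMulTop r M × QuotSMulTop r M' :=
    LinearMap.prodMap (Submodule.mkQ _) (Submodule.mkQ _)
  have hker : LinearMap.ker φ = r • (⊤ : Submodule R (M × M')) := by
    ext ⟨x, y⟩
    rw [LinearMap.mem_ker]
    constructor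
    · intro h
      have h1 : Submodule.Quotient.mk x = (0 : QuotSMulTop r M) := congrArg Prod.fst h
      have h2 : Submodule.Quotient.mk y = (0 : QuotSMulTop r M') := congrArg Prod.snd h
      rw [Submodule.Quotient.mk_eq_zero] at h1 h2
      obtain ⟨x', -, hx'⟩ := (Submodule.mem_smul_pointwise_iff_exists _ _ _).mp h1
      obtain ⟨y', -, hy'⟩ := (Submodule.mem_smul_pointwise_iff_exists _ _ _).mp h2
      exact (Submodule.mem_smul_pointwise_iff_exists _ _ _).mpr
        ⟨(x', y'), Submodule.mem_top, by rw [Prod.smul_mk, hx', hy']⟩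
    · intro h
      obtain ⟨⟨x', y'⟩, -, hxy⟩ := (Submodule.mem_smul_pointwise_iff_exists _ _ _).mp h
      rw [Prod.smul_mk, Prod.mk.injEq] at hxy
      obtain ⟨rfl, rfl⟩ := hxy
      apply Prod.ext
      · exact (Submodule.Quotient.mk_eq_zero _).mpr
          (Submodule.smul_mem_pointwise_smul _ _ _ Submodule.mem_top)
      · exact (Submodule.Quotient.mk_eq_zero _).mpr
          (Submodule.smul_mem_pointwise_smul _ _ _ Submodule.mem_top)
  have hsurj : Function.Surjective φ := by
    rintro ⟨a, b⟩
    obtain ⟨x, rfl⟩ := Submodule.mkQ_surjective _ a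
    obtain ⟨y, rfl⟩ := Submodule.mkQ_surjective _ b
    exact ⟨(x, y), rfl⟩
  exact (Submodule.quotEquivOfEq _ _ hker.symm).trans (φ.quotKerEquivOfSurjective hsurj)

variable {M M'}

theorem isWeaklyRegular_prod : ∀ (rs : List R) (M M' : Type u) [AddCommGroup M] [Module R M]
    [AddCommGroup M'] [Module R M'], IsWeaklyRegular M rs → IsWeaklyRegular M' rs →
    IsWeaklyRegular (M × M') rs := by
  intro rs
  induction rs with
  | nil => intro M M' _ _ _ _ _ _; exact IsWeaklyRegular.nil R _
  | cons r rs ih =>
    intro M M' _ _ _ _ h1 h2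
    rw [isWeaklyRegular_cons_iff] at h1 h2 ⊢
    refine ⟨?_, ?_⟩
    · intro a b hab
      have hab' : r • a = r • b := hab
      rw [Prod.ext_iff] at hab' ⊢
      exact ⟨h1.1 hab'.1, h2.1 hab'.2⟩
    · exact ((quotProdEquiv M M' r).isWeaklyRegular_congr rs).mpr (ih _ _ h1.2 h2.2)

end prod

section exact

/-- if `rs` is weakly regular on the middle term of a short exact sequence and all but the last
element of `rs` are weakly regular on the right term, then `rs` is weakly regular on the left
term -/
theorem isWeaklyRegular_of_exact : ∀ (rs : List R) (M N Q : Type u) [AddCommGroup M] [Module R M]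
    [AddCommGroup N] [Module R N] [AddCommGroup Q] [Module R Q]
    (ι : M →ₗ[R] N) (π : N →ₗ[R] Q), Injective ι → Surjective π → Exact ι π →
    IsWeaklyRegular N rs → IsWeaklyRegular Q (rs.take (rs.length - 1)) →
    IsWeaklyRegular M rs := by
  intro rs
  induction rs with
  | nil => intro M N Q _ _ _ _ _ _ _ _ _ _ _ _ _; exact IsWeaklyRegular.nil R _
  | cons r rs ih =>
    intro M N Q _ _ _ _ _ _ ι π hι hπ hex hN hQ
    rw [isWeaklyRegular_cons_iff] at hN ⊢
    refine ⟨hN.1.of_injective ι hι, ?_⟩
    cases rs with
    | nil => exact IsWeaklyRegular.nil R _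
    | cons r' rs' =>
      have hlen : (r :: r' :: rs').take ((r :: r' :: rs').length - 1) =
          r :: (r' :: rs').take ((r' :: rs').length - 1) := by
        simp
      rw [hlen, isWeaklyRegular_cons_iff] at hQ
      -- exactness of `0 → M/r → N/r → Q/r → 0`
      have hex0 : Exact (0 : PUnit.{u+1} →ₗ[R] M) ι := by
        intro x
        constructor
        · intro hx
          have hx0 : x = 0 := hι (by rw [hx, map_zero])
          exact ⟨0, by rw [hx0]; rfl⟩
        · rintro ⟨_, rfl⟩
          simp
      have h1 := QuotSMulTop.map_first_exact_on_four_term_exact_of_isSMulRegular_last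
        hex0 hex hQ.1
      have hinj : Injective (QuotSMulTop.map r ι) := by
        rw [injective_iff_map_eq_zero]
        intro x hx
        obtain ⟨y, hy⟩ := (h1 x).mp hx
        rw [← hy]
        have : y = 0 := Subsingleton.elim _ _
        rw [this, map_zero]
      exact ih (QuotSMulTop r M) (QuotSMulTop r N) (QuotSMulTop r Q)
        (QuotSMulTop.map r ι) (QuotSMulTop.map r π) hinj
        (QuotSMulTop.map_surjective r hπ) (QuotSMulTop.map_exact r hex hπ) hN.2 hQ.2

end exact

end Groth.Agent.Lib.Helper16.RegSeqExact
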