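import Mathlib
import Groth.Agent.Lib.Helper16.RegSeqExact

/-!
# Weakly regular sequences: extensions and Krull-intersection lifting (helper16)
-/

set_option autoImplicit false
set_option linter.unusedSectionVars false
set_option linter.unusedVariables false
set_option linter.style.haveILetI false
universe u v

open Pointwise RingTheory.Sequence Function

namespace Groth.Agent.Lib.Helper16.RegSeqKrull

section mid

variable {R : Type u} [CommRing R]

theorem isWeaklyRegular_of_subsingleton (rs : List R) : ∀ (M : Type u) [AddCommGroup M]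
    [Module R M] [Subsingleton M], IsWeaklyRegular M rs := by
  induction rs with
  | nil => intro M _ _ _; exact IsWeaklyRegular.nil R M
  | cons r rs ih =>
    intro M _ _ _
    rw [isWeaklyRegular_cons_iff]
    refine ⟨fun a b _ => Subsingleton.elim a b, ih _⟩

/-- weakly regular on both ends of a short exact sequence implies weakly regular on the middle -/
theorem isWeaklyRegular_mid : ∀ (rs : List R) (M N Q : Type u) [AddCommGroup M] [Module R M]
    [AddCommGroup N] [Module R N] [AddCommGroup Q] [Module R Q]
    (ι : M →ₗ[R] N) (π : N →ₗ[R] Q), Injective ι → Surjective π → Exact ι π →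
    IsWeaklyRegular M rs → IsWeaklyRegular Q rs → IsWeaklyRegular N rs := by
  intro rs
  induction rs with
  | nil => intro M N Q _ _ _ _ _ _ _ _ _ _ _ _ _; exact IsWeaklyRegular.nil R _
  | cons r rs ih =>
    intro M N Q _ _ _ _ _ _ ι π hι hπ hex hM hQ
    rw [isWeaklyRegular_cons_iff] at hM hQ ⊢
    have hreg : IsSMulRegular N r := by
      intro a b hab
      have hab' : r • (a - b) = 0 := by rw [smul_sub]; exact sub_eq_zero.mpr hab
      have h1 : π (a - b) = 0 := by
        apply hQ.1
        change r • π (a - b) = r • 0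
        rw [← map_smul, hab', map_zero, smul_zero]
      obtain ⟨m, hm⟩ := (hex (a - b)).mp h1
      have h2 : m = 0 := by
        apply hM.1
        change r • m = r • 0
        apply hι
        rw [map_smul, hm, hab', smul_zero, map_zero]
      rw [h2, map_zero] at hm
      exact sub_eq_zero.mp hm.symm
    refine ⟨hreg, ?_⟩
    have hex0 : Exact (0 : PUnit.{u+1} →ₗ[R] M) ι := by
      intro x
      constructor
      · intro hx
        have hx0 : x = 0 := hι (by rw [hx, map_zero])
        exact ⟨0, by rw [hx0]; rfl⟩
      · rintro ⟨_, rfl⟩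
        simp
    have h1 := QuotSMulTop.map_first_exact_on_four_term_exact_of_isSMulRegular_last
      hex0 hex hQ.1
    have hinj : Injective (QuotSMulTop.map r ι) := by
      rw [injective_iff_map_eq_zero]
      intro x hx
      obtain ⟨y, hy⟩ := (h1 x).mp hx
      rw [← hy]
      have : y = 0 := Subsingleton.elim _ _
      rw [this, map_zero]
    exact ih (QuotSMulTop r M) (QuotSMulTop r N) (QuotSMulTop r Q)
      (QuotSMulTop.map r ι) (QuotSMulTop.map r π) hinj
      (QuotSMulTop.map_surjective r hπ) (QuotSMulTop.map_exact r hex hπ) hM.2 hQ.2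

end mid

section krull

variable {A : Type u} [CommRing A] [IsNoetherianRing A] [IsLocalRing A]

/-- `(X/fX)/J^n(X/fX) ≃ (X/J^n X)/f(X/J^n X)` -/
noncomputable def quotSwapEquiv (J : Ideal A) (f : A) (n : ℕ) (X : Type u) [AddCommGroup X]
    [Module A X] :
    (QuotSMulTop f X ⧸ (J ^ n • ⊤ : Submodule A (QuotSMulTop f X))) ≃ₗ[A]
      QuotSMulTop f (X ⧸ (J ^ n • ⊤ : Submodule A X)) := by
  have h1 : (J ^ n • ⊤ : Submodule A (QuotSMulTop f X)) =
      (J ^ n • ⊤ : Submodule A X).map (f • (⊤ : Submodule A X)).mkQ := by
    rw [Submodule.map_smul'', Submodule.map_top, Submodule.range_mkQ]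
  have h2 : (f • ⊤ : Submodule A (X ⧸ (J ^ n • ⊤ : Submodule A X))) =
      (f • (⊤ : Submodule A X)).map (J ^ n • ⊤ : Submodule A X).mkQ := by
    rw [Submodule.map_pointwise_smul, Submodule.map_top, Submodule.range_mkQ]
  exact (Submodule.quotEquivOfEq _ _ h1).trans
    ((Submodule.quotientQuotientEquivQuotientSup _ _).trans
      ((Submodule.quotEquivOfEq _ _ (sup_comm _ _)).trans
        ((Submodule.quotientQuotientEquivQuotientSup _ _).symm.trans
          (Submodule.quotEquivOfEq _ _ h2.symm))))

theorem isWeaklyRegular_of_forall_quot (J : Ideal A) (hJ : J ≠ ⊤) (fs : List A) :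
    ∀ (X : Type u) [AddCommGroup X] [Module A X] [Module.Finite A X],
      (∀ n : ℕ, IsWeaklyRegular (X ⧸ (J ^ n • ⊤ : Submodule A X)) fs) → IsWeaklyRegular X fs := by
  induction fs with
  | nil => intro X _ _ _ _; exact IsWeaklyRegular.nil A X
  | cons f fs ih =>
    intro X _ _ _ h
    rw [isWeaklyRegular_cons_iff]
    constructor
    · intro a b hab
      have hab' : f • (a - b) = 0 := by rw [smul_sub]; exact sub_eq_zero.mpr hab
      have hmem : a - b ∈ (⨅ i : ℕ, J ^ i • ⊤ : Submodule A X) := by
        rw [Submodule.mem_iInf]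
        intro n
        have hn := ((isWeaklyRegular_cons_iff _ f fs).mp (h n)).1
        have h0 : Submodule.Quotient.mk (p := (J ^ n • ⊤ : Submodule A X)) (a - b) = 0 := by
          apply hn
          change f • Submodule.Quotient.mk (a - b) = f • 0
          rw [← Submodule.Quotient.mk_smul, hab', Submodule.Quotient.mk_zero, smul_zero]
        exact (Submodule.Quotient.mk_eq_zero _).mp h0
      rw [Ideal.iInf_pow_smul_eq_bot_of_isLocalRing J hJ, Submodule.mem_bot] at hmem
      exact sub_eq_zero.mp hmem
    · apply ih
      intro n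
      have hn := ((isWeaklyRegular_cons_iff _ f fs).mp (h n)).2
      exact ((quotSwapEquiv J f n X).isWeaklyRegular_congr fs).mpr hn

end krull

end Groth.Agent.Lib.Helper16.RegSeqKrull
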