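import Groth.Agent.Lib.Helper16.RelCodim

/-!
# `c(p) = 1` iff `p` is covered by a prime containing `I` (helper16)
-/

set_option autoImplicit false
universe u

namespace Groth.Agent.Lib.Helper16.RC

open Groth.Agent.Lib.Helper16.Depth

variable {A : Type u} [CommRing A]

/-- If `p ⋖ q` then `ht (q/p) ≤ 1`. -/
theorem height_map_mk_le_one_of_covBy (p q : PrimeSpectrum A) (hpq : p ⋖ q) :
    (q.asIdeal.map (Ideal.Quotient.mk p.asIdeal)).height ≤ 1 := by
  have hQ : (q.asIdeal.map (Ideal.Quotient.mk p.asIdeal)).IsPrime :=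
    map_mk_isPrime p.asIdeal q.asIdeal hpq.le
  have hdom : IsDomain (A ⧸ p.asIdeal) := Ideal.Quotient.isDomain p.asIdeal
  have h := (Ideal.height_le_iff (p := q.asIdeal.map (Ideal.Quotient.mk p.asIdeal)) (n := 1)).mpr
  rw [Nat.cast_one] at h
  apply h
  intro Q' hQ' hlt
  let r : PrimeSpectrum A := ⟨Q'.comap (Ideal.Quotient.mk p.asIdeal), inferInstance⟩
  have hpr : p ≤ r := by
    change p.asIdeal ≤ Q'.comap (Ideal.Quotient.mk p.asIdeal)
    intro x hx
    rw [Ideal.mem_comap, Ideal.Quotient.eq_zero_iff_mem.mpr hx]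
    exact Q'.zero_mem
  have hrq : r < q := by
    have h1 : Q'.comap (Ideal.Quotient.mk p.asIdeal) <
        (q.asIdeal.map (Ideal.Quotient.mk p.asIdeal)).comap (Ideal.Quotient.mk p.asIdeal) :=
      lt_of_le_of_ne (Ideal.comap_mono hlt.le) (fun heq => hlt.ne
        (Ideal.comap_injective_of_surjective _ Ideal.Quotient.mk_surjective heq))
    rw [comap_map_mk p.asIdeal q.asIdeal hpq.le] at h1
    exact h1
  have hrp : r = p := by
    rcases hpq.eq_or_eq hpr hrq.le with h | h
    · exact h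
    · exact absurd h hrq.ne
  have hQ'bot : Q' = ⊥ := by
    have h1 : Q' = r.asIdeal.map (Ideal.Quotient.mk p.asIdeal) :=
      (Ideal.map_comap_of_surjective _ Ideal.Quotient.mk_surjective Q').symm
    rw [h1, hrp]
    exact Ideal.map_quotient_self _
  rw [hQ'bot, Ideal.height_bot]
  exact zero_lt_one

/-- For `p ⊉ I`: `c(p) = 1` iff some prime containing `I` covers `p`. -/
theorem relCodim_eq_one_iff_exists_covBy [IsNoetherianRing A] (I : Ideal A) (p : PrimeSpectrum A)
    (hIp : ¬ I ≤ p.asIdeal) :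
    SGA2.relCodim I p = 1 ↔ ∃ q : PrimeSpectrum A, I ≤ q.asIdeal ∧ p ⋖ q := by
  constructor
  · intro hc
    have hne : Nonempty {q : PrimeSpectrum A // p ≤ q ∧ I ≤ q.asIdeal} := by
      by_contra hempty
      rw [not_nonempty_iff] at hempty
      rw [relCodim_eq_iInf, iInf_of_empty] at hc
      exact ENat.top_ne_one hc
    obtain ⟨⟨q, hpq, hIq⟩, hq⟩ := ENat.exists_eq_iInf
      (fun q : {q : PrimeSpectrum A // p ≤ q ∧ I ≤ q.asIdeal} =>
        (q.1.asIdeal.map (Ideal.Quotient.mk p.asIdeal)).height)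
    rw [← relCodim_eq_iInf, hc] at hq
    simp only at hq
    refine ⟨q, hIq, lt_of_le_of_ne hpq ?_, ?_⟩
    · rintro rfl
      exact hIp hIq
    · intro r hpr hrq
      have h1 := height_map_add_height_map_le p.asIdeal r.asIdeal q.asIdeal hpr.le hrq.le
      rw [hq] at h1
      have h2 : 1 ≤ (r.asIdeal.map (Ideal.Quotient.mk p.asIdeal)).height := by
        rw [Order.one_le_iff_ne_zero]
        intro h0
        exact hpr.ne ((height_map_mk_eq_zero_iff p r hpr.le).mp h0).symm
      have h3 : 1 ≤ (q.asIdeal.map (Ideal.Quotient.mk r.asIdeal)).height := by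
        rw [Order.one_le_iff_ne_zero]
        intro h0
        exact hrq.ne ((height_map_mk_eq_zero_iff r q hrq.le).mp h0).symm
      have h4 : (1 : ℕ∞) + 1 ≤ 1 := (add_le_add h2 h3).trans h1
      exact absurd h4 (by decide)
  · rintro ⟨q, hIq, hpq⟩
    apply le_antisymm
    · exact (relCodim_le I p q hpq.le hIq).trans (height_map_mk_le_one_of_covBy p q hpq)
    · exact (one_le_relCodim_iff I p).mpr hIp

end Groth.Agent.Lib.Helper16.RC
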