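import Groth.Agent.Lib.Helper16.LCGeneralize
import Groth.Agent.Lib.Helper16.RelCodim
import Groth.Agent.Lib.Helper16.RegularGorenstein

/-!
# SGA 2 VIII: reduction of the finiteness hypothesis to codimension one (helper16)

* localRingHom_surjective : the induced map on localizations of a surjection is surjective.
* codim_one_reduction : over a quotient of a regular ring, H^{i-c(p)}(M_p) = 0 for all p not containing I iff this holds for those p with c(p) = 1.
-/

set_option autoImplicit false
universe u
open IsLocalRing

namespace Groth.Agent.Lib.Helper16.SGA2CodimOne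

theorem localRingHom_surjective {R A : Type u} [CommRing R] [CommRing A] (π : R →+* A)
    (hπ : Function.Surjective π) (p : Ideal A) [p.IsPrime] :
    Function.Surjective (Localization.localRingHom (p.comap π) p π rfl) := by
  intro x
  obtain ⟨r, t, rfl⟩ := IsLocalization.exists_mk'_eq p.primeCompl x
  obtain ⟨s, rfl⟩ := hπ r
  obtain ⟨s', hs'⟩ := hπ t.1
  have hs'P : s' ∈ (p.comap π).primeCompl := by
    change s' ∉ p.comap π
    rw [Ideal.mem_comap, hs']
    exact t.2
  refine ⟨IsLocalization.mk' _ s ⟨s', hs'P⟩, ?_⟩
  rw [Localization.localRingHom_mk']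
  congr 1
  exact Subtype.ext hs'

/-- SGA 2 VIII: the finiteness hypothesis reduces to its codimension-one case. -/
theorem codim_one_reduction (R : Type u) [CommRing R] [IsRegularRing R] (A : Type u) [CommRing A]
    [IsNoetherianRing A] (π : R →+* A) (hπ : Function.Surjective π) (I : Ideal A) (M : Type u)
    [AddCommGroup M] [Module A M] [Module.Finite A M] (i : ℕ) :
    (∀ p : PrimeSpectrum A, ¬ I ≤ p.asIdeal → ∀ (c j : ℕ), SGA2.relCodim I p = c → j + c = i →
      Subsingleton (LocCoh.H (maximalIdeal (Localization.AtPrime p.asIdeal)) j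
        (LocalizedModule p.asIdeal.primeCompl M))) ↔
    (∀ p : PrimeSpectrum A, ¬ I ≤ p.asIdeal → SGA2.relCodim I p = 1 → ∀ j : ℕ, j + 1 = i →
      Subsingleton (LocCoh.H (maximalIdeal (Localization.AtPrime p.asIdeal)) j
        (LocalizedModule p.asIdeal.primeCompl M))) := by
  constructor
  · intro h p hIp hc j hj
    exact h p hIp 1 j (by rw [hc]; rfl) hj
  · intro h p hIp c j hc hj
    obtain ⟨p', hpp', hIp', hc', hht⟩ := RC.exists_relCodim_eq_one I p hIp c hc
    have hp := p.2
    have hp' := p'.2
    have hprime : (p'.asIdeal.map (Ideal.Quotient.mk p.asIdeal)).IsPrime :=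
      Ideal.map_isPrime_of_surjective Ideal.Quotient.mk_surjective (by rwa [Ideal.mk_ker])
    obtain ⟨t, ht⟩ := ENat.ne_top_iff_exists.mp
      (Ideal.height_ne_top (I := p'.asIdeal.map (Ideal.Quotient.mk p.asIdeal)) hprime.ne_top)
    rw [← ht] at hht
    have htc : t + 1 = c := by exact_mod_cast hht
    have h1 := h p' hIp' hc' (j + t) (by omega)
    have hreg : IsRegularLocalRing (Localization.AtPrime (p'.asIdeal.comap π)) :=
      IsRegularRing.isRegularLocalRing_localization _
    have hgor := RegGor.isGorensteinLocalRing_of_isRegularLocalRing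
      (Localization.AtPrime (p'.asIdeal.comap π))
    exact LCGen.subsingleton_H_of_le M p.asIdeal p'.asIdeal hpp'
      (Localization.AtPrime (p'.asIdeal.comap π))
      (Localization.localRingHom (p'.asIdeal.comap π) p'.asIdeal π rfl)
      (localRingHom_surjective π hπ p'.asIdeal) t j ht.symm h1

end Groth.Agent.Lib.Helper16.SGA2CodimOne
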