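import Mathlib
import Groth.Prelude.Def_W4c6secantcecoversSchSt

/-!
# contraction antiderivation and the key sign identity (Scheja-Storch)
-/

set_option autoImplicit false

namespace Groth.Agent.Lib.Helper16.SS

open TensorProduct W4c6secantcecovers

universe u v
variable (R : Type u) [CommRing R] (r : ℕ)

section ext
variable {R} {M : Type*} [AddCommGroup M] [Module R M]

/-- antiderivation property of the contraction on products of vectors -/
theorem contract_prod_mul (d : Module.Dual R M) (vs : List M) (b : ExteriorAlgebra R M) :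
    CliffordAlgebra.contractLeft (Q := (0 : QuadraticForm R M)) d
        ((vs.map (ExteriorAlgebra.ι R)).prod * b)
      = CliffordAlgebra.contractLeft (Q := (0 : QuadraticForm R M)) d
          ((vs.map (ExteriorAlgebra.ι R)).prod) * b
        + (-1 : R) ^ vs.length •
          ((vs.map (ExteriorAlgebra.ι R)).prod *
            CliffordAlgebra.contractLeft (Q := (0 : QuadraticForm R M)) d b) := by
  induction vs with
  | nil => simp [CliffordAlgebra.contractLeft_one]
  | cons v vs ih =>
    simp only [List.map_cons, List.prod_cons, List.length_cons, mul_assoc]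
    have h1 := CliffordAlgebra.contractLeft_ι_mul (Q := (0 : QuadraticForm R M)) (d := d) v
      ((vs.map (ExteriorAlgebra.ι R)).prod * b)
    have h2 := CliffordAlgebra.contractLeft_ι_mul (Q := (0 : QuadraticForm R M)) (d := d) v
      ((vs.map (ExteriorAlgebra.ι R)).prod)
    change CliffordAlgebra.contractLeft d (CliffordAlgebra.ι 0 v * _) = _
    rw [h1, ih]
    change _ = CliffordAlgebra.contractLeft d (CliffordAlgebra.ι 0 v * _) * b + _
    rw [h2]
    simp only [sub_mul, mul_add, smul_mul_assoc, mul_smul_comm, pow_succ, mul_assoc]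
    change _ = _ + ((-1 : R) ^ vs.length * (-1 : R)) • (ExteriorAlgebra.ι R v * _)
    rw [mul_comm ((-1 : R) ^ vs.length) (-1 : R), mul_smul, neg_one_smul]
    change _ = _ + -((-1 : R) ^ vs.length • (CliffordAlgebra.ι 0 v * _))
    abel

end ext

theorem ιMulti_eq_zero (n : ℕ) (hn : r < n) (v : Fin n → (Fin r → R)) :
    ExteriorAlgebra.ιMulti R n v = 0 := by
  have h : ExteriorAlgebra.ιMulti R n = (0 : (Fin r → R) [⋀^Fin n]→ₗ[R] ExteriorAlgebra R (Fin r → R)) := by
    apply Module.Basis.ext_alternating (Pi.basisFun R (Fin r))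
    intro w hw
    exfalso
    have := Fintype.card_le_of_injective w hw
    simp at this
    omega
  rw [h]; rfl

theorem prod_eq_zero (vs : List (Fin r → R)) (h : r < vs.length) :
    (vs.map (ExteriorAlgebra.ι R)).prod = 0 := by
  have h1 := ιMulti_eq_zero R r vs.length h (fun i => vs.get i)
  rw [ExteriorAlgebra.ιMulti_apply] at h1
  rw [← h1]
  congr 1
  conv_lhs => rw [← List.ofFn_get vs]
  rw [List.map_ofFn]
  rfl

theorem ιMulti_eq_prod (n : ℕ) (v : Fin n → (Fin r → R)) :
    ExteriorAlgebra.ιMulti R n v = ((List.ofFn v).map (ExteriorAlgebra.ι R)).prod := by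
  rw [ExteriorAlgebra.ιMulti_apply, List.map_ofFn]
  rfl

/-- the key sign identity -/
theorem key (k : ℕ) (hk : k < r) (e : Fin (k + 1) → (Fin r → R)) (f : Fin (r - k) → (Fin r → R))
    (j : Fin r) :
    ssContr R r j (ExteriorAlgebra.ιMulti R (k + 1) e) * ExteriorAlgebra.ιMulti R (r - k) f
      = (-1 : R) ^ k •
        (ExteriorAlgebra.ιMulti R (k + 1) e * ssContr R r j (ExteriorAlgebra.ιMulti R (r - k) f)) := by
  rw [ιMulti_eq_prod, ιMulti_eq_prod]
  unfold ssContr
  have h1 := contract_prod_mul (LinearMap.proj (R := R) (φ := fun _ : Fin r => R) j) (List.ofFn e)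
    (((List.ofFn f).map (ExteriorAlgebra.ι R)).prod)
  have h2 : ((List.ofFn e).map (ExteriorAlgebra.ι R)).prod
      * ((List.ofFn f).map (ExteriorAlgebra.ι R)).prod = 0 := by
    rw [← List.prod_append, ← List.map_append]
    apply prod_eq_zero
    simp; omega
  rw [h2, map_zero, List.length_ofFn] at h1
  have h3 := eq_neg_of_add_eq_zero_left h1.symm
  rw [h3, pow_succ, mul_smul, ← smul_neg, neg_one_smul, neg_neg]

end Groth.Agent.Lib.Helper16.SS
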