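import Mathlib
import Groth.Prelude.Def_W4c6secantcecoversSchSt
import Groth.Agent.Lib.Helper16.SS1

/-!
# Scheja-Storch adjointness
-/

set_option autoImplicit false

namespace Groth.Agent.Lib.Helper16.SS

open TensorProduct W4c6secantcecovers

universe u v
variable (R : Type u) [CommRing R] (r : ℕ) (N : Type v) [AddCommGroup N] [Module R N]

theorem pair_tmul (β : N →ₗ[R] N →ₗ[R] R) (k : ℕ) (a b : SSLam R r)
    (s t : MvPolynomial (Fin r) R) (n m : N) :
    ssPair R r N β k ((a ⊗ₜ[R] s) ⊗ₜ[R] n) ((b ⊗ₜ[R] t) ⊗ₜ[R] m)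
      = ((-1 : R) ^ (k.choose 2) * β n m) • ((a * b) ⊗ₜ[R] (s * t) : SSB R r) := by
  simp only [ssPair, ssPairAux, LinearMap.smul_apply, TensorProduct.curry_apply,
    LinearMap.coe_comp, LinearEquiv.coe_coe, Function.comp_apply,
    TensorProduct.tensorTensorTensorComm_tmul, TensorProduct.map_tmul, LinearMap.mul'_apply,
    TensorProduct.lift.tmul, TensorProduct.rid_tmul, Algebra.TensorProduct.tmul_mul_tmul, mul_smul]

theorem delta_tmul (φ : Fin r → (N →ₗ[R] N)) (a : SSLam R r) (s : MvPolynomial (Fin r) R) (n : N) :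
    ssDelta R r N φ ((a ⊗ₜ[R] s) ⊗ₜ[R] n)
      = ∑ j : Fin r, (((ssContr R r j a) ⊗ₜ[R] (MvPolynomial.X j * s)) ⊗ₜ[R] n
          - ((ssContr R r j a) ⊗ₜ[R] s) ⊗ₜ[R] (φ j n)) := by
  simp only [ssDelta, ssDKoszul, ssDAct, LinearMap.sum_apply, LinearMap.add_apply,
    LinearMap.smul_apply, TensorProduct.map_tmul, LinearMap.mulLeft_apply, LinearMap.id_coe, id_eq]
  apply Finset.sum_congr rfl
  intro j _
  rw [sub_eq_add_neg]
  congr 1

theorem main (φ : Fin r → (N →ₗ[R] N)) (β : N →ₗ[R] N →ₗ[R] R)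
    (hβ : ∀ (j : Fin r) (n m : N), β (φ j n) m = β n (φ j m))
    (k : ℕ) (hk : k < r)
    (e : Fin (k + 1) → (Fin r → R)) (f : Fin (r - k) → (Fin r → R))
    (s t : MvPolynomial (Fin r) R) (n m : N) :
    ssPair R r N β k
        (ssDelta R r N φ ((ExteriorAlgebra.ιMulti R (k + 1) e ⊗ₜ[R] s) ⊗ₜ[R] n))
        ((ExteriorAlgebra.ιMulti R (r - k) f ⊗ₜ[R] t) ⊗ₜ[R] m) =
      ssPair R r N β (k + 1)
        ((ExteriorAlgebra.ιMulti R (k + 1) e ⊗ₜ[R] s) ⊗ₜ[R] n)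
        (ssDelta R r N φ ((ExteriorAlgebra.ιMulti R (r - k) f ⊗ₜ[R] t) ⊗ₜ[R] m)) := by
  rw [delta_tmul, delta_tmul, map_sum, LinearMap.sum_apply, map_sum]
  apply Finset.sum_congr rfl
  intro j _
  rw [map_sub, LinearMap.sub_apply, map_sub, pair_tmul, pair_tmul, pair_tmul, pair_tmul,
    key R r k hk e f j, hβ]
  have hc : (k + 1).choose 2 = k + k.choose 2 := by
    rw [Nat.choose_succ_succ, Nat.choose_one_right]
  rw [hc, pow_add]
  simp only [TensorProduct.smul_tmul', smul_smul]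
  have e1 : MvPolynomial.X j * s * t = s * (MvPolynomial.X j * t) := by ring
  rw [e1]
  have s1 : (-1 : R) ^ k.choose 2 * (β n) m * (-1) ^ k = (-1) ^ k * (-1) ^ k.choose 2 * (β n) m := by
    ring
  have s2 : (-1 : R) ^ k.choose 2 * (β n) ((φ j) m) * (-1) ^ k
      = (-1) ^ k * (-1) ^ k.choose 2 * (β n) ((φ j) m) := by
    ring
  rw [s1, s2]

end Groth.Agent.Lib.Helper16.SS
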