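import Mathlib
import Groth.Prelude.Def_CAlg
import Groth.Agent.Lib.Helper16.DepthLocalize
import Groth.Agent.Lib.Helper18.SkAt

/-!
# Serre's condition (S_k) passes to localizations at a submonoid (module level)
-/

set_option autoImplicit false
set_option linter.unusedSectionVars false
universe u
open IsLocalRing

namespace Groth.Agent.Lib.Helper16.SkEmb

section supp

variable {A : Type u} [CommRing A] (T : Submonoid A)
  (M : Type u) [AddCommGroup M] [Module A M]

theorem notMem_of_mem_submonoid (Q : PrimeSpectrum (Localization T)) (t : A) (ht : t ∈ T) :
    algebraMap A (Localization T) t ∉ Q.asIdeal := by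
  intro htQ
  have hu : IsUnit (algebraMap A (Localization T) t) :=
    IsLocalization.map_units (Localization T) (⟨t, ht⟩ : T)
  exact Q.isPrime.ne_top (Ideal.eq_top_of_isUnit_mem _ htQ hu)

theorem mem_support_localizedModule_iff (Q : PrimeSpectrum (Localization T)) :
    Q ∈ Module.support (Localization T) (LocalizedModule T M) ↔
      PrimeSpectrum.comap (algebraMap A (Localization T)) Q ∈ Module.support A M := by
  have hQp := notMem_of_mem_submonoid T Q
  rw [Module.mem_support_iff_exists_annihilator, Module.mem_support_iff_exists_annihilator]
  constructor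
  · rintro ⟨z, hz⟩
    induction z using LocalizedModule.induction_on with
    | h m s =>
      refine ⟨m, ?_⟩
      intro a ha
      change algebraMap A (Localization T) a ∈ Q.asIdeal
      apply hz
      rw [Submodule.mem_annihilator_span_singleton] at ha ⊢
      rw [algebraMap_smul, LocalizedModule.smul'_mk, ha, LocalizedModule.zero_mk]
  · rintro ⟨m, hm⟩
    refine ⟨LocalizedModule.mk m 1, ?_⟩
    intro x hx
    obtain ⟨a, s, rfl⟩ := IsLocalization.exists_mk'_eq T x
    rw [Submodule.mem_annihilator_span_singleton] at hx
    have h1 : algebraMap A (Localization T) a • LocalizedModule.mk m (1 : T) = 0 := by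
      have : algebraMap A (Localization T) a =
          algebraMap A (Localization T) s * IsLocalization.mk' _ a s := by
        rw [IsLocalization.mul_mk'_eq_mk'_of_mul, IsLocalization.mk'_mul_cancel_left]
      rw [this, mul_smul, hx, smul_zero]
    rw [algebraMap_smul, LocalizedModule.smul'_mk, ← LocalizedModule.zero_mk (1 : T),
      LocalizedModule.mk_eq] at h1
    obtain ⟨t, ht⟩ := h1
    simp only [one_smul, smul_zero] at ht
    have hta : (t : A) * a ∈ (PrimeSpectrum.comap (algebraMap A (Localization T)) Q).asIdeal := by
      apply hm
      rw [Submodule.mem_annihilator_span_singleton, mul_smul]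
      exact ht
    change algebraMap A (Localization T) ((t : A) * a) ∈ Q.asIdeal at hta
    rw [map_mul] at hta
    have ha : algebraMap A (Localization T) a ∈ Q.asIdeal :=
      (Q.isPrime.mem_or_mem hta).resolve_left (hQp t t.2)
    rw [IsLocalization.mk'_eq_mul_mk'_one]
    exact Ideal.mul_mem_right _ _ ha

theorem disjoint_of_le_comap (P : Ideal (Localization T)) [hP : P.IsPrime] (q : Ideal A)
    (hq : q ≤ P.comap (algebraMap A (Localization T))) : Disjoint (T : Set A) (q : Set A) := by
  rw [Set.disjoint_left]
  intro x hx hxq
  exact notMem_of_mem_submonoid T ⟨P, hP⟩ x hx (hq hxq)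

/-- primes of `Supp M_T` below `P` correspond to primes of `Supp M` below `P ∩ A` -/
noncomputable def iicOrderIso (P : Ideal (Localization T)) [hP : P.IsPrime] :
    {Q'' : Module.support (Localization T) (LocalizedModule T M) //
        Q''.1.asIdeal ≤ P} ≃o
      {Q : Module.support A M //
        Q.1.asIdeal ≤ P.comap (algebraMap A (Localization T))} where
  toFun Q'' := ⟨⟨PrimeSpectrum.comap (algebraMap A (Localization T)) Q''.1.1,
      (mem_support_localizedModule_iff T M Q''.1.1).mp Q''.1.2⟩,
    Ideal.comap_mono Q''.2⟩
  invFun Q :=
    have hdisj : Disjoint (T : Set A) (Q.1.1.asIdeal : Set A) :=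
      disjoint_of_le_comap T P _ Q.2
    have hprime : (Q.1.1.asIdeal.map (algebraMap A (Localization T))).IsPrime :=
      IsLocalization.isPrime_of_isPrime_disjoint T (Localization T) _
        Q.1.1.isPrime hdisj
    have hcm : (Q.1.1.asIdeal.map (algebraMap A (Localization T))).comap
        (algebraMap A (Localization T)) = Q.1.1.asIdeal :=
      IsLocalization.under_map_of_isPrime_disjoint T (Localization T)
        Q.1.1.isPrime hdisj
    ⟨⟨⟨Q.1.1.asIdeal.map (algebraMap A (Localization T)), hprime⟩, by
      rw [mem_support_localizedModule_iff]
      have : PrimeSpectrum.comap (algebraMap A (Localization T))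
          ⟨Q.1.1.asIdeal.map (algebraMap A (Localization T)), hprime⟩ = Q.1.1 := by
        ext1
        exact hcm
      rw [this]
      exact Q.1.2⟩, by
      change Q.1.1.asIdeal.map (algebraMap A (Localization T)) ≤ P
      rw [Ideal.map_le_iff_le_comap]
      exact Q.2⟩
  left_inv Q'' := by
    apply Subtype.ext
    apply Subtype.ext
    ext1
    exact IsLocalization.map_under T (Localization T) Q''.1.1.asIdeal
  right_inv Q := by
    apply Subtype.ext
    apply Subtype.ext
    ext1
    exact IsLocalization.under_map_of_isPrime_disjoint T (Localization T)
      Q.1.1.isPrime (disjoint_of_le_comap T P _ Q.2)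
  map_rel_iff' := by
    intro Q₁ Q₂
    constructor
    · intro h
      have h' : Ideal.comap (algebraMap A (Localization T)) Q₁.1.1.asIdeal ≤
          Ideal.comap (algebraMap A (Localization T)) Q₂.1.1.asIdeal := h
      change Q₁.1.1.asIdeal ≤ Q₂.1.1.asIdeal
      rw [← IsLocalization.map_under T (Localization T) Q₁.1.1.asIdeal,
        ← IsLocalization.map_under T (Localization T) Q₂.1.1.asIdeal]
      exact Ideal.map_mono h'
    · intro h
      have h' : Q₁.1.1.asIdeal ≤ Q₂.1.1.asIdeal := h
      exact Ideal.comap_mono h'

/-- `dim (M_T)_P = dim M_{P ∩ A}` -/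
theorem supportDim_localization_localization (P : Ideal (Localization T)) [P.IsPrime] :
    Module.supportDim (Localization.AtPrime P)
        (LocalizedModule P.primeCompl (LocalizedModule T M)) =
      Module.supportDim (Localization.AtPrime (P.comap (algebraMap A (Localization T))))
        (LocalizedModule (P.comap (algebraMap A (Localization T))).primeCompl M) := by
  rw [Groth.Agent.Lib.Helper18.SkAt.supportDim_localizedModule_eq_krullDim,
    Groth.Agent.Lib.Helper18.SkAt.supportDim_localizedModule_eq_krullDim]
  exact Order.krullDim_eq_of_orderIso (iicOrderIso T M P)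

/-- The composite `M → M_T → (M_T)_P` is a localization of `M` at the contraction of `P`. -/
theorem isLocalizedModule_comp_mkLinearMap (P : Ideal (Localization T)) [P.IsPrime] :
    IsLocalizedModule (P.comap (algebraMap A (Localization T))).primeCompl
      ((LocalizedModule.mkLinearMap P.primeCompl
          (LocalizedModule T M)).restrictScalars A ∘ₗ
        LocalizedModule.mkLinearMap T M) := by
  have : IsLocalization.AtPrime (Localization.AtPrime P)
      (P.comap (algebraMap A (Localization T))) :=
    IsLocalization.isLocalization_isLocalization_atPrime_isLocalization T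
      (Localization.AtPrime P) P
  have h₁ : IsBaseChange (Localization T) (LocalizedModule.mkLinearMap T M) :=
    (isLocalizedModule_iff_isBaseChange T _ _).mp inferInstance
  have h₂ : IsBaseChange (Localization.AtPrime P)
      (LocalizedModule.mkLinearMap P.primeCompl (LocalizedModule T M)) :=
    (isLocalizedModule_iff_isBaseChange P.primeCompl _ _).mp inferInstance
  have h₃ := IsBaseChange.comp h₁ h₂
  exact (isLocalizedModule_iff_isBaseChange
    (P.comap (algebraMap A (Localization T))).primeCompl (Localization.AtPrime P) _).mpr h₃

variable [IsNoetherianRing A] [Module.Finite A M]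

/-- `depth ((M_T)_P) = depth M_{P ∩ A}`. -/
theorem depth_localization_localization (P : Ideal (Localization T)) [P.IsPrime] :
    LocCoh.depth (Localization.AtPrime P)
        (LocalizedModule P.primeCompl (LocalizedModule T M)) =
      LocCoh.depth (Localization.AtPrime (P.comap (algebraMap A (Localization T))))
        (LocalizedModule (P.comap (algebraMap A (Localization T))).primeCompl M) := by
  have := isLocalizedModule_comp_mkLinearMap T M P
  have : IsLocalization.AtPrime (Localization.AtPrime P)
      (P.comap (algebraMap A (Localization T))) :=
    IsLocalization.isLocalization_isLocalization_atPrime_isLocalization T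
      (Localization.AtPrime P) P
  exact Groth.Agent.Lib.Helper16.Depth.depth_eq_of_isLocalizedModule
    (P.comap (algebraMap A (Localization T))) M
    (Localization.AtPrime P) _
    ((LocalizedModule.mkLinearMap P.primeCompl
          (LocalizedModule T M)).restrictScalars A ∘ₗ
        LocalizedModule.mkLinearMap T M)

/-- `(S_k)` passes to localizations -/
theorem hasSk_localizedModule (k : ℕ) (h : LocCoh.HasSk k A M) :
    LocCoh.HasSk k (Localization T) (LocalizedModule T M) := by
  intro P _
  rw [supportDim_localization_localization, depth_localization_localization]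
  exact h _

theorem hasSk_mono {k l : ℕ} (hkl : k ≤ l) (h : LocCoh.HasSk l A M) : LocCoh.HasSk k A M := by
  intro P _
  refine le_trans (min_le_min_right _ ?_) (h P)
  exact_mod_cast hkl

end supp

end Groth.Agent.Lib.Helper16.SkEmb
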