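import Mathlib.RingTheory.Ideal.KrullsHeightTheorem
import Mathlib.RingTheory.KrullDimension.Basic
import Mathlib.RingTheory.Ideal.MinimalPrime.Noetherian
import Mathlib.Logic.Relation

/-!
# Chains of systems of parameters (helper16)

In a Noetherian local ring of dimension `d`, any two systems of parameters (as `d`-tuples) are
joined by a finite chain of systems of parameters, consecutive ones differing in at most one
coordinate (`reach`, `chain_of_reach`).  The key step `isSop_update` replaces one coordinate by an
element avoiding the minimal primes of the ideal generated by the others (Krull's principal ideal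
theorem).
-/

set_option autoImplicit false
universe u
open IsLocalRing

namespace Groth.Agent.Lib.Helper16.SopChain

variable {A : Type u} [CommRing A] [IsNoetherianRing A] [IsLocalRing A] {d : ℕ}

/-- a system of parameters, as a `d`-tuple -/
def IsSop (x : Fin d → A) : Prop :=
  (∀ i, x i ∈ maximalIdeal A) ∧ maximalIdeal A ≤ (Ideal.span (Set.range x)).radical

/-- one step: two systems of parameters differing in at most one coordinate -/
def Step (x y : Fin d → A) : Prop :=
  IsSop x ∧ IsSop y ∧ ∃ i : Fin d, ∀ i' : Fin d, i' ≠ i → x i' = y i'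

open scoped Classical in
/-- the ideal generated by all coordinates but one -/
noncomputable def J (x : Fin d → A) (i₀ : Fin d) : Ideal A :=
  Ideal.span (((Finset.univ.erase i₀).image x : Finset A) : Set A)

omit [IsNoetherianRing A] [IsLocalRing A] in
theorem mem_J {x : Fin d → A} {i₀ i : Fin d} (h : i ≠ i₀) : x i ∈ J x i₀ := by
  classical
  apply Ideal.subset_span
  rw [Finset.mem_coe, Finset.mem_image]
  exact ⟨i, Finset.mem_erase.mpr ⟨h, Finset.mem_univ _⟩, rfl⟩

omit [IsNoetherianRing A] [IsLocalRing A] in
theorem J_le {x : Fin d → A} {i₀ : Fin d} {P : Ideal A} (h : ∀ i, i ≠ i₀ → x i ∈ P) :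
    J x i₀ ≤ P := by
  classical
  rw [J, Ideal.span_le]
  intro a ha
  rw [Finset.mem_coe, Finset.mem_image] at ha
  obtain ⟨i, hi, rfl⟩ := ha
  exact h i (Finset.mem_erase.mp hi).1

theorem isSop_update {x : Fin d → A} (hx : IsSop x) (i₀ : Fin d) (w : A)
    (hw : w ∈ maximalIdeal A) (hq : ∀ q ∈ (J x i₀).minimalPrimes, w ∉ q) :
    IsSop (Function.update x i₀ w) := by
  classical
  refine ⟨fun i => ?_, ?_⟩
  · by_cases h : i = i₀
    · subst h; rw [Function.update_self]; exact hw
    · rw [Function.update_of_ne h]; exact hx.1 i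
  · rw [Ideal.radical_eq_sInf]
    refine le_sInf ?_
    rintro P ⟨hle, hP⟩
    by_contra hmP
    have hPm : P ≤ maximalIdeal A := IsLocalRing.le_maximalIdeal hP.ne_top
    have hPlt : P < maximalIdeal A := lt_of_le_of_ne hPm (fun h => hmP (le_of_eq h.symm))
    have hxP : ∀ i, Function.update x i₀ w i ∈ P := fun i =>
      hle (Ideal.subset_span ⟨i, rfl⟩)
    have hJP : J x i₀ ≤ P := J_le (fun i hi => by
      have := hxP i
      rwa [Function.update_of_ne hi] at this)
    have hwP : w ∈ P := by
      have := hxP i₀
      rwa [Function.update_self] at this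
    obtain ⟨q, hqmin, hqP⟩ := Ideal.exists_minimalPrimes_le hJP
    have hqprime : q.IsPrime := hqmin.1.1
    have hqlt : q < P := lt_of_le_of_ne hqP (fun h => hq q hqmin (h ▸ hwP))
    -- `m` is minimal over `q + (x i₀)`
    have hm : maximalIdeal A ∈ (q ⊔ Ideal.span {x i₀}).minimalPrimes := by
      refine ⟨⟨inferInstance, sup_le (hqP.trans hPm) ?_⟩, ?_⟩
      · rw [Ideal.span_singleton_le_iff_mem]; exact hx.1 i₀
      · rintro P' ⟨hP'prime, hP'le⟩ -
        have hspan : Ideal.span (Set.range x) ≤ P' := by
          rw [Ideal.span_le]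
          rintro _ ⟨i, rfl⟩
          by_cases h : i = i₀
          · subst h
            exact hP'le (Ideal.mem_sup_right (Ideal.mem_span_singleton_self _))
          · exact hP'le (Ideal.mem_sup_left (hqmin.1.2 (mem_J h)))
        exact hx.2.trans (hP'prime.radical_le_iff.mpr hspan)
    have h1 := Ideal.map_height_le_one_of_mem_minimalPrimes hm
    -- the chain `⊥ < P/q < m/q`
    let f := Ideal.Quotient.mk q
    have hf : Function.Surjective f := Ideal.Quotient.mk_surjective
    have hker : RingHom.ker f = q := Ideal.mk_ker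
    have hPprime' : (P.map f).IsPrime :=
      Ideal.map_isPrime_of_surjective hf (by rw [hker]; exact hqP)
    have hmprime' : ((maximalIdeal A).map f).IsPrime :=
      Ideal.map_isPrime_of_surjective hf (by rw [hker]; exact hqP.trans hPm)
    have hcomapP : (P.map f).comap f = P := by
      rw [Ideal.comap_map_of_surjective f hf, ← RingHom.ker_eq_comap_bot, hker]
      exact sup_eq_left.mpr hqP
    have hcomapm : ((maximalIdeal A).map f).comap f = maximalIdeal A := by
      rw [Ideal.comap_map_of_surjective f hf, ← RingHom.ker_eq_comap_bot, hker]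
      exact sup_eq_left.mpr (hqP.trans hPm)
    have hlt1 : (⊥ : Ideal (A ⧸ q)) < P.map f := by
      rw [bot_lt_iff_ne_bot]
      intro h
      have h2 : P ≤ q := by
        rw [← hcomapP, h, ← RingHom.ker_eq_comap_bot, hker]
      exact absurd hqlt (not_lt_of_ge h2)
    have hlt2 : P.map f < (maximalIdeal A).map f := by
      refine lt_of_le_of_ne (Ideal.map_mono hPm) ?_
      intro h
      have h2 : P = maximalIdeal A := by rw [← hcomapP, h, hcomapm]
      exact absurd hPlt (by rw [h2]; exact lt_irrefl _)
    have hbot : (⊥ : Ideal (A ⧸ q)).IsPrime := Ideal.isPrime_bot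
    have h2 := Ideal.height_strict_mono_of_isPrime_of_isPrime hlt1
    have h3 := Ideal.height_strict_mono_of_isPrime_of_isPrime hlt2
    have h4 : (1 : ℕ∞) ≤ (P.map f).height := Order.one_le_iff_pos.mpr (lt_of_le_of_lt bot_le h2)
    have h5 : (P.map f).height < 1 := lt_of_lt_of_le h3 h1
    exact absurd h4 (not_le_of_gt h5)

theorem exists_avoid (hd : ringKrullDim A = d) (x y : Fin d → A) (i₀ : Fin d) :
    ∃ w ∈ maximalIdeal A, (∀ q ∈ (J x i₀).minimalPrimes, w ∉ q) ∧
      (∀ q ∈ (J y i₀).minimalPrimes, w ∉ q) := by
  classical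
  have hfin : ((J x i₀).minimalPrimes ∪ (J y i₀).minimalPrimes).Finite :=
    (Ideal.finite_minimalPrimes_of_isNoetherianRing A _).union
      (Ideal.finite_minimalPrimes_of_isNoetherianRing A _)
  by_contra hcon
  push Not at hcon
  have hsub : ((maximalIdeal A : Ideal A) : Set A) ⊆ ⋃ q ∈ (hfin.toFinset : Set (Ideal A)), (q : Set A) := by
    intro w hw
    by_cases h1 : ∀ q ∈ (J x i₀).minimalPrimes, w ∉ q
    · obtain ⟨q, hq, hwq⟩ := hcon w hw h1
      exact Set.mem_biUnion (by simpa using Or.inr hq) hwq
    · push Not at h1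
      obtain ⟨q, hq, hwq⟩ := h1
      exact Set.mem_biUnion (by simpa using Or.inl hq) hwq
  have hprime : ∀ q ∈ hfin.toFinset, q ≠ (⊥ : Ideal A) → q ≠ (⊥ : Ideal A) → q.IsPrime := by
    intro q hq _ _
    rw [Set.Finite.mem_toFinset] at hq
    rcases hq with hq | hq
    · exact hq.1.1
    · exact hq.1.1
  obtain ⟨q, hq, hmq⟩ := (Ideal.subset_union_prime (f := fun q : Ideal A => q) ⊥ ⊥ hprime).mp hsub
  rw [Set.Finite.mem_toFinset] at hq
  have key : ∀ z : Fin d → A, q ∈ (J z i₀).minimalPrimes → False := by
    intro z hqz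
    have hqprime : q.IsPrime := hqz.1.1
    have hqm : q = maximalIdeal A :=
      le_antisymm (IsLocalRing.le_maximalIdeal hqprime.ne_top) hmq
    unfold J at hqz
    have h1 := Ideal.height_le_card_of_mem_minimalPrimes_span_finset hqz
    have h2 : (Finset.image z (Finset.univ.erase i₀)).card ≤ d - 1 := by
      refine le_trans Finset.card_image_le ?_
      rw [Finset.card_erase_of_mem (Finset.mem_univ _), Finset.card_univ, Fintype.card_fin]
    have h3 : ((maximalIdeal A).height : WithBot ℕ∞) = d := by
      rw [IsLocalRing.maximalIdeal_height_eq_ringKrullDim, hd]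
    rw [hqm] at h1
    have h4 : (maximalIdeal A).height = d := by exact_mod_cast h3
    rw [h4] at h1
    have h5 : d ≤ d - 1 := by
      have : ((d : ℕ) : ℕ∞) ≤ ((d - 1 : ℕ) : ℕ∞) := h1.trans (by exact_mod_cast h2)
      exact_mod_cast this
    have hdpos : 0 < d := Fin.pos i₀
    omega
  rcases hq with hq | hq
  · exact key x hq
  · exact key y hq

theorem reach (hd : ringKrullDim A = d) : ∀ k : ℕ, ∀ u v : Fin d → A, IsSop u → IsSop v →
    (∀ i : Fin d, (i : ℕ) < d - k → u i = v i) → Relation.ReflTransGen Step u v := by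
  classical
  intro k
  induction k with
  | zero =>
    intro u v _ _ h
    have : u = v := funext fun i => h i (by simp)
    rw [this]
  | succ k ih =>
    intro u v hu hv h
    by_cases hk : d ≤ k
    · exact ih u v hu hv (fun i hi => absurd hi (by omega))
    · have hj : d - (k + 1) < d := by omega
      let i₀ : Fin d := ⟨d - (k + 1), hj⟩
      obtain ⟨w, hw, hwu, hwv⟩ := exists_avoid hd u v i₀
      have hu' := isSop_update hu i₀ w hw hwu
      have hv' := isSop_update hv i₀ w hw hwv
      have hstep1 : Step u (Function.update u i₀ w) :=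
        ⟨hu, hu', i₀, fun i' hi' => (Function.update_of_ne hi' _ _).symm⟩
      have hstep2 : Step (Function.update v i₀ w) v :=
        ⟨hv', hv, i₀, fun i' hi' => Function.update_of_ne hi' _ _⟩
      have hmid := ih (Function.update u i₀ w) (Function.update v i₀ w) hu' hv' (by
        intro i hi
        by_cases hii : i = i₀
        · subst hii
          rw [Function.update_self, Function.update_self]
        · rw [Function.update_of_ne hii, Function.update_of_ne hii]
          apply h i
          have h1 : (i : ℕ) ≠ d - (k + 1) := fun h' => hii (Fin.ext h')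
          omega)
      exact (Relation.ReflTransGen.head hstep1 hmid).tail hstep2

omit [IsNoetherianRing A] in
theorem chain_of_reach {u v : Fin d → A} (hu : IsSop u) (h : Relation.ReflTransGen Step u v) :
    ∃ (m : ℕ) (w : Fin (m + 1) → Fin d → A), w 0 = u ∧ w (Fin.last m) = v ∧
      (∀ k : Fin (m + 1), IsSop (w k)) ∧
      (∀ k : Fin m, ∃ i : Fin d, ∀ i' : Fin d, i' ≠ i → w k.castSucc i' = w k.succ i') := by
  induction h with
  | refl =>
    exact ⟨0, fun _ => u, rfl, rfl, fun _ => hu, fun k => k.elim0⟩
  | @tail b c hab hbc ih =>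
    obtain ⟨m, w, h0, hlast, hsop, hstep⟩ := ih
    refine ⟨m + 1, Fin.snoc (α := fun _ => Fin d → A) w c, ?_, ?_, ?_, ?_⟩
    · have : (0 : Fin (m + 2)) = Fin.castSucc (0 : Fin (m + 1)) := rfl
      rw [this, Fin.snoc_castSucc]
      exact h0
    · exact Fin.snoc_last (α := fun _ => Fin d → A) _ _
    · intro k
      refine Fin.lastCases ?_ (fun j => ?_) k
      · rw [Fin.snoc_last (α := fun _ => Fin d → A)]
        exact hbc.2.1
      · rw [Fin.snoc_castSucc (α := fun _ => Fin d → A)]
        exact hsop j
    · intro k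
      refine Fin.lastCases ?_ (fun j => ?_) k
      · obtain ⟨i, hi⟩ := hbc.2.2
        refine ⟨i, fun i' hi' => ?_⟩
        rw [Fin.snoc_castSucc (α := fun _ => Fin d → A), Fin.succ_last,
          Fin.snoc_last (α := fun _ => Fin d → A), hlast]
        exact hi i' hi'
      · obtain ⟨i, hi⟩ := hstep j
        refine ⟨i, fun i' hi' => ?_⟩
        rw [Fin.snoc_castSucc (α := fun _ => Fin d → A), ← Fin.castSucc_succ,
          Fin.snoc_castSucc (α := fun _ => Fin d → A)]
        exact hi i' hi'

end Groth.Agent.Lib.Helper16.SopChain
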