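import Mathlib
import Groth.Agent.Lib.Helper16.Loc3
import Groth.Agent.Lib.Helper16.FlatAway
import Groth.Agent.Lib.Helper16.DiagPerf6
import Groth.Agent.Lib.Helper16.PDOpen

/-!
# Spreading out a perfect diagonal: flat local ess. finite type with perfect diagonal is a localization of a smooth algebra
-/

set_option autoImplicit false
set_option linter.unusedSectionVars false
set_option linter.style.haveILetI false
universe u

open TensorProduct CategoryTheory

namespace Groth.Agent.Lib.Helper16.SpreadDiag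

/-- a local ring which is a localization is the localization at the preimage of the maximal
ideal -/
theorem isLocalization_atPrime_of_isLocalRing (P B : Type u) [CommRing P] [CommRing B] [Algebra P B]
    (M : Submonoid P) [IsLocalization M B] [IsLocalRing B] :
    IsLocalization.AtPrime B ((IsLocalRing.maximalIdeal B).comap (algebraMap P B)) := by
  apply IsLocalization.of_le M
  · intro x hx hmem
    rw [SetLike.mem_coe, Ideal.mem_comap] at hmem
    exact (IsLocalRing.mem_maximalIdeal _).mp hmem (IsLocalization.map_units B ⟨x, hx⟩)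
  · intro r hr
    by_contra hnu
    exact hr ((IsLocalRing.mem_maximalIdeal _).mpr hnu)

/-- spreading out: a flat local essentially finite type algebra with perfect diagonal is a
localization of a smooth algebra -/
theorem exists_smooth_away (A P B : Type u) [CommRing A] [CommRing P] [CommRing B] [Algebra A P]
    [Algebra A B] [Algebra P B] [IsScalarTower A P B] [IsNoetherianRing A]
    [Algebra.FiniteType A P] (M : Submonoid P) [IsLocalization M B] [IsLocalRing B]
    [Module.Flat A B] [Algebra (B ⊗[A] B) B]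
    (hmul : ∀ x y : B, algebraMap (B ⊗[A] B) B (x ⊗ₜ[A] y) = x * y)
    (h : DRing.HasFiniteTorDim (B ⊗[A] B) B) :
    ∃ g : P, algebraMap P B g ∉ IsLocalRing.maximalIdeal B ∧
      Algebra.Smooth A (Localization.Away g) := by
  classical
  haveI : Algebra.FinitePresentation A P := Algebra.FinitePresentation.of_finiteType.mp inferInstance
  letI algRP : Algebra (P ⊗[A] P) P :=
    (Algebra.TensorProduct.lmul' A (S := P)).toRingHom.toAlgebra
  have hP : ∀ x y : P, algebraMap (P ⊗[A] P) P (x ⊗ₜ y) = x * y :=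
    fun x y => Algebra.TensorProduct.lmul'_apply_tmul x y
  letI algRT : Algebra (P ⊗[A] P) (B ⊗[A] B) := (Loc2.phi A P B).toRingHom.toAlgebra
  have hPL : ∀ t, algebraMap (P ⊗[A] P) (B ⊗[A] B) t = Loc2.phi A P B t := fun t => rfl
  haveI : Algebra.FiniteType A (P ⊗[A] P) := Algebra.FiniteType.trans (S := P) inferInstance
    inferInstance
  haveI : IsNoetherianRing (P ⊗[A] P) := Algebra.FiniteType.isNoetherianRing A (P ⊗[A] P)
  obtain ⟨S₂, hS₂⟩ := Loc2.exists_isLocalization A P B hPL M
  haveI : IsNoetherianRing (B ⊗[A] B) := IsLocalization.isNoetherianRing S₂ (B ⊗[A] B) inferInstance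
  have hsurjB : Function.Surjective (algebraMap (B ⊗[A] B) B) := fun x =>
    ⟨x ⊗ₜ 1, by rw [hmul, mul_one]⟩
  haveI : Module.Finite (B ⊗[A] B) B :=
    Module.Finite.of_surjective (Algebra.linearMap (B ⊗[A] B) B) hsurjB
  obtain ⟨n, hn⟩ := DiagPerf.exists_hasProjectiveDimensionLT_of_hasFiniteTorDim (B ⊗[A] B) B h
  -- the prime of the diagonal
  obtain ⟨𝔓, h𝔓def⟩ : ∃ 𝔓 : Ideal (B ⊗[A] B),
      𝔓 = (IsLocalRing.maximalIdeal B).comap (algebraMap (B ⊗[A] B) B) := ⟨_, rfl⟩
  haveI : 𝔓.IsPrime := by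
    rw [h𝔓def]
    exact Ideal.comap_isPrime _ _
  have hQ := Loc2.pd_comap_of_pd A P B hPL hP hmul M 𝔓 (n + 1) hn
  have hsurjP : Function.Surjective (algebraMap (P ⊗[A] P) P) := fun x =>
    ⟨x ⊗ₜ 1, by rw [hP, mul_one]⟩
  haveI : Module.Finite (P ⊗[A] P) P :=
    Module.Finite.of_surjective (Algebra.linearMap (P ⊗[A] P) P) hsurjP
  obtain ⟨s, hsQ, hs⟩ := PDR.exists_forall_hasProjectiveDimensionLT
    (𝔓.comap (algebraMap (P ⊗[A] P) (B ⊗[A] B))) (n + 1) P hQ
  have hcompat : ∀ r : P ⊗[A] P,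
      algebraMap (B ⊗[A] B) B (algebraMap (P ⊗[A] P) (B ⊗[A] B) r) =
        algebraMap P B (algebraMap (P ⊗[A] P) P r) := by
    intro r
    induction r using TensorProduct.induction_on with
    | zero => simp
    | add a b ha hb => simp only [map_add, ha, hb]
    | tmul x y => rw [hPL, Loc2.phi_tmul, hmul, hP, map_mul]
  obtain ⟨q, hqdef⟩ : ∃ q : Ideal P,
      q = (IsLocalRing.maximalIdeal B).comap (algebraMap P B) := ⟨_, rfl⟩
  haveI hqprime : q.IsPrime := by
    rw [hqdef]
    exact Ideal.comap_isPrime _ _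
  obtain ⟨g₁, hg₁def⟩ : ∃ g₁ : P, g₁ = algebraMap (P ⊗[A] P) P s := ⟨_, rfl⟩
  have hg₁ : g₁ ∉ q := by
    intro hmem
    apply hsQ
    rw [Ideal.mem_comap, h𝔓def, Ideal.mem_comap, hcompat, ← hg₁def]
    rw [hqdef, Ideal.mem_comap] at hmem
    exact hmem
  haveI hBq : IsLocalization.AtPrime B q := by
    subst hqdef
    exact isLocalization_atPrime_of_isLocalRing P B M
  have hflatq : Module.Flat A (Localization.AtPrime q) := by
    let e : Localization.AtPrime q ≃ₐ[P] B := IsLocalization.algEquiv q.primeCompl _ _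
    exact Module.Flat.of_linearEquiv (e.toLinearEquiv.restrictScalars A)
  obtain ⟨g₂, hg₂, hflat⟩ := FlatAway.exists_flat_away A P q hflatq
  have hgq : g₁ * g₂ ∉ q := fun hmem => (hqprime.mem_or_mem hmem).elim hg₁ hg₂
  refine ⟨g₁ * g₂, ?_, ?_⟩
  · intro hmem
    apply hgq
    rw [hqdef, Ideal.mem_comap]
    exact hmem
  · haveI : Module.Flat A (Localization.Away (g₁ * g₂)) :=
      hflat (g₁ * g₂) (Dvd.intro_left _ rfl) (Localization.Away (g₁ * g₂))
    haveI : Algebra.FiniteType A (Localization.Away (g₁ * g₂)) :=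
      Algebra.FiniteType.trans (S := P) inferInstance inferInstance
    letI algCC : Algebra (Localization.Away (g₁ * g₂) ⊗[A] Localization.Away (g₁ * g₂))
        (Localization.Away (g₁ * g₂)) :=
      (Algebra.TensorProduct.lmul' A (S := Localization.Away (g₁ * g₂))).toRingHom.toAlgebra
    have hC : ∀ x y : Localization.Away (g₁ * g₂),
        algebraMap (Localization.Away (g₁ * g₂) ⊗[A] Localization.Away (g₁ * g₂))
          (Localization.Away (g₁ * g₂)) (x ⊗ₜ y) = x * y :=
      fun x y => Algebra.TensorProduct.lmul'_apply_tmul x y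
    letI algRC : Algebra (P ⊗[A] P)
        (Localization.Away (g₁ * g₂) ⊗[A] Localization.Away (g₁ * g₂)) :=
      (Loc2.phi A P (Localization.Away (g₁ * g₂))).toRingHom.toAlgebra
    have hPC : ∀ t, algebraMap (P ⊗[A] P)
        (Localization.Away (g₁ * g₂) ⊗[A] Localization.Away (g₁ * g₂)) t =
          Loc2.phi A P (Localization.Away (g₁ * g₂)) t := fun t => rfl
    have hgs : ∀ (p : Ideal (P ⊗[A] P)) [p.IsPrime],
        RingHom.ker (algebraMap (P ⊗[A] P) P) ≤ p → s ∈ p → (g₁ * g₂) ⊗ₜ[A] (1 : P) ∈ p := by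
      intro p _ hker hsp
      have h1 : s - g₁ ⊗ₜ[A] (1 : P) ∈ RingHom.ker (algebraMap (P ⊗[A] P) P) := by
        rw [RingHom.mem_ker, map_sub, hP, mul_one, hg₁def, sub_self]
      have h2 : g₁ ⊗ₜ[A] (1 : P) ∈ p := by
        have := p.sub_mem hsp (hker h1)
        rwa [sub_sub_cancel] at this
      have h3 : (g₁ * g₂) ⊗ₜ[A] (1 : P) = (g₁ ⊗ₜ[A] (1 : P)) * (g₂ ⊗ₜ[A] (1 : P)) := by
        rw [Algebra.TensorProduct.tmul_mul_tmul, mul_one]
      rw [h3]
      exact Ideal.mul_mem_right _ _ h2
    have hpd := Loc2.pd_diagonal_away A P (Localization.Away (g₁ * g₂)) hPC hP hC (g₁ * g₂) s n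
      hs hgs
    exact DiagPerf.smooth_of_pd_diagonal A (Localization.Away (g₁ * g₂)) hC n hpd

end Groth.Agent.Lib.Helper16.SpreadDiag
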