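import Mathlib
import Groth.Agent.Lib.Helper16.SyntLoc1

/-!
# Syntomic covers: stalkwise transfer of (S_k) / Cohen–Macaulay and Noetherian descent (scheme level)
-/

set_option autoImplicit false
set_option linter.unusedSectionVars false
universe u

open AlgebraicGeometry CategoryTheory

namespace Groth.Agent.Lib.Helper16.SyntLoc

section scheme

variable {X S : Scheme.{u}}

/-- the stalk at a point of an affine open is the localization of the sections -/
noncomputable def stalkEquiv {U : X.Opens} (hU : IsAffineOpen U) (x : X) (hx : x ∈ U) :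
    X.presheaf.stalk x ≃+* Localization.AtPrime (hU.primeIdealOf ⟨x, hx⟩).asIdeal :=
  let _ := X.presheaf.algebra_section_stalk ⟨x, hx⟩
  have := hU.isLocalization_stalk ⟨x, hx⟩
  (IsLocalization.algEquiv (hU.primeIdealOf ⟨x, hx⟩).asIdeal.primeCompl (X.presheaf.stalk x)
    (Localization.AtPrime (hU.primeIdealOf ⟨x, hx⟩).asIdeal)).toRingEquiv

theorem hasSk_stalk_iff {U : X.Opens} (hU : IsAffineOpen U) [IsNoetherianRing Γ(X, U)]
    (x : X) (hx : x ∈ U) (k : ℕ) :
    LocCoh.HasSk k (X.presheaf.stalk x) (X.presheaf.stalk x) ↔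
      LocCoh.HasSk k (Localization.AtPrime (hU.primeIdealOf ⟨x, hx⟩).asIdeal)
        (Localization.AtPrime (hU.primeIdealOf ⟨x, hx⟩).asIdeal) := by
  have h1 : IsNoetherianRing (Localization.AtPrime (hU.primeIdealOf ⟨x, hx⟩).asIdeal) :=
    IsLocalization.isNoetherianRing (hU.primeIdealOf ⟨x, hx⟩).asIdeal.primeCompl _ inferInstance
  have h2 : IsNoetherianRing (X.presheaf.stalk x) :=
    isNoetherianRing_of_ringEquiv _ (stalkEquiv hU x hx).symm
  exact ⟨hasSk_of_ringEquiv (stalkEquiv hU x hx) k, hasSk_of_ringEquiv (stalkEquiv hU x hx).symm k⟩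

theorem cm_stalk_iff {U : X.Opens} (hU : IsAffineOpen U) (x : X) (hx : x ∈ U) :
    LocCoh.IsCohenMacaulayLocalRing (X.presheaf.stalk x) ↔
      LocCoh.IsCohenMacaulayLocalRing
        (Localization.AtPrime (hU.primeIdealOf ⟨x, hx⟩).asIdeal) :=
  ⟨fun _ => Groth.Agent.Lib.Helper18.FibQuot.isCohenMacaulayLocalRing_of_ringEquiv
      (stalkEquiv hU x hx),
    fun _ => Groth.Agent.Lib.Helper18.FibQuot.isCohenMacaulayLocalRing_of_ringEquiv
      (stalkEquiv hU x hx).symm⟩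

theorem hasSk_atPrime_congr {R : Type u} [CommRing R] (k : ℕ) {p p' : Ideal R} [p.IsPrime]
    [p'.IsPrime] (h : p = p') :
    LocCoh.HasSk k (Localization.AtPrime p) (Localization.AtPrime p) ↔
      LocCoh.HasSk k (Localization.AtPrime p') (Localization.AtPrime p') := by
  subst h; rfl

theorem cm_atPrime_congr {R : Type u} [CommRing R] {p p' : Ideal R} [p.IsPrime]
    [p'.IsPrime] (h : p = p') :
    LocCoh.IsCohenMacaulayLocalRing (Localization.AtPrime p) ↔
      LocCoh.IsCohenMacaulayLocalRing (Localization.AtPrime p') := by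
  subst h; rfl

variable (f : X ⟶ S) (x : X) (U : X.affineOpens) (V : S.affineOpens) (e : U.1 ≤ f ⁻¹ᵁ V.1)

theorem comap_primeIdealOf (hx : x ∈ U.1) :
    (U.2.primeIdealOf ⟨x, hx⟩).asIdeal.comap (f.appLE V.1 U.1 e).hom =
      (V.2.primeIdealOf ⟨f x, e hx⟩).asIdeal :=
  congrArg PrimeSpectrum.asIdeal (IsAffineOpen.comap_primeIdealOf_appLE V.1 V.2 U.1 U.2 e hx)

theorem isNoetherianRing_of_isSyntomicAt
    (hsyn : @Synt.IsSyntomic Γ(S, V.1) _ Γ(X, U.1) _ (f.appLE V.1 U.1 e).hom.toAlgebra)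
    [IsNoetherianRing Γ(S, V.1)] : IsNoetherianRing Γ(X, U.1) := by
  let _ : Algebra Γ(S, V.1) Γ(X, U.1) := (f.appLE V.1 U.1 e).hom.toAlgebra
  exact isNoetherianRing_of_isSyntomic hsyn

theorem hasSk_stalk_iff_of_isSyntomicAt (hx : x ∈ U.1)
    (hsyn : @Synt.IsSyntomic Γ(S, V.1) _ Γ(X, U.1) _ (f.appLE V.1 U.1 e).hom.toAlgebra)
    [IsNoetherianRing Γ(S, V.1)] [IsNoetherianRing Γ(X, U.1)] (k : ℕ) :
    LocCoh.HasSk k (X.presheaf.stalk x) (X.presheaf.stalk x) ↔
      LocCoh.HasSk k (S.presheaf.stalk (f x)) (S.presheaf.stalk (f x)) := by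
  let _ : Algebra Γ(S, V.1) Γ(X, U.1) := (f.appLE V.1 U.1 e).hom.toAlgebra
  rw [hasSk_stalk_iff U.2 x hx k, hasSk_stalk_iff V.2 (f x) (e hx) k,
    hasSk_localization_iff_of_isSyntomic hsyn k (U.2.primeIdealOf ⟨x, hx⟩).asIdeal]
  exact hasSk_atPrime_congr k (comap_primeIdealOf f x U V e hx)

theorem cm_stalk_iff_of_isSyntomicAt (hx : x ∈ U.1)
    (hsyn : @Synt.IsSyntomic Γ(S, V.1) _ Γ(X, U.1) _ (f.appLE V.1 U.1 e).hom.toAlgebra)
    [IsNoetherianRing Γ(S, V.1)] [IsNoetherianRing Γ(X, U.1)] :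
    LocCoh.IsCohenMacaulayLocalRing (X.presheaf.stalk x) ↔
      LocCoh.IsCohenMacaulayLocalRing (S.presheaf.stalk (f x)) := by
  let _ : Algebra Γ(S, V.1) Γ(X, U.1) := (f.appLE V.1 U.1 e).hom.toAlgebra
  rw [cm_stalk_iff U.2 x hx, cm_stalk_iff V.2 (f x) (e hx),
    cm_localization_iff_of_isSyntomic hsyn (U.2.primeIdealOf ⟨x, hx⟩).asIdeal]
  exact cm_atPrime_congr (comap_primeIdealOf f x U V e hx)

/-- Noetherian descent: a point in the image of a syntomic chart from a Noetherian affine has a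
Noetherian affine neighbourhood. -/
theorem exists_affine_isNoetherianRing (hx : x ∈ U.1)
    (hsyn : @Synt.IsSyntomic Γ(S, V.1) _ Γ(X, U.1) _ (f.appLE V.1 U.1 e).hom.toAlgebra)
    [IsNoetherianRing Γ(X, U.1)] :
    ∃ W : S.affineOpens, f x ∈ W.1 ∧ IsNoetherianRing Γ(S, W.1) := by
  let _ : Algebra Γ(S, V.1) Γ(X, U.1) := (f.appLE V.1 U.1 e).hom.toAlgebra
  have := hsyn.1
  have := hsyn.2.1
  obtain ⟨a, ha, hN⟩ := exists_away_isNoetherianRing (R := Γ(S, V.1))
    (U.2.primeIdealOf ⟨x, hx⟩).asIdeal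
  have hV : IsAffineOpen V.1 := V.2
  have ha' : a ∉ (hV.primeIdealOf ⟨f x, e hx⟩).asIdeal := by
    have h0 := comap_primeIdealOf f x U V e hx
    intro h
    apply ha
    change a ∈ (U.2.primeIdealOf ⟨x, hx⟩).asIdeal.comap (f.appLE V.1 U.1 e).hom
    rw [h0]
    exact h
  refine ⟨⟨S.basicOpen a, hV.basicOpen a⟩, ?_, ?_⟩
  · have h1 : hV.primeIdealOf ⟨f x, e hx⟩ ∈ hV.fromSpec ⁻¹ᵁ S.basicOpen a := by
      rw [hV.fromSpec_preimage_basicOpen]
      exact ha'
    have h2 := hV.fromSpec_primeIdealOf ⟨f x, e hx⟩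
    have h3 : hV.fromSpec (hV.primeIdealOf ⟨f x, e hx⟩) ∈ S.basicOpen a := h1
    rw [h2] at h3
    exact h3
  · have := hV.isLocalization_basicOpen a
    exact isNoetherianRing_of_ringEquiv _
      (IsLocalization.algEquiv (.powers a) (Localization.Away a) Γ(S, S.basicOpen a)).toRingEquiv

end scheme

section cover

theorem cover_iff {ι : Type u} {S : Scheme.{u}} {X : ι → Scheme.{u}} (f : ∀ i, X i ⟶ S)
    (hsurj : ∀ s : S, ∃ i, s ∈ Set.range (f i).base) (hsyn : ∀ i, Synt.IsSyntomicMor (f i))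
    (P : ∀ (Y : Scheme.{u}), Y → Prop)
    (hP : ∀ (i : ι) (x : X i) (U : (X i).affineOpens) (V : S.affineOpens)
        (e : U.1 ≤ (f i) ⁻¹ᵁ V.1), x ∈ U.1 →
        @Synt.IsSyntomic Γ(S, V.1) _ Γ(X i, U.1) _ ((f i).appLE V.1 U.1 e).hom.toAlgebra →
        IsNoetherianRing Γ(S, V.1) → IsNoetherianRing Γ(X i, U.1) →
          (P (X i) x ↔ P S ((f i) x))) :
    (IsLocallyNoetherian S ∧ ∀ s : S, P S s) ↔
      ∀ i, IsLocallyNoetherian (X i) ∧ ∀ x : X i, P (X i) x := by
  constructor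
  · rintro ⟨hS, hPS⟩ i
    have hN : ∀ x : X i, ∃ U : (X i).affineOpens, x ∈ U.1 ∧ IsNoetherianRing Γ(X i, U.1) := by
      intro x
      obtain ⟨U, V, e, hxU, hs⟩ := hsyn i x
      have : IsNoetherianRing Γ(S, V.1) := hS.component_noetherian V
      exact ⟨U, hxU, isNoetherianRing_of_isSyntomicAt (f i) U V e hs⟩
    choose W hxW hWN using hN
    have hX : IsLocallyNoetherian (X i) := by
      refine isLocallyNoetherian_of_affine_cover (S := W) ?_ hWN
      rw [eq_top_iff]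
      intro x _
      exact TopologicalSpace.Opens.mem_iSup.mpr ⟨x, hxW x⟩
    refine ⟨hX, fun x => ?_⟩
    obtain ⟨U, V, e, hxU, hs⟩ := hsyn i x
    exact (hP i x U V e hxU hs (hS.component_noetherian V) (hX.component_noetherian U)).mpr
      (hPS _)
  · intro h
    have hN : ∀ s : S, ∃ W : S.affineOpens, s ∈ W.1 ∧ IsNoetherianRing Γ(S, W.1) := by
      intro s
      obtain ⟨i, x, rfl⟩ := hsurj s
      obtain ⟨U, V, e, hxU, hs⟩ := hsyn i x
      have : IsNoetherianRing Γ(X i, U.1) := (h i).1.component_noetherian U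
      exact exists_affine_isNoetherianRing (f i) x U V e hxU hs
    choose W hsW hWN using hN
    have hS : IsLocallyNoetherian S := by
      refine isLocallyNoetherian_of_affine_cover (S := W) ?_ hWN
      rw [eq_top_iff]
      intro s _
      exact TopologicalSpace.Opens.mem_iSup.mpr ⟨s, hsW s⟩
    refine ⟨hS, fun s => ?_⟩
    obtain ⟨i, x, rfl⟩ := hsurj s
    obtain ⟨U, V, e, hxU, hs⟩ := hsyn i x
    exact (hP i x U V e hxU hs (hS.component_noetherian V)
      ((h i).1.component_noetherian U)).mp ((h i).2 x)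

end cover

end Groth.Agent.Lib.Helper16.SyntLoc
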