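import Mathlib
import Groth.Prelude.Def_RegImm
import Groth.Agent.Lib.Helper16.SyntMor
import Groth.Agent.Lib.Helper16.KzDesc2
import Groth.Agent.Lib.Helper14.FpqcSch

/-!
# fpqc descent of syntomic morphisms on the base (modulo syntomic ring maps being lci)
-/

set_option autoImplicit false
universe u

open CategoryTheory CategoryTheory.Limits AlgebraicGeometry

namespace Groth.Agent.Lib.Helper16.SyntMor

open Groth.Agent.Lib.Helper16.KzComp

/-- fpqc descent (on the base) of syntomic morphisms, given that syntomic ring maps are lci -/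
theorem isSyntomicMor_of_pullback_snd
    (H : ∀ (R T : Type u) [CommRing R] [CommRing T] [Algebra R T],
      Synt.IsSyntomic R T → LCI.IsLCI R T)
    {X Y Y' : Scheme.{u}} (f : X ⟶ Y) (g : Y' ⟶ Y)
    [Flat g] [Surjective g] [QuasiCompact g] (h : Synt.IsSyntomicMor (pullback.snd f g)) :
    Synt.IsSyntomicMor f := by
  obtain ⟨h1, h2⟩ := flat_and_koszul_of_isSyntomicMor H _ h
  have h3 : LCIMor (pullback.snd f g) :=
    (Groth.Agent.Helper19.LciMor.forall_isKoszulAt_iff _).mp h2
  have hc : IsPullback (pullback.fst f g) (pullback.snd f g) f g := IsPullback.of_hasPullback f g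
  have hd := Groth.Agent.Lib.Helper16.KzComp.lciMor_descendsAlong.{u}
  have h4 : LCIMor f :=
    CategoryTheory.MorphismProperty.of_isPullback_of_descendsAlong
      (Q := @AlgebraicGeometry.Surjective ⊓ @AlgebraicGeometry.Flat ⊓ @AlgebraicGeometry.QuasiCompact)
      hc.flip ⟨⟨inferInstance, inferInstance⟩, inferInstance⟩ h3
  have hd' := Groth.Agent.Lib.Helper14.Fpqc.flat_descendsAlong.{u}
  have h5 : Flat f :=
    CategoryTheory.MorphismProperty.of_isPullback_of_descendsAlong
      (P := @Flat)
      (Q := @AlgebraicGeometry.Surjective ⊓ @AlgebraicGeometry.Flat ⊓ @AlgebraicGeometry.QuasiCompact)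
      hc.flip ⟨⟨inferInstance, inferInstance⟩, inferInstance⟩ h1
  exact isSyntomicMor_of_flat_of_koszul f h5
    ((Groth.Agent.Helper19.LciMor.forall_isKoszulAt_iff f).mpr h4)

end Groth.Agent.Lib.Helper16.SyntMor
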