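import Groth.Agent.Lib.Helper16.TFLat4
import Groth.Agent.Lib.Helper16.CanId4
import Groth.Agent.Lib.Helper16.GorensteinTopLC

/-!
# Duality of lattices in K^n over a one-dimensional Gorenstein local domain
-/

set_option autoImplicit false
universe u
open IsLocalRing Matrix CategoryTheory Abelian

namespace Groth.Agent.Lib.Helper16.TFLat

open Groth.Agent.Lib.Helper16 Groth.Agent.Lib Groth.Agent.Lib.Helper16.RefDual

section dual

variable {O : Type u} [CommRing O] [IsDomain O] {K : Type u} [Field K] [Algebra O K]
  [IsFractionRing O K] {n : ℕ}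

/-- the dual lattice with respect to the dot product -/
def dual (A : Submodule O (Fin n → K)) : Submodule O (Fin n → K) where
  carrier := {x | ∀ y ∈ A, x ⬝ᵥ y ∈ (1 : Submodule O K)}
  add_mem' := by
    intro x x' hx hx' y hy
    rw [add_dotProduct]
    exact add_mem (hx y hy) (hx' y hy)
  zero_mem' := by
    intro y _
    rw [zero_dotProduct]
    exact zero_mem _
  smul_mem' := by
    intro a x hx y hy
    rw [smul_dotProduct]
    exact Submodule.smul_mem _ a (hx y hy)

theorem mem_dual {A : Submodule O (Fin n → K)} {x : Fin n → K} :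
    x ∈ dual A ↔ ∀ y ∈ A, x ⬝ᵥ y ∈ (1 : Submodule O K) := Iff.rfl

theorem dual_anti {A B : Submodule O (Fin n → K)} (h : A ≤ B) : dual B ≤ dual A :=
  fun _ hx y hy => hx y (h hy)

theorem le_dual_dual (A : Submodule O (Fin n → K)) : A ≤ dual (dual A) := by
  intro y hy x hx
  rw [dotProduct_comm]
  exact hx y hy

theorem dual_dual_dual (A : Submodule O (Fin n → K)) : dual (dual (dual A)) = dual A :=
  le_antisymm (dual_anti (le_dual_dual A)) (le_dual_dual (dual A))

/-- bounded lattices: `c O^n ⊆ A ⊆ c⁻¹ O^n` -/
structure IsBdd (c : O) (A : Submodule O (Fin n → K)) : Prop where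
  single_mem : ∀ i, (Pi.single i (algebraMap O K c) : Fin n → K) ∈ A
  mul_mem : ∀ y ∈ A, ∀ i, algebraMap O K c * y i ∈ (1 : Submodule O K)

theorem isBdd_dual {c : O} {A : Submodule O (Fin n → K)} (h : IsBdd c A) : IsBdd c (dual A) where
  single_mem := by
    intro i y hy
    rw [single_dotProduct]
    exact h.mul_mem y hy i
  mul_mem := by
    intro x hx i
    have := hx _ (h.single_mem i)
    rwa [dotProduct_single, mul_comm] at this

theorem IsBdd.exists_coeff {c : O} {B : Submodule O (Fin n → K)} (hB : IsBdd c B)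
    (y : Fin n → K) (hy : y ∈ B) :
    ∃ a : Fin n → O, ∀ i, algebraMap O K (a i) = algebraMap O K c * y i := by
  have := fun i => Submodule.mem_one.1 (hB.mul_mem y hy i)
  choose a ha using this
  exact ⟨a, ha⟩

theorem sq_smul_eq (c : O) (y : Fin n → K) (a : Fin n → O)
    (ha : ∀ i, algebraMap O K (a i) = algebraMap O K c * y i) :
    (c * c) • y = ∑ i, a i • (Pi.single i (algebraMap O K c) : Fin n → K) := by
  classical
  funext j
  rw [Finset.sum_apply, Finset.sum_eq_single j]
  · rw [Pi.smul_apply, Pi.smul_apply, Pi.single_eq_same, Algebra.smul_def, Algebra.smul_def, ha,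
      map_mul]
    ring
  · intro b _ hb
    rw [Pi.smul_apply, Pi.single_eq_of_ne (Ne.symm hb), smul_zero]
  · intro h
    exact absurd (Finset.mem_univ j) h

theorem IsBdd.sq_smul_mem {c : O} {A B : Submodule O (Fin n → K)} (hA : IsBdd c A)
    (hB : IsBdd c B) (y : Fin n → K) (hy : y ∈ B) : (c * c) • y ∈ A := by
  obtain ⟨a, ha⟩ := hB.exists_coeff y hy
  rw [sq_smul_eq c y a ha]
  exact Submodule.sum_mem _ fun i _ => Submodule.smul_mem _ _ (hA.single_mem i)

/-- pairing with an element of the dual, as a functional -/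
noncomputable def pairFun (A : Submodule O (Fin n → K)) (x : dual A) : A →ₗ[O] O :=
  (GorOver.oneEquiv O K).symm.toLinearMap ∘ₗ
    (LinearMap.codRestrict (1 : Submodule O K)
      ({ toFun := fun y => (x : Fin n → K) ⬝ᵥ (y : Fin n → K)
         map_add' := fun y y' => by
          rw [Submodule.coe_add, dotProduct_add]
         map_smul' := fun a y => by
          rw [Submodule.coe_smul, dotProduct_smul, RingHom.id_apply] } : A →ₗ[O] K)
      (fun y => x.2 y y.2))

theorem algebraMap_pairFun (A : Submodule O (Fin n → K)) (x : dual A) (y : A) :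
    algebraMap O K (pairFun A x y) = (x : Fin n → K) ⬝ᵥ (y : Fin n → K) := by
  show algebraMap O K ((GorOver.oneEquiv O K).symm _) = _
  rw [GorOver.algebraMap_oneEquiv_symm]
  rfl

/-- `A^∨ → Hom(A, O)` -/
noncomputable def pairHom (A : Submodule O (Fin n → K)) : dual A →ₗ[O] (A →ₗ[O] O) where
  toFun := pairFun A
  map_add' x x' := by
    apply LinearMap.ext
    intro y
    apply IsFractionRing.injective O K
    rw [LinearMap.add_apply, map_add, algebraMap_pairFun, algebraMap_pairFun, algebraMap_pairFun,
      Submodule.coe_add, add_dotProduct]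
  map_smul' a x := by
    apply LinearMap.ext
    intro y
    apply IsFractionRing.injective O K
    rw [RingHom.id_apply, LinearMap.smul_apply, smul_eq_mul, map_mul, algebraMap_pairFun,
      algebraMap_pairFun, Submodule.coe_smul, smul_dotProduct, Algebra.smul_def]

theorem algebraMap_pairHom (A : Submodule O (Fin n → K)) (x : dual A) (y : A) :
    algebraMap O K (pairHom A x y) = (x : Fin n → K) ⬝ᵥ (y : Fin n → K) :=
  algebraMap_pairFun A x y

theorem IsBdd.pairHom_injective {c : O} (hc : c ≠ 0) {A : Submodule O (Fin n → K)}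
    (h : IsBdd c A) : Function.Injective (pairHom A) := by
  rw [← LinearMap.ker_eq_bot, LinearMap.ker_eq_bot']
  intro x hx
  apply Subtype.ext
  funext i
  have h1 := algebraMap_pairHom A x ⟨_, h.single_mem i⟩
  rw [hx, LinearMap.zero_apply, map_zero, dotProduct_single] at h1
  rcases mul_eq_zero.1 h1.symm with h2 | h2
  · exact h2
  · exact absurd h2 (GorOver.algebraMap_ne_zero hc)

theorem IsBdd.formula {c : O} (hc : c ≠ 0) {A : Submodule O (Fin n → K)} (h : IsBdd c A)
    (g : A →ₗ[O] O) (y : A) :
    algebraMap O K (g y) =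
      (fun i => algebraMap O K (g ⟨_, h.single_mem i⟩) / algebraMap O K c) ⬝ᵥ
        (y : Fin n → K) := by
  have hcK : algebraMap O K c ≠ 0 := GorOver.algebraMap_ne_zero hc
  obtain ⟨a, ha⟩ := h.exists_coeff y y.2
  have h1 : (c * c) • y = ∑ i, a i • (⟨_, h.single_mem i⟩ : A) := by
    apply Subtype.ext
    rw [Submodule.coe_smul, Submodule.coe_sum, sq_smul_eq (K := K) c (y : Fin n → K) a ha]
    exact Finset.sum_congr rfl fun i _ => rfl
  have h2 : (c * c) * g y = ∑ i, a i * g ⟨_, h.single_mem i⟩ := by
    have := congrArg g h1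
    rw [map_smul, map_sum, smul_eq_mul] at this
    rw [this]
    exact Finset.sum_congr rfl fun i _ => by rw [map_smul, smul_eq_mul]
  have h3 : (algebraMap O K c * algebraMap O K c) * algebraMap O K (g y) =
      (algebraMap O K c * algebraMap O K c) *
        ((fun i => algebraMap O K (g ⟨_, h.single_mem i⟩) / algebraMap O K c) ⬝ᵥ
          (y : Fin n → K)) := by
    have h4 := congrArg (algebraMap O K) h2
    rw [map_mul, map_mul, map_sum] at h4
    rw [h4, dotProduct, Finset.mul_sum]
    refine Finset.sum_congr rfl fun i _ => ?_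
    rw [map_mul, ha]
    field_simp
  exact mul_left_cancel₀ (mul_ne_zero hcK hcK) h3

theorem IsBdd.pairHom_surjective {c : O} (hc : c ≠ 0) {A : Submodule O (Fin n → K)}
    (h : IsBdd c A) : Function.Surjective (pairHom A) := by
  intro g
  have hx : (fun i => algebraMap O K (g ⟨_, h.single_mem i⟩) / algebraMap O K c) ∈ dual A := by
    intro y hy
    rw [← h.formula hc g ⟨y, hy⟩]
    exact Submodule.mem_one.2 ⟨_, rfl⟩
  refine ⟨⟨_, hx⟩, ?_⟩
  apply LinearMap.ext
  intro y
  apply IsFractionRing.injective O K
  rw [algebraMap_pairHom, h.formula hc g y]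

/-- `A^∨ ≃ Hom(A, O)` -/
noncomputable def IsBdd.dualEquiv {c : O} (hc : c ≠ 0) {A : Submodule O (Fin n → K)}
    (h : IsBdd c A) : dual A ≃ₗ[O] (A →ₗ[O] O) :=
  LinearEquiv.ofBijective (pairHom A) ⟨h.pairHom_injective hc, h.pairHom_surjective hc⟩

theorem IsBdd.algebraMap_dualEquiv {c : O} (hc : c ≠ 0) {A : Submodule O (Fin n → K)}
    (h : IsBdd c A) (x : dual A) (y : A) :
    algebraMap O K (h.dualEquiv hc x y) = (x : Fin n → K) ⬝ᵥ (y : Fin n → K) :=
  algebraMap_pairHom A x y

theorem IsBdd.finite [IsNoetherianRing O] {c : O} (hc : c ≠ 0) {A : Submodule O (Fin n → K)}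
    (h : IsBdd c A) : Module.Finite O ↥A := by
  let emb : A →ₗ[O] (Fin n → O) :=
    { toFun := fun y i => (GorOver.oneEquiv O K).symm ⟨_, h.mul_mem y y.2 i⟩
      map_add' := fun y y' => by
        funext i
        apply IsFractionRing.injective O K
        rw [Pi.add_apply, map_add, GorOver.algebraMap_oneEquiv_symm,
          GorOver.algebraMap_oneEquiv_symm, GorOver.algebraMap_oneEquiv_symm]
        show algebraMap O K c * ((y : Fin n → K) + (y' : Fin n → K)) i = _
        rw [Pi.add_apply, mul_add]
      map_smul' := fun a y => by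
        funext i
        apply IsFractionRing.injective O K
        rw [RingHom.id_apply, Pi.smul_apply, smul_eq_mul, map_mul,
          GorOver.algebraMap_oneEquiv_symm, GorOver.algebraMap_oneEquiv_symm]
        show algebraMap O K c * (a • (y : Fin n → K)) i = _
        rw [Pi.smul_apply, Algebra.smul_def]
        ring }
  have hemb : Function.Injective emb := by
    rw [← LinearMap.ker_eq_bot, LinearMap.ker_eq_bot']
    intro y hy
    apply Subtype.ext
    funext i
    have h1 : algebraMap O K (emb y i) = algebraMap O K c * (y : Fin n → K) i :=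
      GorOver.algebraMap_oneEquiv_symm _
    rw [hy, Pi.zero_apply, map_zero] at h1
    rcases mul_eq_zero.1 h1.symm with h2 | h2
    · exact absurd h2 (GorOver.algebraMap_ne_zero hc)
    · exact h2
  exact Module.Finite.of_injective emb hemb

theorem tf_submodule' (A : Submodule O (Fin n → K)) :
    ∀ (r : O) (a : A), r ≠ 0 → r • a = 0 → a = 0 := by
  intro r a hr ha
  apply Subtype.ext
  funext i
  have h1 : (r • (a : Fin n → K)) i = 0 := by
    rw [← Submodule.coe_smul, ha]
    rfl
  rw [Pi.smul_apply, Algebra.smul_def] at h1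
  rcases mul_eq_zero.1 h1 with h2 | h2
  · exact absurd h2 (GorOver.algebraMap_ne_zero hr)
  · exact h2

end dual


section lats

variable (O : Type u) [CommRing O] [IsDomain O] (K : Type u) [Field K] [Algebra O K]
  [IsFractionRing O K] (n : ℕ)

/-- `O^n ⊆ K^n` -/
abbrev latO : Submodule O (Fin n → K) :=
  Submodule.pi Set.univ (fun _ : Fin n => (1 : Submodule O K))

/-- `Õ^n ⊆ K^n` -/
abbrev latN : Submodule O (Fin n → K) :=
  Submodule.pi Set.univ (fun _ : Fin n => Subalgebra.toSubmodule (integralClosure O K))

/-- `C^n ⊆ K^n` -/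
abbrev latC : Submodule O (Fin n → K) :=
  Submodule.pi Set.univ (fun _ : Fin n =>
    (((1 : Submodule O K).colon (Subalgebra.toSubmodule (integralClosure O K))) •
      (1 : Submodule O K)))

variable {O K n}

theorem latC_le_latO : latC O K n ≤ latO O K n := by
  intro x hx i hi
  obtain ⟨c, hc, -⟩ := mem_conductor_smul_one (hx i hi)
  exact Submodule.mem_one.2 ⟨c, hc⟩

theorem latO_le_latN : latO O K n ≤ latN O K n := by
  intro x hx i hi
  obtain ⟨r, hr⟩ := Submodule.mem_one.1 (hx i hi)
  rw [← hr]
  exact Subalgebra.algebraMap_mem _ r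

theorem algebraMap_mem_conductor_smul_one {c : O}
    (hcC : ∀ p ∈ integralClosure O K, c • p ∈ (1 : Submodule O K)) :
    algebraMap O K c ∈
      ((1 : Submodule O K).colon (Subalgebra.toSubmodule (integralClosure O K))) •
        (1 : Submodule O K) := by
  have h1 : c ∈ (1 : Submodule O K).colon (Subalgebra.toSubmodule (integralClosure O K)) :=
    Submodule.mem_colon.2 fun p hp => hcC p hp
  have h2 := Submodule.smul_mem_smul h1 (Submodule.one_le.1 (le_refl (1 : Submodule O K)))
  have h3 : c • (1 : K) = algebraMap O K c := by rw [Algebra.smul_def, mul_one]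
  rw [h3] at h2
  exact h2

theorem isBdd_of_between {c : O}
    (hcC : ∀ p ∈ integralClosure O K, c • p ∈ (1 : Submodule O K))
    {Λ : Submodule O (Fin n → K)} (h1 : latC O K n ≤ Λ) (h2 : Λ ≤ latN O K n) : IsBdd c Λ where
  single_mem := by
    classical
    intro i
    apply h1
    intro j _
    by_cases hj : j = i
    · subst hj
      rw [Pi.single_eq_same]
      exact algebraMap_mem_conductor_smul_one hcC
    · rw [Pi.single_eq_of_ne hj]
      exact Submodule.zero_mem _
  mul_mem := by
    intro y hy i
    rw [← Algebra.smul_def]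
    exact hcC _ (h2 hy i (Set.mem_univ i))

theorem dual_latO : dual (latO O K n) = latO O K n := by
  classical
  apply le_antisymm
  · intro x hx i _
    have h1 : (Pi.single i (1 : K) : Fin n → K) ∈ latO O K n := by
      intro j _
      by_cases hj : j = i
      · subst hj
        rw [Pi.single_eq_same]
        exact Submodule.one_le.1 le_rfl
      · rw [Pi.single_eq_of_ne hj]
        exact Submodule.zero_mem _
    have h2 := hx _ h1
    rwa [dotProduct_single, mul_one] at h2
  · intro x hx y hy
    refine Submodule.sum_mem _ fun i _ => ?_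
    obtain ⟨r, hr⟩ := Submodule.mem_one.1 (hx i (Set.mem_univ i))
    obtain ⟨s, hs⟩ := Submodule.mem_one.1 (hy i (Set.mem_univ i))
    rw [← hr, ← hs, ← map_mul]
    exact Submodule.mem_one.2 ⟨_, rfl⟩

theorem dual_latN : dual (latN O K n) = latC O K n := by
  classical
  apply le_antisymm
  · intro x hx i _
    have hsingle : ∀ p ∈ integralClosure O K, (Pi.single i p : Fin n → K) ∈ latN O K n := by
      intro p hp j _
      by_cases hj : j = i
      · subst hj
        rw [Pi.single_eq_same]
        exact hp
      · rw [Pi.single_eq_of_ne hj]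
        exact Submodule.zero_mem _
    have h1 := hx _ (hsingle 1 (Subalgebra.one_mem _))
    rw [dotProduct_single, mul_one] at h1
    obtain ⟨r, hr⟩ := Submodule.mem_one.1 h1
    rw [← hr]
    apply algebraMap_mem_conductor_smul_one
    intro p hp
    have h2 := hx _ (hsingle p hp)
    rwa [dotProduct_single, ← hr, ← Algebra.smul_def] at h2
  · intro x hx y hy
    refine Submodule.sum_mem _ fun i _ => ?_
    obtain ⟨c, hc1, hc2⟩ := mem_conductor_smul_one (hx i (Set.mem_univ i))
    rw [← hc1, ← Algebra.smul_def]
    exact hc2 _ (hy i (Set.mem_univ i))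

end lats

section gorDual

variable {O : Type u} [CommRing O] [IsDomain O] [LocCoh.IsGorensteinLocalRing O]
  {K : Type u} [Field K] [Algebra O K] [IsFractionRing O K] {n : ℕ}

theorem IsBdd.isFiniteLength_quot (hdim : ringKrullDim O = 1) {c : O} (hc : c ≠ 0)
    {A B : Submodule O (Fin n → K)} (hA : IsBdd c A) (hB : IsBdd c B) :
    IsFiniteLength O (↥B ⧸ A.submoduleOf B) := by
  have := hB.finite hc
  obtain ⟨k, hk⟩ := GorOver.exists_pow_maximalIdeal_le hdim (c * c) (mul_ne_zero hc hc)
  apply FL.isFiniteLength_of_finite_of_pow_smul _ k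
  intro a ha y
  obtain ⟨b, rfl⟩ := Submodule.mkQ_surjective _ y
  obtain ⟨t, rfl⟩ := Ideal.mem_span_singleton'.1 (hk ha)
  rw [← map_smul, Submodule.mkQ_apply, Submodule.Quotient.mk_eq_zero]
  change (((t * (c * c)) • b : ↥B) : Fin n → K) ∈ A
  rw [Submodule.coe_smul, mul_smul]
  exact A.smul_mem t (hA.sq_smul_mem hB b.1 b.2)

/-- duality preserves relative lengths -/
theorem relLen_dual (hdim : ringKrullDim O = 1) {c : O} (hc : c ≠ 0)
    {A B : Submodule O (Fin n → K)} (hA : IsBdd c A) (hB : IsBdd c B) (hAB : A ≤ B) :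
    CanId.relLen (dual B) (dual A) = CanId.relLen A B := by
  have hfinB := hB.finite hc
  have hExtB := GorOver.subsingleton_ext_one_of_torsionFree hdim ↥B (tf_submodule' B)
  let j : A →ₗ[O] B := Submodule.inclusion hAB
  have hj : Function.Injective j := Submodule.inclusion_injective hAB
  have hrange : LinearMap.range j = A.submoduleOf B := Submodule.range_inclusion _ _ hAB
  have hS : ∀ h : dual A, h ∈ (dual B).submoduleOf (dual A) ↔
      ∃ f' : B →ₗ[O] O, f' ∘ₗ j = hA.dualEquiv hc h := by
    intro h
    constructor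
    · intro hh
      refine ⟨pairHom B ⟨h.1, hh⟩, ?_⟩
      apply LinearMap.ext
      intro y
      apply IsFractionRing.injective O K
      rw [LinearMap.comp_apply, algebraMap_pairHom, hA.algebraMap_dualEquiv]
      rfl
    · rintro ⟨f', hf'⟩
      obtain ⟨x', hx'⟩ := hB.pairHom_surjective hc f'
      have hx'A : (x' : Fin n → K) ∈ dual A := dual_anti hAB x'.2
      have h1 : (⟨x'.1, hx'A⟩ : dual A) = h := by
        apply hA.pairHom_injective hc
        apply LinearMap.ext
        intro y
        apply IsFractionRing.injective O K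
        have h2 := LinearMap.congr_fun hf' y
        rw [LinearMap.comp_apply, ← hx'] at h2
        have h3 := congrArg (algebraMap O K) h2
        rw [algebraMap_pairHom, hA.algebraMap_dualEquiv] at h3
        rw [algebraMap_pairHom, algebraMap_pairHom]
        exact h3
      show h.1 ∈ dual B
      rw [← h1]
      exact x'.2
  have h1 := CanId.length_coker_eq j hj hExtB (hA.dualEquiv hc) ((dual B).submoduleOf (dual A)) hS
  have hFL : IsFiniteLength O (↥B ⧸ LinearMap.range j) := by
    rw [hrange]
    exact hA.isFiniteLength_quot hdim hc hB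
  have hdim' : ringKrullDim O = ((1 : ℕ) : WithBot ℕ∞) := by
    rw [hdim]
    rfl
  have h2 := (GorTop.ext_finiteLength hdim' hFL).2
  rw [CanId.relLen, CanId.relLen, h1, h2, hrange]

/-- reflexivity of bounded lattices -/
theorem dual_dual (hdim : ringKrullDim O = 1) {c : O} (hc : c ≠ 0)
    {A : Submodule O (Fin n → K)} (hA : IsBdd c A) : dual (dual A) = A := by
  apply le_antisymm _ (le_dual_dual A)
  have hA2 : IsBdd c (dual (dual A)) := isBdd_dual (isBdd_dual hA)
  have h1 := relLen_dual hdim hc hA hA2 (le_dual_dual A)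
  rw [dual_dual_dual, CanId.relLen_self] at h1
  have h2 : Subsingleton (↥(dual (dual A)) ⧸ A.submoduleOf (dual (dual A))) :=
    Module.length_eq_zero_iff.1 h1.symm
  intro x hx
  have h3 : Submodule.mkQ (A.submoduleOf (dual (dual A))) ⟨x, hx⟩ = 0 := Subsingleton.elim _ _
  rw [Submodule.mkQ_apply, Submodule.Quotient.mk_eq_zero] at h3
  exact h3

theorem dual_latC (hdim : ringKrullDim O = 1) (hfin : Module.Finite O ↥(integralClosure O K)) :
    dual (latC O K n) = latN O K n := by
  obtain ⟨c, hc0, hc⟩ := exists_conductor_ne_zero (O := O) (K := K) hfin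
  have hB : IsBdd c (latN O K n) :=
    isBdd_of_between hc (latC_le_latO.trans latO_le_latN) le_rfl
  rw [← dual_latN, dual_dual hdim hc0 hB]

end gorDual

end Groth.Agent.Lib.Helper16.TFLat
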