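import Groth.Agent.Lib.Helper16.TFLat5

/-!
# Chains of lattices over the normalization with prescribed colength; length of C^n in O^n
-/

set_option autoImplicit false
universe u
open IsLocalRing Matrix

namespace Groth.Agent.Lib.Helper16.TFLat

open Groth.Agent.Lib.Helper16 Groth.Agent.Lib

section resSurj

variable {O : Type u} [CommRing O] [IsLocalRing O] [IsAlgClosed (ResidueField O)]
  {B : Type u} [CommRing B] [Algebra O B] [Algebra.IsIntegral O B]

/-- every residue field of an integral extension of `O` is `O / m` -/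
theorem exists_sub_mem_of_isMaximal (𝔫 : Ideal B) [h𝔫 : 𝔫.IsMaximal] (b : B) :
    ∃ o : O, b - algebraMap O B o ∈ 𝔫 := by
  have hmax : (𝔫.comap (algebraMap O B)).IsMaximal :=
    Ideal.isMaximal_comap_of_isIntegral_of_isMaximal 𝔫
  have hcomap : 𝔫.comap (algebraMap O B) = maximalIdeal O := IsLocalRing.eq_maximalIdeal hmax
  let g : O →+* B ⧸ 𝔫 := (Ideal.Quotient.mk 𝔫).comp (algebraMap O B)
  have hg : g.IsIntegral :=
    RingHom.IsIntegral.trans (algebraMap O B) (Ideal.Quotient.mk 𝔫)
      (algebraMap_isIntegral_iff.2 inferInstance)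
      (RingHom.isIntegral_of_surjective _ Ideal.Quotient.mk_surjective)
  let f : ResidueField O →+* B ⧸ 𝔫 := Ideal.Quotient.lift (maximalIdeal O) g (fun a ha => by
    rw [← hcomap] at ha
    exact Ideal.Quotient.eq_zero_iff_mem.2 ha)
  have hfg : f.comp (IsLocalRing.residue O) = g := by
    ext a
    rfl
  have hf : f.IsIntegral := RingHom.IsIntegral.tower_top (IsLocalRing.residue O) f (by
    rw [hfg]
    exact hg)
  have : IsDomain (B ⧸ 𝔫) := (Ideal.Quotient.isDomain_iff_prime 𝔫).2 h𝔫.isPrime
  obtain ⟨x, hx⟩ := (IsAlgClosed.ringHom_bijective_of_isIntegral f hf).2 (Ideal.Quotient.mk 𝔫 b)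
  obtain ⟨o, rfl⟩ := IsLocalRing.residue_surjective x
  refine ⟨o, ?_⟩
  rw [← Ideal.Quotient.eq]
  exact hx.symm

/-- a simple `B`-module has `O`-length one -/
theorem length_eq_one_of_isSimpleModule (S : Type u) [AddCommGroup S] [Module B S] [Module O S]
    [IsScalarTower O B S] [IsSimpleModule B S] : Module.length O S = 1 := by
  rw [Module.length_eq_one_iff, isSimpleModule_iff_toSpanSingleton_surjective]
  refine ⟨IsSimpleModule.nontrivial B S, fun s hs t => ?_⟩
  obtain ⟨b, hb⟩ := IsSimpleModule.toSpanSingleton_surjective B hs t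
  have hmax : Ideal.IsMaximal (LinearMap.ker (LinearMap.toSpanSingleton B S s)) :=
    IsSimpleModule.ker_toSpanSingleton_isMaximal B hs
  obtain ⟨o, ho⟩ := exists_sub_mem_of_isMaximal (O := O)
    (LinearMap.ker (LinearMap.toSpanSingleton B S s)) b
  refine ⟨o, ?_⟩
  have h1 : (b - algebraMap O B o) • s = 0 := ho
  rw [sub_smul, sub_eq_zero, algebraMap_smul] at h1
  show o • s = t
  rw [← h1]
  exact hb

end resSurj

section chain

variable {O : Type u} [CommRing O] [IsLocalRing O] [IsAlgClosed (ResidueField O)]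
  {B : Type u} [CommRing B] [Algebra O B] [Algebra.IsIntegral O B]
  {V : Type u} [AddCommGroup V] [Module B V] [Module O V] [IsScalarTower O B V]

theorem exists_colength_one (N₀ N : Submodule B V) (hle : N₀ ≤ N) (hne : N₀ ≠ N) (hfg : N.FG) :
    ∃ N' : Submodule B V, N₀ ≤ N' ∧ N' ≤ N ∧
      CanId.relLen (N'.restrictScalars O) (N.restrictScalars O) = 1 := by
  have hfin : Module.Finite B ↥N := Module.Finite.iff_fg.2 hfg
  have hnt : Nontrivial (↥N ⧸ N₀.submoduleOf N) := by
    rw [Submodule.Quotient.nontrivial_iff]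
    intro htop
    apply hne
    apply le_antisymm hle
    intro x hx
    have : (⟨x, hx⟩ : ↥N) ∈ N₀.submoduleOf N := by
      rw [htop]
      trivial
    exact this
  obtain ⟨T', hT'⟩ := (eq_top_or_exists_le_coatom (⊥ : Submodule B (↥N ⧸ N₀.submoduleOf N))).resolve_left
    bot_ne_top
  have hsimple : IsSimpleModule B ((↥N ⧸ N₀.submoduleOf N) ⧸ T') :=
    isSimpleModule_iff_isCoatom.2 hT'.1
  let π : ↥N →ₗ[B] ((↥N ⧸ N₀.submoduleOf N) ⧸ T') := T'.mkQ ∘ₗ (N₀.submoduleOf N).mkQ
  have hπsurj : Function.Surjective π :=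
    (Submodule.mkQ_surjective _).comp (Submodule.mkQ_surjective _)
  refine ⟨(LinearMap.ker π).map N.subtype, ?_, Submodule.map_subtype_le _ _, ?_⟩
  · intro x hx
    refine ⟨⟨x, hle hx⟩, ?_, rfl⟩
    show T'.mkQ ((N₀.submoduleOf N).mkQ ⟨x, hle hx⟩) = 0
    have : (N₀.submoduleOf N).mkQ ⟨x, hle hx⟩ = 0 := by
      rw [Submodule.mkQ_apply, Submodule.Quotient.mk_eq_zero]
      exact hx
    rw [this, map_zero]
  · let πO : ↥(N.restrictScalars O) →ₗ[O] ((↥N ⧸ N₀.submoduleOf N) ⧸ T') :=
      { toFun := fun y => π ⟨y.1, y.2⟩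
        map_add' := fun y y' => map_add π ⟨y.1, y.2⟩ ⟨y'.1, y'.2⟩
        map_smul' := fun o y => by
          show π ⟨o • y.1, _⟩ = o • π ⟨y.1, y.2⟩
          rw [← algebraMap_smul B o (π ⟨y.1, y.2⟩), ← map_smul]
          congr 1
          apply Subtype.ext
          show o • y.1 = algebraMap O B o • y.1
          rw [algebraMap_smul] }
    have hπOsurj : Function.Surjective πO := by
      intro z
      obtain ⟨y, hy⟩ := hπsurj z
      exact ⟨⟨y.1, y.2⟩, hy⟩
    have hker : LinearMap.ker πO =
        (((LinearMap.ker π).map N.subtype).restrictScalars O).submoduleOf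
          (N.restrictScalars O) := by
      ext y
      constructor
      · intro hy
        exact ⟨⟨y.1, y.2⟩, hy, rfl⟩
      · rintro ⟨z, hz, hzy⟩
        have : z = ⟨y.1, y.2⟩ := Subtype.ext hzy
        rw [LinearMap.mem_ker]
        show π ⟨y.1, y.2⟩ = 0
        rw [← this]
        exact hz
    have e := (Submodule.quotEquivOfEq _ _ hker.symm).trans
      (πO.quotKerEquivOfSurjective hπOsurj)
    rw [CanId.relLen, e.length_eq]
    exact length_eq_one_of_isSimpleModule (O := O) (B := B) _

theorem exists_colength_eq (N₀ N₁ : Submodule B V) (hle : N₀ ≤ N₁) (hfg : N₁.FG)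
    [IsNoetherianRing B] (a : ℕ)
    (ha : (a : ℕ∞) ≤ CanId.relLen (N₀.restrictScalars O) (N₁.restrictScalars O)) :
    ∃ N : Submodule B V, N₀ ≤ N ∧ N ≤ N₁ ∧
      CanId.relLen (N.restrictScalars O) (N₁.restrictScalars O) = a := by
  induction a with
  | zero => exact ⟨N₁, hle, le_rfl, by rw [CanId.relLen_self]; rfl⟩
  | succ a ih =>
    obtain ⟨N, h0, h1, h2⟩ := ih (le_trans (by exact_mod_cast Nat.le_succ a) ha)
    have hadd := CanId.relLen_add (Submodule.restrictScalars_mono O h0)
      (Submodule.restrictScalars_mono O h1)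
    rw [h2] at hadd
    have hne : N₀ ≠ N := by
      intro h
      rw [h, h2] at ha
      have : (a + 1 : ℕ) ≤ a := by exact_mod_cast ha
      omega
    obtain ⟨N', h3, h4, h5⟩ := exists_colength_one (O := O) N₀ N h0 hne (hfg.of_le h1)
    refine ⟨N', h3, h4.trans h1, ?_⟩
    rw [CanId.relLen_add (Submodule.restrictScalars_mono O h4)
      (Submodule.restrictScalars_mono O h1), h5, h2]
    push_cast
    rw [add_comm]

end chain

section lenC

variable {O : Type u} [CommRing O] [IsDomain O] {K : Type u} [Field K] [Algebra O K]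
  [IsFractionRing O K] {n : ℕ}

theorem relLen_latC_latO :
    CanId.relLen (latC O K n) (latO O K n) =
      (n : ℕ∞) * Module.length O
        (O ⧸ ((1 : Submodule O K).colon (Subalgebra.toSubmodule (integralClosure O K)))) := by
  classical
  let Φ : (Fin n → O) →ₗ[O] ↥(latO O K n) :=
    { toFun := fun v => ⟨fun i => algebraMap O K (v i), fun i _ => Submodule.mem_one.2 ⟨_, rfl⟩⟩
      map_add' := fun v w => by
        apply Subtype.ext
        funext i
        simp
      map_smul' := fun a v => by
        apply Subtype.ext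
        funext i
        simp [Algebra.smul_def] }
  have hΦinj : Function.Injective Φ := by
    intro v w hvw
    funext i
    apply IsFractionRing.injective O K
    exact congrFun (congrArg Subtype.val hvw) i
  have hΦsurj : Function.Surjective Φ := by
    intro x
    have := fun i => Submodule.mem_one.1 (x.2 i (Set.mem_univ i))
    choose v hv using this
    exact ⟨v, Subtype.ext (funext hv)⟩
  let e : (Fin n → O) ≃ₗ[O] ↥(latO O K n) := LinearEquiv.ofBijective Φ ⟨hΦinj, hΦsurj⟩
  have hmap : (Submodule.pi Set.univ (fun _ : Fin n =>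
      ((1 : Submodule O K).colon (Subalgebra.toSubmodule (integralClosure O K))))).map
        (e : (Fin n → O) →ₗ[O] ↥(latO O K n)) = (latC O K n).submoduleOf (latO O K n) := by
    ext x
    constructor
    · rintro ⟨v, hv, rfl⟩
      intro i hi
      show algebraMap O K (v i) ∈ _
      apply algebraMap_mem_conductor_smul_one
      intro p hp
      exact Submodule.mem_colon.1 (hv i hi) p hp
    · intro hx
      obtain ⟨v, rfl⟩ := e.surjective x
      refine ⟨v, ?_, rfl⟩
      intro i hi
      obtain ⟨c, hc1, hc2⟩ := mem_conductor_smul_one (hx i hi)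
      have : c = v i := IsFractionRing.injective O K hc1
      rw [← this]
      exact Submodule.mem_colon.2 fun p hp => hc2 p hp
  have e2 := Submodule.Quotient.equiv _ _ e hmap
  rw [CanId.relLen, ← e2.length_eq, (Submodule.quotientPi _).length_eq,
    Module.length_pi_of_fintype, Finset.sum_const, Finset.card_univ, Fintype.card_fin,
    nsmul_eq_mul]

end lenC

end Groth.Agent.Lib.Helper16.TFLat
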