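import Groth.Agent.Lib.Helper16.TFLat6

/-!
# Existence of a lattice over the normalization with prescribed colength containing a given O-lattice
-/

set_option autoImplicit false
universe u
open IsLocalRing Matrix

namespace Groth.Agent.Lib.Helper16.TFLat

open Groth.Agent.Lib.Helper16 Groth.Agent.Lib

section spanTop

variable {O : Type u} [CommRing O] [IsDomain O] {K : Type u} [Field K] [Algebra O K]
  [IsFractionRing O K] {n : ℕ}

theorem IsBdd.span_eq_top {c : O} (hc : c ≠ 0) {A : Submodule O (Fin n → K)} (h : IsBdd c A) :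
    Submodule.span K (A : Set (Fin n → K)) = ⊤ := by
  classical
  have hcK : algebraMap O K c ≠ 0 := GorOver.algebraMap_ne_zero hc
  rw [eq_top_iff]
  intro v _
  have hv : v = ∑ i, (v i * (algebraMap O K c)⁻¹) •
      (Pi.single i (algebraMap O K c) : Fin n → K) := by
    funext j
    rw [Finset.sum_apply, Finset.sum_eq_single j]
    · rw [Pi.smul_apply, Pi.single_eq_same, smul_eq_mul, inv_mul_cancel_right₀ hcK]
    · intro b _ hb
      rw [Pi.smul_apply, Pi.single_eq_of_ne (Ne.symm hb), smul_zero]
    · intro h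
      exact absurd (Finset.mem_univ j) h
  rw [hv]
  exact Submodule.sum_mem _ fun i _ =>
    Submodule.smul_mem _ _ (Submodule.subset_span (h.single_mem i))

/-- `Õ^n` as a module over `Õ` -/
abbrev latNB (O : Type u) [CommRing O] [IsDomain O] (K : Type u) [Field K] [Algebra O K]
    (n : ℕ) : Submodule ↥(integralClosure O K) (Fin n → K) :=
  Submodule.pi Set.univ (fun _ : Fin n => (1 : Submodule ↥(integralClosure O K) K))

theorem mem_latNB {x : Fin n → K} : x ∈ latNB O K n ↔ x ∈ latN O K n := by
  constructor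
  · intro hx i hi
    obtain ⟨b, hb⟩ := Submodule.mem_one.1 (hx i hi)
    rw [← hb]
    exact b.2
  · intro hx i hi
    exact Submodule.mem_one.2 ⟨⟨x i, hx i hi⟩, rfl⟩

theorem latNB_restrictScalars : (latNB O K n).restrictScalars O = latN O K n := by
  ext x
  exact mem_latNB

theorem latN_mul_mem {x y : Fin n → K} (hx : x ∈ latN O K n) (hy : y ∈ latN O K n) :
    x ⬝ᵥ y ∈ integralClosure O K := by
  refine Subalgebra.sum_mem _ fun i _ => ?_
  exact Subalgebra.mul_mem _ (hx i (Set.mem_univ i)) (hy i (Set.mem_univ i))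

theorem latNB_fg : (latNB O K n).FG := by
  classical
  refine ⟨Finset.univ.image (fun i : Fin n => (Pi.single i (1 : K) : Fin n → K)), ?_⟩
  apply le_antisymm
  · rw [Submodule.span_le]
    intro x hx
    rw [Finset.coe_image] at hx
    obtain ⟨i, -, rfl⟩ := hx
    intro j _
    show (Pi.single i (1 : K) : Fin n → K) j ∈ (1 : Submodule ↥(integralClosure O K) K)
    by_cases hj : j = i
    · subst hj
      rw [Pi.single_eq_same]
      exact Submodule.one_le.1 le_rfl
    · rw [Pi.single_eq_of_ne hj]
      exact Submodule.zero_mem _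
  · intro x hx
    have := fun i => Submodule.mem_one.1 (hx i (Set.mem_univ i))
    choose b hb using this
    have hx' : x = ∑ i, b i • (Pi.single i (1 : K) : Fin n → K) := by
      funext j
      rw [Finset.sum_apply, Finset.sum_eq_single j]
      · rw [Pi.smul_apply, Pi.single_eq_same, Algebra.smul_def, mul_one, hb]
      · intro k _ hk
        rw [Pi.smul_apply, Pi.single_eq_of_ne (Ne.symm hk), smul_zero]
      · intro h
        exact absurd (Finset.mem_univ j) h
    rw [hx']
    refine Submodule.sum_mem _ fun i _ => Submodule.smul_mem _ _ (Submodule.subset_span ?_)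
    rw [Finset.coe_image]
    exact ⟨i, Finset.mem_coe.2 (Finset.mem_univ i), rfl⟩

end spanTop

section lemmaA

variable {O : Type u} [CommRing O] [IsDomain O] [LocCoh.IsGorensteinLocalRing O]
  [IsAlgClosed (ResidueField O)]
  {K : Type u} [Field K] [Algebra O K] [IsFractionRing O K] {n : ℕ}

theorem exists_lattice_colength (hdim : ringKrullDim O = 1)
    (hfin : Module.Finite O ↥(integralClosure O K)) {c : O} (hc0 : c ≠ 0)
    (hc : ∀ p ∈ integralClosure O K, c • p ∈ (1 : Submodule O K))
    {J : Submodule O (Fin n → K)} (hbJ : IsBdd c J) (hJO : J ≤ latO O K n) (a : ℕ)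
    (ha : CanId.relLen J (latO O K n) = a) :
    ∃ N : Submodule ↥(integralClosure O K) (Fin n → K),
      J ≤ N.restrictScalars O ∧ N.restrictScalars O ≤ latN O K n ∧
      CanId.relLen (N.restrictScalars O) (latN O K n) = a := by
  classical
  have hInf : Infinite (ResidueField O) := IsAlgClosed.instInfinite
  have hDed := isDedekindDomain hdim hfin
  have hPID := isPrincipalIdealRing hdim hfin
  have hfinmax := finite_maximal hdim hfin
  have hfr : IsFractionRing ↥(integralClosure O K) K :=
    integralClosure.isFractionRing_of_finite_extension K K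
  have hint : Algebra.IsIntegral O ↥(integralClosure O K) := Algebra.IsIntegral.of_finite O _
  have hbO : IsBdd c (latO O K n) := isBdd_of_between hc latC_le_latO latO_le_latN
  have hbN : IsBdd c (latN O K n) :=
    isBdd_of_between hc (latC_le_latO.trans latO_le_latN) le_rfl
  have hFLD := hbO.isFiniteLength_quot hdim hc0 hbN
  have hDtop : CanId.relLen (latO O K n) (latN O K n) ≠ ⊤ := Module.length_ne_top_iff.2 hFLD
  -- general position
  have hfinJ : Module.Finite O ↥J := hbJ.finite hc0
  have hspanJ : Submodule.span K (Set.range J.subtype) = ⊤ := by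
    rw [Submodule.coe_subtype, Subtype.range_coe]
    exact hbJ.span_eq_top hc0
  obtain ⟨ψ, hψ1, hψ2⟩ := exists_equiv_normal_form (B := ↥(integralClosure O K)) J.subtype hspanJ
  choose m hm using hψ1
  let ψO : (Fin n → K) ≃ₗ[O] (Fin n → K) := ψ.restrictScalars O
  have hψO : ∀ v, ψO v = ψ v := fun v => rfl
  have hψOs : ∀ v, ψO.symm v = ψ.symm v := fun v => rfl
  have hψJ_le : J.map (ψO : (Fin n → K) →ₗ[O] (Fin n → K)) ≤ latN O K n := by
    rintro _ ⟨j, hj, rfl⟩ i _
    obtain ⟨b, hb⟩ := hψ2 ⟨j, hj⟩ i
    show ψ j i ∈ integralClosure O K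
    have : ψ j i = algebraMap ↥(integralClosure O K) K b := hb.symm
    rw [this]
    exact b.2
  have hO_le_ψJ : latO O K n ≤ J.map (ψO : (Fin n → K) →ₗ[O] (Fin n → K)) := by
    intro x hx
    have hx' : ∀ i, ∃ r : O, algebraMap O K r = x i := fun i =>
      Submodule.mem_one.1 (hx i (Set.mem_univ i))
    choose r hr using hx'
    refine ⟨∑ i, r i • ((m i : J) : Fin n → K), ?_, ?_⟩
    · exact Submodule.sum_mem _ fun i _ => Submodule.smul_mem _ _ (m i).2
    · show ψO (∑ i, r i • ((m i : J) : Fin n → K)) = x
      rw [map_sum]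
      funext j
      rw [Finset.sum_apply, Finset.sum_eq_single j]
      · rw [map_smul, hψO]
        have := hm j
        rw [Submodule.coe_subtype] at this
        rw [this, Pi.smul_apply, Pi.single_eq_same, Algebra.smul_def, mul_one, hr]
      · intro b _ hb
        rw [map_smul, hψO]
        have := hm b
        rw [Submodule.coe_subtype] at this
        rw [this, Pi.smul_apply, Pi.single_eq_of_ne (Ne.symm hb), smul_zero]
      · intro h
        exact absurd (Finset.mem_univ j) h
  -- N₀
  let ψB : (Fin n → K) ≃ₗ[↥(integralClosure O K)] (Fin n → K) :=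
    ψ.restrictScalars ↥(integralClosure O K)
  let N₀ : Submodule ↥(integralClosure O K) (Fin n → K) :=
    (latNB O K n).map (ψB.symm : (Fin n → K) →ₗ[↥(integralClosure O K)] (Fin n → K))
  have hN₀mem : ∀ y, y ∈ N₀ ↔ ψ y ∈ latN O K n := by
    intro y
    constructor
    · rintro ⟨x, hx, rfl⟩
      show ψ (ψ.symm x) ∈ latN O K n
      rw [LinearEquiv.apply_symm_apply]
      exact mem_latNB.1 hx
    · intro hy
      exact ⟨ψ y, mem_latNB.2 hy, ψ.symm_apply_apply y⟩
  have hN₀rs : N₀.restrictScalars O =
      (latN O K n).map (ψO.symm : (Fin n → K) →ₗ[O] (Fin n → K)) := by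
    ext y
    rw [Submodule.restrictScalars_mem, hN₀mem]
    constructor
    · intro hy
      exact ⟨ψ y, hy, ψ.symm_apply_apply y⟩
    · rintro ⟨x, hx, rfl⟩
      show ψ (ψ.symm x) ∈ latN O K n
      rw [LinearEquiv.apply_symm_apply]
      exact hx
  have hJN₀ : J ≤ N₀.restrictScalars O := by
    intro j hj
    rw [Submodule.restrictScalars_mem, hN₀mem]
    exact hψJ_le ⟨j, hj, rfl⟩
  have hmlat : ∀ i, ((m i : J) : Fin n → K) ∈ latN O K n := fun i =>
    latO_le_latN (hJO (m i).2)
  have hN₀le : N₀ ≤ latNB O K n := by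
    intro y hy
    rw [hN₀mem] at hy
    rw [mem_latNB]
    have h1 : y = ∑ i, (ψ y i) • ((m i : J) : Fin n → K) := by
      apply ψ.injective
      rw [map_sum]
      conv_lhs => rw [pi_eq_sum_univ' (ψ y)]
      refine Finset.sum_congr rfl fun i _ => ?_
      rw [map_smul]
      have := hm i
      rw [Submodule.coe_subtype] at this
      rw [this]
    rw [h1]
    intro k _
    rw [Finset.sum_apply]
    refine Subalgebra.sum_mem _ fun i _ => ?_
    rw [Pi.smul_apply, smul_eq_mul]
    exact Subalgebra.mul_mem _ (hy i (Set.mem_univ i)) (hmlat i k (Set.mem_univ k))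
  have hN₀le' : N₀.restrictScalars O ≤ latN O K n := by
    intro y hy
    exact mem_latNB.1 (hN₀le hy)
  -- the inequality
  have h1 := CanId.relLen_add hJO (latO_le_latN (O := O) (K := K) (n := n))
  have h2 := CanId.relLen_add hJN₀ hN₀le'
  have h3 : CanId.relLen J (N₀.restrictScalars O) =
      CanId.relLen (J.map (ψO : (Fin n → K) →ₗ[O] (Fin n → K))) (latN O K n) := by
    have h4 := CanId.relLen_map_equiv ψO.symm (J.map (ψO : (Fin n → K) →ₗ[O] (Fin n → K)))
      (latN O K n)
    rw [← hN₀rs] at h4
    rw [← h4]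
    congr 1
    ext y
    constructor
    · intro hy
      exact ⟨ψO y, ⟨y, hy, rfl⟩, ψO.symm_apply_apply y⟩
    · rintro ⟨_, ⟨j, hj, rfl⟩, rfl⟩
      show ψ.symm (ψ j) ∈ J
      rw [LinearEquiv.symm_apply_apply]
      exact hj
  have h5 := CanId.relLen_add hO_le_ψJ hψJ_le
  have hineq : (a : ℕ∞) ≤ CanId.relLen (N₀.restrictScalars O)
      ((latNB O K n).restrictScalars O) := by
    rw [latNB_restrictScalars]
    have h6 : CanId.relLen J (N₀.restrictScalars O) ≤ CanId.relLen (latO O K n) (latN O K n) := by
      rw [h3, h5]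
      exact le_add_self
    have h7 : (a : ℕ∞) + CanId.relLen (latO O K n) (latN O K n) ≤
        CanId.relLen (N₀.restrictScalars O) (latN O K n) +
          CanId.relLen (latO O K n) (latN O K n) := by
      rw [← ha, ← h1, h2, add_comm]
      exact add_le_add (le_refl _) h6
    exact (ENat.add_le_add_iff_right hDtop).1 h7
  have hNoeth : IsNoetherianRing ↥(integralClosure O K) := inferInstance
  obtain ⟨N, hN0, hN1, hNa⟩ := exists_colength_eq (O := O) N₀ (latNB O K n) hN₀le latNB_fg a hineq
  refine ⟨N, hJN₀.trans (Submodule.restrictScalars_mono O hN0), ?_, ?_⟩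
  · rw [← latNB_restrictScalars]
    exact Submodule.restrictScalars_mono O hN1
  · rw [← latNB_restrictScalars]
    exact hNa

end lemmaA

end Groth.Agent.Lib.Helper16.TFLat
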