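import Groth.Agent.Lib.Helper16.TFLat7

/-!
# Torsion-free modules over a Gorenstein curve singularity: representatives of the right length between C^n and Õ^n
-/

set_option autoImplicit false
universe u
open IsLocalRing Matrix

namespace Groth.Agent.Lib.Helper16.TFLat

open Groth.Agent.Lib.Helper16 Groth.Agent.Lib

section lemmaB

variable {O : Type u} [CommRing O] [IsDomain O] [IsNoetherianRing O] [IsLocalRing O]
  {K : Type u} [Field K] [Algebra O K] [IsFractionRing O K] {n : ℕ}

theorem exists_tau (hdim : ringKrullDim O = 1)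
    (hfin : Module.Finite O ↥(integralClosure O K)) {c : O} (hc0 : c ≠ 0)
    {J : Submodule O (Fin n → K)} (hbJ : IsBdd c J)
    (N : Submodule ↥(integralClosure O K) (Fin n → K)) (hJN : J ≤ N.restrictScalars O)
    (hN : N.restrictScalars O ≤ latN O K n) :
    ∃ (τ h : (Fin n → K) ≃ₗ[K] (Fin n → K)),
      (latN O K n).map ((τ.restrictScalars O : (Fin n → K) ≃ₗ[O] (Fin n → K)) :
        (Fin n → K) →ₗ[O] (Fin n → K)) = N.restrictScalars O ∧
      ∀ w y, τ w ⬝ᵥ y = w ⬝ᵥ h y := by
  classical
  have hDed := isDedekindDomain hdim hfin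
  have hPID := isPrincipalIdealRing hdim hfin
  have hfr : IsFractionRing ↥(integralClosure O K) K :=
    integralClosure.isFractionRing_of_finite_extension K K
  have hNoeth : IsNoetherianRing ↥(integralClosure O K) := inferInstance
  have hNle : N ≤ latNB O K n := fun y hy => mem_latNB.2 (hN hy)
  have hNfg : N.FG := latNB_fg.of_le hNle
  have hNtop : Submodule.span K (N : Set (Fin n → K)) = ⊤ := by
    rw [eq_top_iff, ← hbJ.span_eq_top hc0]
    exact Submodule.span_mono (fun x hx => hJN hx)
  have hlat : Submodule.IsLattice K N := ⟨hNfg, hNtop⟩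
  have hfree : Module.Free ↥(integralClosure O K) N := inferInstance
  have hfinN : Module.Finite ↥(integralClosure O K) N := inferInstance
  have hrank : Module.finrank ↥(integralClosure O K) N = n :=
    (Submodule.IsLattice.finrank_of_pi K N).trans (Fintype.card_fin n)
  let β : Module.Basis (Fin n) ↥(integralClosure O K) N := Module.finBasisOfFinrankEq _ N hrank
  let bK : Module.Basis (Fin n) K (Fin n → K) := β.extendOfIsLattice K
  have hbK : ∀ i, bK i = (β i : Fin n → K) := fun i => Module.Basis.extendOfIsLattice_apply K β i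
  let τ : (Fin n → K) ≃ₗ[K] (Fin n → K) := bK.equivFun.symm
  have hτ : ∀ w, τ w = ∑ i, w i • bK i := fun w => bK.equivFun_symm_apply w
  let h₀ : (Fin n → K) →ₗ[K] (Fin n → K) :=
    { toFun := fun y i => bK i ⬝ᵥ y
      map_add' := fun y y' => by
        funext i
        simp [dotProduct_add]
      map_smul' := fun a y => by
        funext i
        simp [dotProduct_smul] }
  have hadj : ∀ w y, τ w ⬝ᵥ y = w ⬝ᵥ h₀ y := by
    intro w y
    rw [hτ, sum_dotProduct]
    show _ = ∑ i, w i * (bK i ⬝ᵥ y)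
    refine Finset.sum_congr rfl fun i _ => ?_
    rw [smul_dotProduct, smul_eq_mul]
  have hinj : Function.Injective h₀ := by
    rw [← LinearMap.ker_eq_bot, LinearMap.ker_eq_bot']
    intro y hy
    funext i
    have h1 := hadj (τ.symm (Pi.single i 1)) y
    rw [LinearEquiv.apply_symm_apply, hy, dotProduct_zero, single_dotProduct, one_mul] at h1
    exact h1
  refine ⟨τ, LinearEquiv.ofInjectiveEndo h₀ hinj, ?_, fun w y => hadj w y⟩
  apply le_antisymm
  · rintro _ ⟨w, hw, rfl⟩
    show τ w ∈ N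
    have := fun i => hw i (Set.mem_univ i)
    rw [hτ]
    refine Submodule.sum_mem _ fun i _ => ?_
    have h1 : w i • bK i = (⟨w i, this i⟩ : ↥(integralClosure O K)) • (β i : Fin n → K) := by
      rw [hbK]
      rfl
    rw [h1]
    exact N.smul_mem _ (β i).2
  · intro x hx
    have hx' : x ∈ N := hx
    refine ⟨fun i => algebraMap ↥(integralClosure O K) K (β.repr ⟨x, hx'⟩ i), ?_, ?_⟩
    · intro i _
      exact (β.repr ⟨x, hx'⟩ i).2
    · show τ _ = x
      rw [hτ]
      have h2 := congrArg (fun z : N => (z : Fin n → K)) (β.sum_repr ⟨x, hx'⟩)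
      simp only at h2
      refine Eq.trans ?_ h2
      rw [Submodule.coe_sum]
      refine Finset.sum_congr rfl fun i _ => ?_
      rw [Submodule.coe_smul, hbK, algebraMap_smul]

end lemmaB

section final

variable {O : Type u} [CommRing O] [IsDomain O] [LocCoh.IsGorensteinLocalRing O]
  [IsAlgClosed (ResidueField O)]
  {K : Type u} [Field K] [Algebra O K] [IsFractionRing O K]
  {M : Type u} [AddCommGroup M] [Module O M] [Module.Finite O M] [NoZeroSMulDivisors O M]

theorem main_len (hdim : ringKrullDim O = 1)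
    (hfin : Module.Finite O ↥(integralClosure O K)) (n : ℕ)
    (hn : Module.finrank K (TensorProduct O K M) = n) :
    ∃ M' : Submodule O (Fin n → K), latC O K n ≤ M' ∧ M' ≤ latN O K n ∧
      Nonempty (M ≃ₗ[O] ↥M') ∧
      Module.length O (↥M' ⧸ Submodule.comap M'.subtype (latC O K n)) =
        (n : ℕ∞) * Module.length O
          (O ⧸ ((1 : Submodule O K).colon (Subalgebra.toSubmodule (integralClosure O K)))) := by
  classical
  have hInf : Infinite (ResidueField O) := IsAlgClosed.instInfinite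
  obtain ⟨Λ, hΛ1, hΛ2, ⟨eΛ⟩⟩ := main (M := M) hdim hfin n hn
  obtain ⟨c, hc0, hc⟩ := exists_conductor_ne_zero (O := O) (K := K) hfin
  have hbO : IsBdd c (latO O K n) := isBdd_of_between hc latC_le_latO latO_le_latN
  have hbN : IsBdd c (latN O K n) :=
    isBdd_of_between hc (latC_le_latO.trans latO_le_latN) le_rfl
  have hbC : IsBdd c (latC O K n) :=
    isBdd_of_between hc le_rfl (latC_le_latO.trans latO_le_latN)
  have hbΛ : IsBdd c Λ := isBdd_of_between hc (latC_le_latO.trans hΛ1) hΛ2
  obtain ⟨J, hJdef⟩ : ∃ J, J = dual Λ := ⟨_, rfl⟩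
  have hbJ : IsBdd c J := hJdef ▸ isBdd_dual hbΛ
  have hJΛ : dual J = Λ := by
    rw [hJdef]
    exact dual_dual hdim hc0 hbΛ
  have hJO : J ≤ latO O K n := by
    rw [hJdef, ← dual_latO]
    exact dual_anti hΛ1
  have hCJ : latC O K n ≤ J := by
    rw [hJdef, ← dual_latN]
    exact dual_anti hΛ2
  -- the number a
  have hFLa := hbO.isFiniteLength_quot hdim hc0 hbΛ
  obtain ⟨a, ha⟩ : ∃ a : ℕ, (a : ℕ∞) = CanId.relLen (latO O K n) Λ :=
    ENat.ne_top_iff_exists.1 (Module.length_ne_top_iff.2 hFLa)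
  have hJa : CanId.relLen J (latO O K n) = a := by
    have := relLen_dual hdim hc0 hbO hbΛ hΛ1
    rw [dual_latO, ← hJdef] at this
    rw [this, ha]
  have hDC : CanId.relLen (latO O K n) (latN O K n) = CanId.relLen (latC O K n) (latO O K n) := by
    have := relLen_dual hdim hc0 hbO hbN (latO_le_latN (O := O) (K := K) (n := n))
    rw [dual_latN, dual_latO] at this
    exact this.symm
  obtain ⟨N, hJN, hN, hNa⟩ := exists_lattice_colength hdim hfin hc0 hc hbJ hJO a hJa
  obtain ⟨τ, h, hτN, hadj⟩ := exists_tau hdim hfin hc0 hbJ N hJN hN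
  let τO : (Fin n → K) ≃ₗ[O] (Fin n → K) := τ.restrictScalars O
  let hO : (Fin n → K) ≃ₗ[O] (Fin n → K) := h.restrictScalars O
  have hτmem : ∀ w, w ∈ latN O K n → τ w ∈ N.restrictScalars O := by
    intro w hw
    rw [← hτN]
    exact ⟨w, hw, rfl⟩
  have hsingleN : ∀ i, (Pi.single i (1 : K) : Fin n → K) ∈ latN O K n := by
    intro i j _
    by_cases hj : j = i
    · subst hj
      rw [Pi.single_eq_same]
      exact Subalgebra.one_mem _
    · rw [Pi.single_eq_of_ne hj]
      exact Submodule.zero_mem _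
  -- M'
  have hM'N : Λ.map (hO : (Fin n → K) →ₗ[O] (Fin n → K)) ≤ latN O K n := by
    rintro _ ⟨y, hy, rfl⟩ i _
    show h y i ∈ integralClosure O K
    have h1 := hadj (Pi.single i 1) y
    rw [single_dotProduct, one_mul] at h1
    rw [← h1]
    exact latN_mul_mem (hN (hτmem _ (hsingleN i))) (hΛ2 hy)
  have hCM' : latC O K n ≤ Λ.map (hO : (Fin n → K) →ₗ[O] (Fin n → K)) := by
    intro x hx
    refine ⟨h.symm x, ?_, h.apply_symm_apply x⟩
    rw [← hJΛ]
    intro z hz
    have hzN := hJN hz
    rw [← hτN] at hzN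
    obtain ⟨w, hw, rfl⟩ := hzN
    show h.symm x ⬝ᵥ τ w ∈ (1 : Submodule O K)
    rw [dotProduct_comm, hadj, LinearEquiv.apply_symm_apply, dotProduct_comm]
    have hx' : x ∈ dual (latN O K n) := by
      rw [dual_latN]
      exact hx
    exact hx' w hw
  have hbM' : IsBdd c (Λ.map (hO : (Fin n → K) →ₗ[O] (Fin n → K))) :=
    isBdd_of_between hc hCM' hM'N
  have hdualM' : dual (Λ.map (hO : (Fin n → K) →ₗ[O] (Fin n → K))) =
      J.map (τO.symm : (Fin n → K) →ₗ[O] (Fin n → K)) := by
    ext x
    constructor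
    · intro hx
      refine ⟨τ x, ?_, τ.symm_apply_apply x⟩
      rw [hJdef]
      intro y hy
      rw [hadj]
      exact hx _ ⟨y, hy, rfl⟩
    · rintro ⟨z, hz, rfl⟩
      rintro _ ⟨y, hy, rfl⟩
      show τ.symm z ⬝ᵥ h y ∈ (1 : Submodule O K)
      rw [← hadj, LinearEquiv.apply_symm_apply]
      rw [hJdef] at hz
      exact hz y hy
  have hlatN : latN O K n = (N.restrictScalars O).map (τO.symm : (Fin n → K) →ₗ[O] (Fin n → K)) := by
    rw [← hτN]
    ext x
    constructor
    · intro hx
      exact ⟨τ x, ⟨x, hx, rfl⟩, τ.symm_apply_apply x⟩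
    · rintro ⟨_, ⟨w, hw, rfl⟩, rfl⟩
      show τ.symm (τ w) ∈ latN O K n
      rw [LinearEquiv.symm_apply_apply]
      exact hw
  have hlen1 : CanId.relLen (latC O K n) (Λ.map (hO : (Fin n → K) →ₗ[O] (Fin n → K))) =
      CanId.relLen J (N.restrictScalars O) := by
    have h1 := relLen_dual hdim hc0 hbC hbM' hCM'
    rw [dual_latC hdim hfin, hdualM'] at h1
    rw [← h1]
    conv_lhs => rw [hlatN]
    exact CanId.relLen_map_equiv τO.symm J (N.restrictScalars O)
  have hlen2 : CanId.relLen J (N.restrictScalars O) = CanId.relLen (latC O K n) (latO O K n) := by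
    have h1 := CanId.relLen_add hJN hN
    have h2 := CanId.relLen_add hJO (latO_le_latN (O := O) (K := K) (n := n))
    rw [h1, hNa, hJa, hDC, add_comm] at h2
    have hatop : (a : ℕ∞) ≠ ⊤ := ENat.coe_ne_top a
    exact le_antisymm ((ENat.add_le_add_iff_left hatop).1 (le_of_eq h2))
      ((ENat.add_le_add_iff_left hatop).1 (le_of_eq h2.symm))
  refine ⟨Λ.map (hO : (Fin n → K) →ₗ[O] (Fin n → K)), hCM', hM'N,
    ⟨eΛ.trans (hO.submoduleMap Λ)⟩, ?_⟩
  have : Module.length O (↥(Λ.map (hO : (Fin n → K) →ₗ[O] (Fin n → K))) ⧸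
      Submodule.comap (Λ.map (hO : (Fin n → K) →ₗ[O] (Fin n → K))).subtype (latC O K n)) =
      CanId.relLen (latC O K n) (Λ.map (hO : (Fin n → K) →ₗ[O] (Fin n → K))) := rfl
  rw [this, hlen1, hlen2, relLen_latC_latO]

end final

end Groth.Agent.Lib.Helper16.TFLat
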