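import Mathlib

/-!
# Mittag-Leffler lifting for towers of Artinian modules (helper16)
-/

set_option autoImplicit false
universe u
open CategoryTheory Opposite Limits

namespace Groth.Agent.Lib.Helper16.TowerLim

section coset

variable {R V : Type*} [Ring R] [AddCommGroup V] [Module R V] [IsArtinian R V]

/-- A decreasing chain of nonempty cosets in an Artinian module has a common point. -/
theorem exists_mem_iInter_of_cosets (C : ℕ → Set V) (U : ℕ → Submodule R V)
    (hne : ∀ k, (C k).Nonempty) (hanti : ∀ k, C (k + 1) ⊆ C k)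
    (hsub : ∀ k a b, a ∈ C k → b ∈ C k → a - b ∈ U k)
    (hadd : ∀ k a u, a ∈ C k → u ∈ U k → a + u ∈ C k) : ∃ x, ∀ k, x ∈ C k := by
  have hantiC : ∀ k l, k ≤ l → C l ⊆ C k := by
    intro k l hkl
    induction l, hkl using Nat.le_induction with
    | base => exact subset_rfl
    | succ l hkl ih => exact (hanti l).trans ih
  have hU : ∀ k, U (k + 1) ≤ U k := by
    intro k u hu
    obtain ⟨a, ha⟩ := hne (k + 1)
    have h1 := hsub k (a + u) a (hanti k (hadd (k + 1) a u ha hu)) (hanti k ha)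
    rwa [add_sub_cancel_left] at h1
  have hUanti : Antitone U := antitone_nat_of_succ_le hU
  let f : ℕ →o (Submodule R V)ᵒᵈ := ⟨fun k => OrderDual.toDual (U k), fun a b hab => hUanti hab⟩
  obtain ⟨k₀, hk₀⟩ := IsArtinian.monotone_stabilizes f
  have hk₀' : ∀ k, k₀ ≤ k → U k₀ = U k := fun k hk => congrArg OrderDual.ofDual (hk₀ k hk)
  obtain ⟨b, hb⟩ := hne k₀
  refine ⟨b, fun k => ?_⟩
  rcases le_total k k₀ with h | h
  · exact hantiC k k₀ h hb
  · obtain ⟨a, ha⟩ := hne k
    have h1 := hsub k₀ b a hb (hantiC k₀ k h ha)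
    rw [hk₀' k h] at h1
    have h2 := hadd k a (b - a) ha h1
    rwa [add_sub_cancel] at h2

end coset

section lift

variable {R : Type u} [Ring R] {X Y : ℕᵒᵖ ⥤ ModuleCat.{u} R} (f : X ⟶ Y)

/-- transition map of a tower. -/
abbrev τ (X : ℕᵒᵖ ⥤ ModuleCat.{u} R) {n m : ℕ} (h : n ≤ m) : X.obj (op m) ⟶ X.obj (op n) :=
  X.map (homOfLE h).op

theorem τ_τ (X : ℕᵒᵖ ⥤ ModuleCat.{u} R) {n m l : ℕ} (h : n ≤ m) (h' : m ≤ l) (x : X.obj (op l)) :
    (τ X h).hom ((τ X h').hom x) = (τ X (h.trans h')).hom x := by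
  change (τ X h' ≫ τ X h).hom x = _
  rw [show τ X h' ≫ τ X h = τ X (h.trans h') from (X.map_comp _ _).symm]

theorem τ_refl (X : ℕᵒᵖ ⥤ ModuleCat.{u} R) (n : ℕ) (x : X.obj (op n)) :
    (τ X (le_refl n)).hom x = x := by
  have : τ X (le_refl n) = 𝟙 _ := X.map_id _
  rw [this]
  rfl

theorem f_τ {n m : ℕ} (h : n ≤ m) (x : X.obj (op m)) :
    (f.app (op n)).hom ((τ X h).hom x) = (τ Y h).hom ((f.app (op m)).hom x) := by
  change (τ X h ≫ f.app (op n)).hom x = (f.app (op m) ≫ τ Y h).hom x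
  rw [f.naturality]

/-- Mittag-Leffler lifting for towers of Artinian modules. -/
theorem ml_lift (hX : ∀ n, IsArtinian R (X.obj (op n))) (y : ∀ n, Y.obj (op n))
    (hy : ∀ n, (τ Y (Nat.le_succ n)).hom (y (n + 1)) = y n)
    (hr : ∀ n, ∃ x, (f.app (op n)).hom x = y n) :
    ∃ x : ∀ n, X.obj (op n), (∀ n, (τ X (Nat.le_succ n)).hom (x (n + 1)) = x n) ∧
      ∀ n, (f.app (op n)).hom (x n) = y n := by
  have hy' : ∀ n m (h : n ≤ m), (τ Y h).hom (y m) = y n := by
    intro n m h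
    induction m, h using Nat.le_induction with
    | base => exact τ_refl Y n _
    | succ m h ih => rw [← τ_τ Y h (Nat.le_succ m), hy m, ih]
  -- eventual images of the fibres
  let E : ∀ n, Set (X.obj (op n)) := fun n =>
    {x | ∀ m (h : n ≤ m), ∃ x' : X.obj (op m), (f.app (op m)).hom x' = y m ∧ (τ X h).hom x' = x}
  have hE1 : ∀ n, ∃ x, x ∈ E n := by
    intro n
    have := hX n
    obtain ⟨x, hx⟩ := exists_mem_iInter_of_cosets (R := R)
      (fun k => {x : X.obj (op n) | ∃ x' : X.obj (op (n + k)), (f.app (op (n + k))).hom x' = y (n + k) ∧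
        (τ X (Nat.le_add_right n k)).hom x' = x})
      (fun k => Submodule.map (τ X (Nat.le_add_right n k)).hom
        (LinearMap.ker (f.app (op (n + k))).hom))
      (by
        intro k
        obtain ⟨x', hx'⟩ := hr (n + k)
        exact ⟨_, x', hx', rfl⟩)
      (by
        rintro k x ⟨x', hx', rfl⟩
        refine ⟨(τ X (Nat.le_succ (n + k))).hom x', ?_, ?_⟩
        · rw [f_τ]
          exact (congrArg (τ Y (Nat.le_succ (n + k))).hom hx').trans (hy (n + k))
        · rw [τ_τ])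
      (by
        rintro k a b ⟨a', ha', rfl⟩ ⟨b', hb', rfl⟩
        refine ⟨a' - b', LinearMap.mem_ker.2 ?_, map_sub _ _ _⟩
        rw [map_sub, ha', hb', sub_self])
      (by
        rintro k a u ⟨a', ha', rfl⟩ ⟨u', hu', rfl⟩
        refine ⟨a' + u', ?_, map_add _ _ _⟩
        rw [map_add, ha', LinearMap.mem_ker.1 hu', add_zero])
    refine ⟨x, fun m h => ?_⟩
    obtain ⟨k, rfl⟩ := Nat.exists_eq_add_of_le h
    exact hx k
  have hE2 : ∀ n x, x ∈ E n → ∃ x', x' ∈ E (n + 1) ∧ (τ X (Nat.le_succ n)).hom x' = x := by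
    intro n x hxE
    have := hX (n + 1)
    obtain ⟨x', hx'⟩ := exists_mem_iInter_of_cosets (R := R)
      (fun k => {x' : X.obj (op (n + 1)) | (τ X (Nat.le_succ n)).hom x' = x ∧
        ∃ x'' : X.obj (op (n + 1 + k)), (f.app (op (n + 1 + k))).hom x'' = y (n + 1 + k) ∧
        (τ X (Nat.le_add_right (n + 1) k)).hom x'' = x'})
      (fun k => LinearMap.ker (τ X (Nat.le_succ n)).hom ⊓
        Submodule.map (τ X (Nat.le_add_right (n + 1) k)).hom
        (LinearMap.ker (f.app (op (n + 1 + k))).hom))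
      (by
        intro k
        obtain ⟨x'', hx'', hx''2⟩ := hxE (n + 1 + k) (by omega)
        refine ⟨(τ X (Nat.le_add_right (n + 1) k)).hom x'', ?_, x'', hx'', rfl⟩
        rw [τ_τ]
        exact hx''2)
      (by
        rintro k x' ⟨hx'1, x'', hx'', rfl⟩
        refine ⟨hx'1, (τ X (Nat.le_succ (n + 1 + k))).hom x'', ?_, ?_⟩
        · rw [f_τ]
          exact (congrArg (τ Y (Nat.le_succ (n + 1 + k))).hom hx'').trans (hy (n + 1 + k))
        · rw [τ_τ])
      (by
        rintro k a b ⟨ha1, a', ha', rfl⟩ ⟨hb1, b', hb', rfl⟩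
        refine ⟨LinearMap.mem_ker.2 ?_, a' - b', LinearMap.mem_ker.2 ?_, map_sub _ _ _⟩
        · rw [map_sub, ha1, hb1, sub_self]
        · rw [map_sub, ha', hb', sub_self])
      (by
        rintro k a u ⟨ha1, a', ha', rfl⟩ ⟨hu1, u', hu', rfl⟩
        refine ⟨?_, a' + u', ?_, map_add _ _ _⟩
        · rw [map_add, ha1, LinearMap.mem_ker.1 hu1, add_zero]
        · rw [map_add, ha', LinearMap.mem_ker.1 hu', add_zero])
    refine ⟨x', fun m h => ?_, (hx' 0).1⟩
    obtain ⟨k, rfl⟩ := Nat.exists_eq_add_of_le h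
    exact (hx' k).2
  -- dependent choice
  let s' : ∀ n, {x : X.obj (op n) // x ∈ E n} := fun n =>
    Nat.rec (motive := fun n => {x : X.obj (op n) // x ∈ E n})
      ⟨Classical.choose (hE1 0), Classical.choose_spec (hE1 0)⟩
      (fun n x => ⟨Classical.choose (hE2 n x.1 x.2), (Classical.choose_spec (hE2 n x.1 x.2)).1⟩) n
  refine ⟨fun n => (s' n).1, fun n => (Classical.choose_spec (hE2 n (s' n).1 (s' n).2)).2,
    fun n => ?_⟩
  obtain ⟨x', hx', hx'2⟩ := (s' n).2 n (le_refl n)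
  rw [τ_refl] at hx'2
  change (f.app (op n)).hom (s' n).1 = y n
  rw [← hx'2, hx']

end lift

end Groth.Agent.Lib.Helper16.TowerLim
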