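import Groth.Agent.Lib.Helper16.TowerLim1

/-!
# Towers of modules: limit elements, tensor with finite free modules (helper16)
-/

set_option autoImplicit false
universe u
open CategoryTheory Opposite Limits MonoidalCategory
open scoped TensorProduct

namespace Groth.Agent.Lib.Helper16.TowerLim

section tower

variable {R : Type u} [CommRing R] {F : ℕᵒᵖ ⥤ ModuleCat.{u} R}

theorem compat_of_succ (x : ∀ n, F.obj (op n))
    (h : ∀ n, (τ F (Nat.le_succ n)).hom (x (n + 1)) = x n) :
    ∀ (n m : ℕ) (hnm : n ≤ m), (τ F hnm).hom (x m) = x n := by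
  intro n m hnm
  induction m, hnm using Nat.le_induction with
  | base => exact τ_refl F n _
  | succ m hnm ih => rw [← τ_τ F hnm (Nat.le_succ m), h m, ih]

theorem lim_ext {c : Cone F} (hc : IsLimit c) (x y : c.pt)
    (h : ∀ n : ℕ, (c.π.app (op n)).hom x = (c.π.app (op n)).hom y) : x = y := by
  apply Concrete.isLimit_ext F hc
  intro j
  exact h j.unop

theorem lim_exists {c : Cone F} (hc : IsLimit c) (x : ∀ n, F.obj (op n))
    (h : ∀ n, (τ F (Nat.le_succ n)).hom (x (n + 1)) = x n) :
    ∃ z : c.pt, ∀ n : ℕ, (c.π.app (op n)).hom z = x n := by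
  have hc' := isLimitOfPreserves (forget (ModuleCat.{u} R)) hc
  let s : (F ⋙ forget (ModuleCat.{u} R)).sections := ⟨fun j => x j.unop, by
    intro j j' f
    have hle : j'.unop ≤ j.unop := leOfHom f.unop
    have hf : f = (homOfLE hle).op := Subsingleton.elim _ _
    rw [hf]
    exact compat_of_succ x h j'.unop j.unop hle⟩
  refine ⟨(Types.isLimitEquivSections hc').symm s, fun n => ?_⟩
  exact Types.isLimitEquivSections_symm_apply hc' s (op n)

theorem cone_compat (c : Cone F) (z : c.pt) (n : ℕ) :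
    (τ F (Nat.le_succ n)).hom ((c.π.app (op (n + 1))).hom z) = (c.π.app (op n)).hom z := by
  change (c.π.app (op (n + 1)) ≫ τ F (Nat.le_succ n)).hom z = _
  rw [show c.π.app (op (n + 1)) ≫ τ F (Nat.le_succ n) = c.π.app (op n) from c.w _]

end tower

section tensor

variable {R : Type u} [CommRing R]

/-- naturality of `piScalarRight`. -/
theorem piScalarRight_rTensor {Q Q' : Type u} [AddCommGroup Q] [Module R Q] [AddCommGroup Q']
    [Module R Q'] (b : ℕ) (φ : Q →ₗ[R] Q') (ξ : Q ⊗[R] (Fin b → R)) (j : Fin b) :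
    TensorProduct.piScalarRight R R Q' (Fin b) (LinearMap.rTensor (Fin b → R) φ ξ) j =
      φ (TensorProduct.piScalarRight R R Q (Fin b) ξ j) := by
  induction ξ using TensorProduct.induction_on with
  | zero => simp
  | tmul x f =>
    rw [LinearMap.rTensor_tmul, TensorProduct.piScalarRight_apply,
      TensorProduct.piScalarRightHom_tmul, TensorProduct.piScalarRight_apply,
      TensorProduct.piScalarRightHom_tmul, map_smul]
  | add x y hx hy =>
    rw [map_add, map_add, Pi.add_apply, hx, hy, map_add, Pi.add_apply, map_add]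

theorem whisker_comm_apply {Q Q' N₁ N₂ : ModuleCat.{u} R} (φ : Q ⟶ Q') (g : N₁ ⟶ N₂)
    (ξ : (Q ⊗ N₁ : ModuleCat.{u} R)) :
    (Q' ◁ g).hom ((φ ▷ N₁).hom ξ) = (φ ▷ N₂).hom ((Q ◁ g).hom ξ) := by
  change (φ ▷ N₁ ≫ Q' ◁ g).hom ξ = (Q ◁ g ≫ φ ▷ N₂).hom ξ
  rw [whisker_exchange]

variable (M : ℕᵒᵖ ⥤ ModuleCat.{u} R)

/-- The map of towers `M_n ⊗ N₁ → M_n ⊗ N₂` induced by `g : N₁ → N₂`. -/
def tw {N₁ N₂ : ModuleCat.{u} R} (g : N₁ ⟶ N₂) :
    M ⋙ tensorRight N₁ ⟶ M ⋙ tensorRight N₂ where
  app n := M.obj n ◁ g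
  naturality := by
    intro a b φ
    exact (whisker_exchange (M.map φ) g).symm

theorem post_apply (N : ModuleCat.{u} R) (n : ℕ) (ξ : (limit M ⊗ N : ModuleCat.{u} R)) :
    (limit.π (M ⋙ tensorRight N) (op n)).hom ((limit.post M (tensorRight N)).hom ξ) =
      (limit.π M (op n) ▷ N).hom ξ := by
  change (limit.post M (tensorRight N) ≫ limit.π (M ⋙ tensorRight N) (op n)).hom ξ = _
  rw [limit.post_π]
  rfl

/-- injectivity of the comparison map for finite free modules. -/
theorem free_inj (b : ℕ) (ξ : (limit M ⊗ ModuleCat.of R (Fin b → R) : ModuleCat.{u} R))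
    (h : ∀ n : ℕ, (limit.π M (op n) ▷ ModuleCat.of R (Fin b → R)).hom ξ = 0) : ξ = 0 := by
  apply (TensorProduct.piScalarRight R R ((limit M : ModuleCat.{u} R) : Type u) (Fin b)).injective
  rw [map_zero]
  funext j
  apply lim_ext (limit.isLimit M)
  intro n
  have h1 := piScalarRight_rTensor b (limit.π M (op n)).hom ξ j
  have h2 : LinearMap.rTensor (Fin b → R) (limit.π M (op n)).hom ξ = 0 := h n
  rw [h2, map_zero] at h1
  change (limit.π M (op n)).hom (TensorProduct.piScalarRight R R ((limit M : ModuleCat.{u} R) : Type u) (Fin b) ξ j) =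
    (limit.π M (op n)).hom 0
  rw [← h1, map_zero]
  rfl

/-- surjectivity of the comparison map for finite free modules. -/
theorem free_surj (b : ℕ)
    (x : ∀ n, (M ⋙ tensorRight (ModuleCat.of R (Fin b → R))).obj (op n))
    (hx : ∀ n, (τ (M ⋙ tensorRight (ModuleCat.of R (Fin b → R))) (Nat.le_succ n)).hom (x (n + 1)) =
      x n) :
    ∃ ξ : (limit M ⊗ ModuleCat.of R (Fin b → R) : ModuleCat.{u} R),
      ∀ n : ℕ, (limit.π M (op n) ▷ ModuleCat.of R (Fin b → R)).hom ξ = x n := by
  have hcomp : ∀ (j : Fin b) (n : ℕ), (τ M (Nat.le_succ n)).hom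
      (TensorProduct.piScalarRight R R (M.obj (op (n + 1))) (Fin b) (x (n + 1)) j) =
      TensorProduct.piScalarRight R R (M.obj (op n)) (Fin b) (x n) j := by
    intro j n
    rw [← hx n]
    exact (piScalarRight_rTensor b (τ M (Nat.le_succ n)).hom (x (n + 1)) j).symm
  choose p hp using fun j => lim_exists (limit.isLimit M)
    (fun n => TensorProduct.piScalarRight R R (M.obj (op n)) (Fin b) (x n) j) (hcomp j)
  refine ⟨(TensorProduct.piScalarRight R R ((limit M : ModuleCat.{u} R) : Type u) (Fin b)).symm p, fun n => ?_⟩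
  apply (TensorProduct.piScalarRight R R (M.obj (op n)) (Fin b)).injective
  funext j
  have h1 := piScalarRight_rTensor b (limit.π M (op n)).hom
    ((TensorProduct.piScalarRight R R ((limit M : ModuleCat.{u} R) : Type u) (Fin b)).symm p) j
  rw [LinearEquiv.apply_symm_apply] at h1
  exact h1.trans (hp j n)

end tensor

end Groth.Agent.Lib.Helper16.TowerLim
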