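import Groth.Agent.Lib.Helper16.TowerLim2

/-!
# lim commutes with tensoring by a finitely presented module for towers of finite length modules (helper16)
-/

set_option autoImplicit false
universe u
open CategoryTheory Opposite Limits MonoidalCategory
open scoped TensorProduct

namespace Groth.Agent.Lib.Helper16.TowerLim

variable {R : Type u} [CommRing R]

theorem isIso_post (M : ℕᵒᵖ ⥤ ModuleCat.{u} R) (hM : ∀ n : ℕᵒᵖ, IsFiniteLength R (M.obj n))
    (N : Type u) [AddCommGroup N] [Module R N] [Module.FinitePresentation R N] :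
    IsIso (limit.post M (tensorRight (ModuleCat.of R N))) := by
  obtain ⟨b, a, q, g, hq, hex⟩ := Module.FinitePresentation.exists_fin' R N
  have hart : ∀ (c : ℕ) (n : ℕ),
      IsArtinian R ((M ⋙ tensorRight (ModuleCat.of R (Fin c → R))).obj (op n)) := by
    intro c n
    have h1 : IsArtinian R (M.obj (op n)) :=
      ((isFiniteLength_iff_isNoetherian_isArtinian).1 (hM (op n))).2
    exact isArtinian_of_linearEquiv (TensorProduct.piScalarRight R R (M.obj (op n)) (Fin c)).symm
  have hqs : ∀ (Q : ModuleCat.{u} R) (y : (Q ⊗ ModuleCat.of R N : ModuleCat.{u} R)),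
      ∃ x : (Q ⊗ ModuleCat.of R (Fin b → R) : ModuleCat.{u} R),
        (Q ◁ ModuleCat.ofHom q).hom x = y := fun Q y => LinearMap.lTensor_surjective Q hq y
  have hgq : ∀ (Q : ModuleCat.{u} R) (x : (Q ⊗ ModuleCat.of R (Fin b → R) : ModuleCat.{u} R)),
      (Q ◁ ModuleCat.ofHom q).hom x = 0 →
      ∃ w : (Q ⊗ ModuleCat.of R (Fin a → R) : ModuleCat.{u} R),
        (Q ◁ ModuleCat.ofHom g).hom w = x := by
    intro Q x hx
    have := lTensor_exact Q hex hq
    exact (this x).1 hx
  have hqg : ∀ (Q : ModuleCat.{u} R) (w : (Q ⊗ ModuleCat.of R (Fin a → R) : ModuleCat.{u} R)),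
      (Q ◁ ModuleCat.ofHom q).hom ((Q ◁ ModuleCat.ofHom g).hom w) = 0 := by
    intro Q w
    have := lTensor_exact Q hex hq
    exact (this _).2 ⟨w, rfl⟩
  refine (ConcreteCategory.isIso_iff_bijective _).2 ⟨?_, ?_⟩
  · change Function.Injective ⇑(limit.post M (tensorRight (ModuleCat.of R N))).hom
    rw [injective_iff_map_eq_zero]
    intro ξ hξ
    have h0 : ∀ n : ℕ, (limit.π M (op n) ▷ ModuleCat.of R N).hom ξ = 0 := by
      intro n
      rw [← post_apply, hξ, map_zero]
    obtain ⟨ξ', hξ'⟩ := hqs (limit M) ξ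
    have hcompat : ∀ n, (τ (M ⋙ tensorRight (ModuleCat.of R (Fin b → R))) (Nat.le_succ n)).hom
        ((limit.π M (op (n + 1)) ▷ ModuleCat.of R (Fin b → R)).hom ξ') =
        (limit.π M (op n) ▷ ModuleCat.of R (Fin b → R)).hom ξ' := fun n =>
      cone_compat ((tensorRight (ModuleCat.of R (Fin b → R))).mapCone (limit.cone M)) ξ' n
    have hr : ∀ n, ∃ w, ((tw M (ModuleCat.ofHom g)).app (op n)).hom w =
        (limit.π M (op n) ▷ ModuleCat.of R (Fin b → R)).hom ξ' := by
      intro n
      apply hgq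
      rw [whisker_comm_apply, hξ', h0 n]
    obtain ⟨w, hw, hw2⟩ := ml_lift (tw M (ModuleCat.ofHom g)) (hart a) _ hcompat hr
    obtain ⟨ω, hω⟩ := free_surj M a w hw
    have h1 : (limit M ◁ ModuleCat.ofHom g).hom ω - ξ' = 0 := by
      apply free_inj M b
      intro n
      rw [map_sub, ← whisker_comm_apply, hω n]
      exact sub_eq_zero.2 (hw2 n)
    rw [sub_eq_zero] at h1
    rw [← hξ', ← h1]
    exact hqg _ ω
  · intro y
    have hcompat : ∀ n, (τ (M ⋙ tensorRight (ModuleCat.of R N)) (Nat.le_succ n)).hom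
        ((limit.π (M ⋙ tensorRight (ModuleCat.of R N)) (op (n + 1))).hom y) =
        (limit.π (M ⋙ tensorRight (ModuleCat.of R N)) (op n)).hom y := fun n =>
      cone_compat (limit.cone (M ⋙ tensorRight (ModuleCat.of R N))) y n
    have hr : ∀ n, ∃ x, ((tw M (ModuleCat.ofHom q)).app (op n)).hom x =
        (limit.π (M ⋙ tensorRight (ModuleCat.of R N)) (op n)).hom y := fun n => hqs _ _
    obtain ⟨x, hx, hx2⟩ := ml_lift (tw M (ModuleCat.ofHom q)) (hart b) _ hcompat hr
    obtain ⟨ξ', hξ'⟩ := free_surj M b x hx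
    refine ⟨(limit M ◁ ModuleCat.ofHom q).hom ξ', ?_⟩
    apply lim_ext (limit.isLimit (M ⋙ tensorRight (ModuleCat.of R N)))
    intro n
    refine (post_apply M _ n _).trans ?_
    rw [← whisker_comm_apply, hξ' n]
    exact hx2 n

end Groth.Agent.Lib.Helper16.TowerLim
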