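import Mathlib
import Groth.Agent.Lib.Helper12.IntegralDim

/-!
# Subalgebras of k[[t]] containing a conductor: local, Noetherian, of dimension one (helper16)
-/

set_option autoImplicit false
universe u
open PowerSeries

namespace Groth.Agent.Lib.Helper16.ValSemi

variable {k : Type u} [Field k] (A : Subalgebra k (PowerSeries k))

/-- closedness in the `X`-adic topology -/
def Closed : Prop :=
  ∀ f : PowerSeries k, (∀ n : ℕ, ∃ g ∈ A, (n : ℕ∞) ≤ PowerSeries.order (f - g)) → f ∈ A

/-- all series of order at least `c` lie in `A` -/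
def HasCond (c : ℕ) : Prop := ∀ f : PowerSeries k, (c : ℕ∞) ≤ PowerSeries.order f → f ∈ A

variable {A}

theorem inv_mem (hcl : Closed A) {a : PowerSeries k} (ha : a ∈ A)
    (h0 : PowerSeries.constantCoeff a ≠ 0) : a⁻¹ ∈ A := by
  set l := PowerSeries.constantCoeff a with hl
  set g : PowerSeries k := 1 - l⁻¹ • a with hg
  have hgA : g ∈ A := A.sub_mem A.one_mem (A.smul_mem ha _)
  have hg0 : PowerSeries.constantCoeff g = 0 := by
    have h1 : PowerSeries.constantCoeff (l⁻¹ • a) = l⁻¹ * l := by
      rw [← PowerSeries.coeff_zero_eq_constantCoeff_apply, PowerSeries.coeff_smul,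
        PowerSeries.coeff_zero_eq_constantCoeff_apply, smul_eq_mul]
    rw [hg, map_sub, map_one, h1, inv_mul_cancel₀ h0, sub_self]
  apply hcl
  intro n
  refine ⟨l⁻¹ • ∑ i ∈ Finset.range n, g ^ i,
    A.smul_mem (A.sum_mem fun i _ => A.pow_mem hgA i) _, ?_⟩
  have h1 : a * (l⁻¹ • ∑ i ∈ Finset.range n, g ^ i) = 1 - g ^ n := by
    rw [mul_smul_comm, ← smul_mul_assoc]
    have : l⁻¹ • a = 1 - g := by rw [hg]; ring
    rw [this, mul_neg_geom_sum]
  have h2 : a⁻¹ - l⁻¹ • ∑ i ∈ Finset.range n, g ^ i = a⁻¹ * g ^ n := by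
    have h3 : a⁻¹ * a = 1 := PowerSeries.inv_mul_cancel a h0
    calc a⁻¹ - l⁻¹ • ∑ i ∈ Finset.range n, g ^ i
        = a⁻¹ * 1 - (a⁻¹ * a) * (l⁻¹ • ∑ i ∈ Finset.range n, g ^ i) := by rw [h3, mul_one, one_mul]
      _ = a⁻¹ * (1 - a * (l⁻¹ • ∑ i ∈ Finset.range n, g ^ i)) := by ring
      _ = a⁻¹ * g ^ n := by rw [h1]; ring
  rw [h2]
  exact le_trans (PowerSeries.le_order_pow_of_constantCoeff_eq_zero n hg0)
    (le_trans le_add_self (PowerSeries.le_order_mul _ _))

theorem isUnit_iff (hcl : Closed A) (a : ↥A) :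
    IsUnit a ↔ PowerSeries.constantCoeff (a : PowerSeries k) ≠ 0 := by
  constructor
  · intro h
    have h1 : IsUnit (a : PowerSeries k) := h.map A.val
    have h2 := PowerSeries.isUnit_iff_constantCoeff.1 h1
    exact h2.ne_zero
  · intro h
    have hb := inv_mem hcl a.2 h
    refine IsUnit.of_mul_eq_one ⟨(a : PowerSeries k)⁻¹, hb⟩ ?_
    apply Subtype.ext
    exact PowerSeries.mul_inv_cancel _ h

theorem isLocalRing (hcl : Closed A) : IsLocalRing ↥A := by
  apply IsLocalRing.of_nonunits_add
  intro a b ha hb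
  rw [mem_nonunits_iff, isUnit_iff hcl, not_not] at ha hb ⊢
  rw [Subalgebra.coe_add, map_add, ha, hb, add_zero]

variable (A) in
/-- the series of order at least `m`, as an `A`-submodule -/
def ordGE (m : ℕ) : Submodule ↥A (PowerSeries k) where
  carrier := {f | (m : ℕ∞) ≤ PowerSeries.order f}
  add_mem' := fun ha hb => le_trans (le_min ha hb) (PowerSeries.min_order_le_order_add _ _)
  zero_mem' := by
    change (m : ℕ∞) ≤ PowerSeries.order (0 : PowerSeries k)
    rw [PowerSeries.order_zero]
    exact le_top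
  smul_mem' := fun a f hf => by
    change (m : ℕ∞) ≤ PowerSeries.order ((a : PowerSeries k) * f)
    exact le_trans (le_trans hf le_add_self) (PowerSeries.le_order_mul _ _)

theorem mem_ordGE (m : ℕ) (f : PowerSeries k) :
    f ∈ ordGE A m ↔ (m : ℕ∞) ≤ PowerSeries.order f := Iff.rfl

theorem mem_ordGE_iff_dvd (m : ℕ) (f : PowerSeries k) :
    f ∈ ordGE A m ↔ (PowerSeries.X : PowerSeries k) ^ m ∣ f := by
  rw [PowerSeries.X_pow_dvd_iff, mem_ordGE]
  constructor
  · intro h i hi
    exact PowerSeries.coeff_of_lt_order i (lt_of_lt_of_le (by exact_mod_cast hi) h)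
  · intro h
    exact PowerSeries.nat_le_order f m h

theorem ordGE_fg [Module.Finite ↥A (PowerSeries k)] (m : ℕ) : (ordGE A m).FG := by
  have h : ordGE A m = (⊤ : Submodule ↥A (PowerSeries k)).map
      (LinearMap.mulLeft ↥A ((PowerSeries.X : PowerSeries k) ^ m)) := by
    ext f
    rw [mem_ordGE_iff_dvd, Submodule.mem_map]
    constructor
    · rintro ⟨g, rfl⟩
      exact ⟨g, Submodule.mem_top, rfl⟩
    · rintro ⟨g, -, rfl⟩
      exact ⟨g, rfl⟩
  rw [h]
  exact Module.Finite.fg_top.map _

/-- the first `m` coefficients -/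
noncomputable def coeffs (k : Type u) [Field k] (m : ℕ) : PowerSeries k →ₗ[k] (Fin m → k) :=
  LinearMap.pi fun i => PowerSeries.coeff (R := k) (i : ℕ)

theorem finite_quot_ordGE (m : ℕ) : Module.Finite k (PowerSeries k ⧸ ordGE A m) := by
  have hle : (ordGE A m).restrictScalars k ≤ LinearMap.ker (coeffs k m) := by
    intro f hf
    rw [LinearMap.mem_ker]
    funext i
    exact PowerSeries.coeff_of_lt_order i
      (lt_of_lt_of_le (by exact_mod_cast i.2) ((mem_ordGE (A := A) m f).1 hf))
  let τ : (PowerSeries k ⧸ (ordGE A m).restrictScalars k) →ₗ[k] (Fin m → k) :=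
    ((ordGE A m).restrictScalars k).liftQ (coeffs k m) hle
  have hτ : Function.Injective τ := by
    rw [← LinearMap.ker_eq_bot, Submodule.ker_liftQ_eq_bot']
    apply le_antisymm hle
    intro f hf
    rw [LinearMap.mem_ker] at hf
    change (m : ℕ∞) ≤ PowerSeries.order f
    apply PowerSeries.nat_le_order
    intro i hi
    exact congrFun hf ⟨i, hi⟩
  have h1 : Module.Finite k (PowerSeries k ⧸ (ordGE A m).restrictScalars k) :=
    Module.Finite.of_injective τ hτ
  exact Module.Finite.equiv (Submodule.Quotient.restrictScalarsEquiv k (ordGE A m))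

theorem isNoetherian_powerSeries [Module.Finite ↥A (PowerSeries k)] {c : ℕ} (hC : HasCond A c) :
    IsNoetherian ↥A (PowerSeries k) := by
  refine ⟨fun N => ?_⟩
  by_cases hN : N = ⊥
  · rw [hN]
    exact Submodule.fg_bot
  obtain ⟨f, hfN, hf0⟩ := Submodule.exists_mem_ne_zero_of_ne_bot hN
  set n := (PowerSeries.order f).toNat with hn
  have hle : ordGE A (n + c) ≤ N := by
    intro h hh
    rw [mem_ordGE_iff_dvd] at hh
    obtain ⟨h', rfl⟩ := hh
    have hu : IsUnit (PowerSeries.divXPowOrder f) := by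
      rw [PowerSeries.isUnit_iff_constantCoeff, PowerSeries.constantCoeff_divXPowOrder]
      exact (PowerSeries.coeff_order hf0).isUnit
    obtain ⟨v, hv⟩ := hu.exists_right_inv
    have hf : f = PowerSeries.X ^ n * PowerSeries.divXPowOrder f :=
      PowerSeries.X_pow_order_mul_divXPowOrder.symm
    have hmem : PowerSeries.X ^ c * (v * h') ∈ A := by
      apply hC
      rw [PowerSeries.order_mul, PowerSeries.order_X_pow]
      exact le_self_add
    have : PowerSeries.X ^ (n + c) * h' =
        (⟨PowerSeries.X ^ c * (v * h'), hmem⟩ : ↥A) • f := by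
      change _ = (PowerSeries.X ^ c * (v * h')) * f
      conv_rhs => rw [hf]
      calc PowerSeries.X ^ (n + c) * h'
          = PowerSeries.X ^ n * PowerSeries.X ^ c * (PowerSeries.divXPowOrder f * v) * h' := by
            rw [hv, mul_one, pow_add]
        _ = _ := by ring
    rw [this]
    exact N.smul_mem _ hfN
  have := finite_quot_ordGE (A := A) (n + c)
  have hNoeth : IsNoetherian ↥A (PowerSeries k ⧸ ordGE A (n + c)) :=
    isNoetherian_of_tower k inferInstance
  apply Submodule.fg_of_fg_map_of_fg_inf_ker (ordGE A (n + c)).mkQ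
  · exact IsNoetherian.noetherian _
  · rw [Submodule.ker_mkQ, inf_eq_right.2 hle]
    exact ordGE_fg _

theorem isNoetherianRing [Module.Finite ↥A (PowerSeries k)] {c : ℕ} (hC : HasCond A c) :
    IsNoetherianRing ↥A := by
  have := isNoetherian_powerSeries hC
  exact isNoetherian_of_injective (Algebra.linearMap ↥A (PowerSeries k)) Subtype.val_injective

theorem ringKrullDim_eq_one [Module.Finite ↥A (PowerSeries k)] : ringKrullDim ↥A = 1 := by
  have : Algebra.IsIntegral ↥A (PowerSeries k) := Algebra.IsIntegral.of_finite _ _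
  rw [Groth.Agent.Lib.Helper12.ringKrullDim_eq_of_isIntegral_of_injective ↥A (PowerSeries k)
    Subtype.val_injective]
  exact IsDiscreteValuationRing.ringKrullDim_eq_one _

end Groth.Agent.Lib.Helper16.ValSemi
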