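import Groth.Agent.Lib.Helper16.ValSemi1
import Groth.Agent.Lib.Helper16.CanId6

/-!
# Counting lengths by value sets for submodules of k[[t]] over a subalgebra (helper16)
-/

set_option autoImplicit false
universe u
open PowerSeries

namespace Groth.Agent.Lib.Helper16.ValSemi

open Groth.Agent.Lib.Helper16.CanId

section relLenMap

variable {R : Type u} [CommRing R] {M M' : Type u} [AddCommGroup M] [Module R M]
  [AddCommGroup M'] [Module R M']

theorem relLen_map_of_injective (ι : M →ₗ[R] M') (hι : Function.Injective ι)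
    (J I : Submodule R M) : relLen (J.map ι) (I.map ι) = relLen J I := by
  let e : ↥I ≃ₗ[R] ↥(I.map ι) := Submodule.equivMapOfInjective ι hι I
  have h : (J.submoduleOf I).map (e : ↥I →ₗ[R] ↥(I.map ι)) =
      (J.map ι).submoduleOf (I.map ι) := by
    ext z
    constructor
    · rintro ⟨y, hy, rfl⟩
      exact ⟨y.1, hy, rfl⟩
    · rintro ⟨a, ha, haz⟩
      obtain ⟨b, hb, hbz⟩ := z.2
      have hab : a = b := hι (haz.trans hbz.symm)
      refine ⟨⟨a, hab ▸ hb⟩, ha, Subtype.ext haz⟩
  exact (Submodule.Quotient.equiv _ _ e h).length_eq.symm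

end relLenMap

section counting

variable {k : Type u} [Field k] {A : Subalgebra k (PowerSeries k)}

/-- the value set of an `A`-submodule of `k[[t]]` -/
def vset (J : Submodule ↥A (PowerSeries k)) : Set ℕ :=
  {n | ∃ f ∈ J, PowerSeries.order f = n}

theorem ordGE_anti {m n : ℕ} (h : m ≤ n) : ordGE A n ≤ ordGE A m := by
  intro f hf
  exact le_trans (by exact_mod_cast h) ((mem_ordGE n f).1 hf)

theorem ordGE_zero : ordGE A 0 = ⊤ := by
  rw [eq_top_iff]
  intro f _
  rw [mem_ordGE]
  exact bot_le

theorem relLen_step_of_notMem (J : Submodule ↥A (PowerSeries k)) (n : ℕ) (hn : n ∉ vset J) :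
    relLen (J ⊓ ordGE A (n + 1)) (J ⊓ ordGE A n) = 0 := by
  have h : J ⊓ ordGE A (n + 1) = J ⊓ ordGE A n := by
    apply le_antisymm (inf_le_inf_left _ (ordGE_anti (Nat.le_succ n)))
    rintro f ⟨hfJ, hf⟩
    refine ⟨hfJ, ?_⟩
    rw [SetLike.mem_coe, mem_ordGE] at hf ⊢
    have hne : PowerSeries.order f ≠ n := fun h => hn ⟨f, hfJ, h⟩
    have hlt : (n : ℕ∞) < PowerSeries.order f := lt_of_le_of_ne hf (Ne.symm hne)
    have h1 := Order.add_one_le_of_lt hlt
    exact_mod_cast h1
  rw [h, relLen_self]

theorem relLen_step_of_mem (J : Submodule ↥A (PowerSeries k)) (n : ℕ) (hn : n ∈ vset J) :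
    relLen (J ⊓ ordGE A (n + 1)) (J ⊓ ordGE A n) = 1 := by
  obtain ⟨f, hfJ, hf⟩ := hn
  rw [relLen, Module.length_eq_one_iff, isSimpleModule_iff_toSpanSingleton_surjective]
  have hfmem : f ∈ J ⊓ ordGE A n := ⟨hfJ, by rw [SetLike.mem_coe, mem_ordGE, hf]⟩
  have key : ∀ g : ↥(J ⊓ ordGE A n),
      g ∈ (J ⊓ ordGE A (n + 1)).submoduleOf (J ⊓ ordGE A n) ↔
        PowerSeries.coeff n (g : PowerSeries k) = 0 := by
    intro g
    change (g : PowerSeries k) ∈ J ⊓ ordGE A (n + 1) ↔ _
    constructor
    · rintro ⟨-, hg⟩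
      rw [SetLike.mem_coe, mem_ordGE] at hg
      exact PowerSeries.coeff_of_lt_order n (lt_of_lt_of_le (by exact_mod_cast Nat.lt_succ_self n) hg)
    · intro hg
      refine ⟨g.2.1, ?_⟩
      rw [SetLike.mem_coe, mem_ordGE]
      apply PowerSeries.nat_le_order
      intro i hi
      rcases Nat.lt_succ_iff_lt_or_eq.1 hi with h | h
      · exact PowerSeries.coeff_of_lt_order i (lt_of_lt_of_le (by exact_mod_cast h)
          ((mem_ordGE n _).1 g.2.2))
      · rw [h]
        exact hg
  have hcoef : ∀ g : PowerSeries k, PowerSeries.order g = n → PowerSeries.coeff n g ≠ 0 := by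
    intro g hg
    have hg0 : g ≠ 0 := by
      rintro rfl
      rw [PowerSeries.order_zero] at hg
      exact ENat.top_ne_coe _ hg
    have := PowerSeries.coeff_order hg0
    rwa [hg, ENat.toNat_coe] at this
  refine ⟨⟨⟨Submodule.Quotient.mk ⟨f, hfmem⟩, 0, ?_⟩⟩, ?_⟩
  · intro h0
    rw [Submodule.Quotient.mk_eq_zero, key] at h0
    exact hcoef f hf h0
  · intro x hx y
    obtain ⟨g, rfl⟩ := Submodule.mkQ_surjective _ x
    obtain ⟨h, rfl⟩ := Submodule.mkQ_surjective _ y
    have hg : PowerSeries.coeff n (g : PowerSeries k) ≠ 0 := by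
      intro h0
      apply hx
      rw [Submodule.mkQ_apply, Submodule.Quotient.mk_eq_zero, key]
      exact h0
    refine ⟨algebraMap k ↥A (PowerSeries.coeff n (h : PowerSeries k) /
      PowerSeries.coeff n (g : PowerSeries k)), ?_⟩
    rw [LinearMap.toSpanSingleton_apply, Submodule.mkQ_apply, Submodule.mkQ_apply,
      ← Submodule.Quotient.mk_smul, Submodule.Quotient.eq, key]
    rw [Submodule.coe_sub, Submodule.coe_smul, map_sub]
    have : (algebraMap k ↥A (PowerSeries.coeff n (h : PowerSeries k) /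
        PowerSeries.coeff n (g : PowerSeries k))) • (g : PowerSeries k) =
        (PowerSeries.coeff n (h : PowerSeries k) / PowerSeries.coeff n (g : PowerSeries k)) •
          (g : PowerSeries k) := algebraMap_smul ↥A _ _
    rw [this, PowerSeries.coeff_smul, smul_eq_mul, div_mul_cancel₀ _ hg, sub_self]

open Classical in
/-- the number of values of `J` below `c` -/
noncomputable def cnt (J : Submodule ↥A (PowerSeries k)) (c : ℕ) : ℕ :=
  ((Finset.range c).filter (fun n => n ∈ vset J)).card

open Classical in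
theorem cnt_succ (J : Submodule ↥A (PowerSeries k)) (c : ℕ) :
    cnt J (c + 1) = cnt J c + (if c ∈ vset J then 1 else 0) := by
  rw [cnt, cnt, Finset.range_add_one, Finset.filter_insert]
  split_ifs with h
  · rw [Finset.card_insert_of_notMem]
    intro h'
    exact (Finset.mem_range.1 (Finset.mem_filter.1 h').1).false
  · rfl

theorem relLen_inf_ordGE (J : Submodule ↥A (PowerSeries k)) (c : ℕ) :
    relLen (J ⊓ ordGE A c) J = (cnt J c : ℕ∞) := by
  induction c with
  | zero =>
    rw [ordGE_zero, inf_top_eq, relLen_self]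
    simp [cnt]
  | succ c ih =>
    rw [relLen_add (B := J ⊓ ordGE A c) (inf_le_inf_left _ (ordGE_anti (Nat.le_succ c)))
      inf_le_left, ih, cnt_succ]
    by_cases h : c ∈ vset J
    · rw [relLen_step_of_mem J c h, if_pos h, add_comm]
      push_cast
      rfl
    · rw [relLen_step_of_notMem J c h, if_neg h, zero_add, add_zero]

open Classical in
theorem cnt_top (c : ℕ) : cnt (⊤ : Submodule ↥A (PowerSeries k)) c = c := by
  rw [cnt, Finset.filter_true_of_mem, Finset.card_range]
  intro n _
  exact ⟨PowerSeries.X ^ n, Submodule.mem_top, PowerSeries.order_X_pow n⟩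

end counting

end Groth.Agent.Lib.Helper16.ValSemi
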