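import Groth.Agent.Lib.Helper16.ValSemi2

/-!
# Value sets of colons into a canonical ideal for subalgebras of k[[t]] (helper16)
-/

set_option autoImplicit false
universe u
open PowerSeries CategoryTheory Abelian

namespace Groth.Agent.Lib.Helper16.ValSemi

open Groth.Agent.Lib.Helper16.CanId Groth.Agent.Lib.Helper16

section fracField

variable {k : Type u} [Field k] {A : Subalgebra k (PowerSeries k)}
  {K : Type u} [Field K] [Algebra (PowerSeries k) K] [IsFractionRing (PowerSeries k) K]

omit [IsFractionRing (PowerSeries k) K] in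
theorem algebraMap_eq (a : ↥A) :
    algebraMap ↥A K a = algebraMap (PowerSeries k) K (a : PowerSeries k) :=
  IsScalarTower.algebraMap_apply ↥A (PowerSeries k) K a

theorem X_pow_mul_mem {c : ℕ} (hC : HasCond A c) (p : PowerSeries k) :
    (PowerSeries.X : PowerSeries k) ^ c * p ∈ A := by
  apply hC
  rw [PowerSeries.order_mul, PowerSeries.order_X_pow]
  exact le_self_add

theorem isFractionRing {c : ℕ} (hC : HasCond A c) : IsFractionRing ↥A K := by
  rw [IsFractionRing, isLocalization_iff]
  refine ⟨?_, ?_, ?_⟩
  · intro y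
    apply IsUnit.mk0
    rw [algebraMap_eq]
    intro h
    have h1 := (IsFractionRing.injective (PowerSeries k) K) (h.trans (map_zero _).symm)
    exact nonZeroDivisors.coe_ne_zero y (Subtype.ext h1)
  · intro z
    obtain ⟨p, q, hq, rfl⟩ := IsFractionRing.div_surjective (A := PowerSeries k) z
    have hq0 : q ≠ 0 := nonZeroDivisors.ne_zero hq
    have hXq : (PowerSeries.X : PowerSeries k) ^ c * q ≠ 0 :=
      mul_ne_zero (pow_ne_zero c PowerSeries.X_ne_zero) hq0
    have hmem : (⟨PowerSeries.X ^ c * q, X_pow_mul_mem hC q⟩ : ↥A) ∈ nonZeroDivisors ↥A :=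
      mem_nonZeroDivisors_of_ne_zero (fun h => hXq (congrArg Subtype.val h))
    refine ⟨(⟨PowerSeries.X ^ c * p, X_pow_mul_mem hC p⟩,
      ⟨⟨PowerSeries.X ^ c * q, X_pow_mul_mem hC q⟩, hmem⟩), ?_⟩
    have hqK : algebraMap (PowerSeries k) K q ≠ 0 := by
      intro h
      exact hq0 ((IsFractionRing.injective (PowerSeries k) K) (h.trans (map_zero _).symm))
    rw [algebraMap_eq, algebraMap_eq]
    change algebraMap (PowerSeries k) K p / algebraMap (PowerSeries k) K q *
      algebraMap (PowerSeries k) K (PowerSeries.X ^ c * q) =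
      algebraMap (PowerSeries k) K (PowerSeries.X ^ c * p)
    rw [map_mul, map_mul]
    field_simp
  · intro x y h
    refine ⟨1, ?_⟩
    rw [algebraMap_eq, algebraMap_eq] at h
    have h1 := IsFractionRing.injective (PowerSeries k) K h
    rw [Subtype.ext h1]

variable (A K) in
/-- the inclusion `k[[t]] → K` as an `A`-linear map -/
noncomputable def iota : PowerSeries k →ₗ[↥A] K :=
  (IsScalarTower.toAlgHom ↥A (PowerSeries k) K).toLinearMap

omit [IsFractionRing (PowerSeries k) K] in
theorem iota_apply (f : PowerSeries k) : iota A K f = algebraMap (PowerSeries k) K f := rfl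

theorem iota_injective : Function.Injective (iota A K) :=
  IsFractionRing.injective (PowerSeries k) K

/-- the colon `(ω : M)` inside `k[[t]]` -/
def colon (ω M : Submodule ↥A (PowerSeries k)) : Submodule ↥A (PowerSeries k) where
  carrier := {u | ∀ m ∈ M, u * m ∈ ω}
  add_mem' := fun ha hb m hm => by
    rw [add_mul]
    exact ω.add_mem (ha m hm) (hb m hm)
  zero_mem' := fun m _ => by
    rw [zero_mul]
    exact ω.zero_mem
  smul_mem' := fun a u hu m hm => by
    rw [smul_mul_assoc]
    exact ω.smul_mem a (hu m hm)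

theorem mem_colon {ω M : Submodule ↥A (PowerSeries k)} {u : PowerSeries k} :
    u ∈ colon ω M ↔ ∀ m ∈ M, u * m ∈ ω := Iff.rfl

omit [IsFractionRing (PowerSeries k) K] in
theorem map_one_eq : (1 : Submodule ↥A (PowerSeries k)).map (iota A K) = 1 :=
  Submodule.map_one (IsScalarTower.toAlgHom ↥A (PowerSeries k) K)

theorem div_map_eq (ω M : Submodule ↥A (PowerSeries k)) (hM1 : (1 : PowerSeries k) ∈ M) :
    (ω.map (iota A K)) / (M.map (iota A K)) = (colon ω M).map (iota A K) := by
  ext x
  rw [Submodule.mem_div_iff_forall_mul_mem]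
  constructor
  · intro hx
    have h1 := hx (iota A K 1) (Submodule.mem_map_of_mem hM1)
    rw [iota_apply, map_one, mul_one] at h1
    obtain ⟨u, hu, rfl⟩ := h1
    refine ⟨u, ?_, rfl⟩
    intro m hm
    have h2 := hx (iota A K m) (Submodule.mem_map_of_mem hm)
    rw [iota_apply, iota_apply, ← map_mul] at h2
    obtain ⟨w, hw, hwe⟩ := h2
    have h3 : w = u * m := iota_injective (A := A) (K := K) hwe
    rw [← h3]
    exact hw
  · rintro ⟨u, hu, rfl⟩ y ⟨m, hm, rfl⟩
    rw [iota_apply, iota_apply, ← map_mul]
    exact Submodule.mem_map_of_mem (hu m hm)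

omit [IsFractionRing (PowerSeries k) K] in
theorem isFrac_top {c : ℕ} (hC : HasCond A c) (hinj : Function.Injective (algebraMap (PowerSeries k) K)) :
    IsFrac ((⊤ : Submodule ↥A (PowerSeries k)).map (iota A K)) := by
  refine ⟨algebraMap (PowerSeries k) K (PowerSeries.X ^ c), ?_, ?_⟩
  · intro h
    have h1 := hinj (h.trans (map_zero _).symm)
    exact pow_ne_zero c PowerSeries.X_ne_zero h1
  · rw [Submodule.mem_div_iff_forall_mul_mem]
    rintro y ⟨p, -, rfl⟩
    rw [iota_apply, ← map_mul, Submodule.mem_one]
    exact ⟨⟨PowerSeries.X ^ c * p, X_pow_mul_mem hC p⟩, algebraMap_eq _⟩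

theorem mem_of_mem_subalgebra {ω : Submodule ↥A (PowerSeries k)} (hω1 : (1 : PowerSeries k) ∈ ω)
    {f : PowerSeries k} (hf : f ∈ A) : f ∈ ω := by
  have h := ω.smul_mem (⟨f, hf⟩ : ↥A) hω1
  have h2 : (⟨f, hf⟩ : ↥A) • (1 : PowerSeries k) = f := mul_one f
  rwa [h2] at h

end fracField

section canonical

variable {k : Type u} [Field k] {A : Subalgebra k (PowerSeries k)}
  {K : Type u} [Field K] [Algebra (PowerSeries k) K] [IsFractionRing (PowerSeries k) K]
  [IsLocalRing ↥A] [IsNoetherianRing ↥A] [IsFractionRing ↥A K]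

theorem isCan_map (ω : Submodule ↥A (PowerSeries k)) (hω1 : (1 : PowerSeries k) ∈ ω)
    (hωfg : ω.FG) (hinj : HasInjectiveDimensionLT (ModuleCat.of ↥A ↥ω) 2) :
    IsCan (ω.map (iota A K)) where
  ne_bot := by
    intro h
    have h1 : iota A K 1 ∈ ω.map (iota A K) := Submodule.mem_map_of_mem hω1
    rw [h, Submodule.mem_bot, iota_apply, map_one] at h1
    exact one_ne_zero h1
  fg := hωfg.map _
  ext2 := fun X => by
    have h1 : Subsingleton (Ext.{u} X (ModuleCat.of ↥A ↥ω) 2) :=
      HasInjectiveDimensionLT.subsingleton _ 2 2 le_rfl X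
    let e : ↥ω ≃ₗ[↥A] ↥(ω.map (iota A K)) :=
      Submodule.equivMapOfInjective _ (iota_injective (A := A) (K := K)) ω
    let i : ModuleCat.of ↥A ↥ω ≅ ModuleCat.of ↥A ↥(ω.map (iota A K)) := e.toModuleIso
    exact (GorOver.postEquiv X i 2).symm.toEquiv.subsingleton

variable (hdim : ringKrullDim ↥A = 1) {c : ℕ} (hC : HasCond A c)
  (hcond : ∀ f : PowerSeries k, (∀ g : PowerSeries k, g * f ∈ A) → (c : ℕ∞) ≤ PowerSeries.order f)
  {ω : Submodule ↥A (PowerSeries k)} (hω1 : (1 : PowerSeries k) ∈ ω)
  (hcan : IsCan (ω.map (iota A K)))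

include hdim hC hcond hω1 hcan

theorem colon_top_eq : colon ω ⊤ = ordGE A c := by
  apply le_antisymm
  · intro u hu
    rw [mem_ordGE]
    apply hcond
    intro g
    have h1 : iota A K (g * u) ∈ ω.map (iota A K) / ω.map (iota A K) := by
      rw [Submodule.mem_div_iff_forall_mul_mem]
      rintro y ⟨w, hw, rfl⟩
      rw [iota_apply, iota_apply, ← map_mul]
      refine Submodule.mem_map_of_mem ?_
      have h2 := hu (g * w) Submodule.mem_top
      have h3 : g * u * w = u * (g * w) := by ring
      rw [h3]
      exact h2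
    rw [hcan.div_self hdim, Submodule.mem_one] at h1
    obtain ⟨a, ha⟩ := h1
    rw [algebraMap_eq, iota_apply] at ha
    have h4 := IsFractionRing.injective (PowerSeries k) K ha
    rw [← h4]
    exact a.2
  · intro f hf m _
    apply mem_of_mem_subalgebra hω1
    apply hC
    exact le_trans (le_trans ((mem_ordGE c f).1 hf) le_self_add) (PowerSeries.le_order_mul _ _)

theorem notMem_vset (hc0 : c ≠ 0) : c - 1 ∉ vset ω := by
  rintro ⟨f, hf, hord⟩
  have hmem : f ∈ colon ω ⊤ := by
    intro p _
    have h1 : f * p = (PowerSeries.constantCoeff p) • f +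
        f * (p - PowerSeries.C (PowerSeries.constantCoeff p)) := by
      rw [PowerSeries.smul_eq_C_mul]
      ring
    rw [h1]
    apply ω.add_mem
    · have h2 := ω.smul_mem (algebraMap k ↥A (PowerSeries.constantCoeff p)) hf
      rwa [algebraMap_smul] at h2
    · apply mem_of_mem_subalgebra hω1
      apply hC
      have h3 : (1 : ℕ∞) ≤ PowerSeries.order (p - PowerSeries.C (PowerSeries.constantCoeff p)) := by
        rw [PowerSeries.one_le_order_iff_constCoeff_eq_zero, map_sub, PowerSeries.constantCoeff_C,
          sub_self]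
      rw [PowerSeries.order_mul, hord]
      have h4 : ((c - 1 : ℕ) : ℕ∞) + 1 = c := by
        have : c - 1 + 1 = c := Nat.sub_add_cancel (Nat.one_le_iff_ne_zero.2 hc0)
        exact_mod_cast this
      rw [← h4]
      exact add_le_add (le_refl _) h3
  rw [colon_top_eq hdim hC hcond hω1 hcan, mem_ordGE, hord] at hmem
  have : c ≤ c - 1 := by exact_mod_cast hmem
  omega

theorem cnt_add (M : Submodule ↥A (PowerSeries k)) (hM1 : (1 : PowerSeries k) ∈ M) :
    cnt M c + cnt (colon ω M) c = c := by
  have hJI : M.map (iota A K) ≤ (⊤ : Submodule ↥A (PowerSeries k)).map (iota A K) :=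
    Submodule.map_mono le_top
  have hJ0 : M.map (iota A K) ≠ ⊥ := by
    intro h
    have h1 : iota A K 1 ∈ M.map (iota A K) := Submodule.mem_map_of_mem hM1
    rw [h, Submodule.mem_bot, iota_apply, map_one] at h1
    exact one_ne_zero h1
  have hI := isFrac_top (K := K) hC (IsFractionRing.injective (PowerSeries k) K)
  have h1 := hcan.relLen_div hdim hJI hJ0 hI
  rw [div_map_eq ω ⊤ Submodule.mem_top, div_map_eq ω M hM1,
    relLen_map_of_injective _ (iota_injective (A := A) (K := K)),
    relLen_map_of_injective _ (iota_injective (A := A) (K := K)),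
    colon_top_eq hdim hC hcond hω1 hcan] at h1
  have hle1 : ordGE A c ≤ colon ω M := by
    intro f hf m _
    apply mem_of_mem_subalgebra hω1
    apply hC
    exact le_trans (le_trans ((mem_ordGE c f).1 hf) le_self_add) (PowerSeries.le_order_mul _ _)
  have hle2 : ordGE A c ≤ M := fun f hf => mem_of_mem_subalgebra hM1 (hC f hf)
  have h2 := relLen_inf_ordGE (colon ω M) c
  rw [inf_eq_right.2 hle1] at h2
  have h3 := relLen_inf_ordGE M c
  rw [inf_eq_right.2 hle2] at h3
  have h4 := relLen_inf_ordGE (⊤ : Submodule ↥A (PowerSeries k)) c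
  rw [inf_eq_right.2 le_top, cnt_top] at h4
  have h5 := relLen_add hle2 (le_top : M ≤ ⊤)
  rw [h4, h3, ← h1, h2] at h5
  exact_mod_cast h5.symm

open Classical in
theorem main (hc0 : c ≠ 0) (M : Submodule ↥A (PowerSeries k)) (hM1 : (1 : PowerSeries k) ∈ M)
    (n : ℕ) :
    (∃ u : PowerSeries k, PowerSeries.order u = n ∧ ∀ m ∈ M, u * m ∈ ω) ↔
      (c ≤ n ∨ ¬ ∃ m ∈ M, PowerSeries.order m = ((c - 1 - n : ℕ) : ℕ∞)) := by
  have hnot := notMem_vset hdim hC hcond hω1 hcan hc0
  have hfwd : ∀ n : ℕ, n ∈ vset (colon ω M) → n < c → c - 1 - n ∉ vset M := by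
    rintro n ⟨u, hu, hun⟩ hn ⟨m, hm, hmo⟩
    apply hnot
    refine ⟨u * m, hu m hm, ?_⟩
    rw [PowerSeries.order_mul, hun, hmo]
    have : n + (c - 1 - n) = c - 1 := by omega
    exact_mod_cast this
  constructor
  · rintro ⟨u, hun, hu⟩
    by_cases hcn : c ≤ n
    · exact Or.inl hcn
    · right
      rintro ⟨m, hm, hmo⟩
      exact hfwd n ⟨u, hu, hun⟩ (not_le.1 hcn) ⟨m, hm, hmo⟩
  · rintro (hcn | hno)
    · refine ⟨PowerSeries.X ^ n, PowerSeries.order_X_pow n, fun m _ => ?_⟩
      apply mem_of_mem_subalgebra hω1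
      apply hC
      rw [PowerSeries.order_mul, PowerSeries.order_X_pow]
      exact le_trans (by exact_mod_cast hcn) le_self_add
    · by_cases hcn : c ≤ n
      · refine ⟨PowerSeries.X ^ n, PowerSeries.order_X_pow n, fun m _ => ?_⟩
        apply mem_of_mem_subalgebra hω1
        apply hC
        rw [PowerSeries.order_mul, PowerSeries.order_X_pow]
        exact le_trans (by exact_mod_cast hcn) le_self_add
      · have hn : n < c := not_le.1 hcn
        have hno' : c - 1 - n ∉ vset M := fun ⟨m, hm, hmo⟩ => hno ⟨m, hm, hmo⟩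
        set S1 := (Finset.range c).filter (fun n => n ∈ vset (colon ω M)) with hS1
        set S2 := (Finset.range c).filter (fun n => c - 1 - n ∉ vset M) with hS2
        set T := (Finset.range c).filter (fun n => ¬ n ∈ vset M) with hT
        have hsub : S1 ⊆ S2 := by
          intro j hj
          rw [hS1, Finset.mem_filter] at hj
          rw [hS2, Finset.mem_filter]
          exact ⟨hj.1, hfwd j hj.2 (Finset.mem_range.1 hj.1)⟩
        have hcard2 : S2.card = T.card := by
          apply Finset.card_nbij' (fun j => c - 1 - j) (fun j => c - 1 - j)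
          · intro j hj
            rw [hS2, Finset.coe_filter] at hj
            rw [hT, Finset.coe_filter]
            have hjc := Finset.mem_range.1 hj.1
            exact ⟨Finset.mem_range.2 (show c - 1 - j < c by omega), hj.2⟩
          · intro j hj
            rw [hT, Finset.coe_filter] at hj
            rw [hS2, Finset.coe_filter]
            have hjc := Finset.mem_range.1 hj.1
            refine ⟨Finset.mem_range.2 (show c - 1 - j < c by omega), ?_⟩
            have : c - 1 - (c - 1 - j) = j := by omega
            change c - 1 - (c - 1 - j) ∉ vset M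
            rw [this]
            exact hj.2
          · intro j hj
            rw [hS2, Finset.coe_filter] at hj
            have hjc := Finset.mem_range.1 hj.1
            change c - 1 - (c - 1 - j) = j
            omega
          · intro j hj
            rw [hT, Finset.coe_filter] at hj
            have hjc := Finset.mem_range.1 hj.1
            change c - 1 - (c - 1 - j) = j
            omega
        have hTc : cnt M c + T.card = c := by
          have := Finset.card_filter_add_card_filter_not (s := Finset.range c)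
            (fun n => n ∈ vset M)
          rw [Finset.card_range] at this
          exact this
        have hadd := cnt_add hdim hC hcond hω1 hcan M hM1
        have hS1c : S1.card = cnt (colon ω M) c := rfl
        have heq : S1 = S2 := by
          apply Finset.eq_of_subset_of_card_le hsub
          rw [hcard2, hS1c]
          omega
        have hnS2 : n ∈ S2 := by
          rw [hS2, Finset.mem_filter]
          exact ⟨Finset.mem_range.2 hn, hno'⟩
        rw [← heq, hS1, Finset.mem_filter] at hnS2
        obtain ⟨u, hu, hun⟩ := hnS2.2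
        exact ⟨u, hun, hu⟩

end canonical

end Groth.Agent.Lib.Helper16.ValSemi
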