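import Groth.Agent.Lib.Helper16.ValSemi3

/-!
# Value set of a canonical ideal of a subalgebra of k[[t]] and of its colons (helper16)
-/

set_option autoImplicit false
universe u
open PowerSeries CategoryTheory Abelian

namespace Groth.Agent.Lib.Helper16.ValSemi

open Groth.Agent.Lib.Helper16.CanId Groth.Agent.Lib.Helper16

theorem main' {k : Type u} [Field k] (A : Subalgebra k (PowerSeries k))
    (hA : Module.Finite ↥A (PowerSeries k)) (hcl : Closed A) (c : ℕ) (hc0 : c ≠ 0)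
    (hcond : ∀ f : PowerSeries k,
      (∀ g : PowerSeries k, g * f ∈ A) ↔ (c : ℕ∞) ≤ PowerSeries.order f)
    (ω : Submodule ↥A (PowerSeries k)) (hω1 : (1 : PowerSeries k) ∈ ω) (hωfg : ω.FG)
    (hωinj : HasInjectiveDimensionLT (ModuleCat.of ↥A ↥ω) 2)
    (M : Submodule ↥A (PowerSeries k)) (hM1 : (1 : PowerSeries k) ∈ M) (n : ℕ) :
    (∃ u : PowerSeries k, PowerSeries.order u = n ∧ ∀ m ∈ M, u * m ∈ ω) ↔
      (c ≤ n ∨ ¬ ∃ m ∈ M, PowerSeries.order m = ((c - 1 - n : ℕ) : ℕ∞)) := by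
  have hC : HasCond A c := fun f hf => by
    have := (hcond f).2 hf 1
    rwa [one_mul] at this
  have hloc : IsLocalRing ↥A := isLocalRing hcl
  have hnoeth : IsNoetherianRing ↥A := isNoetherianRing hC
  have hdim : ringKrullDim ↥A = 1 := ringKrullDim_eq_one
  have hfrac : IsFractionRing ↥A (FractionRing (PowerSeries k)) := isFractionRing hC
  have hcan := isCan_map (K := FractionRing (PowerSeries k)) ω hω1 hωfg hωinj
  exact main hdim hC (fun f hf => (hcond f).1 hf) hω1 hcan hc0 M hM1 n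

theorem main_one {k : Type u} [Field k] (A : Subalgebra k (PowerSeries k))
    (hA : Module.Finite ↥A (PowerSeries k)) (hcl : Closed A) (c : ℕ) (hc0 : c ≠ 0)
    (hcond : ∀ f : PowerSeries k,
      (∀ g : PowerSeries k, g * f ∈ A) ↔ (c : ℕ∞) ≤ PowerSeries.order f)
    (ω : Submodule ↥A (PowerSeries k)) (hω1 : (1 : PowerSeries k) ∈ ω) (hωfg : ω.FG)
    (hωinj : HasInjectiveDimensionLT (ModuleCat.of ↥A ↥ω) 2) (n : ℕ) :
    (∃ f ∈ ω, PowerSeries.order f = n) ↔
      (c ≤ n ∨ ¬ ∃ m ∈ A, PowerSeries.order m = ((c - 1 - n : ℕ) : ℕ∞)) := by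
  have h := main' A hA hcl c hc0 hcond ω hω1 hωfg hωinj (1 : Submodule ↥A (PowerSeries k))
    (Submodule.one_le.1 le_rfl) n
  have h1 : (∃ u : PowerSeries k, PowerSeries.order u = n ∧
      ∀ m ∈ (1 : Submodule ↥A (PowerSeries k)), u * m ∈ ω) ↔
      (∃ f ∈ ω, PowerSeries.order f = n) := by
    constructor
    · rintro ⟨u, hu, hum⟩
      refine ⟨u, ?_, hu⟩
      have := hum 1 (Submodule.one_le.1 le_rfl)
      rwa [mul_one] at this
    · rintro ⟨f, hf, hfo⟩
      refine ⟨f, hfo, fun m hm => ?_⟩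
      obtain ⟨a, rfl⟩ := Submodule.mem_one.1 hm
      have h2 := ω.smul_mem a hf
      have h3 : a • f = f * algebraMap ↥A (PowerSeries k) a := mul_comm _ _
      rwa [h3] at h2
  have h2 : (∃ m ∈ (1 : Submodule ↥A (PowerSeries k)),
      PowerSeries.order m = ((c - 1 - n : ℕ) : ℕ∞)) ↔
      (∃ m ∈ A, PowerSeries.order m = ((c - 1 - n : ℕ) : ℕ∞)) := by
    constructor
    · rintro ⟨m, hm, hmo⟩
      obtain ⟨a, rfl⟩ := Submodule.mem_one.1 hm
      exact ⟨a, a.2, hmo⟩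
    · rintro ⟨m, hm, hmo⟩
      exact ⟨m, Submodule.mem_one.2 ⟨⟨m, hm⟩, rfl⟩, hmo⟩
  rw [← h1, h, h2]

end Groth.Agent.Lib.Helper16.ValSemi
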