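import Mathlib
import Groth.Agent.Lib.Helper16.Vasconcelos

/-!
# Free summands of the conormal module and regular sequences (helper16)

Coset prime avoidance, the relative version QRG of QR, and the theorem main: a free direct
summand of the conormal module of an ideal of finite projective dimension in a Noetherian local
ring is generated by the classes of a regular sequence.
-/

set_option autoImplicit false
universe u

open CategoryTheory IsLocalRing Pointwise RingTheory.Sequence

namespace Groth.Agent.Lib.Helper16.Vasc2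

open Groth.Agent.Lib.Helper16.Vasc

section davis

variable {R : Type u} [CommRing R]

/-- coset form of prime avoidance -/
theorem exists_add_notMem_aux (J : Ideal R) :
    ∀ (n : ℕ) (s : Finset (Ideal R)), s.card = n → (∀ P ∈ s, P.IsPrime) → ∀ x : R,
      (∀ P ∈ s, ¬ (Ideal.span {x} ⊔ J ≤ P)) → ∃ z ∈ J, ∀ P ∈ s, x + z ∉ P := by
  classical
  intro n
  induction n with
  | zero =>
    intro s hs _ x _
    rw [Finset.card_eq_zero] at hs
    subst hs
    exact ⟨0, J.zero_mem, by simp⟩
  | succ n ih =>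
    intro s hs hprime x hx
    have hne : s.Nonempty := by
      rw [← Finset.card_pos]; omega
    obtain ⟨Q, hQs, hQmin⟩ := s.exists_minimal hne
    have hcard : (s.erase Q).card = n := by
      rw [Finset.card_erase_of_mem hQs]; omega
    obtain ⟨z', hz'J, hz'⟩ := ih (s.erase Q) hcard
      (fun P hP => hprime P (Finset.mem_of_mem_erase hP)) x
      (fun P hP => hx P (Finset.mem_of_mem_erase hP))
    by_cases hQ : x + z' ∈ Q
    · have hQp : Q.IsPrime := hprime Q hQs
      have hJQ : ¬ J ≤ Q := by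
        intro hJQ
        apply hx Q hQs
        rw [sup_le_iff, Ideal.span_le, Set.singleton_subset_iff]
        refine ⟨?_, hJQ⟩
        have : x = (x + z') - z' := by ring
        rw [this]
        exact Q.sub_mem hQ (hJQ hz'J)
      have hprod : ¬ (J * (s.erase Q).prod id ≤ Q) := by
        rw [hQp.mul_le, hQp.prod_le]
        rintro (h | ⟨P, hP, hPQ⟩)
        · exact hJQ h
        · have hPs := Finset.mem_of_mem_erase hP
          have hPne : P ≠ Q := Finset.ne_of_mem_erase hP
          exact hPne (le_antisymm hPQ (hQmin hPs hPQ))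
      obtain ⟨w, hw, hwQ⟩ := SetLike.not_le_iff_exists.mp hprod
      have hwJ : w ∈ J := Ideal.mul_le_left hw
      have hwP : ∀ P ∈ s.erase Q, w ∈ P := fun P hP =>
        (Ideal.prod_le_inf.trans (Finset.inf_le hP)) (Ideal.mul_le_right hw)
      refine ⟨z' + w, J.add_mem hz'J hwJ, ?_⟩
      intro P hP hmem
      by_cases hPQ : P = Q
      · subst hPQ
        apply hwQ
        have : w = (x + (z' + w)) - (x + z') := by ring
        rw [this]; exact P.sub_mem hmem hQ
      · have hP' : P ∈ s.erase Q := Finset.mem_erase.mpr ⟨hPQ, hP⟩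
        apply hz' P hP'
        have : x + z' = (x + (z' + w)) - w := by ring
        rw [this]; exact P.sub_mem hmem (hwP P hP')
    · refine ⟨z', hz'J, ?_⟩
      intro P hP
      by_cases hPQ : P = Q
      · subst hPQ; exact hQ
      · exact hz' P (Finset.mem_erase.mpr ⟨hPQ, hP⟩)

theorem exists_add_mem_nonZeroDivisors (R : Type u) [CommRing R] [IsLocalRing R]
    [IsNoetherianRing R] (I : Ideal R) (hI : I ≠ ⊥) (n : ℕ)
    (hpd : HasProjectiveDimensionLT (ModuleCat.of R I) (n + 1)) (x : R) :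
    ∃ z ∈ I ^ 2, x + z ∈ nonZeroDivisors R := by
  classical
  obtain ⟨z, hz, hzP⟩ := exists_add_notMem_aux (I ^ 2) _ (associatedPrimes.finite R R).toFinset rfl
    (fun P hP => ((Set.Finite.mem_toFinset _).mp hP).isPrime) x
    (fun P hP hle => by
      have hP' := (Set.Finite.mem_toFinset _).mp hP
      have : P.IsPrime := hP'.isPrime
      exact not_le_associatedPrime R I hI n hpd P hP'
        (Ideal.IsPrime.le_of_pow_le (le_sup_right.trans hle)))
  refine ⟨z, hz, ?_⟩
  by_contra hnz
  have h1 : x + z ∈ (nonZeroDivisors R : Set R)ᶜ := hnz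
  rw [← biUnion_associatedPrimes_eq_compl_nonZeroDivisors] at h1
  simp only [Set.mem_iUnion] at h1
  obtain ⟨P, hP, hmem⟩ := h1
  exact hzP P ((Set.Finite.mem_toFinset _).mpr hP) hmem

end davis

section QRG

variable {R : Type u} [CommRing R]

/-- `x` and `G` generate `I`, `I² ≤ G`, and `x` is independent modulo `G` -/
def QRG (I G : Ideal R) {r : ℕ} (x : Fin r → R) : Prop :=
  Ideal.span (Set.range x) ⊔ G = I ∧ I ^ 2 ≤ G ∧
    ∀ a : Fin r → R, ∑ i, a i * x i ∈ G → ∀ i, a i ∈ I

theorem QRG.mem {I G : Ideal R} {r : ℕ} {x : Fin r → R} (h : QRG I G x) (i : Fin r) :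
    x i ∈ I := by
  rw [← h.1]
  exact Ideal.mem_sup_left (Ideal.subset_span ⟨i, rfl⟩)

theorem QRG.le {I G : Ideal R} {r : ℕ} {x : Fin r → R} (h : QRG I G x) : G ≤ I := by
  rw [← h.1]; exact le_sup_right

theorem QRG.quotient {I G : Ideal R} {r : ℕ} {x : Fin (r + 1) → R} (h : QRG I G x)
    {y : R} (hy : y - x 0 ∈ G) :
    QRG (I.map (Ideal.Quotient.mk (Ideal.span {y}))) (G.map (Ideal.Quotient.mk (Ideal.span {y})))
      (fun j => Ideal.Quotient.mk (Ideal.span {y}) (x j.succ)) := by
  set mk := Ideal.Quotient.mk (Ideal.span {y}) with hmk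
  have hmky : mk y = 0 := Ideal.Quotient.eq_zero_iff_mem.mpr (Ideal.mem_span_singleton_self y)
  have hsurj : Function.Surjective mk := Ideal.Quotient.mk_surjective
  refine ⟨?_, ?_, ?_⟩
  · apply le_antisymm
    · rw [sup_le_iff, Ideal.span_le]
      refine ⟨?_, Ideal.map_mono h.le⟩
      rintro _ ⟨j, rfl⟩
      exact Ideal.mem_map_of_mem _ (h.mem _)
    · rw [← h.1, Ideal.map_sup, Ideal.map_span, sup_le_iff, Ideal.span_le]
      refine ⟨?_, le_sup_right⟩
      rintro _ ⟨_, ⟨i, rfl⟩, rfl⟩
      refine Fin.cases ?_ (fun j => ?_) i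
      · apply Ideal.mem_sup_right
        have : mk (x 0) = mk (-(y - x 0)) := by
          rw [map_neg, map_sub, hmky]; ring
        rw [this]
        exact Ideal.mem_map_of_mem _ (G.neg_mem hy)
      · exact Ideal.mem_sup_left (Ideal.subset_span ⟨j, rfl⟩)
  · rw [← Ideal.map_pow]
    exact Ideal.map_mono h.2.1
  · intro a' ha' j
    choose a ha using fun j => hsurj (a' j)
    have h1 : mk (∑ j, a j * x j.succ) ∈ G.map mk := by
      rw [map_sum]
      convert ha' using 1
      refine Finset.sum_congr rfl fun j _ => ?_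
      rw [map_mul, ha]
    obtain ⟨g, hg, hgeq⟩ := (Ideal.mem_map_iff_of_surjective mk hsurj).mp h1
    have h2 : ∑ j, a j * x j.succ - g ∈ Ideal.span {y} :=
      Ideal.Quotient.eq_zero_iff_mem.mp (by
        change mk _ = 0
        rw [map_sub, hgeq, sub_self])
    obtain ⟨b, hb⟩ := Ideal.mem_span_singleton'.mp h2
    have h3 : ∑ i, (Fin.cons (-b) a : Fin (r + 1) → R) i * x i ∈ G := by
      rw [Fin.sum_univ_succ]
      simp only [Fin.cons_zero, Fin.cons_succ]
      have : -b * x 0 + ∑ j, a j * x j.succ = g + b * (y - x 0) := by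
        linear_combination (-1 : R) * hb
      rw [this]
      exact G.add_mem hg (G.mul_mem_left _ hy)
    have h4 := h.2.2 _ h3 j.succ
    simp only [Fin.cons_succ] at h4
    rw [← ha j]
    exact Ideal.mem_map_of_mem _ h4

theorem QRG.exists_functional {I G : Ideal R} {r : ℕ} {x : Fin r → R} (h : QRG I G x)
    (k : Fin r) :
    ∃ ψ : I →ₗ[R] R ⧸ I, ∀ (z : I) (a : Fin r → R) (g : R), g ∈ G →
      (z : R) = ∑ i, a i * x i + g → ψ z = Ideal.Quotient.mk I (a k) := by
  classical
  let v : Fin r → I := fun i => ⟨x i, h.mem i⟩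
  let Φ : ((Fin r → R) × G) →ₗ[R] I :=
    (Fintype.linearCombination R v).coprod (Submodule.inclusion h.le)
  have hΦval : ∀ p, ((Φ p : I) : R) = ∑ i, p.1 i * x i + (p.2 : R) := by
    intro p
    simp only [Φ, LinearMap.coprod_apply, Fintype.linearCombination_apply, Submodule.coe_add,
      Submodule.coe_inclusion]
    rw [Submodule.coe_sum]
    congr 1
  have hΦ : Function.Surjective Φ := by
    rintro ⟨z, hz⟩
    rw [← h.1] at hz
    obtain ⟨p, hp, g, hg, rfl⟩ := Submodule.mem_sup.mp hz
    obtain ⟨a, ha⟩ := (Ideal.mem_span_range_iff_exists_fun).mp hp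
    exact ⟨(a, ⟨g, hg⟩), Subtype.ext (by rw [hΦval, ha])⟩
  let χ : ((Fin r → R) × G) →ₗ[R] R ⧸ I :=
    (Submodule.mkQ I) ∘ₗ (LinearMap.proj k) ∘ₗ (LinearMap.fst R (Fin r → R) G)
  have hker : LinearMap.ker Φ ≤ LinearMap.ker χ := by
    intro p hp
    rw [LinearMap.mem_ker] at hp ⊢
    have h1 : ∑ i, p.1 i * x i + (p.2 : R) = 0 := by rw [← hΦval, hp]; rfl
    have h2 : ∑ i, p.1 i * x i ∈ G := by
      have : ∑ i, p.1 i * x i = -(p.2 : R) := by linear_combination h1
      rw [this]; exact G.neg_mem p.2.2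
    exact (Submodule.Quotient.mk_eq_zero _).mpr (h.2.2 _ h2 k)
  let ψ : I →ₗ[R] R ⧸ I :=
    (LinearMap.ker Φ).liftQ χ hker ∘ₗ (Φ.quotKerEquivOfSurjective hΦ).symm.toLinearMap
  refine ⟨ψ, ?_⟩
  intro z a g hg hz
  have hz' : z = Φ (a, ⟨g, hg⟩) := Subtype.ext (by rw [hΦval, hz])
  have : (Φ.quotKerEquivOfSurjective hΦ).symm (Φ (a, ⟨g, hg⟩)) =
      Submodule.Quotient.mk (a, ⟨g, hg⟩) := by
    rw [LinearEquiv.symm_apply_eq]; rfl
  rw [hz']
  simp only [ψ, LinearMap.comp_apply, LinearEquiv.coe_coe, this]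
  rfl

open Groth.Agent.Lib.Helper18.SerreReg in
theorem retract_of_functional {I : Ideal R} {y : R} (hyI : y ∈ I) (ψ : I →ₗ[R] R ⧸ I)
    (hψ : ψ ⟨y, hyI⟩ = 1) :
    ∃ (s : I.map (Ideal.Quotient.mk (Ideal.span {y})) →ₗ[R ⧸ Ideal.span {y}] QuotSMulTop y I)
      (p : QuotSMulTop y I →ₗ[R ⧸ Ideal.span {y}] I.map (Ideal.Quotient.mk (Ideal.span {y}))),
      p ∘ₗ s = LinearMap.id := by
  classical
  let q : I →ₗ[R] QuotSMulTop y I := Submodule.mkQ _
  have hq_surj : Function.Surjective q := Submodule.mkQ_surjective _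
  let yI : I := ⟨y, hyI⟩
  have hψ' : ψ yI = 1 := hψ
  have hyQ : ∀ w : QuotSMulTop y I, y • w = 0 := by
    intro w
    obtain ⟨z, rfl⟩ := hq_surj w
    rw [← map_smul]
    exact (Submodule.Quotient.mk_eq_zero _).mpr (Submodule.smul_mem_pointwise_smul _ _ _ trivial)
  have hmky : Ideal.Quotient.mk (Ideal.span {y}) y = 0 :=
    Ideal.Quotient.eq_zero_iff_mem.mpr (Ideal.mem_span_singleton_self y)
  -- the projection
  let p₀ : I →ₗ[R] I.map (Ideal.Quotient.mk (Ideal.span {y})) :=
    { toFun := fun z => ⟨Ideal.Quotient.mk _ z.1, Ideal.mem_map_of_mem _ z.2⟩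
      map_add' := fun a b => by
        apply Subtype.ext
        simp
      map_smul' := fun a b => by
        apply Subtype.ext
        simp [Algebra.smul_def] }
  have hp₀y : p₀ yI = 0 := by
    apply Subtype.ext
    exact hmky
  have hp₀ker : y • (⊤ : Submodule R I) ≤ LinearMap.ker p₀ := by
    intro z hz
    obtain ⟨w, -, rfl⟩ := (Submodule.mem_smul_pointwise_iff_exists _ _ _).mp hz
    rw [LinearMap.mem_ker, map_smul]
    apply Subtype.ext
    rw [Submodule.coe_smul_of_tower, Algebra.smul_def]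
    change Ideal.Quotient.mk _ y * _ = _
    rw [hmky, zero_mul]; rfl
  let p : QuotSMulTop y I →ₗ[R] I.map (Ideal.Quotient.mk (Ideal.span {y})) :=
    Submodule.liftQ _ p₀ hp₀ker
  have hpq : ∀ z, p (q z) = p₀ z := fun z => Submodule.liftQ_apply _ _ _
  have hp_surj : Function.Surjective p := by
    rintro ⟨w, hw⟩
    obtain ⟨z, hz, rfl⟩ :=
      (Ideal.mem_map_iff_of_surjective _ Ideal.Quotient.mk_surjective).mp hw
    exact ⟨q ⟨z, hz⟩, by rw [hpq]; rfl⟩
  -- the correction term
  let ρ : R ⧸ I →ₗ[R] QuotSMulTop y I :=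
    Submodule.liftQ I (LinearMap.toSpanSingleton R (QuotSMulTop y I) (q yI)) (by
      intro a ha
      rw [LinearMap.mem_ker, LinearMap.toSpanSingleton_apply, ← map_smul]
      have : a • yI = y • (⟨a, ha⟩ : I) := by
        apply Subtype.ext
        simp [yI, mul_comm]
      rw [this, map_smul, hyQ])
  have hρ : ∀ a : R, ρ (Ideal.Quotient.mk I a) = a • q yI := fun a => by
    change ρ (Submodule.Quotient.mk a) = _
    simp only [ρ, Submodule.liftQ_apply, LinearMap.toSpanSingleton_apply]
  let θ : I →ₗ[R] QuotSMulTop y I := q - ρ ∘ₗ ψ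
  have hθy : θ yI = 0 := by
    simp only [θ, LinearMap.sub_apply, LinearMap.comp_apply]
    rw [hψ', ← map_one (Ideal.Quotient.mk I), hρ, one_smul, sub_self]
  have hθker : y • (⊤ : Submodule R I) ≤ LinearMap.ker θ := by
    intro z hz
    obtain ⟨w, -, rfl⟩ := (Submodule.mem_smul_pointwise_iff_exists _ _ _).mp hz
    rw [LinearMap.mem_ker, map_smul, hyQ]
  let φ : QuotSMulTop y I →ₗ[R] QuotSMulTop y I := Submodule.liftQ _ θ hθker
  have hφq : ∀ z, φ (q z) = θ z := fun z => Submodule.liftQ_apply _ _ _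
  have hpρ : ∀ w, p (ρ w) = 0 := by
    intro w
    obtain ⟨a, rfl⟩ := Ideal.Quotient.mk_surjective w
    rw [hρ, map_smul, hpq, hp₀y, smul_zero]
  have hpφ : ∀ w, p (φ w) = p w := by
    intro w
    obtain ⟨z, rfl⟩ := hq_surj w
    rw [hφq]
    simp only [θ, LinearMap.sub_apply, LinearMap.comp_apply, map_sub, hpρ, sub_zero]
  have hkerp : LinearMap.ker p ≤ LinearMap.ker φ := by
    intro w hw
    obtain ⟨z, rfl⟩ := hq_surj w
    rw [LinearMap.mem_ker, hpq] at hw
    have h1 : Ideal.Quotient.mk (Ideal.span {y}) z.1 = 0 := congrArg Subtype.val hw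
    rw [Ideal.Quotient.eq_zero_iff_mem] at h1
    obtain ⟨b, hb⟩ := Ideal.mem_span_singleton'.mp h1
    have h2 : z = b • yI := Subtype.ext (by simp [yI, hb])
    rw [LinearMap.mem_ker, hφq, h2, map_smul, hθy, smul_zero]
  let s : I.map (Ideal.Quotient.mk (Ideal.span {y})) →ₗ[R] QuotSMulTop y I :=
    (LinearMap.ker p).liftQ φ hkerp ∘ₗ (p.quotKerEquivOfSurjective hp_surj).symm.toLinearMap
  have hsp : ∀ w, s (p w) = φ w := by
    intro w
    have : (p.quotKerEquivOfSurjective hp_surj).symm (p w) = Submodule.Quotient.mk w := by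
      rw [LinearEquiv.symm_apply_eq]; rfl
    simp only [s, LinearMap.comp_apply, LinearEquiv.coe_coe, this]
    rfl
  have hps : ∀ w, p (s w) = w := by
    intro w
    obtain ⟨z, rfl⟩ := hp_surj w
    rw [hsp, hpφ]
  have hsurj : Function.Surjective (algebraMap R (R ⧸ Ideal.span {y})) :=
    Ideal.Quotient.mk_surjective
  refine ⟨LinearMap.extendScalarsOfSurjective hsurj s,
    LinearMap.extendScalarsOfSurjective hsurj p, ?_⟩
  ext w
  exact congrArg Subtype.val (hps w)

open Groth.Agent.Lib.Helper18.SerreReg in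
theorem pd_quotient_of_functional {I : Ideal R} {y : R} (hy : IsSMulRegular R y) (hyI : y ∈ I)
    (ψ : I →ₗ[R] R ⧸ I) (hψ : ψ ⟨y, hyI⟩ = 1) (n : ℕ)
    (hpd : HasProjectiveDimensionLT (ModuleCat.of R I) (n + 1)) :
    HasProjectiveDimensionLT (ModuleCat.of (R ⧸ Ideal.span {y})
      (I.map (Ideal.Quotient.mk (Ideal.span {y})))) (n + 1) := by
  obtain ⟨s, p, hps⟩ := retract_of_functional hyI ψ hψ
  have hyI' : IsSMulRegular I y := hy.submodule I y
  have h1 := hasProjectiveDimensionLT_quotSMulTop R y hy n I hyI' hpd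
  let ret : Retract (ModuleCat.of (R ⧸ Ideal.span {y}) (I.map (Ideal.Quotient.mk (Ideal.span {y}))))
      (ModuleCat.of (R ⧸ Ideal.span {y}) (QuotSMulTop y I)) :=
    { i := ModuleCat.ofHom s
      r := ModuleCat.ofHom p
      retract := by rw [← ModuleCat.ofHom_comp, hps]; rfl }
  exact ret.hasProjectiveDimensionLT (n + 1)

end QRG

section main

theorem exists_regular_of_QRG (n : ℕ) : ∀ (r : ℕ) (R : Type u) [CommRing R] [IsLocalRing R]
    [IsNoetherianRing R] (I G : Ideal R) (_ : I ≤ maximalIdeal R) (x : Fin r → R) (_ : QRG I G x)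
    (_ : HasProjectiveDimensionLT (ModuleCat.of R I) (n + 1)),
    ∃ y : Fin r → R, (∀ i, y i - x i ∈ I ^ 2) ∧ IsWeaklyRegular R (List.ofFn y) := by
  intro r
  induction r with
  | zero =>
    intro R _ _ _ I G _ x _ _
    exact ⟨x, fun i => i.elim0, by rw [List.ofFn_zero]; exact IsWeaklyRegular.nil R R⟩
  | succ r ih =>
    intro R _ _ _ I G hIm x hx hpd
    have hI : I ≠ ⊥ := by
      intro hI
      have h0 : ∀ i, x i = 0 := fun i => by
        have := hx.mem i
        rw [hI] at this
        exact (Submodule.mem_bot R).mp this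
      have h1 : ∑ i, (fun _ => (1 : R)) i * x i ∈ G := by
        simp [h0]
      have := hx.2.2 _ h1 0
      rw [hI] at this
      exact one_ne_zero ((Submodule.mem_bot R).mp this)
    obtain ⟨z, hz, hnzd⟩ := exists_add_mem_nonZeroDivisors R I hI n hpd (x 0)
    obtain ⟨y, hy⟩ : ∃ y, y = x 0 + z := ⟨_, rfl⟩
    rw [← hy] at hnzd
    have hzG : z ∈ G := hx.2.1 hz
    have hyx : y - x 0 ∈ G := by
      have : y - x 0 = z := by rw [hy]; ring
      rw [this]; exact hzG
    have hyI : y ∈ I := by
      rw [hy]; exact I.add_mem (hx.mem 0) (Ideal.pow_le_self two_ne_zero hz)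
    have hyreg : IsSMulRegular R y := by
      rw [isSMulRegular_iff_right_eq_zero_of_smul]
      intro a ha
      rw [smul_eq_mul, mul_comm] at ha
      exact (mem_nonZeroDivisors_iff_right.mp hnzd) a ha
    have hym : y ∈ maximalIdeal R := hIm hyI
    have hne : Ideal.span {y} ≠ ⊤ := by
      intro h
      have : (1 : R) ∈ Ideal.span {y} := by rw [h]; trivial
      have h2 : Ideal.span {y} ≤ maximalIdeal R := by
        rw [Ideal.span_le]; simpa using hym
      exact (Ideal.ne_top_iff_one _).mp (maximalIdeal.isMaximal R).ne_top (h2 this)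
    have : Nontrivial (R ⧸ Ideal.span {y}) := Ideal.Quotient.nontrivial_iff.mpr hne
    have hloc : IsLocalRing (R ⧸ Ideal.span {y}) :=
      IsLocalRing.of_surjective' (Ideal.Quotient.mk (Ideal.span {y})) Ideal.Quotient.mk_surjective
    have hI'm : I.map (Ideal.Quotient.mk (Ideal.span {y})) ≤ maximalIdeal (R ⧸ Ideal.span {y}) := by
      rw [Ideal.map_le_iff_le_comap]
      intro z hz
      rw [Ideal.mem_comap]
      have : IsLocalHom (Ideal.Quotient.mk (Ideal.span {y})) :=
        IsLocalHom.of_surjective _ Ideal.Quotient.mk_surjective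
      exact (IsLocalRing.mem_maximalIdeal _).mpr
        (fun hu => (IsLocalRing.mem_maximalIdeal _).mp (hIm hz) (isUnit_of_map_unit _ _ hu))
    obtain ⟨ψ, hψ⟩ := hx.exists_functional 0
    have hψy : ψ ⟨y, hyI⟩ = 1 := by
      rw [hψ ⟨y, hyI⟩ (Pi.single 0 1) z hzG (by
        simp [Pi.single_apply, hy])]
      simp
    obtain ⟨y', hy'x, hy'reg⟩ := ih (R ⧸ Ideal.span {y}) _ _ hI'm _ (hx.quotient hyx)
      (pd_quotient_of_functional hyreg hyI ψ hψy n hpd)
    have hsurj : Function.Surjective (Ideal.Quotient.mk (Ideal.span {y})) :=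
      Ideal.Quotient.mk_surjective
    have hw : ∀ j, ∃ w ∈ I ^ 2, Ideal.Quotient.mk (Ideal.span {y}) w =
        y' j - Ideal.Quotient.mk (Ideal.span {y}) (x j.succ) := fun j => by
      have := hy'x j
      rw [← Ideal.map_pow] at this
      exact (Ideal.mem_map_iff_of_surjective _ hsurj).mp this
    choose w hwI hwe using hw
    refine ⟨Fin.cons y (fun j => x j.succ + w j), ?_, ?_⟩
    · intro i
      refine Fin.cases ?_ (fun j => ?_) i
      · simp only [Fin.cons_zero]
        have : y - x 0 = z := by rw [hy]; ring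
        rw [this]; exact hz
      · simp only [Fin.cons_succ]
        have : x j.succ + w j - x j.succ = w j := by ring
        rw [this]; exact hwI j
    · rw [List.ofFn_succ]
      simp only [Fin.cons_zero, Fin.cons_succ]
      rw [isWeaklyRegular_cons_iff]
      refine ⟨hyreg, ?_⟩
      have e : QuotSMulTop y R ≃ₗ[R] R ⧸ Ideal.span {y} :=
        Submodule.quotEquivOfEq _ _ (by
          rw [← Submodule.ideal_span_singleton_smul y ⊤, smul_eq_mul, Ideal.mul_top])
      rw [e.isWeaklyRegular_congr]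
      have hmap : (List.ofFn (fun j => x j.succ + w j)).map
          (algebraMap R (R ⧸ Ideal.span {y})) = List.ofFn y' := by
        rw [List.map_ofFn]
        congr 1
        funext j
        simp only [Function.comp_apply, Ideal.Quotient.algebraMap_eq, map_add, hwe]
        ring
      have h3 : IsWeaklyRegular (R ⧸ Ideal.span {y})
          ((List.ofFn (fun j => x j.succ + w j)).map (algebraMap R (R ⧸ Ideal.span {y}))) := by
        rw [hmap]; exact hy'reg
      exact (isWeaklyRegular_map_algebraMap_iff (R ⧸ Ideal.span {y}) (R ⧸ Ideal.span {y}) _).mp h3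

/-- A free direct summand of the conormal module of an ideal of finite projective dimension in a
Noetherian local ring is generated by the classes of a regular sequence. -/
theorem main {R : Type u} [CommRing R] [IsNoetherianRing R] [IsLocalRing R] (I : Ideal R)
    (hI : I ≠ ⊤) (n : ℕ) (hpd : HasProjectiveDimensionLT (ModuleCat.of R I) n)
    (F G : Submodule (R ⧸ I) I.Cotangent) (hFG : IsCompl F G) (r : ℕ)
    (e : F ≃ₗ[R ⧸ I] (Fin r → R ⧸ I)) :
    ∃ (x : Fin r → R) (hx : ∀ i, x i ∈ I), IsWeaklyRegular R (List.ofFn x) ∧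
      Submodule.span (R ⧸ I) (Set.range fun i => I.toCotangent ⟨x i, hx i⟩) = F := by
  classical
  have hpd' : HasProjectiveDimensionLT (ModuleCat.of R I) (n + 1) :=
    hasProjectiveDimensionLT_of_ge _ n (n + 1) (by omega)
  let f : Fin r → F := fun i => e.symm (Pi.single i 1)
  have hxt' : ∀ i, ∃ w : I, I.toCotangent w = (f i : I.Cotangent) :=
    fun i => I.toCotangent_surjective _
  choose xt hxt using hxt'
  let Gt : Ideal R :=
    Submodule.map (Submodule.subtype I) (Submodule.comap I.toCotangent (G.restrictScalars R))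
  have hGt : ∀ z : R, z ∈ Gt ↔ ∃ hz : z ∈ I, I.toCotangent ⟨z, hz⟩ ∈ G := by
    intro z
    constructor
    · rintro ⟨w, hw, rfl⟩
      exact ⟨w.2, hw⟩
    · rintro ⟨hz, hw⟩
      exact ⟨⟨z, hz⟩, hw, rfl⟩
  have hsm : ∀ (a : R) (m : I.Cotangent), Ideal.Quotient.mk I a • m = a • m := fun a m => by
    rw [← Ideal.Quotient.algebraMap_eq, algebraMap_smul]
  have hcot : ∀ (a : Fin r → R) (hz : ∑ i, a i * (xt i : R) ∈ I),
      I.toCotangent ⟨∑ i, a i * (xt i : R), hz⟩ =
        ((∑ i, Ideal.Quotient.mk I (a i) • f i : F) : I.Cotangent) := by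
    intro a hz
    have h1 : (⟨∑ i, a i * (xt i : R), hz⟩ : I) = ∑ i, a i • xt i :=
      Subtype.ext (by simp)
    rw [h1, map_sum, Submodule.coe_sum]
    refine Finset.sum_congr rfl fun i _ => ?_
    rw [map_smul, hxt, Submodule.coe_smul, hsm]
  have hesymm : ∀ c : Fin r → R ⧸ I, e.symm c = ∑ i, c i • f i := by
    intro c
    have h1 : c = ∑ i, c i • Pi.single i (1 : R ⧸ I) := by
      ext j
      simp [Finset.sum_apply, Pi.single_apply]
    conv_lhs => rw [h1]
    rw [map_sum]
    refine Finset.sum_congr rfl fun i _ => ?_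
    rw [map_smul]
  have hQ : QRG I Gt (fun i => (xt i : R)) := by
    refine ⟨?_, ?_, ?_⟩
    · apply le_antisymm
      · rw [sup_le_iff, Ideal.span_le]
        refine ⟨?_, fun z hz => ((hGt z).mp hz).1⟩
        rintro _ ⟨i, rfl⟩
        exact (xt i).2
      · intro z hz
        have h1 : I.toCotangent ⟨z, hz⟩ ∈ F ⊔ G := by rw [hFG.sup_eq_top]; trivial
        obtain ⟨φ, hφ, γ, hγ, hsum⟩ := Submodule.mem_sup.mp h1
        have hsurj : Function.Surjective (Ideal.Quotient.mk I) := Ideal.Quotient.mk_surjective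
        choose a ha using fun i => hsurj (e ⟨φ, hφ⟩ i)
        have hmem : ∑ i, a i * (xt i : R) ∈ I :=
          I.sum_mem fun i _ => I.mul_mem_left _ (xt i).2
        have h2 : I.toCotangent ⟨∑ i, a i * (xt i : R), hmem⟩ = φ := by
          rw [hcot a hmem]
          have : (∑ i, Ideal.Quotient.mk I (a i) • f i : F) = ⟨φ, hφ⟩ := by
            simp only [ha]
            rw [← hesymm, LinearEquiv.symm_apply_apply]
          rw [this]
        have h3 : z - ∑ i, a i * (xt i : R) ∈ Gt := by
          rw [hGt]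
          refine ⟨I.sub_mem hz hmem, ?_⟩
          have : (⟨z - ∑ i, a i * (xt i : R), I.sub_mem hz hmem⟩ : I) =
              ⟨z, hz⟩ - ⟨∑ i, a i * (xt i : R), hmem⟩ := rfl
          rw [this, map_sub, h2, ← hsum, add_sub_cancel_left]
          exact hγ
        have h4 : z = ∑ i, a i * (xt i : R) + (z - ∑ i, a i * (xt i : R)) := by ring
        rw [h4]
        refine Ideal.add_mem _ (Ideal.mem_sup_left ?_) (Ideal.mem_sup_right h3)
        exact Ideal.sum_mem _ fun i _ => Ideal.mul_mem_left _ _ (Ideal.subset_span ⟨i, rfl⟩)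
    · intro z hz
      rw [hGt]
      refine ⟨Ideal.pow_le_self two_ne_zero hz, ?_⟩
      rw [(Ideal.toCotangent_eq_zero I _).mpr hz]
      exact G.zero_mem
    · intro a ha i
      obtain ⟨hz, hG⟩ := (hGt _).mp ha
      rw [hcot a hz] at hG
      have h1 : ((∑ i, Ideal.Quotient.mk I (a i) • f i : F) : I.Cotangent) ∈ F ⊓ G :=
        ⟨(∑ i, Ideal.Quotient.mk I (a i) • f i : F).2, hG⟩
      rw [hFG.inf_eq_bot, Submodule.mem_bot] at h1
      have h2 : (∑ i, Ideal.Quotient.mk I (a i) • f i : F) = 0 := Subtype.ext h1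
      rw [← hesymm, LinearEquiv.map_eq_zero_iff] at h2
      have h3 := congrFun h2 i
      exact Ideal.Quotient.eq_zero_iff_mem.mp h3
  obtain ⟨y, hyx, hreg⟩ := exists_regular_of_QRG n r R I Gt (IsLocalRing.le_maximalIdeal hI) _ hQ hpd'
  have hx : ∀ i, y i ∈ I := fun i => by
    have h1 : y i = (y i - (xt i : R)) + (xt i : R) := by ring
    rw [h1]
    exact I.add_mem (Ideal.pow_le_self two_ne_zero (hyx i)) (xt i).2
  refine ⟨y, hx, hreg, ?_⟩
  have h1 : (fun i => I.toCotangent ⟨y i, hx i⟩) = (Submodule.subtype F) ∘ f := by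
    funext i
    simp only [Function.comp_apply, Submodule.subtype_apply]
    rw [← hxt i, Ideal.toCotangent_eq]
    exact hyx i
  have hb : Submodule.span (R ⧸ I) (Set.range f) = ⊤ := by
    let b := (Pi.basisFun (R ⧸ I) (Fin r)).map e.symm
    have : (b : Fin r → F) = f := by
      ext i
      simp [b, f]
    rw [← this]; exact b.span_eq
  rw [h1, Set.range_comp, Submodule.span_image, hb, Submodule.map_top, Submodule.range_subtype]

end main

end Groth.Agent.Lib.Helper16.Vasc2
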