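import Mathlib
import Groth.Agent.Lib.Helper8.Witt1
import Groth.Prelude.Def_W4c1extbt610Disp

/-!
# Witt vectors over a ring with p nilpotent: units, Jacobson radical, Frobenius and maximal ideals (helper16)
-/

set_option autoImplicit false
universe u

noncomputable section

namespace Groth.Agent.Lib.Helper16.ZW
open WittVector Function
open Groth.Agent.Lib.Helper8.Witt

variable {p : ℕ} [hp : Fact p.Prime] {R : Type u} [CommRing R]

local notation "𝕎" => WittVector p

/-- a Witt vector all of whose truncations are units is a unit -/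
theorem isUnit_of_forall_truncate (u : 𝕎 R) (hu : ∀ n, IsUnit (WittVector.truncate n u)) :
    IsUnit u := by
  let S := Localization.Away u
  let f : ∀ k : ℕ, S →+* TruncatedWittVector p k R := fun k =>
    IsLocalization.Away.lift u (g := WittVector.truncate k) (hu k)
  have hf : ∀ k, (f k).comp (algebraMap (𝕎 R) S) = WittVector.truncate k := fun k =>
    IsLocalization.Away.lift_comp u (hu k)
  have f_compat : ∀ (k₁ k₂ : ℕ) (hk : k₁ ≤ k₂),
      (TruncatedWittVector.truncate hk).comp (f k₂) = f k₁ := by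
    intro k₁ k₂ hk
    apply IsLocalization.ringHom_ext (Submonoid.powers u)
    rw [RingHom.comp_assoc, hf, hf, TruncatedWittVector.truncate_comp_wittVector_truncate]
  let L : S →+* 𝕎 R := WittVector.lift f f_compat
  have hL : L.comp (algebraMap (𝕎 R) S) = RingHom.id _ := by
    apply WittVector.hom_ext
    intro k
    rw [← RingHom.comp_assoc, WittVector.truncate_comp_lift, hf, RingHom.comp_id]
  have : u = L (algebraMap (𝕎 R) S u) := by
    have := congrArg (fun g => g u) hL
    simpa using this.symm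
  rw [this]
  exact (IsLocalization.Away.algebraMap_isUnit u).map L

/-- `V x * V y = p * V (x * y)` -/
lemma verschiebung_mul_verschiebung (x y : 𝕎 R) :
    verschiebung x * verschiebung y = (p : 𝕎 R) * verschiebung (x * y) := by
  rw [← verschiebung_mul_frobenius, frobenius_verschiebung, ← mul_assoc, mul_comm _ (p : 𝕎 R),
    ← nsmul_eq_mul, ← nsmul_eq_mul, map_nsmul]

lemma verschiebung_pow_succ (x : 𝕎 R) (k : ℕ) :
    verschiebung x ^ (k + 1) = (p : 𝕎 R) ^ k * verschiebung (x ^ (k + 1)) := by
  induction k with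
  | zero => simp
  | succ k ih =>
    rw [pow_succ, ih, mul_assoc, verschiebung_mul_verschiebung, ← mul_assoc, ← pow_succ,
      ← pow_succ]

lemma inV_iff_mem_ker (n : ℕ) (z : 𝕎 R) :
    InV n z ↔ z ∈ RingHom.ker (WittVector.truncate (p := p) (R := R) n) :=
  (WittVector.mem_ker_truncate n z).symm

/-- coefficient zero vanishes iff in the image of `V` -/
lemma exists_eq_verschiebung_of_coeff_zero {z : 𝕎 R} (h : z.coeff 0 = 0) :
    ∃ y, z = verschiebung y := by
  refine ⟨z.shift 1, ?_⟩
  have : InV 1 z := fun j hj => by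
    obtain rfl : j = 0 := by omega
    exact h
  simpa using this.eq_iterate

lemma iterate_frobenius_natCast_pow (N j : ℕ) :
    (frobenius^[j] ((p : 𝕎 R) ^ N)) = (p : 𝕎 R) ^ N := by
  induction j with
  | zero => rfl
  | succ j ih => rw [Function.iterate_succ_apply', ih, map_pow, map_natCast]

/-- multiplying by `p^N` raises the `V`-filtration when `p^N = 0` in `R` -/
lemma inV_succ_mul_of_pow_eq_zero {N : ℕ} (hN : (p : R) ^ N = 0) {j : ℕ} {z : 𝕎 R}
    (hz : InV j z) : InV (j + 1) ((p : 𝕎 R) ^ N * z) := by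
  rw [hz.eq_iterate, mul_comm, iterate_verschiebung_mul_left, iterate_frobenius_natCast_pow]
  have h0 : ((z.shift j) * (p : 𝕎 R) ^ N).coeff 0 = 0 := by
    have := map_mul (WittVector.constantCoeff (p := p) (R := R)) (z.shift j) ((p : 𝕎 R) ^ N)
    rw [map_pow, map_natCast, hN, mul_zero] at this
    exact this
  obtain ⟨y, hy⟩ := exists_eq_verschiebung_of_coeff_zero h0
  rw [hy, ← Function.iterate_succ_apply]
  exact inV_iterate _ _

lemma inV_pow_mul_of_pow_eq_zero {N : ℕ} (hN : (p : R) ^ N = 0) (j : ℕ) :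
    InV j ((p : 𝕎 R) ^ (N * j)) := by
  induction j with
  | zero => intro i hi; omega
  | succ j ih =>
    rw [Nat.mul_succ, pow_add, mul_comm]
    exact inV_succ_mul_of_pow_eq_zero hN ih

/-- if `p` is nilpotent in `R`, then `1 + V x` is a unit of `W(R)` -/
theorem isUnit_one_add_verschiebung (hp0 : IsNilpotent (p : R)) (x : 𝕎 R) :
    IsUnit (1 + verschiebung x) := by
  obtain ⟨N, hN⟩ := hp0
  apply isUnit_of_forall_truncate
  intro n
  rw [map_add, map_one]
  apply IsNilpotent.isUnit_one_add
  refine ⟨N * n + 1, ?_⟩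
  rw [← map_pow, verschiebung_pow_succ, ← RingHom.mem_ker, ← inV_iff_mem_ker]
  exact (inV_pow_mul_of_pow_eq_zero hN n).mul_right _

open W4c1extbt610 in
/-- the ideal generated by the image of `V` is the image of `V` -/
lemma mem_IV_iff (a : 𝕎 R) : a ∈ IV p R ↔ ∃ ξ, a = verschiebung ξ := by
  constructor
  · intro ha
    induction ha using Submodule.span_induction with
    | mem x hx => obtain ⟨ξ, rfl⟩ := hx; exact ⟨ξ, rfl⟩
    | zero => exact ⟨0, (map_zero _).symm⟩
    | add x y _ _ hx hy =>
      obtain ⟨ξ, rfl⟩ := hx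
      obtain ⟨ζ, rfl⟩ := hy
      exact ⟨ξ + ζ, (map_add _ _ _).symm⟩
    | smul c x _ hx =>
      obtain ⟨ξ, rfl⟩ := hx
      exact ⟨ξ * frobenius c, by rw [verschiebung_mul_frobenius, smul_eq_mul, mul_comm]⟩
  · rintro ⟨ξ, rfl⟩
    exact verschiebung_mem_IV p R ξ

open W4c1extbt610 in
lemma mem_IV_iff_coeff_zero (a : 𝕎 R) : a ∈ IV p R ↔ a.coeff 0 = 0 := by
  rw [mem_IV_iff]
  constructor
  · rintro ⟨ξ, rfl⟩; exact verschiebung_coeff_zero ξ
  · exact exists_eq_verschiebung_of_coeff_zero

open W4c1extbt610 in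
lemma IV_eq_ker : IV p R = RingHom.ker (WittVector.constantCoeff (p := p) (R := R)) := by
  ext a
  rw [mem_IV_iff_coeff_zero, RingHom.mem_ker]
  rfl

open W4c1extbt610 in
/-- if `p` is nilpotent in `R`, the ideal `IV` lies in every maximal ideal -/
theorem IV_le_of_isMaximal (hp0 : IsNilpotent (p : R)) (m : Ideal (𝕎 R)) [hm : m.IsMaximal] :
    IV p R ≤ m := by
  have hjac : IV p R ≤ Ideal.jacobson (⊥ : Ideal (𝕎 R)) := by
    intro a ha
    rw [Ideal.mem_jacobson_bot]
    intro y
    obtain ⟨ξ, rfl⟩ := (mem_IV_iff a).mp ha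
    rw [← verschiebung_mul_frobenius, add_comm]
    exact isUnit_one_add_verschiebung hp0 _
  refine hjac.trans ?_
  rw [Ideal.jacobson_bot]
  exact Ring.jacobson_le_of_isMaximal m

open W4c1extbt610 in
lemma natCast_mem_of_isMaximal (hp0 : IsNilpotent (p : R)) (m : Ideal (𝕎 R)) [hm : m.IsMaximal] :
    (p : 𝕎 R) ∈ m := by
  obtain ⟨N, hN⟩ := hp0
  have h1 : ((p : 𝕎 R) ^ N) ∈ IV p R := by
    rw [mem_IV_iff_coeff_zero]
    have := map_pow (WittVector.constantCoeff (p := p) (R := R)) (p : 𝕎 R) N
    rw [map_natCast, hN] at this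
    exact this
  exact hm.isPrime.mem_of_pow_mem N (IV_le_of_isMaximal ⟨N, hN⟩ m h1)

/-- the constant coefficient of `F x` is `x₀ ^ p` up to a multiple of `p` -/
lemma constantCoeff_frobenius (x : 𝕎 R) :
    ∃ y : R, (frobenius x).coeff 0 = x.coeff 0 ^ p + p * y := by
  rw [coeff_frobenius, frobeniusPoly]
  refine ⟨MvPolynomial.aeval x.coeff (frobeniusPolyAux p 0), ?_⟩
  simp

open W4c1extbt610 in
/-- if `p` is nilpotent in `R`, Frobenius fixes every maximal ideal of `W(R)` -/
theorem comap_frobenius_eq_of_isMaximal (hp0 : IsNilpotent (p : R)) (m : Ideal (𝕎 R))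
    [hm : m.IsMaximal] : m.comap (frobenius : 𝕎 R →+* 𝕎 R) = m := by
  have hIV := IV_le_of_isMaximal hp0 m
  have hpm := natCast_mem_of_isMaximal hp0 m
  -- membership in `m` depends only on the constant coefficient
  have key : ∀ x y : 𝕎 R, x.coeff 0 = y.coeff 0 → (x ∈ m ↔ y ∈ m) := by
    intro x y hxy
    have hd : x - y ∈ m := hIV (by
      rw [mem_IV_iff_coeff_zero]
      have := map_sub (WittVector.constantCoeff (p := p) (R := R)) x y
      change (x - y).coeff 0 = x.coeff 0 - y.coeff 0 at this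
      rw [this, hxy, sub_self])
    constructor
    · intro hx
      have := m.sub_mem hx hd
      rwa [sub_sub_cancel] at this
    · intro hy
      have := m.add_mem hd hy
      rwa [sub_add_cancel] at this
  ext x
  rw [Ideal.mem_comap]
  obtain ⟨y, hy⟩ := constantCoeff_frobenius x
  have h1 : (frobenius x).coeff 0 = (x ^ p + (p : 𝕎 R) * teichmuller p y).coeff 0 := by
    rw [hy]
    have := map_add (WittVector.constantCoeff (p := p) (R := R)) (x ^ p)
      ((p : 𝕎 R) * teichmuller p y)
    rw [map_pow, map_mul, map_natCast] at this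
    change (x ^ p + (p : 𝕎 R) * teichmuller p y).coeff 0 = _ at this
    rw [this]
    simp [WittVector.constantCoeff_apply, teichmuller_coeff_zero]
  rw [key _ _ h1]
  constructor
  · intro h
    have h2 : x ^ p ∈ m := by
      have := m.sub_mem h (m.mul_mem_right (teichmuller p y) hpm)
      rwa [add_sub_cancel_right] at this
    exact hm.isPrime.mem_of_pow_mem p h2
  · intro h
    exact m.add_mem (m.pow_mem_of_mem h p hp.out.pos) (m.mul_mem_right _ hpm)

end Groth.Agent.Lib.Helper16.ZW
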