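import Mathlib
import Groth.Prelude.Def_Dieu

/-!
# Rank of the semilinear base change Dieu.BC at a prime (helper16)
-/

set_option autoImplicit false
universe u v

noncomputable section

namespace Groth.Agent.Lib.Helper16.ZW
open TensorProduct Dieu

section Rank
variable {A : Type u} [CommRing A] (g : A →+* A) (P : Type v) [AddCommGroup P] [Module A P]

/-- the ring `A` as an algebra over itself through `g` -/
def Tw (_g : A →+* A) : Type u := A

instance : CommRing (Tw g) := inferInstanceAs (CommRing A)

instance : Algebra A (Tw g) := RingHom.toAlgebra (show A →+* Tw g from g)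

lemma Tw.algebraMap_eq (a : A) : algebraMap A (Tw g) a = g a := rfl

/-- the base change `Tw g ⊗ P`, regarded as an `A`-module through the left factor -/
def TwP : Type (max u v) := Tw g ⊗[A] P

instance : AddCommGroup (TwP g P) := inferInstanceAs (AddCommGroup (Tw g ⊗[A] P))

instance : Module A (TwP g P) := inferInstanceAs (Module (Tw g) (Tw g ⊗[A] P))

/-- identity map `Res g → Tw g` -/
def resToTw : Res g →ₗ[A] Tw g where
  toFun t := (t.val : A)
  map_add' _ _ := rfl
  map_smul' a t := by
    change g a * t.val = a • (show Tw g from t.val)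
    rw [Algebra.smul_def]
    rfl

/-- identity map `Tw g → Res g` -/
def twToRes : Tw g →ₗ[A] Res g where
  toFun x := Res.mk g (x : A)
  map_add' _ _ := rfl
  map_smul' a x := by
    change Res.mk g (a • x) = a • Res.mk g x
    rw [Res.smul_mk, Algebra.smul_def]
    rfl

/-- comparison of the two models of the base change -/
def bcEquivAdd : BC g P ≃+ TwP g P where
  toFun z := (TensorProduct.map (resToTw g) (LinearMap.id : P →ₗ[A] P)) z
  invFun z := (TensorProduct.map (twToRes g) (LinearMap.id : P →ₗ[A] P)) z
  left_inv z := by
    change (TensorProduct.map (twToRes g) LinearMap.id)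
      ((TensorProduct.map (resToTw g) (LinearMap.id : P →ₗ[A] P)) z) = z
    rw [← LinearMap.comp_apply, ← TensorProduct.map_comp]
    have : (twToRes g) ∘ₗ (resToTw g) = LinearMap.id := by ext t; rfl
    rw [this, LinearMap.comp_id, TensorProduct.map_id, LinearMap.id_apply]
  right_inv z := by
    change (TensorProduct.map (resToTw g) LinearMap.id)
      ((TensorProduct.map (twToRes g) (LinearMap.id : P →ₗ[A] P)) z) = z
    rw [← LinearMap.comp_apply, ← TensorProduct.map_comp]
    have : (resToTw g) ∘ₗ (twToRes g) = LinearMap.id := by ext t; rfl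
    rw [this, LinearMap.comp_id, TensorProduct.map_id, LinearMap.id_apply]
  map_add' x y := map_add _ x y

lemma bcEquivAdd_tmul (b : A) (x : P) :
    bcEquivAdd g P (BC.tmul g b x) = (show TwP g P from (show Tw g from b) ⊗ₜ[A] x) := rfl

lemma bcEquivAdd_smul (c : A) (z : BC g P) :
    bcEquivAdd g P (c • z) = c • bcEquivAdd g P z := by
  induction z using TensorProduct.induction_on with
  | zero =>
    change bcEquivAdd g P (c • (0 : BC g P)) = c • bcEquivAdd g P (0 : BC g P)
    rw [smul_zero, map_zero, smul_zero]
  | tmul t x =>
    change bcEquivAdd g P (c • BC.tmul g t.val x) = c • bcEquivAdd g P (BC.tmul g t.val x)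
    rw [BC.smul_tmul, bcEquivAdd_tmul, bcEquivAdd_tmul]
    change (show Tw g from c * t.val) ⊗ₜ[A] x = (show Tw g from c) • ((show Tw g from t.val) ⊗ₜ[A] x)
    rw [TensorProduct.smul_tmul', smul_eq_mul]
    rfl
  | add x y hx hy =>
    change bcEquivAdd g P (c • ((show BC g P from x) + (show BC g P from y))) =
      c • bcEquivAdd g P ((show BC g P from x) + (show BC g P from y))
    rw [smul_add, map_add, map_add, smul_add]
    exact congrArg₂ (· + ·) hx hy

/-- comparison of the two models of the base change, as a linear equivalence -/
def bcEquiv : BC g P ≃ₗ[A] TwP g P :=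
  { bcEquivAdd g P with
    map_smul' := fun c z => bcEquivAdd_smul g P c z }

instance [Module.Finite A P] : Module.Finite A (TwP g P) :=
  inferInstanceAs (Module.Finite (Tw g) (Tw g ⊗[A] P))

instance [Module.Projective A P] : Module.Projective A (TwP g P) :=
  inferInstanceAs (Module.Projective (Tw g) (Tw g ⊗[A] P))

lemma finite_BC [Module.Finite A P] : Module.Finite A (BC g P) :=
  Module.Finite.equiv (bcEquiv g P).symm

lemma projective_BC [Module.Projective A P] : Module.Projective A (BC g P) :=
  Module.Projective.of_equiv (bcEquiv g P).symm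

/-- the rank of the base change at a prime is the rank at the pulled back prime -/
theorem rankAtStalk_BC [Module.Finite A P] [Module.Flat A P] (q : PrimeSpectrum A) :
    Module.rankAtStalk (BC g P) q = Module.rankAtStalk P (q.comap g) := by
  rw [Module.rankAtStalk_eq_of_equiv (bcEquiv g P)]
  have h := Module.rankAtStalk_baseChange (R := A) (M := P) (S := Tw g) (show PrimeSpectrum (Tw g) from q)
  exact h

end Rank

end Groth.Agent.Lib.Helper16.ZW
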