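import Mathlib
import Groth.Agent.Lib.Helper16.ZW1
import Groth.Agent.Lib.Helper16.ZW2
import Groth.Prelude.Def_Disp2

/-!
# Existence of the operator V# of a 3n-display over a ring with p nilpotent (helper16, S16535)
-/

set_option autoImplicit false
universe u v

noncomputable section

namespace Groth.Agent.Lib.Helper16.ZW
open W4c1extbt610 Dieu WittVector

variable {p : ℕ} [hp : Fact p.Prime] {R : Type u} [CommRing R]
  {P : Type v} [AddCommGroup P] [Module (WittVector p R) P]


/-- `F y = p • V⁻¹ y` on `Q` -/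
lemma F_eq_smul_Vinv (D : Display3n p R P) (y : D.Q) : D.F (y : P) = (p : (WittVector p R)) • D.Vinv y := by
  have h := D.Vinv_verschiebung_smul 1 (y : P)
  rw [one_smul] at h
  rw [← h]
  have : (⟨verschiebung (1 : (WittVector p R)) • (y : P), D.IV_smul_le (Submodule.smul_mem_smul
      (verschiebung_mem_IV p R 1) Submodule.mem_top)⟩ : D.Q) = verschiebung (1 : (WittVector p R)) • y := rfl
  rw [this, LinearMap.map_smulₛₗ, frobenius_verschiebung, one_mul]

/-- induction principle on `Q = L ⊔ IV • T` -/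
lemma Q_induction (D : Display3n p R P) (L T : Submodule (WittVector p R) P) (hQ : D.Q = L ⊔ IV p R • T)
    (M : P → Prop) (hL : ∀ l ∈ L, M l) (hT : ∀ (ξ : (WittVector p R)), ∀ t ∈ T, M (verschiebung ξ • t))
    (hadd : ∀ x y, M x → M y → M (x + y)) : ∀ y ∈ D.Q, M y := by
  intro y hy
  rw [hQ] at hy
  obtain ⟨l, hl, z, hz, rfl⟩ := Submodule.mem_sup.mp hy
  refine hadd _ _ (hL l hl) ?_
  refine Submodule.smul_induction_on hz ?_ ?_
  · intro a ha t ht
    obtain ⟨ξ, rfl⟩ := (mem_IV_iff a).mp ha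
    exact hT ξ t ht
  · intro x y hx hy
    exact hadd x y hx hy

section Construction
variable (D : Display3n p R P) (L T : Submodule (WittVector p R) P) (hc : IsCompl L T)
  (hQ : D.Q = L ⊔ IV p R • T)

/-- projection to `L` along `T`, as an endomorphism -/
def prL : P →ₗ[(WittVector p R)] P := L.projection T hc

/-- projection to `T` along `L`, as an endomorphism -/
def prT : P →ₗ[(WittVector p R)] P := T.projection L hc.symm

lemma prL_mem (x : P) : prL L T hc x ∈ L := Submodule.projection_apply_mem hc x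

lemma prT_mem (x : P) : prT L T hc x ∈ T := Submodule.projection_apply_mem hc.symm x

lemma prL_add_prT (x : P) : prL L T hc x + prT L T hc x = x :=
  Submodule.projection_add_projection_eq_self hc x

lemma prL_of_mem_L {l : P} (hl : l ∈ L) : prL L T hc l = l :=
  Submodule.projection_apply_of_mem_left hc hl

lemma prT_of_mem_L {l : P} (hl : l ∈ L) : prT L T hc l = 0 :=
  Submodule.projection_apply_of_mem_right hc.symm hl

lemma prT_of_mem_T {t : P} (ht : t ∈ T) : prT L T hc t = t :=
  Submodule.projection_apply_of_mem_left hc.symm ht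

lemma prL_of_mem_T {t : P} (ht : t ∈ T) : prL L T hc t = 0 :=
  Submodule.projection_apply_of_mem_right hc ht

include hQ in
lemma L_le_Q : L ≤ D.Q := hQ ▸ le_sup_left

/-- projection to `L` with values in `Q` -/
def prLQ : P →ₗ[(WittVector p R)] D.Q :=
  LinearMap.codRestrict D.Q (prL L T hc) fun x => L_le_Q D L T hQ (prL_mem L T hc x)

/-- the semilinear map `V⁻¹ ∘ pr_L + F ∘ pr_T` -/
def phi : P →ₛₗ[(WittVector.frobenius : WittVector p R →+* WittVector p R)] P :=
  (D.Vinv.comp (prLQ D L T hc hQ) : P →ₛₗ[(WittVector.frobenius : WittVector p R →+* WittVector p R)] P) + (D.F.comp (prT L T hc) : P →ₛₗ[(WittVector.frobenius : WittVector p R →+* WittVector p R)] P)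

lemma phi_of_mem_L {l : P} (hl : l ∈ L) :
    phi D L T hc hQ l = D.Vinv ⟨l, L_le_Q D L T hQ hl⟩ := by
  have h1 : prLQ D L T hc hQ l = ⟨l, L_le_Q D L T hQ hl⟩ :=
    Subtype.ext (prL_of_mem_L L T hc hl)
  simp only [phi, LinearMap.add_apply, LinearMap.comp_apply, h1, prT_of_mem_L L T hc hl, map_zero,
    add_zero]

lemma phi_of_mem_T {t : P} (ht : t ∈ T) : phi D L T hc hQ t = D.F t := by
  have h1 : prLQ D L T hc hQ t = 0 := Subtype.ext (prL_of_mem_T L T hc ht)
  simp only [phi, LinearMap.add_apply, LinearMap.comp_apply, h1, prT_of_mem_T L T hc ht, map_zero,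
    zero_add]

/-- the linearisation of `phi` -/
def Phi : BC (WittVector.frobenius : WittVector p R →+* WittVector p R) P →ₗ[(WittVector p R)] P := BC.lift (WittVector.frobenius : WittVector p R →+* WittVector p R) (phi D L T hc hQ)

lemma Phi_tmul_L (w : (WittVector p R)) {l : P} (hl : l ∈ L) :
    Phi D L T hc hQ (BC.tmul (WittVector.frobenius : WittVector p R →+* WittVector p R) w l) = w • D.Vinv ⟨l, L_le_Q D L T hQ hl⟩ := by
  rw [Phi, BC.lift_tmul, phi_of_mem_L D L T hc hQ hl]

lemma Phi_tmul_T (w : (WittVector p R)) {t : P} (ht : t ∈ T) :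
    Phi D L T hc hQ (BC.tmul (WittVector.frobenius : WittVector p R →+* WittVector p R) w t) = w • D.F t := by
  rw [Phi, BC.lift_tmul, phi_of_mem_T D L T hc hQ ht]

lemma Vinv_verschiebung_smul' (ξ : (WittVector p R)) (t : P) (h : verschiebung ξ • t ∈ D.Q) :
    D.Vinv ⟨verschiebung ξ • t, h⟩ = ξ • D.F t :=
  D.Vinv_verschiebung_smul ξ t

lemma Phi_surjective : Function.Surjective (Phi D L T hc hQ) := by
  rw [← LinearMap.range_eq_top, eq_top_iff, ← D.span_range_Vinv, Submodule.span_le]
  rintro _ ⟨⟨y, hy⟩, rfl⟩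
  have key : ∀ y ∈ D.Q, ∃ hy : y ∈ D.Q, D.Vinv ⟨y, hy⟩ ∈ LinearMap.range (Phi D L T hc hQ) := by
    refine Q_induction D L T hQ _ ?_ ?_ ?_
    · intro l hl
      exact ⟨L_le_Q D L T hQ hl, BC.tmul (WittVector.frobenius : WittVector p R →+* WittVector p R) 1 l, by rw [Phi_tmul_L D L T hc hQ 1 hl, one_smul]⟩
    · intro ξ t ht
      have h : verschiebung ξ • t ∈ D.Q := D.IV_smul_le (Submodule.smul_mem_smul
        (verschiebung_mem_IV p R ξ) Submodule.mem_top)
      exact ⟨h, BC.tmul (WittVector.frobenius : WittVector p R →+* WittVector p R) ξ t, by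
        rw [Phi_tmul_T D L T hc hQ ξ ht, Vinv_verschiebung_smul']⟩
    · rintro x y ⟨hx, hx'⟩ ⟨hy, hy'⟩
      refine ⟨D.Q.add_mem hx hy, ?_⟩
      have : (⟨x + y, D.Q.add_mem hx hy⟩ : D.Q) = ⟨x, hx⟩ + ⟨y, hy⟩ := rfl
      rw [this, map_add]
      exact Submodule.add_mem _ hx' hy'
  obtain ⟨_, h⟩ := key y hy
  exact h

lemma Phi_bijective (hp0 : IsNilpotent (p : R)) : Function.Bijective (Phi D L T hc hQ) := by
  have h1 : Module.Finite (WittVector p R) P := D.finite
  have h2 : Module.Projective (WittVector p R) P := D.projective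
  have h3 : Module.Finite (WittVector p R)
      (BC (WittVector.frobenius : WittVector p R →+* WittVector p R) P) := finite_BC _ P
  have h4 : Module.Projective (WittVector p R)
      (BC (WittVector.frobenius : WittVector p R →+* WittVector p R) P) := projective_BC _ P
  have h5 : Module.Flat (WittVector p R)
      (BC (WittVector.frobenius : WittVector p R →+* WittVector p R) P) :=
    Module.Flat.of_projective
  have h6 : Module.Flat (WittVector p R) P := Module.Flat.of_projective
  have hs := Phi_surjective D L T hc hQ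
  have hr : ∀ (m : Ideal (WittVector p R)) [m.IsMaximal],
      Module.rankAtStalk (BC (WittVector.frobenius : WittVector p R →+* WittVector p R) P)
        ⟨m, inferInstance⟩ = Module.rankAtStalk P ⟨m, inferInstance⟩ := by
    intro m hm
    rw [rankAtStalk_BC]
    congr 1
    apply PrimeSpectrum.ext
    exact comap_frobenius_eq_of_isMaximal hp0 m
  exact @Module.bijective_of_surjective_of_rankAtStalk_eq (WittVector p R) _
    (BC (WittVector.frobenius : WittVector p R →+* WittVector p R) P) P _ _ h3 h5 _ _ h1 h6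
    (Phi D L T hc hQ) hs hr

/-- the inverse of `Phi` -/
def Psi (hp0 : IsNilpotent (p : R)) :
    P ≃ₗ[WittVector p R] BC (WittVector.frobenius : WittVector p R →+* WittVector p R) P :=
  (LinearEquiv.ofBijective (Phi D L T hc hQ) (Phi_bijective D L T hc hQ hp0)).symm

lemma Psi_smul_Vinv (hp0 : IsNilpotent (p : R)) (w : WittVector p R) {l : P} (hl : l ∈ L) :
    Psi D L T hc hQ hp0 (w • D.Vinv ⟨l, L_le_Q D L T hQ hl⟩) = BC.tmul _ w l := by
  rw [Psi, LinearEquiv.symm_apply_eq, LinearEquiv.ofBijective_apply, Phi_tmul_L D L T hc hQ w hl]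

lemma Psi_smul_F (hp0 : IsNilpotent (p : R)) (w : WittVector p R) {t : P} (ht : t ∈ T) :
    Psi D L T hc hQ hp0 (w • D.F t) = BC.tmul _ w t := by
  rw [Psi, LinearEquiv.symm_apply_eq, LinearEquiv.ofBijective_apply, Phi_tmul_T D L T hc hQ w ht]

/-- the operator `V^#` -/
def Vsharp (hp0 : IsNilpotent (p : R)) :
    P →ₗ[WittVector p R] BC (WittVector.frobenius : WittVector p R →+* WittVector p R) P :=
  (BC.map (WittVector.frobenius : WittVector p R →+* WittVector p R)
    (prL L T hc + (p : WittVector p R) • prT L T hc)) ∘ₗ (Psi D L T hc hQ hp0).toLinearMap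

lemma Vsharp_smul_Vinv_L (hp0 : IsNilpotent (p : R)) (w : WittVector p R) {l : P} (hl : l ∈ L) :
    Vsharp D L T hc hQ hp0 (w • D.Vinv ⟨l, L_le_Q D L T hQ hl⟩) = BC.tmul _ w l := by
  rw [Vsharp, LinearMap.comp_apply, LinearEquiv.coe_coe, Psi_smul_Vinv D L T hc hQ hp0 w hl,
    BC.map_tmul, LinearMap.add_apply, LinearMap.smul_apply, prL_of_mem_L L T hc hl,
    prT_of_mem_L L T hc hl, smul_zero, add_zero]

lemma Vsharp_smul_F_T (hp0 : IsNilpotent (p : R)) (w : WittVector p R) {t : P} (ht : t ∈ T) :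
    Vsharp D L T hc hQ hp0 (w • D.F t) = BC.tmul _ (w * p) t := by
  rw [Vsharp, LinearMap.comp_apply, LinearEquiv.coe_coe, Psi_smul_F D L T hc hQ hp0 w ht,
    BC.map_tmul, LinearMap.add_apply, LinearMap.smul_apply, prL_of_mem_T L T hc ht,
    prT_of_mem_T L T hc ht, zero_add, ← BC.tmul_mul_apply, map_natCast]

theorem isVSharp_Vsharp (hp0 : IsNilpotent (p : R)) :
    IsVSharp D (Vsharp D L T hc hQ hp0) := by
  have hVinv : ∀ y ∈ D.Q, ∃ hy : y ∈ D.Q, ∀ w : WittVector p R,
      Vsharp D L T hc hQ hp0 (w • D.Vinv ⟨y, hy⟩) = BC.tmul _ w y := by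
    refine Q_induction D L T hQ _ ?_ ?_ ?_
    · intro l hl
      exact ⟨L_le_Q D L T hQ hl, fun w => Vsharp_smul_Vinv_L D L T hc hQ hp0 w hl⟩
    · intro ξ t ht
      have h : verschiebung ξ • t ∈ D.Q := D.IV_smul_le (Submodule.smul_mem_smul
        (verschiebung_mem_IV p R ξ) Submodule.mem_top)
      refine ⟨h, fun w => ?_⟩
      rw [Vinv_verschiebung_smul', smul_smul, Vsharp_smul_F_T D L T hc hQ hp0 _ ht,
        ← BC.tmul_mul_apply, frobenius_verschiebung, mul_assoc]
    · rintro x y ⟨hx, hx'⟩ ⟨hy, hy'⟩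
      refine ⟨D.Q.add_mem hx hy, fun w => ?_⟩
      have : (⟨x + y, D.Q.add_mem hx hy⟩ : D.Q) = ⟨x, hx⟩ + ⟨y, hy⟩ := rfl
      rw [this, map_add, smul_add, map_add, hx' w, hy' w, BC.tmul_add]
  constructor
  · intro w x
    have hx := prL_add_prT L T hc x
    set l := prL L T hc x with hl
    set t := prT L T hc x with ht
    have hlL : l ∈ L := prL_mem L T hc x
    have htT : t ∈ T := prT_mem L T hc x
    have hF : D.F x = (p : WittVector p R) • D.Vinv ⟨l, L_le_Q D L T hQ hlL⟩ + D.F t := by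
      rw [← hx, map_add]
      congr 1
      exact F_eq_smul_Vinv D ⟨l, L_le_Q D L T hQ hlL⟩
    rw [hF, smul_add, smul_smul, map_add, Vsharp_smul_Vinv_L D L T hc hQ hp0 _ hlL,
      Vsharp_smul_F_T D L T hc hQ hp0 _ htT, ← BC.tmul_add, hx, BC.smul_tmul, mul_comm]
  · intro w y
    obtain ⟨_, h⟩ := hVinv y y.2
    exact h w

end Construction

end Groth.Agent.Lib.Helper16.ZW
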