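import Mathlib
import Groth.Agent.Lib.Helper16.ZW1
import Groth.Prelude.Def_Disp2

/-!
# Zink displays: composition law for iterates of V# and divisibility (helper16)
-/

set_option autoImplicit false
universe u v

noncomputable section

namespace Groth.Agent.Lib.Helper16.ZW
open WittVector Function Dieu
open Groth.Agent.Lib.Helper8.Witt

section General

variable {A : Type u} [CommRing A] {P : Type v} [AddCommGroup P] [Module A P]

/-- push followed by re-indexing: `v ⊗_h z ↦ g v ⊗_{gh} z` -/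
def pushc (g h gh : A →+* A) (e : g.comp h = gh) (z : BC h P) : BC gh P :=
  BC.castHom e (BC.push h g z)

@[simp] lemma pushc_tmul (g h gh : A →+* A) (e : g.comp h = gh) (v : A) (z : P) :
    pushc g h gh e (BC.tmul h v z) = BC.tmul gh (g v) z := by
  simp [pushc]

@[simp] lemma pushc_add (g h gh : A →+* A) (e : g.comp h = gh) (z w : BC h P) :
    pushc g h gh e (z + w) = pushc g h gh e z + pushc g h gh e w := by
  simp [pushc]

@[simp] lemma pushc_zero (g h gh : A →+* A) (e : g.comp h = gh) :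
    pushc g h gh e (0 : BC h P) = 0 := by
  simp [pushc]

@[simp] lemma pushc_smul (g h gh : A →+* A) (e : g.comp h = gh) (v : A) (z : BC h P) :
    pushc g h gh e (v • z) = g v • pushc g h gh e z := by
  simp [pushc]

/-- the twisted composite: `u ⊗_g y ↦ u • pushc (β y)` -/
def Tc (g h gh : A →+* A) (e : g.comp h = gh) (β : P →ₗ[A] BC h P) : BC g P →ₗ[A] BC gh P :=
  (BC.castHom e).comp ((BC.lift g (BC.push h g)).comp (BC.map g β))

@[simp] lemma Tc_tmul (g h gh : A →+* A) (e : g.comp h = gh) (β : P →ₗ[A] BC h P) (u : A) (y : P) :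
    Tc g h gh e β (BC.tmul g u y) = u • pushc g h gh e (β y) := by
  simp [Tc, pushc]

lemma pushc_pushc (g h k gh hk ghk : A →+* A) (e₁ : g.comp h = gh) (e₂ : h.comp k = hk)
    (e₃ : gh.comp k = ghk) (e₄ : g.comp hk = ghk) (η : BC k P) :
    pushc gh k ghk e₃ η = pushc g hk ghk e₄ (pushc h k hk e₂ η) := by
  induction η using BC.induction_on k with
  | zero => simp
  | tmul b x => subst e₁; simp
  | add z₁ z₂ h₁ h₂ => simp [h₁, h₂]

lemma Tc_pushc (g h k gh hk ghk : A →+* A) (e₁ : g.comp h = gh) (e₂ : h.comp k = hk)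
    (e₃ : gh.comp k = ghk) (e₄ : g.comp hk = ghk) (γ : P →ₗ[A] BC k P) (ξ : BC h P) :
    Tc gh k ghk e₃ γ (pushc g h gh e₁ ξ) = pushc g hk ghk e₄ (Tc h k hk e₂ γ ξ) := by
  induction ξ using BC.induction_on h with
  | zero => simp
  | tmul b x =>
    simp only [pushc_tmul, Tc_tmul, pushc_smul]
    rw [pushc_pushc g h k gh hk ghk e₁ e₂ e₃ e₄]
  | add z₁ z₂ h₁ h₂ => simp [h₁, h₂]

theorem Tc_assoc (g h k gh hk ghk : A →+* A) (e₁ : g.comp h = gh) (e₂ : h.comp k = hk)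
    (e₃ : gh.comp k = ghk) (e₄ : g.comp hk = ghk) (β : P →ₗ[A] BC h P) (γ : P →ₗ[A] BC k P) :
    (Tc gh k ghk e₃ γ).comp (Tc g h gh e₁ β) = Tc g hk ghk e₄ ((Tc h k hk e₂ γ).comp β) := by
  apply BC.ext
  intro x
  simp only [LinearMap.comp_apply, Tc_tmul, one_smul]
  exact Tc_pushc g h k gh hk ghk e₁ e₂ e₃ e₄ γ (β x)

lemma Tc_comp_castHom (g g' h gh : A →+* A) (e₀ : g = g') (e : g'.comp h = gh) (e' : g.comp h = gh)
    (β : P →ₗ[A] BC h P) :
    (Tc g' h gh e β).comp (BC.castHom e₀) = Tc g h gh e' β := by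
  subst e₀
  rfl

lemma Tc_assoc_apply (g h k gh hk ghk : A →+* A) (e₁ : g.comp h = gh) (e₂ : h.comp k = hk)
    (e₃ : gh.comp k = ghk) (e₄ : g.comp hk = ghk) (β : P →ₗ[A] BC h P) (γ : P →ₗ[A] BC k P)
    (ξ : BC g P) :
    Tc gh k ghk e₃ γ (Tc g h gh e₁ β ξ) = Tc g hk ghk e₄ ((Tc h k hk e₂ γ).comp β) ξ := by
  rw [← Tc_assoc g h k gh hk ghk e₁ e₂ e₃ e₄ β γ]
  rfl

lemma Tc_castHom_apply (g g' h gh : A →+* A) (e₀ : g = g') (e : g'.comp h = gh)
    (e' : g.comp h = gh) (β : P →ₗ[A] BC h P) (ξ : BC g P) :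
    Tc g' h gh e β (BC.castHom e₀ ξ) = Tc g h gh e' β ξ := by
  subst e₀
  rfl

/-- divisibility is preserved, with the ideal transported along `g` -/
lemma pushc_mem (g h gh : A →+* A) (e : g.comp h = gh) (𝔟 : Ideal A) (z : BC h P)
    (hz : z ∈ 𝔟 • (⊤ : Submodule A (BC h P))) :
    pushc g h gh e z ∈ (𝔟.map g) • (⊤ : Submodule A (BC gh P)) := by
  refine Submodule.smul_induction_on hz (fun r hr m _ => ?_) (fun x y hx hy => ?_)
  · rw [pushc_smul]
    exact Submodule.smul_mem_smul (Ideal.mem_map_of_mem g hr) Submodule.mem_top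
  · rw [pushc_add]
    exact add_mem hx hy

lemma Tc_mem (g h gh : A →+* A) (e : g.comp h = gh) (𝔟 : Ideal A) (β : P →ₗ[A] BC h P)
    (hβ : ∀ x, β x ∈ 𝔟 • (⊤ : Submodule A (BC h P))) (ξ : BC g P) :
    Tc g h gh e β ξ ∈ (𝔟.map g) • (⊤ : Submodule A (BC gh P)) := by
  induction ξ using BC.induction_on g with
  | zero => simp
  | tmul b x =>
    rw [Tc_tmul]
    exact Submodule.smul_mem _ _ (pushc_mem g h gh e 𝔟 _ (hβ x))
  | add z₁ z₂ h₁ h₂ =>
    rw [map_add]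
    exact add_mem h₁ h₂

lemma Tc_mem_mul (g h gh : A →+* A) (e : g.comp h = gh) (𝔞 𝔟 : Ideal A) (β : P →ₗ[A] BC h P)
    (hβ : ∀ x, β x ∈ 𝔟 • (⊤ : Submodule A (BC h P))) (ξ : BC g P)
    (hξ : ξ ∈ 𝔞 • (⊤ : Submodule A (BC g P))) :
    Tc g h gh e β ξ ∈ (𝔞 * 𝔟.map g) • (⊤ : Submodule A (BC gh P)) := by
  refine Submodule.smul_induction_on hξ (fun r hr m _ => ?_) (fun x y hx hy => ?_)
  · rw [map_smul, Submodule.mul_smul]
    exact Submodule.smul_mem_smul hr (Tc_mem g h gh e 𝔟 β hβ m)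
  · rw [map_add]
    exact add_mem hx hy

end General

section Witt

variable {p : ℕ} [hp : Fact p.Prime] {R : Type u} [CommRing R]
variable {P : Type v} [AddCommGroup P] [Module (WittVector p R) P]

local notation "σ" => (WittVector.frobenius : WittVector p R →+* WittVector p R)

lemma vSharpPow_succ_apply' (Vs : P →ₗ[WittVector p R] BC σ P) (n : ℕ) (x : P) :
    vSharpPow Vs (n + 1) x =
      Tc σ (σ ^ (n + 1)) (σ ^ (n + 1 + 1)) (comp_pow_eq_pow_succ σ (n + 1)) (vSharpPow Vs n) (Vs x) := by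
  rw [vSharpPow_succ_apply]
  rfl

lemma frob_pow_comp (a b c : ℕ) (hc : c = a + b) : (σ ^ a).comp (σ ^ b) = σ ^ c := by
  subst hc
  rw [pow_add]; rfl

theorem vSharpPow_comp_apply (Vs : P →ₗ[WittVector p R] BC σ P) (a b c : ℕ) (hc : c = a + b + 1)
    (e : (σ ^ (a + 1)).comp (σ ^ (b + 1)) = σ ^ (c + 1)) (x : P) :
    vSharpPow Vs c x = Tc (σ ^ (a + 1)) (σ ^ (b + 1)) (σ ^ (c + 1)) e (vSharpPow Vs b)
      (vSharpPow Vs a x) := by
  induction a generalizing c x with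
  | zero =>
    obtain rfl : c = b + 1 := by omega
    rw [vSharpPow_succ_apply', vSharpPow_zero_apply]
    exact (Tc_castHom_apply σ (σ ^ (0 + 1)) (σ ^ (b + 1)) (σ ^ (b + 1 + 1))
      (pow_one σ).symm e (comp_pow_eq_pow_succ σ (b + 1)) (vSharpPow Vs b) (Vs x)).symm
  | succ a ih =>
    obtain rfl : c = (a + b + 1) + 1 := by omega
    have e₂ : (σ ^ (a + 1)).comp (σ ^ (b + 1)) = σ ^ (a + b + 1 + 1) :=
      frob_pow_comp (a + 1) (b + 1) _ (by omega)
    have hlin : vSharpPow Vs (a + b + 1) =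
        (Tc (σ ^ (a + 1)) (σ ^ (b + 1)) (σ ^ (a + b + 1 + 1)) e₂ (vSharpPow Vs b)).comp
          (vSharpPow Vs a) := LinearMap.ext fun y => ih (a + b + 1) rfl e₂ y
    rw [vSharpPow_succ_apply' Vs a x,
      Tc_assoc_apply σ (σ ^ (a + 1)) (σ ^ (b + 1)) (σ ^ (a + 1 + 1)) (σ ^ (a + b + 1 + 1))
        (σ ^ (a + b + 1 + 1 + 1)) (comp_pow_eq_pow_succ σ (a + 1)) e₂ e
        (comp_pow_eq_pow_succ σ (a + b + 1 + 1)), ← hlin, vSharpPow_succ_apply']

lemma frob_pow_natCast (j : ℕ) : (σ ^ j) (p : WittVector p R) = (p : WittVector p R) :=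
  map_natCast (σ ^ j) p

lemma map_frob_pow_span_p (j : ℕ) :
    (Ideal.span {(p : WittVector p R)}).map (σ ^ j) = Ideal.span {(p : WittVector p R)} := by
  rw [Ideal.map_span, Set.image_singleton, frob_pow_natCast]

open W4c1extbt610 in
lemma map_frob_IV_le :
    (IV p R).map σ ≤ Ideal.span {(p : WittVector p R)} := by
  rw [Ideal.map_le_iff_le_comap]
  intro a ha
  obtain ⟨ξ, rfl⟩ := (mem_IV_iff a).1 ha
  rw [Ideal.mem_comap, WittVector.frobenius_verschiebung]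
  exact Ideal.mul_mem_left _ _ (Ideal.subset_span rfl)

lemma map_frob_span_p :
    (Ideal.span {(p : WittVector p R)}).map σ = Ideal.span {(p : WittVector p R)} := by
  rw [Ideal.map_span, Set.image_singleton]
  congr 2
  exact map_natCast σ p

open W4c1extbt610 in
lemma map_frob_IV_sup_le :
    (IV p R ⊔ Ideal.span {(p : WittVector p R)}).map σ ≤ Ideal.span {(p : WittVector p R)} := by
  rw [Ideal.map_sup]
  exact sup_le map_frob_IV_le map_frob_span_p.le

/-- `V^{(M+1)#}` is divisible by `p^(k+1)` for suitable `M` -/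
theorem exists_vSharpPow_mem_pow (Vs : P →ₗ[WittVector p R] BC σ P) (hnil : IsVNilpotent Vs) (k : ℕ) :
    ∃ M : ℕ, ∀ x : P, vSharpPow Vs M x ∈
      (Ideal.span {(p : WittVector p R)} ^ (k + 1)) •
        (⊤ : Submodule (WittVector p R) (BC (σ ^ (M + 1)) P)) := by
  obtain ⟨n₀, h₀⟩ := hnil
  have h1 : ∀ x : P, vSharpPow Vs (n₀ + 1) x ∈
      (Ideal.span {(p : WittVector p R)}) •
        (⊤ : Submodule (WittVector p R) (BC (σ ^ (n₀ + 1 + 1)) P)) := by
    intro x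
    rw [vSharpPow_succ_apply']
    have h := Tc_mem σ (σ ^ (n₀ + 1)) (σ ^ (n₀ + 1 + 1)) (comp_pow_eq_pow_succ σ (n₀ + 1)) _
      (vSharpPow Vs n₀) h₀ (Vs x)
    exact Submodule.smul_mono_left map_frob_IV_sup_le h
  induction k with
  | zero =>
    refine ⟨n₀ + 1, fun x => ?_⟩
    rw [zero_add, pow_one]
    exact h1 x
  | succ k ih =>
    obtain ⟨M, hM⟩ := ih
    refine ⟨M + (n₀ + 1) + 1, fun x => ?_⟩
    rw [vSharpPow_comp_apply Vs M (n₀ + 1) (M + (n₀ + 1) + 1) rfl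
      (frob_pow_comp (M + 1) (n₀ + 1 + 1) _ (by omega))]
    have := Tc_mem_mul (σ ^ (M + 1)) (σ ^ (n₀ + 1 + 1)) (σ ^ (M + (n₀ + 1) + 1 + 1))
      (frob_pow_comp (M + 1) (n₀ + 1 + 1) _ (by omega)) _ _ (vSharpPow Vs (n₀ + 1)) h1
      (vSharpPow Vs M x) (hM x)
    rw [map_frob_pow_span_p, ← pow_succ] at this
    exact this

theorem exists_vSharpPow_mem_ker_truncate (hp0 : IsNilpotent (p : R))
    (Vs : P →ₗ[WittVector p R] BC σ P) (hnil : IsVNilpotent Vs) (n : ℕ) :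
    ∃ N : ℕ, ∀ x : P, vSharpPow Vs N x ∈
      (RingHom.ker (WittVector.truncate (p := p) (R := R) n)) •
        (⊤ : Submodule (WittVector p R) (BC (σ ^ (N + 1)) P)) := by
  obtain ⟨N₀, hN₀⟩ := hp0
  obtain ⟨M, hM⟩ := exists_vSharpPow_mem_pow Vs hnil (N₀ * n)
  refine ⟨M, fun x => Submodule.smul_mono_left ?_ (hM x)⟩
  rw [Ideal.span_singleton_pow, Ideal.span_singleton_le_iff_mem, pow_succ]
  refine Ideal.mul_mem_right _ _ ?_
  rw [← inV_iff_mem_ker]
  exact inV_pow_mul_of_pow_eq_zero hN₀ n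

end Witt

end Groth.Agent.Lib.Helper16.ZW
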