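import Mathlib
import Groth.Agent.Lib.Helper16.ZW4

/-!
# Dieudonné modules over a perfect ring as displays: V# = 1 ⊗ V, nilpotence iff V topologically nilpotent (helper16)
-/

set_option autoImplicit false
universe u v

noncomputable section

namespace Groth.Agent.Lib.Helper16.ZW
open WittVector Function Dieu TensorProduct
open Groth.Agent.Lib.Helper8.Witt

section General

variable {A : Type u} [CommRing A] {P : Type v} [AddCommGroup P] [Module A P]

/-- the bi-additive map underlying `rho` -/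
def rhoBil (g ginv : A →+* A) : Res g →+ P →+ P where
  toFun u :=
    { toFun := fun y => ginv u.val • y
      map_zero' := by simp
      map_add' := fun y z => by rw [smul_add] }
  map_zero' := by
    ext y
    simp
  map_add' u v := by
    ext y
    simp [add_smul]

/-- for a twist `g` with a retraction `ginv`, the map `BC g P → P`, `b ⊗ x ↦ ginv b • x` -/
def rho (g ginv : A →+* A) (hinv : ∀ a, ginv (g a) = a) : BC g P →+ P :=
  (TensorProduct.liftAddHom (rhoBil (P := P) g ginv) (by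
    intro a u y
    change ginv (g a * u.val) • y = ginv u.val • (a • y)
    rw [map_mul, hinv, mul_comm, mul_smul]) : Res g ⊗[A] P →+ P)

@[simp] lemma rho_tmul (g ginv : A →+* A) (hinv : ∀ a, ginv (g a) = a) (b : A) (x : P) :
    rho g ginv hinv (BC.tmul g b x) = ginv b • x := rfl

lemma rho_smul (g ginv : A →+* A) (hinv : ∀ a, ginv (g a) = a) (c : A) (z : BC g P) :
    rho g ginv hinv (c • z) = ginv c • rho g ginv hinv z := by
  induction z using BC.induction_on g with
  | zero => simp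
  | tmul b x => simp [mul_smul]
  | add z₁ z₂ h₁ h₂ => rw [smul_add, map_add, map_add, h₁, h₂, smul_add]

lemma rho_mem (g ginv : A →+* A) (hinv : ∀ a, ginv (g a) = a) (𝔟 : Ideal A)
    (z : BC g P) (hz : z ∈ 𝔟 • (⊤ : Submodule A (BC g P))) :
    rho g ginv hinv z ∈ (𝔟.map ginv) • (⊤ : Submodule A P) := by
  refine Submodule.smul_induction_on hz (fun r hr m _ => ?_) (fun x y hx hy => ?_)
  · rw [rho_smul]
    exact Submodule.smul_mem_smul (Ideal.mem_map_of_mem ginv hr) Submodule.mem_top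
  · rw [map_add]
    exact add_mem hx hy

lemma iota_mem (g : A →+* A) (𝔟 : Ideal A) (z : P) (hz : z ∈ 𝔟 • (⊤ : Submodule A P)) :
    BC.tmul g 1 z ∈ (𝔟.map g) • (⊤ : Submodule A (BC g P)) := by
  refine Submodule.smul_induction_on hz (fun r hr m _ => ?_) (fun x y hx hy => ?_)
  · rw [← BC.tmul_apply_eq, BC.tmul_eq_smul_tmul_one]
    exact Submodule.smul_mem_smul (Ideal.mem_map_of_mem g hr) Submodule.mem_top
  · rw [BC.tmul_add]
    exact add_mem hx hy

end General

section Perfect

variable {p : ℕ} [hp : Fact p.Prime] {k : Type u} [CommRing k] [CharP k p] [PerfectRing k p]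
variable {M : Type v} [AddCommGroup M] [Module (WittVector p k) M]

local notation "σ" => (WittVector.frobenius : WittVector p k →+* WittVector p k)
local notation "τ" => (RingEquiv.symm (WittVector.frobeniusEquiv p k) : WittVector p k →+* WittVector p k)

lemma tau_sigma (a : WittVector p k) : τ (σ a) = a :=
  (WittVector.frobeniusEquiv p k).symm_apply_apply a

lemma sigma_tau (a : WittVector p k) : σ (τ a) = a :=
  (WittVector.frobeniusEquiv p k).apply_symm_apply a

lemma tau_pow_sigma_pow (n : ℕ) (a : WittVector p k) : (τ ^ n) ((σ ^ n) a) = a := by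
  have h : Function.LeftInverse (τ) (σ) := fun x => tau_sigma x
  have h2 := (h.iterate n) a
  have e1 : (σ ^ n) a = (σ)^[n] a := by rw [RingHom.coe_pow]
  have e2 : (τ ^ n) ((σ)^[n] a) = (τ)^[n] ((σ)^[n] a) := by rw [RingHom.coe_pow]
  rw [e1, e2]
  exact h2

lemma tau_pow_natCast (n : ℕ) : (τ ^ n) (p : WittVector p k) = (p : WittVector p k) :=
  map_natCast (τ ^ n) p

omit [CharP k p] [PerfectRing k p] in
lemma sigma_natCast : σ (p : WittVector p k) = (p : WittVector p k) :=
  map_natCast σ p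

lemma tau_natCast : τ (p : WittVector p k) = (p : WittVector p k) :=
  map_natCast τ p

lemma map_tau_pow_span_p (n : ℕ) :
    (Ideal.span {(p : WittVector p k)}).map (τ ^ n) = Ideal.span {(p : WittVector p k)} := by
  rw [Ideal.map_span, Set.image_singleton, tau_pow_natCast]

open W4c1extbt610 in
lemma IV_le_span_p : IV p k ≤ Ideal.span {(p : WittVector p k)} := by
  intro a ha
  obtain ⟨ξ, rfl⟩ := (mem_IV_iff a).1 ha
  have h1 : verschiebung ξ = verschiebung (frobenius (τ ξ)) := by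
    congr 1
    exact (sigma_tau ξ).symm
  rw [h1, WittVector.verschiebung_frobenius]
  exact Ideal.mul_mem_left _ _ (Ideal.subset_span rfl)

/-- the candidate `V#`: `x ↦ 1 ⊗ V x` -/
def VsD (Dm : DieuMod p k M) : M →ₗ[WittVector p k] BC σ M where
  toFun x := BC.tmul σ 1 (Dm.V x)
  map_add' x y := by rw [map_add, BC.tmul_add]
  map_smul' w x := by
    rw [RingHom.id_apply, Dm.V.map_smulₛₗ, ← BC.tmul_apply_eq, sigma_tau, BC.tmul_eq_smul_tmul_one]

lemma VsD_apply (Dm : DieuMod p k M) (x : M) : VsD Dm x = BC.tmul σ 1 (Dm.V x) := rfl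

theorem isVSharp_VsD (Dm : DieuMod p k M) (D : W4c1extbt610.Display3n p k M)
    (hF : D.F = Dm.F) (hQ : ∀ x : M, x ∈ D.Q ↔ x ∈ Set.range Dm.V)
    (hV : ∀ (m : M) (h : Dm.V m ∈ D.Q), D.Vinv ⟨Dm.V m, h⟩ = m) :
    IsVSharp D (VsD Dm) := by
  constructor
  · intro w x
    rw [map_smul, VsD_apply, hF, Dm.V_F, ← BC.tmul_apply_eq, sigma_natCast, BC.smul_tmul,
      BC.smul_tmul, mul_comm]
  · intro w y
    obtain ⟨m, hm⟩ := (hQ y).1 y.2
    have hmem : Dm.V m ∈ D.Q := by rw [hm]; exact y.2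
    have hy : y = ⟨Dm.V m, hmem⟩ := Subtype.ext hm.symm
    rw [hy, hV m hmem, map_smul, VsD_apply, BC.smul_tmul, mul_one]

omit [CharP k p] [PerfectRing k p] in
theorem isVSharp_unique (D : W4c1extbt610.Display3n p k M) (Vs Vs' : M →ₗ[WittVector p k] BC σ M)
    (h : IsVSharp D Vs) (h' : IsVSharp D Vs') : Vs = Vs' := by
  refine LinearMap.ext_on D.span_range_Vinv ?_
  rintro _ ⟨y, rfl⟩
  have h1 := h.app_smul_Vinv 1 y
  have h2 := h'.app_smul_Vinv 1 y
  rw [one_smul] at h1 h2
  rw [h1, h2]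

theorem vSharpPow_VsD (Dm : DieuMod p k M) (n : ℕ) (x : M) :
    vSharpPow (VsD Dm) n x = BC.tmul (σ ^ (n + 1)) 1 ((⇑Dm.V)^[n + 1] x) := by
  induction n generalizing x with
  | zero =>
    rw [vSharpPow_zero_apply, VsD_apply, BC.castHom_tmul]
    rfl
  | succ n ih =>
    rw [vSharpPow_succ_apply', VsD_apply, Tc_tmul, one_smul, ih, pushc_tmul, map_one,
      Function.iterate_succ_apply (⇑Dm.V) (n + 1) x]

lemma V_iterate_smul (Dm : DieuMod p k M) (n : ℕ) (r : WittVector p k) (m : M) :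
    (⇑Dm.V)^[n] (r • m) = (τ ^ n) r • (⇑Dm.V)^[n] m := by
  have e : (τ ^ n) r = (τ)^[n] r := by rw [RingHom.coe_pow]
  rw [e]
  induction n with
  | zero => rfl
  | succ n ih =>
    have e' : (τ ^ n) r = (τ)^[n] r := by rw [RingHom.coe_pow]
    rw [Function.iterate_succ_apply', Function.iterate_succ_apply', Function.iterate_succ_apply',
      ih e', Dm.V.map_smulₛₗ]

lemma V_iterate_mem (Dm : DieuMod p k M) (N : ℕ)
    (hN : ∀ x : M, (⇑Dm.V)^[N] x ∈
      Ideal.span {(p : WittVector p k)} • (⊤ : Submodule (WittVector p k) M)) (e : ℕ) (z : M)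
    (hz : z ∈ (Ideal.span {(p : WittVector p k)} ^ e) • (⊤ : Submodule (WittVector p k) M)) :
    (⇑Dm.V)^[N] z ∈
      (Ideal.span {(p : WittVector p k)} ^ (e + 1)) • (⊤ : Submodule (WittVector p k) M) := by
  refine Submodule.smul_induction_on hz (fun r hr m _ => ?_) (fun x y hx hy => ?_)
  · rw [V_iterate_smul, pow_succ, Submodule.mul_smul]
    refine Submodule.smul_mem_smul ?_ (hN m)
    have := Ideal.mem_map_of_mem (τ ^ N) hr
    rwa [Ideal.map_pow, map_tau_pow_span_p] at this
  · rw [iterate_map_add]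
    exact add_mem hx hy

lemma V_iterate_mul_mem (Dm : DieuMod p k M) (N : ℕ)
    (hN : ∀ x : M, (⇑Dm.V)^[N] x ∈
      Ideal.span {(p : WittVector p k)} • (⊤ : Submodule (WittVector p k) M)) (e : ℕ) (m : M) :
    (⇑Dm.V)^[N * e] m ∈
      (Ideal.span {(p : WittVector p k)} ^ e) • (⊤ : Submodule (WittVector p k) M) := by
  induction e with
  | zero =>
    rw [pow_zero, Ideal.one_eq_top, Submodule.top_smul]
    trivial
  | succ e ih =>
    rw [Nat.mul_succ, Nat.add_comm (N * e) N, Function.iterate_add_apply]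
    exact V_iterate_mem Dm N hN e _ ih

theorem isDisplay_iff_VTopNilp (Dm : DieuMod p k M) (D : W4c1extbt610.Display3n p k M)
    (hF : D.F = Dm.F) (hQ : ∀ x : M, x ∈ D.Q ↔ x ∈ Set.range Dm.V)
    (hV : ∀ (m : M) (h : Dm.V m ∈ D.Q), D.Vinv ⟨Dm.V m, h⟩ = m) :
    IsDisplay D ↔ Dm.VTopNilp := by
  have hsharp := isVSharp_VsD Dm D hF hQ hV
  constructor
  · rintro ⟨Vs', hVs', n₀, hn₀⟩
    obtain rfl : Vs' = VsD Dm := isVSharp_unique D _ _ hVs' hsharp
    have hN : ∀ x : M, (⇑Dm.V)^[n₀ + 1] x ∈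
        Ideal.span {(p : WittVector p k)} • (⊤ : Submodule (WittVector p k) M) := by
      intro x
      have h1 := hn₀ x
      rw [vSharpPow_VsD] at h1
      have h2 : BC.tmul (σ ^ (n₀ + 1)) 1 ((⇑Dm.V)^[n₀ + 1] x) ∈
          Ideal.span {(p : WittVector p k)} •
            (⊤ : Submodule (WittVector p k) (BC (σ ^ (n₀ + 1)) M)) :=
        Submodule.smul_mono_left (sup_le IV_le_span_p le_rfl) h1
      have h3 := rho_mem (σ ^ (n₀ + 1)) (τ ^ (n₀ + 1)) (tau_pow_sigma_pow (n₀ + 1)) _ _ h2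
      rw [rho_tmul, map_one, one_smul, map_tau_pow_span_p] at h3
      exact h3
    intro e
    exact ⟨(n₀ + 1) * e, fun m => V_iterate_mul_mem Dm (n₀ + 1) hN e m⟩
  · intro h
    obtain ⟨n, hn⟩ := h 1
    refine ⟨VsD Dm, hsharp, n, fun x => ?_⟩
    rw [vSharpPow_VsD, Function.iterate_succ_apply]
    have h1 := hn (Dm.V x)
    rw [pow_one] at h1
    have h2 := iota_mem (σ ^ (n + 1)) _ _ h1
    rw [map_frob_pow_span_p] at h2
    exact Submodule.smul_mono_left le_sup_right h2

end Perfect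

end Groth.Agent.Lib.Helper16.ZW
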