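import Mathlib
import Groth.Prelude.Def_Dieu

/-!
# Toolkit for the scalar extension Dieu.BC along a ring map: functoriality, functionals, dual bases, semilinear base change (helper16)
-/

set_option autoImplicit false
universe u v

noncomputable section

namespace Groth.Agent.Lib.Helper16.ZW
open Function Dieu TensorProduct

section General

variable {A : Type u} {B : Type u} [CommRing A] [CommRing B] (φ : A →+* B)
variable {P : Type v} [AddCommGroup P] [Module A P]
variable {P' : Type v} [AddCommGroup P'] [Module A P']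

/-! ### functoriality of `BC.map` -/

lemma BC_map_id : BC.map φ (LinearMap.id : P →ₗ[A] P) = LinearMap.id := by
  apply BC.ext
  intro x
  rw [BC.map_tmul]
  rfl

lemma BC_map_comp {P'' : Type v} [AddCommGroup P''] [Module A P'']
    (f : P' →ₗ[A] P'') (g : P →ₗ[A] P') :
    BC.map φ (f ∘ₗ g) = BC.map φ f ∘ₗ BC.map φ g := by
  apply BC.ext
  intro x
  rw [BC.map_tmul, LinearMap.comp_apply, LinearMap.comp_apply, BC.map_tmul, BC.map_tmul]

lemma BC_map_add (f g : P →ₗ[A] P') : BC.map φ (f + g) = BC.map φ f + BC.map φ g := by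
  apply BC.ext
  intro x
  rw [BC.map_tmul, LinearMap.add_apply, LinearMap.add_apply, BC.map_tmul, BC.map_tmul, BC.tmul_add]

lemma BC_map_zero : BC.map φ (0 : P →ₗ[A] P') = 0 := by
  apply BC.ext
  intro x
  rw [BC.map_tmul, LinearMap.zero_apply, LinearMap.zero_apply, BC.tmul_zero]

lemma BC_tmul_sum {ι : Type*} (s : Finset ι) (b : B) (x : ι → P) :
    BC.tmul φ b (∑ i ∈ s, x i) = ∑ i ∈ s, BC.tmul φ b (x i) := by
  classical
  induction s using Finset.induction_on with
  | empty => simp
  | insert a s ha ih => rw [Finset.sum_insert ha, Finset.sum_insert ha, BC.tmul_add, ih]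

/-- `1 ⊗ (a • x) = φ a • (1 ⊗ x)` -/
lemma BC_tmul_one_smul (a : A) (x : P) : BC.tmul φ 1 (a • x) = φ a • BC.tmul φ 1 x := by
  rw [← BC.tmul_apply_eq, BC.tmul_eq_smul_tmul_one]

/-! ### base change of a linear functional -/

/-- base change of a linear functional `μ : P → A` to `BC φ P → B`, `w ⊗ x ↦ w * φ (μ x)` -/
def funB (μ : P →ₗ[A] A) : BC φ P →ₗ[B] B :=
  BC.lift φ ((semilinearOfRingHom φ).comp μ)

@[simp] lemma funB_tmul (μ : P →ₗ[A] A) (w : B) (x : P) :
    funB φ μ (BC.tmul φ w x) = w * φ (μ x) := by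
  rw [funB, BC.lift_tmul, LinearMap.comp_apply, semilinearOfRingHom_apply, smul_eq_mul]

/-- a functional maps `I • ⊤` into `I` -/
lemma functional_mem (I : Ideal A) (μ : P →ₗ[A] A) {x : P}
    (hx : x ∈ I • (⊤ : Submodule A P)) : μ x ∈ I := by
  refine Submodule.smul_induction_on hx (fun r hr m _ => ?_) (fun x y hx hy => ?_)
  · rw [map_smul, smul_eq_mul]
    exact I.mul_mem_right _ hr
  · rw [map_add]
    exact add_mem hx hy

/-! ### dual bases -/

lemma exists_dual_basis [Module.Finite A P] [Module.Projective A P] :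
    ∃ (n : ℕ) (e : Fin n → P) (lam : Fin n → (P →ₗ[A] A)), ∀ x, x = ∑ i, lam i x • e i := by
  obtain ⟨n, f, hf⟩ := Module.Finite.exists_fin' A P
  obtain ⟨h, hh⟩ := Module.projective_lifting_property f LinearMap.id hf
  refine ⟨n, fun i => f fun j => if i = j then 1 else 0, fun i => LinearMap.proj i ∘ₗ h, fun x => ?_⟩
  have h1 : f (h x) = x := LinearMap.congr_fun hh x
  have h2 := LinearMap.pi_apply_eq_sum_univ f (h x)
  rw [h1] at h2
  exact h2

/-- a dual basis of `P` base changes to a dual basis of `BC φ P` -/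
lemma dual_basis_BC {n : ℕ} (e : Fin n → P) (lam : Fin n → (P →ₗ[A] A))
    (h : ∀ x, x = ∑ i, lam i x • e i) (z : BC φ P) :
    z = ∑ i, funB φ (lam i) z • BC.tmul φ 1 (e i) := by
  induction z using BC.induction_on φ with
  | zero => simp
  | tmul w x =>
    conv_lhs => rw [h x, BC_tmul_sum]
    refine Finset.sum_congr rfl fun i _ => ?_
    rw [funB_tmul, BC.smul_tmul, mul_one, BC.tmul_mul_apply]
  | add z₁ z₂ h₁ h₂ =>
    conv_lhs => rw [h₁, h₂]
    rw [← Finset.sum_add_distrib]
    refine Finset.sum_congr rfl fun i _ => ?_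
    rw [map_add, add_smul]

lemma finite_projective_BC [Module.Finite A P] [Module.Projective A P] :
    Module.Finite B (BC φ P) ∧ Module.Projective B (BC φ P) := by
  obtain ⟨n, e, lam, h⟩ := exists_dual_basis (A := A) (P := P)
  let π : (Fin n → B) →ₗ[B] BC φ P :=
    { toFun := fun v => ∑ i, v i • BC.tmul φ 1 (e i)
      map_add' := fun v w => by
        rw [← Finset.sum_add_distrib]
        exact Finset.sum_congr rfl fun i _ => by rw [Pi.add_apply, add_smul]
      map_smul' := fun c v => by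
        rw [RingHom.id_apply, Finset.smul_sum]
        exact Finset.sum_congr rfl fun i _ => by rw [Pi.smul_apply, smul_eq_mul, mul_smul] }
  let s : BC φ P →ₗ[B] (Fin n → B) := LinearMap.pi fun i => funB φ (lam i)
  have hπs : π ∘ₗ s = LinearMap.id := by
    ext z
    exact (dual_basis_BC φ e lam h z).symm
  refine ⟨Module.Finite.of_surjective π fun z => ⟨s z, LinearMap.congr_fun hπs z⟩, ?_⟩
  exact Module.Projective.of_split s π hπs

/-! ### base change of a semilinear map -/

/-- the bi-additive map underlying `bcSemi` -/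
def bcSemiBil (g : A →+* A) (g' : B →+* B) (ψ : P →ₛₗ[g] P') : Res φ →+ P →+ BC φ P' where
  toFun u :=
    { toFun := fun y => BC.tmul φ (g' u.val) (ψ y)
      map_zero' := by simp
      map_add' := fun y z => by rw [map_add, BC.tmul_add] }
  map_zero' := by
    ext y
    simp
  map_add' u v := by
    ext y
    simp [BC.add_tmul]

/-- base change of a `g`-semilinear map along `φ` (with `φ ∘ g = g' ∘ φ`), as an additive map -/
def bcSemiAdd (g : A →+* A) (g' : B →+* B) (hc : ∀ a, φ (g a) = g' (φ a)) (ψ : P →ₛₗ[g] P') :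
    BC φ P →+ BC φ P' :=
  (TensorProduct.liftAddHom (bcSemiBil φ g g' ψ) (by
    intro a u y
    change BC.tmul φ (g' (φ a * u.val)) (ψ y) = BC.tmul φ (g' u.val) (ψ (a • y))
    rw [map_mul, ← hc, mul_comm, BC.tmul_mul_apply, ψ.map_smulₛₗ]) : Res φ ⊗[A] P →+ BC φ P')

lemma bcSemiAdd_tmul (g : A →+* A) (g' : B →+* B) (hc : ∀ a, φ (g a) = g' (φ a))
    (ψ : P →ₛₗ[g] P') (w : B) (x : P) :
    bcSemiAdd φ g g' hc ψ (BC.tmul φ w x) = BC.tmul φ (g' w) (ψ x) := rfl

/-- base change of a `g`-semilinear map along `φ`: `w ⊗ x ↦ g' w ⊗ ψ x` -/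
def bcSemi (g : A →+* A) (g' : B →+* B) (hc : ∀ a, φ (g a) = g' (φ a)) (ψ : P →ₛₗ[g] P') :
    BC φ P →ₛₗ[g'] BC φ P' where
  toFun := bcSemiAdd φ g g' hc ψ
  map_add' := map_add _
  map_smul' c z := by
    induction z using BC.induction_on φ with
    | zero => simp
    | tmul w x => rw [BC.smul_tmul, bcSemiAdd_tmul, bcSemiAdd_tmul, map_mul, BC.smul_tmul]
    | add z₁ z₂ h₁ h₂ => rw [smul_add, map_add, map_add, h₁, h₂, smul_add]

@[simp] lemma bcSemi_tmul (g : A →+* A) (g' : B →+* B) (hc : ∀ a, φ (g a) = g' (φ a))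
    (ψ : P →ₛₗ[g] P') (w : B) (x : P) :
    bcSemi φ g g' hc ψ (BC.tmul φ w x) = BC.tmul φ (g' w) (ψ x) := rfl

/-- two semilinear maps out of `BC φ P` agreeing on pure tensors are equal -/
lemma semilinear_ext_BC {N : Type*} [AddCommGroup N] [Module B N] (g' : B →+* B)
    (F₁ F₂ : BC φ P →ₛₗ[g'] N) (h : ∀ w x, F₁ (BC.tmul φ w x) = F₂ (BC.tmul φ w x)) : F₁ = F₂ := by
  ext z
  induction z using BC.induction_on φ with
  | zero => rw [map_zero, map_zero]
  | tmul w x => exact h w x
  | add z₁ z₂ h₁ h₂ => rw [map_add, map_add, h₁, h₂]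

end General

end Groth.Agent.Lib.Helper16.ZW
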