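import Mathlib
import Groth.Agent.Lib.Helper16.ZW3
import Groth.Agent.Lib.Helper16.ZW6
import Groth.Agent.Lib.Helper16.ZW7

/-!
# Zink displays: the matrix criterion for the nilpotence condition (helper16)
-/

set_option autoImplicit false
universe u v w

noncomputable section

namespace Groth.Agent.Lib.Helper16.ZW
open WittVector Function Dieu W4c1extbt610

section MatrixPart

variable {K : Type u} [CommRing K] {ιT ιL : Type w} [Fintype ιT] [Fintype ιL]
  [DecidableEq ιT] [DecidableEq ιL]

/-- the twisted product `B^{(q^{N-1})} ⋯ B^{(q)} B` -/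
def twProd (q : ℕ) (B : Matrix ιL ιL K) (N : ℕ) : Matrix ιL ιL K :=
  ((List.range N).reverse.map fun i : ℕ => B.map fun x : K => x ^ q ^ i).prod

lemma twProd_succ (q : ℕ) (B : Matrix ιL ιL K) (N : ℕ) :
    twProd q B (N + 1) = (B.map fun x : K => x ^ q ^ N) * twProd q B N := by
  unfold twProd
  rw [List.range_succ, List.reverse_append, List.reverse_singleton, List.singleton_append,
    List.map_cons, List.prod_cons]

lemma twProd_one (q : ℕ) (B : Matrix ιL ιL K) : twProd q B 1 = B := by
  rw [twProd_succ]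
  unfold twProd
  simp only [List.range_zero, List.reverse_nil, List.map_nil, List.prod_nil, mul_one, pow_zero,
    pow_one]
  ext i j
  rfl

omit [DecidableEq ιT] in
theorem matrix_criterion (q : ℕ) (hq : 0 < q) (U : Matrix (ιT ⊕ ιL) (ιT ⊕ ιL) K)
    (hU : ∀ j m, U (Sum.inl j) m = 0)
    (C : ℕ → Matrix (ιT ⊕ ιL) (ιT ⊕ ιL) K) (h0 : C 0 = U)
    (h1 : ∀ n i m, C (n + 1) i m = ∑ i', U i i' ^ (q ^ (n + 1)) * C n i' m)
    (h2 : ∀ n i m, C (n + 1) i m = ∑ i', C n i i' ^ q * U i' m) :
    (∃ n, ∀ i m, C n i m = 0) ↔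
      ∃ N : ℕ, 0 < N ∧ twProd q (Matrix.of fun k l : ιL => U (Sum.inr k) (Sum.inr l)) N = 0 := by
  have ha : ∀ n j m, C n (Sum.inl j) m = 0 := by
    intro n j m
    cases n with
    | zero => rw [h0, hU]
    | succ n =>
      rw [h1]
      refine Finset.sum_eq_zero fun i' _ => ?_
      rw [hU, zero_pow (pow_pos hq _).ne', zero_mul]
  have hb : ∀ n k l, C n (Sum.inr k) (Sum.inr l) =
      twProd q (Matrix.of fun k l : ιL => U (Sum.inr k) (Sum.inr l)) (n + 1) k l := by
    intro n
    induction n with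
    | zero =>
      intro k l
      rw [h0, twProd_one]
      rfl
    | succ n ih =>
      intro k l
      rw [h1, twProd_succ, Matrix.mul_apply, Fintype.sum_sum_type]
      have : ∑ j : ιT, U (Sum.inr k) (Sum.inl j) ^ q ^ (n + 1) * C n (Sum.inl j) (Sum.inr l) = 0 :=
        Finset.sum_eq_zero fun j _ => by rw [ha, mul_zero]
      rw [this, zero_add]
      refine Finset.sum_congr rfl fun k' _ => ?_
      rw [ih]
      rfl
  constructor
  · rintro ⟨n, hn⟩
    refine ⟨n + 1, Nat.succ_pos n, ?_⟩
    ext k l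
    rw [← hb, hn]
    rfl
  · rintro ⟨N, hN, hprod⟩
    obtain ⟨n, rfl⟩ : ∃ n, N = n + 1 := ⟨N - 1, by omega⟩
    refine ⟨n + 1, fun i m => ?_⟩
    rw [h2, Fintype.sum_sum_type]
    have e1 : ∑ j : ιT, C n i (Sum.inl j) ^ q * U (Sum.inl j) m = 0 :=
      Finset.sum_eq_zero fun j _ => by rw [hU, mul_zero]
    have e2 : ∑ k : ιL, C n i (Sum.inr k) ^ q * U (Sum.inr k) m = 0 := by
      refine Finset.sum_eq_zero fun k _ => ?_
      have : C n i (Sum.inr k) = 0 := by
        cases i with
        | inl j => exact ha n j _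
        | inr k' =>
          rw [hb, hprod]
          rfl
      rw [this, zero_pow hq.ne', zero_mul]
    rw [e1, e2, add_zero]

end MatrixPart

section Rho

variable {p : ℕ} [hp : Fact p.Prime] {R : Type u} [CommRing R]

lemma constantCoeff_eq_zero_iff' (a : WittVector p R) :
    WittVector.constantCoeff a = 0 ↔ a ∈ IV p R := by
  rw [mem_IV_iff_coeff_zero]
  rfl

/-- reduction `W(R) → R/pR` -/
def rhoK : WittVector p R →+* R ⧸ Ideal.span {(p : R)} :=
  (Ideal.Quotient.mk (Ideal.span {(p : R)})).comp WittVector.constantCoeff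

lemma rhoK_natCast : rhoK (p : WittVector p R) = 0 := by
  have h : rhoK (p : WittVector p R) = ((p : ℕ) : R ⧸ Ideal.span {(p : R)}) := map_natCast rhoK p
  rw [h]
  have h2 : ((p : ℕ) : R ⧸ Ideal.span {(p : R)}) = Ideal.Quotient.mk (Ideal.span {(p : R)}) (p : R) :=
    (map_natCast (Ideal.Quotient.mk (Ideal.span {(p : R)})) p).symm
  rw [h2, Ideal.Quotient.eq_zero_iff_mem]
  exact Ideal.subset_span rfl

lemma rhoK_frobenius (a : WittVector p R) : rhoK (frobenius a) = rhoK a ^ p := by
  obtain ⟨y, hy⟩ := constantCoeff_frobenius a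
  change Ideal.Quotient.mk _ ((frobenius a).coeff 0) = (Ideal.Quotient.mk _ (a.coeff 0)) ^ p
  rw [hy, map_add, map_pow, map_mul]
  have : Ideal.Quotient.mk (Ideal.span {(p : R)}) (p : R) = 0 :=
    Ideal.Quotient.eq_zero_iff_mem.2 (Ideal.subset_span rfl)
  rw [this, zero_mul, add_zero]

lemma rhoK_frobenius_pow (N : ℕ) (a : WittVector p R) :
    rhoK (((WittVector.frobenius : WittVector p R →+* WittVector p R) ^ N) a) = rhoK a ^ p ^ N := by
  induction N with
  | zero => rw [pow_zero, pow_zero, pow_one]; rfl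
  | succ N ih =>
    have e : ((WittVector.frobenius : WittVector p R →+* WittVector p R) ^ (N + 1)) a =
        frobenius (((WittVector.frobenius : WittVector p R →+* WittVector p R) ^ N) a) := by
      rw [pow_succ']
      rfl
    rw [e, rhoK_frobenius, ih, ← pow_mul, ← pow_succ]

lemma rhoK_eq_zero_iff (a : WittVector p R) :
    rhoK a = 0 ↔ a ∈ IV p R ⊔ Ideal.span {(p : WittVector p R)} := by
  constructor
  · intro h
    have h1 : WittVector.constantCoeff a ∈ Ideal.span {(p : R)} :=
      Ideal.Quotient.eq_zero_iff_mem.1 h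
    obtain ⟨r, hr⟩ := Ideal.mem_span_singleton'.1 h1
    have h2 : a - teichmuller p r * (p : WittVector p R) ∈ IV p R := by
      rw [mem_IV_iff_coeff_zero]
      have h3 := map_sub (WittVector.constantCoeff (p := p) (R := R)) a
        (teichmuller p r * (p : WittVector p R))
      rw [map_mul, map_natCast] at h3
      change (a - teichmuller p r * (p : WittVector p R)).coeff 0 = 0
      have h4 : WittVector.constantCoeff (teichmuller p r) = r := teichmuller_coeff_zero p r
      rw [h4, ← hr, sub_self] at h3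
      exact h3
    have h5 : a = (a - teichmuller p r * (p : WittVector p R)) + teichmuller p r * (p : WittVector p R) := by
      ring
    rw [h5]
    exact Submodule.add_mem_sup h2 (Ideal.mul_mem_left _ _ (Ideal.subset_span rfl))
  · intro h
    obtain ⟨x, hx, y, hy, rfl⟩ := Submodule.mem_sup.1 h
    rw [map_add]
    have e1 : rhoK x = 0 := by
      change Ideal.Quotient.mk _ (WittVector.constantCoeff x) = 0
      rw [(constantCoeff_eq_zero_iff' x).2 hx, map_zero]
    obtain ⟨c, rfl⟩ := Ideal.mem_span_singleton'.1 hy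
    rw [e1, map_mul, rhoK_natCast, mul_zero, add_zero]

end Rho

section Coord

variable {A : Type u} [CommRing A] {P : Type v} [AddCommGroup P] [Module A P]
variable {ι : Type w} [Fintype ι]

lemma dual_basis_BC' (g : A →+* A) (e : ι → P) (lam : ι → (P →ₗ[A] A))
    (h : ∀ x, x = ∑ i, lam i x • e i) (z : BC g P) :
    z = ∑ i, funB g (lam i) z • BC.tmul g 1 (e i) := by
  induction z using BC.induction_on g with
  | zero => simp
  | tmul w x =>
    conv_lhs => rw [h x, BC_tmul_sum]
    refine Finset.sum_congr rfl fun i _ => ?_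
    rw [funB_tmul, BC.smul_tmul, mul_one, BC.tmul_mul_apply]
  | add z₁ z₂ h₁ h₂ =>
    conv_lhs => rw [h₁, h₂]
    rw [← Finset.sum_add_distrib]
    refine Finset.sum_congr rfl fun i _ => ?_
    rw [map_add, add_smul]

lemma mem_smul_top_iff_funB (g : A →+* A) (e : ι → P) (lam : ι → (P →ₗ[A] A))
    (h : ∀ x, x = ∑ i, lam i x • e i) (𝔟 : Ideal A) (z : BC g P) :
    z ∈ 𝔟 • (⊤ : Submodule A (BC g P)) ↔ ∀ i, funB g (lam i) z ∈ 𝔟 := by
  constructor
  · intro hz i
    exact functional_mem 𝔟 (funB g (lam i)) hz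
  · intro hz
    rw [dual_basis_BC' g e lam h z]
    exact Submodule.sum_mem _ fun i _ => Submodule.smul_mem_smul (hz i) Submodule.mem_top

lemma funB_castHom {g g' : A →+* A} (e : g = g') (μ : P →ₗ[A] A) (z : BC g P) :
    funB g' μ (BC.castHom e z) = funB g μ z := by
  subst e
  rfl

lemma funB_pushc (g h gh : A →+* A) (e : g.comp h = gh) (μ : P →ₗ[A] A) (ξ : BC h P) :
    funB gh μ (pushc g h gh e ξ) = g (funB h μ ξ) := by
  induction ξ using BC.induction_on h with
  | zero => simp
  | tmul v x =>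
    subst e
    rw [pushc_tmul, funB_tmul, funB_tmul, map_mul]
    rfl
  | add z₁ z₂ h₁ h₂ => rw [pushc_add, map_add, map_add, map_add, h₁, h₂]

lemma funB_Tc (g h gh : A →+* A) (e : g.comp h = gh) (ee : ι → P) (lam : ι → (P →ₗ[A] A))
    (hd : ∀ x, x = ∑ i, lam i x • ee i) (β : P →ₗ[A] BC h P) (μ : P →ₗ[A] A) (z : BC g P) :
    funB gh μ (Tc g h gh e β z) = ∑ i', funB g (lam i') z * g (funB h μ (β (ee i'))) := by
  conv_lhs => rw [dual_basis_BC' g ee lam hd z]
  rw [map_sum, map_sum]
  refine Finset.sum_congr rfl fun i' _ => ?_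
  rw [map_smul, map_smul, Tc_tmul, one_smul, funB_pushc, smul_eq_mul]

end Coord

section DisplayPart

variable {p : ℕ} [hp : Fact p.Prime] {R : Type u} [CommRing R]
variable {P : Type v} [AddCommGroup P] [Module (WittVector p R) P]
variable {ιT ιL : Type w} [Fintype ιT] [Fintype ιL]

/-- the basis of `P` formed by the `t_j` followed by the `l_k` -/
def eBasis (L T : Submodule (WittVector p R) P) (hLT : IsCompl L T)
    (bT : Module.Basis ιT (WittVector p R) T) (bL : Module.Basis ιL (WittVector p R) L) :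
    Module.Basis (ιT ⊕ ιL) (WittVector p R) P :=
  (bT.prod bL).map (Submodule.prodEquivOfIsCompl T L hLT.symm)

omit [Fintype ιT] [Fintype ιL] in
lemma eBasis_apply (L T : Submodule (WittVector p R) P) (hLT : IsCompl L T)
    (bT : Module.Basis ιT (WittVector p R) T) (bL : Module.Basis ιL (WittVector p R) L)
    (i : ιT ⊕ ιL) :
    eBasis L T hLT bT bL i =
      Sum.elim (fun a : ιT => (bT a : P)) (fun a : ιL => (bL a : P)) i := by
  rw [eBasis, Module.Basis.map_apply, Submodule.coe_prodEquivOfIsCompl']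
  cases i with
  | inl j =>
    rw [Module.Basis.prod_apply_inl_fst, Module.Basis.prod_apply_inl_snd]
    simp
  | inr k =>
    rw [Module.Basis.prod_apply_inr_fst, Module.Basis.prod_apply_inr_snd]
    simp

variable [DecidableEq ιT] [DecidableEq ιL]

theorem isDisplay_iff_twProd (hp0 : IsNilpotent (p : R)) (D : Display3n p R P)
    (L T : Submodule (WittVector p R) P) (hLT : IsCompl L T)
    (hQ : D.Q = L ⊔ IV p R • T) (hLQ : L ≤ D.Q)
    (bT : Module.Basis ιT (WittVector p R) T) (bL : Module.Basis ιL (WittVector p R) L)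
    (α β : Matrix (ιT ⊕ ιL) (ιT ⊕ ιL) (WittVector p R)) (hαβ : α * β = 1)
    (hF : ∀ j : ιT, D.F (bT j : P) =
      Finset.univ.sum fun i : ιT ⊕ ιL => α i (Sum.inl j) •
        Sum.elim (fun a : ιT => (bT a : P)) (fun a : ιL => (bL a : P)) i)
    (hV : ∀ k : ιL, D.Vinv ⟨(bL k : P), hLQ (bL k).2⟩ =
      Finset.univ.sum fun i : ιT ⊕ ιL => α i (Sum.inr k) •
        Sum.elim (fun a : ιT => (bT a : P)) (fun a : ιL => (bL a : P)) i) :
    IsDisplay D ↔ ∃ N : ℕ, 0 < N ∧
      twProd p (Matrix.of fun k l : ιL => rhoK (β (Sum.inr k) (Sum.inr l))) N = 0 := by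
  classical
  -- the operator V#
  have hVs := isVSharp_Vsharp D L T hLT hQ hp0
  generalize Vsharp D L T hLT hQ hp0 = Vs at hVs
  have hdisp : IsDisplay D ↔ IsVNilpotent Vs := by
    constructor
    · rintro ⟨Vs', hVs', hnil⟩
      obtain rfl : Vs' = Vs := isVSharp_unique D _ _ hVs' hVs
      exact hnil
    · intro h
      exact ⟨Vs, hVs, h⟩
  rw [hdisp]
  -- the basis
  let e := eBasis L T hLT bT bL
  have he : ∀ i, e i = Sum.elim (fun a : ιT => (bT a : P)) (fun a : ιL => (bL a : P)) i :=
    eBasis_apply L T hLT bT bL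
  have hd : ∀ x : P, x = ∑ i, e.coord i x • e i := fun x => (e.sum_repr x).symm
  -- the images of the basis under F and V⁻¹
  let fm : ιT ⊕ ιL → P := Sum.elim (fun j => D.F (bT j : P))
    (fun k => D.Vinv ⟨(bL k : P), hLQ (bL k).2⟩)
  have hf : ∀ m, fm m = ∑ i, α i m • e i := by
    intro m
    cases m with
    | inl j =>
      change D.F (bT j : P) = _
      rw [hF]
      exact Finset.sum_congr rfl fun i _ => by rw [he]
    | inr k =>
      change D.Vinv ⟨(bL k : P), hLQ (bL k).2⟩ = _
      rw [hV]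
      exact Finset.sum_congr rfl fun i _ => by rw [he]
  have hem : ∀ m, e m = ∑ m', β m' m • fm m' := by
    intro m
    have h1 : ∑ m', β m' m • fm m' = ∑ i, (∑ m', α i m' * β m' m) • e i := by
      simp_rw [hf, Finset.smul_sum, Finset.sum_smul, smul_smul]
      rw [Finset.sum_comm]
      refine Finset.sum_congr rfl fun i _ => Finset.sum_congr rfl fun m' _ => ?_
      rw [mul_comm]
    rw [h1]
    have h2 : ∀ i, ∑ m', α i m' * β m' m = (1 : Matrix (ιT ⊕ ιL) (ιT ⊕ ιL) (WittVector p R)) i m := by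
      intro i
      rw [← hαβ, Matrix.mul_apply]
    simp_rw [h2, Matrix.one_apply, ite_smul, one_smul, zero_smul]
    rw [Finset.sum_ite_eq' Finset.univ m]
    simp
  -- V# on the basis
  let um : ιT ⊕ ιL → ιT ⊕ ιL → WittVector p R := fun m' m =>
    Sum.elim (fun j => β (Sum.inl j) m * (p : WittVector p R)) (fun k => β (Sum.inr k) m) m'
  have hVse : ∀ m, Vs (e m) = ∑ m', um m' m • BC.tmul (WittVector.frobenius : WittVector p R →+* WittVector p R) 1 (e m') := by
    intro m
    conv_lhs => rw [hem m, map_sum]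
    refine Finset.sum_congr rfl fun m' _ => ?_
    cases m' with
    | inl j =>
      change Vs (β (Sum.inl j) m • D.F (bT j : P)) = (β (Sum.inl j) m * (p : WittVector p R)) • _
      rw [hVs.app_smul_F, he, BC.smul_tmul, BC.smul_tmul, mul_one, mul_comm]
      rfl
    | inr k =>
      change Vs (β (Sum.inr k) m • D.Vinv ⟨(bL k : P), hLQ (bL k).2⟩) = (β (Sum.inr k) m) • _
      rw [hVs.app_smul_Vinv, he, BC.smul_tmul, mul_one]
      rfl
  have hcoord : ∀ i m' : ιT ⊕ ιL, e.coord i (e m') = if m' = i then 1 else 0 := by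
    intro i m'
    rw [Module.Basis.coord_apply, Module.Basis.repr_self, Finsupp.single_apply]
  have hκVs : ∀ i m, funB (WittVector.frobenius : WittVector p R →+* WittVector p R) (e.coord i) (Vs (e m)) = um i m := by
    intro i m
    rw [hVse, map_sum, Finset.sum_eq_single i]
    · rw [map_smul, funB_tmul, hcoord, if_pos rfl, map_one, mul_one, smul_eq_mul, mul_one]
    · intro m' _ hne
      rw [map_smul, funB_tmul, hcoord, if_neg hne, map_zero, mul_zero, smul_zero]
    · intro h
      exact absurd (Finset.mem_univ i) h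
  -- the matrices
  let U : Matrix (ιT ⊕ ιL) (ιT ⊕ ιL) (R ⧸ Ideal.span {(p : R)}) := fun i m => rhoK (um i m)
  have hU : ∀ j m, U (Sum.inl j) m = 0 := by
    intro j m
    change rhoK (β (Sum.inl j) m * (p : WittVector p R)) = 0
    rw [map_mul, rhoK_natCast, mul_zero]
  let C : ℕ → Matrix (ιT ⊕ ιL) (ιT ⊕ ιL) (R ⧸ Ideal.span {(p : R)}) := fun n i m =>
    rhoK (funB ((WittVector.frobenius : WittVector p R →+* WittVector p R) ^ (n + 1)) (e.coord i) (vSharpPow Vs n (e m)))
  have h0 : C 0 = U := by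
    ext i m
    change rhoK (funB ((WittVector.frobenius : WittVector p R →+* WittVector p R) ^ (0 + 1)) (e.coord i) (vSharpPow Vs 0 (e m))) = rhoK (um i m)
    rw [vSharpPow_zero_apply, funB_castHom, hκVs]
  have h1 : ∀ n i m, C (n + 1) i m = ∑ i', U i i' ^ (p ^ (n + 1)) * C n i' m := by
    intro n i m
    change rhoK (funB ((WittVector.frobenius : WittVector p R →+* WittVector p R) ^ (n + 1 + 1)) (e.coord i) (vSharpPow Vs (n + 1) (e m))) = _
    rw [vSharpPow_comp_apply Vs n 0 (n + 1) rfl (frob_pow_comp (n + 1) (0 + 1) _ (by omega)),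
      funB_Tc _ _ _ _ e (fun i => e.coord i) hd, map_sum]
    refine Finset.sum_congr rfl fun i' _ => ?_
    rw [map_mul, rhoK_frobenius_pow, mul_comm]
    congr 2
    change rhoK (funB ((WittVector.frobenius : WittVector p R →+* WittVector p R) ^ (0 + 1)) (e.coord i) (vSharpPow Vs 0 (e i'))) = rhoK (um i i')
    rw [vSharpPow_zero_apply, funB_castHom, hκVs]
  have h2 : ∀ n i m, C (n + 1) i m = ∑ i', C n i i' ^ p * U i' m := by
    intro n i m
    change rhoK (funB ((WittVector.frobenius : WittVector p R →+* WittVector p R) ^ (n + 1 + 1)) (e.coord i) (vSharpPow Vs (n + 1) (e m))) = _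
    rw [vSharpPow_succ_apply', funB_Tc _ _ _ _ e (fun i => e.coord i) hd, map_sum]
    refine Finset.sum_congr rfl fun i' _ => ?_
    rw [map_mul, rhoK_frobenius, hκVs, mul_comm]
  -- nilpotence in terms of C
  have hnil : IsVNilpotent Vs ↔ ∃ n, ∀ i m, C n i m = 0 := by
    constructor
    · rintro ⟨n, hn⟩
      refine ⟨n, fun i m => ?_⟩
      change rhoK (funB ((WittVector.frobenius : WittVector p R →+* WittVector p R) ^ (n + 1)) (e.coord i) (vSharpPow Vs n (e m))) = 0
      rw [rhoK_eq_zero_iff]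
      exact functional_mem _ _ (hn (e m))
    · rintro ⟨n, hn⟩
      refine ⟨n, fun x => ?_⟩
      have hb : ∀ m, vSharpPow Vs n (e m) ∈ (IV p R ⊔ Ideal.span {(p : WittVector p R)}) •
          (⊤ : Submodule (WittVector p R) (BC ((WittVector.frobenius : WittVector p R →+* WittVector p R) ^ (n + 1)) P)) := by
        intro m
        rw [mem_smul_top_iff_funB ((WittVector.frobenius : WittVector p R →+* WittVector p R) ^ (n + 1)) e (fun i => e.coord i) hd]
        intro i
        rw [← rhoK_eq_zero_iff]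
        exact hn i m
      rw [hd x, map_sum]
      exact Submodule.sum_mem _ fun m _ => by
        rw [map_smul]
        exact Submodule.smul_mem _ _ (hb m)
  rw [hnil]
  exact matrix_criterion p hp.out.pos U hU C h0 h1 h2

end DisplayPart

end Groth.Agent.Lib.Helper16.ZW
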