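import Mathlib

/-!
# Frobenius of Witt vectors is nilpotent on the kernel of W(S) → W(R) for a nil thickening with p nilpotent (helper16)
-/

set_option autoImplicit false
universe u

noncomputable section

namespace Groth.Agent.Lib.Helper16.ZW
open WittVector Function MvPolynomial

section Poly

/-- a polynomial without constant term, evaluated at elements of an ideal, lies in the ideal -/
lemma aeval_mem_of_constantCoeff_eq_zero {σ : Type*} {S : Type*} [CommRing S]
    (q : MvPolynomial σ ℤ) (hq : MvPolynomial.constantCoeff q = 0) (𝔟 : Ideal S) (x : σ → S)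
    (hx : ∀ i, x i ∈ 𝔟) : MvPolynomial.aeval x q ∈ 𝔟 := by
  rw [MvPolynomial.aeval_def, MvPolynomial.eval₂_eq]
  refine Ideal.sum_mem _ fun d hd => ?_
  by_cases h0 : d = 0
  · subst h0
    have : q.coeff 0 = 0 := hq
    rw [this, map_zero, zero_mul]
    exact zero_mem _
  · obtain ⟨i, hi⟩ : ∃ i, i ∈ d.support := by
      by_contra hne
      push Not at hne
      exact h0 (Finsupp.support_eq_empty.1 (Finset.eq_empty_of_forall_notMem hne))
    refine Ideal.mul_mem_left _ _ ?_
    have hdvd : x i ^ d i ∣ ∏ j ∈ d.support, x j ^ d j := Finset.dvd_prod_of_mem _ hi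
    refine Ideal.mem_of_dvd _ hdvd ?_
    have : d i ≠ 0 := Finsupp.mem_support_iff.1 hi
    exact Ideal.pow_mem_of_mem _ (hx i) _ (Nat.pos_of_ne_zero this)

end Poly

section Frob

variable {p : ℕ} [hp : Fact p.Prime]

lemma constantCoeff_frobeniusPoly (n : ℕ) :
    MvPolynomial.constantCoeff (frobeniusPoly p n) = 0 := by
  have h : (frobenius (0 : WittVector p ℤ)).coeff n = 0 := by
    rw [map_zero]; exact WittVector.zero_coeff p ℤ n
  rw [coeff_frobenius] at h
  have h2 : MvPolynomial.aeval (0 : WittVector p ℤ).coeff (frobeniusPoly p n) =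
      MvPolynomial.constantCoeff (frobeniusPoly p n) := by
    have : (0 : WittVector p ℤ).coeff = 0 := by
      ext i; exact WittVector.zero_coeff p ℤ i
    rw [this, MvPolynomial.aeval_zero]
    rfl
  rw [h2] at h
  exact h

lemma constantCoeff_frobeniusPolyAux (n : ℕ) :
    MvPolynomial.constantCoeff (frobeniusPolyAux p n) = 0 := by
  have h := constantCoeff_frobeniusPoly (p := p) n
  rw [frobeniusPoly, map_add, map_pow, MvPolynomial.constantCoeff_X, zero_pow hp.out.ne_zero,
    zero_add, map_mul, MvPolynomial.constantCoeff_C] at h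
  rcases mul_eq_zero.1 h with h | h
  · exact absurd h (by exact_mod_cast hp.out.ne_zero)
  · exact h

/-- `(F x)_n = x_n ^ p + p * (polynomial without constant term in the coefficients)` -/
lemma coeff_frobenius_eq {S : Type u} [CommRing S] (x : WittVector p S) (n : ℕ) :
    (frobenius x).coeff n =
      x.coeff n ^ p + (p : S) * MvPolynomial.aeval x.coeff (frobeniusPolyAux p n) := by
  rw [coeff_frobenius, frobeniusPoly, map_add, map_pow, MvPolynomial.aeval_X, map_mul,
    MvPolynomial.aeval_C]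
  simp

end Frob

section Chain

variable {p : ℕ} [hp : Fact p.Prime] {S R : Type u} [CommRing S] [CommRing R] (φ : S →+* R)

/-- generators `p^i a^(p^j)`, `i + j = k`, `a ∈ ker φ` -/
def Tset (k : ℕ) : Set S :=
  {t | ∃ i j : ℕ, ∃ a : S, i + j = k ∧ φ a = 0 ∧ t = (p : S) ^ i * a ^ (p ^ j)}

/-- the ideal `E k` -/
def Eid (k : ℕ) : Ideal S := Ideal.span (Tset (p := p) φ k)

omit hp in
lemma p_mul_mem_Eid (k : ℕ) {b : S} (hb : b ∈ Eid (p := p) φ k) :
    (p : S) * b ∈ Eid (p := p) φ (k + 1) := by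
  unfold Eid at hb ⊢
  induction hb using Submodule.span_induction with
  | mem t ht =>
    obtain ⟨i, j, a, hij, ha, rfl⟩ := ht
    refine Ideal.subset_span ⟨i + 1, j, a, by omega, ha, ?_⟩
    rw [pow_succ]; ring
  | zero => rw [mul_zero]; exact zero_mem _
  | add x y _ _ hx hy => rw [mul_add]; exact add_mem hx hy
  | smul s x _ hx =>
    rw [smul_eq_mul, mul_left_comm]
    exact Ideal.mul_mem_left _ _ hx

lemma pow_p_mem_Eid (k : ℕ) {b : S} (hb : b ∈ Eid (p := p) φ k) :
    b ^ p ∈ Eid (p := p) φ (k + 1) := by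
  have hb' := hb
  unfold Eid at hb
  induction hb using Submodule.span_induction with
  | mem t ht =>
    obtain ⟨i, j, a, hij, ha, rfl⟩ := ht
    have e : ((p : S) ^ i * a ^ p ^ j) ^ p = (p : S) ^ (i * (p - 1)) * ((p : S) ^ i * a ^ p ^ (j + 1)) := by
      have hp1 : i * p = i * (p - 1) + i := by
        have := hp.out.one_le
        rw [← Nat.mul_succ]
        congr 1
        omega
      rw [mul_pow, ← pow_mul, ← pow_mul, hp1, pow_add, pow_succ p j]
      ring
    rw [e]
    refine Ideal.mul_mem_left _ _ (Ideal.subset_span ⟨i, j + 1, a, by omega, ha, rfl⟩)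
  | zero => rw [zero_pow hp.out.ne_zero]; exact zero_mem _
  | add x y hx hy ihx ihy =>
    obtain ⟨r, hr⟩ := exists_add_pow_prime_eq hp.out x y
    rw [hr]
    refine add_mem (add_mem (ihx hx) (ihy hy)) ?_
    have h1 : (p : S) * x ∈ Eid (p := p) φ (k + 1) := p_mul_mem_Eid φ k hx
    have e : (p : S) * x * y * r = (y * r) * ((p : S) * x) := by ring
    rw [e]
    exact Ideal.mul_mem_left _ _ h1
  | smul s x hx ihx =>
    rw [smul_eq_mul, mul_pow]
    exact Ideal.mul_mem_left _ _ (ihx hx)

lemma coeff_frobenius_mem_Eid (k : ℕ) (x : WittVector p S)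
    (hx : ∀ n, x.coeff n ∈ Eid (p := p) φ k) (n : ℕ) :
    (frobenius x).coeff n ∈ Eid (p := p) φ (k + 1) := by
  rw [coeff_frobenius_eq]
  refine add_mem (pow_p_mem_Eid φ k (hx n)) (p_mul_mem_Eid φ k ?_)
  exact aeval_mem_of_constantCoeff_eq_zero _ (constantCoeff_frobeniusPolyAux n) _ _ hx

lemma coeff_iterate_frobenius_mem_Eid (k : ℕ) (x : WittVector p S)
    (hx : ∀ n, φ (x.coeff n) = 0) (n : ℕ) :
    ((frobenius)^[k] x).coeff n ∈ Eid (p := p) φ k := by
  induction k generalizing n with
  | zero =>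
    refine Ideal.subset_span ⟨0, 0, x.coeff n, rfl, hx n, ?_⟩
    simp
  | succ k ih =>
    rw [Function.iterate_succ_apply']
    exact coeff_frobenius_mem_Eid φ k _ ih n

lemma Eid_eq_bot {M N : ℕ} (hM : (p : S) ^ M = 0) (hN : ∀ a : S, φ a = 0 → a ^ N = 0) :
    Eid (p := p) φ (M + N) = ⊥ := by
  unfold Eid
  rw [Ideal.span_eq_bot]
  rintro t ⟨i, j, a, hij, ha, rfl⟩
  by_cases hi : M ≤ i
  · rw [pow_eq_zero_of_le hi hM, zero_mul]
  · have hj : N ≤ p ^ j := by
      have h1 : N ≤ j := by omega
      exact h1.trans (Nat.lt_pow_self hp.out.one_lt).le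
    rw [pow_eq_zero_of_le hj (hN a ha), mul_zero]

/-- a power of Frobenius kills the kernel of `W(S) → W(R)` when `p` is nilpotent and the kernel of
`S → R` is nil of bounded exponent -/
theorem exists_frobenius_pow_ker_eq_zero (hp0 : IsNilpotent (p : S)) (N : ℕ)
    (hN : ∀ a : S, φ a = 0 → a ^ N = 0) :
    ∃ k : ℕ, ∀ x ∈ RingHom.ker (WittVector.map (p := p) φ),
      ((WittVector.frobenius : WittVector p S →+* WittVector p S) ^ k) x = 0 := by
  obtain ⟨M, hM⟩ := hp0
  refine ⟨M + N, fun x hx => ?_⟩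
  have hx' : ∀ n, φ (x.coeff n) = 0 := by
    intro n
    have := congrArg (fun y => y.coeff n) (RingHom.mem_ker.1 hx)
    simpa [WittVector.map_coeff] using this
  have e : ((WittVector.frobenius : WittVector p S →+* WittVector p S) ^ (M + N)) x =
      (frobenius)^[M + N] x := by rw [RingHom.coe_pow]
  rw [e]
  ext n
  have h := coeff_iterate_frobenius_mem_Eid φ (M + N) x hx' n
  rw [Eid_eq_bot φ hM hN, Ideal.mem_bot] at h
  rw [h]
  exact (WittVector.zero_coeff p S n).symm

end Chain

end Groth.Agent.Lib.Helper16.ZW
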