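import Mathlib
import Groth.Agent.Lib.Helper16.ZW11

/-!
# Lifting Frobenius-equivariant linear maps along nil thickenings of Witt rings (helper16)
-/

set_option autoImplicit false
universe u v w z

noncomputable section

namespace Groth.Agent.Lib.Helper16.ZW
open Function

section UOp

variable {A : Type u} [CommRing A] (g : A →+* A)
variable {P₁ : Type v} [AddCommGroup P₁] [Module A P₁]
variable {P₂ : Type w} [AddCommGroup P₂] [Module A P₂]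
variable {ι₁ : Type z} [Fintype ι₁]

/-- the operator `α ↦ F₂# ∘ (1 ⊗ α) ∘ (F₁#)⁻¹` in terms of bases: the linear map sending
`F₁ (b₁ i)` to `F₂ (α (b₁ i))` -/
def Uop (b₁ : Module.Basis ι₁ A P₁) (b₁' : Module.Basis ι₁ A P₁) (F₂ : P₂ →ₛₗ[g] P₂) :
    (P₁ →ₗ[A] P₂) →+ (P₁ →ₗ[A] P₂) where
  toFun α := b₁'.constr A fun i => F₂ (α (b₁ i))
  map_zero' := by
    apply b₁'.ext
    intro i
    rw [Module.Basis.constr_basis, LinearMap.zero_apply, LinearMap.zero_apply, map_zero]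
  map_add' α β := by
    apply b₁'.ext
    intro i
    rw [LinearMap.add_apply, Module.Basis.constr_basis, Module.Basis.constr_basis,
      Module.Basis.constr_basis, LinearMap.add_apply, map_add]

omit [Fintype ι₁] in
lemma Uop_apply_basis (b₁ b₁' : Module.Basis ι₁ A P₁) (F₂ : P₂ →ₛₗ[g] P₂) (α : P₁ →ₗ[A] P₂)
    (i : ι₁) : Uop g b₁ b₁' F₂ α (b₁' i) = F₂ (α (b₁ i)) :=
  Module.Basis.constr_basis _ _ _ _

lemma Uop_apply_F (b₁ b₁' : Module.Basis ι₁ A P₁) (F₁ : P₁ →ₛₗ[g] P₁) (F₂ : P₂ →ₛₗ[g] P₂)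
    (hb : ∀ i, b₁' i = F₁ (b₁ i)) (α : P₁ →ₗ[A] P₂) (x : P₁) :
    Uop g b₁ b₁' F₂ α (F₁ x) = F₂ (α x) := by
  conv_lhs => rw [← b₁.sum_repr x]
  conv_rhs => rw [← b₁.sum_repr x]
  rw [map_sum, map_sum, map_sum, map_sum]
  refine Finset.sum_congr rfl fun i _ => ?_
  rw [F₁.map_smulₛₗ, map_smul, ← hb, Uop_apply_basis, map_smul, F₂.map_smulₛₗ]

lemma Uop_eq_self_iff (b₁ b₁' : Module.Basis ι₁ A P₁) (F₁ : P₁ →ₛₗ[g] P₁) (F₂ : P₂ →ₛₗ[g] P₂)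
    (hb : ∀ i, b₁' i = F₁ (b₁ i)) (α : P₁ →ₗ[A] P₂) :
    Uop g b₁ b₁' F₂ α = α ↔ ∀ x, F₂ (α x) = α (F₁ x) := by
  constructor
  · intro h x
    rw [← Uop_apply_F g b₁ b₁' F₁ F₂ hb α x, h]
  · intro h
    apply b₁'.ext
    intro i
    rw [Uop_apply_basis, h, hb]

/-- divisibility of a linear map by an ideal -/
def DivBy (𝔡 : Ideal A) (ω : P₁ →ₗ[A] P₂) : Prop :=
  ∀ x, ω x ∈ 𝔡 • (⊤ : Submodule A P₂)

lemma divBy_of_basis (b : Module.Basis ι₁ A P₁) (𝔡 : Ideal A) (ω : P₁ →ₗ[A] P₂)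
    (h : ∀ i, ω (b i) ∈ 𝔡 • (⊤ : Submodule A P₂)) : DivBy 𝔡 ω := by
  intro x
  rw [← b.sum_repr x, map_sum]
  exact Submodule.sum_mem _ fun i _ => by
    rw [map_smul]
    exact Submodule.smul_mem _ _ (h i)

lemma semilinear_mem_map (F₂ : P₂ →ₛₗ[g] P₂) (𝔡 : Ideal A) {y : P₂}
    (hy : y ∈ 𝔡 • (⊤ : Submodule A P₂)) : F₂ y ∈ (𝔡.map g) • (⊤ : Submodule A P₂) := by
  refine Submodule.smul_induction_on hy (fun r hr m _ => ?_) (fun x y hx hy => ?_)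
  · rw [F₂.map_smulₛₗ]
    exact Submodule.smul_mem_smul (Ideal.mem_map_of_mem g hr) Submodule.mem_top
  · rw [map_add]
    exact add_mem hx hy

lemma divBy_Uop (b₁ b₁' : Module.Basis ι₁ A P₁) (F₂ : P₂ →ₛₗ[g] P₂) (𝔡 : Ideal A)
    (ω : P₁ →ₗ[A] P₂) (h : DivBy 𝔡 ω) : DivBy (𝔡.map g) (Uop g b₁ b₁' F₂ ω) := by
  refine divBy_of_basis b₁' _ _ fun i => ?_
  rw [Uop_apply_basis]
  exact semilinear_mem_map g F₂ 𝔡 (h _)

lemma divBy_iterate_Uop (b₁ b₁' : Module.Basis ι₁ A P₁) (F₂ : P₂ →ₛₗ[g] P₂) (𝔡 : Ideal A)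
    (ω : P₁ →ₗ[A] P₂) (h : DivBy 𝔡 ω) (k : ℕ) :
    DivBy (𝔡.map (g ^ k)) ((fun α => Uop g b₁ b₁' F₂ α)^[k] ω) := by
  induction k with
  | zero =>
    rw [pow_zero]
    have : 𝔡.map (1 : A →+* A) = 𝔡 := Ideal.map_id 𝔡
    rw [this]
    exact h
  | succ k ih =>
    rw [Function.iterate_succ_apply']
    have := divBy_Uop g b₁ b₁' F₂ _ _ ih
    rw [Ideal.map_map] at this
    have e : g.comp (g ^ k) = g ^ (k + 1) := by rw [pow_succ']; rfl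
    rw [e] at this
    exact this

lemma eq_zero_of_divBy_bot (ω : P₁ →ₗ[A] P₂) (h : DivBy (⊥ : Ideal A) ω) : ω = 0 := by
  ext x
  have := h x
  rw [Submodule.bot_smul, Submodule.mem_bot] at this
  exact this

theorem exists_Uop_fixed (b₁ b₁' : Module.Basis ι₁ A P₁) (F₁ : P₁ →ₛₗ[g] P₁) (F₂ : P₂ →ₛₗ[g] P₂)
    (hb : ∀ i, b₁' i = F₁ (b₁ i)) (𝔠 : Ideal A) (h𝔠 : 𝔠.map g ≤ 𝔠) (k₀ : ℕ)
    (hk : 𝔠.map (g ^ k₀) = ⊥) (α₀ : P₁ →ₗ[A] P₂)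
    (hα₀ : ∀ x, F₂ (α₀ x) - α₀ (F₁ x) ∈ 𝔠 • (⊤ : Submodule A P₂)) :
    ∃ α : P₁ →ₗ[A] P₂, (∀ x, α x - α₀ x ∈ 𝔠 • (⊤ : Submodule A P₂)) ∧
      ∀ x, F₂ (α x) = α (F₁ x) := by
  set U := Uop g b₁ b₁' F₂ with hU
  let ω₀ : P₁ →ₗ[A] P₂ := U α₀ - α₀
  have hω₀ : DivBy 𝔠 ω₀ := by
    refine divBy_of_basis b₁' _ _ fun i => ?_
    change U α₀ (b₁' i) - α₀ (b₁' i) ∈ _
    rw [hU, Uop_apply_basis, hb]
    exact hα₀ _
  have hiter : ∀ k, DivBy 𝔠 ((fun α => U α)^[k] ω₀) := by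
    intro k
    induction k with
    | zero => exact hω₀
    | succ k ih =>
      rw [Function.iterate_succ_apply']
      intro x
      exact Submodule.smul_mono_left h𝔠 (divBy_Uop g b₁ b₁' F₂ 𝔠 _ ih x)
  have hzero : (fun α => U α)^[k₀] ω₀ = 0 := by
    apply eq_zero_of_divBy_bot
    rw [← hk]
    exact divBy_iterate_Uop g b₁ b₁' F₂ 𝔠 ω₀ hω₀ k₀
  let ω : P₁ →ₗ[A] P₂ := ∑ k ∈ Finset.range k₀, (fun α => U α)^[k] ω₀
  have hUω : ω - U ω = ω₀ := by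
    change (∑ k ∈ Finset.range k₀, (fun α => U α)^[k] ω₀) -
      U (∑ k ∈ Finset.range k₀, (fun α => U α)^[k] ω₀) = ω₀
    rw [map_sum, ← Finset.sum_sub_distrib]
    have : ∀ k ∈ Finset.range k₀, (fun α => U α)^[k] ω₀ - U ((fun α => U α)^[k] ω₀) =
        (fun α => U α)^[k] ω₀ - (fun α => U α)^[k + 1] ω₀ := by
      intro k _
      rw [Function.iterate_succ_apply']
    rw [Finset.sum_congr rfl this, Finset.sum_range_sub', hzero, sub_zero]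
    rfl
  refine ⟨α₀ + ω, fun x => ?_, ?_⟩
  · rw [LinearMap.add_apply, add_sub_cancel_left]
    change (∑ k ∈ Finset.range k₀, (fun α => U α)^[k] ω₀) x ∈ _
    rw [LinearMap.sum_apply]
    exact Submodule.sum_mem _ fun k _ => hiter k x
  · rw [← Uop_eq_self_iff g b₁ b₁' F₁ F₂ hb, ← hU, map_add]
    have h1 : U α₀ = α₀ + ω₀ := by
      change U α₀ = α₀ + (U α₀ - α₀)
      abel
    have h2 : U ω = ω - ω₀ := by
      rw [← hUω]; abel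
    rw [h1, h2]
    abel

theorem Uop_fixed_unique (b₁ b₁' : Module.Basis ι₁ A P₁) (F₁ : P₁ →ₛₗ[g] P₁) (F₂ : P₂ →ₛₗ[g] P₂)
    (hb : ∀ i, b₁' i = F₁ (b₁ i)) (𝔠 : Ideal A) (k₀ : ℕ)
    (hk : 𝔠.map (g ^ k₀) = ⊥) (α α' : P₁ →ₗ[A] P₂)
    (hd : ∀ x, α x - α' x ∈ 𝔠 • (⊤ : Submodule A P₂))
    (hα : ∀ x, F₂ (α x) = α (F₁ x)) (hα' : ∀ x, F₂ (α' x) = α' (F₁ x)) : α = α' := by
  set U := Uop g b₁ b₁' F₂ with hU
  have h1 : U α = α := (Uop_eq_self_iff g b₁ b₁' F₁ F₂ hb α).2 hα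
  have h2 : U α' = α' := (Uop_eq_self_iff g b₁ b₁' F₁ F₂ hb α').2 hα'
  have h3 : U (α - α') = α - α' := by rw [map_sub, h1, h2]
  have h4 : ∀ k, (fun β => U β)^[k] (α - α') = α - α' := by
    intro k
    induction k with
    | zero => rfl
    | succ k ih => rw [Function.iterate_succ_apply', ih, h3]
  have h5 : DivBy 𝔠 (α - α') := fun x => hd x
  have h6 := divBy_iterate_Uop g b₁ b₁' F₂ 𝔠 _ h5 k₀
  rw [hk, ← hU, h4] at h6
  exact sub_eq_zero.1 (eq_zero_of_divBy_bot _ h6)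

end UOp

section WittLift

open WittVector

variable {p : ℕ} [hp : Fact p.Prime] {S R : Type u} [CommRing S] [CommRing R] (φ : S →+* R)
variable {P₁ : Type v} [AddCommGroup P₁] [Module (WittVector p S) P₁]
variable {P₂ : Type w} [AddCommGroup P₂] [Module (WittVector p S) P₂]
variable {ι₁ : Type z} [Finite ι₁]

theorem exists_lift_comm_frobenius (hp0 : IsNilpotent (p : S))
    (N : ℕ) (hN : ∀ a : S, φ a = 0 → a ^ N = 0)
    (b₁ : Module.Basis ι₁ (WittVector p S) P₁)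
    (F₁ : P₁ →ₛₗ[(WittVector.frobenius : WittVector p S →+* WittVector p S)] P₁)
    (F₂ : P₂ →ₛₗ[(WittVector.frobenius : WittVector p S →+* WittVector p S)] P₂)
    (hF₁ : LinearIndependent (WittVector p S) (fun i => F₁ (b₁ i)) ∧
      Submodule.span (WittVector p S) (Set.range fun i => F₁ (b₁ i)) = ⊤)
    (𝔠 : Ideal (WittVector p S)) (h𝔠 : 𝔠 ≤ RingHom.ker (WittVector.map (p := p) φ))
    (h𝔠F : ∀ x ∈ 𝔠, WittVector.frobenius x ∈ 𝔠)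
    (α₀ : P₁ →ₗ[WittVector p S] P₂)
    (hα₀ : ∀ x : P₁, F₂ (α₀ x) - α₀ (F₁ x) ∈ 𝔠 • (⊤ : Submodule (WittVector p S) P₂)) :
    ∃ α : P₁ →ₗ[WittVector p S] P₂,
      (∀ x : P₁, α x - α₀ x ∈ 𝔠 • (⊤ : Submodule (WittVector p S) P₂)) ∧
        ∀ x : P₁, F₂ (α x) = α (F₁ x) := by
  have := Fintype.ofFinite ι₁
  obtain ⟨k₀, hk₀⟩ := exists_frobenius_pow_ker_eq_zero φ hp0 N hN
  let b₁' : Module.Basis ι₁ (WittVector p S) P₁ := Module.Basis.mk hF₁.1 hF₁.2.ge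
  have hb : ∀ i, b₁' i = F₁ (b₁ i) := fun i => Module.Basis.mk_apply _ _ i
  refine exists_Uop_fixed _ b₁ b₁' F₁ F₂ hb 𝔠 ?_ k₀ ?_ α₀ hα₀
  · rw [Ideal.map_le_iff_le_comap]
    intro x hx
    exact h𝔠F x hx
  · rw [Ideal.map_eq_bot_iff_le_ker]
    intro x hx
    exact hk₀ x (h𝔠 hx)

theorem existsUnique_lift_comm_frobenius (hp0 : IsNilpotent (p : S))
    (N : ℕ) (hN : ∀ a : S, φ a = 0 → a ^ N = 0)
    (b₁ : Module.Basis ι₁ (WittVector p S) P₁)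
    (F₁ : P₁ →ₛₗ[(WittVector.frobenius : WittVector p S →+* WittVector p S)] P₁)
    (F₂ : P₂ →ₛₗ[(WittVector.frobenius : WittVector p S →+* WittVector p S)] P₂)
    (hF₁ : LinearIndependent (WittVector p S) (fun i => F₁ (b₁ i)) ∧
      Submodule.span (WittVector p S) (Set.range fun i => F₁ (b₁ i)) = ⊤)
    (α₀ : P₁ →ₗ[WittVector p S] P₂)
    (hα₀ : ∀ x : P₁, F₂ (α₀ x) - α₀ (F₁ x) ∈
      RingHom.ker (WittVector.map (p := p) φ) • (⊤ : Submodule (WittVector p S) P₂)) :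
    ∃! α : P₁ →ₗ[WittVector p S] P₂,
      (∀ x : P₁, α x - α₀ x ∈
        RingHom.ker (WittVector.map (p := p) φ) • (⊤ : Submodule (WittVector p S) P₂)) ∧
        ∀ x : P₁, F₂ (α x) = α (F₁ x) := by
  have hJF : ∀ x ∈ RingHom.ker (WittVector.map (p := p) φ),
      WittVector.frobenius x ∈ RingHom.ker (WittVector.map (p := p) φ) := by
    intro x hx
    rw [RingHom.mem_ker] at hx ⊢
    have h := (frobenius_isPoly p).map φ x
    rw [h, hx, map_zero]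
  obtain ⟨α, hα1, hα2⟩ := exists_lift_comm_frobenius φ hp0 N hN b₁ F₁ F₂ hF₁ _ le_rfl hJF α₀ hα₀
  refine ⟨α, ⟨hα1, hα2⟩, ?_⟩
  rintro α' ⟨hα'1, hα'2⟩
  have := Fintype.ofFinite ι₁
  obtain ⟨k₀, hk₀⟩ := exists_frobenius_pow_ker_eq_zero φ hp0 N hN
  let b₁' : Module.Basis ι₁ (WittVector p S) P₁ := Module.Basis.mk hF₁.1 hF₁.2.ge
  have hb : ∀ i, b₁' i = F₁ (b₁ i) := fun i => Module.Basis.mk_apply _ _ i
  refine Uop_fixed_unique _ b₁ b₁' F₁ F₂ hb (RingHom.ker (WittVector.map (p := p) φ)) k₀ ?_ α' α ?_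
    hα'2 hα2
  · rw [Ideal.map_eq_bot_iff_le_ker]
    intro x hx
    exact hk₀ x hx
  · intro x
    have h1 := hα'1 x
    have h2 := hα1 x
    have e : α' x - α x = (α' x - α₀ x) - (α x - α₀ x) := by abel
    rw [e]
    exact sub_mem h1 h2

end WittLift

end Groth.Agent.Lib.Helper16.ZW
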