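import Mathlib

/-!
# Abstract idempotent lifting by Newton iteration for rings complete w.r.t. a sequence of ideals (helper16)
-/

set_option autoImplicit false
universe u

noncomputable section

namespace Groth.Agent.Lib.Helper16.ZW
open Polynomial Function

/-- Newton polynomials for idempotent lifting: `p₀ = X`, `p_{k+1} = 3 p_k² - 2 p_k³`. -/
def newtonP : ℕ → ℤ[X]
  | 0 => X
  | (k + 1) => 3 * (newtonP k) ^ 2 - 2 * (newtonP k) ^ 3

lemma newtonP_succ (k : ℕ) : newtonP (k + 1) = 3 * (newtonP k) ^ 2 - 2 * (newtonP k) ^ 3 := rfl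

lemma newtonP_succ_sub (k : ℕ) :
    newtonP (k + 1) - newtonP k = ((newtonP k) ^ 2 - newtonP k) * (1 - 2 * newtonP k) := by
  rw [newtonP_succ]; ring

lemma newtonP_succ_sq_sub (k : ℕ) :
    (newtonP (k + 1)) ^ 2 - newtonP (k + 1) =
      ((newtonP k) ^ 2 - newtonP k) ^ 2 * (4 * (newtonP k) ^ 2 - 4 * newtonP k - 3) := by
  rw [newtonP_succ]; ring

lemma dvd_newtonP_sq_sub (k : ℕ) :
    (X ^ 2 - X : ℤ[X]) ^ (k + 1) ∣ (newtonP k) ^ 2 - newtonP k := by
  induction k with
  | zero => simp [newtonP]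
  | succ k ih =>
    rw [newtonP_succ_sq_sub]
    have h2 : ((X ^ 2 - X : ℤ[X]) ^ (k + 1)) ^ 2 ∣ ((newtonP k) ^ 2 - newtonP k) ^ 2 :=
      pow_dvd_pow_of_dvd ih 2
    rw [← pow_mul] at h2
    exact Dvd.dvd.mul_right (dvd_trans (pow_dvd_pow _ (by omega)) h2) _

lemma dvd_newtonP_sub (k k' : ℕ) (h : k ≤ k') :
    (X ^ 2 - X : ℤ[X]) ^ (k + 1) ∣ newtonP k' - newtonP k := by
  induction k', h using Nat.le_induction with
  | base => simp
  | succ k' hk ih =>
    have : newtonP (k' + 1) - newtonP k = (newtonP (k' + 1) - newtonP k') + (newtonP k' - newtonP k) := by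
      ring
    rw [this]
    refine dvd_add ?_ ih
    rw [newtonP_succ_sub]
    exact Dvd.dvd.mul_right (dvd_trans (pow_dvd_pow _ (by omega)) (dvd_newtonP_sq_sub k')) _

section Mat
variable {C : Type u} [CommRing C] {n : ℕ}

lemma matrix_pow_entry_mem (I : Ideal C) (M : Matrix (Fin n) (Fin n) C) (hM : ∀ a b, M a b ∈ I)
    (N : ℕ) : ∀ a b, (M ^ N) a b ∈ I ^ N := by
  induction N with
  | zero => intro a b; simp
  | succ N ih =>
    intro a b
    rw [pow_succ M N, Matrix.mul_apply, pow_succ I N]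
    exact Ideal.sum_mem _ fun c _ => Ideal.mul_mem_mul (ih a c) (hM c b)

lemma matrix_isNilpotent_of_entries (M : Matrix (Fin n) (Fin n) C)
    (hM : ∀ a b, IsNilpotent (M a b)) : ∃ N, M ^ N = 0 := by
  classical
  let I : Ideal C := Ideal.span (Set.range fun ab : Fin n × Fin n => M ab.1 ab.2)
  have hfg : I.FG := ⟨(Set.finite_range (fun ab : Fin n × Fin n => M ab.1 ab.2)).toFinset, by
    rw [Set.Finite.coe_toFinset]⟩
  have hle : I ≤ nilradical C := by
    rw [Ideal.span_le]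
    rintro _ ⟨ab, rfl⟩
    exact (mem_nilradical).mpr (hM ab.1 ab.2)
  obtain ⟨N, hN⟩ := (Ideal.FG.isNilpotent_iff_le_nilradical hfg).mpr hle
  refine ⟨N, ?_⟩
  ext a b
  have := matrix_pow_entry_mem I M (fun a b => Ideal.subset_span ⟨(a, b), rfl⟩) N a b
  rw [hN] at this
  simpa using this

end Mat

section Lift
variable {A B : Type u} [CommRing A] [CommRing B] (Φ : A →+* B)

/-- Abstract idempotent lifting: `A` is complete and separated for a sequence of ideals `𝔳 m`,
elements of `ker Φ` are nilpotent modulo each `𝔳 m`. -/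
theorem exists_idempotent_lift (hΦ : Surjective Φ) (𝔳 : ℕ → Ideal A) (𝔳' : ℕ → Ideal B)
    (hsep : ∀ a, (∀ m, a ∈ 𝔳 m) → a = 0) (hsep' : ∀ b, (∀ m, b ∈ 𝔳' m) → b = 0)
    (hΦ𝔳 : ∀ m a, a ∈ 𝔳 m → Φ a ∈ 𝔳' m)
    (hcomplete : ∀ (x : ℕ → A) (K : ℕ → ℕ), (∀ m k, K m ≤ k → x k - x (K m) ∈ 𝔳 m) →
      ∃ y, ∀ m, ∃ K', ∀ k, K' ≤ k → y - x k ∈ 𝔳 m)
    (hnil : ∀ a, Φ a = 0 → ∀ m, ∃ N, a ^ N ∈ 𝔳 m)
    (n : ℕ) (E : Matrix (Fin n) (Fin n) B) (hE : E * E = E) :
    ∃ E' : Matrix (Fin n) (Fin n) A, E' * E' = E' ∧ Φ.mapMatrix E' = E := by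
  classical
  -- initial lift
  choose x0f hx0f using fun a b => hΦ (E a b)
  let x0 : Matrix (Fin n) (Fin n) A := Matrix.of x0f
  have hx0 : Φ.mapMatrix x0 = E := by
    ext a b
    simp [x0, hx0f]
  let x : ℕ → Matrix (Fin n) (Fin n) A := fun k => aeval x0 (newtonP k)
  let δ : Matrix (Fin n) (Fin n) A := aeval x0 (X ^ 2 - X : ℤ[X])
  have hδ : δ = x0 ^ 2 - x0 := by simp [δ]
  -- images under Φ
  have hxsucc : ∀ k, x (k + 1) = 3 * (x k) ^ 2 - 2 * (x k) ^ 3 := by
    intro k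
    simp only [x, newtonP_succ, map_sub, map_mul, map_pow, map_ofNat]
  have hΦx : ∀ k, Φ.mapMatrix (x k) = E := by
    intro k
    induction k with
    | zero => simpa [x, newtonP] using hx0
    | succ k ih =>
      rw [hxsucc, map_sub, map_mul, map_mul, map_pow, map_pow, ih]
      have h2 : E ^ 2 = E := by rw [pow_two, hE]
      have h3 : E ^ 3 = E := by rw [pow_succ, h2, hE]
      rw [h2, h3]
      have h3' : (Φ.mapMatrix (3 : Matrix (Fin n) (Fin n) A)) = 3 := map_ofNat _ 3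
      have h2' : (Φ.mapMatrix (2 : Matrix (Fin n) (Fin n) A)) = 2 := map_ofNat _ 2
      rw [h3', h2']
      noncomm_ring
  have hΦδ : Φ.mapMatrix δ = 0 := by
    rw [hδ, map_sub, map_pow, hx0, pow_two, hE, sub_self]
  -- quotient maps
  let q : ∀ m, Matrix (Fin n) (Fin n) A →+* Matrix (Fin n) (Fin n) (A ⧸ 𝔳 m) := fun m =>
    (Ideal.Quotient.mk (𝔳 m)).mapMatrix
  have hq0 : ∀ m (Y : Matrix (Fin n) (Fin n) A), q m Y = 0 ↔ ∀ a b, Y a b ∈ 𝔳 m := by
    intro m Y
    constructor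
    · intro h a b
      have := congrFun (congrFun h a) b
      simpa [q, Ideal.Quotient.eq_zero_iff_mem] using this
    · intro h
      ext a b
      simpa [q, Ideal.Quotient.eq_zero_iff_mem] using h a b
  -- nilpotence of δ modulo 𝔳 m
  have hδnil : ∀ m, ∃ N, (q m δ) ^ N = 0 := by
    intro m
    apply matrix_isNilpotent_of_entries
    intro a b
    have hab : Φ (δ a b) = 0 := by
      have := congrFun (congrFun hΦδ a) b
      simpa using this
    obtain ⟨N, hN⟩ := hnil _ hab m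
    refine ⟨N, ?_⟩
    show ((Ideal.Quotient.mk (𝔳 m)) (δ a b)) ^ N = 0
    rw [← map_pow, Ideal.Quotient.eq_zero_iff_mem]
    exact hN
  choose K hK using hδnil
  have hqpow : ∀ m k, K m ≤ k + 1 → (q m δ) ^ (k + 1) = 0 := by
    intro m k hk
    obtain ⟨j, hj⟩ := Nat.exists_eq_add_of_le hk
    rw [hj, pow_add, hK, zero_mul]
  have hstab1 : ∀ m k, K m ≤ k + 1 → q m ((x k) ^ 2 - x k) = 0 := by
    intro m k hk
    obtain ⟨c, hc⟩ := dvd_newtonP_sq_sub k
    have : (x k) ^ 2 - x k = δ ^ (k + 1) * aeval x0 c := by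
      simp only [x, δ]
      rw [← map_pow, ← map_pow, ← map_sub, ← map_mul, hc]
    rw [this, map_mul, map_pow, hqpow m k hk, zero_mul]
  have hstab2 : ∀ m k k', K m ≤ k + 1 → k ≤ k' → q m (x k' - x k) = 0 := by
    intro m k k' hk hkk'
    obtain ⟨c, hc⟩ := dvd_newtonP_sub k k' hkk'
    have : x k' - x k = δ ^ (k + 1) * aeval x0 c := by
      simp only [x, δ]
      rw [← map_pow, ← map_sub, ← map_mul, hc]
    rw [this, map_mul, map_pow, hqpow m k hk, zero_mul]
  -- limit
  have hlim : ∀ a b, ∃ y, ∀ m, ∃ K', ∀ k, K' ≤ k → y - x k a b ∈ 𝔳 m := by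
    intro a b
    apply hcomplete (fun k => x k a b) K
    intro m k hk
    have := (hq0 m _).mp (hstab2 m (K m) k (by omega) hk) a b
    simpa using this
  choose yf hyf using hlim
  choose K' hK' using hyf
  let y : Matrix (Fin n) (Fin n) A := Matrix.of yf
  let K'' : ℕ → ℕ := fun m => Finset.univ.sup fun ab : Fin n × Fin n => K' ab.1 ab.2 m
  have hy : ∀ m k, K'' m ≤ k → q m y = q m (x k) := by
    intro m k hk
    rw [← sub_eq_zero, ← map_sub, hq0]
    intro a b
    have hle : K' a b m ≤ K'' m :=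
      Finset.le_sup (f := fun ab : Fin n × Fin n => K' ab.1 ab.2 m) (Finset.mem_univ (a, b))
    have := hK' a b m k (hle.trans hk)
    simpa [y] using this
  refine ⟨y, ?_, ?_⟩
  · -- idempotent
    have hz : ∀ m, q m (y * y - y) = 0 := by
      intro m
      let k := max (K'' m) (K m)
      have h1 := hy m k (le_max_left _ _)
      have h2 := hstab1 m k ((le_max_right _ _).trans (Nat.le_succ _))
      rw [map_sub, map_mul, h1, ← map_mul, ← map_sub, ← pow_two]
      exact h2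
    have : y * y - y = 0 := by
      ext a b
      apply hsep
      intro m
      exact (hq0 m _).mp (hz m) a b
    exact sub_eq_zero.mp this
  · ext a b
    have : Φ (y a b) - E a b = 0 := by
      apply hsep'
      intro m
      have h1 := hK' a b m (K' a b m) le_rfl
      have h2 := hΦ𝔳 m _ h1
      rw [map_sub] at h2
      have h3 : Φ (x (K' a b m) a b) = E a b := by
        have := congrFun (congrFun (hΦx (K' a b m)) a) b
        simpa using this
      rw [h3] at h2
      simpa [y] using h2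
    simpa using sub_eq_zero.mp this

end Lift

end Groth.Agent.Lib.Helper16.ZW
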