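import Mathlib
import Groth.Agent.Lib.Helper16.ZW13

/-!
# Lifting finite projective modules along a surjection with idempotent lifting (helper16)
-/

set_option autoImplicit false
universe u

noncomputable section

namespace Groth.Agent.Lib.Helper16.ZW
open Function

section
variable {A B : Type u} [CommRing A] [CommRing B] (Φ : A →+* B)

/-- existence of lifts of finite projective modules along a surjection along which idempotent
matrices lift -/
theorem exists_lift_projective (hΦ : Surjective Φ)
    (hidem : ∀ (n : ℕ) (E : Matrix (Fin n) (Fin n) B), E * E = E →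
      ∃ E' : Matrix (Fin n) (Fin n) A, E' * E' = E' ∧ Φ.mapMatrix E' = E)
    (P : Type u) [AddCommGroup P] [Module B P] [Module.Finite B P] [Module.Projective B P] :
    ∃ (P' : Type u) (_ : AddCommGroup P') (_ : Module A P'),
        Module.Finite A P' ∧ Module.Projective A P' ∧
          ∃ π : P' →ₛₗ[Φ] P, Surjective π ∧
            LinearMap.ker π = RingHom.ker Φ • (⊤ : Submodule A P') := by
  classical
  obtain ⟨n, r, s, hr, hs, hrs⟩ := Module.Finite.exists_comp_eq_id_of_projective B P
  have hrs' : ∀ y, r (s y) = y := fun y => LinearMap.congr_fun hrs y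
  let e : (Fin n → B) →ₗ[B] (Fin n → B) := s ∘ₗ r
  have hee : e ∘ₗ e = e := by
    refine LinearMap.ext fun v => ?_
    show s (r (s (r v))) = s (r v)
    rw [hrs']
  let E : Matrix (Fin n) (Fin n) B := LinearMap.toMatrix' e
  have hE : E * E = E := by
    rw [← LinearMap.toMatrix'_comp, hee]
  have hEe : ∀ w, E.mulVec w = e w := by
    intro w
    rw [← Matrix.toLin'_apply, Matrix.toLin'_toMatrix']
  obtain ⟨E', hE', hΦE'⟩ := hidem n E hE
  let e' : (Fin n → A) →ₗ[A] (Fin n → A) := Matrix.toLin' E'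
  have he' : ∀ v, e' (e' v) = e' v := by
    intro v
    simp only [e', Matrix.toLin'_apply, Matrix.mulVec_mulVec, hE']
  -- compatibility of `e'` and `e`
  have hcomp : ∀ v : Fin n → A, (fun i => Φ (e' v i)) = e (fun i => Φ (v i)) := by
    intro v
    rw [← hEe]
    funext i
    have := RingHom.map_mulVec Φ E' v i
    rw [← RingHom.mapMatrix_apply, hΦE'] at this
    simp only [e', Matrix.toLin'_apply]
    exact this
  let P' : Submodule A (Fin n → A) := LinearMap.range e'
  have hfix : ∀ x : P', e' x.1 = x.1 := by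
    rintro ⟨w, v, rfl⟩
    exact he' v
  let π : P' →ₛₗ[Φ] P :=
    { toFun := fun x => r (fun i => Φ (x.1 i))
      map_add' := fun x y => by
        rw [← map_add]
        congr 1
        funext i
        simp
      map_smul' := fun a x => by
        rw [← map_smul]
        congr 1
        funext i
        simp }
  have hπ : ∀ x : P', π x = r (fun i => Φ (x.1 i)) := fun _ => rfl
  refine ⟨P', inferInstance, inferInstance, ?_, ?_, π, ?_, ?_⟩
  · exact Module.Finite.range e'
  · refine Module.Projective.of_split P'.subtype e'.rangeRestrict ?_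
    ext x : 2
    exact hfix x
  · intro y
    choose v hv using fun i => hΦ (s y i)
    refine ⟨⟨e' v, LinearMap.mem_range_self _ _⟩, ?_⟩
    rw [hπ]
    show r (fun i => Φ (e' v i)) = y
    rw [hcomp]
    have : (fun i => Φ (v i)) = s y := funext hv
    rw [this]
    show r (s (r (s y))) = y
    rw [hrs', hrs']
  · apply le_antisymm
    · intro x hx
      rw [LinearMap.mem_ker, hπ] at hx
      have h0 : (fun i => Φ (x.1 i)) = 0 := by
        have h1 : (fun i => Φ (x.1 i)) = e (fun i => Φ (x.1 i)) := by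
          rw [← hcomp, hfix]
        rw [h1]
        show s (r _) = 0
        rw [hx, map_zero]
      have hmem : ∀ i, x.1 i ∈ RingHom.ker Φ := fun i => congrFun h0 i
      have hx1 : x = ∑ i, x.1 i • (⟨e' (fun j => if i = j then 1 else 0),
          LinearMap.mem_range_self _ _⟩ : P') := by
        apply Subtype.ext
        rw [Submodule.coe_sum]
        simp only [Submodule.coe_smul]
        rw [← LinearMap.pi_apply_eq_sum_univ e' x.1, hfix]
      rw [hx1]
      exact Submodule.sum_mem _ fun i _ =>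
        Submodule.smul_mem_smul (hmem i) Submodule.mem_top
    · rw [Submodule.smul_le]
      intro j hj x _
      rw [LinearMap.mem_ker, map_smulₛₗ, (RingHom.mem_ker).mp hj, zero_smul]

variable {Φ} in
lemma exists_hom_lift {P : Type u} [AddCommGroup P] [Module B P]
    {P₁ : Type u} [AddCommGroup P₁] [Module A P₁] [Module.Finite A P₁] [Module.Projective A P₁]
    {P₂ : Type u} [AddCommGroup P₂] [Module A P₂]
    (π₁ : P₁ →ₛₗ[Φ] P) (π₂ : P₂ →ₛₗ[Φ] P) (h2 : Surjective π₂) :
    ∃ g : P₁ →ₗ[A] P₂, ∀ x, π₂ (g x) = π₁ x := by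
  classical
  obtain ⟨n, f, g, hf, hg, hfg⟩ := Module.Finite.exists_comp_eq_id_of_projective A P₁
  have hfg' : ∀ x, f (g x) = x := fun x => LinearMap.congr_fun hfg x
  choose y hy using fun i : Fin n => h2 (π₁ (f (fun j => if i = j then 1 else 0)))
  let G : P₁ →ₗ[A] P₂ :=
    { toFun := fun x => ∑ i, g x i • y i
      map_add' := fun x x' => by
        rw [← Finset.sum_add_distrib]
        exact Finset.sum_congr rfl fun i _ => by rw [map_add, Pi.add_apply, add_smul]
      map_smul' := fun a x => by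
        rw [RingHom.id_apply, Finset.smul_sum]
        exact Finset.sum_congr rfl fun i _ => by rw [map_smul, Pi.smul_apply, smul_eq_mul, mul_smul] }
  refine ⟨G, fun x => ?_⟩
  show π₂ (∑ i, g x i • y i) = π₁ x
  rw [map_sum]
  have hx : x = ∑ i, g x i • f (fun j => if i = j then 1 else 0) := by
    rw [← LinearMap.pi_apply_eq_sum_univ f (g x), hfg']
  conv_rhs => rw [hx, map_sum]
  exact Finset.sum_congr rfl fun i _ => by rw [map_smulₛₗ, map_smulₛₗ, hy]

variable {Φ} in
lemma surjective_of_lift (hJ : RingHom.ker Φ ≤ Ideal.jacobson ⊥)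
    {P : Type u} [AddCommGroup P] [Module B P]
    {P₁ : Type u} [AddCommGroup P₁] [Module A P₁]
    {P₂ : Type u} [AddCommGroup P₂] [Module A P₂] [Module.Finite A P₂]
    (π₁ : P₁ →ₛₗ[Φ] P) (π₂ : P₂ →ₛₗ[Φ] P) (h1 : Surjective π₁)
    (h2k : LinearMap.ker π₂ = RingHom.ker Φ • (⊤ : Submodule A P₂))
    (g : P₁ →ₗ[A] P₂) (hg : ∀ x, π₂ (g x) = π₁ x) : Surjective g := by
  rw [← LinearMap.range_eq_top, eq_top_iff]
  refine Submodule.le_of_le_smul_of_le_jacobson_bot (I := RingHom.ker Φ) Module.Finite.fg_top hJ ?_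
  intro y _
  obtain ⟨x, hx⟩ := h1 (π₂ y)
  have hmem : y - g x ∈ LinearMap.ker π₂ := by
    rw [LinearMap.mem_ker, map_sub, hg, hx, sub_self]
  rw [h2k] at hmem
  have : y = g x + (y - g x) := by abel
  rw [this]
  exact Submodule.add_mem_sup (LinearMap.mem_range_self g x) hmem

variable {Φ} in
theorem lift_projective_unique (hJ : RingHom.ker Φ ≤ Ideal.jacobson ⊥)
    {P : Type u} [AddCommGroup P] [Module B P]
    (P₁ : Type u) [AddCommGroup P₁] [Module A P₁] [Module.Finite A P₁] [Module.Projective A P₁]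
    (P₂ : Type u) [AddCommGroup P₂] [Module A P₂] [Module.Finite A P₂] [Module.Projective A P₂]
    (π₁ : P₁ →ₛₗ[Φ] P) (π₂ : P₂ →ₛₗ[Φ] P) (h1 : Surjective π₁)
    (h1k : LinearMap.ker π₁ = RingHom.ker Φ • (⊤ : Submodule A P₁))
    (h2 : Surjective π₂)
    (h2k : LinearMap.ker π₂ = RingHom.ker Φ • (⊤ : Submodule A P₂)) :
    ∃ e : P₁ ≃ₗ[A] P₂, ∀ x : P₁, π₂ (e x) = π₁ x := by
  obtain ⟨g, hg⟩ := exists_hom_lift π₁ π₂ h2
  obtain ⟨h, hh⟩ := exists_hom_lift π₂ π₁ h1
  have hgs := surjective_of_lift hJ π₁ π₂ h1 h2k g hg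
  have hhs := surjective_of_lift hJ π₂ π₁ h2 h1k h hh
  have hinj : Injective (h ∘ₗ g) :=
    OrzechProperty.injective_of_surjective_endomorphism (h ∘ₗ g) (hhs.comp hgs)
  have hginj : Injective g := by
    intro x x' hxx
    apply hinj
    show h (g x) = h (g x')
    rw [hxx]
  exact ⟨LinearEquiv.ofBijective g ⟨hginj, hgs⟩, fun x => hg x⟩

end

end Groth.Agent.Lib.Helper16.ZW
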