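import Mathlib
import Groth.Agent.Lib.Helper16.ZW1
import Groth.Agent.Lib.Helper16.ZW14

/-!
# Witt vectors: V-adic completeness, nil kernels, idempotent lifting along W(S) -> W(R) (helper16)
-/

set_option autoImplicit false
universe u

noncomputable section

namespace Groth.Agent.Lib.Helper16.ZW
open WittVector Function
open Groth.Agent.Lib.Helper8.Witt

variable {p : ℕ} [hp : Fact p.Prime] {S R : Type u} [CommRing S] [CommRing R]

local notation "𝕎" => WittVector p

lemma truncate_eq_of_sub_mem {m : ℕ} {a b : 𝕎 S}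
    (h : a - b ∈ RingHom.ker (WittVector.truncate (p := p) (R := S) m)) :
    ∀ i, i < m → a.coeff i = b.coeff i := by
  intro i hi
  rw [RingHom.mem_ker, map_sub, sub_eq_zero] at h
  have := congrArg (fun z => TruncatedWittVector.coeff ⟨i, hi⟩ z) h
  simpa [WittVector.coeff_truncate] using this

lemma sub_mem_of_coeff_eq {m : ℕ} {a b : 𝕎 S} (h : ∀ i, i < m → a.coeff i = b.coeff i) :
    a - b ∈ RingHom.ker (WittVector.truncate (p := p) (R := S) m) := by
  rw [RingHom.mem_ker, map_sub, sub_eq_zero]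
  ext ⟨i, hi⟩
  rw [WittVector.coeff_truncate, WittVector.coeff_truncate]
  exact h i hi

/-- `W(S)` is complete for the `V`-adic filtration -/
theorem witt_complete (x : ℕ → 𝕎 S) (K : ℕ → ℕ)
    (h : ∀ m k, K m ≤ k → x k - x (K m) ∈ RingHom.ker (WittVector.truncate (p := p) (R := S) m)) :
    ∃ y, ∀ m, ∃ K', ∀ k, K' ≤ k → y - x k ∈ RingHom.ker (WittVector.truncate (p := p) (R := S) m) := by
  let K' : ℕ → ℕ := fun m => (Finset.range (m + 1)).sup K
  have hK' : ∀ j m, j ≤ m → K j ≤ K' m := fun j m hjm =>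
    Finset.le_sup (f := K) (Finset.mem_range.mpr (by omega))
  refine ⟨WittVector.mk p (fun i => (x (K' (i + 1))).coeff i), fun m => ⟨K' m, fun k hk => ?_⟩⟩
  apply sub_mem_of_coeff_eq
  intro i hi
  rw [WittVector.coeff_mk]
  have h1 := truncate_eq_of_sub_mem (h (i + 1) (K' (i + 1)) (hK' _ _ le_rfl)) i (by omega)
  have h2 := truncate_eq_of_sub_mem (h (i + 1) k ((hK' (i + 1) m (by omega)).trans hk)) i (by omega)
  rw [h1, h2]

lemma isNilpotent_teichmuller {a : S} (h : IsNilpotent a) : IsNilpotent (teichmuller p a) := by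
  obtain ⟨n, hn⟩ := h
  exact ⟨n, by rw [← map_pow, hn, teichmuller_zero]⟩

lemma isNilpotent_verschiebung {z : 𝕎 S} (h : IsNilpotent z) : IsNilpotent (verschiebung z) := by
  obtain ⟨n, hn⟩ := h
  refine ⟨n + 1, ?_⟩
  rw [verschiebung_pow_succ, pow_succ, hn, zero_mul, map_zero, mul_zero]

lemma isNilpotent_iterate_verschiebung {z : 𝕎 S} (h : IsNilpotent z) (i : ℕ) :
    IsNilpotent ((verschiebung : 𝕎 S →+ 𝕎 S)^[i] z) := by
  induction i with
  | zero => exact h
  | succ i ih =>
    rw [Function.iterate_succ_apply']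
    exact isNilpotent_verschiebung ih

/-- Witt vectors with nilpotent coefficients are nilpotent modulo each `V^m` -/
theorem exists_pow_mem_ker_truncate (a : 𝕎 S) (ha : ∀ i, IsNilpotent (a.coeff i)) (m : ℕ) :
    ∃ N, a ^ N ∈ RingHom.ker (WittVector.truncate (p := p) (R := S) m) := by
  have hsum : IsNilpotent (∑ i ∈ Finset.range m,
      (verschiebung : 𝕎 S →+ 𝕎 S)^[i] (teichmuller p (a.coeff i))) :=
    isNilpotent_sum fun i _ => isNilpotent_iterate_verschiebung (isNilpotent_teichmuller (ha i)) i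
  obtain ⟨N, hN⟩ := hsum
  refine ⟨N, ?_⟩
  have h1 := (inV_iff_mem_ker m _).mp (sub_sum_inV a m)
  rw [RingHom.mem_ker, map_sub, sub_eq_zero] at h1
  rw [RingHom.mem_ker, map_pow, h1, ← map_pow, hN, map_zero]

/-- a Witt vector with unit zeroth coefficient is a unit, when `p` is nilpotent -/
theorem isUnit_of_isUnit_coeff_zero (hp0 : IsNilpotent (p : S)) (u : 𝕎 S)
    (hu : IsUnit (u.coeff 0)) : IsUnit u := by
  obtain ⟨c, hc⟩ := hu
  have h0 : (teichmuller p ((c⁻¹ : Sˣ) : S) * u - 1).coeff 0 = 0 := by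
    have := map_sub (WittVector.constantCoeff (p := p) (R := S)) (teichmuller p ((c⁻¹ : Sˣ) : S) * u) 1
    rw [map_mul, map_one] at this
    have h2 : WittVector.constantCoeff (teichmuller p ((c⁻¹ : Sˣ) : S)) = ((c⁻¹ : Sˣ) : S) :=
      teichmuller_coeff_zero p _
    have h3 : WittVector.constantCoeff u = (c : S) := hc.symm
    rw [h2, h3, Units.inv_mul, sub_self] at this
    exact this
  obtain ⟨y, hy⟩ := exists_eq_verschiebung_of_coeff_zero h0
  have h1 : teichmuller p ((c⁻¹ : Sˣ) : S) * u = 1 + verschiebung y := by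
    rw [← hy]; ring
  have h2 : IsUnit (teichmuller p ((c⁻¹ : Sˣ) : S) * u) := by
    rw [h1]; exact isUnit_one_add_verschiebung hp0 y
  exact isUnit_of_mul_isUnit_right h2

variable (φ : S →+* R)

lemma isNilpotent_coeff_of_mem_ker (hnil : ∀ a : S, φ a = 0 → IsNilpotent a) (a : 𝕎 S)
    (ha : WittVector.map (p := p) φ a = 0) (i : ℕ) : IsNilpotent (a.coeff i) := by
  apply hnil
  have := congrArg (fun z => z.coeff i) ha
  simpa [WittVector.map_coeff] using this

theorem ker_map_le_jacobson (hnil : ∀ a : S, φ a = 0 → IsNilpotent a) (hp0 : IsNilpotent (p : S)) :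
    RingHom.ker (WittVector.map (p := p) φ) ≤ Ideal.jacobson ⊥ := by
  intro x hx
  rw [Ideal.mem_jacobson_bot]
  intro y
  apply isUnit_of_isUnit_coeff_zero hp0
  rw [add_coeff_zero, one_coeff_zero]
  have hxy : WittVector.map (p := p) φ (x * y) = 0 := by
    rw [map_mul, (RingHom.mem_ker).mp hx, zero_mul]
  have := isNilpotent_coeff_of_mem_ker φ hnil (x * y) hxy 0
  rw [add_comm]
  exact this.isUnit_one_add

theorem witt_exists_idempotent_lift (hφ : Surjective φ) (hnil : ∀ a : S, φ a = 0 → IsNilpotent a)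
    (n : ℕ) (E : Matrix (Fin n) (Fin n) (𝕎 R)) (hE : E * E = E) :
    ∃ E' : Matrix (Fin n) (Fin n) (𝕎 S), E' * E' = E' ∧
      (WittVector.map (p := p) φ).mapMatrix E' = E := by
  refine exists_idempotent_lift (WittVector.map (p := p) φ) (WittVector.map_surjective φ hφ)
    (fun m => RingHom.ker (WittVector.truncate (p := p) (R := S) m))
    (fun m => RingHom.ker (WittVector.truncate (p := p) (R := R) m))
    (fun a ha => eq_zero_of_forall_inV fun m => (inV_iff_mem_ker m a).mpr (ha m))
    (fun a ha => eq_zero_of_forall_inV fun m => (inV_iff_mem_ker m a).mpr (ha m))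
    (fun m a ha => (inV_iff_mem_ker m _).mp (((inV_iff_mem_ker m a).mpr ha).map φ))
    witt_complete
    (fun a ha m => exists_pow_mem_ker_truncate a (isNilpotent_coeff_of_mem_ker φ hnil a ha) m)
    n E hE

end Groth.Agent.Lib.Helper16.ZW
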