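import Mathlib
import Groth.Agent.Lib.Helper16.ZW13

/-!
# Idempotent near an almost idempotent matrix (Newton iteration), stability lemmas (helper16)
-/

set_option autoImplicit false
universe u

noncomputable section

namespace Groth.Agent.Lib.Helper16.ZW
open Polynomial Function

lemma X_dvd_newtonP (k : ℕ) : (X : ℤ[X]) ∣ newtonP k := by
  induction k with
  | zero => exact dvd_rfl
  | succ k ih =>
    rw [newtonP_succ]
    exact dvd_sub (Dvd.dvd.mul_left (dvd_pow ih (by norm_num)) _)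
      (Dvd.dvd.mul_left (dvd_pow ih (by norm_num)) _)

lemma dvd_newtonP_sub_X (k : ℕ) : (X ^ 2 - X : ℤ[X]) ∣ newtonP k - X := by
  have := dvd_newtonP_sub 0 k (Nat.zero_le _)
  simpa [newtonP] using this

section
variable {A : Type u} [CommRing A]

/-- Idempotent near an almost idempotent matrix: `A` complete and separated for the ideals `𝔳 m`,
entries of `x0² - x0` nilpotent modulo each `𝔳 m`. -/
theorem exists_idempotent_near (𝔳 : ℕ → Ideal A)
    (hsep : ∀ a, (∀ m, a ∈ 𝔳 m) → a = 0)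
    (hcomplete : ∀ (x : ℕ → A) (K : ℕ → ℕ), (∀ m k, K m ≤ k → x k - x (K m) ∈ 𝔳 m) →
      ∃ y, ∀ m, ∃ K', ∀ k, K' ≤ k → y - x k ∈ 𝔳 m)
    (n : ℕ) (x0 : Matrix (Fin n) (Fin n) A)
    (hnil : ∀ a b m, ∃ N, ((x0 ^ 2 - x0) a b) ^ N ∈ 𝔳 m) :
    ∃ y : Matrix (Fin n) (Fin n) A, y * y = y ∧
      ∀ m, ∃ K', ∀ k, K' ≤ k → ∀ a b, (y - aeval x0 (newtonP k)) a b ∈ 𝔳 m := by
  classical
  let x : ℕ → Matrix (Fin n) (Fin n) A := fun k => aeval x0 (newtonP k)
  let δ : Matrix (Fin n) (Fin n) A := aeval x0 (X ^ 2 - X : ℤ[X])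
  have hδ : δ = x0 ^ 2 - x0 := by simp [δ]
  let q : ∀ m, Matrix (Fin n) (Fin n) A →+* Matrix (Fin n) (Fin n) (A ⧸ 𝔳 m) := fun m =>
    (Ideal.Quotient.mk (𝔳 m)).mapMatrix
  have hq0 : ∀ m (Y : Matrix (Fin n) (Fin n) A), q m Y = 0 ↔ ∀ a b, Y a b ∈ 𝔳 m := by
    intro m Y
    constructor
    · intro h a b
      have := congrFun (congrFun h a) b
      simpa [q, Ideal.Quotient.eq_zero_iff_mem] using this
    · intro h
      ext a b
      simpa [q, Ideal.Quotient.eq_zero_iff_mem] using h a b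
  have hδnil : ∀ m, ∃ N, (q m δ) ^ N = 0 := by
    intro m
    apply matrix_isNilpotent_of_entries
    intro a b
    obtain ⟨N, hN⟩ := hnil a b m
    refine ⟨N, ?_⟩
    show ((Ideal.Quotient.mk (𝔳 m)) (δ a b)) ^ N = 0
    rw [← map_pow, Ideal.Quotient.eq_zero_iff_mem, hδ]
    exact hN
  choose K hK using hδnil
  have hqpow : ∀ m k, K m ≤ k + 1 → (q m δ) ^ (k + 1) = 0 := by
    intro m k hk
    obtain ⟨j, hj⟩ := Nat.exists_eq_add_of_le hk
    rw [hj, pow_add, hK, zero_mul]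
  have hstab1 : ∀ m k, K m ≤ k + 1 → q m ((x k) ^ 2 - x k) = 0 := by
    intro m k hk
    obtain ⟨c, hc⟩ := dvd_newtonP_sq_sub k
    have : (x k) ^ 2 - x k = δ ^ (k + 1) * aeval x0 c := by
      simp only [x, δ]
      rw [← map_pow, ← map_pow, ← map_sub, ← map_mul, hc]
    rw [this, map_mul, map_pow, hqpow m k hk, zero_mul]
  have hstab2 : ∀ m k k', K m ≤ k + 1 → k ≤ k' → q m (x k' - x k) = 0 := by
    intro m k k' hk hkk'
    obtain ⟨c, hc⟩ := dvd_newtonP_sub k k' hkk'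
    have : x k' - x k = δ ^ (k + 1) * aeval x0 c := by
      simp only [x, δ]
      rw [← map_pow, ← map_sub, ← map_mul, hc]
    rw [this, map_mul, map_pow, hqpow m k hk, zero_mul]
  have hlim : ∀ a b, ∃ y, ∀ m, ∃ K', ∀ k, K' ≤ k → y - x k a b ∈ 𝔳 m := by
    intro a b
    apply hcomplete (fun k => x k a b) K
    intro m k hk
    have := (hq0 m _).mp (hstab2 m (K m) k (by omega) hk) a b
    simpa using this
  choose yf hyf using hlim
  choose K' hK' using hyf
  let y : Matrix (Fin n) (Fin n) A := Matrix.of yf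
  let K'' : ℕ → ℕ := fun m => Finset.univ.sup fun ab : Fin n × Fin n => K' ab.1 ab.2 m
  have hy' : ∀ m k, K'' m ≤ k → ∀ a b, (y - x k) a b ∈ 𝔳 m := by
    intro m k hk a b
    have hle : K' a b m ≤ K'' m :=
      Finset.le_sup (f := fun ab : Fin n × Fin n => K' ab.1 ab.2 m) (Finset.mem_univ (a, b))
    have := hK' a b m k (hle.trans hk)
    simpa [y] using this
  have hy : ∀ m k, K'' m ≤ k → q m y = q m (x k) := by
    intro m k hk
    rw [← sub_eq_zero, ← map_sub, hq0]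
    exact hy' m k hk
  refine ⟨y, ?_, fun m => ⟨K'' m, fun k hk => hy' m k hk⟩⟩
  have hz : ∀ m, q m (y * y - y) = 0 := by
    intro m
    let k := max (K'' m) (K m)
    have h1 := hy m k (le_max_left _ _)
    have h2 := hstab1 m k ((le_max_right _ _).trans (Nat.le_succ _))
    rw [map_sub, map_mul, h1, ← map_mul, ← map_sub, ← pow_two]
    exact h2
  have : y * y - y = 0 := by
    ext a b
    apply hsep
    intro m
    exact (hq0 m _).mp (hz m) a b
  exact sub_eq_zero.mp this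

/-- consequences: multiplicative stability and closeness to `x0` -/
lemma aeval_newtonP_mul_of_mul_eq {n : ℕ} (x0 Z : Matrix (Fin n) (Fin n) A) (hZ : x0 * Z = x0)
    (k : ℕ) : aeval x0 (newtonP k) * Z = aeval x0 (newtonP k) := by
  obtain ⟨c, hc⟩ := X_dvd_newtonP k
  have : aeval x0 (newtonP k) = aeval x0 c * x0 := by
    rw [hc, mul_comm, map_mul, aeval_X]
  rw [this, mul_assoc, hZ]

lemma mul_aeval_newtonP_of_mul_eq {n : ℕ} (x0 Z : Matrix (Fin n) (Fin n) A) (hZ : Z * x0 = x0)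
    (k : ℕ) : Z * aeval x0 (newtonP k) = aeval x0 (newtonP k) := by
  obtain ⟨c, hc⟩ := X_dvd_newtonP k
  have : aeval x0 (newtonP k) = x0 * aeval x0 c := by
    rw [hc, map_mul, aeval_X]
  rw [this, ← mul_assoc, hZ]

lemma aeval_newtonP_sub_entry_mem {n : ℕ} (I : Ideal A) (x0 : Matrix (Fin n) (Fin n) A)
    (hI : ∀ a b, (x0 ^ 2 - x0) a b ∈ I) (k : ℕ) (a b : Fin n) :
    (aeval x0 (newtonP k) - x0) a b ∈ I := by
  obtain ⟨c, hc⟩ := dvd_newtonP_sub_X k
  have : aeval x0 (newtonP k) - x0 = (x0 ^ 2 - x0) * aeval x0 c := by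
    have h1 : aeval x0 (newtonP k - X) = aeval x0 ((X ^ 2 - X : ℤ[X]) * c) := by rw [hc]
    simpa using h1
  rw [this, Matrix.mul_apply]
  exact Ideal.sum_mem _ fun j _ => Ideal.mul_mem_right _ _ (hI a j)

end

end Groth.Agent.Lib.Helper16.ZW
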