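import Mathlib
import Groth.Agent.Lib.Helper16.ZW1
import Groth.Agent.Lib.Helper16.ZW7
import Groth.Agent.Lib.Helper16.ZW16

/-!
# W(R) for p-adically complete R: completeness for the filtration ker(W(R) -> W_m(R/p^m)) (helper16)
-/

set_option autoImplicit false
universe u v

noncomputable section

namespace Groth.Agent.Lib.Helper16.ZW
open WittVector Function Polynomial
open Groth.Agent.Lib.Helper8.Witt
open W4c1extbt610

variable {p : ℕ} [hp : Fact p.Prime] {R : Type u} [CommRing R]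

local notation "𝕎" => WittVector p

/-- the ideal `(p)^m` of `R` -/
abbrev pI (p : ℕ) (R : Type u) [CommRing R] (m : ℕ) : Ideal R := Ideal.span {(p : R)} ^ m

variable (p R) in
/-- `W(R) → W_m(R/p^m)` -/
def tauM (m : ℕ) :
    WittVector p R →+* TruncatedWittVector p m (R ⧸ pI p R m) :=
  (WittVector.truncate m).comp (WittVector.map (Ideal.Quotient.mk (pI p R m)))

lemma tauM_eq_iff (m : ℕ) (a b : 𝕎 R) :
    tauM p R m a = tauM p R m b ↔ ∀ i, i < m → a.coeff i - b.coeff i ∈ pI p R m := by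
  constructor
  · intro h i hi
    have := congrArg (fun z => TruncatedWittVector.coeff ⟨i, hi⟩ z) h
    simp only [tauM, RingHom.comp_apply, WittVector.coeff_truncate, WittVector.map_coeff] at this
    rw [← Ideal.Quotient.eq_zero_iff_mem, map_sub, this, sub_self]
  · intro h
    ext ⟨i, hi⟩
    simp only [tauM, RingHom.comp_apply, WittVector.coeff_truncate, WittVector.map_coeff]
    have := h i hi
    rw [← Ideal.Quotient.eq_zero_iff_mem, map_sub, sub_eq_zero] at this
    exact this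

lemma sub_mem_ker_tauM_iff (m : ℕ) (a b : 𝕎 R) :
    a - b ∈ RingHom.ker (tauM p R m) ↔ ∀ i, i < m → a.coeff i - b.coeff i ∈ pI p R m := by
  rw [RingHom.mem_ker, map_sub, sub_eq_zero, tauM_eq_iff]

lemma mem_ker_tauM_iff (m : ℕ) (a : 𝕎 R) :
    a ∈ RingHom.ker (tauM p R m) ↔ ∀ i, i < m → a.coeff i ∈ pI p R m := by
  have := sub_mem_ker_tauM_iff (p := p) m a 0
  simpa using this

lemma pI_anti {m n : ℕ} (h : m ≤ n) : pI p R n ≤ pI p R m := Ideal.pow_le_pow_right h

lemma eq_zero_of_forall_mem_pI [IsAdicComplete (Ideal.span {(p : R)}) R] {r : R}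
    (h : ∀ m, r ∈ pI p R m) : r = 0 := by
  apply IsHausdorff.haus (I := Ideal.span {(p : R)}) (M := R) inferInstance
  intro n
  rw [SModEq.zero, smul_eq_mul, Ideal.mul_top]
  exact h n

theorem tauM_sep [IsAdicComplete (Ideal.span {(p : R)}) R] (a : 𝕎 R)
    (h : ∀ m, a ∈ RingHom.ker (tauM p R m)) : a = 0 := by
  ext i
  rw [WittVector.zero_coeff]
  apply eq_zero_of_forall_mem_pI (p := p)
  intro m
  have := (mem_ker_tauM_iff (max m (i + 1)) a).mp (h _) i (by omega)
  exact pI_anti (le_max_left _ _) this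

theorem tauM_complete [IsAdicComplete (Ideal.span {(p : R)}) R] (x : ℕ → 𝕎 R) (K : ℕ → ℕ)
    (h : ∀ m k, K m ≤ k → x k - x (K m) ∈ RingHom.ker (tauM p R m)) :
    ∃ y, ∀ m, ∃ K', ∀ k, K' ≤ k → y - x k ∈ RingHom.ker (tauM p R m) := by
  let K' : ℕ → ℕ := fun m => (Finset.range (m + 1)).sup K
  have hK' : ∀ j m, j ≤ m → K j ≤ K' m := fun j m hjm =>
    Finset.le_sup (f := K) (Finset.mem_range.mpr (by omega))
  have hK'mono : ∀ m m', m ≤ m' → K' m ≤ K' m' := fun m m' hmm' =>
    Finset.sup_mono (Finset.range_mono (by omega))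
  -- coefficients stabilise
  have hstab : ∀ m k k', K m ≤ k → K m ≤ k' → ∀ i, i < m →
      (x k).coeff i - (x k').coeff i ∈ pI p R m := by
    intro m k k' hk hk' i hi
    have h1 := (sub_mem_ker_tauM_iff m _ _).mp (h m k hk) i hi
    have h2 := (sub_mem_ker_tauM_iff m _ _).mp (h m k' hk') i hi
    have : (x k).coeff i - (x k').coeff i =
        ((x k).coeff i - (x (K m)).coeff i) - ((x k').coeff i - (x (K m)).coeff i) := by ring
    rw [this]
    exact sub_mem h1 h2
  let f : ℕ → ℕ → R := fun i n => (x (K' (max n (i + 1)))).coeff i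
  have hf : ∀ i, ∃ L : R, ∀ n, f i n ≡ L [SMOD (Ideal.span {(p : R)} ^ n • ⊤ : Submodule R R)] := by
    intro i
    apply IsPrecomplete.prec (I := Ideal.span {(p : R)}) (M := R) inferInstance
    intro m n hmn
    rw [SModEq.sub_mem, smul_eq_mul, Ideal.mul_top]
    have h1 : max m (i + 1) ≤ max n (i + 1) := max_le_max hmn le_rfl
    have := hstab (max m (i + 1)) (K' (max m (i + 1))) (K' (max n (i + 1)))
      (hK' _ _ le_rfl) ((hK' _ _ le_rfl).trans (hK'mono _ _ h1)) i (by omega)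
    exact pI_anti (le_max_left _ _) this
  choose L hL using hf
  refine ⟨WittVector.mk p L, fun m => ⟨K' m, fun k hk => ?_⟩⟩
  rw [sub_mem_ker_tauM_iff]
  intro i hi
  rw [WittVector.coeff_mk]
  have h1 := hL i m
  rw [SModEq.sub_mem, smul_eq_mul, Ideal.mul_top] at h1
  have hfm : f i m = (x (K' m)).coeff i := by
    show (x (K' (max m (i + 1)))).coeff i = _
    rw [max_eq_left (by omega)]
  rw [hfm] at h1
  have h2 := hstab m (K' m) k (hK' _ _ le_rfl) ((hK' _ _ le_rfl).trans hk) i hi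
  have : L i - (x k).coeff i =
      -((x (K' m)).coeff i - L i) + ((x (K' m)).coeff i - (x k).coeff i) := by ring
  rw [this]
  exact add_mem (neg_mem h1) h2

/-- elements of `I_R` are nilpotent modulo `ker τ_m` -/
theorem exists_pow_mem_ker_tauM (d : 𝕎 R) (hd : d.coeff 0 = 0) (m : ℕ) :
    ∃ N, d ^ N ∈ RingHom.ker (tauM p R m) := by
  obtain ⟨y, rfl⟩ := exists_eq_verschiebung_of_coeff_zero hd
  refine ⟨m * m + 1, ?_⟩
  rw [verschiebung_pow_succ, RingHom.mem_ker, map_mul]
  have hN : ((p : ℕ) : R ⧸ pI p R m) ^ m = 0 := by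
    have h1 : ((p : ℕ) : R ⧸ pI p R m) = Ideal.Quotient.mk (pI p R m) (p : R) :=
      (map_natCast (Ideal.Quotient.mk (pI p R m)) p).symm
    rw [h1, ← map_pow, Ideal.Quotient.eq_zero_iff_mem]
    exact Ideal.pow_mem_pow (Ideal.mem_span_singleton_self (p : R)) m
  have h2 := (inV_iff_mem_ker m _).mp (inV_pow_mul_of_pow_eq_zero (p := p) hN m)
  have h3 : tauM p R m ((p : 𝕎 R) ^ (m * m)) = 0 := by
    have h4 : WittVector.map (Ideal.Quotient.mk (pI p R m)) ((p : 𝕎 R) ^ (m * m)) =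
        (p : 𝕎 (R ⧸ pI p R m)) ^ (m * m) := by
      have h5 : WittVector.map (Ideal.Quotient.mk (pI p R m)) (p : 𝕎 R) = (p : 𝕎 (R ⧸ pI p R m)) :=
        map_natCast (WittVector.map (Ideal.Quotient.mk (pI p R m))) p
      exact (map_pow (WittVector.map (Ideal.Quotient.mk (pI p R m))) (p : 𝕎 R) (m * m)).trans
        (congrArg (fun z : 𝕎 (R ⧸ pI p R m) => z ^ (m * m)) h5)
    show WittVector.truncate m (WittVector.map (Ideal.Quotient.mk (pI p R m)) ((p : 𝕎 R) ^ (m * m))) = 0
    rw [h4]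
    exact h2
  rw [h3, zero_mul]

lemma coeff_zero_mem_of_mem_ker_tauM {m : ℕ} (hm : 0 < m) {a : 𝕎 R}
    (ha : a ∈ RingHom.ker (tauM p R m)) : a.coeff 0 ∈ pI p R m :=
  (mem_ker_tauM_iff m a).mp ha 0 hm

end Groth.Agent.Lib.Helper16.ZW
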