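import Mathlib
import Groth.Agent.Lib.Helper16.ZW17

/-!
# Idempotent lifting in End(P) modulo I_R and normal decompositions over p-adically complete rings (helper16)
-/

set_option autoImplicit false
universe u v

noncomputable section

namespace Groth.Agent.Lib.Helper16.ZW
open WittVector Function Polynomial
open Groth.Agent.Lib.Helper8.Witt
open W4c1extbt610

variable {p : ℕ} [hp : Fact p.Prime] {R : Type u} [CommRing R]

local notation "𝕎" => WittVector p

section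
variable {A : Type u} [CommRing A] {P : Type v} [AddCommGroup P] [Module A P]

lemma map_mem_smul_range (I : Ideal A) (ε : P →ₗ[A] P) {z : P}
    (hz : z ∈ I • (⊤ : Submodule A P)) : ε z ∈ I • LinearMap.range ε := by
  refine Submodule.smul_induction_on hz (fun r hr m _ => ?_) (fun x y hx hy => ?_)
  · rw [map_smul]
    exact Submodule.smul_mem_smul hr (LinearMap.mem_range_self ε m)
  · rw [map_add]
    exact add_mem hx hy

lemma pi_map_mem_smul_top (I : Ideal A) {n : ℕ} (ρ : (Fin n → A) →ₗ[A] P) (w : Fin n → A)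
    (hw : ∀ a, w a ∈ I) : ρ w ∈ I • (⊤ : Submodule A P) := by
  classical
  rw [LinearMap.pi_apply_eq_sum_univ ρ w]
  exact Submodule.sum_mem _ fun a _ => Submodule.smul_mem_smul (hw a) Submodule.mem_top

end

/-- idempotent lifting in `End(P)` modulo `I_R`, for `R` `p`-adically complete -/
theorem exists_idempotent_end [IsAdicComplete (Ideal.span {(p : R)}) R]
    {P : Type v} [AddCommGroup P] [Module (𝕎 R) P] [Module.Finite (𝕎 R) P]
    [Module.Projective (𝕎 R) P] (ε₀ : P →ₗ[𝕎 R] P)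
    (h : ∀ x, ε₀ (ε₀ x) - ε₀ x ∈ IV p R • (⊤ : Submodule (𝕎 R) P)) :
    ∃ ε : P →ₗ[𝕎 R] P, (∀ x, ε (ε x) = ε x) ∧
      ∀ x, ε x - ε₀ x ∈ IV p R • (⊤ : Submodule (𝕎 R) P) := by
  classical
  obtain ⟨n, ρ, ι, hρ, hι, hρι⟩ := Module.Finite.exists_comp_eq_id_of_projective (𝕎 R) P
  have hρι' : ∀ x, ρ (ι x) = x := fun x => LinearMap.congr_fun hρι x
  let g₀ : (Fin n → 𝕎 R) →ₗ[𝕎 R] (Fin n → 𝕎 R) := ι ∘ₗ ε₀ ∘ₗ ρ
  let gP : (Fin n → 𝕎 R) →ₗ[𝕎 R] (Fin n → 𝕎 R) := ι ∘ₗ ρ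
  let X₀ : Matrix (Fin n) (Fin n) (𝕎 R) := LinearMap.toMatrix' g₀
  let EP : Matrix (Fin n) (Fin n) (𝕎 R) := LinearMap.toMatrix' gP
  have hX₀EP : X₀ * EP = X₀ := by
    rw [← LinearMap.toMatrix'_comp]
    congr 1
    refine LinearMap.ext fun v => ?_
    show ι (ε₀ (ρ (ι (ρ v)))) = ι (ε₀ (ρ v))
    rw [hρι']
  have hEPX₀ : EP * X₀ = X₀ := by
    rw [← LinearMap.toMatrix'_comp]
    congr 1
    refine LinearMap.ext fun v => ?_
    show ι (ρ (ι (ε₀ (ρ v)))) = ι (ε₀ (ρ v))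
    rw [hρι']
  have hsq : X₀ ^ 2 - X₀ = LinearMap.toMatrix' (g₀ ∘ₗ g₀ - g₀) := by
    rw [map_sub, LinearMap.toMatrix'_comp, pow_two]
  have hentry : ∀ a b, (X₀ ^ 2 - X₀) a b ∈ IV p R := by
    intro a b
    rw [hsq, LinearMap.toMatrix'_apply]
    show (ι (ε₀ (ρ (ι (ε₀ (ρ _))))) - ι (ε₀ (ρ _))) a ∈ IV p R
    rw [hρι', ← map_sub]
    exact functional_mem (IV p R) (LinearMap.proj a ∘ₗ ι) (h _)
  have hnil : ∀ a b m, ∃ N, ((X₀ ^ 2 - X₀) a b) ^ N ∈ RingHom.ker (tauM p R m) := fun a b m =>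
    exists_pow_mem_ker_tauM _ ((mem_IV_iff_coeff_zero _).mp (hentry a b)) m
  obtain ⟨Y, hYY, hYlim⟩ := exists_idempotent_near (fun m => RingHom.ker (tauM p R m))
    tauM_sep tauM_complete n X₀ hnil
  -- Y * EP = Y and EP * Y = Y
  have hYEP : Y * EP = Y := by
    rw [← sub_eq_zero]
    refine Matrix.ext fun a b => ?_
    rw [Matrix.zero_apply]
    apply tauM_sep
    intro m
    obtain ⟨K', hK'⟩ := hYlim m
    have hk := hK' K' le_rfl
    have : Y * EP - Y = (Y - aeval X₀ (newtonP K')) * (EP - 1) := by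
      rw [sub_mul, mul_sub, mul_sub, mul_one, mul_one, aeval_newtonP_mul_of_mul_eq X₀ EP hX₀EP]
      abel
    rw [this, Matrix.mul_apply]
    exact Ideal.sum_mem _ fun c _ => Ideal.mul_mem_right _ _ (hk a c)
  have hEPY : EP * Y = Y := by
    rw [← sub_eq_zero]
    refine Matrix.ext fun a b => ?_
    rw [Matrix.zero_apply]
    apply tauM_sep
    intro m
    obtain ⟨K', hK'⟩ := hYlim m
    have hk := hK' K' le_rfl
    have : EP * Y - Y = (EP - 1) * (Y - aeval X₀ (newtonP K')) := by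
      rw [sub_mul, mul_sub, mul_sub, one_mul, one_mul, mul_aeval_newtonP_of_mul_eq X₀ EP hEPX₀]
      abel
    rw [this, Matrix.mul_apply]
    exact Ideal.sum_mem _ fun c _ => Ideal.mul_mem_left _ _ (hk c b)
  -- Y - X₀ has entries in I_R
  have hYX₀ : ∀ a b, (Y - X₀) a b ∈ IV p R := by
    intro a b
    rw [mem_IV_iff_coeff_zero]
    apply eq_zero_of_forall_mem_pI (p := p)
    intro m
    obtain ⟨K', hK'⟩ := hYlim (m + 1)
    have hk := hK' K' le_rfl a b
    have h1 := coeff_zero_mem_of_mem_ker_tauM (Nat.succ_pos m) hk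
    have h2 : (aeval X₀ (newtonP K') - X₀) a b ∈ IV p R :=
      aeval_newtonP_sub_entry_mem (IV p R) X₀ hentry K' a b
    rw [mem_IV_iff_coeff_zero] at h2
    have h3 : (Y - X₀) a b = (Y - aeval X₀ (newtonP K')) a b + (aeval X₀ (newtonP K') - X₀) a b := by
      simp only [Matrix.sub_apply]; ring
    rw [h3, add_coeff_zero, h2, add_zero]
    exact pI_anti (Nat.le_succ m) h1
  let ε : P →ₗ[𝕎 R] P := ρ ∘ₗ Matrix.toLin' Y ∘ₗ ι
  have hgP : Matrix.toLin' EP = gP := Matrix.toLin'_toMatrix' gP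
  have hg₀ : Matrix.toLin' X₀ = g₀ := Matrix.toLin'_toMatrix' g₀
  refine ⟨ε, fun x => ?_, fun x => ?_⟩
  · show ρ (Matrix.toLin' Y (ι (ρ (Matrix.toLin' Y (ι x))))) = ρ (Matrix.toLin' Y (ι x))
    have h1 : ι (ρ (Matrix.toLin' Y (ι x))) = Matrix.toLin' EP (Matrix.toLin' Y (ι x)) := by
      rw [hgP]; rfl
    rw [h1, ← Matrix.toLin'_mul_apply, ← Matrix.toLin'_mul_apply, hYEP, hYY]
  · have h1 : ε₀ x = ρ (Matrix.toLin' X₀ (ι x)) := by
      rw [hg₀]
      show ε₀ x = ρ (ι (ε₀ (ρ (ι x))))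
      rw [hρι', hρι']
    show ρ (Matrix.toLin' Y (ι x)) - ε₀ x ∈ _
    rw [h1, ← map_sub, ← LinearMap.sub_apply, ← map_sub, Matrix.toLin'_apply]
    apply pi_map_mem_smul_top
    intro a
    rw [Matrix.mulVec, dotProduct]
    exact Ideal.sum_mem _ fun b _ => Ideal.mul_mem_right _ _ (hYX₀ a b)

/-- normal decomposition over a `p`-adically complete ring -/
theorem exists_normalDecomposition [IsAdicComplete (Ideal.span {(p : R)}) R]
    {P : Type v} [AddCommGroup P] [Module (𝕎 R) P] [Module.Finite (𝕎 R) P]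
    [Module.Projective (𝕎 R) P] (Q : Submodule (𝕎 R) P)
    (hQ : ∃ C : Submodule (𝕎 R) P,
      Q ⊔ C = ⊤ ∧ Q ⊓ C = IV p R • (⊤ : Submodule (𝕎 R) P)) :
    ∃ L T : Submodule (𝕎 R) P, IsCompl L T ∧ Q = L ⊔ IV p R • T := by
  obtain ⟨C, hsup, hinf⟩ := hQ
  have hIQ : IV p R • (⊤ : Submodule (𝕎 R) P) ≤ Q := hinf ▸ inf_le_left
  have hIC : IV p R • (⊤ : Submodule (𝕎 R) P) ≤ C := hinf ▸ inf_le_right
  -- splitting
  have hsurj : Surjective (Q.subtype.coprod C.subtype) := by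
    rw [← LinearMap.range_eq_top, ← Submodule.sup_eq_range, hsup]
  obtain ⟨σ, hσ⟩ := Module.projective_lifting_property (Q.subtype.coprod C.subtype)
    (LinearMap.id : P →ₗ[𝕎 R] P) hsurj
  have hσ' : ∀ x, ((σ x).1 : P) + ((σ x).2 : P) = x := by
    intro x
    have := LinearMap.congr_fun hσ x
    simpa [LinearMap.coprod_apply] using this
  let ε₀ : P →ₗ[𝕎 R] P := C.subtype ∘ₗ LinearMap.snd _ _ _ ∘ₗ σ
  have hε₀C : ∀ x, ε₀ x ∈ C := fun x => (σ x).2.2
  have hε₀Q : ∀ x, x - ε₀ x ∈ Q := by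
    intro x
    have : x - ε₀ x = ((σ x).1 : P) := by
      show x - ((σ x).2 : P) = _
      rw [sub_eq_iff_eq_add]
      exact (hσ' x).symm
    rw [this]
    exact (σ x).1.2
  have h0 : ∀ x, ε₀ (ε₀ x) - ε₀ x ∈ IV p R • (⊤ : Submodule (𝕎 R) P) := by
    intro x
    rw [← hinf]
    refine ⟨?_, ?_⟩
    · have : ε₀ (ε₀ x) - ε₀ x = -(ε₀ x - ε₀ (ε₀ x)) := by abel
      rw [this]
      exact neg_mem (hε₀Q (ε₀ x))
    · exact sub_mem (hε₀C _) (hε₀C _)
  obtain ⟨ε, hεε, hεε₀⟩ := exists_idempotent_end ε₀ h0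
  refine ⟨LinearMap.ker ε, LinearMap.range ε, ?_, ?_⟩
  · refine IsCompl.of_eq ?_ ?_
    · rw [eq_bot_iff]
      rintro x ⟨hx1, y, rfl⟩
      rw [SetLike.mem_coe, LinearMap.mem_ker, hεε] at hx1
      rw [hx1]; exact Submodule.zero_mem _
    · rw [eq_top_iff]
      intro x _
      have : x = (x - ε x) + ε x := by abel
      rw [this]
      refine Submodule.add_mem_sup ?_ (LinearMap.mem_range_self ε x)
      rw [LinearMap.mem_ker, map_sub, hεε, sub_self]
  · have hLQ : LinearMap.ker ε ≤ Q := by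
      intro x hx
      rw [LinearMap.mem_ker] at hx
      have : x = (x - ε₀ x) - (ε x - ε₀ x) := by rw [hx]; abel
      rw [this]
      exact sub_mem (hε₀Q x) (hIQ (hεε₀ x))
    apply le_antisymm
    · intro q hq
      have hq1 : q - ε q ∈ LinearMap.ker ε := by
        rw [LinearMap.mem_ker, map_sub, hεε, sub_self]
      have hεqQ : ε q ∈ Q := by
        have : ε q = q - (q - ε q) := by abel
        rw [this]
        exact sub_mem hq (hLQ hq1)
      have hεqC : ε q ∈ C := by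
        have : ε q = ε₀ q + (ε q - ε₀ q) := by abel
        rw [this]
        exact add_mem (hε₀C q) (hIC (hεε₀ q))
      have hεqI : ε q ∈ IV p R • (⊤ : Submodule (𝕎 R) P) := by
        rw [← hinf]; exact ⟨hεqQ, hεqC⟩
      have h2 := map_mem_smul_range (IV p R) ε hεqI
      rw [hεε] at h2
      have : q = (q - ε q) + ε q := by abel
      rw [this]
      exact Submodule.add_mem_sup hq1 h2
    · refine sup_le hLQ ?_
      exact (Submodule.smul_mono le_rfl le_top).trans hIQ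

end Groth.Agent.Lib.Helper16.ZW
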