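import Mathlib
import Groth.Agent.Lib.Helper16.ZW3
import Groth.Agent.Lib.Helper16.ZW4

/-!
# Zink displays: base change of V# and of the nilpotence condition (helper16)
-/

set_option autoImplicit false
universe u v

noncomputable section

namespace Groth.Agent.Lib.Helper16.ZW
open WittVector Function Dieu TensorProduct
open Groth.Agent.Lib.Helper8.Witt

section General

variable {A : Type u} {B : Type u} [CommRing A] [CommRing B] (φ : A →+* B)
variable {P : Type v} [AddCommGroup P] [Module A P]

/-- the bi-additive map underlying `theta` -/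
def thetaBil (g : A →+* A) (g' : B →+* B) : Res g →+ P →+ BC g' (BC φ P) where
  toFun u :=
    { toFun := fun y => BC.tmul g' (φ u.val) (BC.tmul φ 1 y)
      map_zero' := by simp
      map_add' := fun y z => by rw [BC.tmul_add, BC.tmul_add] }
  map_zero' := by
    ext y
    simp
  map_add' u v := by
    ext y
    simp [BC.add_tmul]

/-- the `φ`-semilinear map `BC g P → BC g' (BC φ P)`, `u ⊗ y ↦ φ u ⊗ (1 ⊗ y)` -/
def theta (g : A →+* A) (g' : B →+* B) (hc : ∀ a, φ (g a) = g' (φ a)) :
    BC g P →+ BC g' (BC φ P) :=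
  (TensorProduct.liftAddHom (thetaBil φ g g') (by
    intro a u y
    change BC.tmul g' (φ (g a * u.val)) (BC.tmul φ 1 y) = BC.tmul g' (φ u.val) (BC.tmul φ 1 (a • y))
    rw [map_mul, hc, mul_comm, BC.tmul_mul_apply, BC.smul_tmul, mul_one, BC.tmul_apply_eq]) :
      Res g ⊗[A] P →+ BC g' (BC φ P))

@[simp] lemma theta_tmul (g : A →+* A) (g' : B →+* B) (hc : ∀ a, φ (g a) = g' (φ a)) (u : A) (y : P) :
    theta φ g g' hc (BC.tmul g u y) = BC.tmul g' (φ u) (BC.tmul φ 1 y) := rfl

lemma theta_smul (g : A →+* A) (g' : B →+* B) (hc : ∀ a, φ (g a) = g' (φ a)) (a : A) (z : BC g P) :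
    theta φ g g' hc (a • z) = φ a • theta φ g g' hc z := by
  induction z using BC.induction_on g with
  | zero => simp
  | tmul b x => simp
  | add z₁ z₂ h₁ h₂ => rw [smul_add, map_add, map_add, h₁, h₂, smul_add]

lemma theta_castHom (g₁ g₂ : A →+* A) (g₁' g₂' : B →+* B) (hc₁ : ∀ a, φ (g₁ a) = g₁' (φ a))
    (hc₂ : ∀ a, φ (g₂ a) = g₂' (φ a)) (e : g₁ = g₂) (e' : g₁' = g₂') (z : BC g₁ P) :
    BC.castHom e' (theta φ g₁ g₁' hc₁ z) = theta φ g₂ g₂' hc₂ (BC.castHom e z) := by
  subst e e'
  rfl

lemma theta_pushc (g h gh : A →+* A) (g' h' gh' : B →+* B) (e : g.comp h = gh)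
    (e' : g'.comp h' = gh') (hcg : ∀ a, φ (g a) = g' (φ a)) (hch : ∀ a, φ (h a) = h' (φ a))
    (hcgh : ∀ a, φ (gh a) = gh' (φ a)) (η : BC h P) :
    pushc g' h' gh' e' (theta φ h h' hch η) = theta φ gh gh' hcgh (pushc g h gh e η) := by
  induction η using BC.induction_on h with
  | zero => simp
  | tmul b x => simp [hcg]
  | add z₁ z₂ h₁ h₂ => simp [h₁, h₂]

lemma theta_Tc (g h gh : A →+* A) (g' h' gh' : B →+* B) (e : g.comp h = gh)
    (e' : g'.comp h' = gh') (hcg : ∀ a, φ (g a) = g' (φ a)) (hch : ∀ a, φ (h a) = h' (φ a))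
    (hcgh : ∀ a, φ (gh a) = gh' (φ a))
    (β : P →ₗ[A] BC h P) (β' : BC φ P →ₗ[B] BC h' (BC φ P))
    (hβ : ∀ x, β' (BC.tmul φ 1 x) = theta φ h h' hch (β x)) (ζ : BC g P) :
    Tc g' h' gh' e' β' (theta φ g g' hcg ζ) = theta φ gh gh' hcgh (Tc g h gh e β ζ) := by
  induction ζ using BC.induction_on g with
  | zero => simp
  | tmul b x =>
    rw [theta_tmul, Tc_tmul, Tc_tmul, hβ, theta_smul, theta_pushc φ g h gh g' h' gh' e e' hcg hch hcgh]
  | add z₁ z₂ h₁ h₂ => simp [h₁, h₂]

lemma theta_mem (g : A →+* A) (g' : B →+* B) (hc : ∀ a, φ (g a) = g' (φ a)) (𝔟 : Ideal A)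
    (z : BC g P) (hz : z ∈ 𝔟 • (⊤ : Submodule A (BC g P))) :
    theta φ g g' hc z ∈ (𝔟.map φ) • (⊤ : Submodule B (BC g' (BC φ P))) := by
  refine Submodule.smul_induction_on hz (fun r hr m _ => ?_) (fun x y hx hy => ?_)
  · rw [theta_smul]
    exact Submodule.smul_mem_smul (Ideal.mem_map_of_mem φ hr) Submodule.mem_top
  · rw [map_add]
    exact add_mem hx hy

end General

section Witt

variable {p : ℕ} [hp : Fact p.Prime] {S R : Type u} [CommRing S] [CommRing R] (f : S →+* R)
variable {P : Type v} [AddCommGroup P] [Module (WittVector p S) P]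

local notation "σS" => (WittVector.frobenius : WittVector p S →+* WittVector p S)
local notation "σR" => (WittVector.frobenius : WittVector p R →+* WittVector p R)
local notation "φW" => (WittVector.map f : WittVector p S →+* WittVector p R)

lemma map_frob (a : WittVector p S) : φW (σS a) = σR (φW a) :=
  (frobenius_isPoly p).map f a

lemma map_frob_pow (n : ℕ) (a : WittVector p S) : φW ((σS ^ n) a) = (σR ^ n) (φW a) := by
  have h : Function.Semiconj (φW) (σS) (σR) := fun x => map_frob f x
  have h2 := (h.iterate_right n).eq a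
  have e1 : (σS ^ n) a = (σS)^[n] a := by rw [RingHom.coe_pow]
  have e2 : (σR ^ n) (φW a) = (σR)^[n] (φW a) := by rw [RingHom.coe_pow]
  rw [e1, e2]
  exact h2

open W4c1extbt610 in
lemma map_IV_le : (IV p S).map φW ≤ IV p R := by
  rw [IV, Ideal.map_span, Ideal.span_le]
  rintro _ ⟨_, ⟨w, rfl⟩, rfl⟩
  have : φW (verschiebung w) = verschiebung (φW w) := WittVector.map_verschiebung f w
  rw [this]
  exact verschiebung_mem_IV p R _

lemma map_span_p_le :
    (Ideal.span {(p : WittVector p S)}).map φW ≤ Ideal.span {(p : WittVector p R)} := by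
  rw [Ideal.map_span, Ideal.span_le]
  rintro _ ⟨_, rfl, rfl⟩
  have : φW (p : WittVector p S) = (p : WittVector p R) := map_natCast φW p
  rw [this]
  exact Ideal.subset_span rfl

open W4c1extbt610 in
lemma map_IV_sup_le :
    (IV p S ⊔ Ideal.span {(p : WittVector p S)}).map φW ≤
      IV p R ⊔ Ideal.span {(p : WittVector p R)} := by
  rw [Ideal.map_sup]
  exact sup_le_sup (map_IV_le f) (map_span_p_le f)

variable {f}

/-- `V#` of the base change restricted to `1 ⊗ P` is the base change of `V#` -/
theorem VsR_tmul_one (D : W4c1extbt610.Display3n p S P)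
    (DR : W4c1extbt610.Display3n p R (BC (WittVector.map f : WittVector p S →+* WittVector p R) P)) (hDR : IsDispBaseChange f D DR)
    (Vs : P →ₗ[WittVector p S] BC (WittVector.frobenius : WittVector p S →+* WittVector p S) P) (hVs : IsVSharp D Vs)
    (VsR : BC (WittVector.map f : WittVector p S →+* WittVector p R) P →ₗ[WittVector p R] BC (WittVector.frobenius : WittVector p R →+* WittVector p R) (BC (WittVector.map f : WittVector p S →+* WittVector p R) P)) (hVsR : IsVSharp DR VsR) (x : P) :
    VsR (BC.tmul (WittVector.map f : WittVector p S →+* WittVector p R) 1 x) = theta (WittVector.map f : WittVector p S →+* WittVector p R) (WittVector.frobenius : WittVector p S →+* WittVector p S) (WittVector.frobenius : WittVector p R →+* WittVector p R) (map_frob f) (Vs x) := by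
  have hx : x ∈ Submodule.span (WittVector p S) (Set.range D.Vinv) := by
    rw [D.span_range_Vinv]; trivial
  induction hx using Submodule.span_induction with
  | mem x hx =>
    obtain ⟨y, rfl⟩ := hx
    have hy : BC.tmul (WittVector.map f : WittVector p S →+* WittVector p R) 1 (y : P) ∈ DR.Q := by
      rw [hDR.Q_eq, LinearMap.mem_ker, bcQuotMap_tmul]
      have : D.Q.mkQ (y : P) = 0 := by
        rw [Submodule.mkQ_apply, Submodule.Quotient.mk_eq_zero]
        exact y.2
      rw [this, BC.tmul_zero]
    have h1 := hDR.Vinv_tmul 1 y hy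
    have h2 := hVsR.app_smul_Vinv 1 ⟨_, hy⟩
    have h3 := hVs.app_smul_Vinv 1 y
    rw [one_smul] at h2 h3
    rw [h1, map_one] at h2
    rw [h2, h3, theta_tmul, map_one]
  | zero => rw [BC.tmul_zero, map_zero, map_zero, map_zero]
  | add x y _ _ hx hy => rw [BC.tmul_add, map_add, map_add, map_add, hx, hy]
  | smul a x _ hx =>
    rw [← BC.tmul_apply_eq, BC.tmul_eq_smul_tmul_one, map_smul, map_smul, hx, theta_smul]

theorem vSharpPow_VsR_tmul_one (D : W4c1extbt610.Display3n p S P)
    (DR : W4c1extbt610.Display3n p R (BC (WittVector.map f : WittVector p S →+* WittVector p R) P)) (hDR : IsDispBaseChange f D DR)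
    (Vs : P →ₗ[WittVector p S] BC (WittVector.frobenius : WittVector p S →+* WittVector p S) P) (hVs : IsVSharp D Vs)
    (VsR : BC (WittVector.map f : WittVector p S →+* WittVector p R) P →ₗ[WittVector p R] BC (WittVector.frobenius : WittVector p R →+* WittVector p R) (BC (WittVector.map f : WittVector p S →+* WittVector p R) P)) (hVsR : IsVSharp DR VsR) (n : ℕ) (x : P) :
    vSharpPow VsR n (BC.tmul (WittVector.map f : WittVector p S →+* WittVector p R) 1 x) =
      theta (WittVector.map f : WittVector p S →+* WittVector p R) ((WittVector.frobenius : WittVector p S →+* WittVector p S) ^ (n + 1)) ((WittVector.frobenius : WittVector p R →+* WittVector p R) ^ (n + 1)) (map_frob_pow f (n + 1)) (vSharpPow Vs n x) := by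
  induction n generalizing x with
  | zero =>
    rw [vSharpPow_zero_apply, vSharpPow_zero_apply, VsR_tmul_one D DR hDR Vs hVs VsR hVsR]
    exact theta_castHom (WittVector.map f : WittVector p S →+* WittVector p R) (WittVector.frobenius : WittVector p S →+* WittVector p S) ((WittVector.frobenius : WittVector p S →+* WittVector p S) ^ 1) (WittVector.frobenius : WittVector p R →+* WittVector p R) ((WittVector.frobenius : WittVector p R →+* WittVector p R) ^ 1) (map_frob f) (map_frob_pow f 1)
      (pow_one (WittVector.frobenius : WittVector p S →+* WittVector p S)).symm (pow_one (WittVector.frobenius : WittVector p R →+* WittVector p R)).symm (Vs x)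
  | succ n ih =>
    rw [vSharpPow_succ_apply', vSharpPow_succ_apply', VsR_tmul_one D DR hDR Vs hVs VsR hVsR]
    exact theta_Tc (WittVector.map f : WittVector p S →+* WittVector p R) (WittVector.frobenius : WittVector p S →+* WittVector p S) ((WittVector.frobenius : WittVector p S →+* WittVector p S) ^ (n + 1)) ((WittVector.frobenius : WittVector p S →+* WittVector p S) ^ (n + 1 + 1)) (WittVector.frobenius : WittVector p R →+* WittVector p R) ((WittVector.frobenius : WittVector p R →+* WittVector p R) ^ (n + 1)) ((WittVector.frobenius : WittVector p R →+* WittVector p R) ^ (n + 1 + 1))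
      (comp_pow_eq_pow_succ (WittVector.frobenius : WittVector p S →+* WittVector p S) (n + 1)) (comp_pow_eq_pow_succ (WittVector.frobenius : WittVector p R →+* WittVector p R) (n + 1))
      (map_frob f) (map_frob_pow f (n + 1)) (map_frob_pow f (n + 1 + 1))
      (vSharpPow Vs n) (vSharpPow VsR n) ih (Vs x)

theorem isVNilpotent_baseChange (D : W4c1extbt610.Display3n p S P)
    (DR : W4c1extbt610.Display3n p R (BC (WittVector.map f : WittVector p S →+* WittVector p R) P)) (hDR : IsDispBaseChange f D DR)
    (Vs : P →ₗ[WittVector p S] BC (WittVector.frobenius : WittVector p S →+* WittVector p S) P) (hVs : IsVSharp D Vs)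
    (VsR : BC (WittVector.map f : WittVector p S →+* WittVector p R) P →ₗ[WittVector p R] BC (WittVector.frobenius : WittVector p R →+* WittVector p R) (BC (WittVector.map f : WittVector p S →+* WittVector p R) P)) (hVsR : IsVSharp DR VsR)
    (hnil : IsVNilpotent Vs) : IsVNilpotent VsR := by
  obtain ⟨n, hn⟩ := hnil
  refine ⟨n, fun ξ => ?_⟩
  induction ξ using BC.induction_on (WittVector.map f : WittVector p S →+* WittVector p R) with
  | zero => rw [map_zero]; exact zero_mem _
  | tmul w x =>
    rw [BC.tmul_eq_smul_tmul_one, map_smul]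
    refine Submodule.smul_mem _ _ ?_
    rw [vSharpPow_VsR_tmul_one D DR hDR Vs hVs VsR hVsR]
    exact Submodule.smul_mono_left (map_IV_sup_le f) (theta_mem (WittVector.map f : WittVector p S →+* WittVector p R) _ _ _ _ _ (hn x))
  | add z₁ z₂ h₁ h₂ => rw [map_add]; exact add_mem h₁ h₂

theorem isDisplay_baseChange (D : W4c1extbt610.Display3n p S P)
    (DR : W4c1extbt610.Display3n p R (BC (WittVector.map f : WittVector p S →+* WittVector p R) P)) (hDR : IsDispBaseChange f D DR)
    (hp0 : IsNilpotent (p : S)) (hD : IsDisplay D) : IsDisplay DR := by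
  obtain ⟨Vs, hVs, hnil⟩ := hD
  have hpR : IsNilpotent (p : R) := by
    have := hp0.map f
    rwa [map_natCast] at this
  obtain ⟨L, T, hc, hQ⟩ := DR.exists_normal
  exact ⟨Vsharp DR L T hc hQ hpR, isVSharp_Vsharp DR L T hc hQ hpR,
    isVNilpotent_baseChange D DR hDR Vs hVs _ (isVSharp_Vsharp DR L T hc hQ hpR) hnil⟩

end Witt

end Groth.Agent.Lib.Helper16.ZW
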