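import Mathlib
import Groth.Agent.Lib.Helper16.ZW5
import Groth.Agent.Lib.Helper16.ZW7

/-!
# Zink displays: existence and uniqueness of the base change of a 3n-display (helper16)
-/

set_option autoImplicit false
universe u v

noncomputable section

namespace Groth.Agent.Lib.Helper16.ZW
open WittVector Function Dieu TensorProduct W4c1extbt610
open Groth.Agent.Lib.Helper8.Witt

section Vi

variable {p : ℕ} [hp : Fact p.Prime] {R : Type u} [CommRing R]

/-- the inverse of Verschiebung on its image: shift by one -/
def Vi (a : WittVector p R) : WittVector p R := a.shift 1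

lemma Vi_verschiebung (c : WittVector p R) : Vi (verschiebung c) = c := by
  ext n
  rw [Vi, WittVector.shift_coeff, add_comm, WittVector.verschiebung_coeff_succ]

lemma verschiebung_Vi {a : WittVector p R} (ha : a ∈ IV p R) : verschiebung (Vi a) = a := by
  obtain ⟨ξ, rfl⟩ := (mem_IV_iff a).1 ha
  rw [Vi_verschiebung]

lemma Vi_add {a b : WittVector p R} (ha : a ∈ IV p R) (hb : b ∈ IV p R) :
    Vi (a + b) = Vi a + Vi b := by
  obtain ⟨ξ, rfl⟩ := (mem_IV_iff a).1 ha
  obtain ⟨η, rfl⟩ := (mem_IV_iff b).1 hb
  rw [← map_add, Vi_verschiebung, Vi_verschiebung, Vi_verschiebung]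

lemma mul_verschiebung' (w c : WittVector p R) :
    w * verschiebung c = verschiebung (frobenius w * c) := by
  rw [mul_comm (frobenius w) c, WittVector.verschiebung_mul_frobenius, mul_comm]

lemma Vi_mul {a : WittVector p R} (w : WittVector p R) (ha : a ∈ IV p R) :
    Vi (w * a) = frobenius w * Vi a := by
  obtain ⟨ξ, rfl⟩ := (mem_IV_iff a).1 ha
  rw [mul_verschiebung', Vi_verschiebung, Vi_verschiebung]

lemma Vi_zero : Vi (0 : WittVector p R) = 0 := by
  have := Vi_verschiebung (0 : WittVector p R)
  rwa [map_zero] at this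

lemma Vi_sum {ι : Type*} (s : Finset ι) (a : ι → WittVector p R) (ha : ∀ i ∈ s, a i ∈ IV p R) :
    Vi (∑ i ∈ s, a i) = ∑ i ∈ s, Vi (a i) := by
  classical
  induction s using Finset.induction_on with
  | empty => simp [Vi_zero]
  | insert j s hj ih =>
    rw [Finset.sum_insert hj, Finset.sum_insert hj,
      Vi_add (ha j (Finset.mem_insert_self j s))
        (Ideal.sum_mem _ fun i hi => ha i (Finset.mem_insert_of_mem hi)),
      ih fun i hi => ha i (Finset.mem_insert_of_mem hi)]

lemma constantCoeff_eq_zero_iff (a : WittVector p R) :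
    WittVector.constantCoeff a = 0 ↔ a ∈ IV p R := by
  rw [mem_IV_iff_coeff_zero]
  rfl

end Vi

section Data

variable {p : ℕ} [hp : Fact p.Prime] {S : Type u} [CommRing S]
variable {P : Type v} [AddCommGroup P] [Module (WittVector p S) P]

/-- a normal decomposition together with a dual basis -/
structure NData (D : Display3n p S P) where
  L : Submodule (WittVector p S) P
  T : Submodule (WittVector p S) P
  hc : IsCompl L T
  hQ : D.Q = L ⊔ IV p S • T
  n : ℕ
  e : Fin n → P
  lam : Fin n → (P →ₗ[WittVector p S] WittVector p S)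
  hdual : ∀ x, x = ∑ i, lam i x • e i

lemma nonempty_NData (D : Display3n p S P) : Nonempty (NData D) := by
  obtain ⟨L, T, hc, hQ⟩ := D.exists_normal
  have := D.finite
  have := D.projective
  obtain ⟨n, e, lam, h⟩ := exists_dual_basis (A := WittVector p S) (P := P)
  exact ⟨⟨L, T, hc, hQ, n, e, lam, h⟩⟩

variable {D : Display3n p S P} (d : NData D)

/-- the functionals `λ_i ∘ pr_T` -/
def NData.mu (i : Fin d.n) : P →ₗ[WittVector p S] WittVector p S := d.lam i ∘ₗ prT d.L d.T d.hc

/-- the elements `pr_T e_i` -/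
def NData.tt (i : Fin d.n) : P := prT d.L d.T d.hc (d.e i)

lemma NData.tt_mem (i : Fin d.n) : d.tt i ∈ d.T := prT_mem d.L d.T d.hc _

lemma NData.prT_eq_sum (x : P) : prT d.L d.T d.hc x = ∑ i, d.mu i x • d.tt i := by
  have h1 := d.hdual (prT d.L d.T d.hc x)
  have h2 : prT d.L d.T d.hc (prT d.L d.T d.hc x) = prT d.L d.T d.hc x :=
    prT_of_mem_T d.L d.T d.hc (prT_mem d.L d.T d.hc x)
  conv_lhs => rw [← h2, h1, map_sum]
  refine Finset.sum_congr rfl fun i _ => ?_
  rw [map_smul]
  rfl

lemma NData.prT_mem_of_mem_Q {q : P} (hq : q ∈ D.Q) :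
    prT d.L d.T d.hc q ∈ IV p S • d.T := by
  rw [d.hQ] at hq
  obtain ⟨l, hl, z, hz, rfl⟩ := Submodule.mem_sup.mp hq
  have hzT : z ∈ d.T := Submodule.smul_le_right hz
  rw [map_add, prT_of_mem_L d.L d.T d.hc hl, prT_of_mem_T d.L d.T d.hc hzT, zero_add]
  exact hz

lemma NData.mu_mem_IV (i : Fin d.n) {q : P} (hq : q ∈ D.Q) : d.mu i q ∈ IV p S := by
  have h1 : prT d.L d.T d.hc q ∈ IV p S • (⊤ : Submodule (WittVector p S) P) :=
    Submodule.smul_mono le_rfl le_top (d.prT_mem_of_mem_Q hq)
  exact functional_mem (IV p S) (d.lam i) h1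

lemma NData.prL_add_prT : prL d.L d.T d.hc + prT d.L d.T d.hc = LinearMap.id := by
  ext x
  exact Groth.Agent.Lib.Helper16.ZW.prL_add_prT d.L d.T d.hc x

lemma NData.prT_comp_prT : prT d.L d.T d.hc ∘ₗ prT d.L d.T d.hc = prT d.L d.T d.hc := by
  ext x
  exact prT_of_mem_T d.L d.T d.hc (prT_mem d.L d.T d.hc x)

lemma NData.prT_comp_prL : prT d.L d.T d.hc ∘ₗ prL d.L d.T d.hc = 0 := by
  ext x
  exact prT_of_mem_L d.L d.T d.hc (prL_mem d.L d.T d.hc x)

lemma NData.prL_comp_prL : prL d.L d.T d.hc ∘ₗ prL d.L d.T d.hc = prL d.L d.T d.hc := by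
  ext x
  exact prL_of_mem_L d.L d.T d.hc (prL_mem d.L d.T d.hc x)

end Data

section BaseChange

variable {p : ℕ} [hp : Fact p.Prime] {S R : Type u} [CommRing S] [CommRing R] (f : S →+* R)
variable {P : Type v} [AddCommGroup P] [Module (WittVector p S) P]
variable {D : Display3n p S P} (d : NData D)

/-- the idempotent of `P_R` onto `L_R` -/
def NData.eL : BC (WittVector.map f : WittVector p S →+* WittVector p R) P →ₗ[WittVector p R] BC (WittVector.map f : WittVector p S →+* WittVector p R) P := BC.map (WittVector.map f : WittVector p S →+* WittVector p R) (prL d.L d.T d.hc)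

/-- the idempotent of `P_R` onto `T_R` -/
def NData.eT : BC (WittVector.map f : WittVector p S →+* WittVector p R) P →ₗ[WittVector p R] BC (WittVector.map f : WittVector p S →+* WittVector p R) P := BC.map (WittVector.map f : WittVector p S →+* WittVector p R) (prT d.L d.T d.hc)

lemma NData.eL_add_eT (z : BC (WittVector.map f : WittVector p S →+* WittVector p R) P) : d.eL f z + d.eT f z = z := by
  have h := BC_map_add (WittVector.map f : WittVector p S →+* WittVector p R) (prL d.L d.T d.hc) (prT d.L d.T d.hc)
  rw [d.prL_add_prT, BC_map_id] at h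
  exact (LinearMap.congr_fun h z).symm

lemma NData.eT_eT (z : BC (WittVector.map f : WittVector p S →+* WittVector p R) P) : d.eT f (d.eT f z) = d.eT f z := by
  have h := BC_map_comp (WittVector.map f : WittVector p S →+* WittVector p R) (prT d.L d.T d.hc) (prT d.L d.T d.hc)
  rw [d.prT_comp_prT] at h
  exact (LinearMap.congr_fun h z).symm

lemma NData.eT_eL (z : BC (WittVector.map f : WittVector p S →+* WittVector p R) P) : d.eT f (d.eL f z) = 0 := by
  have h := BC_map_comp (WittVector.map f : WittVector p S →+* WittVector p R) (prT d.L d.T d.hc) (prL d.L d.T d.hc)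
  rw [d.prT_comp_prL, BC_map_zero] at h
  exact (LinearMap.congr_fun h z).symm

lemma NData.eT_tmul (w : WittVector p R) (x : P) :
    d.eT f (BC.tmul (WittVector.map f : WittVector p S →+* WittVector p R) w x) = BC.tmul (WittVector.map f : WittVector p S →+* WittVector p R) w (prT d.L d.T d.hc x) := BC.map_tmul _ _ _ _

lemma NData.eL_tmul (w : WittVector p R) (x : P) :
    d.eL f (BC.tmul (WittVector.map f : WittVector p S →+* WittVector p R) w x) = BC.tmul (WittVector.map f : WittVector p S →+* WittVector p R) w (prL d.L d.T d.hc x) := BC.map_tmul _ _ _ _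

lemma NData.eT_eq_sum (z : BC (WittVector.map f : WittVector p S →+* WittVector p R) P) :
    d.eT f z = ∑ i, funB (WittVector.map f : WittVector p S →+* WittVector p R) (d.mu i) z • BC.tmul (WittVector.map f : WittVector p S →+* WittVector p R) 1 (d.tt i) := by
  induction z using BC.induction_on (WittVector.map f : WittVector p S →+* WittVector p R) with
  | zero => simp
  | tmul w x =>
    rw [d.eT_tmul, d.prT_eq_sum, BC_tmul_sum]
    refine Finset.sum_congr rfl fun i _ => ?_
    rw [funB_tmul, BC.smul_tmul, mul_one, BC.tmul_mul_apply]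
  | add z₁ z₂ h₁ h₂ =>
    rw [map_add, h₁, h₂, ← Finset.sum_add_distrib]
    refine Finset.sum_congr rfl fun i _ => ?_
    rw [map_add, add_smul]

/-- the submodule `Q_R` -/
def QR (D : Display3n p S P) : Submodule (WittVector p R) (BC (WittVector.map f : WittVector p S →+* WittVector p R) P) :=
  LinearMap.ker (bcQuotMap f D.Q)

lemma mem_QR (z : BC (WittVector.map f : WittVector p S →+* WittVector p R) P) : z ∈ QR f D ↔ bcQuotMap f D.Q z = 0 := LinearMap.mem_ker

lemma IV_smul_le_QR : IV p R • (⊤ : Submodule (WittVector p R) (BC (WittVector.map f : WittVector p S →+* WittVector p R) P)) ≤ QR f D := by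
  rw [Submodule.smul_le]
  intro a ha z _
  rw [mem_QR, LinearMap.map_smulₛₗ, (constantCoeff_eq_zero_iff a).2 ha, zero_smul]

lemma tmul_mem_QR (w : WittVector p R) {y : P} (hy : y ∈ D.Q) : BC.tmul (WittVector.map f : WittVector p S →+* WittVector p R) w y ∈ QR f D := by
  rw [mem_QR, bcQuotMap_tmul]
  have : D.Q.mkQ y = 0 := by
    rw [Submodule.mkQ_apply, Submodule.Quotient.mk_eq_zero]
    exact hy
  rw [this, BC.tmul_zero]

/-- the semilinear functional on `P/Q` induced by a functional with `μ Q ⊆ I_S` -/
def nuSemi (D : Display3n p S P) (μ : P →ₗ[WittVector p S] WittVector p S)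
    (hμ : ∀ q ∈ D.Q, μ q ∈ IV p S) :
    (P ⧸ D.Q) →ₛₗ[(WittVector.constantCoeff : WittVector p R →+* R).comp (WittVector.map f : WittVector p S →+* WittVector p R)] R :=
  Submodule.liftQ D.Q ((semilinearOfRingHom ((WittVector.constantCoeff : WittVector p R →+* R).comp (WittVector.map f : WittVector p S →+* WittVector p R))).comp μ) (by
    intro q hq
    rw [LinearMap.mem_ker, LinearMap.comp_apply, semilinearOfRingHom_apply, RingHom.comp_apply]
    exact (constantCoeff_eq_zero_iff _).2 (map_IV_le f (Ideal.mem_map_of_mem _ (hμ q hq))))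

lemma nuSemi_mkQ (D : Display3n p S P) (μ : P →ₗ[WittVector p S] WittVector p S)
    (hμ : ∀ q ∈ D.Q, μ q ∈ IV p S) (x : P) :
    nuSemi f D μ hμ (D.Q.mkQ x) = (WittVector.constantCoeff : WittVector p R →+* R) ((WittVector.map f : WittVector p S →+* WittVector p R) (μ x)) := rfl

lemma constantCoeff_funB (D : Display3n p S P) (μ : P →ₗ[WittVector p S] WittVector p S)
    (hμ : ∀ q ∈ D.Q, μ q ∈ IV p S) (z : BC (WittVector.map f : WittVector p S →+* WittVector p R) P) :
    (WittVector.constantCoeff : WittVector p R →+* R) (funB (WittVector.map f : WittVector p S →+* WittVector p R) μ z) = BC.lift ((WittVector.constantCoeff : WittVector p R →+* R).comp (WittVector.map f : WittVector p S →+* WittVector p R)) (nuSemi f D μ hμ) (bcQuotMap f D.Q z) := by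
  induction z using BC.induction_on (WittVector.map f : WittVector p S →+* WittVector p R) with
  | zero => simp
  | tmul w x =>
    rw [funB_tmul, bcQuotMap_tmul, BC.lift_tmul, nuSemi_mkQ, map_mul, smul_eq_mul]
  | add z₁ z₂ h₁ h₂ => rw [map_add, map_add, map_add, map_add, h₁, h₂]

lemma funB_mem_IV_of_mem_QR (D : Display3n p S P) (μ : P →ₗ[WittVector p S] WittVector p S)
    (hμ : ∀ q ∈ D.Q, μ q ∈ IV p S) {z : BC (WittVector.map f : WittVector p S →+* WittVector p R) P} (hz : z ∈ QR f D) :
    funB (WittVector.map f : WittVector p S →+* WittVector p R) μ z ∈ IV p R := by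
  rw [← constantCoeff_eq_zero_iff, constantCoeff_funB f D μ hμ, (mem_QR f z).1 hz, map_zero]

lemma NData.funB_mu_mem_IV (i : Fin d.n) {z : BC (WittVector.map f : WittVector p S →+* WittVector p R) P} (hz : z ∈ QR f D) :
    funB (WittVector.map f : WittVector p S →+* WittVector p R) (d.mu i) z ∈ IV p R :=
  funB_mem_IV_of_mem_QR f D (d.mu i) (fun _ hq => d.mu_mem_IV i hq) hz

/-- the submodule `L_R` -/
def NData.LR : Submodule (WittVector p R) (BC (WittVector.map f : WittVector p S →+* WittVector p R) P) := LinearMap.ker (d.eT f)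

/-- the submodule `T_R` -/
def NData.TR : Submodule (WittVector p R) (BC (WittVector.map f : WittVector p S →+* WittVector p R) P) := LinearMap.range (d.eT f)

lemma NData.isCompl_LR_TR : IsCompl (d.LR f) (d.TR f) := by
  have hid : IsIdempotentElem (d.eT f) := by
    ext z
    exact d.eT_eT f z
  exact (LinearMap.IsIdempotentElem.isCompl hid).symm

lemma NData.eL_mem_QR (z : BC (WittVector.map f : WittVector p S →+* WittVector p R) P) : d.eL f z ∈ QR f D := by
  induction z using BC.induction_on (WittVector.map f : WittVector p S →+* WittVector p R) with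
  | zero => rw [map_zero]; exact zero_mem _
  | tmul w x =>
    rw [d.eL_tmul]
    exact tmul_mem_QR f w (L_le_Q D d.L d.T d.hQ (prL_mem d.L d.T d.hc x))
  | add z₁ z₂ h₁ h₂ => rw [map_add]; exact add_mem h₁ h₂

lemma NData.tmul_tt_mem_TR (i : Fin d.n) : BC.tmul (WittVector.map f : WittVector p S →+* WittVector p R) 1 (d.tt i) ∈ d.TR f :=
  ⟨BC.tmul (WittVector.map f : WittVector p S →+* WittVector p R) 1 (d.e i), d.eT_tmul f 1 (d.e i)⟩

lemma NData.QR_eq : QR f D = d.LR f ⊔ IV p R • d.TR f := by
  apply le_antisymm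
  · intro z hz
    rw [← d.eL_add_eT f z]
    refine Submodule.add_mem_sup ?_ ?_
    · exact d.eT_eL f z
    · rw [d.eT_eq_sum f z]
      refine Submodule.sum_mem _ fun i _ => ?_
      exact Submodule.smul_mem_smul (d.funB_mu_mem_IV f i hz) (d.tmul_tt_mem_TR f i)
  · refine sup_le ?_ ?_
    · intro z hz
      have h1 : d.eT f z = 0 := hz
      have h2 := d.eL_add_eT f z
      rw [h1, add_zero] at h2
      rw [← h2]
      exact d.eL_mem_QR f z
    · exact le_trans (Submodule.smul_mono le_rfl le_top) (IV_smul_le_QR f)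

/-- the Frobenius of the base change -/
def FR (D : Display3n p S P) : BC (WittVector.map f : WittVector p S →+* WittVector p R) P →ₛₗ[(WittVector.frobenius : WittVector p R →+* WittVector p R)] BC (WittVector.map f : WittVector p S →+* WittVector p R) P :=
  bcSemi (WittVector.map f : WittVector p S →+* WittVector p R) (WittVector.frobenius : WittVector p S →+* WittVector p S) (WittVector.frobenius : WittVector p R →+* WittVector p R) (map_frob f) D.F

lemma FR_tmul (D : Display3n p S P) (w : WittVector p R) (x : P) :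
    FR f D (BC.tmul (WittVector.map f : WittVector p S →+* WittVector p R) w x) = BC.tmul (WittVector.map f : WittVector p S →+* WittVector p R) (frobenius w) (D.F x) := rfl

/-- the `L`-part of `V_R⁻¹` -/
def NData.LamR : BC (WittVector.map f : WittVector p S →+* WittVector p R) P →ₛₗ[(WittVector.frobenius : WittVector p R →+* WittVector p R)] BC (WittVector.map f : WittVector p S →+* WittVector p R) P :=
  bcSemi (WittVector.map f : WittVector p S →+* WittVector p R) (WittVector.frobenius : WittVector p S →+* WittVector p S) (WittVector.frobenius : WittVector p R →+* WittVector p R) (map_frob f)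
    (D.Vinv.comp (prLQ D d.L d.T d.hc d.hQ) : P →ₛₗ[(WittVector.frobenius : WittVector p S →+* WittVector p S)] P)

lemma NData.LamR_tmul (w : WittVector p R) (x : P) :
    d.LamR f (BC.tmul (WittVector.map f : WittVector p S →+* WittVector p R) w x) =
      BC.tmul (WittVector.map f : WittVector p S →+* WittVector p R) (frobenius w) (D.Vinv (prLQ D d.L d.T d.hc d.hQ x)) := rfl

/-- the total function extending `V_R⁻¹` -/
def NData.G (z : BC (WittVector.map f : WittVector p S →+* WittVector p R) P) : BC (WittVector.map f : WittVector p S →+* WittVector p R) P :=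
  d.LamR f z + ∑ i, Vi (funB (WittVector.map f : WittVector p S →+* WittVector p R) (d.mu i) z) • BC.tmul (WittVector.map f : WittVector p S →+* WittVector p R) 1 (D.F (d.tt i))

lemma NData.G_add {z z' : BC (WittVector.map f : WittVector p S →+* WittVector p R) P} (hz : z ∈ QR f D) (hz' : z' ∈ QR f D) :
    d.G f (z + z') = d.G f z + d.G f z' := by
  unfold NData.G
  rw [map_add, add_add_add_comm, ← Finset.sum_add_distrib]
  congr 1
  refine Finset.sum_congr rfl fun i _ => ?_
  rw [map_add, Vi_add (d.funB_mu_mem_IV f i hz) (d.funB_mu_mem_IV f i hz'), add_smul]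

lemma NData.G_smul (c : WittVector p R) {z : BC (WittVector.map f : WittVector p S →+* WittVector p R) P} (hz : z ∈ QR f D) :
    d.G f (c • z) = frobenius c • d.G f z := by
  unfold NData.G
  rw [LinearMap.map_smulₛₗ, smul_add, Finset.smul_sum]
  congr 1
  refine Finset.sum_congr rfl fun i _ => ?_
  rw [map_smul, smul_eq_mul, Vi_mul c (d.funB_mu_mem_IV f i hz), mul_smul]

/-- the operator `V_R⁻¹` -/
def NData.VinvR : QR f D →ₛₗ[(WittVector.frobenius : WittVector p R →+* WittVector p R)] BC (WittVector.map f : WittVector p S →+* WittVector p R) P where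
  toFun z := d.G f z.1
  map_add' z z' := d.G_add f z.2 z'.2
  map_smul' c z := d.G_smul f c z.2

lemma NData.VinvR_mk (z : BC (WittVector.map f : WittVector p S →+* WittVector p R) P) (hz : z ∈ QR f D) : d.VinvR f ⟨z, hz⟩ = d.G f z := rfl

lemma map_natCast_W : (WittVector.map f : WittVector p S →+* WittVector p R) (p : WittVector p S) = (p : WittVector p R) := map_natCast (WittVector.map f : WittVector p S →+* WittVector p R) p

lemma NData.G_tmul (w : WittVector p R) (y : D.Q) :
    d.G f (BC.tmul (WittVector.map f : WittVector p S →+* WittVector p R) w (y : P)) = BC.tmul (WittVector.map f : WittVector p S →+* WittVector p R) (frobenius w) (D.Vinv y) := by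
  let c : Fin d.n → WittVector p S := fun i => Vi (d.mu i (y : P))
  have hc : ∀ i, verschiebung (c i) = d.mu i (y : P) := fun i =>
    verschiebung_Vi (d.mu_mem_IV i y.2)
  let q : Fin d.n → D.Q := fun i => ⟨verschiebung (c i) • d.tt i,
    D.IV_smul_le (Submodule.smul_mem_smul (verschiebung_mem_IV p S (c i)) Submodule.mem_top)⟩
  have hy : y = prLQ D d.L d.T d.hc d.hQ (y : P) + ∑ i, q i := by
    apply Subtype.ext
    rw [Submodule.coe_add, Submodule.coe_sum]
    have h1 : ((prLQ D d.L d.T d.hc d.hQ (y : P) : D.Q) : P) = prL d.L d.T d.hc (y : P) := rfl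
    have h2 : ∑ i, ((q i : D.Q) : P) = prT d.L d.T d.hc (y : P) := by
      rw [d.prT_eq_sum]
      refine Finset.sum_congr rfl fun i _ => ?_
      change verschiebung (c i) • d.tt i = _
      rw [hc]
    rw [h1, h2, Groth.Agent.Lib.Helper16.ZW.prL_add_prT]
  have hV : D.Vinv y = D.Vinv (prLQ D d.L d.T d.hc d.hQ (y : P)) + ∑ i, c i • D.F (d.tt i) := by
    conv_lhs => rw [hy, map_add, map_sum]
    congr 1
    refine Finset.sum_congr rfl fun i _ => ?_
    exact Vinv_verschiebung_smul' D (c i) (d.tt i) _
  have hterm : ∀ i, Vi (funB (WittVector.map f : WittVector p S →+* WittVector p R) (d.mu i) (BC.tmul (WittVector.map f : WittVector p S →+* WittVector p R) w (y : P))) • BC.tmul (WittVector.map f : WittVector p S →+* WittVector p R) 1 (D.F (d.tt i)) =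
      BC.tmul (WittVector.map f : WittVector p S →+* WittVector p R) (frobenius w) (c i • D.F (d.tt i)) := by
    intro i
    have e1 : (WittVector.map f : WittVector p S →+* WittVector p R) (d.mu i (y : P)) = verschiebung ((WittVector.map f : WittVector p S →+* WittVector p R) (c i)) := by
      rw [← hc i]
      exact WittVector.map_verschiebung f (c i)
    rw [funB_tmul, e1, mul_verschiebung', Vi_verschiebung, BC.smul_tmul, mul_one,
      BC.tmul_mul_apply]
  unfold NData.G
  rw [d.LamR_tmul, Finset.sum_congr rfl fun i _ => hterm i, ← BC_tmul_sum, ← BC.tmul_add, ← hV]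

lemma NData.G_verschiebung_tmul (w : WittVector p R) (x : P) :
    d.G f (BC.tmul (WittVector.map f : WittVector p S →+* WittVector p R) (verschiebung w) x) = BC.tmul (WittVector.map f : WittVector p S →+* WittVector p R) w (D.F x) := by
  have hterm : ∀ i, Vi (funB (WittVector.map f : WittVector p S →+* WittVector p R) (d.mu i) (BC.tmul (WittVector.map f : WittVector p S →+* WittVector p R) (verschiebung w) x)) •
      BC.tmul (WittVector.map f : WittVector p S →+* WittVector p R) 1 (D.F (d.tt i)) = BC.tmul (WittVector.map f : WittVector p S →+* WittVector p R) w (D.F (d.mu i x • d.tt i)) := by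
    intro i
    rw [funB_tmul, ← WittVector.verschiebung_mul_frobenius, Vi_verschiebung, BC.smul_tmul, mul_one]
    have e1 : frobenius ((WittVector.map f : WittVector p S →+* WittVector p R) (d.mu i x)) = (WittVector.map f : WittVector p S →+* WittVector p R) (frobenius (d.mu i x)) := (map_frob f _).symm
    rw [e1, BC.tmul_mul_apply, D.F.map_smulₛₗ]
  have hL : d.LamR f (BC.tmul (WittVector.map f : WittVector p S →+* WittVector p R) (verschiebung w) x) =
      BC.tmul (WittVector.map f : WittVector p S →+* WittVector p R) w (D.F (prL d.L d.T d.hc x)) := by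
    rw [d.LamR_tmul, WittVector.frobenius_verschiebung, ← map_natCast_W f, BC.tmul_mul_apply,
      ← F_eq_smul_Vinv]
    rfl
  unfold NData.G
  rw [hL, Finset.sum_congr rfl fun i _ => hterm i, ← BC_tmul_sum, ← map_sum, ← d.prT_eq_sum,
    ← BC.tmul_add, ← map_add, Groth.Agent.Lib.Helper16.ZW.prL_add_prT]

lemma NData.G_zero : d.G f 0 = 0 := by
  unfold NData.G
  rw [map_zero, zero_add]
  refine Finset.sum_eq_zero fun i _ => ?_
  rw [map_zero, Vi_zero, zero_smul]

lemma verschiebung_smul_mem_QR (w : WittVector p R) (z : BC (WittVector.map f : WittVector p S →+* WittVector p R) P) :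
    verschiebung w • z ∈ QR f D :=
  IV_smul_le_QR f (Submodule.smul_mem_smul (verschiebung_mem_IV p R w) Submodule.mem_top)

lemma NData.G_verschiebung_smul (w : WittVector p R) (z : BC (WittVector.map f : WittVector p S →+* WittVector p R) P) :
    d.G f (verschiebung w • z) = w • FR f D z := by
  induction z using BC.induction_on (WittVector.map f : WittVector p S →+* WittVector p R) with
  | zero => rw [smul_zero, d.G_zero, map_zero, smul_zero]
  | tmul u x =>
    rw [BC.smul_tmul, ← WittVector.verschiebung_mul_frobenius, d.G_verschiebung_tmul, FR_tmul,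
      BC.smul_tmul]
  | add z₁ z₂ h₁ h₂ =>
    rw [smul_add, d.G_add f (verschiebung_smul_mem_QR f w z₁) (verschiebung_smul_mem_QR f w z₂),
      h₁, h₂, map_add, smul_add]

lemma NData.span_range_VinvR :
    Submodule.span (WittVector p R) (Set.range (d.VinvR f)) = ⊤ := by
  rw [eq_top_iff]
  intro z _
  have key : ∀ x : P, BC.tmul (WittVector.map f : WittVector p S →+* WittVector p R) 1 x ∈
      Submodule.span (WittVector p R) (Set.range (d.VinvR f)) := by
    intro x
    have hx : x ∈ Submodule.span (WittVector p S) (Set.range D.Vinv) := by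
      rw [D.span_range_Vinv]; trivial
    induction hx using Submodule.span_induction with
    | mem x hx =>
      obtain ⟨y, rfl⟩ := hx
      refine Submodule.subset_span ⟨⟨BC.tmul (WittVector.map f : WittVector p S →+* WittVector p R) 1 (y : P), tmul_mem_QR f 1 y.2⟩, ?_⟩
      rw [d.VinvR_mk, d.G_tmul, map_one]
    | zero => rw [BC.tmul_zero]; exact zero_mem _
    | add x y _ _ hx hy => rw [BC.tmul_add]; exact add_mem hx hy
    | smul a x _ hx => rw [BC_tmul_one_smul]; exact Submodule.smul_mem _ _ hx
  induction z using BC.induction_on (WittVector.map f : WittVector p S →+* WittVector p R) with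
  | zero => exact zero_mem _
  | tmul w x => rw [BC.tmul_eq_smul_tmul_one]; exact Submodule.smul_mem _ _ (key x)
  | add z₁ z₂ h₁ h₂ => exact add_mem (h₁ trivial) (h₂ trivial)

/-- the base change of the 3n-display -/
def NData.DR : Display3n p R (BC (WittVector.map f : WittVector p S →+* WittVector p R) P) where
  Q := QR f D
  F := FR f D
  Vinv := d.VinvR f
  finite := by
    have := D.finite
    have := D.projective
    exact (finite_projective_BC (WittVector.map f : WittVector p S →+* WittVector p R) (P := P)).1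
  projective := by
    have := D.finite
    have := D.projective
    exact (finite_projective_BC (WittVector.map f : WittVector p S →+* WittVector p R) (P := P)).2
  IV_smul_le := IV_smul_le_QR f
  exists_normal := ⟨d.LR f, d.TR f, d.isCompl_LR_TR f, d.QR_eq f⟩
  span_range_Vinv := d.span_range_VinvR f
  Vinv_verschiebung_smul w z := d.G_verschiebung_smul f w z

theorem NData.isDispBaseChange_DR : IsDispBaseChange f D (d.DR f) where
  Q_eq := rfl
  F_tmul _ _ := rfl
  Vinv_tmul w y _ := d.G_tmul f w y
  Vinv_verschiebung_tmul w x _ := d.G_verschiebung_tmul f w x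

omit hp in
lemma Display3n_ext [Fact p.Prime] {M : Type v} [AddCommGroup M] [Module (WittVector p R) M]
    (D₁ D₂ : Display3n p R M) (hQ : D₁.Q = D₂.Q) (hF : D₁.F = D₂.F)
    (hV : ∀ (z : M) (h₁ : z ∈ D₁.Q) (h₂ : z ∈ D₂.Q), D₁.Vinv ⟨z, h₁⟩ = D₂.Vinv ⟨z, h₂⟩) :
    D₁ = D₂ := by
  cases D₁ with
  | mk Q₁ F₁ V₁ _ _ _ _ _ _ =>
    cases D₂ with
    | mk Q₂ F₂ V₂ _ _ _ _ _ _ =>
      simp only at hQ hF hV
      subst hQ
      subst hF
      have : V₁ = V₂ := by
        ext ⟨z, hz⟩
        exact hV z hz hz
      subst this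
      rfl

theorem NData.eq_DR (DR' : Display3n p R (BC (WittVector.map f : WittVector p S →+* WittVector p R) P)) (h' : IsDispBaseChange f D DR') :
    DR' = d.DR f := by
  have hQ' : DR'.Q = QR f D := h'.Q_eq
  refine Display3n_ext DR' (d.DR f) hQ' ?_ ?_
  · refine semilinear_ext_BC (WittVector.map f : WittVector p S →+* WittVector p R) (WittVector.frobenius : WittVector p R →+* WittVector p R) DR'.F (d.DR f).F fun w x => ?_
    rw [h'.F_tmul]
    rfl
  · -- the predicate
    have hadd : ∀ z z' : BC (WittVector.map f : WittVector p S →+* WittVector p R) P, z ∈ QR f D → z' ∈ QR f D →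
        (∀ h₁ : z ∈ DR'.Q, DR'.Vinv ⟨z, h₁⟩ = d.G f z) →
        (∀ h₁ : z' ∈ DR'.Q, DR'.Vinv ⟨z', h₁⟩ = d.G f z') →
        ∀ h₁ : z + z' ∈ DR'.Q, DR'.Vinv ⟨z + z', h₁⟩ = d.G f (z + z') := by
      intro z z' hz hz' hM hM' h₁
      have e : (⟨z + z', h₁⟩ : DR'.Q) = ⟨z, hQ' ▸ hz⟩ + ⟨z', hQ' ▸ hz'⟩ := rfl
      rw [e, map_add, hM, hM', d.G_add f hz hz']
    have hzero : ∀ h₁ : (0 : BC (WittVector.map f : WittVector p S →+* WittVector p R) P) ∈ DR'.Q, DR'.Vinv ⟨0, h₁⟩ = d.G f 0 := by
      intro h₁
      have e : (⟨0, h₁⟩ : DR'.Q) = 0 := rfl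
      rw [e, map_zero, d.G_zero]
    have hL : ∀ z : BC (WittVector.map f : WittVector p S →+* WittVector p R) P, ∀ h₁ : d.eL f z ∈ DR'.Q, DR'.Vinv ⟨d.eL f z, h₁⟩ = d.G f (d.eL f z) := by
      intro z
      induction z using BC.induction_on (WittVector.map f : WittVector p S →+* WittVector p R) with
      | zero => rw [map_zero]; exact hzero
      | tmul w x =>
        intro h₁
        have hy : prL d.L d.T d.hc x ∈ D.Q := L_le_Q D d.L d.T d.hQ (prL_mem d.L d.T d.hc x)
        have e1 := d.eL_tmul f w x
        have h2 : BC.tmul (WittVector.map f : WittVector p S →+* WittVector p R) w (prL d.L d.T d.hc x) ∈ DR'.Q := e1 ▸ h₁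
        have e2 : (⟨d.eL f (BC.tmul (WittVector.map f : WittVector p S →+* WittVector p R) w x), h₁⟩ : DR'.Q) = ⟨BC.tmul (WittVector.map f : WittVector p S →+* WittVector p R) w (prL d.L d.T d.hc x), h2⟩ :=
          Subtype.ext e1
        rw [e2, e1, h'.Vinv_tmul w ⟨_, hy⟩ h2]
        exact (d.G_tmul f w ⟨_, hy⟩).symm
      | add z₁ z₂ h₁ h₂ =>
        rw [map_add]
        exact hadd _ _ (d.eL_mem_QR f z₁) (d.eL_mem_QR f z₂) h₁ h₂
    have hT : ∀ (a : WittVector p R) (x : P), a ∈ IV p R →
        ∀ h₁ : a • BC.tmul (WittVector.map f : WittVector p S →+* WittVector p R) 1 x ∈ DR'.Q, DR'.Vinv ⟨a • BC.tmul (WittVector.map f : WittVector p S →+* WittVector p R) 1 x, h₁⟩ =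
          d.G f (a • BC.tmul (WittVector.map f : WittVector p S →+* WittVector p R) 1 x) := by
      intro a x ha h₁
      obtain ⟨c, rfl⟩ := (mem_IV_iff a).1 ha
      have e1 : verschiebung c • BC.tmul (WittVector.map f : WittVector p S →+* WittVector p R) 1 x = BC.tmul (WittVector.map f : WittVector p S →+* WittVector p R) (verschiebung c) x := by
        rw [BC.smul_tmul, mul_one]
      have h2 : BC.tmul (WittVector.map f : WittVector p S →+* WittVector p R) (verschiebung c) x ∈ DR'.Q := e1 ▸ h₁
      have e2 : (⟨verschiebung c • BC.tmul (WittVector.map f : WittVector p S →+* WittVector p R) 1 x, h₁⟩ : DR'.Q) =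
          ⟨BC.tmul (WittVector.map f : WittVector p S →+* WittVector p R) (verschiebung c) x, h2⟩ := Subtype.ext e1
      rw [e2, e1, h'.Vinv_verschiebung_tmul c x h2]
      exact (d.G_verschiebung_tmul f c x).symm
    have hsum : ∀ (s : Finset (Fin d.n)) (a : Fin d.n → WittVector p R), (∀ i, a i ∈ IV p R) →
        (∑ i ∈ s, a i • BC.tmul (WittVector.map f : WittVector p S →+* WittVector p R) 1 (d.tt i) ∈ QR f D) ∧
        ∀ h₁ : ∑ i ∈ s, a i • BC.tmul (WittVector.map f : WittVector p S →+* WittVector p R) 1 (d.tt i) ∈ DR'.Q,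
          DR'.Vinv ⟨∑ i ∈ s, a i • BC.tmul (WittVector.map f : WittVector p S →+* WittVector p R) 1 (d.tt i), h₁⟩ =
            d.G f (∑ i ∈ s, a i • BC.tmul (WittVector.map f : WittVector p S →+* WittVector p R) 1 (d.tt i)) := by
      intro s a ha
      classical
      induction s using Finset.induction_on with
      | empty =>
        rw [Finset.sum_empty]
        exact ⟨zero_mem _, hzero⟩
      | insert j s hj ih =>
        rw [Finset.sum_insert hj]
        have hjm : a j • BC.tmul (WittVector.map f : WittVector p S →+* WittVector p R) 1 (d.tt j) ∈ QR f D :=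
          IV_smul_le_QR f (Submodule.smul_mem_smul (ha j) Submodule.mem_top)
        exact ⟨add_mem hjm ih.1, hadd _ _ hjm ih.1 (hT (a j) (d.tt j) (ha j)) ih.2⟩
    intro z h₁ h₂
    change DR'.Vinv ⟨z, h₁⟩ = d.G f z
    have hz : z ∈ QR f D := h₂
    have hdec := d.eL_add_eT f z
    rw [d.eT_eq_sum f z] at hdec
    have hs := hsum Finset.univ (fun i => funB (WittVector.map f : WittVector p S →+* WittVector p R) (d.mu i) z) (fun i => d.funB_mu_mem_IV f i hz)
    have := hadd _ _ (d.eL_mem_QR f z) hs.1 (hL z) hs.2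
    rw [hdec] at this
    exact this h₁

end BaseChange

section Main

variable {p : ℕ} [hp : Fact p.Prime] {S R : Type u} [CommRing S] [CommRing R] (f : S →+* R)
variable {P : Type v} [AddCommGroup P] [Module (WittVector p S) P]

theorem existsUnique_baseChange (D : Display3n p S P) :
    ∃! DR : Display3n p R (BC (WittVector.map f : WittVector p S →+* WittVector p R) P), IsDispBaseChange f D DR := by
  obtain ⟨d⟩ := nonempty_NData D
  exact ⟨d.DR f, d.isDispBaseChange_DR f, fun DR' h' => d.eq_DR f DR' h'⟩

end Main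

end Groth.Agent.Lib.Helper16.ZW
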