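import Mathlib
import Groth.Agent.Lib.Helper16.ZW8
import Groth.Agent.Lib.Helper16.ZW11

/-!
# Witt vectors with coefficients in an ideal; Teichmüller additivity on square-zero ideals (helper16)
-/

set_option autoImplicit false
universe u v

noncomputable section

namespace Groth.Agent.Lib.Helper16.ZW
open WittVector Function Dieu W4c1extbt610

section WI

variable {p : ℕ} [hp : Fact p.Prime] {S R : Type u} [CommRing S] [CommRing R]

/-- Witt vectors all of whose coefficients lie in the ideal `𝔞` -/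
def WI (𝔞 : Ideal S) : Ideal (WittVector p S) :=
  RingHom.ker (WittVector.map (Ideal.Quotient.mk 𝔞) : WittVector p S →+* WittVector p (S ⧸ 𝔞))

lemma mem_WI_iff {𝔞 : Ideal S} {a : WittVector p S} : a ∈ WI 𝔞 ↔ ∀ n, a.coeff n ∈ 𝔞 := by
  rw [WI, RingHom.mem_ker, WittVector.ext_iff]
  refine forall_congr' fun n => ?_
  rw [WittVector.map_coeff, WittVector.zero_coeff, Ideal.Quotient.eq_zero_iff_mem]

lemma WI_mono {𝔞 𝔟 : Ideal S} (h : 𝔞 ≤ 𝔟) : (WI 𝔞 : Ideal (WittVector p S)) ≤ WI 𝔟 := by
  intro a ha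
  rw [mem_WI_iff] at ha ⊢
  exact fun n => h (ha n)

lemma ker_map_eq_WI (f : S →+* R) :
    RingHom.ker (WittVector.map f : WittVector p S →+* WittVector p R) = WI (RingHom.ker f) := by
  ext a
  rw [RingHom.mem_ker, WittVector.ext_iff, mem_WI_iff]
  refine forall_congr' fun n => ?_
  rw [WittVector.map_coeff, WittVector.zero_coeff, RingHom.mem_ker]

lemma map_mem_WI (f : S →+* R) {𝔞 : Ideal S} {𝔟 : Ideal R} (h : ∀ x ∈ 𝔞, f x ∈ 𝔟)
    {a : WittVector p S} (ha : a ∈ WI 𝔞) :
    (WittVector.map f : WittVector p S →+* WittVector p R) a ∈ WI 𝔟 := by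
  rw [mem_WI_iff] at ha ⊢
  intro n
  rw [WittVector.map_coeff]
  exact h _ (ha n)

lemma exists_mem_WI_map_eq (f : S →+* R) {𝔞 : Ideal S} {𝔟 : Ideal R}
    (h : ∀ y ∈ 𝔟, ∃ x ∈ 𝔞, f x = y) {b : WittVector p R} (hb : b ∈ WI 𝔟) :
    ∃ a ∈ (WI 𝔞 : Ideal (WittVector p S)),
      (WittVector.map f : WittVector p S →+* WittVector p R) a = b := by
  rw [mem_WI_iff] at hb
  choose c hc hfc using fun n => h _ (hb n)
  refine ⟨WittVector.mk p c, ?_, ?_⟩
  · rw [mem_WI_iff]
    intro n
    rw [WittVector.coeff_mk]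
    exact hc n
  · ext n
    rw [WittVector.map_coeff, WittVector.coeff_mk]
    exact hfc n

lemma verschiebung_mem_WI {𝔞 : Ideal S} {a : WittVector p S} (ha : a ∈ WI 𝔞) :
    verschiebung a ∈ WI 𝔞 := by
  rw [mem_WI_iff] at ha ⊢
  intro n
  cases n with
  | zero => rw [WittVector.verschiebung_coeff_zero]; exact zero_mem _
  | succ n => rw [WittVector.verschiebung_coeff_succ]; exact ha n

lemma Vi_mem_WI {𝔞 : Ideal S} {a : WittVector p S} (ha : a ∈ WI 𝔞) : Vi a ∈ WI 𝔞 := by
  rw [mem_WI_iff] at ha ⊢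
  intro n
  rw [Vi, WittVector.shift_coeff]
  exact ha _

lemma teichmuller_mem_WI {𝔞 : Ideal S} {c : S} (hc : c ∈ 𝔞) :
    (teichmuller p c : WittVector p S) ∈ WI 𝔞 := by
  rw [mem_WI_iff]
  intro n
  cases n with
  | zero => rw [WittVector.teichmuller_coeff_zero]; exact hc
  | succ n => rw [WittVector.teichmuller_coeff_pos p c (n + 1) (Nat.succ_pos n)]; exact zero_mem _

/-- every Witt vector is `[a₀] + V (shift a)` -/
lemma eq_teichmuller_add_verschiebung (a : WittVector p S) :
    a = teichmuller p (a.coeff 0) + verschiebung (Vi a) := by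
  ext n
  rw [WittVector.coeff_add_of_disjoint]
  · cases n with
    | zero => rw [WittVector.teichmuller_coeff_zero, WittVector.verschiebung_coeff_zero, add_zero]
    | succ n =>
      rw [WittVector.teichmuller_coeff_pos p _ (n + 1) (Nat.succ_pos n),
        WittVector.verschiebung_coeff_succ, Vi, WittVector.shift_coeff, zero_add, add_comm]
  · intro n
    cases n with
    | zero => right; exact WittVector.verschiebung_coeff_zero _
    | succ n => left; exact WittVector.teichmuller_coeff_pos p _ (n + 1) (Nat.succ_pos n)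

/-- if `x = [c] + V y` then `shift x = y` -/
lemma Vi_teichmuller_add_verschiebung (c : S) (y : WittVector p S) :
    Vi (teichmuller p c + verschiebung y) = y := by
  ext n
  rw [Vi, WittVector.shift_coeff, WittVector.coeff_add_of_disjoint]
  · rw [add_comm 1 n, WittVector.teichmuller_coeff_pos p _ (n + 1) (Nat.succ_pos n),
      WittVector.verschiebung_coeff_succ, zero_add]
  · intro n
    cases n with
    | zero => right; exact WittVector.verschiebung_coeff_zero _
    | succ n => left; exact WittVector.teichmuller_coeff_pos p _ (n + 1) (Nat.succ_pos n)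

end WI

section Tadd

variable {p : ℕ} [hp : Fact p.Prime]

open MvPolynomial in
/-- ghost components in `𝔪²` imply coefficients in `𝔪²` (over `ℤ[X_i]`) -/
lemma coeff_mem_of_ghostComponent_mem {σ : Type*} (x : WittVector p (MvPolynomial σ ℤ))
    (h : ∀ n, ghostComponent n x ∈ idealOfVars σ ℤ ^ 2) (n : ℕ) :
    x.coeff n ∈ idealOfVars σ ℤ ^ 2 := by
  induction n using Nat.strong_induction_on with
  | _ n ih =>
    have hg := h n
    rw [ghostComponent_apply, wittPolynomial_eq_sum_C_mul_X_pow, map_sum,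
      Finset.sum_range_succ] at hg
    have hlow : ∑ i ∈ Finset.range n,
        aeval x.coeff (C ((p : ℤ) ^ i) * X i ^ p ^ (n - i)) ∈ idealOfVars σ ℤ ^ 2 := by
      refine Ideal.sum_mem _ fun i hi => ?_
      rw [map_mul, map_pow (aeval x.coeff) (X i), aeval_X]
      refine Ideal.mul_mem_left _ _ ?_
      exact Ideal.pow_mem_of_mem _ (ih i (Finset.mem_range.1 hi)) _ (pow_pos hp.out.pos _)
    have htop := (Ideal.add_mem_iff_right _ hlow).1 hg
    rw [map_mul, map_pow (aeval x.coeff) (X n), aeval_X, Nat.sub_self, pow_zero, pow_one, aeval_C] at htop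
    rw [mem_pow_idealOfVars_iff'] at htop ⊢
    intro m hm
    have := htop m hm
    have hC : ((((p : ℤ) ^ n : ℤ)) : MvPolynomial σ ℤ) = C ((p : ℤ) ^ n) := by simp
    rw [eq_intCast, hC, coeff_C_mul] at this
    exact (mul_eq_zero.1 this).resolve_left (pow_ne_zero _ (by exact_mod_cast hp.out.ne_zero))

open MvPolynomial in
lemma teichmuller_add_univ (n : ℕ) :
    ((teichmuller p (X 0 : MvPolynomial (Fin 2) ℤ) + teichmuller p (X 1)
      - teichmuller p (X 0 + X 1) : WittVector p (MvPolynomial (Fin 2) ℤ))).coeff n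
      ∈ idealOfVars (Fin 2) ℤ ^ 2 := by
  refine coeff_mem_of_ghostComponent_mem _ (fun n => ?_) n
  rw [map_sub, map_add, ghostComponent_teichmuller, ghostComponent_teichmuller,
    ghostComponent_teichmuller]
  rcases n with _ | n
  · simp
  · have h2 : 2 ≤ p ^ (n + 1) := by
      calc 2 ≤ p := hp.out.two_le
        _ = p ^ 1 := (pow_one p).symm
        _ ≤ p ^ (n + 1) := Nat.pow_le_pow_right hp.out.pos (by omega)
    have hX : ∀ i, (X i : MvPolynomial (Fin 2) ℤ) ∈ idealOfVars (Fin 2) ℤ :=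
      fun i => Ideal.subset_span ⟨i, rfl⟩
    have key : ∀ f ∈ idealOfVars (Fin 2) ℤ, f ^ p ^ (n + 1) ∈ idealOfVars (Fin 2) ℤ ^ 2 :=
      fun f hf => Ideal.pow_le_pow_right h2 (Ideal.pow_mem_pow hf _)
    exact sub_mem (add_mem (key _ (hX 0)) (key _ (hX 1))) (key _ (add_mem (hX 0) (hX 1)))

variable {S : Type u} [CommRing S]

/-- Teichmüller representatives are additive on a square-zero ideal -/
theorem teichmuller_add_of_sq_zero (𝔞 : Ideal S) (hsq : ∀ x ∈ 𝔞, ∀ y ∈ 𝔞, x * y = 0)
    {x y : S} (hx : x ∈ 𝔞) (hy : y ∈ 𝔞) :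
    (teichmuller p (x + y) : WittVector p S) = teichmuller p x + teichmuller p y := by
  let φ : MvPolynomial (Fin 2) ℤ →+* S := (MvPolynomial.aeval ![x, y] : MvPolynomial (Fin 2) ℤ →ₐ[ℤ] S).toRingHom
  have hφ0 : φ (MvPolynomial.X 0) = x := by simp [φ]
  have hφ1 : φ (MvPolynomial.X 1) = y := by simp [φ]
  have hmap : Ideal.map φ (MvPolynomial.idealOfVars (Fin 2) ℤ) ≤ 𝔞 := by
    rw [MvPolynomial.idealOfVars, Ideal.map_span, Ideal.span_le]
    rintro _ ⟨_, ⟨i, rfl⟩, rfl⟩
    fin_cases i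
    · change φ (MvPolynomial.X 0) ∈ 𝔞
      rw [hφ0]; exact hx
    · change φ (MvPolynomial.X 1) ∈ 𝔞
      rw [hφ1]; exact hy
  have hsq' : 𝔞 ^ 2 = ⊥ := by
    rw [eq_bot_iff, pow_two, Ideal.mul_le]
    intro a ha b hb
    rw [Ideal.mem_bot]
    exact hsq a ha b hb
  have hzero : ∀ g ∈ MvPolynomial.idealOfVars (Fin 2) ℤ ^ 2, φ g = 0 := by
    intro g hg
    have h1 : φ g ∈ Ideal.map φ (MvPolynomial.idealOfVars (Fin 2) ℤ ^ 2) :=
      Ideal.mem_map_of_mem φ hg
    rw [Ideal.map_pow] at h1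
    have h2 := Ideal.pow_right_mono hmap 2 h1
    rw [hsq'] at h2
    exact h2
  have hu : (WittVector.map φ : WittVector p _ →+* WittVector p S)
      (teichmuller p (MvPolynomial.X 0 : MvPolynomial (Fin 2) ℤ) + teichmuller p (MvPolynomial.X 1)
      - teichmuller p (MvPolynomial.X 0 + MvPolynomial.X 1)) = 0 := by
    ext n
    rw [WittVector.map_coeff, WittVector.zero_coeff]
    exact hzero _ (teichmuller_add_univ n)
  rw [map_sub, map_add, WittVector.map_teichmuller, WittVector.map_teichmuller,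
    WittVector.map_teichmuller, map_add, hφ0, hφ1, sub_eq_zero] at hu
  exact hu.symm

end Tadd

end Groth.Agent.Lib.Helper16.ZW
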