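import Mathlib
import Groth.Agent.Lib.Helper16.ZW4
import Groth.Agent.Lib.Helper16.ZW8
import Groth.Agent.Lib.Helper16.ZW11
import Groth.Agent.Lib.Helper16.ZW19

/-!
# Square-zero ideals: W(𝔞) is killed by F, I and p; the operator Ĝ extending V⁻¹ to W(𝔞)P (helper16)
-/

set_option autoImplicit false
universe u v

noncomputable section

namespace Groth.Agent.Lib.Helper16.ZW
open WittVector Function Dieu W4c1extbt610

section SqZero

variable {p : ℕ} [hp : Fact p.Prime] {S : Type u} [CommRing S]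
variable (𝔞 : Ideal S) (hsq : ∀ x ∈ 𝔞, ∀ y ∈ 𝔞, x * y = 0) (hpa : ∀ x ∈ 𝔞, (p : S) * x = 0)

include hsq hpa in
/-- Frobenius kills `W(𝔞)` when `𝔞² = 0 = p𝔞` -/
lemma frobenius_eq_zero_of_mem_WI {a : WittVector p S} (ha : a ∈ WI 𝔞) : frobenius a = 0 := by
  rw [mem_WI_iff] at ha
  ext n
  rw [coeff_frobenius_eq, WittVector.zero_coeff]
  have h1 : a.coeff n ^ p = 0 := by
    have h2 : a.coeff n ^ p = a.coeff n ^ 2 * a.coeff n ^ (p - 2) := by
      rw [← pow_add]
      congr 1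
      have := hp.out.two_le
      omega
    rw [h2, pow_two, hsq _ (ha n) _ (ha n), zero_mul]
  have h2 : MvPolynomial.aeval a.coeff (frobeniusPolyAux p n) ∈ 𝔞 :=
    aeval_mem_of_constantCoeff_eq_zero _ (constantCoeff_frobeniusPolyAux n) 𝔞 _ ha
  rw [h1, hpa _ h2, add_zero]

include hsq hpa in
/-- `I_S · W(𝔞) = 0` -/
lemma IV_mul_WI {b a : WittVector p S} (hb : b ∈ IV p S) (ha : a ∈ WI 𝔞) : b * a = 0 := by
  obtain ⟨η, rfl⟩ := (mem_IV_iff b).1 hb
  rw [← WittVector.verschiebung_mul_frobenius, frobenius_eq_zero_of_mem_WI 𝔞 hsq hpa ha,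
    mul_zero, map_zero]

include hsq hpa in
lemma mul_teichmuller_of_mem (ξ : WittVector p S) {c : S} (hc : c ∈ 𝔞) :
    ξ * teichmuller p c = teichmuller p (ξ.coeff 0 * c) := by
  have h := eq_teichmuller_add_verschiebung ξ
  have h0 : verschiebung (Vi ξ) * teichmuller p c = 0 :=
    IV_mul_WI 𝔞 hsq hpa (verschiebung_mem_IV p S _) (teichmuller_mem_WI hc)
  calc ξ * teichmuller p c
      = (teichmuller p (ξ.coeff 0) + verschiebung (Vi ξ)) * teichmuller p c := by rw [← h]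
    _ = teichmuller p (ξ.coeff 0) * teichmuller p c := by rw [add_mul, h0, add_zero]
    _ = teichmuller p (ξ.coeff 0 * c) := (map_mul (teichmuller p) _ _).symm

include hsq hpa in
/-- the shift is Frobenius-semilinear on `W(𝔞)` -/
lemma Vi_mul_of_mem_WI (ξ : WittVector p S) {a : WittVector p S} (ha : a ∈ WI 𝔞) :
    Vi (ξ * a) = frobenius ξ * Vi a := by
  have h := eq_teichmuller_add_verschiebung a
  have ha0 : a.coeff 0 ∈ 𝔞 := (mem_WI_iff.1 ha) 0
  have h1 : ξ * a = teichmuller p (ξ.coeff 0 * a.coeff 0) + verschiebung (frobenius ξ * Vi a) := by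
    calc ξ * a = ξ * (teichmuller p (a.coeff 0) + verschiebung (Vi a)) := by rw [← h]
      _ = _ := by rw [mul_add, mul_teichmuller_of_mem 𝔞 hsq hpa ξ ha0, mul_verschiebung']
  rw [h1, Vi_teichmuller_add_verschiebung]

include hsq in
/-- the shift is additive on `W(𝔞)` -/
lemma Vi_add_of_mem_WI {a b : WittVector p S} (ha : a ∈ WI 𝔞) (hb : b ∈ WI 𝔞) :
    Vi (a + b) = Vi a + Vi b := by
  have h1 := eq_teichmuller_add_verschiebung a
  have h2 := eq_teichmuller_add_verschiebung b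
  have ha0 : a.coeff 0 ∈ 𝔞 := (mem_WI_iff.1 ha) 0
  have hb0 : b.coeff 0 ∈ 𝔞 := (mem_WI_iff.1 hb) 0
  have h3 : a + b = teichmuller p (a.coeff 0 + b.coeff 0) + verschiebung (Vi a + Vi b) := by
    rw [teichmuller_add_of_sq_zero 𝔞 hsq ha0 hb0, map_add]
    calc a + b = (teichmuller p (a.coeff 0) + verschiebung (Vi a)) +
          (teichmuller p (b.coeff 0) + verschiebung (Vi b)) := by rw [← h1, ← h2]
      _ = _ := by abel
  rw [h3, Vi_teichmuller_add_verschiebung]

include hsq in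
lemma natCast_mul_teichmuller_of_mem (k : ℕ) {c : S} (hc : c ∈ 𝔞) :
    (k : WittVector p S) * teichmuller p c = teichmuller p ((k : S) * c) := by
  induction k with
  | zero => simp
  | succ k ih =>
    have h1 : ((k + 1 : ℕ) : S) * c = (k : S) * c + c := by push_cast; ring
    rw [h1, teichmuller_add_of_sq_zero 𝔞 hsq (Ideal.mul_mem_left _ _ hc) hc, ← ih]
    push_cast
    ring

include hsq hpa in
/-- `p · W(𝔞) = 0` -/
lemma natCast_mul_of_mem_WI {a : WittVector p S} (ha : a ∈ WI 𝔞) : (p : WittVector p S) * a = 0 := by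
  have hstep : ∀ a : WittVector p S, a ∈ WI 𝔞 →
      (p : WittVector p S) * a = verschiebung ((p : WittVector p S) * Vi a) := by
    intro a ha
    have h := eq_teichmuller_add_verschiebung a
    have ha0 : a.coeff 0 ∈ 𝔞 := (mem_WI_iff.1 ha) 0
    have hF : frobenius (p : WittVector p S) = (p : WittVector p S) :=
      map_natCast (frobenius : WittVector p S →+* WittVector p S) p
    calc (p : WittVector p S) * a
        = (p : WittVector p S) * (teichmuller p (a.coeff 0) + verschiebung (Vi a)) := by rw [← h]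
      _ = teichmuller p ((p : S) * a.coeff 0) + verschiebung (frobenius (p : WittVector p S) * Vi a) := by
          rw [mul_add, natCast_mul_teichmuller_of_mem 𝔞 hsq p ha0, mul_verschiebung']
      _ = verschiebung ((p : WittVector p S) * Vi a) := by
          rw [hpa _ ha0, WittVector.teichmuller_zero, zero_add, hF]
  have key : ∀ n : ℕ, ∀ a : WittVector p S, a ∈ WI 𝔞 → ((p : WittVector p S) * a).coeff n = 0 := by
    intro n
    induction n with
    | zero =>
      intro a ha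
      rw [hstep a ha, WittVector.verschiebung_coeff_zero]
    | succ n ih =>
      intro a ha
      rw [hstep a ha, WittVector.verschiebung_coeff_succ]
      exact ih _ (Vi_mem_WI ha)
  ext n
  rw [WittVector.zero_coeff]
  exact key n a ha

end SqZero

section Ghat

variable {p : ℕ} [hp : Fact p.Prime] {S : Type u} [CommRing S]
variable {P : Type v} [AddCommGroup P] [Module (WittVector p S) P]
variable {D : Display3n p S P} (d : NData D)

/-- the operator `k ↦ ∑ᵢ shift(μᵢ k) • F tᵢ`, extending the `T`-part of `V⁻¹` -/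
def NData.Gh (k : P) : P := ∑ i, Vi (d.mu i k) • D.F (d.tt i)

/-- `V⁻¹ y = V⁻¹ (pr_L y) + Ĝ y` for `y ∈ Q` -/
lemma NData.Vinv_eq (y : D.Q) :
    D.Vinv y = D.Vinv (prLQ D d.L d.T d.hc d.hQ (y : P)) + d.Gh (y : P) := by
  let c : Fin d.n → WittVector p S := fun i => Vi (d.mu i (y : P))
  have hc : ∀ i, verschiebung (c i) = d.mu i (y : P) := fun i =>
    verschiebung_Vi (d.mu_mem_IV i y.2)
  let q : Fin d.n → D.Q := fun i => ⟨verschiebung (c i) • d.tt i,
    D.IV_smul_le (Submodule.smul_mem_smul (verschiebung_mem_IV p S (c i)) Submodule.mem_top)⟩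
  have hy : y = prLQ D d.L d.T d.hc d.hQ (y : P) + ∑ i, q i := by
    apply Subtype.ext
    rw [Submodule.coe_add, Submodule.coe_sum]
    have h1 : ((prLQ D d.L d.T d.hc d.hQ (y : P) : D.Q) : P) = prL d.L d.T d.hc (y : P) := rfl
    have h2 : ∑ i, ((q i : D.Q) : P) = prT d.L d.T d.hc (y : P) := by
      rw [d.prT_eq_sum]
      refine Finset.sum_congr rfl fun i _ => ?_
      change verschiebung (c i) • d.tt i = _
      rw [hc]
    rw [h1, h2, Groth.Agent.Lib.Helper16.ZW.prL_add_prT]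
  conv_lhs => rw [hy, map_add, map_sum]
  congr 1
  refine Finset.sum_congr rfl fun i _ => ?_
  exact Vinv_verschiebung_smul' D (c i) (d.tt i) _

variable (𝔞 : Ideal S) (hsq : ∀ x ∈ 𝔞, ∀ y ∈ 𝔞, x * y = 0) (hpa : ∀ x ∈ 𝔞, (p : S) * x = 0)

lemma NData.mu_mem_WI (i : Fin d.n) {k : P}
    (hk : k ∈ (WI 𝔞 : Ideal (WittVector p S)) • (⊤ : Submodule (WittVector p S) P)) :
    d.mu i k ∈ (WI 𝔞 : Ideal (WittVector p S)) :=
  functional_mem _ _ hk

include hsq in
lemma NData.Gh_add {k k' : P}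
    (hk : k ∈ (WI 𝔞 : Ideal (WittVector p S)) • (⊤ : Submodule (WittVector p S) P))
    (hk' : k' ∈ (WI 𝔞 : Ideal (WittVector p S)) • (⊤ : Submodule (WittVector p S) P)) :
    d.Gh (k + k') = d.Gh k + d.Gh k' := by
  unfold NData.Gh
  rw [← Finset.sum_add_distrib]
  refine Finset.sum_congr rfl fun i _ => ?_
  rw [map_add, Vi_add_of_mem_WI 𝔞 hsq (d.mu_mem_WI 𝔞 i hk) (d.mu_mem_WI 𝔞 i hk'), add_smul]

include hsq hpa in
lemma NData.Gh_smul (ξ : WittVector p S) {k : P}
    (hk : k ∈ (WI 𝔞 : Ideal (WittVector p S)) • (⊤ : Submodule (WittVector p S) P)) :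
    d.Gh (ξ • k) = frobenius ξ • d.Gh k := by
  unfold NData.Gh
  rw [Finset.smul_sum]
  refine Finset.sum_congr rfl fun i _ => ?_
  rw [map_smul, smul_eq_mul, Vi_mul_of_mem_WI 𝔞 hsq hpa ξ (d.mu_mem_WI 𝔞 i hk), mul_smul]

lemma NData.Gh_mem {k : P}
    (hk : k ∈ (WI 𝔞 : Ideal (WittVector p S)) • (⊤ : Submodule (WittVector p S) P)) :
    d.Gh k ∈ (WI 𝔞 : Ideal (WittVector p S)) • (⊤ : Submodule (WittVector p S) P) := by
  unfold NData.Gh
  refine Submodule.sum_mem _ fun i _ => ?_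
  exact Submodule.smul_mem_smul (Vi_mem_WI (d.mu_mem_WI 𝔞 i hk)) Submodule.mem_top

include hsq hpa in
/-- Frobenius-semilinear maps kill `W(𝔞)·P` -/
lemma semilinear_eq_zero_of_mem {N : Type*} [AddCommGroup N] [Module (WittVector p S) N]
    (φ : P →ₛₗ[(WittVector.frobenius : WittVector p S →+* WittVector p S)] N) {k : P}
    (hk : k ∈ (WI 𝔞 : Ideal (WittVector p S)) • (⊤ : Submodule (WittVector p S) P)) :
    φ k = 0 := by
  refine Submodule.smul_induction_on hk (fun r hr m _ => ?_) (fun x y hx hy => ?_)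
  · rw [φ.map_smulₛₗ, frobenius_eq_zero_of_mem_WI 𝔞 hsq hpa hr, zero_smul]
  · rw [map_add, hx, hy, add_zero]

include hsq hpa in
/-- on `Q ∩ W(𝔞)P`, `V⁻¹` is given by `Ĝ` -/
lemma NData.Vinv_eq_Gh {k : P}
    (hk : k ∈ (WI 𝔞 : Ideal (WittVector p S)) • (⊤ : Submodule (WittVector p S) P))
    (hq : k ∈ D.Q) : D.Vinv ⟨k, hq⟩ = d.Gh k := by
  rw [d.Vinv_eq ⟨k, hq⟩]
  have h0 := semilinear_eq_zero_of_mem 𝔞 hsq hpa
    (D.Vinv.comp (prLQ D d.L d.T d.hc d.hQ) :
      P →ₛₗ[(WittVector.frobenius : WittVector p S →+* WittVector p S)] P) hk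
  rw [LinearMap.comp_apply] at h0
  rw [h0, zero_add]

include hsq hpa in
/-- `(I_S + pW) · W(𝔞)P = 0` -/
lemma smul_eq_zero_of_mem_IV_sup {c : WittVector p S}
    (hc : c ∈ IV p S ⊔ Ideal.span {(p : WittVector p S)}) {k : P}
    (hk : k ∈ (WI 𝔞 : Ideal (WittVector p S)) • (⊤ : Submodule (WittVector p S) P)) :
    c • k = 0 := by
  obtain ⟨b, hb, r, hr, rfl⟩ := Submodule.mem_sup.1 hc
  obtain ⟨s, rfl⟩ := Ideal.mem_span_singleton'.1 hr
  refine Submodule.smul_induction_on hk (fun a ha m _ => ?_) (fun x y hx hy => ?_)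
  · rw [← mul_smul, add_mul, IV_mul_WI 𝔞 hsq hpa hb ha, mul_assoc,
      natCast_mul_of_mem_WI 𝔞 hsq hpa ha, mul_zero, add_zero, zero_smul]
  · rw [smul_add, hx, hy, add_zero]

end Ghat

end Groth.Agent.Lib.Helper16.ZW
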