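import Mathlib
import Groth.Agent.Lib.Helper16.ZW20

/-!
# Rigidity core lemma: homs of displays with values in W(𝔞)P' vanish when 𝔞² = 0 = p𝔞 (helper16)
-/

set_option autoImplicit false
universe u v

noncomputable section

namespace Groth.Agent.Lib.Helper16.ZW
open WittVector Function Dieu W4c1extbt610

section IterGen

variable {A : Type u} [CommRing A] (s : A →+* A)
variable {P : Type v} [AddCommGroup P] [Module A P]
variable {P' : Type v} [AddCommGroup P'] [Module A P']

variable (K : Submodule A P') (G : P' → P')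
  (hGadd : ∀ k ∈ K, ∀ k' ∈ K, G (k + k') = G k + G k')
  (hGsmul : ∀ (ξ : A), ∀ k ∈ K, G (ξ • k) = s ξ • G k)

/-- `G ∘ φ` as a semilinear map -/
def Gc (h gh : A →+* A) (e : RingHom.comp s h = gh)
    (φ : P →ₛₗ[h] P') (hφ : ∀ x, φ x ∈ K) : P →ₛₗ[gh] P' where
  toFun x := G (φ x)
  map_add' x y := by rw [map_add]; exact hGadd _ (hφ x) _ (hφ y)
  map_smul' a x := by
    rw [φ.map_smulₛₗ, hGsmul _ _ (hφ x), ← e]
    rfl

lemma Gc_apply (h gh : A →+* A) (e : RingHom.comp s h = gh)
    (φ : P →ₛₗ[h] P') (hφ : ∀ x, φ x ∈ K) (x : P) :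
    Gc s K G hGadd hGsmul h gh e φ hφ x = G (φ x) := rfl

lemma lift_mem (h : A →+* A) (φ : P →ₛₗ[h] P') (hφ : ∀ x, φ x ∈ K)
    (ζ : BC h P) : BC.lift h φ ζ ∈ K := by
  induction ζ using BC.induction_on h with
  | zero => rw [map_zero]; exact zero_mem _
  | tmul b x => rw [BC.lift_tmul]; exact K.smul_mem _ (hφ x)
  | add z₁ z₂ h₁ h₂ => rw [map_add]; exact add_mem h₁ h₂

include hGsmul in
lemma G_zero' : G 0 = 0 := by
  have := hGsmul 0 0 (zero_mem _)
  rw [zero_smul, map_zero, zero_smul] at this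
  exact this

lemma lift_Gc_pushc (h gh : A →+* A) (e : RingHom.comp s h = gh)
    (φ : P →ₛₗ[h] P') (hφ : ∀ x, φ x ∈ K) (ζ : BC h P) :
    BC.lift gh (Gc s K G hGadd hGsmul h gh e φ hφ) (pushc s h gh e ζ) = G (BC.lift h φ ζ) := by
  induction ζ using BC.induction_on h with
  | zero => rw [pushc_zero, map_zero, map_zero, G_zero' s K G hGsmul]
  | tmul v z =>
    rw [pushc_tmul, BC.lift_tmul, BC.lift_tmul, Gc_apply, hGsmul _ _ (hφ z)]
  | add z₁ z₂ h₁ h₂ =>
    rw [pushc_add, map_add, map_add, h₁, h₂,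
      hGadd _ (lift_mem K h φ hφ z₁) _ (lift_mem K h φ hφ z₂)]

variable (ψ : P →ₗ[A] P') (hψK : ∀ x, ψ x ∈ K)

lemma lift_Gc_Tc (h gh : A →+* A) (e : RingHom.comp s h = gh)
    (φ : P →ₛₗ[h] P') (hφ : ∀ x, φ x ∈ K) (β : P →ₗ[A] BC h P)
    (hβ : ∀ y, BC.lift h φ (β y) = ψ y) (ξ : BC s P) :
    BC.lift gh (Gc s K G hGadd hGsmul h gh e φ hφ) (Tc s h gh e β ξ) =
      BC.lift s (Gc s K G hGadd hGsmul (RingHom.id _) s (RingHom.comp_id s) ψ hψK) ξ := by
  induction ξ using BC.induction_on s with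
  | zero => simp only [map_zero]
  | tmul u y =>
    rw [Tc_tmul, map_smul, lift_Gc_pushc, hβ, BC.lift_tmul, Gc_apply]
  | add z₁ z₂ h₁ h₂ => rw [map_add, map_add, map_add, h₁, h₂]

omit s in
lemma lift_castHom {g g' : A →+* A} (e : g = g')
    (φ : P →ₛₗ[g] P') (φ' : P →ₛₗ[g'] P') (hφ : ∀ x, φ x = φ' x) (ζ : BC g P) :
    BC.lift g' φ' (BC.castHom e ζ) = BC.lift g φ ζ := by
  induction ζ using BC.induction_on g with
  | zero => rw [map_zero, map_zero, map_zero]
  | tmul b x => rw [BC.castHom_tmul, BC.lift_tmul, BC.lift_tmul, hφ]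
  | add z₁ z₂ h₁ h₂ => rw [map_add, map_add, map_add, h₁, h₂]

end IterGen

section Iter

variable {p : ℕ} [hp : Fact p.Prime] {S : Type u} [CommRing S]
variable {P : Type v} [AddCommGroup P] [Module (WittVector p S) P]
variable {P' : Type v} [AddCommGroup P'] [Module (WittVector p S) P']

variable (K : Submodule (WittVector p S) P') (G : P' → P')
  (hGadd : ∀ k ∈ K, ∀ k' ∈ K, G (k + k') = G k + G k')
  (hGsmul : ∀ (ξ : WittVector p S), ∀ k ∈ K, G (ξ • k) = (WittVector.frobenius : WittVector p S →+* WittVector p S) ξ • G k)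
variable (ψ : P →ₗ[WittVector p S] P') (hψK : ∀ x, ψ x ∈ K)
variable (Vs : P →ₗ[WittVector p S] BC (WittVector.frobenius : WittVector p S →+* WittVector p S) P)

/-- iterating the identity `ψ = lin(Ĝψ) ∘ V^#` -/
theorem exists_iter
    (hB : ∀ x, ψ x = BC.lift (WittVector.frobenius : WittVector p S →+* WittVector p S) (Gc (WittVector.frobenius : WittVector p S →+* WittVector p S) K G hGadd hGsmul (RingHom.id _) (WittVector.frobenius : WittVector p S →+* WittVector p S) (RingHom.comp_id (WittVector.frobenius : WittVector p S →+* WittVector p S)) ψ hψK) (Vs x))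
    (hGK : ∀ k ∈ K, G k ∈ K) (n : ℕ) :
    ∃ φ : P →ₛₗ[(WittVector.frobenius : WittVector p S →+* WittVector p S) ^ (n + 1)] P', (∀ x, φ x ∈ K) ∧
      ∀ x, ψ x = BC.lift ((WittVector.frobenius : WittVector p S →+* WittVector p S) ^ (n + 1)) φ (vSharpPow Vs n x) := by
  induction n with
  | zero =>
    refine ⟨Gc (WittVector.frobenius : WittVector p S →+* WittVector p S) K G hGadd hGsmul (RingHom.id _) ((WittVector.frobenius : WittVector p S →+* WittVector p S) ^ (0 + 1))
      ((RingHom.comp_id (WittVector.frobenius : WittVector p S →+* WittVector p S)).trans (pow_one (WittVector.frobenius : WittVector p S →+* WittVector p S)).symm) ψ hψK, fun x => hGK _ (hψK x), fun x => ?_⟩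
    rw [vSharpPow_zero_apply]
    exact (hB x).trans (lift_castHom (pow_one (WittVector.frobenius : WittVector p S →+* WittVector p S)).symm
      (Gc (WittVector.frobenius : WittVector p S →+* WittVector p S) K G hGadd hGsmul (RingHom.id _) (WittVector.frobenius : WittVector p S →+* WittVector p S) (RingHom.comp_id (WittVector.frobenius : WittVector p S →+* WittVector p S)) ψ hψK) _ (fun _ => rfl) (Vs x)).symm
  | succ n ih =>
    obtain ⟨φ, hφK, hφ⟩ := ih
    refine ⟨Gc (WittVector.frobenius : WittVector p S →+* WittVector p S) K G hGadd hGsmul ((WittVector.frobenius : WittVector p S →+* WittVector p S) ^ (n + 1)) ((WittVector.frobenius : WittVector p S →+* WittVector p S) ^ (n + 1 + 1)) (comp_pow_eq_pow_succ (WittVector.frobenius : WittVector p S →+* WittVector p S) (n + 1)) φ hφK,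
      fun x => hGK _ (hφK x), fun x => ?_⟩
    rw [vSharpPow_succ_apply', lift_Gc_Tc (WittVector.frobenius : WittVector p S →+* WittVector p S) K G hGadd hGsmul ψ hψK ((WittVector.frobenius : WittVector p S →+* WittVector p S) ^ (n + 1)) ((WittVector.frobenius : WittVector p S →+* WittVector p S) ^ (n + 1 + 1))
      (comp_pow_eq_pow_succ (WittVector.frobenius : WittVector p S →+* WittVector p S) (n + 1)) φ hφK (vSharpPow Vs n) (fun y => (hφ y).symm)]
    exact hB x

/-- if moreover `V^#` is nilpotent and `(I + p)K = 0`, then `ψ = 0` -/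
theorem eq_zero_of_iter
    (hB : ∀ x, ψ x = BC.lift (WittVector.frobenius : WittVector p S →+* WittVector p S) (Gc (WittVector.frobenius : WittVector p S →+* WittVector p S) K G hGadd hGsmul (RingHom.id _) (WittVector.frobenius : WittVector p S →+* WittVector p S) (RingHom.comp_id (WittVector.frobenius : WittVector p S →+* WittVector p S)) ψ hψK) (Vs x))
    (hGK : ∀ k ∈ K, G k ∈ K) (hnil : IsVNilpotent Vs)
    (hkill : ∀ c ∈ IV p S ⊔ Ideal.span {(p : WittVector p S)}, ∀ k ∈ K, c • k = 0) :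
    ψ = 0 := by
  obtain ⟨n, hn⟩ := hnil
  obtain ⟨φ, hφK, hφ⟩ := exists_iter K G hGadd hGsmul ψ hψK Vs hB hGK n
  ext x
  rw [hφ x, LinearMap.zero_apply]
  refine Submodule.smul_induction_on (hn x) (fun c hc m _ => ?_) (fun x y hx hy => ?_)
  · rw [map_smul]
    exact hkill c hc _ (lift_mem K _ φ hφK m)
  · rw [map_add, hx, hy, add_zero]

end Iter

section Core

variable {p : ℕ} [hp : Fact p.Prime] {S : Type u} [CommRing S]
variable {P : Type v} [AddCommGroup P] [Module (WittVector p S) P]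
variable {P' : Type v} [AddCommGroup P'] [Module (WittVector p S) P']

/-- **Core Lemma** (rigidity): over a ring with an ideal `𝔞`, `𝔞² = 0 = p𝔞`, a homomorphism from a display
to a 3n-display with values in `W(𝔞)P'` vanishes. -/
theorem core_lemma (𝔞 : Ideal S) (hsq : ∀ x ∈ 𝔞, ∀ y ∈ 𝔞, x * y = 0)
    (hpa : ∀ x ∈ 𝔞, (p : S) * x = 0)
    (D : Display3n p S P) (D' : Display3n p S P') (hD : IsDisplay D)
    (ψ : P →ₗ[WittVector p S] P') (hψ : IsHom D D' ψ)
    (hK : ∀ x, ψ x ∈ (WI 𝔞 : Ideal (WittVector p S)) • (⊤ : Submodule (WittVector p S) P')) :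
    ψ = 0 := by
  obtain ⟨Vs, hVs, hnil⟩ := hD
  obtain ⟨d'⟩ := nonempty_NData D'
  refine eq_zero_of_iter ((WI 𝔞 : Ideal (WittVector p S)) • (⊤ : Submodule (WittVector p S) P'))
    d'.Gh (fun k hk k' hk' => d'.Gh_add 𝔞 hsq hk hk') (fun ξ k hk => d'.Gh_smul 𝔞 hsq hpa ξ hk)
    ψ hK Vs ?_ (fun k hk => d'.Gh_mem 𝔞 hk) hnil
    (fun c hc k hk => smul_eq_zero_of_mem_IV_sup 𝔞 hsq hpa hc hk)
  intro x
  have hlin : ψ = (BC.lift (WittVector.frobenius : WittVector p S →+* WittVector p S)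
      (Gc _ _ d'.Gh (fun k hk k' hk' => d'.Gh_add 𝔞 hsq hk hk')
        (fun ξ k hk => d'.Gh_smul 𝔞 hsq hpa ξ hk) (RingHom.id _) _ (RingHom.comp_id _) ψ hK)).comp Vs := by
    refine LinearMap.ext_on_range (v := D.Vinv) D.span_range_Vinv fun y => ?_
    rw [LinearMap.comp_apply]
    have h1 := hVs.app_smul_Vinv 1 y
    rw [one_smul] at h1
    rw [h1, BC.lift_tmul, one_smul, Gc_apply, hψ.comm_Vinv y]
    exact d'.Vinv_eq_Gh 𝔞 hsq hpa (hK _) _
  exact LinearMap.congr_fun hlin x

end Core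

end Groth.Agent.Lib.Helper16.ZW
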