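import Mathlib
import Groth.Agent.Lib.Helper16.ZW21

/-!
# Homomorphisms of 3n-displays modulo W(𝔠) (helper16)
-/

set_option autoImplicit false
universe u v

noncomputable section

namespace Groth.Agent.Lib.Helper16.ZW
open WittVector Function Dieu W4c1extbt610

section WIextra

variable {p : ℕ} [hp : Fact p.Prime] {S : Type u} [CommRing S]

lemma WI_bot : (WI (⊥ : Ideal S) : Ideal (WittVector p S)) = ⊥ := by
  rw [eq_bot_iff]
  intro a ha
  rw [mem_WI_iff] at ha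
  rw [Ideal.mem_bot]
  ext n
  rw [WittVector.zero_coeff]
  exact ha n

lemma frobenius_mem_WI {𝔠 : Ideal S} {a : WittVector p S} (ha : a ∈ WI 𝔠) :
    frobenius a ∈ WI 𝔠 := by
  rw [WI, RingHom.mem_ker] at ha ⊢
  rw [map_frob (Ideal.Quotient.mk 𝔠) a, ha, map_zero]

variable {P : Type v} [AddCommGroup P] [Module (WittVector p S) P]

lemma semilinear_mem_of_mem (𝔠 : Ideal S) {N : Type*} [AddCommGroup N] [Module (WittVector p S) N]
    (φ : P →ₛₗ[(WittVector.frobenius : WittVector p S →+* WittVector p S)] N) {k : P}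
    (hk : k ∈ (WI 𝔠 : Ideal (WittVector p S)) • (⊤ : Submodule (WittVector p S) P)) :
    φ k ∈ (WI 𝔠 : Ideal (WittVector p S)) • (⊤ : Submodule (WittVector p S) N) := by
  refine Submodule.smul_induction_on hk (fun r hr m _ => ?_) (fun x y hx hy => ?_)
  · rw [φ.map_smulₛₗ]
    exact Submodule.smul_mem_smul (frobenius_mem_WI hr) Submodule.mem_top
  · rw [map_add]
    exact add_mem hx hy

lemma linear_mem_of_mem (𝔠 : Ideal S) {N : Type*} [AddCommGroup N] [Module (WittVector p S) N]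
    (φ : P →ₗ[WittVector p S] N) {k : P}
    (hk : k ∈ (WI 𝔠 : Ideal (WittVector p S)) • (⊤ : Submodule (WittVector p S) P)) :
    φ k ∈ (WI 𝔠 : Ideal (WittVector p S)) • (⊤ : Submodule (WittVector p S) N) := by
  refine Submodule.smul_induction_on hk (fun r hr m _ => ?_) (fun x y hx hy => ?_)
  · rw [map_smul]
    exact Submodule.smul_mem_smul hr Submodule.mem_top
  · rw [map_add]
    exact add_mem hx hy

/-- `V⁻¹` maps `Q ∩ W(𝔠)P` into `W(𝔠)P` -/
lemma Vinv_mem_of_mem {D : Display3n p S P} (𝔠 : Ideal S) {k : P}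
    (hk : k ∈ (WI 𝔠 : Ideal (WittVector p S)) • (⊤ : Submodule (WittVector p S) P))
    (hq : k ∈ D.Q) :
    D.Vinv ⟨k, hq⟩ ∈ (WI 𝔠 : Ideal (WittVector p S)) • (⊤ : Submodule (WittVector p S) P) := by
  obtain ⟨d⟩ := nonempty_NData D
  rw [d.Vinv_eq ⟨k, hq⟩]
  refine add_mem ?_ (d.Gh_mem 𝔠 hk)
  exact semilinear_mem_of_mem 𝔠 (D.Vinv.comp (prLQ D d.L d.T d.hc d.hQ) :
      P →ₛₗ[(WittVector.frobenius : WittVector p S →+* WittVector p S)] P) hk

end WIextra

section HomMod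

variable {p : ℕ} [hp : Fact p.Prime] {S : Type u} [CommRing S]
variable {P : Type v} [AddCommGroup P] [Module (WittVector p S) P]
variable {P' : Type v} [AddCommGroup P'] [Module (WittVector p S) P']

/-- `ψ₀` is a homomorphism of 3n-displays modulo `W(𝔠)` -/
structure IsHomMod (𝔠 : Ideal S) (D : Display3n p S P) (D' : Display3n p S P')
    (ψ₀ : P →ₗ[WittVector p S] P') : Prop where
  mapsTo : ∀ y ∈ D.Q, ∃ q' ∈ D'.Q,
    ψ₀ y - q' ∈ (WI 𝔠 : Ideal (WittVector p S)) • (⊤ : Submodule (WittVector p S) P')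
  comm : ∀ (y : D.Q) (q' : D'.Q),
    ψ₀ y - q' ∈ (WI 𝔠 : Ideal (WittVector p S)) • (⊤ : Submodule (WittVector p S) P') →
    ψ₀ (D.Vinv y) - D'.Vinv q' ∈
      (WI 𝔠 : Ideal (WittVector p S)) • (⊤ : Submodule (WittVector p S) P')

lemma IsHom.isHomMod {D : Display3n p S P} {D' : Display3n p S P'}
    {ψ : P →ₗ[WittVector p S] P'} (hψ : IsHom D D' ψ) (𝔠 : Ideal S) : IsHomMod 𝔠 D D' ψ where
  mapsTo y hy := ⟨ψ y, hψ.mapsTo y hy, by rw [sub_self]; exact zero_mem _⟩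
  comm y q' h := by
    rw [hψ.comm_Vinv y, ← map_sub]
    exact Vinv_mem_of_mem 𝔠 h _

lemma IsHomMod.isHom {D : Display3n p S P} {D' : Display3n p S P'}
    {ψ : P →ₗ[WittVector p S] P'} (h : IsHomMod ⊥ D D' ψ) : IsHom D D' ψ := by
  have hbot : ∀ z : P', z ∈ (WI (⊥ : Ideal S) : Ideal (WittVector p S)) •
      (⊤ : Submodule (WittVector p S) P') → z = 0 := by
    intro z hz
    rw [WI_bot, Submodule.bot_smul] at hz
    exact hz
  have hmaps : ∀ q : P, q ∈ D.Q → ψ q ∈ D'.Q := by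
    intro q hq
    obtain ⟨q', hq', hd⟩ := h.mapsTo q hq
    rw [sub_eq_zero.1 (hbot _ hd)]
    exact hq'
  have hV : ∀ q : D.Q, ψ (D.Vinv q) = D'.Vinv ⟨ψ q, hmaps q q.2⟩ := by
    intro q
    have := h.comm q ⟨ψ q, hmaps q q.2⟩ (by rw [sub_self]; exact zero_mem _)
    exact sub_eq_zero.1 (hbot _ this)
  refine ⟨hmaps, fun x => ?_, hV⟩
  have hx : verschiebung (1 : WittVector p S) • x ∈ D.Q :=
    D.IV_smul_le (Submodule.smul_mem_smul (verschiebung_mem_IV p S 1) Submodule.mem_top)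
  have h1 := hV ⟨_, hx⟩
  rw [D.Vinv_verschiebung_smul 1 x, one_smul] at h1
  rw [h1]
  have h2 : (⟨ψ (verschiebung (1 : WittVector p S) • x), hmaps _ hx⟩ : D'.Q) =
      ⟨verschiebung (1 : WittVector p S) • ψ x,
        D'.IV_smul_le (Submodule.smul_mem_smul (verschiebung_mem_IV p S 1) Submodule.mem_top)⟩ :=
    Subtype.ext (map_smul ψ _ x)
  rw [h2, D'.Vinv_verschiebung_smul 1 (ψ x), one_smul]

end HomMod

end Groth.Agent.Lib.Helper16.ZW
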