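import Mathlib
import Groth.Agent.Lib.Helper16.ZW22

/-!
# Base change of 3n-displays along a surjection: homomorphisms modulo W(ker f) (helper16)
-/

set_option autoImplicit false
universe u v

noncomputable section

namespace Groth.Agent.Lib.Helper16.ZW
open WittVector Function Dieu W4c1extbt610

section Gen

variable {A B : Type u} [CommRing A] [CommRing B] (φ : A →+* B)
variable {P : Type v} [AddCommGroup P] [Module A P]

lemma BC_tmul_sub (b : B) (x y : P) : BC.tmul φ b (x - y) = BC.tmul φ b x - BC.tmul φ b y := by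
  rw [sub_eq_add_neg, BC.tmul_add, BC.tmul_neg, ← sub_eq_add_neg]

end Gen

section SurjBC

variable {p : ℕ} [hp : Fact p.Prime] {S R : Type u} [CommRing S] [CommRing R] (f : S →+* R)
variable {P : Type v} [AddCommGroup P] [Module (WittVector p S) P]
variable {P' : Type v} [AddCommGroup P'] [Module (WittVector p S) P']

/-- for surjective `f`, every element of `W(R) ⊗ P` is `1 ⊗ x` -/
lemma exists_tmul_one_eq (hf : Function.Surjective f)
    (z : BC (WittVector.map f : WittVector p S →+* WittVector p R) P) :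
    ∃ x : P, BC.tmul (WittVector.map f : WittVector p S →+* WittVector p R) 1 x = z := by
  induction z using BC.induction_on (WittVector.map f : WittVector p S →+* WittVector p R) with
  | zero => exact ⟨0, BC.tmul_zero _ _⟩
  | tmul w x =>
    obtain ⟨a, rfl⟩ := WittVector.map_surjective f hf w
    exact ⟨a • x, by rw [BC_tmul_one_smul, ← BC.tmul_eq_smul_tmul_one]⟩
  | add z₁ z₂ h₁ h₂ =>
    obtain ⟨x₁, rfl⟩ := h₁
    obtain ⟨x₂, rfl⟩ := h₂
    exact ⟨x₁ + x₂, BC.tmul_add _ _ _ _⟩

lemma tmul_one_eq_zero_of_mem {x : P}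
    (hx : x ∈ (WI (RingHom.ker f) : Ideal (WittVector p S)) • (⊤ : Submodule (WittVector p S) P)) :
    BC.tmul (WittVector.map f : WittVector p S →+* WittVector p R) 1 x = 0 := by
  refine Submodule.smul_induction_on hx (fun a ha m _ => ?_) (fun x y hx hy => ?_)
  · rw [← ker_map_eq_WI, RingHom.mem_ker] at ha
    rw [BC_tmul_one_smul, ha, zero_smul]
  · rw [BC.tmul_add, hx, hy, add_zero]

lemma mem_of_tmul_one_eq_zero [Module.Finite (WittVector p S) P] [Module.Projective (WittVector p S) P]
    {x : P} (hx : BC.tmul (WittVector.map f : WittVector p S →+* WittVector p R) 1 x = 0) :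
    x ∈ (WI (RingHom.ker f) : Ideal (WittVector p S)) • (⊤ : Submodule (WittVector p S) P) := by
  obtain ⟨n, e, lam, h⟩ := exists_dual_basis (A := WittVector p S) (P := P)
  rw [h x]
  refine Submodule.sum_mem _ fun i _ => Submodule.smul_mem_smul ?_ Submodule.mem_top
  rw [← ker_map_eq_WI, RingHom.mem_ker]
  have h1 := funB_tmul (WittVector.map f : WittVector p S →+* WittVector p R) (lam i) 1 x
  rw [hx, map_zero, one_mul] at h1
  exact h1.symm

variable {D : Display3n p S P} {D' : Display3n p S P'}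

/-- the preimage of `Q_R` in `P` is `Q + W(ker f) P` -/
lemma exists_sub_mem_of_tmul_mem_QR {x : P}
    (hx : BC.tmul (WittVector.map f : WittVector p S →+* WittVector p R) 1 x ∈ QR f D) :
    ∃ q ∈ D.Q, x - q ∈
      (WI (RingHom.ker f) : Ideal (WittVector p S)) • (⊤ : Submodule (WittVector p S) P) := by
  obtain ⟨d⟩ := nonempty_NData D
  have hc : ∀ i, (d.mu i x).coeff 0 ∈ RingHom.ker f := by
    intro i
    have h1 := d.funB_mu_mem_IV f i hx
    rw [funB_tmul, one_mul, mem_IV_iff_coeff_zero, WittVector.map_coeff] at h1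
    exact h1
  refine ⟨prL d.L d.T d.hc x + ∑ i, verschiebung (Vi (d.mu i x)) • d.tt i, ?_, ?_⟩
  · refine add_mem (L_le_Q D d.L d.T d.hQ (prL_mem d.L d.T d.hc x)) (Submodule.sum_mem _ fun i _ => ?_)
    exact D.IV_smul_le (Submodule.smul_mem_smul (verschiebung_mem_IV p S _) Submodule.mem_top)
  · have h1 : x - (prL d.L d.T d.hc x + ∑ i, verschiebung (Vi (d.mu i x)) • d.tt i) =
        ∑ i, teichmuller p ((d.mu i x).coeff 0) • d.tt i := by
      have h := Groth.Agent.Lib.Helper16.ZW.prL_add_prT d.L d.T d.hc x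
      calc x - (prL d.L d.T d.hc x + ∑ i, verschiebung (Vi (d.mu i x)) • d.tt i)
          = (prL d.L d.T d.hc x + prT d.L d.T d.hc x) -
            (prL d.L d.T d.hc x + ∑ i, verschiebung (Vi (d.mu i x)) • d.tt i) := by rw [h]
        _ = prT d.L d.T d.hc x - ∑ i, verschiebung (Vi (d.mu i x)) • d.tt i :=
            add_sub_add_left_eq_sub _ _ _
        _ = _ := by
          rw [d.prT_eq_sum, ← Finset.sum_sub_distrib]
          refine Finset.sum_congr rfl fun i _ => ?_
          rw [← sub_smul]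
          congr 1
          rw [sub_eq_iff_eq_add]
          exact eq_teichmuller_add_verschiebung (d.mu i x)
    rw [h1]
    exact Submodule.sum_mem _ fun i _ =>
      Submodule.smul_mem_smul (teichmuller_mem_WI (hc i)) Submodule.mem_top

variable {DR : Display3n p R (BC (WittVector.map f : WittVector p S →+* WittVector p R) P)}
variable {DR' : Display3n p R (BC (WittVector.map f : WittVector p S →+* WittVector p R) P')}

lemma tmul_one_mem_Q (hR : IsDispBaseChange f D DR) (q : D.Q) :
    BC.tmul (WittVector.map f : WittVector p S →+* WittVector p R) 1 (q : P) ∈ DR.Q := by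
  rw [hR.Q_eq]
  exact tmul_mem_QR f 1 q.2

lemma Vinv_tmul_one (hR : IsDispBaseChange f D DR) (q : D.Q)
    (h : BC.tmul (WittVector.map f : WittVector p S →+* WittVector p R) 1 (q : P) ∈ DR.Q) :
    DR.Vinv ⟨_, h⟩ = BC.tmul (WittVector.map f : WittVector p S →+* WittVector p R) 1 (D.Vinv q) := by
  rw [hR.Vinv_tmul 1 q h, map_one]

lemma F_tmul_one (hR : IsDispBaseChange f D DR) (x : P) :
    DR.F (BC.tmul (WittVector.map f : WittVector p S →+* WittVector p R) 1 x) =
      BC.tmul (WittVector.map f : WittVector p S →+* WittVector p R) 1 (D.F x) := by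
  rw [hR.F_tmul 1 x, map_one]

/-- for surjective `f`, every element of `Q_R` is `1 ⊗ q` with `q ∈ Q` -/
lemma exists_tmul_one_eq_of_mem_Q (hf : Function.Surjective f) (hR : IsDispBaseChange f D DR)
    {z : BC (WittVector.map f : WittVector p S →+* WittVector p R) P} (hz : z ∈ DR.Q) :
    ∃ q : D.Q, BC.tmul (WittVector.map f : WittVector p S →+* WittVector p R) 1 (q : P) = z := by
  obtain ⟨x, rfl⟩ := exists_tmul_one_eq f hf z
  rw [hR.Q_eq] at hz
  obtain ⟨q, hq, hd⟩ := exists_sub_mem_of_tmul_mem_QR f hz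
  refine ⟨⟨q, hq⟩, ?_⟩
  have h1 := tmul_one_eq_zero_of_mem f hd
  rw [BC_tmul_sub, sub_eq_zero] at h1
  exact h1.symm

/-- a homomorphism modulo `W(ker f)` base-changes to a homomorphism of the base changes -/
theorem IsHomMod.baseChange (hf : Function.Surjective f) (hR : IsDispBaseChange f D DR)
    (hR' : IsDispBaseChange f D' DR') {ψ₀ : P →ₗ[WittVector p S] P'}
    (h : IsHomMod (RingHom.ker f) D D' ψ₀) :
    IsHom DR DR' (BC.map (WittVector.map f : WittVector p S →+* WittVector p R) ψ₀) := by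
  -- key: for q ∈ Q, q' ∈ Q' with ψ₀ q ≡ q', the image of 1 ⊗ q is 1 ⊗ q'
  have hY : ∀ (q : D.Q) (q' : D'.Q), ψ₀ q - q' ∈
      (WI (RingHom.ker f) : Ideal (WittVector p S)) • (⊤ : Submodule (WittVector p S) P') →
      BC.map (WittVector.map f : WittVector p S →+* WittVector p R) ψ₀
        (BC.tmul (WittVector.map f : WittVector p S →+* WittVector p R) 1 (q : P)) =
      BC.tmul (WittVector.map f : WittVector p S →+* WittVector p R) 1 (q' : P') := by
    intro q q' hd
    have h1 := tmul_one_eq_zero_of_mem f hd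
    rw [BC_tmul_sub, sub_eq_zero] at h1
    rw [BC.map_tmul, h1]
  have hmaps : ∀ z, z ∈ DR.Q → BC.map (WittVector.map f : WittVector p S →+* WittVector p R) ψ₀ z ∈ DR'.Q := by
    intro z hz
    obtain ⟨q, rfl⟩ := exists_tmul_one_eq_of_mem_Q f hf hR hz
    obtain ⟨q', hq', hd⟩ := h.mapsTo q q.2
    rw [hY q ⟨q', hq'⟩ hd]
    exact tmul_one_mem_Q f hR' ⟨q', hq'⟩
  refine ⟨hmaps, fun z => ?_, fun z => ?_⟩
  · obtain ⟨x, rfl⟩ := exists_tmul_one_eq f hf z
    rw [F_tmul_one f hR, BC.map_tmul, BC.map_tmul, F_tmul_one f hR']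
    have hx : verschiebung (1 : WittVector p S) • x ∈ D.Q :=
      D.IV_smul_le (Submodule.smul_mem_smul (verschiebung_mem_IV p S 1) Submodule.mem_top)
    have hx' : verschiebung (1 : WittVector p S) • ψ₀ x ∈ D'.Q :=
      D'.IV_smul_le (Submodule.smul_mem_smul (verschiebung_mem_IV p S 1) Submodule.mem_top)
    have h1 := h.comm ⟨_, hx⟩ ⟨_, hx'⟩ (by
      change ψ₀ (verschiebung (1 : WittVector p S) • x) - verschiebung (1 : WittVector p S) • ψ₀ x ∈ _
      rw [map_smul, sub_self]; exact zero_mem _)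
    rw [D.Vinv_verschiebung_smul 1 x, D'.Vinv_verschiebung_smul 1 (ψ₀ x), one_smul, one_smul] at h1
    have h2 := tmul_one_eq_zero_of_mem f h1
    rw [BC_tmul_sub, sub_eq_zero] at h2
    exact h2
  · obtain ⟨z, hz⟩ := z
    obtain ⟨q, rfl⟩ := exists_tmul_one_eq_of_mem_Q f hf hR hz
    obtain ⟨q', hq', hd⟩ := h.mapsTo q q.2
    have h1 := h.comm q ⟨q', hq'⟩ hd
    have h2 := tmul_one_eq_zero_of_mem f h1
    rw [BC_tmul_sub, sub_eq_zero] at h2
    rw [Vinv_tmul_one f hR q hz, BC.map_tmul, h2]
    have h3 : (⟨BC.map (WittVector.map f : WittVector p S →+* WittVector p R) ψ₀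
        (BC.tmul (WittVector.map f : WittVector p S →+* WittVector p R) 1 (q : P)), hmaps _ hz⟩ : DR'.Q) =
        ⟨BC.tmul (WittVector.map f : WittVector p S →+* WittVector p R) 1 ((⟨q', hq'⟩ : D'.Q) : P'),
          tmul_one_mem_Q f hR' ⟨q', hq'⟩⟩ := Subtype.ext (hY q ⟨q', hq'⟩ hd)
    rw [h3, Vinv_tmul_one f hR' ⟨q', hq'⟩]

/-- conversely, a linear map whose base change is a homomorphism is a homomorphism modulo `W(ker f)` -/
theorem isHomMod_of_baseChange (hR : IsDispBaseChange f D DR)
    (hR' : IsDispBaseChange f D' DR') {ψ₀ : P →ₗ[WittVector p S] P'}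
    (hχ : IsHom DR DR' (BC.map (WittVector.map f : WittVector p S →+* WittVector p R) ψ₀)) :
    IsHomMod (RingHom.ker f) D D' ψ₀ := by
  have := D'.finite
  have := D'.projective
  refine ⟨fun y hy => ?_, fun y q' hd => ?_⟩
  · have h1 := hχ.mapsTo _ (tmul_one_mem_Q f hR ⟨y, hy⟩)
    rw [BC.map_tmul, hR'.Q_eq] at h1
    exact exists_sub_mem_of_tmul_mem_QR f h1
  · have h0 := tmul_one_eq_zero_of_mem f hd
    rw [BC_tmul_sub, sub_eq_zero] at h0
    have h1 := hχ.comm_Vinv ⟨_, tmul_one_mem_Q f hR y⟩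
    rw [Vinv_tmul_one f hR y, BC.map_tmul] at h1
    have h3 : (⟨BC.map (WittVector.map f : WittVector p S →+* WittVector p R) ψ₀
        (BC.tmul (WittVector.map f : WittVector p S →+* WittVector p R) 1 (y : P)),
          hχ.mapsTo _ (tmul_one_mem_Q f hR y)⟩ : DR'.Q) =
        ⟨BC.tmul (WittVector.map f : WittVector p S →+* WittVector p R) 1 (q' : P'),
          tmul_one_mem_Q f hR' q'⟩ := Subtype.ext ((BC.map_tmul _ _ _ _).trans h0)
    rw [h3, Vinv_tmul_one f hR' q'] at h1
    apply mem_of_tmul_one_eq_zero f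
    rw [BC_tmul_sub, sub_eq_zero]
    exact h1

/-- linear maps between the base changes lift, when `f` is surjective and `P` is projective -/
theorem exists_BC_map_eq (hf : Function.Surjective f)
    [Module.Finite (WittVector p S) P] [Module.Projective (WittVector p S) P]
    (χ : BC (WittVector.map f : WittVector p S →+* WittVector p R) P →ₗ[WittVector p R]
      BC (WittVector.map f : WittVector p S →+* WittVector p R) P') :
    ∃ ψ₀ : P →ₗ[WittVector p S] P',
      BC.map (WittVector.map f : WittVector p S →+* WittVector p R) ψ₀ = χ := by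
  obtain ⟨n, e, lam, h⟩ := exists_dual_basis (A := WittVector p S) (P := P)
  choose y hy using fun i => exists_tmul_one_eq (P := P') f hf
    (χ (BC.tmul (WittVector.map f : WittVector p S →+* WittVector p R) 1 (e i)))
  refine ⟨∑ i, (lam i).smulRight (y i), ?_⟩
  refine BC.ext (WittVector.map f : WittVector p S →+* WittVector p R) fun x => ?_
  rw [BC.map_tmul]
  conv_rhs => rw [h x, BC_tmul_sum, map_sum]
  rw [LinearMap.sum_apply, BC_tmul_sum]
  refine Finset.sum_congr rfl fun i _ => ?_
  rw [LinearMap.smulRight_apply, BC_tmul_one_smul, BC_tmul_one_smul, map_smul, hy]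

end SurjBC

end Groth.Agent.Lib.Helper16.ZW
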