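import Mathlib
import Groth.Agent.Lib.Helper16.ZW23

/-!
# Rigidity of homomorphisms of displays under nilpotent thickenings (helper16)
-/

set_option autoImplicit false
universe u v

noncomputable section

namespace Groth.Agent.Lib.Helper16.ZW
open WittVector Function Dieu W4c1extbt610

section Filt

variable {S : Type u} [CommRing S]

/-- the filtration `𝔞 (𝔞 + c)^n` has square-zero, `c`-torsion graded pieces -/
lemma filt_props (𝔞 : Ideal S) (c : S) (n : ℕ) :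
    (∀ x ∈ 𝔞 * (𝔞 ⊔ Ideal.span {c}) ^ n, ∀ y ∈ 𝔞 * (𝔞 ⊔ Ideal.span {c}) ^ n,
        x * y ∈ 𝔞 * (𝔞 ⊔ Ideal.span {c}) ^ (n + 1)) ∧
    (∀ x ∈ 𝔞 * (𝔞 ⊔ Ideal.span {c}) ^ n, c * x ∈ 𝔞 * (𝔞 ⊔ Ideal.span {c}) ^ (n + 1)) := by
  have hle : 𝔞 * (𝔞 ⊔ Ideal.span {c}) ^ n ≤ 𝔞 ⊔ Ideal.span {c} :=
    Ideal.mul_le_left.trans le_sup_left
  have heq : 𝔞 * (𝔞 ⊔ Ideal.span {c}) ^ (n + 1) =
      (𝔞 * (𝔞 ⊔ Ideal.span {c}) ^ n) * (𝔞 ⊔ Ideal.span {c}) := by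
    rw [pow_succ, mul_assoc]
  rw [heq]
  refine ⟨fun x hx y hy => Ideal.mul_mem_mul hx (hle hy), fun x hx => ?_⟩
  rw [mul_comm c x]
  exact Ideal.mul_mem_mul hx (le_sup_right (a := 𝔞) (Ideal.mem_span_singleton_self c))

lemma exists_filt_eq_bot (𝔞 : Ideal S) (c : S) (h𝔞 : IsNilpotent 𝔞) (hc : IsNilpotent c) :
    ∃ N : ℕ, 𝔞 * (𝔞 ⊔ Ideal.span {c}) ^ N = ⊥ := by
  obtain ⟨n₁, h₁⟩ := h𝔞
  obtain ⟨n₂, h₂⟩ := hc
  refine ⟨n₁ + n₂, ?_⟩
  have h3 : (𝔞 ⊔ Ideal.span {c}) ^ (n₁ + n₂) ≤ ⊥ := by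
    refine Ideal.sup_pow_add_le_pow_sup_pow.trans ?_
    rw [h₁, Ideal.span_singleton_pow, h₂, Ideal.zero_eq_bot, sup_le_iff]
    refine ⟨le_rfl, ?_⟩
    rw [Ideal.span_singleton_le_iff_mem]
    exact zero_mem _
  rw [le_bot_iff] at h3
  rw [h3, Ideal.mul_bot]

end Filt

section Rigid

variable {p : ℕ} [hp : Fact p.Prime] {S : Type u} [CommRing S]
variable {P : Type v} [AddCommGroup P] [Module (WittVector p S) P]
variable {P' : Type v} [AddCommGroup P'] [Module (WittVector p S) P']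

/-- `p · W(𝔟) ⊆ W(𝔠)` when `𝔟² + p𝔟 ⊆ 𝔠` -/
lemma natCast_mul_mem_WI (𝔟 𝔠 : Ideal S) (h2 : ∀ x ∈ 𝔟, ∀ y ∈ 𝔟, x * y ∈ 𝔠)
    (h3 : ∀ x ∈ 𝔟, (p : S) * x ∈ 𝔠) {a : WittVector p S} (ha : a ∈ WI 𝔟) :
    (p : WittVector p S) * a ∈ WI 𝔠 := by
  have hf : Function.Surjective (Ideal.Quotient.mk 𝔠) := Ideal.Quotient.mk_surjective
  have hsq : ∀ x ∈ 𝔟.map (Ideal.Quotient.mk 𝔠), ∀ y ∈ 𝔟.map (Ideal.Quotient.mk 𝔠), x * y = 0 := by
    intro x hx y hy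
    obtain ⟨x', hx', rfl⟩ := (Ideal.mem_map_iff_of_surjective _ hf).1 hx
    obtain ⟨y', hy', rfl⟩ := (Ideal.mem_map_iff_of_surjective _ hf).1 hy
    rw [← map_mul, Ideal.Quotient.eq_zero_iff_mem]
    exact h2 x' hx' y' hy'
  have hpa : ∀ x ∈ 𝔟.map (Ideal.Quotient.mk 𝔠), (p : S ⧸ 𝔠) * x = 0 := by
    intro x hx
    obtain ⟨x', hx', rfl⟩ := (Ideal.mem_map_iff_of_surjective _ hf).1 hx
    rw [← map_natCast (Ideal.Quotient.mk 𝔠) p, ← map_mul, Ideal.Quotient.eq_zero_iff_mem]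
    exact h3 x' hx'
  have h1 : (WittVector.map (Ideal.Quotient.mk 𝔠) : WittVector p S →+* WittVector p (S ⧸ 𝔠)) a ∈
      WI (𝔟.map (Ideal.Quotient.mk 𝔠)) :=
    map_mem_WI _ (fun x hx => Ideal.mem_map_of_mem _ hx) ha
  have h4 := natCast_mul_of_mem_WI _ hsq hpa h1
  rw [WI, RingHom.mem_ker, map_mul, map_natCast_W]
  exact h4

lemma natCast_smul_mem (𝔟 𝔠 : Ideal S) (h2 : ∀ x ∈ 𝔟, ∀ y ∈ 𝔟, x * y ∈ 𝔠)
    (h3 : ∀ x ∈ 𝔟, (p : S) * x ∈ 𝔠) {k : P'}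
    (hk : k ∈ (WI 𝔟 : Ideal (WittVector p S)) • (⊤ : Submodule (WittVector p S) P')) :
    (p : WittVector p S) • k ∈
      (WI 𝔠 : Ideal (WittVector p S)) • (⊤ : Submodule (WittVector p S) P') := by
  refine Submodule.smul_induction_on hk (fun a ha m _ => ?_) (fun x y hx hy => ?_)
  · rw [← mul_smul]
    exact Submodule.smul_mem_smul (natCast_mul_mem_WI 𝔟 𝔠 h2 h3 ha) Submodule.mem_top
  · rw [smul_add]
    exact add_mem hx hy

/-- one step of rigidity -/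
theorem rigid_step (hp0 : IsNilpotent (p : S)) (𝔟 𝔠 : Ideal S)
    (h2 : ∀ x ∈ 𝔟, ∀ y ∈ 𝔟, x * y ∈ 𝔠) (h3 : ∀ x ∈ 𝔟, (p : S) * x ∈ 𝔠)
    (D : Display3n p S P) (D' : Display3n p S P') (hD : IsDisplay D)
    (ψ : P →ₗ[WittVector p S] P') (hψ : IsHom D D' ψ)
    (hK : ∀ x, ψ x ∈ (WI 𝔟 : Ideal (WittVector p S)) • (⊤ : Submodule (WittVector p S) P')) :
    ∀ x, ψ x ∈ (WI 𝔠 : Ideal (WittVector p S)) • (⊤ : Submodule (WittVector p S) P') := by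
  have hf : Function.Surjective (Ideal.Quotient.mk 𝔠) := Ideal.Quotient.mk_surjective
  have hker : RingHom.ker (Ideal.Quotient.mk 𝔠) = 𝔠 := Ideal.mk_ker
  obtain ⟨DR, hR, -⟩ := existsUnique_baseChange (Ideal.Quotient.mk 𝔠) D
  obtain ⟨DR', hR', -⟩ := existsUnique_baseChange (Ideal.Quotient.mk 𝔠) D'
  have hDR : IsDisplay DR := isDisplay_baseChange D DR hR hp0 hD
  have hχ := (IsHom.isHomMod hψ (RingHom.ker (Ideal.Quotient.mk 𝔠))).baseChange (Ideal.Quotient.mk 𝔠) hf hR hR'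
  have hsq : ∀ x ∈ 𝔟.map (Ideal.Quotient.mk 𝔠), ∀ y ∈ 𝔟.map (Ideal.Quotient.mk 𝔠), x * y = 0 := by
    intro x hx y hy
    obtain ⟨x', hx', rfl⟩ := (Ideal.mem_map_iff_of_surjective _ hf).1 hx
    obtain ⟨y', hy', rfl⟩ := (Ideal.mem_map_iff_of_surjective _ hf).1 hy
    rw [← map_mul, Ideal.Quotient.eq_zero_iff_mem]
    exact h2 x' hx' y' hy'
  have hpa : ∀ x ∈ 𝔟.map (Ideal.Quotient.mk 𝔠), (p : S ⧸ 𝔠) * x = 0 := by
    intro x hx
    obtain ⟨x', hx', rfl⟩ := (Ideal.mem_map_iff_of_surjective _ hf).1 hx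
    rw [← map_natCast (Ideal.Quotient.mk 𝔠) p, ← map_mul, Ideal.Quotient.eq_zero_iff_mem]
    exact h3 x' hx'
  have hKR : ∀ z, BC.map (WittVector.map (Ideal.Quotient.mk 𝔠) : WittVector p S →+* WittVector p (S ⧸ 𝔠)) ψ z ∈
      (WI (𝔟.map (Ideal.Quotient.mk 𝔠)) : Ideal (WittVector p (S ⧸ 𝔠))) • (⊤ : Submodule (WittVector p (S ⧸ 𝔠)) (BC (WittVector.map (Ideal.Quotient.mk 𝔠) : WittVector p S →+* WittVector p (S ⧸ 𝔠)) P')) := by
    intro z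
    obtain ⟨x, rfl⟩ := exists_tmul_one_eq (Ideal.Quotient.mk 𝔠) hf z
    rw [BC.map_tmul]
    refine Submodule.smul_induction_on (hK x) (fun a ha m _ => ?_) (fun x y hx hy => ?_)
    · rw [BC_tmul_one_smul]
      exact Submodule.smul_mem_smul
        (map_mem_WI _ (fun x hx => Ideal.mem_map_of_mem _ hx) ha) Submodule.mem_top
    · rw [BC.tmul_add]
      exact add_mem hx hy
  have hzero := core_lemma (𝔟.map (Ideal.Quotient.mk 𝔠)) hsq hpa DR DR' hDR _ hχ hKR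
  intro x
  have h1 := LinearMap.congr_fun hzero
    (BC.tmul (WittVector.map (Ideal.Quotient.mk 𝔠) : WittVector p S →+* WittVector p (S ⧸ 𝔠)) 1 x)
  rw [BC.map_tmul, LinearMap.zero_apply] at h1
  have := D'.finite
  have := D'.projective
  have h4 := mem_of_tmul_one_eq_zero (Ideal.Quotient.mk 𝔠) h1
  rwa [hker] at h4

/-- **Rigidity**: a homomorphism of displays with values in `W(𝔞)P'`, `𝔞` nilpotent, vanishes. -/
theorem rigidity (hp0 : IsNilpotent (p : S)) (𝔞 : Ideal S) (h𝔞 : IsNilpotent 𝔞)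
    (D : Display3n p S P) (D' : Display3n p S P') (hD : IsDisplay D)
    (ψ : P →ₗ[WittVector p S] P') (hψ : IsHom D D' ψ)
    (hK : ∀ x, ψ x ∈ (WI 𝔞 : Ideal (WittVector p S)) • (⊤ : Submodule (WittVector p S) P')) :
    ψ = 0 := by
  have key : ∀ n : ℕ, ∀ x, ψ x ∈ (WI (𝔞 * (𝔞 ⊔ Ideal.span {(p : S)}) ^ n) :
      Ideal (WittVector p S)) • (⊤ : Submodule (WittVector p S) P') := by
    intro n
    induction n with
    | zero =>
      rw [pow_zero, Ideal.one_eq_top, Ideal.mul_top]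
      exact hK
    | succ n ih =>
      exact rigid_step hp0 _ _ (filt_props 𝔞 (p : S) n).1 (filt_props 𝔞 (p : S) n).2 D D' hD ψ hψ ih
  obtain ⟨N, hN⟩ := exists_filt_eq_bot 𝔞 (p : S) h𝔞 hp0
  ext x
  have h1 := key N x
  rw [hN, WI_bot, Submodule.bot_smul] at h1
  exact h1

/-- multiplying by `p` improves a homomorphism modulo `W(𝔟)` to one modulo `W(𝔠)` -/
theorem IsHomMod.natCast_smul (𝔟 𝔠 : Ideal S) (h2 : ∀ x ∈ 𝔟, ∀ y ∈ 𝔟, x * y ∈ 𝔠)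
    (h3 : ∀ x ∈ 𝔟, (p : S) * x ∈ 𝔠) {D : Display3n p S P} {D' : Display3n p S P'}
    {ψ₀ : P →ₗ[WittVector p S] P'} (h : IsHomMod 𝔟 D D' ψ₀) :
    IsHomMod 𝔠 D D' ((p : WittVector p S) • ψ₀) := by
  have hF : frobenius (p : WittVector p S) = (p : WittVector p S) :=
    map_natCast (frobenius : WittVector p S →+* WittVector p S) p
  refine ⟨fun y hy => ?_, fun y q'' hd => ?_⟩
  · obtain ⟨q', hq', hk⟩ := h.mapsTo y hy
    refine ⟨(p : WittVector p S) • q', D'.Q.smul_mem _ hq', ?_⟩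
    rw [LinearMap.smul_apply, ← smul_sub]
    exact natCast_smul_mem 𝔟 𝔠 h2 h3 hk
  · obtain ⟨q', hq', hk⟩ := h.mapsTo y y.2
    have hc := h.comm y ⟨q', hq'⟩ hk
    have he : (q'' : P') - (p : WittVector p S) • q' ∈
        (WI 𝔠 : Ideal (WittVector p S)) • (⊤ : Submodule (WittVector p S) P') := by
      have e1 : (q'' : P') - (p : WittVector p S) • q' =
          (p : WittVector p S) • (ψ₀ y - q') - (((p : WittVector p S) • ψ₀) y - q'') := by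
        rw [LinearMap.smul_apply, smul_sub]
        abel
      rw [e1]
      exact sub_mem (natCast_smul_mem 𝔟 𝔠 h2 h3 hk) hd
    have heQ : (q'' : P') - (p : WittVector p S) • q' ∈ D'.Q :=
      sub_mem q''.2 (D'.Q.smul_mem _ hq')
    have hV := Vinv_mem_of_mem 𝔠 he heQ
    have e2 : D'.Vinv ⟨(q'' : P') - (p : WittVector p S) • q', heQ⟩ =
        D'.Vinv q'' - (p : WittVector p S) • D'.Vinv ⟨q', hq'⟩ := by
      have e3 : (⟨(q'' : P') - (p : WittVector p S) • q', heQ⟩ : D'.Q) =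
          q'' - (p : WittVector p S) • ⟨q', hq'⟩ := Subtype.ext rfl
      rw [e3, map_sub, D'.Vinv.map_smulₛₗ, hF]
    rw [e2] at hV
    have e4 : ((p : WittVector p S) • ψ₀) (D.Vinv y) - D'.Vinv q'' =
        (p : WittVector p S) • (ψ₀ (D.Vinv y) - D'.Vinv ⟨q', hq'⟩) -
          (D'.Vinv q'' - (p : WittVector p S) • D'.Vinv ⟨q', hq'⟩) := by
      rw [LinearMap.smul_apply, smul_sub]
      abel
    rw [e4]
    exact sub_mem (natCast_smul_mem 𝔟 𝔠 h2 h3 hc) hV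

end Rigid

end Groth.Agent.Lib.Helper16.ZW
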