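import Mathlib
import Groth.Agent.Lib.Helper16.ZW24

/-!
# Homomorphisms of displays and nilpotent thickenings: injectivity and p-power torsion cokernel (helper16)
-/

set_option autoImplicit false
universe u v

noncomputable section

namespace Groth.Agent.Lib.Helper16.ZW
open WittVector Function Dieu W4c1extbt610

section Main

variable {p : ℕ} [hp : Fact p.Prime] {S R : Type u} [CommRing S] [CommRing R]
variable {P : Type v} [AddCommGroup P] [Module (WittVector p S) P]
variable {P' : Type v} [AddCommGroup P'] [Module (WittVector p S) P']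

lemma IsHom.sub' {D : Display3n p S P} {D' : Display3n p S P'} {ψ χ : P →ₗ[WittVector p S] P'}
    (hψ : IsHom D D' ψ) (hχ : IsHom D D' χ) : IsHom D D' (ψ - χ) := by
  have hmaps : ∀ q : P, q ∈ D.Q → (ψ - χ) q ∈ D'.Q := fun q hq => by
    rw [LinearMap.sub_apply]
    exact sub_mem (hψ.mapsTo q hq) (hχ.mapsTo q hq)
  refine ⟨hmaps, fun x => ?_, fun q => ?_⟩
  · rw [LinearMap.sub_apply, LinearMap.sub_apply, hψ.comm_F, hχ.comm_F, map_sub]
  · rw [LinearMap.sub_apply, hψ.comm_Vinv, hχ.comm_Vinv, ← map_sub]
    congr 1

/-- injectivity of base change of homomorphisms along a nilpotent thickening -/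
theorem hom_baseChange_injective (hp0 : IsNilpotent (p : S)) (f : S →+* R)
    (hker : IsNilpotent (RingHom.ker f))
    (D : Display3n p S P) (D' : Display3n p S P') (hD : IsDisplay D)
    (ψ χ : P →ₗ[WittVector p S] P') (hψ : IsHom D D' ψ) (hχ : IsHom D D' χ)
    (h : BC.map (WittVector.map f : WittVector p S →+* WittVector p R) ψ =
      BC.map (WittVector.map f : WittVector p S →+* WittVector p R) χ) : ψ = χ := by
  have := D'.finite
  have := D'.projective
  rw [← sub_eq_zero]
  refine rigidity hp0 (RingHom.ker f) hker D D' hD (ψ - χ) (IsHom.sub' hψ hχ) fun x => ?_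
  apply mem_of_tmul_one_eq_zero f
  rw [LinearMap.sub_apply, BC_tmul_sub, sub_eq_zero, ← BC.map_tmul, ← BC.map_tmul, h]

lemma BC_map_smul (f : S →+* R) (c : WittVector p S) (ψ : P →ₗ[WittVector p S] P') :
    BC.map (WittVector.map f : WittVector p S →+* WittVector p R) (c • ψ) =
      (WittVector.map f : WittVector p S →+* WittVector p R) c •
        BC.map (WittVector.map f : WittVector p S →+* WittVector p R) ψ := by
  refine BC.ext (WittVector.map f : WittVector p S →+* WittVector p R) fun x => ?_
  rw [BC.map_tmul, LinearMap.smul_apply, LinearMap.smul_apply, BC.map_tmul, BC_tmul_one_smul]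

/-- `p^N χ` lifts to a homomorphism of displays, along a nilpotent thickening -/
theorem exists_hom_lift_pow (hp0 : IsNilpotent (p : S)) (f : S →+* R)
    (hf : Function.Surjective f) (hker : IsNilpotent (RingHom.ker f))
    (D : Display3n p S P) (D' : Display3n p S P')
    (DR : Display3n p R (BC (WittVector.map f : WittVector p S →+* WittVector p R) P))
    (hR : IsDispBaseChange f D DR)
    (DR' : Display3n p R (BC (WittVector.map f : WittVector p S →+* WittVector p R) P'))
    (hR' : IsDispBaseChange f D' DR')
    (χ : BC (WittVector.map f : WittVector p S →+* WittVector p R) P →ₗ[WittVector p R]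
      BC (WittVector.map f : WittVector p S →+* WittVector p R) P')
    (hχ : IsHom DR DR' χ) :
    ∃ (n : ℕ) (ψ : P →ₗ[WittVector p S] P'), IsHom D D' ψ ∧
      BC.map (WittVector.map f : WittVector p S →+* WittVector p R) ψ =
        ((p : WittVector p R) ^ n) • χ := by
  have := D.finite
  have := D.projective
  obtain ⟨ψ₀, rfl⟩ := exists_BC_map_eq f hf χ
  have h0 := isHomMod_of_baseChange f hR hR' hχ
  have key : ∀ n : ℕ, IsHomMod (RingHom.ker f * (RingHom.ker f ⊔ Ideal.span {(p : S)}) ^ n) D D'
      (((p : WittVector p S) ^ n) • ψ₀) := by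
    intro n
    induction n with
    | zero =>
      rw [pow_zero, Ideal.one_eq_top, Ideal.mul_top, pow_zero, one_smul]
      exact h0
    | succ n ih =>
      have := IsHomMod.natCast_smul _ _ (filt_props (RingHom.ker f) (p : S) n).1
        (filt_props (RingHom.ker f) (p : S) n).2 ih
      rw [← mul_smul, ← pow_succ'] at this
      exact this
  obtain ⟨N, hN⟩ := exists_filt_eq_bot (RingHom.ker f) (p : S) hker hp0
  refine ⟨N, ((p : WittVector p S) ^ N) • ψ₀, ?_, ?_⟩
  · have := key N
    rw [hN] at this
    exact this.isHom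
  · rw [BC_map_smul, map_pow, map_natCast_W]

end Main

end Groth.Agent.Lib.Helper16.ZW
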