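import Mathlib
import Groth.Agent.Lib.Helper16.ZW25

/-!
# Hom of displays has no p-torsion when the nilradical is nilpotent (helper16)
-/

set_option autoImplicit false
universe u v

noncomputable section

namespace Groth.Agent.Lib.Helper16.ZW
open WittVector Function Dieu W4c1extbt610

section TorsionFree

variable {p : ℕ} [hp : Fact p.Prime] {S : Type u} [CommRing S]

/-- over a ring in which `p` is nilpotent, `p`-torsion Witt vectors have nilpotent coefficients -/
lemma mem_WI_nilradical_of_natCast_mul_eq_zero (hp0 : IsNilpotent (p : S)) {a : WittVector p S}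
    (ha : (p : WittVector p S) * a = 0) : a ∈ WI (nilradical S) := by
  by_cases hN : nilradical S = ⊤
  · rw [hN, mem_WI_iff]
    exact fun _ => Submodule.mem_top
  have : Nontrivial (S ⧸ nilradical S) := Ideal.Quotient.nontrivial_iff.2 hN
  have hp1 : ((p : ℕ) : S ⧸ nilradical S) = 0 := by
    rw [← map_natCast (Ideal.Quotient.mk (nilradical S)) p, Ideal.Quotient.eq_zero_iff_mem,
      mem_nilradical]
    exact hp0
  have : CharP (S ⧸ nilradical S) p := (CharP.charP_iff_prime_eq_zero hp.out).2 hp1
  have : IsReduced (S ⧸ nilradical S) :=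
    (Ideal.isRadical_iff_quotient_reduced _).1 (Ideal.radical_isRadical _)
  rw [WI, RingHom.mem_ker]
  have h1 : (p : WittVector p (S ⧸ nilradical S)) *
      (WittVector.map (Ideal.Quotient.mk (nilradical S)) : WittVector p S →+* _) a = 0 := by
    rw [← map_natCast_W (Ideal.Quotient.mk (nilradical S)), ← map_mul, ha, map_zero]
  rw [mul_comm, ← WittVector.verschiebung_frobenius] at h1
  have h2 : frobenius ((WittVector.map (Ideal.Quotient.mk (nilradical S)) :
      WittVector p S →+* _) a) = 0 := by
    apply WittVector.verschiebung_injective p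
    rw [h1, map_zero]
  ext n
  have h3 := congrArg (fun w => WittVector.coeff w n) h2
  simp only [WittVector.coeff_frobenius_charP, WittVector.zero_coeff] at h3
  rw [WittVector.zero_coeff]
  exact IsReduced.eq_zero _ ⟨p, h3⟩

variable {P : Type v} [AddCommGroup P] [Module (WittVector p S) P]
variable {P' : Type v} [AddCommGroup P'] [Module (WittVector p S) P']

/-- `Hom(P, P')` has no `p`-torsion when the nilradical is nilpotent -/
theorem hom_torsion_free (hp0 : IsNilpotent (p : S)) (hn : IsNilpotent (nilradical S))
    (D : Display3n p S P) (D' : Display3n p S P') (hD : IsDisplay D)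
    (ψ : P →ₗ[WittVector p S] P') (hψ : IsHom D D' ψ)
    (h : (p : WittVector p S) • ψ = 0) : ψ = 0 := by
  have := D'.finite
  have := D'.projective
  refine rigidity hp0 (nilradical S) hn D D' hD ψ hψ fun x => ?_
  obtain ⟨n, e, lam, hdual⟩ := exists_dual_basis (A := WittVector p S) (P := P')
  rw [hdual (ψ x)]
  refine Submodule.sum_mem _ fun i _ => Submodule.smul_mem_smul ?_ Submodule.mem_top
  apply mem_WI_nilradical_of_natCast_mul_eq_zero hp0
  have h1 := LinearMap.congr_fun h x
  rw [LinearMap.smul_apply, LinearMap.zero_apply] at h1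
  rw [← smul_eq_mul, ← map_smul, h1, map_zero]

end TorsionFree

end Groth.Agent.Lib.Helper16.ZW
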