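import Mathlib
import Groth.Agent.Lib.Helper16.ZW8

/-!
# Exterior powers of 3n-displays: the universal property (helper16)
-/

set_option autoImplicit false
universe u v w

noncomputable section

namespace Groth.Agent.Lib.Helper16.ZW
open WittVector Function Dieu W4c1extbt610

section HomSpan

variable {p : ℕ} [hp : Fact p.Prime] {R : Type u} [CommRing R]
variable {M : Type v} [AddCommGroup M] [Module (WittVector p R) M]
variable {P' : Type w} [AddCommGroup P'] [Module (WittVector p R) P']

/-- a linear map commuting with `V⁻¹` (and mapping `Q` to `Q'`) is a homomorphism -/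
lemma isHom_of_comm_Vinv (E : Display3n p R M) (D' : Display3n p R P')
    (ψ : M →ₗ[WittVector p R] P') (hmaps : ∀ q : M, q ∈ E.Q → ψ q ∈ D'.Q)
    (hV : ∀ q : E.Q, ψ (E.Vinv q) = D'.Vinv ⟨ψ q, hmaps q q.2⟩) : IsHom E D' ψ := by
  refine ⟨hmaps, fun x => ?_, hV⟩
  have hx : verschiebung (1 : WittVector p R) • x ∈ E.Q :=
    E.IV_smul_le (Submodule.smul_mem_smul (verschiebung_mem_IV p R 1) Submodule.mem_top)
  have h1 := hV ⟨_, hx⟩
  rw [E.Vinv_verschiebung_smul 1 x, one_smul] at h1
  rw [h1]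
  have h2 : (⟨ψ (verschiebung (1 : WittVector p R) • x), hmaps _ hx⟩ : D'.Q) =
      ⟨verschiebung (1 : WittVector p R) • ψ x,
        D'.IV_smul_le (Submodule.smul_mem_smul (verschiebung_mem_IV p R 1) Submodule.mem_top)⟩ :=
    Subtype.ext (map_smul ψ _ x)
  rw [h2, D'.Vinv_verschiebung_smul 1 (ψ x), one_smul]

/-- it suffices to check the homomorphism conditions on a spanning set of `Q` -/
theorem isHom_of_span (E : Display3n p R M) (D' : Display3n p R P')
    (ψ : M →ₗ[WittVector p R] P') (S : Set M) (hS : E.Q = Submodule.span (WittVector p R) S)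
    (h1 : ∀ s ∈ S, ψ s ∈ D'.Q)
    (h2 : ∀ s ∈ S, ∀ (hs : s ∈ E.Q) (hs' : ψ s ∈ D'.Q), ψ (E.Vinv ⟨s, hs⟩) = D'.Vinv ⟨ψ s, hs'⟩) :
    IsHom E D' ψ := by
  have hmaps : ∀ q : M, q ∈ E.Q → ψ q ∈ D'.Q := by
    intro q hq
    rw [hS] at hq
    refine Submodule.span_induction (fun s hs => h1 s hs) ?_ (fun x y _ _ hx hy => ?_)
      (fun a x _ hx => ?_) hq
    · rw [map_zero]; exact zero_mem _
    · rw [map_add]; exact add_mem hx hy
    · rw [map_smul]; exact D'.Q.smul_mem _ hx
  refine isHom_of_comm_Vinv E D' ψ hmaps ?_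
  have key : ∀ z : M, z ∈ Submodule.span (WittVector p R) S →
      ∀ hz : z ∈ E.Q, ψ (E.Vinv ⟨z, hz⟩) = D'.Vinv ⟨ψ z, hmaps z hz⟩ := by
    intro z hz
    refine Submodule.span_induction (fun s hs hz => h2 s hs hz _) ?_ (fun x y hx hy ihx ihy => ?_)
      (fun a x hx ihx => ?_) hz
    · intro hz
      have e1 : (⟨0, hz⟩ : E.Q) = 0 := rfl
      have e2 : (⟨ψ 0, hmaps 0 hz⟩ : D'.Q) = 0 := Subtype.ext (map_zero ψ)
      rw [e1, e2, map_zero, map_zero, map_zero]
    · intro hz
      have hx' : x ∈ E.Q := hS ▸ hx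
      have hy' : y ∈ E.Q := hS ▸ hy
      have e1 : (⟨x + y, hz⟩ : E.Q) = ⟨x, hx'⟩ + ⟨y, hy'⟩ := rfl
      have e2 : (⟨ψ (x + y), hmaps _ hz⟩ : D'.Q) =
          ⟨ψ x, hmaps x hx'⟩ + ⟨ψ y, hmaps y hy'⟩ := Subtype.ext (map_add ψ x y)
      rw [e1, e2, map_add, map_add, map_add, ihx hx', ihy hy']
    · intro hz
      have hx' : x ∈ E.Q := hS ▸ hx
      have e1 : (⟨a • x, hz⟩ : E.Q) = a • ⟨x, hx'⟩ := rfl
      have e2 : (⟨ψ (a • x), hmaps _ hz⟩ : D'.Q) = a • ⟨ψ x, hmaps x hx'⟩ :=
        Subtype.ext (map_smul ψ a x)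
      rw [e1, e2, E.Vinv.map_smulₛₗ, D'.Vinv.map_smulₛₗ, map_smul, ihx hx']
  intro q
  exact key q.1 (hS ▸ q.2) q.2

end HomSpan

section ExtUniv

variable {p : ℕ} [hp : Fact p.Prime] {R : Type u} [CommRing R]
variable {P : Type v} [AddCommGroup P] [Module (WittVector p R) P]

lemma wedge_mem_Q {D : Display3n p R P} {r : ℕ} {E : Display3n p R (⋀[WittVector p R]^r P)}
    (hE : IsExtPow D r E) (q : Fin r → D.Q) :
    exteriorPower.ιMulti (WittVector p R) r (fun i => (q i : P)) ∈ E.Q := by
  rw [hE.1]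
  exact Submodule.subset_span ⟨q, rfl⟩

/-- the wedge map is an alternating multilinear morphism of 3n-displays -/
theorem isAltMult_ιMulti {D : Display3n p R P} {r : ℕ} {E : Display3n p R (⋀[WittVector p R]^r P)}
    (hE : IsExtPow D r E) : IsAltMult D E (exteriorPower.ιMulti (WittVector p R) r) where
  mapsTo q := wedge_mem_Q hE q
  vCond q := hE.2 q _
  fCond i x q := by
    have hx : verschiebung (1 : WittVector p R) • x ∈ D.Q :=
      D.IV_smul_le (Submodule.smul_mem_smul (verschiebung_mem_IV p R 1) Submodule.mem_top)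
    let q' : Fin r → D.Q := Function.update q i ⟨_, hx⟩
    have hq' : (fun j => ((q' j : D.Q) : P)) =
        Function.update (fun j => (q j : P)) i (verschiebung (1 : WittVector p R) • x) := by
      ext j
      by_cases hj : j = i
      · subst hj; simp [q']
      · simp [q', hj]
    have hVq' : (fun j => D.Vinv (q' j)) = Function.update (fun j => D.Vinv (q j)) i (D.F x) := by
      ext j
      by_cases hj : j = i
      · subst hj
        simp only [q', Function.update_self]
        rw [D.Vinv_verschiebung_smul 1 x, one_smul]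
      · simp [q', hj]
    have h1 := hE.2 q' (wedge_mem_Q hE q')
    rw [hVq'] at h1
    rw [← h1]
    have h2 : exteriorPower.ιMulti (WittVector p R) r (fun j => ((q' j : D.Q) : P)) =
        verschiebung (1 : WittVector p R) •
          exteriorPower.ιMulti (WittVector p R) r (Function.update (fun j => (q j : P)) i x) := by
      rw [hq', ← AlternatingMap.map_update_smul]
    have h3 : (⟨exteriorPower.ιMulti (WittVector p R) r (fun j => ((q' j : D.Q) : P)),
        wedge_mem_Q hE q'⟩ : E.Q) = ⟨verschiebung (1 : WittVector p R) •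
          exteriorPower.ιMulti (WittVector p R) r (Function.update (fun j => (q j : P)) i x),
          E.IV_smul_le (Submodule.smul_mem_smul (verschiebung_mem_IV p R 1) Submodule.mem_top)⟩ :=
      Subtype.ext h2
    rw [h3, E.Vinv_verschiebung_smul 1, one_smul]

variable {P' : Type w} [AddCommGroup P'] [Module (WittVector p R) P']

/-- the universal property of the exterior power 3n-display -/
theorem extPow_universal {D : Display3n p R P} {r : ℕ} {E : Display3n p R (⋀[WittVector p R]^r P)}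
    (hE : IsExtPow D r E) (D' : Display3n p R P') (φ : P [⋀^Fin r]→ₗ[WittVector p R] P')
    (hφ : IsAltMult D D' φ) :
    ∃! ψ : ⋀[WittVector p R]^r P →ₗ[WittVector p R] P',
      IsHom E D' ψ ∧ ψ.compAlternatingMap (exteriorPower.ιMulti (WittVector p R) r) = φ := by
  refine ⟨exteriorPower.alternatingMapLinearEquiv φ, ⟨?_, exteriorPower.alternatingMapLinearEquiv_comp_ιMulti φ⟩,
    fun ψ' h' => ?_⟩
  · refine isHom_of_span E D' _ _ hE.1 ?_ ?_
    · rintro _ ⟨q, rfl⟩
      rw [exteriorPower.alternatingMapLinearEquiv_apply_ιMulti]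
      exact hφ.mapsTo q
    · rintro _ ⟨q, rfl⟩ hs hs'
      rw [hE.2 q hs, exteriorPower.alternatingMapLinearEquiv_apply_ιMulti, ← hφ.vCond q]
      congr 1
      exact Subtype.ext (exteriorPower.alternatingMapLinearEquiv_apply_ιMulti φ _).symm
  · apply exteriorPower.linearMap_ext
    rw [h'.2, exteriorPower.alternatingMapLinearEquiv_comp_ιMulti]

end ExtUniv

end Groth.Agent.Lib.Helper16.ZW
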