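import Mathlib

/-!
# Alternating maps: expansion on yᵢ + aᵢu; semilinear exterior powers; projectivity of exterior powers (helper16)
-/

set_option autoImplicit false
universe u v w

noncomputable section

namespace Groth.Agent.Lib.Helper16.ZW
open Function

section Expand

variable {A : Type*} [CommRing A] {M N : Type*} [AddCommGroup M] [Module A M]
  [AddCommGroup N] [Module A N] {ι : Type*} [Fintype ι] [DecidableEq ι]

lemma alt_expand_aux (g : M [⋀^ι]→ₗ[A] N) (y : ι → M) (a : ι → A) (u : M) (k : ι)
    (s : Finset ι) (hk : k ∉ s) :
    g (Function.update (fun i => y i + (if i ∈ s then a i • u else 0)) k u) =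
      g (Function.update y k u) := by
  induction s using Finset.induction_on with
  | empty => simp
  | insert j s hj ih =>
    have hkj : k ≠ j := fun h => hk (h ▸ Finset.mem_insert_self _ _)
    have hks : k ∉ s := fun h => hk (Finset.mem_insert_of_mem h)
    have e1 : (fun i => y i + (if i ∈ insert j s then a i • u else 0)) =
        Function.update (fun i => y i + (if i ∈ s then a i • u else 0)) j
          ((y j + (if j ∈ s then a j • u else 0)) + a j • u) := by
      ext i
      by_cases hij : i = j
      · subst hij
        simp [hj]
      · simp [hij]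
    rw [e1, Function.update_comm hkj.symm, AlternatingMap.map_update_add,
      AlternatingMap.map_update_smul, AlternatingMap.map_update_update g _ hkj, smul_zero, add_zero]
    have e2 : Function.update (Function.update (fun i => y i + (if i ∈ s then a i • u else 0)) k u) j
        (y j + (if j ∈ s then a j • u else 0)) =
        Function.update (fun i => y i + (if i ∈ s then a i • u else 0)) k u := by
      rw [Function.update_eq_self_iff, Function.update_of_ne hkj.symm]
    rw [e2, ih hks]

lemma alt_expand_finset (g : M [⋀^ι]→ₗ[A] N) (y : ι → M) (a : ι → A) (u : M) (s : Finset ι) :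
    g (fun i => y i + (if i ∈ s then a i • u else 0)) =
      g y + ∑ j ∈ s, a j • g (Function.update y j u) := by
  induction s using Finset.induction_on with
  | empty => simp
  | insert k s hk ih =>
    have e1 : (fun i => y i + (if i ∈ insert k s then a i • u else 0)) =
        Function.update (fun i => y i + (if i ∈ s then a i • u else 0)) k
          ((y k + (if k ∈ s then a k • u else 0)) + a k • u) := by
      ext i
      by_cases hik : i = k
      · subst hik
        simp [hk]
      · simp [hik]
    rw [e1, AlternatingMap.map_update_add, AlternatingMap.map_update_smul,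
      alt_expand_aux g y a u k s hk, Function.update_eq_self, ih, Finset.sum_insert hk]
    abel

/-- expansion of an alternating map on `yᵢ + aᵢ u`: terms with two `u`'s vanish -/
theorem alt_expand (g : M [⋀^ι]→ₗ[A] N) (y : ι → M) (a : ι → A) (u : M) :
    g (fun i => y i + a i • u) = g y + ∑ j, a j • g (Function.update y j u) := by
  have := alt_expand_finset g y a u Finset.univ
  simpa using this

end Expand

section SemiMap

variable {A : Type u} [CommRing A] (σ : A →+* A)

/-- a module with scalars twisted by `σ` -/
def SLM (_σ : A →+* A) (N : Type v) : Type v := N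

instance (N : Type v) [AddCommGroup N] : AddCommGroup (SLM σ N) := inferInstanceAs (AddCommGroup N)

instance (N : Type v) [AddCommGroup N] [Module A N] : Module A (SLM σ N) := Module.compHom N σ

variable {M : Type v} {N : Type w} [AddCommGroup M] [Module A M] [AddCommGroup N] [Module A N]

lemma SLM.smul_def (a : A) (x : SLM σ N) : a • x = (σ a • (show N from x) : N) := rfl

omit [Module A M] in
lemma comp_update_apply {ι : Type*} [DecidableEq ι] (φ : M → N) (m : ι → M) (i : ι) (v : M) :
    (fun j => φ (Function.update m i v j)) = Function.update (fun j => φ (m j)) i (φ v) := by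
  ext j
  by_cases hj : j = i
  · subst hj; simp
  · simp [hj]

/-- the alternating map `(mᵢ) ↦ φ m₁ ∧ ⋯ ∧ φ m_r` with values in the twisted exterior power -/
def semiAlt (r : ℕ) (φ : M →ₛₗ[σ] N) : M [⋀^Fin r]→ₗ[A] SLM σ (⋀[A]^r N) where
  toFun m := exteriorPower.ιMulti A r (fun i => φ (m i))
  map_update_add' m i x y := by
    rw [comp_update_apply, comp_update_apply, comp_update_apply, map_add]
    exact AlternatingMap.map_update_add (exteriorPower.ιMulti A r) (fun j => φ (m j)) i (φ x) (φ y)
  map_update_smul' m i c x := by
    rw [comp_update_apply, comp_update_apply, φ.map_smulₛₗ]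
    exact AlternatingMap.map_update_smul (exteriorPower.ιMulti A r) (fun j => φ (m j)) i (σ c) (φ x)
  map_eq_zero_of_eq' m i j hm hij :=
    AlternatingMap.map_eq_zero_of_eq (exteriorPower.ιMulti A r) (fun i => φ (m i))
      (by rw [hm]) hij

/-- the `σ`-semilinear exterior power of a `σ`-semilinear map -/
def semiMap (r : ℕ) (φ : M →ₛₗ[σ] N) : ⋀[A]^r M →ₛₗ[σ] ⋀[A]^r N where
  toFun z := exteriorPower.alternatingMapLinearEquiv (semiAlt σ r φ) z
  map_add' x y := map_add _ x y
  map_smul' a z := map_smul (exteriorPower.alternatingMapLinearEquiv (semiAlt σ r φ)) a z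

lemma semiMap_ιMulti (r : ℕ) (φ : M →ₛₗ[σ] N) (m : Fin r → M) :
    semiMap σ r φ (exteriorPower.ιMulti A r m) = exteriorPower.ιMulti A r (fun i => φ (m i)) :=
  exteriorPower.alternatingMapLinearEquiv_apply_ιMulti (semiAlt σ r φ) m

end SemiMap

section Proj

variable {A : Type u} [CommRing A] {P : Type v} [AddCommGroup P] [Module A P]

instance extPow_projective [Module.Finite A P] [Module.Projective A P] (r : ℕ) :
    Module.Projective A (⋀[A]^r P) := by
  obtain ⟨n, f, hf⟩ := Module.Finite.exists_fin' A P
  obtain ⟨h, hh⟩ := Module.projective_lifting_property f LinearMap.id hf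
  refine Module.Projective.of_split (exteriorPower.map r h) (exteriorPower.map r f) ?_
  rw [← exteriorPower.map_comp, hh, exteriorPower.map_id]

end Proj

end Groth.Agent.Lib.Helper16.ZW
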