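import Mathlib
import Groth.Agent.Lib.Helper16.ZW8

/-!
# Constructing a 3n-display from a normal decomposition and a Frobenius-semilinear map (helper16)
-/

set_option autoImplicit false
universe u v

noncomputable section

namespace Groth.Agent.Lib.Helper16.ZW
open WittVector Function Dieu W4c1extbt610

section Mk

variable {p : ℕ} [hp : Fact p.Prime] {R : Type u} [CommRing R]
variable {M : Type v} [AddCommGroup M] [Module (WittVector p R) M]

/-- data for building a 3n-display from a normal decomposition and a Frobenius-semilinear `Φ` -/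
structure MkData (p : ℕ) [hp : Fact p.Prime] (R : Type u) [CommRing R]
    (M : Type v) [AddCommGroup M] [Module (WittVector p R) M] where
  L : Submodule (WittVector p R) M
  T : Submodule (WittVector p R) M
  hc : IsCompl L T
  Φ : M →ₛₗ[(WittVector.frobenius : WittVector p R →+* WittVector p R)] M
  hΦ : Submodule.span (WittVector p R) (Set.range Φ) = ⊤
  fin : Module.Finite (WittVector p R) M
  proj : Module.Projective (WittVector p R) M
  n : ℕ
  e : Fin n → M
  lam : Fin n → (M →ₗ[WittVector p R] WittVector p R)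
  hdual : ∀ x, x = ∑ i, lam i x • e i

variable (d : MkData p R M)

def MkData.Q : Submodule (WittVector p R) M := d.L ⊔ IV p R • d.T

def MkData.mu (i : Fin d.n) : M →ₗ[WittVector p R] WittVector p R := d.lam i ∘ₗ prT d.L d.T d.hc

def MkData.tt (i : Fin d.n) : M := prT d.L d.T d.hc (d.e i)

lemma MkData.tt_mem (i : Fin d.n) : d.tt i ∈ d.T := prT_mem d.L d.T d.hc _

lemma MkData.prT_eq_sum (x : M) : prT d.L d.T d.hc x = ∑ i, d.mu i x • d.tt i := by
  have h1 := d.hdual (prT d.L d.T d.hc x)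
  have h2 : prT d.L d.T d.hc (prT d.L d.T d.hc x) = prT d.L d.T d.hc x :=
    prT_of_mem_T d.L d.T d.hc (prT_mem d.L d.T d.hc x)
  conv_lhs => rw [← h2, h1, map_sum]
  refine Finset.sum_congr rfl fun i _ => ?_
  rw [map_smul]
  rfl

lemma MkData.prT_mem_of_mem_Q {q : M} (hq : q ∈ d.Q) :
    prT d.L d.T d.hc q ∈ IV p R • d.T := by
  obtain ⟨l, hl, z, hz, rfl⟩ := Submodule.mem_sup.mp hq
  have hzT : z ∈ d.T := Submodule.smul_le_right hz
  rw [map_add, prT_of_mem_L d.L d.T d.hc hl, prT_of_mem_T d.L d.T d.hc hzT, zero_add]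
  exact hz

lemma MkData.mu_mem_IV (i : Fin d.n) {q : M} (hq : q ∈ d.Q) : d.mu i q ∈ IV p R := by
  have h1 : prT d.L d.T d.hc q ∈ IV p R • (⊤ : Submodule (WittVector p R) M) :=
    Submodule.smul_mono le_rfl le_top (d.prT_mem_of_mem_Q hq)
  exact functional_mem (IV p R) (d.lam i) h1

/-- the total function extending `V⁻¹` -/
def MkData.G (z : M) : M := d.Φ (prL d.L d.T d.hc z) + ∑ i, Vi (d.mu i z) • d.Φ (d.tt i)

lemma MkData.G_add {z z' : M} (hz : z ∈ d.Q) (hz' : z' ∈ d.Q) :
    d.G (z + z') = d.G z + d.G z' := by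
  unfold MkData.G
  rw [map_add, map_add, add_add_add_comm, ← Finset.sum_add_distrib]
  congr 1
  refine Finset.sum_congr rfl fun i _ => ?_
  rw [map_add, Vi_add (d.mu_mem_IV i hz) (d.mu_mem_IV i hz'), add_smul]

lemma MkData.G_smul (c : WittVector p R) {z : M} (hz : z ∈ d.Q) :
    d.G (c • z) = frobenius c • d.G z := by
  unfold MkData.G
  rw [map_smul, LinearMap.map_smulₛₗ, smul_add, Finset.smul_sum]
  congr 1
  refine Finset.sum_congr rfl fun i _ => ?_
  rw [map_smul, smul_eq_mul, Vi_mul c (d.mu_mem_IV i hz), mul_smul]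

/-- the operator `V⁻¹` -/
def MkData.Vinv : d.Q →ₛₗ[(WittVector.frobenius : WittVector p R →+* WittVector p R)] M where
  toFun z := d.G z.1
  map_add' z z' := d.G_add z.2 z'.2
  map_smul' c z := d.G_smul c z.2

/-- the Frobenius -/
def MkData.F : M →ₛₗ[(WittVector.frobenius : WittVector p R →+* WittVector p R)] M :=
  (p : WittVector p R) • (d.Φ.comp (prL d.L d.T d.hc) :
    M →ₛₗ[(WittVector.frobenius : WittVector p R →+* WittVector p R)] M) +
  (d.Φ.comp (prT d.L d.T d.hc) : M →ₛₗ[(WittVector.frobenius : WittVector p R →+* WittVector p R)] M)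

lemma MkData.F_apply (x : M) :
    d.F x = (p : WittVector p R) • d.Φ (prL d.L d.T d.hc x) + d.Φ (prT d.L d.T d.hc x) := rfl

lemma MkData.IV_smul_le : IV p R • (⊤ : Submodule (WittVector p R) M) ≤ d.Q := by
  rw [Submodule.smul_le]
  intro a ha x _
  rw [← Groth.Agent.Lib.Helper16.ZW.prL_add_prT d.L d.T d.hc x, smul_add]
  exact Submodule.add_mem_sup (d.L.smul_mem _ (prL_mem d.L d.T d.hc x))
    (Submodule.smul_mem_smul ha (prT_mem d.L d.T d.hc x))

lemma MkData.G_verschiebung_smul (w : WittVector p R) (x : M) :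
    d.G (verschiebung w • x) = w • d.F x := by
  unfold MkData.G
  rw [d.F_apply, map_smul, LinearMap.map_smulₛₗ, WittVector.frobenius_verschiebung, smul_add,
    mul_smul]
  congr 1
  have h : ∀ i, Vi (d.mu i (verschiebung w • x)) • d.Φ (d.tt i) =
      w • d.Φ (d.mu i x • d.tt i) := by
    intro i
    rw [map_smul, smul_eq_mul, ← WittVector.verschiebung_mul_frobenius, Vi_verschiebung,
      LinearMap.map_smulₛₗ, mul_smul]
  rw [Finset.sum_congr rfl fun i _ => h i, ← Finset.smul_sum, ← map_sum, ← d.prT_eq_sum]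

lemma MkData.G_of_mem_L {l : M} (hl : l ∈ d.L) : d.G l = d.Φ l := by
  unfold MkData.G
  rw [prL_of_mem_L d.L d.T d.hc hl]
  have h : ∀ i, Vi (d.mu i l) • d.Φ (d.tt i) = 0 := by
    intro i
    have : d.mu i l = 0 := by
      change d.lam i (prT d.L d.T d.hc l) = 0
      rw [prT_of_mem_L d.L d.T d.hc hl, map_zero]
    rw [this, Vi_zero, zero_smul]
  rw [Finset.sum_congr rfl fun i _ => h i, Finset.sum_const_zero, add_zero]

lemma MkData.F_of_mem_T {t : M} (ht : t ∈ d.T) : d.F t = d.Φ t := by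
  rw [d.F_apply, prL_of_mem_T d.L d.T d.hc ht, prT_of_mem_T d.L d.T d.hc ht, map_zero, smul_zero,
    zero_add]

lemma MkData.span_range_Vinv : Submodule.span (WittVector p R) (Set.range d.Vinv) = ⊤ := by
  rw [eq_top_iff, ← d.hΦ, Submodule.span_le]
  rintro _ ⟨x, rfl⟩
  rw [← Groth.Agent.Lib.Helper16.ZW.prL_add_prT d.L d.T d.hc x, map_add]
  refine add_mem (Submodule.subset_span ?_) (Submodule.subset_span ?_)
  · refine ⟨⟨prL d.L d.T d.hc x, Submodule.mem_sup_left (prL_mem d.L d.T d.hc x)⟩, ?_⟩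
    exact d.G_of_mem_L (prL_mem d.L d.T d.hc x)
  · refine ⟨⟨verschiebung (1 : WittVector p R) • prT d.L d.T d.hc x,
      d.IV_smul_le (Submodule.smul_mem_smul (verschiebung_mem_IV p R 1) Submodule.mem_top)⟩, ?_⟩
    change d.G _ = _
    rw [d.G_verschiebung_smul, one_smul, d.F_of_mem_T (prT_mem d.L d.T d.hc x)]

/-- the 3n-display with normal decomposition `(L, T)` and `V⁻¹|_L = Φ|_L`, `F|_T = Φ|_T` -/
def MkData.disp : Display3n p R M where
  Q := d.Q
  F := d.F
  Vinv := d.Vinv
  finite := d.fin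
  projective := d.proj
  IV_smul_le := d.IV_smul_le
  exists_normal := ⟨d.L, d.T, d.hc, rfl⟩
  span_range_Vinv := d.span_range_Vinv
  Vinv_verschiebung_smul w z := d.G_verschiebung_smul w z

lemma MkData.disp_Q : d.disp.Q = d.L ⊔ IV p R • d.T := rfl

lemma MkData.disp_Vinv_of_mem_L {l : M} (hl : l ∈ d.L) (h : l ∈ d.disp.Q) :
    d.disp.Vinv ⟨l, h⟩ = d.Φ l := d.G_of_mem_L hl

lemma MkData.disp_F_of_mem_T {t : M} (ht : t ∈ d.T) : d.disp.F t = d.Φ t := d.F_of_mem_T ht

end Mk

end Groth.Agent.Lib.Helper16.ZW
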