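import Mathlib
import Groth.Agent.Lib.Helper16.ZW27
import Groth.Agent.Lib.Helper16.ZW28
import Groth.Agent.Lib.Helper16.ZW29

/-!
# Exterior powers of 3n-displays with tangent module of rank one: existence and uniqueness (helper16)
-/

set_option autoImplicit false
universe u v

noncomputable section

namespace Groth.Agent.Lib.Helper16.ZW
open WittVector Function Dieu W4c1extbt610

section Ext

variable {p : ℕ} [hp : Fact p.Prime] {R : Type u} [CommRing R]
variable {P : Type v} [AddCommGroup P] [Module (WittVector p R) P]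
variable (D : Display3n p R P) (L T : Submodule (WittVector p R) P) (hc : IsCompl L T)
  (hQ : D.Q = L ⊔ IV p R • T)
  (t : P) (τ : P →ₗ[WittVector p R] WittVector p R)
  (hτ : ∀ x, prT L T hc x = τ x • t) (hτt : τ t = 1)
variable (r : ℕ)

include hτ hτt in
lemma t_mem_T : t ∈ T := by
  have h := hτ t
  rw [hτt, one_smul] at h
  rw [← h]
  exact prT_mem L T hc t

include hτ hτt in
lemma prL_t : prL L T hc t = 0 := prL_of_mem_T L T hc (t_mem_T L T hc t τ hτ hτt)

include hτ in
lemma eq_prL_add (x : P) : x = prL L T hc x + τ x • t := by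
  rw [← hτ, Groth.Agent.Lib.Helper16.ZW.prL_add_prT]

include hQ hτ hτt in
lemma tau_mem_IV {q : P} (hq : q ∈ D.Q) : τ q ∈ IV p R := by
  rw [hQ] at hq
  obtain ⟨l, hl, z, hz, rfl⟩ := Submodule.mem_sup.mp hq
  have hzT : z ∈ T := Submodule.smul_le_right hz
  have h1 : τ l = 0 := by
    have h := hτ l
    rw [prT_of_mem_L L T hc hl] at h
    have h2 := congrArg τ h
    rw [map_zero, map_smul, hτt, smul_eq_mul, mul_one] at h2
    exact h2.symm
  rw [map_add, h1, zero_add]
  exact functional_mem (IV p R) τ (Submodule.smul_mono le_rfl le_top hz)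

/-- the idempotent `⋀^r pr_L` -/
def eM : ⋀[WittVector p R]^r P →ₗ[WittVector p R] ⋀[WittVector p R]^r P :=
  exteriorPower.map r (prL L T hc)

lemma eM_wedge (x : Fin r → P) :
    eM L T hc r (exteriorPower.ιMulti (WittVector p R) r x) =
      exteriorPower.ιMulti (WittVector p R) r (fun i => prL L T hc (x i)) :=
  exteriorPower.map_apply_ιMulti _ _

lemma eM_idem : IsIdempotentElem (eM L T hc r) := by
  have h : prL L T hc ∘ₗ prL L T hc = prL L T hc := by
    ext x
    exact prL_of_mem_L L T hc (prL_mem L T hc x)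
  change eM L T hc r ∘ₗ eM L T hc r = eM L T hc r
  rw [eM, ← exteriorPower.map_comp, h]

include hτ in
/-- `x₁ ∧ ⋯ ∧ x_r = πx₁ ∧ ⋯ ∧ πx_r + ∑ⱼ τ(xⱼ) (πx₁ ∧ ⋯ t ⋯ ∧ πx_r)` -/
lemma wedge_decomp (x : Fin r → P) :
    exteriorPower.ιMulti (WittVector p R) r x =
      exteriorPower.ιMulti (WittVector p R) r (fun i => prL L T hc (x i)) +
      ∑ j, τ (x j) • exteriorPower.ιMulti (WittVector p R) r
        (Function.update (fun i => prL L T hc (x i)) j t) := by
  have h := alt_expand (exteriorPower.ιMulti (WittVector p R) r) (fun i => prL L T hc (x i))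
    (fun i => τ (x i)) t
  rw [← h]
  congr 1
  ext i
  exact eq_prL_add L T hc t τ hτ (x i)

include hτ hτt in
lemma wedge_update_mem_ker (y : Fin r → P) (j : Fin r) :
    exteriorPower.ιMulti (WittVector p R) r (Function.update y j t) ∈
      LinearMap.ker (eM L T hc r) := by
  rw [LinearMap.mem_ker, eM_wedge]
  refine AlternatingMap.map_coord_zero _ j ?_
  rw [Function.update_self]
  exact prL_t L T hc t τ hτ hτt

/-- the set of wedges of elements of `Q` -/
def wedgeSet : Set (⋀[WittVector p R]^r P) :=
  Set.range fun q : Fin r → D.Q => exteriorPower.ιMulti (WittVector p R) r (fun i => (q i : P))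

lemma wedge_mem_wedgeSet (x : Fin r → P) (hx : ∀ i, x i ∈ D.Q) :
    exteriorPower.ιMulti (WittVector p R) r x ∈ wedgeSet D r :=
  ⟨fun i => ⟨x i, hx i⟩, rfl⟩

include hQ hτ hτt in
/-- `Q_E = L' + I T'` -/
theorem Q_ext_eq :
    LinearMap.range (eM L T hc r) ⊔ IV p R • LinearMap.ker (eM L T hc r) =
      Submodule.span (WittVector p R) (wedgeSet D r) := by
  have ht := t_mem_T L T hc t τ hτ hτt
  apply le_antisymm
  · refine sup_le ?_ ?_
    · rw [LinearMap.range_eq_map, ← exteriorPower.ιMulti_span, Submodule.map_span,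
        Submodule.span_le]
      rintro _ ⟨_, ⟨x, rfl⟩, rfl⟩
      rw [eM_wedge]
      exact Submodule.subset_span (wedge_mem_wedgeSet D r _
        fun i => L_le_Q D L T hQ (prL_mem L T hc (x i)))
    · rw [Submodule.smul_le]
      intro a ha z hz
      have key : ∀ z : ⋀[WittVector p R]^r P, a • (z - eM L T hc r z) ∈
          Submodule.span (WittVector p R) (wedgeSet D r) := by
        intro z
        have hz : z ∈ Submodule.span (WittVector p R)
            (Set.range (exteriorPower.ιMulti (WittVector p R) r (M := P))) := by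
          rw [exteriorPower.ιMulti_span]; exact Submodule.mem_top
        refine Submodule.span_induction ?_ ?_ (fun x y _ _ hx hy => ?_) (fun c x _ hx => ?_) hz
        · rintro _ ⟨x, rfl⟩
          rw [eM_wedge, wedge_decomp L T hc t τ hτ r x, add_sub_cancel_left, Finset.smul_sum]
          refine Submodule.sum_mem _ fun j _ => ?_
          rw [← mul_smul, ← AlternatingMap.map_update_smul]
          refine Submodule.subset_span (wedge_mem_wedgeSet D r _ fun i => ?_)
          by_cases hij : i = j
          · subst hij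
            rw [Function.update_self]
            exact D.IV_smul_le (Submodule.smul_mem_smul ((IV p R).mul_mem_right _ ha)
              Submodule.mem_top)
          · rw [Function.update_of_ne hij]
            exact L_le_Q D L T hQ (prL_mem L T hc (x i))
        · rw [map_zero, sub_zero, smul_zero]; exact zero_mem _
        · rw [map_add, add_sub_add_comm, smul_add]; exact add_mem hx hy
        · rw [map_smul, ← smul_sub, smul_comm]; exact Submodule.smul_mem _ _ hx
      have h := key z
      rw [LinearMap.mem_ker.1 hz, sub_zero] at h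
      exact h
  · rw [Submodule.span_le]
    rintro _ ⟨q, rfl⟩
    change exteriorPower.ιMulti (WittVector p R) r (fun i => (q i : P)) ∈ _
    rw [wedge_decomp L T hc t τ hτ r (fun i => (q i : P))]
    refine Submodule.add_mem_sup ⟨exteriorPower.ιMulti (WittVector p R) r (fun i => (q i : P)),
      eM_wedge L T hc r _⟩ (Submodule.sum_mem _ fun j _ => ?_)
    exact Submodule.smul_mem_smul (tau_mem_IV D L T hc hQ t τ hτ hτt (q j).2)
      (wedge_update_mem_ker L T hc t τ hτ hτt r _ j)

lemma span_range_phi :
    Submodule.span (WittVector p R) (Set.range (phi D L T hc hQ)) = ⊤ := by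
  rw [eq_top_iff]
  intro x _
  obtain ⟨ζ, rfl⟩ := Phi_surjective D L T hc hQ x
  induction ζ using BC.induction_on (WittVector.frobenius : WittVector p R →+* WittVector p R) with
  | zero => rw [map_zero]; exact zero_mem _
  | tmul b y =>
    rw [Phi, BC.lift_tmul]
    exact Submodule.smul_mem _ _ (Submodule.subset_span ⟨y, rfl⟩)
  | add z₁ z₂ h₁ h₂ => rw [map_add]; exact add_mem (h₁ trivial) (h₂ trivial)

lemma span_range_semiMap_phi :
    Submodule.span (WittVector p R) (Set.range
      (semiMap (WittVector.frobenius : WittVector p R →+* WittVector p R) r (phi D L T hc hQ))) = ⊤ := by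
  rw [eq_top_iff, ← exteriorPower.ιMulti_span_of_span (WittVector p R) r P
    (span_range_phi D L T hc hQ), Submodule.span_le]
  rintro _ ⟨a, ha, rfl⟩
  have ha' : ∀ i, ∃ m, phi D L T hc hQ m = a i := fun i => ha ⟨i, rfl⟩
  choose m hm using ha'
  refine Submodule.subset_span ⟨exteriorPower.ιMulti (WittVector p R) r m, ?_⟩
  rw [semiMap_ιMulti]
  congr 1
  ext i
  exact hm i

/-- the data of the exterior power display -/
def extData : MkData p R (⋀[WittVector p R]^r P) := by
  have h1 := D.finite
  have h2 := D.projective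
  have hdb := exists_dual_basis (A := WittVector p R) (P := ⋀[WittVector p R]^r P)
  exact
  { L := LinearMap.range (eM L T hc r)
    T := LinearMap.ker (eM L T hc r)
    hc := LinearMap.IsIdempotentElem.isCompl (eM_idem L T hc r)
    Φ := semiMap (WittVector.frobenius : WittVector p R →+* WittVector p R) r (phi D L T hc hQ)
    hΦ := span_range_semiMap_phi D L T hc hQ r
    fin := inferInstance
    proj := inferInstance
    n := hdb.choose
    e := hdb.choose_spec.choose
    lam := hdb.choose_spec.choose_spec.choose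
    hdual := hdb.choose_spec.choose_spec.choose_spec }

/-- the exterior power 3n-display -/
def extDisp : Display3n p R (⋀[WittVector p R]^r P) := (extData D L T hc hQ r).disp

lemma extDisp_Q : (extDisp D L T hc hQ r).Q =
    LinearMap.range (eM L T hc r) ⊔ IV p R • LinearMap.ker (eM L T hc r) := rfl

include hτ hτt in
lemma Vinv_eq_phi_add (q : D.Q) :
    D.Vinv q = phi D L T hc hQ (prL L T hc (q : P)) + Vi (τ (q : P)) • phi D L T hc hQ t := by
  have ht := t_mem_T L T hc t τ hτ hτt
  have hV : verschiebung (Vi (τ (q : P))) = τ (q : P) :=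
    verschiebung_Vi (tau_mem_IV D L T hc hQ t τ hτ hτt q.2)
  have hmem : verschiebung (Vi (τ (q : P))) • t ∈ D.Q :=
    D.IV_smul_le (Submodule.smul_mem_smul (verschiebung_mem_IV p R _) Submodule.mem_top)
  have hq : q = prLQ D L T hc hQ (q : P) + ⟨verschiebung (Vi (τ (q : P))) • t, hmem⟩ := by
    apply Subtype.ext
    rw [Submodule.coe_add]
    change (q : P) = prL L T hc (q : P) + verschiebung (Vi (τ (q : P))) • t
    rw [hV]
    exact eq_prL_add L T hc t τ hτ (q : P)
  conv_lhs => rw [hq, map_add, Vinv_verschiebung_smul']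
  rw [phi_of_mem_L D L T hc hQ (prL_mem L T hc (q : P)), phi_of_mem_T D L T hc hQ ht]
  rfl

include hτ hτt in
/-- `V⁻¹` of the exterior power display on wedges of elements of `Q` -/
theorem extDisp_Vinv_wedge (q : Fin r → D.Q)
    (h : exteriorPower.ιMulti (WittVector p R) r (fun i => (q i : P)) ∈ (extDisp D L T hc hQ r).Q) :
    (extDisp D L T hc hQ r).Vinv ⟨_, h⟩ =
      exteriorPower.ιMulti (WittVector p R) r (fun i => D.Vinv (q i)) := by
  have ht := t_mem_T L T hc t τ hτ hτt
  let y : Fin r → P := fun i => prL L T hc (q i : P)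
  let w : Fin r → WittVector p R := fun j => Vi (τ (q j : P))
  have hw : ∀ j, verschiebung (w j) = τ (q j : P) := fun j =>
    verschiebung_Vi (tau_mem_IV D L T hc hQ t τ hτ hτt (q j).2)
  let z : Fin r → ⋀[WittVector p R]^r P := fun j =>
    exteriorPower.ιMulti (WittVector p R) r (Function.update y j t)
  have hzT : ∀ j, z j ∈ LinearMap.ker (eM L T hc r) := fun j =>
    wedge_update_mem_ker L T hc t τ hτ hτt r y j
  have hyL : exteriorPower.ιMulti (WittVector p R) r y ∈ LinearMap.range (eM L T hc r) :=
    ⟨exteriorPower.ιMulti (WittVector p R) r (fun i => (q i : P)), eM_wedge L T hc r _⟩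
  have hyQ : exteriorPower.ιMulti (WittVector p R) r y ∈ (extDisp D L T hc hQ r).Q := Submodule.mem_sup_left hyL
  have hzQ : ∀ j, verschiebung (w j) • z j ∈ (extDisp D L T hc hQ r).Q := fun j =>
    (extDisp D L T hc hQ r).IV_smul_le (Submodule.smul_mem_smul (verschiebung_mem_IV p R _) Submodule.mem_top)
  have hdec : (⟨_, h⟩ : (extDisp D L T hc hQ r).Q) = ⟨_, hyQ⟩ + ∑ j, ⟨_, hzQ j⟩ := by
    apply Subtype.ext
    rw [Submodule.coe_add, Submodule.coe_sum]
    change exteriorPower.ιMulti (WittVector p R) r (fun i => (q i : P)) =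
      exteriorPower.ιMulti (WittVector p R) r y + ∑ j, verschiebung (w j) • z j
    rw [wedge_decomp L T hc t τ hτ r (fun i => (q i : P))]
    congr 1
    refine Finset.sum_congr rfl fun j _ => ?_
    rw [hw]
  rw [hdec, map_add, map_sum]
  have h1 : (extDisp D L T hc hQ r).Vinv ⟨_, hyQ⟩ =
      exteriorPower.ιMulti (WittVector p R) r (fun i => phi D L T hc hQ (y i)) := by
    change (extData D L T hc hQ r).disp.Vinv ⟨_, hyQ⟩ = _
    rw [(extData D L T hc hQ r).disp_Vinv_of_mem_L hyL hyQ]
    exact semiMap_ιMulti _ r _ y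
  have h2 : ∀ j, (extDisp D L T hc hQ r).Vinv ⟨_, hzQ j⟩ = w j • exteriorPower.ιMulti (WittVector p R) r
      (Function.update (fun i => phi D L T hc hQ (y i)) j (phi D L T hc hQ t)) := by
    intro j
    rw [(extDisp D L T hc hQ r).Vinv_verschiebung_smul (w j) (z j)]
    congr 1
    change (extData D L T hc hQ r).disp.F (z j) = _
    rw [(extData D L T hc hQ r).disp_F_of_mem_T (hzT j)]
    change semiMap _ r (phi D L T hc hQ) (exteriorPower.ιMulti (WittVector p R) r (Function.update y j t)) = _
    rw [semiMap_ιMulti, comp_update_apply]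
  rw [h1, Finset.sum_congr rfl fun j _ => h2 j]
  have h3 : (fun i => D.Vinv (q i)) =
      fun i => phi D L T hc hQ (y i) + w i • phi D L T hc hQ t := by
    ext i
    exact Vinv_eq_phi_add D L T hc hQ t τ hτ hτt (q i)
  rw [h3, alt_expand]

end Ext

section Main

variable {p : ℕ} [hp : Fact p.Prime] {R : Type u} [CommRing R]
variable {P : Type v} [AddCommGroup P] [Module (WittVector p R) P]

/-- two exterior power structures coincide -/
theorem isExtPow_unique (D : Display3n p R P) (r : ℕ)
    (E E' : Display3n p R (⋀[WittVector p R]^r P)) (hE : IsExtPow D r E) (hE' : IsExtPow D r E') :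
    E' = E := by
  have hhom : IsHom E' E LinearMap.id := by
    refine isHom_of_span E' E LinearMap.id _ hE'.1 ?_ ?_
    · rintro _ ⟨q, rfl⟩
      exact wedge_mem_Q hE q
    · rintro _ ⟨q, rfl⟩ hs hs'
      rw [LinearMap.id_apply, hE'.2 q hs]
      exact (hE.2 q hs').symm
  refine Display3n_ext E' E (hE'.1.trans hE.1.symm) ?_ ?_
  · exact LinearMap.ext fun x => hhom.comm_F x
  · intro z h₁ h₂
    exact hhom.comm_Vinv ⟨z, h₁⟩

/-- existence and uniqueness of the exterior power of a 3n-display with tangent module of rank one -/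
theorem existsUnique_extPow (D : Display3n p R P)
    (hT : ∃ L T : Submodule (WittVector p R) P, IsCompl L T ∧ D.Q = L ⊔ IV p R • T ∧
      Nonempty (T ≃ₗ[WittVector p R] WittVector p R)) (r : ℕ) :
    ∃ E : Display3n p R (⋀[WittVector p R]^r P), IsExtPow D r E ∧
      ∀ E' : Display3n p R (⋀[WittVector p R]^r P), IsExtPow D r E' → E' = E := by
  obtain ⟨L, T, hc, hQ, ⟨e⟩⟩ := hT
  let t : P := ((e.symm 1 : T) : P)
  let τ : P →ₗ[WittVector p R] WittVector p R :=
    e.toLinearMap ∘ₗ (prT L T hc).codRestrict T (prT_mem L T hc)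
  have hτ : ∀ x, prT L T hc x = τ x • t := by
    intro x
    have h1 : (⟨prT L T hc x, prT_mem L T hc x⟩ : T) = τ x • e.symm 1 := by
      rw [← map_smul, smul_eq_mul, mul_one]
      exact (e.symm_apply_apply _).symm
    exact congrArg Subtype.val h1
  have hτt : τ t = 1 := by
    have h1 : (⟨prT L T hc t, prT_mem L T hc t⟩ : T) = e.symm 1 :=
      Subtype.ext (prT_of_mem_T L T hc (e.symm 1).2)
    change e ⟨prT L T hc t, prT_mem L T hc t⟩ = 1
    rw [h1, e.apply_symm_apply]
  have hE : IsExtPow D r (extDisp D L T hc hQ r) := by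
    refine ⟨?_, fun q hq => extDisp_Vinv_wedge D L T hc hQ t τ hτ hτt r q hq⟩
    rw [extDisp_Q, Q_ext_eq D L T hc hQ t τ hτ hτt r]
    rfl
  exact ⟨_, hE, fun E' hE' => isExtPow_unique D r _ E' hE hE'⟩

end Main

end Groth.Agent.Lib.Helper16.ZW
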