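import Mathlib
import Groth.Agent.Lib.Helper16.ZW30

/-!
# Exterior powers of 3n-displays: rank of the tangent module (helper16)
-/

set_option autoImplicit false
universe u v

noncomputable section

namespace Groth.Agent.Lib.Helper16.ZW
open WittVector Function Dieu W4c1extbt610

section Diag

variable {A : Type*} [CommRing A] {M : Type*} [AddCommGroup M] [Module A M]

/-- the kernel of an endomorphism which is diagonal (with entries 0, 1) in a basis is free on the
basis vectors it kills -/
lemma ker_basis_of_diag {J : Type*} [Fintype J] (B : Module.Basis J A M) (e : M →ₗ[A] M)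
    (pred : J → Prop) (h0 : ∀ j, pred j → e (B j) = 0) (h1 : ∀ j, ¬ pred j → e (B j) = B j) :
    Nonempty (Module.Basis {j // pred j} A (LinearMap.ker e)) := by
  classical
  let v : {j // pred j} → M := fun j => B j
  have hli : LinearIndependent A v := B.linearIndependent.comp _ Subtype.val_injective
  have hspan : Submodule.span A (Set.range v) = LinearMap.ker e := by
    apply le_antisymm
    · rw [Submodule.span_le]
      rintro _ ⟨j, rfl⟩
      exact h0 j.1 j.2
    · intro x hx
      have hc : ∀ j, ¬ pred j → B.coord j x = 0 := by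
        intro j hj
        have h2 : B.coord j ∘ₗ e = B.coord j := by
          refine B.ext fun k => ?_
          rw [LinearMap.comp_apply]
          by_cases hk : pred k
          · have hkj : j ≠ k := fun h => hj (h ▸ hk)
            rw [h0 k hk, map_zero, Module.Basis.coord_apply, Module.Basis.repr_self,
              Finsupp.single_eq_of_ne hkj]
          · rw [h1 k hk]
        have h3 := LinearMap.congr_fun h2 x
        rw [LinearMap.comp_apply, LinearMap.mem_ker.1 hx, map_zero] at h3
        exact h3.symm
      rw [← B.sum_repr x]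
      refine Submodule.sum_mem _ fun j _ => ?_
      by_cases hj : pred j
      · exact Submodule.smul_mem _ _ (Submodule.subset_span ⟨⟨j, hj⟩, rfl⟩)
      · have := hc j hj
        rw [Module.Basis.coord_apply] at this
        rw [this, zero_smul]
        exact zero_mem _
  exact ⟨(Module.Basis.span hli).map (LinearEquiv.ofEq _ _ hspan)⟩

end Diag

section Count

/-- the number of `(n+1)`-subsets of `Fin (m+1)` containing a given element -/
lemma card_powersetCard_mem (m n : ℕ) (i₀ : Fin (m + 1)) :
    Nat.card {s : Set.powersetCard (Fin (m + 1)) (n + 1) // i₀ ∈ s} = m.choose n := by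
  classical
  have hU : (Finset.univ : Finset (Fin (m + 1))) = insert i₀ (Finset.univ.erase i₀) :=
    (Finset.insert_erase (Finset.mem_univ i₀)).symm
  have hcard : (Finset.univ.erase i₀ : Finset (Fin (m + 1))).card = m := by
    rw [Finset.card_erase_of_mem (Finset.mem_univ _), Finset.card_univ, Fintype.card_fin]
    rfl
  let F : Finset (Finset (Fin (m + 1))) :=
    (Finset.powersetCard n (Finset.univ.erase i₀)).image (insert i₀)
  have hF : F.card = m.choose n := by
    rw [Finset.card_image_of_injOn, Finset.card_powersetCard, hcard]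
    intro s hs s' hs' h
    have hs1 : i₀ ∉ s := fun h' => by
      have := (Finset.mem_powersetCard.1 hs).1 h'
      simp at this
    have hs2 : i₀ ∉ s' := fun h' => by
      have := (Finset.mem_powersetCard.1 hs').1 h'
      simp at this
    have := congrArg (fun u => Finset.erase u i₀) h
    simpa [Finset.erase_insert hs1, Finset.erase_insert hs2] using this
  have hmem : ∀ s : Finset (Fin (m + 1)), s ∈ F ↔ s.card = n + 1 ∧ i₀ ∈ s := by
    intro s
    constructor
    · intro hs
      obtain ⟨u, hu, rfl⟩ := Finset.mem_image.1 hs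
      have hu' := Finset.mem_powersetCard.1 hu
      have hi : i₀ ∉ u := fun h' => by
        have := hu'.1 h'
        simp at this
      exact ⟨by rw [Finset.card_insert_of_notMem hi, hu'.2], Finset.mem_insert_self _ _⟩
    · rintro ⟨hc, hi⟩
      refine Finset.mem_image.2 ⟨s.erase i₀, Finset.mem_powersetCard.2 ⟨?_, ?_⟩,
        Finset.insert_erase hi⟩
      · intro k hk
        rw [Finset.mem_erase] at hk ⊢
        exact ⟨hk.1, Finset.mem_univ _⟩
      · rw [Finset.card_erase_of_mem hi, hc]
        rfl
  have e : {s : Set.powersetCard (Fin (m + 1)) (n + 1) // i₀ ∈ s} ≃ F :=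
    { toFun := fun s => ⟨s.1.1, (hmem _).2 ⟨s.1.2, s.2⟩⟩
      invFun := fun s => ⟨⟨s.1, ((hmem _).1 s.2).1⟩, ((hmem _).1 s.2).2⟩
      left_inv := fun s => rfl
      right_inv := fun s => rfl }
  rw [Nat.card_congr e, Nat.card_eq_fintype_card, Fintype.card_coe, hF]

end Count

section Rank

variable {p : ℕ} [hp : Fact p.Prime] {R : Type u} [CommRing R]
variable {P : Type v} [AddCommGroup P] [Module (WittVector p R) P]

/-- the constructed structure is an exterior power -/
theorem isExtPow_extDisp (D : Display3n p R P) (L T : Submodule (WittVector p R) P)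
    (hc : IsCompl L T) (hQ : D.Q = L ⊔ IV p R • T) (e : T ≃ₗ[WittVector p R] WittVector p R)
    (r : ℕ) : IsExtPow D r (extDisp D L T hc hQ r) := by
  let t : P := ((e.symm 1 : T) : P)
  let τ : P →ₗ[WittVector p R] WittVector p R :=
    e.toLinearMap ∘ₗ (prT L T hc).codRestrict T (prT_mem L T hc)
  have hτ : ∀ x, prT L T hc x = τ x • t := by
    intro x
    have h1 : (⟨prT L T hc x, prT_mem L T hc x⟩ : T) = τ x • e.symm 1 := by
      rw [← map_smul, smul_eq_mul, mul_one]
      exact (e.symm_apply_apply _).symm
    exact congrArg Subtype.val h1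
  have hτt : τ t = 1 := by
    have h1 : (⟨prT L T hc t, prT_mem L T hc t⟩ : T) = e.symm 1 :=
      Subtype.ext (prT_of_mem_T L T hc (e.symm 1).2)
    change e ⟨prT L T hc t, prT_mem L T hc t⟩ = 1
    rw [h1, e.apply_symm_apply]
  refine ⟨?_, fun q hq => extDisp_Vinv_wedge D L T hc hQ t τ hτ hτt r q hq⟩
  rw [extDisp_Q, Q_ext_eq D L T hc hQ t τ hτ hτt r]
  rfl

variable [Nontrivial R]

/-- the tangent module of the exterior power has rank `(m choose r-1)` -/
theorem extPow_tangent_rank (D : Display3n p R P) (m : ℕ) (L T : Submodule (WittVector p R) P)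
    (hLT : IsCompl L T) (hQ : D.Q = L ⊔ IV p R • T)
    (hL : Module.Free (WittVector p R) L) (hLr : Module.finrank (WittVector p R) L = m)
    (hT : Nonempty (T ≃ₗ[WittVector p R] WittVector p R))
    (r : ℕ) (hr : 1 ≤ r) (E : Display3n p R (⋀[WittVector p R]^r P)) (hE : IsExtPow D r E) :
    ∃ L' T' : Submodule (WittVector p R) (⋀[WittVector p R]^r P), IsCompl L' T' ∧
      E.Q = L' ⊔ IV p R • T' ∧ Module.Free (WittVector p R) T' ∧
      Module.finrank (WittVector p R) T' = m.choose (r - 1) := by
  classical
  obtain ⟨e⟩ := hT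
  obtain ⟨n, rfl⟩ : ∃ n, r = n + 1 := ⟨r - 1, by omega⟩
  have hEeq : E = extDisp D L T hLT hQ (n + 1) :=
    isExtPow_unique D (n + 1) _ E (isExtPow_extDisp D L T hLT hQ e (n + 1)) hE
  refine ⟨LinearMap.range (eM L T hLT (n + 1)), LinearMap.ker (eM L T hLT (n + 1)),
    LinearMap.IsIdempotentElem.isCompl (eM_idem L T hLT (n + 1)), by rw [hEeq]; rfl, ?_⟩
  -- a basis of `P` adapted to `L ⊕ T`
  have hfinP := D.finite
  have hfinL : Module.Finite (WittVector p R) L := by
    refine Module.Finite.of_surjective ((prL L T hLT).codRestrict L (prL_mem L T hLT)) ?_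
    intro l
    exact ⟨l, Subtype.ext (prL_of_mem_L L T hLT l.2)⟩
  let bL : Module.Basis (Fin m) (WittVector p R) L := Module.finBasisOfFinrankEq _ _ hLr
  let bT : Module.Basis (Fin 1) (WittVector p R) T :=
    (Module.Basis.singleton (Fin 1) (WittVector p R)).map e.symm
  let b : Module.Basis (Fin (m + 1)) (WittVector p R) P :=
    ((bL.prod bT).map (Submodule.prodEquivOfIsCompl L T hLT)).reindex finSumFinEquiv
  let i₀ : Fin (m + 1) := finSumFinEquiv (Sum.inr 0)
  have hb : ∀ k, b k = ((bL.prod bT) (finSumFinEquiv.symm k)).1 + ((bL.prod bT) (finSumFinEquiv.symm k)).2 := by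
    intro k
    rw [Module.Basis.reindex_apply, Module.Basis.map_apply, Submodule.coe_prodEquivOfIsCompl']
  have hbT : b i₀ ∈ T := by
    rw [hb, Equiv.symm_apply_apply, Module.Basis.prod_apply_inr_fst, Module.Basis.prod_apply_inr_snd]
    simp
  have hbL : ∀ k, k ≠ i₀ → b k ∈ L := by
    intro k hk
    rw [hb]
    rcases h : finSumFinEquiv.symm k with i | j
    · rw [Module.Basis.prod_apply_inl_fst, Module.Basis.prod_apply_inl_snd]
      simp
    · exfalso
      apply hk
      have hj : j = 0 := Subsingleton.elim _ _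
      rw [hj] at h
      exact (Equiv.symm_apply_eq finSumFinEquiv).1 h
  -- the idempotent is diagonal in the induced basis
  have h0 : ∀ s : Set.powersetCard (Fin (m + 1)) (n + 1), i₀ ∈ s →
      eM L T hLT (n + 1) (b.exteriorPower (n + 1) s) = 0 := by
    intro s hs
    obtain ⟨k, hk⟩ := (Set.powersetCard.mem_range_ofFinEmbEquiv_symm_iff_mem s i₀).2 hs
    rw [exteriorPower.basis_apply]
    change eM L T hLT (n + 1) (exteriorPower.ιMulti (WittVector p R) (n + 1)
      (b ∘ (Set.powersetCard.ofFinEmbEquiv.symm s))) = 0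
    rw [eM_wedge]
    refine AlternatingMap.map_coord_zero _ k ?_
    rw [Function.comp_apply, hk]
    exact prL_of_mem_T L T hLT hbT
  have h1 : ∀ s : Set.powersetCard (Fin (m + 1)) (n + 1), ¬ i₀ ∈ s →
      eM L T hLT (n + 1) (b.exteriorPower (n + 1) s) = b.exteriorPower (n + 1) s := by
    intro s hs
    rw [exteriorPower.basis_apply]
    change eM L T hLT (n + 1) (exteriorPower.ιMulti (WittVector p R) (n + 1)
      (b ∘ (Set.powersetCard.ofFinEmbEquiv.symm s))) = exteriorPower.ιMulti (WittVector p R) (n + 1)
      (b ∘ (Set.powersetCard.ofFinEmbEquiv.symm s))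
    rw [eM_wedge]
    congr 1
    ext k
    refine prL_of_mem_L L T hLT (hbL _ fun h => hs ?_)
    exact (Set.powersetCard.mem_range_ofFinEmbEquiv_symm_iff_mem s i₀).1 ⟨k, h⟩
  obtain ⟨Bk⟩ := ker_basis_of_diag (b.exteriorPower (n + 1)) (eM L T hLT (n + 1))
    (fun s => i₀ ∈ s) h0 h1
  refine ⟨Module.Free.of_basis Bk, ?_⟩
  rw [Module.finrank_eq_nat_card_basis Bk, card_powersetCard_mem, Nat.add_sub_cancel]

end Rank

end Groth.Agent.Lib.Helper16.ZW
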