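import Mathlib
import Groth.Prelude.Def_Disp2

/-!
# Zink displays: descent of homomorphisms of 3n-displays from an abstract equalizer property (helper16)
-/

set_option autoImplicit false
universe u v

noncomputable section

namespace Groth.Agent.Lib.Helper16.ZW
open WittVector Function Dieu W4c1extbt610

section General

variable {A : Type u} {B : Type u} [CommRing A] [CommRing B]
variable {P : Type v} [AddCommGroup P] [Module A P]

lemma castHom_castHom {g g' g'' : A →+* B} (e : g = g') (e' : g' = g'') (z : BC g P) :
    BC.castHom e' (BC.castHom e z) = BC.castHom (e.trans e') z := by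
  subst e
  subst e'
  rfl

lemma castHom_symm_castHom {g g' : A →+* B} (e : g = g') (z : BC g P) :
    BC.castHom e.symm (BC.castHom e z) = z := by
  subst e
  rfl

lemma flat_of_projective' {M : Type v} [AddCommGroup M] [Module A M]
    (h : Module.Projective A M) : Module.Flat A M := inferInstance

end General

section Descent

variable {p : ℕ} [hp : Fact p.Prime] {S R : Type u} [CommRing S] [CommRing R] (f : S →+* R)
variable {C : Type u} [CommRing C]
variable {P P' : Type v} [AddCommGroup P] [Module (WittVector p S) P]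
  [AddCommGroup P'] [Module (WittVector p S) P']

theorem descent_hom (j₁ j₂ : WittVector p R →+* C) (ψc : WittVector p S →+* C)
    (e₁ : j₁.comp (WittVector.map f : WittVector p S →+* WittVector p R) = ψc) (e₂ : j₂.comp (WittVector.map f : WittVector p S →+* WittVector p R) = ψc)
    (D : Display3n p S P) (D' : Display3n p S P')
    (DR : Display3n p R (BC (WittVector.map f : WittVector p S →+* WittVector p R) P)) (hDR : IsDispBaseChange f D DR)
    (DR' : Display3n p R (BC (WittVector.map f : WittVector p S →+* WittVector p R) P')) (hDR' : IsDispBaseChange f D' DR')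
    (χ : BC (WittVector.map f : WittVector p S →+* WittVector p R) P →ₗ[WittVector p R] BC (WittVector.map f : WittVector p S →+* WittVector p R) P') (hχ : IsHom DR DR' χ)
    (hinj : Function.Injective (BC.ι (WittVector.map f : WittVector p S →+* WittVector p R) P'))
    (heq : ∀ z : BC (WittVector.map f : WittVector p S →+* WittVector p R) P', BC.castHom (e₁.trans e₂.symm) (BC.push (WittVector.map f : WittVector p S →+* WittVector p R) j₁ z) = BC.push (WittVector.map f : WittVector p S →+* WittVector p R) j₂ z →
      z ∈ Set.range (BC.ι (WittVector.map f : WittVector p S →+* WittVector p R) P'))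
    (hQ' : ∀ x : P', BC.ι (WittVector.map f : WittVector p S →+* WittVector p R) P' x ∈ DR'.Q → x ∈ D'.Q)
    (hdesc : ∀ (z₁ : BC j₁ (BC (WittVector.map f : WittVector p S →+* WittVector p R) P)) (z₂ : BC j₂ (BC (WittVector.map f : WittVector p S →+* WittVector p R) P)),
      (BC.castHom (P := P) e₁).comp (BC.lift j₁ (BC.push (WittVector.map f : WittVector p S →+* WittVector p R) j₁)) z₁ =
        (BC.castHom (P := P) e₂).comp (BC.lift j₂ (BC.push (WittVector.map f : WittVector p S →+* WittVector p R) j₂)) z₂ →
      (BC.castHom (P := P') e₁).comp (BC.lift j₁ (BC.push (WittVector.map f : WittVector p S →+* WittVector p R) j₁)) (BC.map j₁ χ z₁) =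
        (BC.castHom (P := P') e₂).comp (BC.lift j₂ (BC.push (WittVector.map f : WittVector p S →+* WittVector p R) j₂)) (BC.map j₂ χ z₂)) :
    ∃! ψ : P →ₗ[WittVector p S] P', IsHom D D' ψ ∧ BC.map (WittVector.map f : WittVector p S →+* WittVector p R) ψ = χ := by
  -- step 1: χ (1 ⊗ x) descends
  have hrange : ∀ x : P, χ (BC.tmul (WittVector.map f : WittVector p S →+* WittVector p R) 1 x) ∈ Set.range (BC.ι (WittVector.map f : WittVector p S →+* WittVector p R) P') := by
    intro x
    apply heq
    have h := hdesc (BC.tmul j₁ 1 (BC.tmul (WittVector.map f : WittVector p S →+* WittVector p R) 1 x)) (BC.tmul j₂ 1 (BC.tmul (WittVector.map f : WittVector p S →+* WittVector p R) 1 x)) (by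
      simp only [LinearMap.comp_apply, BC.lift_tmul, BC.push_tmul, one_smul, map_one,
        BC.castHom_tmul])
    simp only [LinearMap.comp_apply, BC.map_tmul, BC.lift_tmul, one_smul] at h
    have h2 := congrArg (BC.castHom e₂.symm) h
    rw [castHom_castHom, castHom_symm_castHom] at h2
    exact h2
  choose ψf hψf using hrange
  have hψf' : ∀ x, BC.tmul (WittVector.map f : WittVector p S →+* WittVector p R) 1 (ψf x) = χ (BC.tmul (WittVector.map f : WittVector p S →+* WittVector p R) 1 x) := hψf
  have hinj' : ∀ x y : P', BC.tmul (WittVector.map f : WittVector p S →+* WittVector p R) 1 x = BC.tmul (WittVector.map f : WittVector p S →+* WittVector p R) 1 y → x = y := fun x y h => hinj h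
  let ψ : P →ₗ[WittVector p S] P' :=
    { toFun := ψf
      map_add' := fun x y => by
        apply hinj'
        rw [BC.tmul_add, hψf', hψf', hψf', BC.tmul_add, map_add]
      map_smul' := fun a x => by
        apply hinj'
        rw [RingHom.id_apply, hψf', ← BC.tmul_apply_eq, ← BC.tmul_apply_eq,
          BC.tmul_eq_smul_tmul_one, map_smul, ← hψf', ← BC.tmul_eq_smul_tmul_one] }
  have hψ : ∀ x, BC.tmul (WittVector.map f : WittVector p S →+* WittVector p R) 1 (ψ x) = χ (BC.tmul (WittVector.map f : WittVector p S →+* WittVector p R) 1 x) := hψf'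
  have hmapψ : BC.map (WittVector.map f : WittVector p S →+* WittVector p R) ψ = χ := by
    apply BC.ext
    intro x
    rw [BC.map_tmul, hψ]
  have hmemQR : ∀ q : P, q ∈ D.Q → BC.tmul (WittVector.map f : WittVector p S →+* WittVector p R) 1 q ∈ DR.Q := by
    intro q hq
    rw [hDR.Q_eq, LinearMap.mem_ker, bcQuotMap_tmul]
    have : D.Q.mkQ q = 0 := by
      rw [Submodule.mkQ_apply, Submodule.Quotient.mk_eq_zero]
      exact hq
    rw [this, BC.tmul_zero]
  have hmemQR' : ∀ q : P', q ∈ D'.Q → BC.tmul (WittVector.map f : WittVector p S →+* WittVector p R) 1 q ∈ DR'.Q := by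
    intro q hq
    rw [hDR'.Q_eq, LinearMap.mem_ker, bcQuotMap_tmul]
    have : D'.Q.mkQ q = 0 := by
      rw [Submodule.mkQ_apply, Submodule.Quotient.mk_eq_zero]
      exact hq
    rw [this, BC.tmul_zero]
  have hmaps : ∀ q : P, q ∈ D.Q → ψ q ∈ D'.Q := by
    intro q hq
    apply hQ'
    change BC.tmul (WittVector.map f : WittVector p S →+* WittVector p R) 1 (ψ q) ∈ DR'.Q
    rw [hψ]
    exact hχ.mapsTo _ (hmemQR q hq)
  have hhom : IsHom D D' ψ := by
    refine ⟨hmaps, ?_, ?_⟩
    · intro x
      apply hinj'
      have h1 := hDR.F_tmul 1 x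
      have h2 := hDR'.F_tmul 1 (ψ x)
      rw [map_one] at h1 h2
      rw [hψ, ← h1, hχ.comm_F, ← hψ, h2]
    · intro q
      apply hinj'
      have h1 := hDR.Vinv_tmul 1 q (hmemQR q q.2)
      have h2 := hDR'.Vinv_tmul 1 ⟨ψ q, hmaps q q.2⟩ (hmemQR' _ (hmaps q q.2))
      rw [map_one] at h1 h2
      rw [hψ, ← h1, hχ.comm_Vinv, ← h2]
      congr 1
      exact Subtype.ext (hψ q).symm
  refine ⟨ψ, ⟨hhom, hmapψ⟩, ?_⟩
  rintro ψ' ⟨_, hψ'⟩
  ext x
  apply hinj'
  rw [hψ, ← hψ', BC.map_tmul]

end Descent

end Groth.Agent.Lib.Helper16.ZW
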